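import Mathlib
import Cfsg.Prelude.Def_CaseTheorems

set_option autoImplicit false

namespace Cfsg.Agent.Lib.Helper6

open Cfsg

variable {G : Type*} [Group G]

theorem coprime_card_sup_of_normal {p : ℕ} [Finite G] {A B : Subgroup G} [B.Normal]
    (hA : (Nat.card A).Coprime p) (hB : (Nat.card B).Coprime p) :
    (Nat.card (A ⊔ B : Subgroup G)).Coprime p := by
  have h1 : B.relIndex (A ⊔ B) * Nat.card B = Nat.card (A ⊔ B : Subgroup G) := by
    have := Subgroup.relIndex_mul_relIndex (⊥ : Subgroup G) B (A ⊔ B) bot_le le_sup_right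
    rw [Subgroup.relIndex_bot_left, Subgroup.relIndex_bot_left] at this
    rw [mul_comm]; exact this
  rw [Subgroup.relIndex_sup_right] at h1
  rw [← h1]
  exact Nat.Coprime.mul_left (Nat.Coprime.coprime_dvd_left (Subgroup.relIndex_dvd_card B A) hA) hB

theorem pPrimeCore_mem_set (p : ℕ) [Finite G] :
    (pPrimeCore p G).Normal ∧ (Nat.card (pPrimeCore p G)).Coprime p := by
  set 𝒞 : Set (Subgroup G) := {N : Subgroup G | N.Normal ∧ (Nat.card N).Coprime p} with h𝒞
  have hne : 𝒞.Nonempty := ⟨⊥, inferInstance, by simp⟩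
  obtain ⟨M, hM⟩ := (Set.toFinite 𝒞).exists_maximal hne
  have hMmem : M ∈ 𝒞 := hM.prop
  have hle : ∀ N ∈ 𝒞, N ≤ M := by
    intro N hN
    have : N.Normal := hN.1
    have : M.Normal := hMmem.1
    have h1 : M ⊔ N ∈ 𝒞 := ⟨inferInstance, coprime_card_sup_of_normal hMmem.2 hN.2⟩
    have h2 : M ⊔ N ≤ M := hM.le_of_ge h1 le_sup_left
    exact le_sup_right.trans h2
  have hEq : pPrimeCore p G = M := by
    unfold pPrimeCore
    exact le_antisymm (sSup_le hle) (le_sSup hMmem)
  rw [hEq]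
  exact hMmem

theorem pPrimeCore_coprime (p : ℕ) [Finite G] : (Nat.card (pPrimeCore p G)).Coprime p :=
  (pPrimeCore_mem_set p).2

theorem le_pPrimeCore {p : ℕ} {N : Subgroup G} (hN : N.Normal) (hc : (Nat.card N).Coprime p) :
    N ≤ pPrimeCore p G := le_sSup ⟨hN, hc⟩

/-- an element of `p`-power order of a group of order prime to `p` is trivial -/
theorem eq_one_of_pElement_of_coprime_card {p : ℕ} [Fact p.Prime] [Finite G] {K : Subgroup G}
    (hK : (Nat.card K).Coprime p) {x : G} (hxK : x ∈ K) (hx : ∃ k : ℕ, orderOf x = p ^ k) :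
    x = 1 := by
  obtain ⟨k, hk⟩ := hx
  have h1 : orderOf x ∣ Nat.card K := by
    have := orderOf_dvd_natCard (⟨x, hxK⟩ : K)
    rwa [Subgroup.orderOf_mk] at this
  have h2 : (orderOf x).Coprime (orderOf x) := by
    apply Nat.Coprime.coprime_dvd_left h1
    rw [hk]
    exact Nat.Coprime.pow_right k hK
  rw [Nat.coprime_self] at h2
  exact orderOf_eq_one_iff.mp h2

theorem isPGroup_inf_coprime_eq_bot {p : ℕ} [Fact p.Prime] [Finite G] {K R : Subgroup G}
    (hK : (Nat.card K).Coprime p) (hR : IsPGroup p R) : R ⊓ K = ⊥ := by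
  rw [Subgroup.eq_bot_iff_forall]
  intro x hx
  obtain ⟨hxR, hxK⟩ := Subgroup.mem_inf.mp hx
  obtain ⟨k, hk⟩ := IsPGroup.iff_orderOf.mp hR ⟨x, hxR⟩
  rw [Subgroup.orderOf_mk] at hk
  exact eq_one_of_pElement_of_coprime_card hK hxK ⟨k, hk⟩

end Cfsg.Agent.Lib.Helper6
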