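import Mathlib

set_option autoImplicit false

namespace Cfsg.Agent.Lib.Helper6

variable {G : Type*} [Group G]

theorem mem_map_conj {S : Subgroup G} {g y : G} :
    y ∈ S.map (MulAut.conj g).toMonoidHom ↔ g⁻¹ * y * g ∈ S := by
  constructor
  · rintro ⟨x, hx, rfl⟩
    simpa [MulAut.conj_apply, mul_assoc] using hx
  · intro h
    exact ⟨g⁻¹ * y * g, h, by simp [MulAut.conj_apply, mul_assoc]⟩

theorem map_conj_map_conj (S : Subgroup G) (g h : G) :
    (S.map (MulAut.conj h).toMonoidHom).map (MulAut.conj g).toMonoidHom =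
      S.map (MulAut.conj (g * h)).toMonoidHom := by
  ext y
  simp only [mem_map_conj]
  have : h⁻¹ * (g⁻¹ * y * g) * h = (g * h)⁻¹ * y * (g * h) := by group
  rw [this]

theorem map_conj_one (S : Subgroup G) : S.map (MulAut.conj (1 : G)).toMonoidHom = S := by
  ext y; simp

theorem map_conj_le_iff {S T : Subgroup G} {g : G} :
    S.map (MulAut.conj g).toMonoidHom ≤ T ↔ S ≤ T.map (MulAut.conj g⁻¹).toMonoidHom := by
  constructor
  · intro h x hx
    rw [mem_map_conj]
    simp only [inv_inv]
    exact h ⟨x, hx, by simp [MulAut.conj_apply]⟩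
  · intro h y hy
    rw [mem_map_conj] at hy
    have := h hy
    rw [mem_map_conj] at this
    simpa [mul_assoc] using this

theorem map_conj_eq_self_of_mem_normalizer {S : Subgroup G} {g : G}
    (hg : g ∈ Subgroup.normalizer (S : Set G)) : S.map (MulAut.conj g).toMonoidHom = S := by
  ext y
  rw [mem_map_conj]
  have hg' : g⁻¹ ∈ Subgroup.normalizer (S : Set G) := Subgroup.inv_mem _ hg
  have := (Subgroup.mem_normalizer_iff.mp hg' y)
  simp only [inv_inv] at this
  exact this.symm

theorem mem_normalizer_of_map_conj_eq_self {S : Subgroup G} {g : G}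
    (h : S.map (MulAut.conj g).toMonoidHom = S) : g ∈ Subgroup.normalizer (S : Set G) := by
  rw [Subgroup.mem_normalizer_iff]
  intro y
  constructor
  · intro hy
    rw [← h]
    exact ⟨y, hy, by simp [MulAut.conj_apply]⟩
  · intro hy
    rw [← h, mem_map_conj] at hy
    simpa [mul_assoc] using hy

theorem mem_normalizer_iff_map_conj_eq_self {S : Subgroup G} {g : G} :
    g ∈ Subgroup.normalizer (S : Set G) ↔ S.map (MulAut.conj g).toMonoidHom = S :=
  ⟨map_conj_eq_self_of_mem_normalizer, mem_normalizer_of_map_conj_eq_self⟩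

theorem sylow_smul_eq_map_conj {p : ℕ} (P : Sylow p G) (g : G) :
    ((g • P : Sylow p G) : Subgroup G) = (P : Subgroup G).map (MulAut.conj g).toMonoidHom := by
  rw [Sylow.coe_subgroup_smul, Subgroup.pointwise_smul_def]
  rfl

/-- Every `p`-subgroup of a finite group is conjugate into a given Sylow `p`-subgroup. -/
theorem exists_map_conj_le_sylow {p : ℕ} [Fact p.Prime] [Finite G] (P : Sylow p G)
    {Q : Subgroup G} (hQ : IsPGroup p Q) : ∃ g : G, Q.map (MulAut.conj g).toMonoidHom ≤ P := by
  obtain ⟨R, hR⟩ := hQ.exists_le_sylow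
  obtain ⟨k, hk⟩ := MulAction.exists_smul_eq G P R
  refine ⟨k⁻¹, ?_⟩
  rw [map_conj_le_iff, inv_inv, ← sylow_smul_eq_map_conj, hk]
  exact hR

end Cfsg.Agent.Lib.Helper6
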