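import Mathlib
import Cfsg.Agent.Lib.Helper6.Conj

set_option autoImplicit false

namespace Cfsg.Agent.Lib.Helper6

variable {G : Type*} [Group G]

/-- conjugation by an element of the normalizer, as an automorphism of the subgroup -/
def normalizerConjEquiv (T : Subgroup G) (n : G) (hn : n ∈ Subgroup.normalizer (T : Set G)) :
    T ≃* T where
  toFun x := ⟨n * x * n⁻¹, (Subgroup.mem_normalizer_iff.mp hn x).mp x.2⟩
  invFun x := ⟨n⁻¹ * x * n, by
    have := (Subgroup.mem_normalizer_iff.mp (Subgroup.inv_mem _ hn) x).mp x.2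
    simpa using this⟩
  left_inv x := by ext; simp [mul_assoc]
  right_inv x := by ext; simp [mul_assoc]
  map_mul' x y := by ext; simp [mul_assoc]

@[simp] theorem normalizerConjEquiv_apply_coe (T : Subgroup G) (n : G)
    (hn : n ∈ Subgroup.normalizer (T : Set G)) (x : T) :
    ((normalizerConjEquiv T n hn x : T) : G) = n * x * n⁻¹ := rfl

/-- A characteristic subgroup of `T` is normalized by the normalizer of `T`. -/
theorem normalizer_le_normalizer_of_characteristic {T K : Subgroup G} (hKT : K ≤ T)
    (hchar : (K.subgroupOf T).Characteristic) :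
    Subgroup.normalizer (T : Set G) ≤ Subgroup.normalizer (K : Set G) := by
  intro n hn
  have key : ∀ (m : G) (hm : m ∈ Subgroup.normalizer (T : Set G)), ∀ x ∈ K, m * x * m⁻¹ ∈ K := by
    intro m hm x hx
    have h1 := hchar.fixed (normalizerConjEquiv T m hm)
    have hxT : (⟨x, hKT hx⟩ : T) ∈ K.subgroupOf T := by
      rw [Subgroup.mem_subgroupOf]; exact hx
    rw [← h1, Subgroup.mem_comap, Subgroup.mem_subgroupOf] at hxT
    simpa using hxT
  rw [Subgroup.mem_normalizer_iff]
  intro x
  constructor
  · exact key n hn x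
  · intro hx
    have := key n⁻¹ (Subgroup.inv_mem _ hn) _ hx
    simpa [mul_assoc] using this

end Cfsg.Agent.Lib.Helper6
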