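import Mathlib
import Cfsg.Agent.Lib.Helper6.Conj

set_option autoImplicit false

namespace Cfsg.Agent.Lib.Helper6

variable {G : Type*} [Group G]

theorem card_map_conj (S : Subgroup G) (g : G) :
    Nat.card (S.map (MulAut.conj g).toMonoidHom) = Nat.card S :=
  Subgroup.card_map_of_injective (MulAut.conj g).injective

theorem map_conj_eq_self_of_le [Finite G] {S : Subgroup G} {g : G}
    (h : S.map (MulAut.conj g).toMonoidHom ≤ S) : S.map (MulAut.conj g).toMonoidHom = S :=
  Subgroup.eq_of_le_of_card_ge h (card_map_conj S g).ge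

theorem mem_normalizer_of_map_conj_le [Finite G] {S : Subgroup G} {g : G}
    (h : S.map (MulAut.conj g).toMonoidHom ≤ S) : g ∈ Subgroup.normalizer (S : Set G) :=
  mem_normalizer_of_map_conj_eq_self (map_conj_eq_self_of_le h)

theorem mem_normalizer_of_forall_conj_mem [Finite G] {S : Subgroup G} {g : G}
    (h : ∀ s ∈ S, g * s * g⁻¹ ∈ S) : g ∈ Subgroup.normalizer (S : Set G) := by
  apply mem_normalizer_of_map_conj_le
  rintro _ ⟨s, hs, rfl⟩
  simpa [MulAut.conj_apply] using h s hs

end Cfsg.Agent.Lib.Helper6
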