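import Mathlib
import Cfsg.Prelude.Def_Amalgam

set_option autoImplicit false

namespace Cfsg.Agent.Lib.Helper6

open Cfsg

variable {G : Type*} [Group G]

theorem pCore_isPGroup (p : ℕ) : IsPGroup p (pCore p G) :=
  Sylow.sSup_of_normal _ (fun _ hH => hH.2) (fun _ hH => hH.1)

theorem le_pCore {p : ℕ} {N : Subgroup G} (hN : N.Normal) (hp : IsPGroup p N) :
    N ≤ pCore p G := le_sSup ⟨hN, hp⟩

theorem pCore_le_sylow {p : ℕ} (P : Sylow p G) : pCore p G ≤ P :=
  (pCore_isPGroup (G := G) p).le_sylow_of_normal P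

/-- image of the `p`-core under an isomorphism -/
theorem pCore_map_equiv {H : Type*} [Group H] (p : ℕ) (e : G ≃* H) :
    (pCore p G).map e.toMonoidHom = pCore p H := by
  apply le_antisymm
  · apply le_pCore
    · exact Subgroup.Normal.map inferInstance _ e.surjective
    · exact (pCore_isPGroup p).map _
  · have h1 : (pCore p H).map e.symm.toMonoidHom ≤ pCore p G := by
      apply le_pCore
      · exact Subgroup.Normal.map inferInstance _ e.symm.surjective
      · exact (pCore_isPGroup p).map _
    intro x hx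
    refine ⟨e.symm x, h1 ⟨x, hx, rfl⟩, by simp⟩

theorem pCoreOf_le {p : ℕ} (H : Subgroup G) : pCoreOf p H ≤ H := by
  unfold pCoreOf
  intro x hx
  obtain ⟨y, _, rfl⟩ := hx
  exact y.2

theorem pCoreOf_isPGroup (p : ℕ) (H : Subgroup G) : IsPGroup p (pCoreOf p H) := by
  unfold pCoreOf
  exact (pCore_isPGroup p).map _

/-- `O_p(H) ≤ S` for `S` (the image of) a Sylow `p`-subgroup of `H`. -/
theorem pCoreOf_le_sylow_map {p : ℕ} (H : Subgroup G) (S : Sylow p H) :
    pCoreOf p H ≤ (S : Subgroup H).map H.subtype := by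
  unfold pCoreOf
  exact Subgroup.map_mono (pCore_le_sylow S)

/-- conjugation transports `pCoreOf` -/
theorem pCoreOf_map_conj (p : ℕ) (H : Subgroup G) (g : G) :
    (pCoreOf p H).map (MulAut.conj g).toMonoidHom = pCoreOf p (H.map (MulAut.conj g).toMonoidHom) := by
  unfold pCoreOf
  let e : H ≃* (H.map (MulAut.conj g).toMonoidHom) :=
    (MulAut.conj g).subgroupMap H
  rw [← pCore_map_equiv p e]
  rw [Subgroup.map_map, Subgroup.map_map]
  congr 1

/-- If `A ≤ B` are subgroups, `B` finite, and the Sylow `p`-subgroups of `A` have the order of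
those of `B`, then `O_p(B)` lies in (the image of) every Sylow `p`-subgroup of `A`. -/
theorem pCoreOf_le_of_sylow_card {p : ℕ} [Fact p.Prime] (A B : Subgroup G) (hAB : A ≤ B) [Finite B]
    (S : Sylow p A) (hcard : ∀ P : Sylow p B, Nat.card S = Nat.card P) :
    pCoreOf p B ≤ (S : Subgroup A).map A.subtype := by
  -- S'' : the image of S inside B
  set S'' : Subgroup B := (S : Subgroup A).map (Subgroup.inclusion hAB) with hS''
  have hp'' : IsPGroup p S'' := S.isPGroup'.map _
  obtain ⟨P, hP⟩ := hp''.exists_le_sylow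
  have hc : Nat.card S'' = Nat.card S := by
    rw [hS'']
    exact Nat.card_congr
      ((S : Subgroup A).equivMapOfInjective _ (Subgroup.inclusion_injective hAB)).symm.toEquiv
  have heq : S'' = (P : Subgroup B) := by
    apply Subgroup.eq_of_le_of_card_ge hP
    rw [hc, hcard P]
  have h1 : pCoreOf p B ≤ (P : Subgroup B).map B.subtype := pCoreOf_le_sylow_map B P
  rw [← heq, hS'', Subgroup.map_map] at h1
  have : B.subtype.comp (Subgroup.inclusion hAB) = A.subtype := by
    ext x; rfl
  rwa [this] at h1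

end Cfsg.Agent.Lib.Helper6
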