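import Mathlib
import Cfsg.Prelude.Def_LocalStructure
import Cfsg.Prelude.Def_CaseTheorems
import Cfsg.Agent.Lib.Helper6.PCore

set_option autoImplicit false

namespace Cfsg.Agent.Lib.Helper6

open Cfsg

variable {G : Type*} [Group G]

theorem mem_pResidual_of_coprime' {p : ℕ} {g : G} (h : Nat.Coprime (orderOf g) p) :
    g ∈ pResidual p G :=
  Subgroup.subset_closure h

theorem pResidual_map_le {H : Type*} [Group H] (p : ℕ) (f : G →* H) :
    (pResidual p G).map f ≤ pResidual p H := by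
  unfold pResidual
  rw [MonoidHom.map_closure]
  apply Subgroup.closure_mono
  rintro _ ⟨g, hg, rfl⟩
  exact Nat.Coprime.coprime_dvd_left (orderOf_map_dvd f g) hg

instance pResidual_characteristic (p : ℕ) : (pResidual p G).Characteristic := by
  rw [Subgroup.characteristic_iff_map_le]
  intro φ
  exact pResidual_map_le p φ.toMonoidHom

instance pResidual_normal' (p : ℕ) : (pResidual p G).Normal := inferInstance

/-- A `p'`-element whose image in a `p`-group quotient is trivial. -/
theorem mem_of_coprime_of_isPGroup_quotient {p : ℕ} (N : Subgroup G) [N.Normal]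
    (h : IsPGroup p (G ⧸ N)) {g : G} (hg : Nat.Coprime (orderOf g) p) : g ∈ N := by
  obtain ⟨k, hk⟩ := h (QuotientGroup.mk g)
  have h1 : orderOf (QuotientGroup.mk g : G ⧸ N) ∣ p ^ k := orderOf_dvd_of_pow_eq_one hk
  have h2 : orderOf (QuotientGroup.mk g : G ⧸ N) ∣ orderOf g :=
    orderOf_map_dvd (QuotientGroup.mk' N) g
  have h3 : orderOf (QuotientGroup.mk g : G ⧸ N) = 1 := by
    have : Nat.Coprime (orderOf g) (p ^ k) := Nat.Coprime.pow_right k hg
    exact Nat.eq_one_of_dvd_coprimes this h2 h1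
  rw [orderOf_eq_one_iff] at h3
  exact (QuotientGroup.eq_one_iff g).mp h3

theorem pResidual_le_of_isPGroup_quotient {p : ℕ} (N : Subgroup G) [N.Normal]
    (h : IsPGroup p (G ⧸ N)) : pResidual p G ≤ N := by
  unfold pResidual
  rw [Subgroup.closure_le]
  intro g hg
  exact mem_of_coprime_of_isPGroup_quotient N h hg

theorem isPGroup_quotient_pResidual [Finite G] (p : ℕ) [hp : Fact p.Prime] :
    IsPGroup p (G ⧸ pResidual p G) := by
  intro x
  obtain ⟨g, rfl⟩ := QuotientGroup.mk_surjective x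
  -- orderOf g = p^a * m with m coprime to p
  have hpos : 0 < orderOf g := orderOf_pos g
  obtain ⟨a, m, hm, hn⟩ := Nat.exists_eq_pow_mul_and_not_dvd hpos.ne' p hp.out.ne_one
  refine ⟨a, ?_⟩
  have h1 : orderOf (g ^ p ^ a) = m := by
    rw [orderOf_pow' g (pow_ne_zero a hp.out.ne_zero), hn]
    have : Nat.gcd (p ^ a * m) (p ^ a) = p ^ a := Nat.gcd_eq_right (Dvd.intro _ rfl)
    rw [this]
    exact Nat.mul_div_cancel_left m (pow_pos hp.out.pos a)
  have h2 : g ^ p ^ a ∈ pResidual p G := by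
    apply mem_pResidual_of_coprime'
    rw [h1]
    exact ((Nat.Prime.coprime_iff_not_dvd hp.out).mpr hm).symm
  have : ((g ^ p ^ a : G) : G ⧸ pResidual p G) = 1 := (QuotientGroup.eq_one_iff _).mpr h2
  simpa using this

theorem pResidual_le_iff [Finite G] {p : ℕ} [Fact p.Prime] (N : Subgroup G) [N.Normal] :
    pResidual p G ≤ N ↔ IsPGroup p (G ⧸ N) := by
  constructor
  · intro h
    have := isPGroup_quotient_pResidual (G := G) p
    exact IsPGroup.of_surjective this (QuotientGroup.map _ _ (MonoidHom.id G) h)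
      (by
        intro x
        obtain ⟨g, rfl⟩ := QuotientGroup.mk_surjective x
        exact ⟨QuotientGroup.mk g, rfl⟩)
  · exact pResidual_le_of_isPGroup_quotient N

theorem pResidual_sup_sylow [Finite G] {p : ℕ} [Fact p.Prime] (P : Sylow p G) :
    pResidual p G ⊔ (P : Subgroup G) = ⊤ := by
  rw [← Subgroup.index_eq_one]
  have h1 : (pResidual p G ⊔ (P : Subgroup G)).index ∣ (pResidual p G).index :=
    Subgroup.index_dvd_of_le le_sup_left
  have h2 : (pResidual p G ⊔ (P : Subgroup G)).index ∣ (P : Subgroup G).index :=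
    Subgroup.index_dvd_of_le le_sup_right
  have h3 : ∃ k, (pResidual p G).index = p ^ k := by
    have := (isPGroup_quotient_pResidual (G := G) p)
    rw [Subgroup.index_eq_card]
    exact (IsPGroup.iff_card.mp this)
  obtain ⟨k, hk⟩ := h3
  have h4 : ¬ p ∣ (P : Subgroup G).index := P.not_dvd_index
  have hcop : Nat.Coprime (p ^ k) (P : Subgroup G).index :=
    Nat.Coprime.pow_left k ((Nat.Prime.coprime_iff_not_dvd Fact.out).mpr h4)
  rw [hk] at h1
  exact Nat.eq_one_of_dvd_coprimes hcop h1 h2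

theorem pResidual_map_of_surjective [Finite G] {H : Type*} [Group H] {p : ℕ} [Fact p.Prime]
    (f : G →* H) (hf : Function.Surjective f) :
    (pResidual p G).map f = pResidual p H := by
  apply le_antisymm (pResidual_map_le p f)
  haveI : Finite H := Finite.of_surjective f hf
  haveI : ((pResidual p G).map f).Normal := Subgroup.Normal.map inferInstance f hf
  apply pResidual_le_of_isPGroup_quotient
  -- H ⧸ map is a quotient of G ⧸ pResidual
  have hle : pResidual p G ≤ ((pResidual p G).map f).comap f := Subgroup.le_comap_map _ _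
  refine IsPGroup.of_surjective (isPGroup_quotient_pResidual (G := G) p)
    (QuotientGroup.map _ _ f hle) ?_
  intro x
  obtain ⟨h, rfl⟩ := QuotientGroup.mk_surjective x
  obtain ⟨g, rfl⟩ := hf h
  exact ⟨QuotientGroup.mk g, rfl⟩

/-- every `p'`-element of `O^p(G)` — `O^p(G)` is generated by `p'`-elements lying in any subgroup containing them. -/
theorem pResidual_le_of_forall {p : ℕ} (K : Subgroup G)
    (h : ∀ g : G, Nat.Coprime (orderOf g) p → g ∈ K) : pResidual p G ≤ K := by
  unfold pResidual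
  rw [Subgroup.closure_le]
  intro g hg
  exact h g hg

/-! ### `p`-closed groups -/

theorem isPClosed_of_normal_sylow [Finite G] {p : ℕ} [Fact p.Prime] (P : Sylow p G)
    (h : (P : Subgroup G).Normal) : IsPClosed p G := by
  intro Q
  haveI := Sylow.unique_of_normal P h
  have : Q = P := Subsingleton.elim _ _
  rw [this]; exact h

theorem isPClosed_iff_exists [Finite G] {p : ℕ} [Fact p.Prime] :
    IsPClosed p G ↔ ∃ P : Sylow p G, (P : Subgroup G).Normal := by
  constructor
  · intro h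
    obtain ⟨P⟩ : Nonempty (Sylow p G) := inferInstance
    exact ⟨P, h P⟩
  · rintro ⟨P, hP⟩
    exact isPClosed_of_normal_sylow P hP

theorem isPClosed_sylow_eq_pCore [Finite G] {p : ℕ} [Fact p.Prime] (h : IsPClosed p G)
    (P : Sylow p G) : (P : Subgroup G) = pCore p G := by
  apply le_antisymm
  · exact le_pCore (h P) P.isPGroup'
  · exact pCore_le_sylow P

theorem isPClosed_le_pCore_of_isPGroup [Finite G] {p : ℕ} [Fact p.Prime] (h : IsPClosed p G)
    {Q : Subgroup G} (hQ : IsPGroup p Q) : Q ≤ pCore p G := by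
  obtain ⟨P, hP⟩ := hQ.exists_le_sylow
  rw [← isPClosed_sylow_eq_pCore h P]
  exact hP

theorem isPClosed_iff_index_pCore [Finite G] {p : ℕ} [Fact p.Prime] :
    IsPClosed p G ↔ ¬ p ∣ (pCore p G).index := by
  constructor
  · intro h
    obtain ⟨P⟩ : Nonempty (Sylow p G) := inferInstance
    rw [← isPClosed_sylow_eq_pCore h P]
    exact P.not_dvd_index
  · intro h
    have hn : (pCore p G).Normal := inferInstance
    apply isPClosed_of_normal_sylow ((pCore_isPGroup (G := G) p).toSylow h)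
    rw [IsPGroup.toSylow_coe]; exact hn

theorem pCoreOf_normal_of_normal (p : ℕ) (N : Subgroup G) [hN : N.Normal] :
    (pCoreOf p N).Normal := by
  constructor
  intro n hn g
  have h1 : N.map (MulAut.conj g).toMonoidHom = N := by
    apply le_antisymm
    · rintro _ ⟨y, hy, rfl⟩
      exact hN.conj_mem y hy g
    · intro y hy
      refine ⟨g⁻¹ * y * g, ?_, ?_⟩
      · have := hN.conj_mem y hy g⁻¹
        simpa using this
      · simp [MulAut.conj_apply]; group
  have h2 := pCoreOf_map_conj p N g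
  rw [h1] at h2
  rw [← h2]
  exact ⟨n, hn, by simp [MulAut.conj_apply]⟩

theorem pCoreOf_le_pCore (p : ℕ) (N : Subgroup G) [hN : N.Normal] :
    pCoreOf p N ≤ pCore p G :=
  le_pCore (pCoreOf_normal_of_normal p N) (pCoreOf_isPGroup p N)

/-- A `p`-subgroup of a `p`-closed normal subgroup lies in `O_p(G)`. -/
theorem le_pCore_of_isPClosed_normal [Finite G] {p : ℕ} [Fact p.Prime] (N : Subgroup G)
    [hN : N.Normal] (hcl : IsPClosed p ↥N) {Q : Subgroup G} (hQN : Q ≤ N) (hQ : IsPGroup p Q) :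
    Q ≤ pCore p G := by
  have h1 : Q.subgroupOf N ≤ pCore p ↥N :=
    isPClosed_le_pCore_of_isPGroup hcl hQ.comap_subtype
  refine le_trans ?_ (pCoreOf_le_pCore p N)
  intro q hq
  exact ⟨⟨q, hQN hq⟩, h1 (by rw [Subgroup.mem_subgroupOf]; exact hq), rfl⟩

theorem isPClosed_of_sylow_le_pCore [Finite G] {p : ℕ} [Fact p.Prime] (T : Sylow p G)
    (h : (T : Subgroup G) ≤ pCore p G) : IsPClosed p G := by
  apply isPClosed_of_normal_sylow T
  have : (T : Subgroup G) = pCore p G := le_antisymm h (pCore_le_sylow T)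
  rw [this]; infer_instance

/-- In a group that is not `p`-closed, a normal subgroup containing a Sylow `p`-subgroup is not
`p`-closed. -/
theorem not_isPClosed_of_sylow_le [Finite G] {p : ℕ} [Fact p.Prime] (hG : ¬ IsPClosed p G)
    (N : Subgroup G) [N.Normal] (T : Sylow p G) (hT : (T : Subgroup G) ≤ N) :
    ¬ IsPClosed p ↥N := by
  intro hcl
  exact hG (isPClosed_of_sylow_le_pCore T (le_pCore_of_isPClosed_normal N hcl hT T.isPGroup'))

theorem isPGroup_quotient_of_sylow_sup_eq_top [Finite G] {p : ℕ} [Fact p.Prime] (N : Subgroup G)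
    [hN : N.Normal] (T : Subgroup G) (hTp : IsPGroup p T) (htop : T ⊔ N = ⊤) :
    IsPGroup p (G ⧸ N) := by
  intro x
  obtain ⟨g, rfl⟩ := QuotientGroup.mk_surjective x
  have hg : g ∈ T ⊔ N := by rw [htop]; trivial
  obtain ⟨t, ht, n, hn, rfl⟩ := Subgroup.mem_sup_of_normal_right.mp hg
  obtain ⟨k, hk⟩ := hTp ⟨t, ht⟩
  refine ⟨k, ?_⟩
  have h1 : ((t * n : G) : G ⧸ N) = (t : G ⧸ N) := by
    rw [QuotientGroup.mk_mul, (QuotientGroup.eq_one_iff n).mpr hn, mul_one]
  rw [h1, ← QuotientGroup.mk_pow]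
  have : t ^ p ^ k = 1 := by
    have := congrArg Subtype.val hk
    simpa using this
  rw [this]; rfl

/-- A `p'`-element of `N·Y` with `N` normal and `Y` a `p`-group lies in `N`. -/
theorem mem_of_coprime_of_mem_sup {p : ℕ} (N : Subgroup G) [N.Normal] {Y : Subgroup G}
    (hY : IsPGroup p Y) {g : G} (hg : Nat.Coprime (orderOf g) p) (hgNY : g ∈ N ⊔ Y) : g ∈ N := by
  obtain ⟨n, hn, y, hy, rfl⟩ := Subgroup.mem_sup_of_normal_left.mp hgNY
  obtain ⟨k, hk⟩ := hY ⟨y, hy⟩
  have hyk : y ^ p ^ k = 1 := by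
    have := congrArg Subtype.val hk
    simpa using this
  have h0 : ((n * y : G) : G ⧸ N) = (y : G ⧸ N) := by
    rw [QuotientGroup.mk_mul, (QuotientGroup.eq_one_iff n).mpr hn, one_mul]
  have h1 : orderOf ((n * y : G) : G ⧸ N) ∣ p ^ k := by
    apply orderOf_dvd_of_pow_eq_one
    rw [h0, ← QuotientGroup.mk_pow, hyk]; rfl
  have h2 : orderOf ((n * y : G) : G ⧸ N) ∣ orderOf (n * y) :=
    orderOf_map_dvd (QuotientGroup.mk' N) (n * y)
  have h3 : orderOf ((n * y : G) : G ⧸ N) = 1 := by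
    have : Nat.Coprime (orderOf (n * y)) (p ^ k) := Nat.Coprime.pow_right k hg
    exact Nat.eq_one_of_dvd_coprimes this h2 h1
  rw [orderOf_eq_one_iff] at h3
  exact (QuotientGroup.eq_one_iff _).mp h3

theorem isPClosed_iff_exists_normal [Finite G] {p : ℕ} [Fact p.Prime] :
    IsPClosed p G ↔ ∃ Q : Subgroup G, Q.Normal ∧ IsPGroup p Q ∧ ¬ p ∣ Q.index := by
  constructor
  · intro h
    obtain ⟨P⟩ : Nonempty (Sylow p G) := inferInstance
    exact ⟨P, h P, P.isPGroup', P.not_dvd_index⟩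
  · rintro ⟨Q, hQn, hQp, hQi⟩
    rw [isPClosed_iff_index_pCore]
    intro hdvd
    exact hQi (hdvd.trans (Subgroup.index_dvd_of_le (le_pCore hQn hQp)))

theorem isPClosed_of_surjective [Finite G] {p : ℕ} [Fact p.Prime] {B : Type*} [Group B]
    (f : G →* B) (hf : Function.Surjective f) (h : IsPClosed p G) : IsPClosed p B := by
  haveI : Finite B := Finite.of_surjective f hf
  rw [isPClosed_iff_exists_normal] at h ⊢
  obtain ⟨Q, hQn, hQp, hQi⟩ := h
  exact ⟨Q.map f, Subgroup.Normal.map hQn f hf, hQp.map f,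
    fun hdvd => hQi (hdvd.trans (Subgroup.index_map_dvd Q hf))⟩

theorem isPClosed_iff_of_surjective_of_ker_isPGroup [Finite G] {p : ℕ} [Fact p.Prime]
    {B : Type*} [Group B] (f : G →* B) (hf : Function.Surjective f) (hker : IsPGroup p f.ker) :
    IsPClosed p G ↔ IsPClosed p B := by
  haveI : Finite B := Finite.of_surjective f hf
  refine ⟨isPClosed_of_surjective f hf, ?_⟩
  intro h
  rw [isPClosed_iff_exists_normal] at h ⊢
  obtain ⟨Q, hQn, hQp, hQi⟩ := h
  refine ⟨Q.comap f, hQn.comap f, hQp.comap_of_ker_isPGroup f hker, ?_⟩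
  rw [Subgroup.index_comap_of_surjective Q hf]
  exact hQi

theorem isPClosed_quotient_iff [Finite G] {p : ℕ} [Fact p.Prime] (D : Subgroup G) [D.Normal]
    (hD : IsPGroup p D) : IsPClosed p G ↔ IsPClosed p (G ⧸ D) := by
  apply isPClosed_iff_of_surjective_of_ker_isPGroup (QuotientGroup.mk' D)
    (QuotientGroup.mk'_surjective D)
  rw [QuotientGroup.ker_mk']; exact hD

theorem isPClosed_map_mk_iff [Finite G] {p : ℕ} [Fact p.Prime] (D : Subgroup G) [D.Normal]
    (hD : IsPGroup p D) (N : Subgroup G) :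
    IsPClosed p ↥N ↔ IsPClosed p ↥(N.map (QuotientGroup.mk' D)) := by
  apply isPClosed_iff_of_surjective_of_ker_isPGroup ((QuotientGroup.mk' D).subgroupMap N)
    (MonoidHom.subgroupMap_surjective _ N)
  intro x
  have hx : ((x : ↥N) : G) ∈ D := by
    have h1 := x.2
    rw [MonoidHom.mem_ker] at h1
    have h2 := congrArg Subtype.val h1
    simp only [MonoidHom.subgroupMap_apply_coe, Subgroup.coe_one] at h2
    exact (QuotientGroup.eq_one_iff _).mp h2
  obtain ⟨k, hk⟩ := hD ⟨_, hx⟩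
  refine ⟨k, ?_⟩
  apply Subtype.ext
  apply Subtype.ext
  have := congrArg Subtype.val hk
  simpa using this

theorem isPClosed_comap_mk_iff [Finite G] {p : ℕ} [Fact p.Prime] (D : Subgroup G) [D.Normal]
    (hD : IsPGroup p D) (N : Subgroup (G ⧸ D)) :
    IsPClosed p ↥(N.comap (QuotientGroup.mk' D)) ↔ IsPClosed p ↥N := by
  have h := isPClosed_map_mk_iff D hD (N.comap (QuotientGroup.mk' D))
  have e : (N.comap (QuotientGroup.mk' D)).map (QuotientGroup.mk' D) = N :=
    Subgroup.map_comap_eq_self_of_surjective (QuotientGroup.mk'_surjective D) N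
  rw [e] at h
  exact h

theorem pCore_quotient_of_isPGroup {p : ℕ} (D : Subgroup G) [D.Normal]
    (hD : IsPGroup p D) : pCore p (G ⧸ D) = (pCore p G).map (QuotientGroup.mk' D) := by
  apply le_antisymm
  · have h1 : (pCore p (G ⧸ D)).comap (QuotientGroup.mk' D) ≤ pCore p G := by
      apply le_pCore
      · exact Subgroup.Normal.comap inferInstance _
      · apply (pCore_isPGroup (G := G ⧸ D) p).comap_of_ker_isPGroup
        rw [QuotientGroup.ker_mk']; exact hD
    rw [← Subgroup.map_comap_eq_self_of_surjective (QuotientGroup.mk'_surjective D)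
      (pCore p (G ⧸ D))]
    exact Subgroup.map_mono h1
  · apply le_pCore
    · exact Subgroup.Normal.map inferInstance _ (QuotientGroup.mk'_surjective D)
    · exact (pCore_isPGroup p).map _

theorem pResidual_le_of_le_sup {p : ℕ} (N : Subgroup G) [N.Normal] {D : Subgroup G}
    (hD : IsPGroup p D) (h : pResidual p G ≤ N ⊔ D) : pResidual p G ≤ N := by
  apply pResidual_le_of_forall
  intro g hg
  exact mem_of_coprime_of_mem_sup N hD hg (h (mem_pResidual_of_coprime' hg))

/-- every element of a finite group is a product of a `p`-element and a `p'`-element, both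
powers of the element -/
theorem exists_pPart_decomp_zpowers [Finite G] (p : ℕ) [hp : Fact p.Prime] (g : G) :
    ∃ u v : G, u ∈ Subgroup.zpowers g ∧ v ∈ Subgroup.zpowers g ∧ g = u * v ∧
      (∃ k : ℕ, u ^ p ^ k = 1) ∧ Nat.Coprime (orderOf v) p := by
  have hn : orderOf g ≠ 0 := (orderOf_pos g).ne'
  obtain ⟨k, m, hm, hkm⟩ := Nat.exists_eq_pow_mul_and_not_dvd hn p hp.out.one_lt.ne'
  have hcop : Nat.Coprime (p ^ k) m :=
    Nat.Coprime.pow_left k ((Nat.Prime.coprime_iff_not_dvd hp.out).mpr hm)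
  obtain ⟨a, b, hab⟩ := Nat.Coprime.isCoprime hcop
  refine ⟨g ^ (b * (m : ℤ)), g ^ (a * ((p ^ k : ℕ) : ℤ)), ⟨_, rfl⟩, ⟨_, rfl⟩, ?_, ⟨k, ?_⟩, ?_⟩
  · rw [← zpow_add, add_comm, hab, zpow_one]
  · rw [← zpow_natCast, ← zpow_mul]
    have : b * (m : ℤ) * ((p ^ k : ℕ) : ℤ) = b * ((orderOf g : ℕ) : ℤ) := by
      rw [hkm]; push_cast; ring
    rw [this, zpow_mul', zpow_natCast, pow_orderOf_eq_one, one_zpow]
  · have h1 : (g ^ (a * (p ^ k : ℕ) : ℤ)) ^ m = 1 := by
      rw [← zpow_natCast, ← zpow_mul]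
      have : a * ((p ^ k : ℕ) : ℤ) * (m : ℤ) = a * ((orderOf g : ℕ) : ℤ) := by
        rw [hkm]; push_cast; ring
      rw [this, zpow_mul', zpow_natCast, pow_orderOf_eq_one, one_zpow]
    have h2 : orderOf (g ^ (a * (p ^ k : ℕ) : ℤ)) ∣ m := orderOf_dvd_of_pow_eq_one h1
    exact Nat.Coprime.coprime_dvd_left h2 ((Nat.Prime.coprime_iff_not_dvd hp.out).mpr hm).symm

theorem isPGroup_zpowers_of_pow_eq_one {p : ℕ} {u : G} (hu : ∃ k : ℕ, u ^ p ^ k = 1) :
    IsPGroup p (Subgroup.zpowers u) := by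
  obtain ⟨k, hk⟩ := hu
  intro x
  obtain ⟨x, hx⟩ := x
  obtain ⟨n, rfl⟩ := Subgroup.mem_zpowers_iff.mp hx
  refine ⟨k, ?_⟩
  apply Subtype.ext
  simp only [Subgroup.coe_pow, Subgroup.coe_one]
  rw [← zpow_natCast, ← zpow_mul, mul_comm, zpow_mul, zpow_natCast, hk, one_zpow]

/-- a `p'`-element of `P` lies in `C` if `PC/C` is a `p`-group -/
theorem mem_of_coprime_of_isPGroup_map {p : ℕ} (P C : Subgroup G) [C.Normal]
    (hPC : IsPGroup p (P.map (QuotientGroup.mk' C))) {v : G} (hvP : v ∈ P)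
    (hvc : Nat.Coprime (orderOf v) p) : v ∈ C := by
  obtain ⟨k, hk⟩ := hPC ⟨QuotientGroup.mk' C v, ⟨v, hvP, rfl⟩⟩
  have hk' : (QuotientGroup.mk' C v) ^ p ^ k = 1 := by
    have := congrArg Subtype.val hk
    simpa using this
  have h1 : orderOf (QuotientGroup.mk' C v) ∣ p ^ k := orderOf_dvd_of_pow_eq_one hk'
  have h2 : orderOf (QuotientGroup.mk' C v) ∣ orderOf v := orderOf_map_dvd _ v
  have h3 : orderOf (QuotientGroup.mk' C v) = 1 :=
    Nat.eq_one_of_dvd_coprimes (Nat.Coprime.pow_right k hvc) h2 h1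
  rw [orderOf_eq_one_iff] at h3
  exact (QuotientGroup.eq_one_iff _).mp h3

/-- If `P` is a `p`-closed normal subgroup, `C` a normal subgroup with `O_p(G) ≤ C` and `PC/C`
a `p`-group, then `P ≤ C`. -/
theorem le_of_isPClosed_of_isPGroup_map [Finite G] {p : ℕ} [Fact p.Prime] (P C : Subgroup G)
    [P.Normal] [C.Normal] (hcl : IsPClosed p ↥P) (hOC : pCore p G ≤ C)
    (hPC : IsPGroup p (P.map (QuotientGroup.mk' C))) : P ≤ C := by
  intro x hx
  obtain ⟨u, v, hu, hv, rfl, hup, hvc⟩ := exists_pPart_decomp_zpowers p x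
  have huP : u ∈ P := (Subgroup.zpowers_le.mpr hx) hu
  have hvP : v ∈ P := (Subgroup.zpowers_le.mpr hx) hv
  apply C.mul_mem
  · have h1 : Subgroup.zpowers u ≤ pCore p G :=
      le_pCore_of_isPClosed_normal P hcl (Subgroup.zpowers_le.mpr huP)
        (isPGroup_zpowers_of_pow_eq_one hup)
    exact hOC (h1 (Subgroup.mem_zpowers u))
  · exact mem_of_coprime_of_isPGroup_map P C hPC hvP hvc

end Cfsg.Agent.Lib.Helper6
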