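import Mathlib
import Cfsg.Prelude.Def_LocalStructure
import Cfsg.Agent.Lib.Helper6.PRes
import Cfsg.Agent.Lib.Helper6.Conj2

set_option autoImplicit false

namespace Cfsg.Agent.Lib.Helper6

open Cfsg

variable {G : Type*} [Group G]

/-- `O^p(K)` as a subgroup of the ambient group. -/
def pResSub (p : ℕ) (K : Subgroup G) : Subgroup G :=
  Subgroup.closure {g : G | g ∈ K ∧ Nat.Coprime (orderOf g) p}

theorem pResSub_eq (p : ℕ) (K : Subgroup G) :
    (pResidual p ↥K).map K.subtype = pResSub p K := by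
  unfold pResidual pResSub
  rw [MonoidHom.map_closure]
  congr 1
  ext g
  constructor
  · rintro ⟨x, hx, rfl⟩
    refine ⟨x.2, ?_⟩
    have : orderOf ((K.subtype x : G)) = orderOf x := Subgroup.orderOf_coe x
    rw [this]; exact hx
  · rintro ⟨hgK, hg⟩
    refine ⟨⟨g, hgK⟩, ?_, rfl⟩
    have : orderOf ((⟨g, hgK⟩ : K) : G) = orderOf (⟨g, hgK⟩ : K) := Subgroup.orderOf_coe _
    show Nat.Coprime (orderOf (⟨g, hgK⟩ : K)) p
    rw [← this]; exact hg

theorem pResSub_le (p : ℕ) (K : Subgroup G) : pResSub p K ≤ K := by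
  unfold pResSub
  rw [Subgroup.closure_le]
  intro g hg; exact hg.1

theorem pResSub_mono (p : ℕ) {K L : Subgroup G} (h : K ≤ L) : pResSub p K ≤ pResSub p L := by
  unfold pResSub
  apply Subgroup.closure_mono
  intro g hg; exact ⟨h hg.1, hg.2⟩

theorem mem_pResSub {p : ℕ} {K : Subgroup G} {g : G} (hg : g ∈ K)
    (hc : Nat.Coprime (orderOf g) p) : g ∈ pResSub p K :=
  Subgroup.subset_closure ⟨hg, hc⟩

theorem pResSub_le_iff {p : ℕ} {K N : Subgroup G} :
    pResSub p K ≤ N ↔ ∀ g ∈ K, Nat.Coprime (orderOf g) p → g ∈ N := by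
  unfold pResSub
  rw [Subgroup.closure_le]
  constructor
  · intro h g hg hc; exact h ⟨hg, hc⟩
  · intro h g hg; exact h g hg.1 hg.2

theorem pResSub_map_conj (p : ℕ) (K : Subgroup G) (x : G) :
    (pResSub p K).map (MulAut.conj x).toMonoidHom =
      pResSub p (K.map (MulAut.conj x).toMonoidHom) := by
  unfold pResSub
  rw [MonoidHom.map_closure]
  congr 1
  ext g
  constructor
  · rintro ⟨y, hy, rfl⟩
    refine ⟨⟨y, hy.1, rfl⟩, ?_⟩
    have : orderOf ((MulAut.conj x).toMonoidHom y) = orderOf y :=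
      orderOf_injective _ (MulAut.conj x).injective y
    rw [this]; exact hy.2
  · rintro ⟨⟨y, hy, rfl⟩, hc⟩
    refine ⟨y, ⟨hy, ?_⟩, rfl⟩
    have : orderOf ((MulAut.conj x).toMonoidHom y) = orderOf y :=
      orderOf_injective _ (MulAut.conj x).injective y
    rw [← this]; exact hc

/-- If `y` normalizes `B`, then `(b * y)^n ∈ B * y^n`. -/
theorem pow_mul_mem_of_mem_normalizer {B : Subgroup G} {b y : G} (hb : b ∈ B)
    (hy : y ∈ Subgroup.normalizer (B : Set G)) (n : ℕ) : (b * y) ^ n * (y ^ n)⁻¹ ∈ B := by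
  induction n with
  | zero => simp [B.one_mem]
  | succ n ih =>
    have hyn : y ^ n ∈ Subgroup.normalizer (B : Set G) := Subgroup.pow_mem _ hy n
    have h1 : y ^ n * b * (y ^ n)⁻¹ ∈ B := (Subgroup.mem_normalizer_iff.mp hyn b).mp hb
    have e : (b * y) ^ (n + 1) * (y ^ (n + 1))⁻¹ =
        ((b * y) ^ n * (y ^ n)⁻¹) * (y ^ n * b * (y ^ n)⁻¹) := by
      rw [pow_succ, pow_succ]; group
    rw [e]
    exact B.mul_mem ih h1

/-- A `p'`-element `b * y` with `b ∈ B` and `y` a `p`-element normalizing `B` lies in `B`. -/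
theorem mem_of_coprime_of_mem_mul {p : ℕ} {B : Subgroup G} {b y : G} (hb : b ∈ B)
    (hy : y ∈ Subgroup.normalizer (B : Set G)) (hyp : ∃ k : ℕ, y ^ p ^ k = 1)
    (hg : Nat.Coprime (orderOf (b * y)) p) : b * y ∈ B := by
  obtain ⟨k, hk⟩ := hyp
  have h1 := pow_mul_mem_of_mem_normalizer hb hy (p ^ k)
  rw [hk, inv_one, mul_one] at h1
  have hc : Nat.Coprime (p ^ k) (orderOf (b * y)) := (Nat.Coprime.pow_right k hg).symm
  obtain ⟨m, hm⟩ := exists_pow_eq_self_of_coprime hc
  rw [← hm]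
  exact B.pow_mem h1 m

theorem pCoreOf_le_pCore_of_isSubnormal (p : ℕ) {K : Subgroup G} (hK : K.IsSubnormal) :
    pCoreOf p K ≤ pCore p G := by
  induction hK with
  | top =>
    rintro _ ⟨y, hy, rfl⟩
    have := pCore_map_equiv p (Subgroup.topEquiv (G := G))
    rw [← this]
    exact ⟨y, hy, rfl⟩
  | step H K hle _ hN ih =>
    refine le_trans ?_ ih
    -- O_p(H) is a normal p-subgroup of K
    have h1 : pCoreOf p (H.subgroupOf K) ≤ pCore p K :=
      pCoreOf_le_pCore p (H.subgroupOf K)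
    rintro _ ⟨y, hy, rfl⟩
    refine ⟨⟨(y : G), hle y.2⟩, h1 ?_, rfl⟩
    have h2 := pCore_map_equiv p (Subgroup.subgroupOfEquivOfLe hle).symm
    refine ⟨(Subgroup.subgroupOfEquivOfLe hle).symm y, ?_, ?_⟩
    · rw [← h2]; exact ⟨y, hy, rfl⟩
    · rfl

theorem le_pCore_of_isSubnormal_of_isPGroup {p : ℕ} {A : Subgroup G} (hA : A.IsSubnormal)
    (hAp : IsPGroup p A) : A ≤ pCore p G := by
  refine le_trans ?_ (pCoreOf_le_pCore_of_isSubnormal p hA)
  intro a ha
  have : (⊤ : Subgroup A) ≤ pCore p A := le_pCore inferInstance (by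
    intro x
    obtain ⟨k, hk⟩ := hAp x.1
    exact ⟨k, Subtype.ext (by simpa using hk)⟩)
  exact ⟨⟨a, ha⟩, this trivial, rfl⟩

/-- Let `P` be a normal `p`-subgroup and `B` a subnormal subgroup with `B = O^p(B)`. Then `P`
normalizes `B` and every `p'`-element of `PB` lies in `B`. -/
theorem normalizes_of_subnormal_pRes [Finite G] {p : ℕ} (P B : Subgroup G) [hPn : P.Normal]
    (hP : IsPGroup p P) (hB : B.IsSubnormal) (hBres : pResSub p B = B) :
    P ≤ Subgroup.normalizer (B : Set G) ∧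
      ∀ y ∈ P ⊔ B, Nat.Coprime (orderOf y) p → y ∈ B := by
  obtain ⟨n, f, hmono, hnorm, hf0, hfn⟩ := hB.exists_chain
  have key : ∀ i, B ≤ f i ∧ f i ⊓ (P ⊔ B) ≤ Subgroup.normalizer (B : Set G) ∧
      ∀ y ∈ f i ⊓ (P ⊔ B), Nat.Coprime (orderOf y) p → y ∈ B := by
    intro i
    induction i with
    | zero =>
      rw [hf0]
      exact ⟨le_rfl, inf_le_left.trans Subgroup.le_normalizer, fun y hy _ => hy.1⟩
    | succ i ih =>
      obtain ⟨hBi, hNi, hci⟩ := ih
      have hBi1 : B ≤ f (i + 1) := hBi.trans (hmono (Nat.le_succ i))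
      have hres : pResSub p (f i ⊓ (P ⊔ B)) = B := by
        apply le_antisymm
        · rw [pResSub_le_iff]; exact hci
        · have h := pResSub_mono p (le_inf hBi (le_sup_right : B ≤ P ⊔ B))
          rw [hBres] at h
          exact h
      have hN1 : f (i + 1) ⊓ (P ⊔ B) ≤ Subgroup.normalizer (B : Set G) := by
        intro x hx
        apply mem_normalizer_of_map_conj_le
        -- x normalizes f i ⊓ (P ⊔ B)
        have hx1 : (f i ⊓ (P ⊔ B)).map (MulAut.conj x).toMonoidHom ≤ f i ⊓ (P ⊔ B) := by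
          rintro _ ⟨z, hz, rfl⟩
          refine ⟨?_, ?_⟩
          · have hzi1 : z ∈ f (i + 1) := hmono (Nat.le_succ i) hz.1
            have := (hnorm i).conj_mem ⟨z, hzi1⟩ (by rw [Subgroup.mem_subgroupOf]; exact hz.1)
              ⟨x, hx.1⟩
            rw [Subgroup.mem_subgroupOf] at this
            simpa using this
          · simp only [MulEquiv.coe_toMonoidHom, MulAut.conj_apply]
            exact Subgroup.mul_mem _ (Subgroup.mul_mem _ hx.2 hz.2) (Subgroup.inv_mem _ hx.2)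
        have := pResSub_mono p hx1
        rw [← pResSub_map_conj, hres] at this
        exact this
      refine ⟨hBi1, hN1, ?_⟩
      intro y hy hyc
      have hy' : y ∈ B ⊔ P := by rw [sup_comm]; exact hy.2
      obtain ⟨b, hb, u, hu, rfl⟩ := Subgroup.mem_sup_of_normal_right.mp hy'
      have hu1 : u ∈ f (i + 1) ⊓ (P ⊔ B) := by
        refine ⟨?_, Subgroup.mem_sup_left hu⟩
        have : u = b⁻¹ * (b * u) := by group
        rw [this]
        exact Subgroup.mul_mem _ (Subgroup.inv_mem _ (hBi1 hb)) hy.1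
      apply mem_of_coprime_of_mem_mul hb (hN1 hu1) _ hyc
      obtain ⟨k, hk⟩ := hP ⟨u, hu⟩
      exact ⟨k, by simpa using congrArg Subtype.val hk⟩
  obtain ⟨_, hN, hc⟩ := key n
  rw [hfn, top_inf_eq] at hN hc
  exact ⟨le_sup_left.trans hN, hc⟩

end Cfsg.Agent.Lib.Helper6
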