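import Mathlib
import Cfsg.Prelude.Def_Blocks

set_option autoImplicit false

namespace Cfsg.Agent.Lib.Helper6

open Cfsg

namespace D1A

/-- An integer vector of squared norm `2` orthogonal to a positive vector is `e_a - e_b`. -/
theorem norm_two {X : Type*} [Fintype X] [DecidableEq X] (f : X → ℤ) (deg : X → ℤ)
    (hdeg : ∀ x, 0 < deg x) (horth : ∑ x, deg x * f x = 0) (hn : ∑ x, f x * f x = 2) :
    ∃ a b, a ≠ b ∧ ∀ x, f x = (if x = a then 1 else 0) - (if x = b then 1 else 0) := by
  classical
  have hne : ∃ x, f x ≠ 0 := by
    by_contra h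
    push Not at h
    simp [h] at hn
  have hpos : ∃ a, 0 < f a := by
    by_contra h
    push Not at h
    have h1 : ∀ x ∈ Finset.univ, deg x * f x = 0 := by
      apply (Finset.sum_eq_zero_iff_of_nonpos ?_).1 horth
      intro x _
      exact mul_nonpos_of_nonneg_of_nonpos (hdeg x).le (h x)
    obtain ⟨x, hx⟩ := hne
    have := h1 x (Finset.mem_univ x)
    rcases mul_eq_zero.1 this with h2 | h2
    · exact absurd h2 (hdeg x).ne'
    · exact hx h2
  have hneg : ∃ b, f b < 0 := by
    by_contra h
    push Not at h
    have h1 : ∀ x ∈ Finset.univ, deg x * f x = 0 := by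
      apply (Finset.sum_eq_zero_iff_of_nonneg ?_).1 horth
      intro x _
      exact mul_nonneg (hdeg x).le (h x)
    obtain ⟨x, hx⟩ := hne
    have := h1 x (Finset.mem_univ x)
    rcases mul_eq_zero.1 this with h2 | h2
    · exact absurd h2 (hdeg x).ne'
    · exact hx h2
  obtain ⟨a, ha⟩ := hpos
  obtain ⟨b, hb⟩ := hneg
  have hab : a ≠ b := by
    rintro rfl
    omega
  -- split the sum
  have hsplit : ∑ x, f x * f x = f a * f a + f b * f b +
      ∑ x ∈ (Finset.univ.erase a).erase b, f x * f x := by
    rw [← Finset.add_sum_erase Finset.univ _ (Finset.mem_univ a),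
      ← Finset.add_sum_erase (Finset.univ.erase a) _
        (Finset.mem_erase.2 ⟨hab.symm, Finset.mem_univ b⟩)]
    ring
  have hrest_nonneg : ∀ x ∈ (Finset.univ.erase a).erase b, 0 ≤ f x * f x :=
    fun x _ => mul_self_nonneg _
  have hrest : 0 ≤ ∑ x ∈ (Finset.univ.erase a).erase b, f x * f x :=
    Finset.sum_nonneg hrest_nonneg
  have ha1 : 1 ≤ f a * f a := by nlinarith
  have hb1 : 1 ≤ f b * f b := by nlinarith
  have hrest0 : ∑ x ∈ (Finset.univ.erase a).erase b, f x * f x = 0 := by linarith
  have hfa : f a = 1 := by nlinarith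
  have hfb : f b = -1 := by nlinarith
  have hzero : ∀ x, x ≠ a → x ≠ b → f x = 0 := by
    intro x hxa hxb
    have hx : x ∈ (Finset.univ.erase a).erase b :=
      Finset.mem_erase.2 ⟨hxb, Finset.mem_erase.2 ⟨hxa, Finset.mem_univ x⟩⟩
    have := (Finset.sum_eq_zero_iff_of_nonneg hrest_nonneg).1 hrest0 x hx
    exact mul_self_eq_zero.1 this
  refine ⟨a, b, hab, ?_⟩
  intro x
  by_cases hxa : x = a
  · subst hxa
    simp [hfa, hab]
  · by_cases hxb : x = b
    · subst hxb
      simp [hfb, hxa]
    · simp [hxa, hxb, hzero x hxa hxb]

/-- Expansion of the inner product of two vectors of the form `W + ε e_p`. -/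
theorem expand {X : Type*} [Fintype X] [DecidableEq X] (W : X → ℤ) (ε : ℤ) (p p' : X) :
    ∑ x, (W x + if x = p then ε else 0) * (W x + if x = p' then ε else 0) =
      ∑ x, W x * W x + ε * W p + ε * W p' + if p = p' then ε * ε else 0 := by
  classical
  have h1 : ∀ x, (W x + if x = p then ε else 0) * (W x + if x = p' then ε else 0) =
      W x * W x + (if x = p' then W x * ε else 0) + (if x = p then ε * W x else 0) +
        (if x = p then (if x = p' then ε * ε else 0) else 0) := by
    intro x
    split_ifs <;> ring
  simp_rw [h1]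
  rw [Finset.sum_add_distrib, Finset.sum_add_distrib, Finset.sum_add_distrib]
  rw [Finset.sum_ite_eq', Finset.sum_ite_eq', Finset.sum_ite_eq']
  simp only [Finset.mem_univ, if_true]
  ring

/-- The bound and the equality case, given a representation `V q = W + ε e_{a q}`. -/
theorem rep_bound {Q X : Type*} [Fintype Q] [DecidableEq Q] [Fintype X] [DecidableEq X]
    (e : ℕ) (V : Q → X → ℤ)
    (hgram : ∀ q q', ∑ x, V q x * V q' x = (e : ℤ) + if q = q' then 1 else 0)
    (hsupp : ∀ x, ∃ q, V q x ≠ 0) (hQ2 : 2 ≤ Fintype.card Q)
    (ε : ℤ) (hε : ε = 1 ∨ ε = -1) (W : X → ℤ) (a : Q → X) (ha : Function.Injective a)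
    (hV : ∀ q x, V q x = W x + if x = a q then ε else 0) :
    Fintype.card X ≤ e + Fintype.card Q ∧
    (Fintype.card X = e + Fintype.card Q →
      ∃ (ε : ℤ) (W : X → ℤ) (a : Q → X), (ε = 1 ∨ ε = -1) ∧ Function.Injective a ∧
        (∀ q x, V q x = W x + if x = a q then ε else 0) ∧ (∀ q, W (a q) = 0) ∧
        ∀ x, x ∉ Set.range a → (W x = 1 ∨ W x = -1)) := by
  classical
  have hεε : ε * ε = 1 := by rcases hε with h | h <;> simp [h]
  set N : ℤ := ∑ x, W x * W x with hN
  -- Gram relations
  have hG : ∀ q q', N + ε * W (a q) + ε * W (a q') + (if a q = a q' then ε * ε else 0) =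
      (e : ℤ) + if q = q' then 1 else 0 := by
    intro q q'
    rw [← hgram q q', hN, ← expand]
    apply Finset.sum_congr rfl
    intro x _
    rw [hV q x, hV q' x]
  have hGd : ∀ q, N + 2 * (ε * W (a q)) = e := by
    intro q
    have := hG q q
    simp only [if_true, hεε] at this
    linarith
  have hGo : ∀ q q', q ≠ q' → N + ε * W (a q) + ε * W (a q') = e := by
    intro q q' hqq
    have := hG q q'
    have hne : a q ≠ a q' := fun h => hqq (ha h)
    simp only [hne, hqq, if_false] at this
    linarith
  -- two distinct elements of Q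
  obtain ⟨q1, q2, hq12⟩ : ∃ q1 q2 : Q, q1 ≠ q2 := by
    have : 1 < Fintype.card Q := by omega
    exact Fintype.exists_pair_of_one_lt_card this
  -- constancy of W on range a
  obtain ⟨v, hv⟩ : ∃ v : ℤ, W (a q1) = v := ⟨_, rfl⟩
  have hconst : ∀ q, W (a q) = v := by
    intro q
    have h1 := hGd q
    have h2 := hGd q1
    have h3 : ε * W (a q) = ε * W (a q1) := by linarith
    have := congrArg (fun z => ε * z) h3
    simp only [← mul_assoc, hεε, one_mul] at this
    rw [this, hv]
  have hNv : N = e - 2 * (ε * v) := by
    have := hGd q1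
    rw [hv] at this
    linarith
  -- split N over the image of a
  set I : Finset X := Finset.univ.image a with hI
  have hIcard : I.card = Fintype.card Q := by
    rw [hI, Finset.card_image_of_injective _ ha, Finset.card_univ]
  have hsumI : ∑ x ∈ I, W x * W x = (Fintype.card Q : ℤ) * (v * v) := by
    rw [hI, Finset.sum_image (fun x _ y _ h => ha h)]
    rw [Finset.sum_congr rfl (fun q _ => by rw [hconst q])]
    simp [Finset.card_univ]
  have hsplit : N = ∑ x ∈ I, W x * W x + ∑ x ∈ Iᶜ, W x * W x := by
    rw [hN, Finset.sum_add_sum_compl]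
  have hcompl_ne : ∀ x ∈ Iᶜ, W x ≠ 0 := by
    intro x hx
    have hx' : ∀ q, x ≠ a q := by
      intro q h
      apply Finset.mem_compl.1 hx
      rw [hI]
      exact Finset.mem_image.2 ⟨q, Finset.mem_univ q, h.symm⟩
    obtain ⟨q, hq⟩ := hsupp x
    rw [hV q x] at hq
    simpa [hx' q] using hq
  have hcompl_ge : ∀ x ∈ Iᶜ, (1 : ℤ) ≤ W x * W x := by
    intro x hx
    have := hcompl_ne x hx
    have h1 : 0 < W x * W x := mul_self_pos.2 this
    omega
  have hcard_compl : (Iᶜ.card : ℤ) ≤ ∑ x ∈ Iᶜ, W x * W x := by
    have := Finset.sum_le_sum hcompl_ge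
    simpa using this
  have hcardX : (Fintype.card X : ℤ) = Fintype.card Q + Iᶜ.card := by
    have := Finset.card_add_card_compl I
    rw [hIcard] at this
    exact_mod_cast this.symm
  obtain ⟨t, ht⟩ : ∃ t : ℤ, (Fintype.card Q : ℤ) = t := ⟨_, rfl⟩
  rw [ht] at hsumI hcardX
  have ht2 : 2 ≤ t := by rw [← ht]; exact_mod_cast hQ2
  -- the key inequality
  have hkey : 0 ≤ (t - 2) * (v * v) + 2 * (v * (v + ε)) := by
    have h1 : 0 ≤ (t - 2) * (v * v) := mul_nonneg (by linarith) (mul_self_nonneg v)
    have h2 : 0 ≤ v * (v + ε) := by
      rcases hε with h | h <;> subst h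
      · nlinarith [mul_self_nonneg v, mul_self_nonneg (v + 1), mul_self_nonneg (2 * v + 1)]
      · nlinarith [mul_self_nonneg v, mul_self_nonneg (v - 1), mul_self_nonneg (2 * v - 1)]
    linarith
  have hkey2 : (t - 2) * (v * v) + 2 * (v * (v + ε)) = t * (v * v) + 2 * (ε * v) := by ring
  have hM : ∑ x ∈ Iᶜ, W x * W x = e - 2 * (ε * v) - t * (v * v) := by
    rw [hsplit, hsumI] at hNv
    linarith
  constructor
  · have : (Fintype.card X : ℤ) ≤ e + Fintype.card Q := by
      rw [hcardX, ht]
      linarith
    exact_mod_cast this
  · intro hEq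
    have hEq' : (Fintype.card X : ℤ) = e + t := by rw [← ht]; exact_mod_cast hEq
    -- all inequalities are equalities
    have hz : (t - 2) * (v * v) + 2 * (v * (v + ε)) = 0 := by
      rw [hcardX] at hEq'
      linarith
    have hMeq : ∑ x ∈ Iᶜ, W x * W x = Iᶜ.card := by
      rw [hcardX] at hEq'
      linarith
    have hone : ∀ x ∈ Iᶜ, W x * W x = 1 := by
      intro x hx
      have h0 : ∑ x ∈ Iᶜ, (W x * W x - 1) = 0 := by
        rw [Finset.sum_sub_distrib, hMeq]
        simp
      have := (Finset.sum_eq_zero_iff_of_nonneg
        (fun x hx => by have := hcompl_ge x hx; linarith)).1 h0 x hx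
      linarith
    have honepm : ∀ x, x ∉ Set.range a → (W x = 1 ∨ W x = -1) := by
      intro x hx
      have hxI : x ∈ Iᶜ := by
        rw [Finset.mem_compl, hI, Finset.mem_image]
        rintro ⟨q, _, h⟩
        exact hx ⟨q, h⟩
      have := hone x hxI
      have h2 : (W x - 1) * (W x + 1) = 0 := by ring_nf; linarith
      rcases mul_eq_zero.1 h2 with h | h
      · left; linarith
      · right; linarith
    have h1 : 0 ≤ (t - 2) * (v * v) := mul_nonneg (by linarith) (mul_self_nonneg v)
    have h2 : 0 ≤ v * (v + ε) := by
      rcases hε with h | h <;> subst h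
      · nlinarith [mul_self_nonneg v, mul_self_nonneg (v + 1), mul_self_nonneg (2 * v + 1)]
      · nlinarith [mul_self_nonneg v, mul_self_nonneg (v - 1), mul_self_nonneg (2 * v - 1)]
    have h3 : v * (v + ε) = 0 := by linarith
    have h4 : (t - 2) * (v * v) = 0 := by linarith
    rcases mul_eq_zero.1 h3 with hv0 | hvε
    · -- v = 0
      refine ⟨ε, W, a, hε, ha, hV, ?_, honepm⟩
      intro q
      rw [hconst q, hv0]
    · -- v = -ε, so t = 2
      have hvε' : v = -ε := by linarith
      have hvv : v * v = 1 := by rw [hvε']; ring_nf; nlinarith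
      have ht' : t = 2 := by
        rw [hvv] at h4
        linarith
      have hcQ : Fintype.card Q = 2 := by rw [← ht] at ht'; exact_mod_cast ht'
      have huniv : ∀ q, q = q1 ∨ q = q2 := by
        intro q
        by_contra h
        push Not at h
        have h3 : ({q, q1, q2} : Finset Q).card = 3 := by
          rw [Finset.card_insert_of_notMem, Finset.card_insert_of_notMem, Finset.card_singleton]
          · simpa using hq12
          · simp [h.1, h.2]
        have := Finset.card_le_univ ({q, q1, q2} : Finset Q)
        omega
      have ha12 : a q1 ≠ a q2 := fun h => hq12 (ha h)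
      refine ⟨-ε, fun x => W x + (if x = a q1 then ε else 0) + (if x = a q2 then ε else 0),
        fun q => if q = q1 then a q2 else a q1, ?_, ?_, ?_, ?_, ?_⟩
      · rcases hε with h | h <;> simp [h]
      · intro q q' h
        rcases huniv q with hq | hq <;> rcases huniv q' with hq' | hq' <;>
          subst hq <;> subst hq'
        · rfl
        · simp [hq12.symm] at h
          exact absurd h ha12.symm
        · simp [hq12.symm] at h
          exact absurd h ha12
        · rfl
      · intro q x
        rcases huniv q with hq | hq <;> subst hq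
        · rw [hV]
          simp only [if_true]
          split_ifs <;> ring
        · rw [hV]
          simp only [hq12.symm, if_false]
          split_ifs <;> ring
      · intro q
        rcases huniv q with hq | hq <;> subst hq
        · simp only [if_true, ha12.symm, if_false]
          rw [hconst q2, hvε']
          ring
        · simp only [hq12.symm, if_false, if_true, ha12]
          rw [hconst q1, hvε']
          ring
      · intro x hx
        have hxr : x ∉ Set.range a := by
          rintro ⟨q, rfl⟩
          apply hx
          rcases huniv q with hq | hq <;> subst hq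
          · exact ⟨q2, by simp [hq12.symm]⟩
          · exact ⟨q1, by simp⟩
        have hx1 : x ≠ a q1 := fun h => hxr ⟨q1, h.symm⟩
        have hx2 : x ≠ a q2 := fun h => hxr ⟨q2, h.symm⟩
        simp only [hx1, hx2, if_false, add_zero]
        exact honepm x hxr

/-- Inner product of two difference vectors `e_a - e_b`, `e_a' - e_b'`. -/
theorem inner_diff {X : Type*} [Fintype X] [DecidableEq X] (a b a' b' : X) :
    ∑ x : X, (((if x = a then 1 else 0) - (if x = b then 1 else 0) : ℤ)) *
      ((if x = a' then 1 else 0) - (if x = b' then 1 else 0)) =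
      (if a = a' then 1 else 0) - (if a = b' then 1 else 0) - (if b = a' then 1 else 0) +
        (if b = b' then 1 else 0) := by
  classical
  have h1 : ∀ x : X, (((if x = a then 1 else 0) - (if x = b then 1 else 0) : ℤ)) *
      ((if x = a' then 1 else 0) - (if x = b' then 1 else 0)) =
      (if x = a then (if x = a' then (1 : ℤ) else 0) else 0)
        - (if x = a then (if x = b' then (1 : ℤ) else 0) else 0)
        - (if x = b then (if x = a' then (1 : ℤ) else 0) else 0)
        + (if x = b then (if x = b' then (1 : ℤ) else 0) else 0) := by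
    intro x
    split_ifs <;> ring
  simp_rw [h1]
  rw [Finset.sum_add_distrib, Finset.sum_sub_distrib, Finset.sum_sub_distrib]
  rw [Finset.sum_ite_eq', Finset.sum_ite_eq', Finset.sum_ite_eq', Finset.sum_ite_eq']
  simp only [Finset.mem_univ, if_true]

/-- Existence of the representation when `Q` has at least two elements. -/
theorem exists_rep {Q X : Type*} [Fintype Q] [DecidableEq Q] [Fintype X] [DecidableEq X]
    (e : ℕ) (V : Q → X → ℤ) (deg : X → ℤ) (hdeg : ∀ x, 0 < deg x)
    (horth : ∀ q, ∑ x, deg x * V q x = 0)
    (hgram : ∀ q q', ∑ x, V q x * V q' x = (e : ℤ) + if q = q' then 1 else 0)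
    (q0 q1 : Q) (hq10 : q1 ≠ q0) :
    ∃ (ε : ℤ) (W : X → ℤ) (a : Q → X), (ε = 1 ∨ ε = -1) ∧ Function.Injective a ∧
      (∀ q x, V q x = W x + if x = a q then ε else 0) := by
  classical
  -- differences
  have hdiff : ∀ q, q ≠ q0 → ∃ a b, a ≠ b ∧
      ∀ x, V q x - V q0 x = (if x = a then 1 else 0) - (if x = b then 1 else 0) := by
    intro q hq
    apply norm_two (fun x => V q x - V q0 x) deg hdeg
    · have h1 := horth q
      have h2 := horth q0
      simp only [mul_sub, Finset.sum_sub_distrib, h1, h2, sub_zero]
    · have h1 := hgram q q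
      have h2 := hgram q q0
      have h3 := hgram q0 q
      have h4 := hgram q0 q0
      simp only [if_true, hq, hq.symm, if_false, add_zero] at h1 h2 h3 h4
      have : ∀ x, (V q x - V q0 x) * (V q x - V q0 x) =
          V q x * V q x - V q x * V q0 x - V q0 x * V q x + V q0 x * V q0 x := by
        intro x; ring
      simp only [this, Finset.sum_add_distrib, Finset.sum_sub_distrib, h1, h2, h3, h4]
      ring
  have : Nonempty X := by
    obtain ⟨a, _⟩ := hdiff q1 hq10
    exact ⟨a⟩
  choose! A B hAB using hdiff
  -- pairwise relation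
  have hpair : ∀ q q', q ≠ q0 → q' ≠ q0 → q ≠ q' →
      (A q = A q' ∧ B q ≠ B q') ∨ (B q = B q' ∧ A q ≠ A q') := by
    intro q q' hq hq' hqq'
    have hin : ∑ x, (V q x - V q0 x) * (V q' x - V q0 x) = 1 := by
      have h1 := hgram q q'
      have h2 := hgram q q0
      have h3 := hgram q0 q'
      have h4 := hgram q0 q0
      simp only [if_true, hq, hq'.symm, hqq', if_false, add_zero] at h1 h2 h3 h4
      have : ∀ x, (V q x - V q0 x) * (V q' x - V q0 x) =
          V q x * V q' x - V q x * V q0 x - V q0 x * V q' x + V q0 x * V q0 x := by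
        intro x; ring
      simp only [this, Finset.sum_add_distrib, Finset.sum_sub_distrib, h1, h2, h3, h4]
      ring
    have hin2 : (if A q = A q' then (1 : ℤ) else 0) - (if A q = B q' then 1 else 0)
        - (if B q = A q' then 1 else 0) + (if B q = B q' then 1 else 0) = 1 := by
      calc _ = ∑ x : X, (((if x = A q then 1 else 0) - (if x = B q then 1 else 0) : ℤ)) *
            ((if x = A q' then 1 else 0) - (if x = B q' then 1 else 0)) :=
              (inner_diff _ _ _ _).symm
        _ = ∑ x, (V q x - V q0 x) * (V q' x - V q0 x) := by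
              apply Finset.sum_congr rfl
              intro x _
              rw [(hAB q hq).2 x, (hAB q' hq').2 x]
        _ = 1 := hin
    have hne := (hAB q hq).1
    have hne' := (hAB q' hq').1
    by_cases h1 : A q = A q'
    · left
      refine ⟨h1, ?_⟩
      intro h2
      have h3 : A q ≠ B q' := by rw [h1]; exact hne'
      have h4 : B q ≠ A q' := by rw [← h1]; exact hne.symm
      rw [if_pos h1, if_neg h3, if_neg h4, if_pos h2] at hin2
      norm_num at hin2
    · right
      refine ⟨?_, h1⟩
      by_contra h2
      simp only [h1, h2, if_false] at hin2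
      split_ifs at hin2 <;> omega
  -- dichotomy
  by_cases hall : ∀ q, q ≠ q0 → A q = A q1
  · -- all share A; ε = -1
    refine ⟨-1, fun x => V q0 x + if x = A q1 then 1 else 0,
      fun q => if q = q0 then A q1 else B q, Or.inr rfl, ?_, ?_⟩
    · intro q q' h
      by_contra hqq'
      by_cases hq : q = q0
      · subst hq
        have hq' : q' ≠ q := fun h => hqq' h.symm
        simp only [if_true, hq', if_false] at h
        have := (hAB q' hq').1
        rw [hall q' hq'] at this
        exact this h
      · by_cases hq' : q' = q0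
        · subst hq'
          simp only [if_true, hq, if_false] at h
          have := (hAB q hq).1
          rw [hall q hq] at this
          exact this h.symm
        · simp only [hq, hq', if_false] at h
          rcases hpair q q' hq hq' hqq' with h1 | h1
          · exact h1.2 h
          · exact h1.2 (by rw [hall q hq, hall q' hq'])
    · intro q x
      by_cases hq : q = q0
      · subst hq
        simp only [if_true]
        split_ifs <;> ring
      · simp only [hq, if_false]
        have := (hAB q hq).2 x
        rw [hall q hq] at this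
        have h2 : V q x = V q0 x + ((if x = A q1 then 1 else 0) - (if x = B q then 1 else 0)) := by
          linarith
        rw [h2]
        split_ifs <;> ring
  · -- all share B; ε = 1
    push Not at hall
    obtain ⟨q2, hq2, hA2⟩ := hall
    have hq21 : q2 ≠ q1 := fun h => hA2 (by rw [h])
    have hB21 : B q2 = B q1 := by
      rcases hpair q2 q1 hq2 hq10 hq21 with h | h
      · exact absurd h.1 hA2
      · exact h.1
    have hallB : ∀ q, q ≠ q0 → B q = B q1 := by
      intro q hq
      by_cases h1 : q = q1
      · rw [h1]
      by_cases h2 : q = q2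
      · rw [h2, hB21]
      rcases hpair q q1 hq hq10 h1 with h | h
      · -- A q = A q1, B q ≠ B q1
        rcases hpair q q2 hq hq2 h2 with h' | h'
        · exact absurd (h'.1.symm.trans h.1) hA2
        · exact absurd (h'.1.trans hB21) h.2
      · exact h.1
    refine ⟨1, fun x => V q0 x - if x = B q1 then 1 else 0,
      fun q => if q = q0 then B q1 else A q, Or.inl rfl, ?_, ?_⟩
    · intro q q' h
      by_contra hqq'
      by_cases hq : q = q0
      · subst hq
        have hq' : q' ≠ q := fun h => hqq' h.symm
        simp only [if_true, hq', if_false] at h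
        have := (hAB q' hq').1
        rw [hallB q' hq'] at this
        exact this h.symm
      · by_cases hq' : q' = q0
        · subst hq'
          simp only [if_true, hq, if_false] at h
          have := (hAB q hq).1
          rw [hallB q hq] at this
          exact this h
        · simp only [hq, hq', if_false] at h
          rcases hpair q q' hq hq' hqq' with h1 | h1
          · exact h1.2 (by rw [hallB q hq, hallB q' hq'])
          · exact h1.2 h
    · intro q x
      by_cases hq : q = q0
      · subst hq
        simp only [if_true]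
        split_ifs <;> ring
      · simp only [hq, if_false]
        have := (hAB q hq).2 x
        rw [hallB q hq] at this
        have h2 : V q x = V q0 x + ((if x = A q then 1 else 0) - (if x = B q1 then 1 else 0)) := by
          linarith
        rw [h2]
        split_ifs <;> ring

end D1A

/-- (A) Root-lattice lemma for blocks of defect one. -/
theorem defectOne_lattice {Q X : Type*} [Fintype Q] [DecidableEq Q] [Fintype X] [DecidableEq X]
    (e : ℕ) (V : Q → X → ℤ) (deg : X → ℤ) (hdeg : ∀ x, 0 < deg x)
    (horth : ∀ q, ∑ x, deg x * V q x = 0)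
    (hgram : ∀ q q', ∑ x, V q x * V q' x = (e : ℤ) + if q = q' then 1 else 0)
    (hQ : Nonempty Q) (hsupp : ∀ x, ∃ q, V q x ≠ 0) :
    Fintype.card X ≤ e + Fintype.card Q ∧
    (Fintype.card X = e + Fintype.card Q →
      ∃ (ε : ℤ) (W : X → ℤ) (a : Q → X), (ε = 1 ∨ ε = -1) ∧ Function.Injective a ∧
        (∀ q x, V q x = W x + if x = a q then ε else 0) ∧ (∀ q, W (a q) = 0) ∧
        ∀ x, x ∉ Set.range a → (W x = 1 ∨ W x = -1)) := by
  classical
  obtain ⟨q0⟩ := hQ
  by_cases hone : ∀ q : Q, q = q0
  · -- `Q` has exactly one element
    have hcQ : Fintype.card Q = 1 := by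
      rw [Fintype.card_eq_one_iff]
      exact ⟨q0, hone⟩
    have hnz : ∀ x, V q0 x ≠ 0 := by
      intro x
      obtain ⟨q, hq⟩ := hsupp x
      rwa [hone q] at hq
    have hge : ∀ x ∈ (Finset.univ : Finset X), (1 : ℤ) ≤ V q0 x * V q0 x := by
      intro x _
      have h1 : 0 < V q0 x * V q0 x := mul_self_pos.2 (hnz x)
      omega
    have hnorm : ∑ x, V q0 x * V q0 x = (e : ℤ) + 1 := by
      have := hgram q0 q0
      simpa using this
    have hcard : (Fintype.card X : ℤ) ≤ ∑ x, V q0 x * V q0 x := by
      have := Finset.sum_le_sum hge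
      simpa using this
    constructor
    · have : (Fintype.card X : ℤ) ≤ e + 1 := by linarith
      rw [hcQ]
      exact_mod_cast this
    · intro hEq
      rw [hcQ] at hEq
      have hEq' : (Fintype.card X : ℤ) = e + 1 := by exact_mod_cast hEq
      have hsq : ∀ x, V q0 x * V q0 x = 1 := by
        intro x
        have h0 : ∑ x, (V q0 x * V q0 x - 1) = 0 := by
          rw [Finset.sum_sub_distrib, hnorm]
          simp [hEq']
        have := (Finset.sum_eq_zero_iff_of_nonneg
          (fun x hx => by have := hge x hx; linarith)).1 h0 x (Finset.mem_univ x)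
        linarith
      have hpm : ∀ x, V q0 x = 1 ∨ V q0 x = -1 := by
        intro x
        have h2 : (V q0 x - 1) * (V q0 x + 1) = 0 := by
          have := hsq x
          ring_nf
          linarith
        rcases mul_eq_zero.1 h2 with h | h
        · left; linarith
        · right; linarith
      have hXne : Nonempty X := by
        rw [← Fintype.card_pos_iff]
        omega
      obtain ⟨a0⟩ := hXne
      refine ⟨V q0 a0, fun x => if x = a0 then 0 else V q0 x, fun _ => a0, hpm a0, ?_, ?_, ?_, ?_⟩
      · intro q q' _
        rw [hone q, hone q']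
      · intro q x
        rw [hone q]
        by_cases hx : x = a0
        · subst hx
          simp
        · simp [hx]
      · intro q
        simp
      · intro x hx
        have hxa : x ≠ a0 := by
          intro h
          apply hx
          exact ⟨q0, h.symm⟩
        simp only [hxa, if_false]
        exact hpm x
  · -- `Q` has at least two elements
    push Not at hone
    obtain ⟨q1, hq1⟩ := hone
    have hQ2 : 2 ≤ Fintype.card Q := by
      have : 1 < Fintype.card Q := Fintype.one_lt_card_iff.2 ⟨q1, q0, hq1⟩
      omega
    obtain ⟨ε, W, a, hε, ha, hV⟩ := D1A.exists_rep e V deg hdeg horth hgram q0 q1 hq1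
    exact D1A.rep_bound e V hgram hsupp hQ2 ε hε W a ha hV

end Cfsg.Agent.Lib.Helper6
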