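import Mathlib
import Cfsg.Prelude.Def_Blocks
import Cfsg.Agent.Lib.Helper4.Gallagher
import Cfsg.Agent.Lib.Helper8.Deflation
import Cfsg.Agent.S0886

set_option autoImplicit false
open Cfsg

namespace Cfsg.Agent.Lib.Helper6

universe u

namespace D1B

open Cfsg.Agent.Lib.Helper1 Cfsg.Agent.Lib.Helper4 Cfsg.Agent.S0193 Cfsg.Agent.S0194
open scoped ComplexConjugate

section Abstract
variable {G : Type u} [Group G] [Fintype G] (H : Subgroup G) [hH : H.Normal]

omit [Fintype G] in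
theorem isCyclic_quot_subgroupOf (hcyc : IsCyclic (G ⧸ H)) (T : Subgroup G) :
    IsCyclic (T ⧸ H.subgroupOf T) := by
  have hle : H.subgroupOf T ≤ ((QuotientGroup.mk' H).comp T.subtype).ker := by
    intro t ht
    rw [MonoidHom.mem_ker, MonoidHom.comp_apply, QuotientGroup.mk'_apply, Subgroup.coe_subtype,
      QuotientGroup.eq_one_iff]
    exact Subgroup.mem_subgroupOf.mp ht
  let f : T ⧸ H.subgroupOf T →* G ⧸ H :=
    QuotientGroup.lift (H.subgroupOf T) ((QuotientGroup.mk' H).comp T.subtype) hle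
  apply isCyclic_of_injective f
  rw [injective_iff_map_eq_one]
  intro x hx
  induction x using QuotientGroup.induction_on with
  | H t =>
    have h1 : f (QuotientGroup.mk t) = QuotientGroup.mk (t : G) := rfl
    rw [h1, QuotientGroup.eq_one_iff] at hx
    rw [QuotientGroup.eq_one_iff]
    exact Subgroup.mem_subgroupOf.mpr hx

omit [Fintype G] in
theorem comm_mem_of_cyclic (hcyc : IsCyclic (G ⧸ H)) (x y : G) : x * y * x⁻¹ * y⁻¹ ∈ H := by
  rw [← QuotientGroup.eq_one_iff]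
  have hc : ∀ a b : G ⧸ H, a * b = b * a := by
    intro a b
    have := hcyc.isMulCommutative
    exact this.is_comm.comm a b
  rw [QuotientGroup.mk_mul, QuotientGroup.mk_mul, QuotientGroup.mk_mul, QuotientGroup.mk_inv,
    QuotientGroup.mk_inv, hc (QuotientGroup.mk x) (QuotientGroup.mk y)]
  group

/-- With `G/H` cyclic, `θ^G` is a multiplicity-free sum of `|T:H|` irreducible characters. -/
theorem induced_cyclic (hcyc : IsCyclic (G ⧸ H)) (θ : H → ℂ) (hθ : IsIrrCharacter H θ)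
    (T : Subgroup G) (hT : T = inertia H θ) :
    ∃ A : Finset (G → ℂ), (∀ χ ∈ A, IsIrrCharacter G χ) ∧ A.card * Nat.card H = Nat.card T ∧
      indFun H θ = ∑ χ ∈ A, χ := by
  classical
  have : Fintype T := Fintype.ofFinite T
  have hHT : H ≤ T := by rw [hT]; exact le_inertia H (isClassFunction_irr hθ)
  have hH'n : (H.subgroupOf T).Normal := inferInstance
  have : Fintype (H.subgroupOf T) := Fintype.ofFinite _
  have hθ'irr : IsIrrCharacter (H.subgroupOf T)
      (fun x : H.subgroupOf T => θ ⟨((x : T) : G), Subgroup.mem_subgroupOf.mp x.2⟩) :=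
    isIrrCharacter_comp_mulEquiv hθ (Subgroup.subgroupOfEquivOfLe hHT)
  have hfix := inertia_fix H θ T hT
  have hcycT : IsCyclic (T ⧸ H.subgroupOf T) := isCyclic_quot_subgroupOf H hcyc T
  have hab' : ∀ x y : T, x * y * x⁻¹ * y⁻¹ ∈ H.subgroupOf T := by
    intro x y
    rw [Subgroup.mem_subgroupOf]
    exact comm_mem_of_cyclic H hcyc x y
  obtain ⟨ψ₀, hψ₀, hψ₀res⟩ := Cfsg.Agent.S0886.result (H.subgroupOf T) hcycT _ hθ'irr hfix
  obtain ⟨e, he0, hgal⟩ := gallagher_abelian (H.subgroupOf T) hab' _ hθ'irr hfix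
  have he1 : e = 1 := by
    have hne : classInner (indFun (H.subgroupOf T)
        (fun x : H.subgroupOf T => θ ⟨((x : T) : G), Subgroup.mem_subgroupOf.mp x.2⟩)) ψ₀ ≠ 0 := by
      rw [Cfsg.Agent.S0146.result (H.subgroupOf T) _ ψ₀ (isClassFunction_irr hψ₀)]
      have h2 : (fun h : H.subgroupOf T => ψ₀ h)
          = (fun x : H.subgroupOf T => θ ⟨((x : T) : G), Subgroup.mem_subgroupOf.mp x.2⟩) :=
        funext hψ₀res
      rw [h2, classInner_irr_self hθ'irr]
      exact one_ne_zero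
    have h1 := (hgal ψ₀ hψ₀ hne).2 1
    rw [hψ₀res 1] at h1
    have h3 : θ ⟨(((1 : H.subgroupOf T) : T) : G), Subgroup.mem_subgroupOf.mp (1 : H.subgroupOf T).2⟩
        ≠ 0 := by
      have : (⟨(((1 : H.subgroupOf T) : T) : G),
          Subgroup.mem_subgroupOf.mp (1 : H.subgroupOf T).2⟩ : H) = 1 := rfl
      rw [this]
      exact irr_apply_one_ne_zero hθ
    have h4 : ((e : ℂ) - 1) * θ ⟨(((1 : H.subgroupOf T) : T) : G),
        Subgroup.mem_subgroupOf.mp (1 : H.subgroupOf T).2⟩ = 0 := by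
      linear_combination -h1
    rcases mul_eq_zero.1 h4 with h | h
    · have : (e : ℂ) = 1 := by linear_combination h
      exact_mod_cast this
    · exact absurd h h3
  subst he1
  obtain ⟨A, hA1, hA2, hA3, _⟩ := induced_inertia_of_uniform H θ hθ T hT 1 one_pos hgal
  refine ⟨A, hA1, ?_, ?_⟩
  · simpa using hA2
  · rw [hA3]; simp


/-- Version of `induced_cyclic` recording that each constituent lies over `θ`. -/
theorem exists_over_cyclic [Fintype H] (hcyc : IsCyclic (G ⧸ H)) (θ : H → ℂ)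
    (hθ : IsIrrCharacter H θ) (T : Subgroup G) (hT : T = inertia H θ) :
    ∃ A : Finset (G → ℂ), (∀ χ ∈ A, IsIrrCharacter G χ ∧
        classInner (fun n : H => χ n) θ ≠ 0) ∧ A.card * Nat.card H = Nat.card T := by
  classical
  obtain ⟨A, hA1, hA2, hA3⟩ := induced_cyclic H hcyc θ hθ T hT
  refine ⟨A, fun χ hχ => ⟨hA1 χ hχ, ?_⟩, hA2⟩
  have h1 : classInner (indFun H θ) χ = 1 := by
    rw [hA3, classInner_sum_left, Finset.sum_eq_single χ]
    · exact classInner_irr_self (hA1 χ hχ)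
    · intro χ' hχ' hne
      exact classInner_irr_ne (hA1 χ' hχ') (hA1 χ hχ) hne
    · intro h; exact absurd hχ h
  rw [Cfsg.Agent.S0146.result H θ χ (isClassFunction_irr (hA1 χ hχ))] at h1
  intro h0
  have h2 := classInner_conj_symm (fun n : H => χ n) θ
  rw [h0, h1] at h2
  simp at h2

/-- Two irreducible characters of `H` under the same irreducible character of `G` are conjugate. -/
theorem conj_of_common_over [Fintype H] (θ θ' : H → ℂ) (hθ : IsIrrCharacter H θ)
    (hθ' : IsIrrCharacter H θ') (χ : G → ℂ) (hχ : IsIrrCharacter G χ)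
    (h1 : classInner (fun n : H => χ n) θ ≠ 0) (h2 : classInner (fun n : H => χ n) θ' ≠ 0) :
    ∃ g : G, conjFun H θ' g = θ := by
  by_contra hne
  push Not at hne
  exact h2 (Cfsg.Agent.S0174.classInner_restrict_eq_zero H χ hχ θ θ' hθ hθ' h1 hne)

/-- An irreducible character of `G` over a character `θ` of `H` that is trivial on the normal
subgroup `Q ≤ H` of `G` is itself trivial on `Q`. -/
theorem trivial_on_of_over [Fintype H] (Q : Subgroup G) [hQ : Q.Normal] (hQH : Q ≤ H)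
    (θ : H → ℂ) (hθ : IsIrrCharacter H θ) (hθQ : ∀ q : H, (q : G) ∈ Q → θ q = θ 1)
    (χ : G → ℂ) (hχ : IsIrrCharacter G χ) (hc : classInner (fun n : H => χ n) θ ≠ 0) :
    ∀ q ∈ Q, χ q = χ 1 := by
  classical
  have : Fintype (IrrCharacter H) := Fintype.ofFinite _
  have hχN : IsCharacter H (fun n : H => χ n) :=
    Cfsg.Agent.S0148.isCharacter_restrict H (isCharacter_of_irr hχ)
  have hexp := class_function_expansion (fun n : H => χ n) (isClassFunction_of_isCharacter hχN)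
  have hφ : ∀ φ : IrrCharacter H, classInner (fun n : H => χ n) φ ≠ 0 →
      ∀ q : H, (q : G) ∈ Q → (φ : H → ℂ) q = (φ : H → ℂ) 1 := by
    intro φ hφ0 q hq
    obtain ⟨g, hg⟩ := conj_of_common_over H θ φ hθ φ.2 χ hχ hc hφ0
    -- θ h = φ (g h g⁻¹)
    have hmem : g⁻¹ * (q : G) * g ∈ Q := by
      have := hQ.conj_mem (q : G) hq g⁻¹
      rwa [inv_inv] at this
    have e1 := congrFun hg ⟨g⁻¹ * (q : G) * g, hQH hmem⟩
    have e2 := congrFun hg 1
    unfold conjFun at e1 e2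
    have e3 : (⟨g * ((⟨g⁻¹ * (q : G) * g, hQH hmem⟩ : H) : G) * g⁻¹,
        hH.conj_mem _ (hQH hmem) g⟩ : H) = q := by
      apply Subtype.ext
      simp only
      group
    have e4 : (⟨g * ((1 : H) : G) * g⁻¹, hH.conj_mem _ (1 : H).2 g⟩ : H) = 1 := by
      apply Subtype.ext
      simp
    rw [e3] at e1
    rw [e4] at e2
    rw [e1, e2]
    exact hθQ _ hmem
  intro q hq
  have hv : ∀ x : H, χ x = ∑ φ : IrrCharacter H,
      classInner (fun n : H => χ n) φ * (φ : H → ℂ) x := by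
    intro x
    have := congrFun hexp x
    simp only [Finset.sum_apply, Pi.smul_apply, smul_eq_mul] at this
    exact this
  have h1 := hv ⟨q, hQH hq⟩
  have h2 := hv 1
  simp only at h1
  rw [show ((1 : H) : G) = 1 from rfl] at h2
  rw [h1, h2]
  refine Finset.sum_congr rfl fun φ _ => ?_
  by_cases h0 : classInner (fun n : H => χ n) φ = 0
  · rw [h0, zero_mul, zero_mul]
  · rw [hφ φ h0 ⟨q, hQH hq⟩ hq]

omit [Fintype G] hH in
/-- Deflation count: irreducible characters trivial on `Q` inject into `Irr(G/Q)`. -/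
theorem card_le_irr_quot [Finite G] (Q : Subgroup G) [hQ : Q.Normal] (B : Finset (G → ℂ))
    (hB : ∀ χ ∈ B, IsIrrCharacter G χ ∧ ∀ q ∈ Q, χ q = χ 1) :
    B.card ≤ Nat.card (IrrCharacter (G ⧸ Q)) := by
  classical
  have : Fintype (IrrCharacter (G ⧸ Q)) := Fintype.ofFinite _
  have hex : ∀ χ : G → ℂ, χ ∈ B → ∃ ψ : IrrCharacter (G ⧸ Q),
      ∀ g : G, (ψ : G ⧸ Q → ℂ) (QuotientGroup.mk g) = χ g := by
    intro χ hχ
    obtain ⟨ψ, hψ, hψχ⟩ := Cfsg.Agent.Lib.Helper8.exists_deflation Q (hB χ hχ).1 (hB χ hχ).2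
    exact ⟨⟨ψ, hψ⟩, hψχ⟩
  choose f hf using hex
  rw [Nat.card_eq_fintype_card, ← Fintype.card_coe]
  apply Fintype.card_le_of_injective (fun x : B => f x.1 x.2)
  intro x y heq
  apply Subtype.ext
  funext g
  rw [← hf x.1 x.2 g, ← hf y.1 y.2 g]
  exact congrArg (fun ψ : IrrCharacter (G ⧸ Q) => (ψ : G ⧸ Q → ℂ) (QuotientGroup.mk g)) heq

end Abstract

end D1B


open Cfsg.Agent.Lib.Helper1 Cfsg.Agent.Lib.Helper4 Cfsg.Agent.S0193 Cfsg.Agent.S0194 in
theorem clifford_count_le {G : Type u} [Group G] [Fintype G] (P C N : Subgroup G)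
    (hPC : P ≤ C) (hCN : C ≤ N) [hCn : (C.subgroupOf N).Normal] [hPn : (P.subgroupOf N).Normal]
    (hcyc : IsCyclic (↥N ⧸ C.subgroupOf N))
    (S : Finset (IrrCharacter C))
    (hSP : ∀ θ ∈ S, ∀ c : C, (c : G) ∈ P → (θ : C → ℂ) c = (θ : C → ℂ) 1)
    (T : IrrCharacter C → Subgroup G)
    (hT : ∀ θ ∈ S, ∀ g : G, g ∈ T θ ↔ g ∈ N ∧ ∀ c c' : C, (c' : G) = g * c * g⁻¹ →
      (θ : C → ℂ) c' = (θ : C → ℂ) c)
    (hS : ∀ θ ∈ S, ∀ θ' ∈ S, ∀ g ∈ N, (∀ c c' : C, (c' : G) = g * c * g⁻¹ →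
      (θ' : C → ℂ) c' = (θ : C → ℂ) c) → θ' = θ) :
    ∑ θ ∈ S, C.relIndex (T θ) ≤ Nat.card (IrrCharacter (↥N ⧸ P.subgroupOf N)) := by
  classical
  have : Fintype N := Fintype.ofFinite N
  have : Fintype (C.subgroupOf N) := Fintype.ofFinite _
  have hQH : P.subgroupOf N ≤ C.subgroupOf N := fun x hx => hPC hx
  -- transport of characters of `C` to `C.subgroupOf N`
  have htr_irr : ∀ θ : IrrCharacter C, IsIrrCharacter (C.subgroupOf N)
      (fun x : C.subgroupOf N => (θ : C → ℂ) (Subgroup.subgroupOfEquivOfLe hCN x)) :=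
    fun θ => isIrrCharacter_comp_mulEquiv θ.2 (Subgroup.subgroupOfEquivOfLe hCN)
  -- the inertia group in `N` corresponds to `T θ`
  have hinert : ∀ θ ∈ S, inertia (C.subgroupOf N)
      (fun x : C.subgroupOf N => (θ : C → ℂ) (Subgroup.subgroupOfEquivOfLe hCN x))
        = (T θ).subgroupOf N := by
    intro θ hθS
    ext n
    rw [mem_inertia, Subgroup.mem_subgroupOf, hT θ hθS]
    constructor
    · intro h
      refine ⟨n.2, fun c c' hcc' => ?_⟩
      have h1 := congrFun h ⟨⟨(c : G), hCN c.2⟩, c.2⟩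
      unfold conjFun at h1
      have h2 : (Subgroup.subgroupOfEquivOfLe hCN
          (⟨n * ((⟨⟨(c : G), hCN c.2⟩, c.2⟩ : C.subgroupOf N) : N) * n⁻¹,
            hCn.conj_mem _ (⟨⟨(c : G), hCN c.2⟩, c.2⟩ : C.subgroupOf N).2 n⟩ : C.subgroupOf N)) = c' := by
        apply Subtype.ext
        rw [hcc']
        rfl
      have h3 : (Subgroup.subgroupOfEquivOfLe hCN
          (⟨⟨(c : G), hCN c.2⟩, c.2⟩ : C.subgroupOf N)) = c := by
        apply Subtype.ext
        rfl
      exact (congrArg (θ : C → ℂ) h2).symm.trans (h1.trans (congrArg (θ : C → ℂ) h3))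
    · rintro ⟨_, h⟩
      funext x
      unfold conjFun
      apply h
      rfl
  -- the sets of constituents
  have key : ∀ θ : IrrCharacter C, θ ∈ S → ∃ A : Finset (N → ℂ),
      (∀ χ ∈ A, IsIrrCharacter N χ ∧ classInner (fun n : C.subgroupOf N => χ n)
        (fun x : C.subgroupOf N => (θ : C → ℂ) (Subgroup.subgroupOfEquivOfLe hCN x)) ≠ 0) ∧
      A.card = C.relIndex (T θ) := by
    intro θ hθS
    obtain ⟨A, hA1, hA2⟩ := D1B.exists_over_cyclic (C.subgroupOf N) hcyc _ (htr_irr θ) _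
      (hinert θ hθS).symm
    refine ⟨A, hA1, ?_⟩
    have hTN : T θ ≤ N := fun g hg => ((hT θ hθS g).1 hg).1
    have hCT : C ≤ T θ := by
      intro g hg
      rw [hT θ hθS]
      refine ⟨hCN hg, fun c c' hcc' => ?_⟩
      have h1 := isClassFunction_irr θ.2 c ⟨g, hg⟩
      have h5 : c' = ⟨g, hg⟩ * c * ⟨g, hg⟩⁻¹ := by
        apply Subtype.ext
        rw [hcc']
        rfl
      rw [h5]
      exact h1
    have h1 : Nat.card (C.subgroupOf N) = Nat.card C :=
      Nat.card_congr (Subgroup.subgroupOfEquivOfLe hCN).toEquiv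
    have h2 : Nat.card ((T θ).subgroupOf N) = Nat.card (T θ) :=
      Nat.card_congr (Subgroup.subgroupOfEquivOfLe hTN).toEquiv
    have h3 : Nat.card (C.subgroupOf (T θ)) = Nat.card C :=
      Nat.card_congr (Subgroup.subgroupOfEquivOfLe hCT).toEquiv
    have h4 : Nat.card (C.subgroupOf (T θ)) * C.relIndex (T θ) = Nat.card (T θ) :=
      Subgroup.card_mul_index (C.subgroupOf (T θ))
    rw [h1, h2] at hA2
    rw [h3] at h4
    have hpos : 0 < Nat.card C := Nat.card_pos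
    nlinarith [hA2, h4]
  choose! A hA using key
  -- disjointness
  have hdisj : ∀ θ ∈ S, ∀ θ' ∈ S, θ ≠ θ' → Disjoint (A θ) (A θ') := by
    intro θ hθS θ' hθ'S hne
    rw [Finset.disjoint_left]
    intro χ hχ hχ'
    apply hne
    obtain ⟨g, hg⟩ := D1B.conj_of_common_over (C.subgroupOf N) _ _ (htr_irr θ) (htr_irr θ') χ
      ((hA θ hθS).1 χ hχ).1 ((hA θ hθS).1 χ hχ).2 ((hA θ' hθ'S).1 χ hχ').2
    symm
    apply hS θ hθS θ' hθ'S (g : G) g.2
    intro c c' hcc'
    have h1 := congrFun hg ⟨⟨(c : G), hCN c.2⟩, c.2⟩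
    unfold conjFun at h1
    have h2 : (Subgroup.subgroupOfEquivOfLe hCN
        (⟨g * ((⟨⟨(c : G), hCN c.2⟩, c.2⟩ : C.subgroupOf N) : N) * g⁻¹,
          hCn.conj_mem _ (⟨⟨(c : G), hCN c.2⟩, c.2⟩ : C.subgroupOf N).2 g⟩ : C.subgroupOf N)) = c' := by
      apply Subtype.ext
      rw [hcc']
      rfl
    have h3 : (Subgroup.subgroupOfEquivOfLe hCN
        (⟨⟨(c : G), hCN c.2⟩, c.2⟩ : C.subgroupOf N)) = c := by
      apply Subtype.ext
      rfl
    exact (congrArg (θ' : C → ℂ) h2).symm.trans (h1.trans (congrArg (θ : C → ℂ) h3))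
  have hcard : ∑ θ ∈ S, C.relIndex (T θ) = (S.biUnion A).card := by
    rw [Finset.card_biUnion (fun θ hθ θ' hθ' hne => hdisj θ hθ θ' hθ' hne)]
    exact Finset.sum_congr rfl (fun θ hθ => ((hA θ hθ).2).symm)
  rw [hcard]
  apply D1B.card_le_irr_quot (P.subgroupOf N) (S.biUnion A)
  intro χ hχ
  obtain ⟨θ, hθS, hχA⟩ := Finset.mem_biUnion.1 hχ
  refine ⟨((hA θ hθS).1 χ hχA).1, ?_⟩
  apply D1B.trivial_on_of_over (C.subgroupOf N) (P.subgroupOf N) hQH _ (htr_irr θ) _ χ
    ((hA θ hθS).1 χ hχA).1 ((hA θ hθS).1 χ hχA).2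
  intro q hq
  exact hSP θ hθS _ hq

end Cfsg.Agent.Lib.Helper6
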