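import Mathlib
import Cfsg.Prelude.Def_Blocks

set_option autoImplicit false

namespace Cfsg.Agent.Lib.Helper6

open Cfsg

universe u

/-- (F) `N_G(⟨x⟩)/C_G(x)` is cyclic for `x` of prime order. -/
theorem isCyclic_normalizer_quot_centralizer {G : Type u} [Group G] [Finite G] (p : ℕ)
    [Fact p.Prime] {x : G} (hx : orderOf x = p) (C : Subgroup G)
    (hC : ∀ t, t ∈ C ↔ t * x = x * t)
    [hCn : (C.subgroupOf (Subgroup.normalizer ((Subgroup.zpowers x : Subgroup G) : Set G))).Normal] :
    IsCyclic (↥(Subgroup.normalizer ((Subgroup.zpowers x : Subgroup G) : Set G)) ⧸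
      C.subgroupOf (Subgroup.normalizer ((Subgroup.zpowers x : Subgroup G) : Set G))) := by
  classical
  set H : Subgroup G := Subgroup.zpowers x with hH
  -- `C` is the centralizer of `⟨x⟩`
  have hCeq : C = Subgroup.centralizer (H : Set G) := by
    ext t
    rw [hC, Subgroup.mem_centralizer_iff]
    constructor
    · intro h y hy
      obtain ⟨k, rfl⟩ := Subgroup.mem_zpowers_iff.1 hy
      have hc : Commute t x := h
      exact ((hc.zpow_right k).eq).symm
    · intro h
      exact (h x (Subgroup.mem_zpowers x)).symm
  have hker : H.normalizerMonoidHom.ker =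
      C.subgroupOf (Subgroup.normalizer (H : Set G)) := by
    rw [Subgroup.normalizerMonoidHom_ker, hCeq]
  -- the automorphism group of `⟨x⟩` is cyclic
  have hcardH : Nat.card H = p := by
    rw [hH, Nat.card_zpowers, hx]
  have : IsCyclic (ZMod (Nat.card H))ˣ := by
    rw [hcardH]
    exact ZMod.isCyclic_units_prime (Fact.out)
  have : IsCyclic (MulAut H) :=
    isCyclic_of_surjective (IsCyclic.mulAutMulEquiv H).symm (IsCyclic.mulAutMulEquiv H).symm.surjective
  have : IsCyclic H.normalizerMonoidHom.range := inferInstance
  have : IsCyclic (↥(Subgroup.normalizer (H : Set G)) ⧸ H.normalizerMonoidHom.ker) :=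
    isCyclic_of_surjective (QuotientGroup.quotientKerEquivRange H.normalizerMonoidHom).symm
      (QuotientGroup.quotientKerEquivRange H.normalizerMonoidHom).symm.surjective
  exact isCyclic_of_surjective (QuotientGroup.quotientMulEquivOfEq hker)
    (QuotientGroup.quotientMulEquivOfEq hker).surjective

end Cfsg.Agent.Lib.Helper6
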