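import Mathlib
import Cfsg.Prelude.Def_Amalgam

set_option autoImplicit false

namespace Cfsg.Agent.Lib.Helper6

open Cfsg

variable {X : Type*} [Group X] {M₁ M₂ : Subgroup X}

theorem cosetGraph_adj_iff (a b : CosetVertex M₁ M₂) :
    (cosetGraph M₁ M₂).Adj a b ↔
      ∃ x : X, (a = Sum.inl (x : X ⧸ M₁) ∧ b = Sum.inr (x : X ⧸ M₂)) ∨
        (b = Sum.inl (x : X ⧸ M₁) ∧ a = Sum.inr (x : X ⧸ M₂)) := by
  unfold cosetGraph
  rw [SimpleGraph.fromRel_adj]
  constructor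
  · rintro ⟨_, (⟨x, h1, h2⟩ | ⟨x, h1, h2⟩)⟩
    · exact ⟨x, Or.inl ⟨h1, h2⟩⟩
    · exact ⟨x, Or.inr ⟨h1, h2⟩⟩
  · rintro ⟨x, (⟨h1, h2⟩ | ⟨h1, h2⟩)⟩
    · refine ⟨?_, Or.inl ⟨x, h1, h2⟩⟩
      rw [h1, h2]; exact Sum.inl_ne_inr
    · refine ⟨?_, Or.inr ⟨x, h1, h2⟩⟩
      rw [h1, h2]; exact Sum.inr_ne_inl

theorem cosetGraph_adj_inl_inr (x : X) :
    (cosetGraph M₁ M₂).Adj (Sum.inl (x : X ⧸ M₁)) (Sum.inr (x : X ⧸ M₂)) :=
  (cosetGraph_adj_iff _ _).2 ⟨x, Or.inl ⟨rfl, rfl⟩⟩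

theorem cosetGraph_adj_smul (g : X) {a b : CosetVertex M₁ M₂}
    (h : (cosetGraph M₁ M₂).Adj a b) : (cosetGraph M₁ M₂).Adj (g • a) (g • b) := by
  rw [cosetGraph_adj_iff] at h ⊢
  obtain ⟨x, (⟨h1, h2⟩ | ⟨h1, h2⟩)⟩ := h
  · exact ⟨g * x, Or.inl ⟨by rw [h1]; rfl, by rw [h2]; rfl⟩⟩
  · exact ⟨g * x, Or.inr ⟨by rw [h1]; rfl, by rw [h2]; rfl⟩⟩

theorem cosetGraph_adj_smul_iff (g : X) {a b : CosetVertex M₁ M₂} :
    (cosetGraph M₁ M₂).Adj (g • a) (g • b) ↔ (cosetGraph M₁ M₂).Adj a b := by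
  constructor
  · intro h
    have := cosetGraph_adj_smul g⁻¹ h
    simpa using this
  · exact cosetGraph_adj_smul g

theorem stabilizer_inl (x : X) :
    MulAction.stabilizer X (Sum.inl (x : X ⧸ M₁) : CosetVertex M₁ M₂) =
      M₁.map (MulAut.conj x).toMonoidHom := by
  have h1 : (Sum.inl (x : X ⧸ M₁) : CosetVertex M₁ M₂) = x • Sum.inl ((1 : X) : X ⧸ M₁) := by
    rw [Sum.smul_inl]; congr 1; show _ = ((x * 1 : X) : X ⧸ M₁); rw [mul_one]
  rw [h1, MulAction.stabilizer_smul_eq_stabilizer_map_conj]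
  congr 1
  ext g
  simp only [MulAction.mem_stabilizer_iff, Sum.smul_inl, Sum.inl.injEq]
  rw [← MulAction.mem_stabilizer_iff, MulAction.stabilizer_quotient]

theorem stabilizer_inr (x : X) :
    MulAction.stabilizer X (Sum.inr (x : X ⧸ M₂) : CosetVertex M₁ M₂) =
      M₂.map (MulAut.conj x).toMonoidHom := by
  have h1 : (Sum.inr (x : X ⧸ M₂) : CosetVertex M₁ M₂) = x • Sum.inr ((1 : X) : X ⧸ M₂) := by
    rw [Sum.smul_inr]; congr 1; show _ = ((x * 1 : X) : X ⧸ M₂); rw [mul_one]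
  rw [h1, MulAction.stabilizer_smul_eq_stabilizer_map_conj]
  congr 1
  ext g
  simp only [MulAction.mem_stabilizer_iff, Sum.smul_inr, Sum.inr.injEq]
  rw [← MulAction.mem_stabilizer_iff, MulAction.stabilizer_quotient]

theorem cosetGraph_reachable_smul (g : X) {a b : CosetVertex M₁ M₂}
    (h : (cosetGraph M₁ M₂).Reachable a b) : (cosetGraph M₁ M₂).Reachable (g • a) (g • b) := by
  obtain ⟨p⟩ := h
  induction p with
  | nil => exact SimpleGraph.Reachable.refl _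
  | cons hadj _ ih => exact (cosetGraph_adj_smul g hadj).reachable.trans ih

theorem smul_inl_mk (g x : X) :
    g • (Sum.inl (x : X ⧸ M₁) : CosetVertex M₁ M₂) = Sum.inl ((g * x : X) : X ⧸ M₁) := rfl

theorem smul_inr_mk (g x : X) :
    g • (Sum.inr (x : X ⧸ M₂) : CosetVertex M₁ M₂) = Sum.inr ((g * x : X) : X ⧸ M₂) := rfl

/-- Every vertex is reachable from the base vertex `1 • M₁` when `M₁ ⊔ M₂ = ⊤`. -/
theorem cosetGraph_reachable_smul_base (hgen : M₁ ⊔ M₂ = ⊤) (x : X) :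
    (cosetGraph M₁ M₂).Reachable (Sum.inl ((1 : X) : X ⧸ M₁))
      (x • (Sum.inl ((1 : X) : X ⧸ M₁) : CosetVertex M₁ M₂)) := by
  have hx : x ∈ M₁ ⊔ M₂ := by rw [hgen]; trivial
  rw [Subgroup.sup_eq_closure] at hx
  induction hx using Subgroup.closure_induction with
  | one => rw [one_smul]
  | mem y hy =>
      rcases hy with hy | hy
      · have : y • (Sum.inl ((1 : X) : X ⧸ M₁) : CosetVertex M₁ M₂) = Sum.inl ((1 : X) : X ⧸ M₁) := by
          rw [smul_inl_mk]; congr 1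
          rw [mul_one, QuotientGroup.eq]; simpa using hy
        rw [this]
      · have e1 : (cosetGraph M₁ M₂).Adj (Sum.inl ((1 : X) : X ⧸ M₁)) (Sum.inr ((1 : X) : X ⧸ M₂)) :=
          cosetGraph_adj_inl_inr 1
        have e2 : (cosetGraph M₁ M₂).Adj (Sum.inl ((y : X) : X ⧸ M₁)) (Sum.inr ((y : X) : X ⧸ M₂)) :=
          cosetGraph_adj_inl_inr y
        have e3 : ((y : X) : X ⧸ M₂) = ((1 : X) : X ⧸ M₂) := by
          rw [QuotientGroup.eq]; simpa using hy
        rw [e3] at e2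
        rw [smul_inl_mk, mul_one]
        exact e1.reachable.trans e2.symm.reachable
  | mul y z _ _ ihy ihz =>
      rw [mul_smul]
      exact ihy.trans (cosetGraph_reachable_smul y ihz)
  | inv y _ ih =>
      have := cosetGraph_reachable_smul y⁻¹ ih
      rw [inv_smul_smul] at this
      exact this.symm

theorem cosetGraph_connected (hgen : M₁ ⊔ M₂ = ⊤) : (cosetGraph M₁ M₂).Connected := by
  have hbase : ∀ v : CosetVertex M₁ M₂,
      (cosetGraph M₁ M₂).Reachable (Sum.inl ((1 : X) : X ⧸ M₁)) v := by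
    intro v
    rcases v with a | b
    · induction a using QuotientGroup.induction_on with
      | H x =>
        have := cosetGraph_reachable_smul_base (M₁ := M₁) (M₂ := M₂) hgen x
        rwa [smul_inl_mk, mul_one] at this
    · induction b using QuotientGroup.induction_on with
      | H x =>
        have := cosetGraph_reachable_smul_base (M₁ := M₁) (M₂ := M₂) hgen x
        rw [smul_inl_mk, mul_one] at this
        exact this.trans (cosetGraph_adj_inl_inr x).reachable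
  have : Nonempty (CosetVertex M₁ M₂) := ⟨Sum.inl ((1 : X) : X ⧸ M₁)⟩
  exact ⟨fun u v => (hbase u).symm.trans (hbase v)⟩

theorem toPermHom_injective_of_coreFree
    (h : ∀ N : Subgroup X, N ≤ M₁ ⊓ M₂ → N.Normal → N = ⊥) :
    Function.Injective (MulAction.toPermHom X (CosetVertex M₁ M₂)) := by
  rw [← MonoidHom.ker_eq_bot_iff]
  apply h
  · intro g hg
    rw [MonoidHom.mem_ker] at hg
    have h1 : g • (Sum.inl ((1 : X) : X ⧸ M₁) : CosetVertex M₁ M₂) = Sum.inl ((1 : X) : X ⧸ M₁) := by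
      have := congrArg (fun σ : Equiv.Perm (CosetVertex M₁ M₂) => σ (Sum.inl ((1 : X) : X ⧸ M₁))) hg
      simpa using this
    have h2 : g • (Sum.inr ((1 : X) : X ⧸ M₂) : CosetVertex M₁ M₂) = Sum.inr ((1 : X) : X ⧸ M₂) := by
      have := congrArg (fun σ : Equiv.Perm (CosetVertex M₁ M₂) => σ (Sum.inr ((1 : X) : X ⧸ M₂))) hg
      simpa using this
    have h1' : g ∈ MulAction.stabilizer X (Sum.inl ((1 : X) : X ⧸ M₁) : CosetVertex M₁ M₂) := h1
    have h2' : g ∈ MulAction.stabilizer X (Sum.inr ((1 : X) : X ⧸ M₂) : CosetVertex M₁ M₂) := h2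
    rw [stabilizer_inl] at h1'
    rw [stabilizer_inr] at h2'
    simp only [map_one, Subgroup.mem_map] at h1' h2'
    obtain ⟨a, ha, rfl⟩ := h1'
    obtain ⟨b, hb, hab⟩ := h2'
    refine ⟨by simpa using ha, ?_⟩
    have : b = a := by simpa using hab
    subst this
    simpa using hb
  · infer_instance

/-- An element fixing every vertex is trivial when the pair is core-free. -/
theorem eq_one_of_forall_smul_eq
    (h : ∀ N : Subgroup X, N ≤ M₁ ⊓ M₂ → N.Normal → N = ⊥) (g : X)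
    (hg : ∀ v : CosetVertex M₁ M₂, g • v = v) : g = 1 := by
  apply toPermHom_injective_of_coreFree h
  ext v
  simpa using hg v

end Cfsg.Agent.Lib.Helper6
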