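import Mathlib
import Cfsg.Prelude.Def_Amalgam
import Cfsg.Agent.Lib.Helper6.Amalgam
import Cfsg.Agent.Lib.Helper6.PCore
import Cfsg.Agent.Lib.Helper6.Conj2

set_option autoImplicit false

namespace Cfsg.Agent.Lib.Helper6

open Cfsg

/-- In a connected graph, a vertex at distance `n + 1` has a neighbour at distance `n`. -/
theorem exists_adj_dist_eq {V : Type*} {Γ : SimpleGraph V} (hc : Γ.Connected) {u v : V} {n : ℕ}
    (h : Γ.dist u v = n + 1) : ∃ w, Γ.Adj u w ∧ Γ.dist w v = n := by
  obtain ⟨q, hq⟩ := hc.exists_walk_length_eq_dist u v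
  rw [h] at hq
  cases q with
  | nil => simp at hq
  | cons hadj q' =>
    rename_i w
    refine ⟨w, hadj, ?_⟩
    have h1 : q'.length = n := by simpa using hq
    have h2 : Γ.dist w v ≤ n := h1 ▸ SimpleGraph.dist_le q'
    have h3 : Γ.dist u v ≤ Γ.dist u w + Γ.dist w v := hc.dist_triangle
    have h4 : Γ.dist u w = 1 := SimpleGraph.dist_eq_one_iff_adj.mpr hadj
    omega

variable {X : Type*} [Group X]

theorem omegaOne_le (p : ℕ) (H : Subgroup X) : omegaOne p H ≤ H := by
  unfold omegaOne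
  rw [Subgroup.closure_le]
  intro x hx
  exact hx.1

theorem omegaOne_map_conj (p : ℕ) (H : Subgroup X) (g : X) :
    (omegaOne p H).map (MulAut.conj g).toMonoidHom =
      omegaOne p (H.map (MulAut.conj g).toMonoidHom) := by
  unfold omegaOne
  rw [MonoidHom.map_closure]
  congr 1
  ext y
  constructor
  · rintro ⟨x, ⟨hxH, hxp⟩, rfl⟩
    refine ⟨⟨x, hxH, rfl⟩, ?_⟩
    rw [← map_pow, hxp, map_one]
  · rintro ⟨⟨x, hxH, rfl⟩, hyp⟩
    refine ⟨x, ⟨hxH, ?_⟩, rfl⟩
    rw [← map_pow] at hyp
    exact (MulAut.conj g).injective (by simpa using hyp)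

theorem centralizer_map_conj (H : Subgroup X) (g : X) :
    (Subgroup.centralizer (H : Set X)).map (MulAut.conj g).toMonoidHom =
      Subgroup.centralizer ((H.map (MulAut.conj g).toMonoidHom : Subgroup X) : Set X) := by
  ext y
  rw [mem_map_conj, Subgroup.mem_centralizer_iff, Subgroup.mem_centralizer_iff]
  constructor
  · intro h z hz
    have hz' : g⁻¹ * z * g ∈ H := mem_map_conj.mp hz
    have := h _ hz'
    calc z * y = g * ((g⁻¹ * z * g) * (g⁻¹ * y * g)) * g⁻¹ := by group
      _ = g * ((g⁻¹ * y * g) * (g⁻¹ * z * g)) * g⁻¹ := by rw [this]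
      _ = y * z := by group
  · intro h z hz
    have hz' : g * z * g⁻¹ ∈ H.map (MulAut.conj g).toMonoidHom := by
      rw [mem_map_conj]; simpa [mul_assoc] using hz
    have := h _ hz'
    calc z * (g⁻¹ * y * g) = g⁻¹ * ((g * z * g⁻¹) * y) * g := by group
      _ = g⁻¹ * (y * (g * z * g⁻¹)) * g := by rw [this]
      _ = g⁻¹ * y * g * z := by group

/-- `Ω₁(Z(T))` for a subgroup `T`. -/
def omegaZ (p : ℕ) (T : Subgroup X) : Subgroup X :=
  omegaOne p (T ⊓ Subgroup.centralizer (T : Set X))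

theorem omegaZ_le (p : ℕ) (T : Subgroup X) : omegaZ p T ≤ T :=
  (omegaOne_le p _).trans inf_le_left

theorem omegaZ_le_centralizer (p : ℕ) (T : Subgroup X) :
    omegaZ p T ≤ Subgroup.centralizer (T : Set X) :=
  (omegaOne_le p _).trans inf_le_right

theorem omegaZ_map_conj (p : ℕ) (T : Subgroup X) (g : X) :
    (omegaZ p T).map (MulAut.conj g).toMonoidHom = omegaZ p (T.map (MulAut.conj g).toMonoidHom) := by
  unfold omegaZ
  rw [omegaOne_map_conj, Subgroup.map_inf_eq _ _ _ (MulAut.conj g).injective, centralizer_map_conj]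

/-- `T` is (the image in `X` of) a Sylow `p`-subgroup of `H`. -/
def IsSylowOf (p : ℕ) (H T : Subgroup X) : Prop :=
  T ≤ H ∧ IsPGroup p T ∧ ∀ Q : Subgroup X, IsPGroup p Q → Q ≤ H → T ≤ Q → Q = T

theorem isSylowOf_of_sylow {p : ℕ} {H : Subgroup X} (S : Sylow p H) :
    IsSylowOf p H ((S : Subgroup H).map H.subtype) := by
  refine ⟨?_, S.isPGroup'.map _, ?_⟩
  · rintro _ ⟨y, _, rfl⟩; exact y.2
  · intro Q hQ hQH hTQ
    have h1 : IsPGroup p (Q.subgroupOf H) := hQ.comap_subtype
    have h2 : (S : Subgroup H) ≤ Q.subgroupOf H := by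
      intro y hy
      rw [Subgroup.mem_subgroupOf]
      exact hTQ ⟨y, hy, rfl⟩
    have h3 := S.is_maximal' h1 h2
    apply le_antisymm _ hTQ
    intro q hq
    have : (⟨q, hQH hq⟩ : H) ∈ Q.subgroupOf H := by rw [Subgroup.mem_subgroupOf]; exact hq
    rw [h3] at this
    exact ⟨⟨q, hQH hq⟩, this, rfl⟩

theorem IsSylowOf.exists_sylow {p : ℕ} {H T : Subgroup X} (h : IsSylowOf p H T) :
    ∃ S : Sylow p H, (S : Subgroup H).map H.subtype = T := by
  obtain ⟨hTH, hTp, hmax⟩ := h
  refine ⟨⟨T.subgroupOf H, hTp.comap_subtype, ?_⟩, ?_⟩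
  · intro Q hQ hle
    have hQ' : IsPGroup p (Q.map H.subtype) := hQ.map _
    have h1 : T ≤ Q.map H.subtype := by
      intro t ht
      exact ⟨⟨t, hTH ht⟩, hle (by rw [Subgroup.mem_subgroupOf]; exact ht), rfl⟩
    have h2 := hmax _ hQ' (by rintro _ ⟨y, _, rfl⟩; exact y.2) h1
    ext y
    rw [Subgroup.mem_subgroupOf, ← h2]
    constructor
    · intro hy; exact ⟨y, hy, rfl⟩
    · rintro ⟨z, hz, hzy⟩
      have : z = y := Subtype.ext hzy
      rwa [← this]
  · show (T.subgroupOf H).map H.subtype = T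
    rw [Subgroup.subgroupOf_map_subtype]
    exact inf_eq_left.mpr hTH

theorem IsSylowOf.map_conj {p : ℕ} {H T : Subgroup X} (h : IsSylowOf p H T) (g : X) :
    IsSylowOf p (H.map (MulAut.conj g).toMonoidHom) (T.map (MulAut.conj g).toMonoidHom) := by
  obtain ⟨hTH, hTp, hmax⟩ := h
  refine ⟨Subgroup.map_mono hTH, hTp.map _, ?_⟩
  intro Q hQ hQH hTQ
  have h1 : Q.map (MulAut.conj g⁻¹).toMonoidHom = T := by
    apply hmax _ (hQ.map _)
    · have := Subgroup.map_mono (f := (MulAut.conj g⁻¹).toMonoidHom) hQH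
      rwa [map_conj_map_conj, inv_mul_cancel, map_conj_one] at this
    · have := Subgroup.map_mono (f := (MulAut.conj g⁻¹).toMonoidHom) hTQ
      rwa [map_conj_map_conj, inv_mul_cancel, map_conj_one] at this
  rw [← h1, map_conj_map_conj, mul_inv_cancel, map_conj_one]

theorem omegaZ_le_sylowCenterClosure {p : ℕ} {H T : Subgroup X} (h : IsSylowOf p H T) :
    omegaZ p T ≤ sylowCenterClosure p H := by
  obtain ⟨S, rfl⟩ := h.exists_sylow
  unfold sylowCenterClosure
  exact le_iSup (fun S : Sylow p H => omegaOne p (((S : Subgroup H).map H.subtype) ⊓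
      Subgroup.centralizer (((S : Subgroup H).map H.subtype : Subgroup X) : Set X))) S

theorem sylowCenterClosure_le_iff {p : ℕ} {H K : Subgroup X} :
    sylowCenterClosure p H ≤ K ↔ ∀ T, IsSylowOf p H T → omegaZ p T ≤ K := by
  constructor
  · intro h T hT
    exact (omegaZ_le_sylowCenterClosure hT).trans h
  · intro h
    unfold sylowCenterClosure
    refine iSup_le ?_
    intro S
    exact h _ (isSylowOf_of_sylow S)

theorem sylowCenterClosure_le (p : ℕ) (H : Subgroup X) : sylowCenterClosure p H ≤ H := by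
  rw [sylowCenterClosure_le_iff]
  intro T hT
  exact (omegaZ_le p T).trans hT.1

theorem sylowCenterClosure_map_conj_le (p : ℕ) (H : Subgroup X) (g : X) :
    (sylowCenterClosure p H).map (MulAut.conj g).toMonoidHom ≤
      sylowCenterClosure p (H.map (MulAut.conj g).toMonoidHom) := by
  rw [Subgroup.map_le_iff_le_comap, sylowCenterClosure_le_iff]
  intro T hT
  rw [← Subgroup.map_le_iff_le_comap, omegaZ_map_conj]
  exact omegaZ_le_sylowCenterClosure (hT.map_conj g)

theorem sylowCenterClosure_map_conj (p : ℕ) (H : Subgroup X) (g : X) :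
    (sylowCenterClosure p H).map (MulAut.conj g).toMonoidHom =
      sylowCenterClosure p (H.map (MulAut.conj g).toMonoidHom) := by
  apply le_antisymm (sylowCenterClosure_map_conj_le p H g)
  have h := sylowCenterClosure_map_conj_le p (H.map (MulAut.conj g).toMonoidHom) g⁻¹
  rw [map_conj_map_conj, inv_mul_cancel, map_conj_one] at h
  have h2 := Subgroup.map_mono (f := (MulAut.conj g).toMonoidHom) h
  rwa [map_conj_map_conj, mul_inv_cancel, map_conj_one] at h2

section Vertex

variable {M₁ M₂ : Subgroup X}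

theorem vertexZ_smul (p : ℕ) (g : X) (δ : CosetVertex M₁ M₂) :
    vertexZ p (g • δ) = (vertexZ p δ).map (MulAut.conj g).toMonoidHom := by
  unfold vertexZ
  rw [MulAction.stabilizer_smul_eq_stabilizer_map_conj, sylowCenterClosure_map_conj]

theorem vertexZ_le_stabilizer (p : ℕ) (δ : CosetVertex M₁ M₂) :
    vertexZ p δ ≤ MulAction.stabilizer X δ := sylowCenterClosure_le p _

theorem stabilizer_le_normalizer_vertexZ (p : ℕ) (δ : CosetVertex M₁ M₂) :
    MulAction.stabilizer X δ ≤ Subgroup.normalizer (vertexZ p δ : Set X) := by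
  intro g hg
  apply mem_normalizer_of_map_conj_eq_self
  rw [← vertexZ_smul, MulAction.mem_stabilizer_iff.mp hg]

theorem neighbourKernel_le_stabilizer_of_adj {δ μ : CosetVertex M₁ M₂}
    (h : (cosetGraph M₁ M₂).Adj δ μ) : neighbourKernel δ ≤ MulAction.stabilizer X μ := by
  unfold neighbourKernel
  refine inf_le_right.trans ?_
  exact iInf₂_le μ h

/-- minimality of the critical distance -/
theorem vertexZ_le_neighbourKernel_of_dist_lt {p : ℕ} {δ μ : CosetVertex M₁ M₂}
    (h : (cosetGraph M₁ M₂).dist δ μ < criticalDistance p M₁ M₂) :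
    vertexZ p δ ≤ neighbourKernel μ := by
  by_contra hn
  have : criticalDistance p M₁ M₂ ≤ (cosetGraph M₁ M₂).dist δ μ := by
    unfold criticalDistance
    exact Nat.sInf_le ⟨δ, μ, rfl, hn⟩
  omega

end Vertex

end Cfsg.Agent.Lib.Helper6
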