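import Mathlib
import Cfsg.Prelude.Def_Amalgam
import Cfsg.Agent.Lib.Helper6.Amalgam2
import Cfsg.Agent.S2744
import Cfsg.Agent.S2746

set_option autoImplicit false

namespace Cfsg.Agent.Lib.Helper6

open Cfsg

variable {X : Type*} [Group X]

theorem card_map_conj' (S : Subgroup X) (g : X) :
    Nat.card (S.map (MulAut.conj g).toMonoidHom) = Nat.card S :=
  Subgroup.card_map_of_injective (MulAut.conj g).injective

theorem finite_map_conj (S : Subgroup X) [Finite S] (g : X) :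
    Finite (S.map (MulAut.conj g).toMonoidHom) := by
  have : Nat.card (S.map (MulAut.conj g).toMonoidHom) ≠ 0 := by
    rw [card_map_conj']; exact Nat.card_pos.ne'
  exact (Nat.card_ne_zero.mp this).2

/-- cardinality of (the image of) a Sylow subgroup -/
theorem IsSylowOf.card_eq {p : ℕ} [Fact p.Prime] {H T : Subgroup X} [Finite H]
    (h : IsSylowOf p H T) : Nat.card T = p ^ (Nat.card H).factorization p := by
  obtain ⟨S, rfl⟩ := h.exists_sylow
  rw [Subgroup.card_map_of_injective H.subtype_injective]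
  exact S.card_eq_multiplicity

theorem IsSylowOf.of_le_of_factorization_eq {p : ℕ} [Fact p.Prime] {A B T : Subgroup X} [Finite B]
    (hAB : A ≤ B) (hfac : (Nat.card A).factorization p = (Nat.card B).factorization p)
    (h : IsSylowOf p A T) : IsSylowOf p B T := by
  have hp : p.Prime := Fact.out
  haveI : Finite A := Finite.of_injective (Subgroup.inclusion hAB) (Subgroup.inclusion_injective hAB)
  have hcard := h.card_eq
  obtain ⟨hTA, hTp, _⟩ := h
  refine ⟨hTA.trans hAB, hTp, ?_⟩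
  intro Q hQ hQB hTQ
  haveI : Finite Q := Finite.of_injective (Subgroup.inclusion hQB) (Subgroup.inclusion_injective hQB)
  obtain ⟨k, hk⟩ := hQ.exists_card_eq
  have hdvd : p ^ k ∣ Nat.card B := hk ▸ Subgroup.card_dvd_of_le hQB
  have hkle : k ≤ (Nat.card B).factorization p :=
    (hp.pow_dvd_iff_le_factorization Nat.card_pos.ne').mp hdvd
  symm
  apply Subgroup.eq_of_le_of_card_ge hTQ
  rw [hk, hcard, hfac]
  exact Nat.pow_le_pow_right hp.pos hkle

theorem IsSylowOf.exists_conj {p : ℕ} [Fact p.Prime] {H T T' : Subgroup X} [Finite H]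
    (h : IsSylowOf p H T) (h' : IsSylowOf p H T') :
    ∃ g ∈ H, T' = T.map (MulAut.conj g).toMonoidHom := by
  obtain ⟨S, rfl⟩ := h.exists_sylow
  obtain ⟨S', rfl⟩ := h'.exists_sylow
  obtain ⟨g, hg⟩ := MulAction.exists_smul_eq H S S'
  refine ⟨g, g.2, ?_⟩
  rw [← hg, sylow_smul_eq_map_conj, Subgroup.map_map, Subgroup.map_map]
  congr 1

theorem exists_isSylowOf (p : ℕ) [Fact p.Prime] (H : Subgroup X) : ∃ T, IsSylowOf p H T := by
  obtain ⟨S⟩ : Nonempty (Sylow p H) := inferInstance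
  exact ⟨_, isSylowOf_of_sylow S⟩

theorem pCoreOf_le_of_isSylowOf {p : ℕ} {H T : Subgroup X} (h : IsSylowOf p H T) :
    pCoreOf p H ≤ T := by
  obtain ⟨S, rfl⟩ := h.exists_sylow
  exact pCoreOf_le_sylow_map H S

section Vertex

variable {M₁ M₂ : Subgroup X}

theorem vertex_cases (δ : CosetVertex M₁ M₂) :
    (∃ x : X, δ = Sum.inl (x : X ⧸ M₁)) ∨ (∃ x : X, δ = Sum.inr (x : X ⧸ M₂)) := by
  rcases δ with a | b
  · obtain ⟨x, rfl⟩ := QuotientGroup.mk_surjective a
    exact Or.inl ⟨x, rfl⟩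
  · obtain ⟨x, rfl⟩ := QuotientGroup.mk_surjective b
    exact Or.inr ⟨x, rfl⟩

theorem finite_stabilizer {p : ℕ} (h : IsCharPAmalgamPair p M₁ M₂) (δ : CosetVertex M₁ M₂) :
    Finite (MulAction.stabilizer X δ) := by
  obtain ⟨_, hfin1, hfin2, _⟩ := h
  rcases vertex_cases δ with ⟨x, rfl⟩ | ⟨x, rfl⟩
  · rw [stabilizer_inl]; exact finite_map_conj M₁ x
  · rw [stabilizer_inr]; exact finite_map_conj M₂ x

/-- characteristic `p`, in the ambient group -/
theorem charP_base {p : ℕ} (M : Subgroup X)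
    (hM : Subgroup.centralizer (pCore p M : Set M) ≤ pCore p M) :
    M ⊓ Subgroup.centralizer (pCoreOf p M : Set X) ≤ pCoreOf p M := by
  intro y hy
  obtain ⟨hyM, hyC⟩ := Subgroup.mem_inf.mp hy
  have : (⟨y, hyM⟩ : M) ∈ Subgroup.centralizer (pCore p M : Set M) := by
    rw [Subgroup.mem_centralizer_iff]
    intro z hz
    apply Subtype.ext
    have hz' : (z : X) ∈ pCoreOf p M := ⟨z, hz, rfl⟩
    exact Subgroup.mem_centralizer_iff.mp hyC _ hz'
  exact ⟨⟨y, hyM⟩, hM this, rfl⟩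

theorem charP_vertex {p : ℕ} (h : IsCharPAmalgamPair p M₁ M₂) (δ : CosetVertex M₁ M₂) :
    MulAction.stabilizer X δ ⊓ Subgroup.centralizer (vertexQ p δ : Set X) ≤ vertexQ p δ := by
  obtain ⟨_, _, _, _, _, _, hc1, hc2⟩ := h
  unfold vertexQ
  rcases vertex_cases δ with ⟨x, rfl⟩ | ⟨x, rfl⟩
  · rw [stabilizer_inl, ← pCoreOf_map_conj, ← centralizer_map_conj,
      ← Subgroup.map_inf_eq _ _ _ (MulAut.conj x).injective]
    exact Subgroup.map_mono (charP_base M₁ hc1)
  · rw [stabilizer_inr, ← pCoreOf_map_conj, ← centralizer_map_conj,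
      ← Subgroup.map_inf_eq _ _ _ (MulAut.conj x).injective]
    exact Subgroup.map_mono (charP_base M₂ hc2)

theorem factorization_inf_eq {p : ℕ} [Fact p.Prime] (h : IsCharPAmalgamPair p M₁ M₂) :
    (Nat.card ↥(M₁ ⊓ M₂)).factorization p = (Nat.card M₁).factorization p ∧
      (Nat.card ↥(M₁ ⊓ M₂)).factorization p = (Nat.card M₂).factorization p := by
  have hp : p.Prime := Fact.out
  obtain ⟨_, hfin1, hfin2, _, _, hsyl, _, _⟩ := h
  haveI : Finite ↥(M₁ ⊓ M₂) :=
    Finite.of_injective (Subgroup.inclusion inf_le_left) (Subgroup.inclusion_injective inf_le_left)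
  obtain ⟨S⟩ : Nonempty (Sylow p ↥(M₁ ⊓ M₂)) := inferInstance
  obtain ⟨P₁⟩ : Nonempty (Sylow p M₁) := inferInstance
  obtain ⟨P₂⟩ : Nonempty (Sylow p M₂) := inferInstance
  obtain ⟨h1, h2⟩ := hsyl S P₁ P₂
  rw [S.card_eq_multiplicity, P₁.card_eq_multiplicity] at h1
  rw [S.card_eq_multiplicity, P₂.card_eq_multiplicity] at h2
  exact ⟨Nat.pow_right_injective hp.two_le h1, Nat.pow_right_injective hp.two_le h2⟩

theorem edge_cases {δ μ : CosetVertex M₁ M₂} (hadj : (cosetGraph M₁ M₂).Adj δ μ) :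
    ∃ x : X, (δ = Sum.inl (x : X ⧸ M₁) ∧ μ = Sum.inr (x : X ⧸ M₂)) ∨
      (μ = Sum.inl (x : X ⧸ M₁) ∧ δ = Sum.inr (x : X ⧸ M₂)) :=
  (cosetGraph_adj_iff _ _).mp hadj

theorem factorization_edge_eq {p : ℕ} [Fact p.Prime] (h : IsCharPAmalgamPair p M₁ M₂)
    {δ μ : CosetVertex M₁ M₂} (hadj : (cosetGraph M₁ M₂).Adj δ μ) :
    (Nat.card ↥(edgeStabilizer δ μ)).factorization p =
      (Nat.card (MulAction.stabilizer X δ)).factorization p := by
  obtain ⟨h1, h2⟩ := factorization_inf_eq h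
  unfold edgeStabilizer
  obtain ⟨x, (⟨rfl, rfl⟩ | ⟨rfl, rfl⟩)⟩ := edge_cases hadj
  · rw [stabilizer_inl, stabilizer_inr, ← Subgroup.map_inf_eq _ _ _ (MulAut.conj x).injective,
      card_map_conj', card_map_conj']
    exact h1
  · rw [stabilizer_inl, stabilizer_inr, ← Subgroup.map_inf_eq _ _ _ (MulAut.conj x).injective,
      card_map_conj', card_map_conj', inf_comm]
    exact h2

theorem IsSylowOf.edge_left {p : ℕ} [Fact p.Prime] (h : IsCharPAmalgamPair p M₁ M₂)
    {δ μ : CosetVertex M₁ M₂} (hadj : (cosetGraph M₁ M₂).Adj δ μ) {T : Subgroup X}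
    (hT : IsSylowOf p (edgeStabilizer δ μ) T) : IsSylowOf p (MulAction.stabilizer X δ) T := by
  haveI := finite_stabilizer h δ
  exact hT.of_le_of_factorization_eq inf_le_left (factorization_edge_eq h hadj)

theorem IsSylowOf.edge_right {p : ℕ} [Fact p.Prime] (h : IsCharPAmalgamPair p M₁ M₂)
    {δ μ : CosetVertex M₁ M₂} (hadj : (cosetGraph M₁ M₂).Adj δ μ) {T : Subgroup X}
    (hT : IsSylowOf p (edgeStabilizer δ μ) T) : IsSylowOf p (MulAction.stabilizer X μ) T := by
  haveI := finite_stabilizer h μ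
  have hT' : IsSylowOf p (edgeStabilizer μ δ) T := by
    unfold edgeStabilizer at hT ⊢
    rwa [inf_comm]
  exact hT'.of_le_of_factorization_eq inf_le_left (factorization_edge_eq h hadj.symm)

theorem vertexZ_le_vertexQ {p : ℕ} [Fact p.Prime] (h : IsCharPAmalgamPair p M₁ M₂)
    (δ : CosetVertex M₁ M₂) : vertexZ p δ ≤ vertexQ p δ := by
  unfold vertexZ
  rw [sylowCenterClosure_le_iff]
  intro T hT
  refine le_trans ?_ (charP_vertex h δ)
  refine le_inf ((omegaZ_le p T).trans hT.1) ?_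
  refine (omegaZ_le_centralizer p T).trans ?_
  exact Subgroup.centralizer_le (pCoreOf_le_of_isSylowOf hT)

theorem vertexZ_le_neighbourKernel_self {p : ℕ} [Fact p.Prime] (h : IsCharPAmalgamPair p M₁ M₂)
    (δ : CosetVertex M₁ M₂) : vertexZ p δ ≤ neighbourKernel δ :=
  (vertexZ_le_vertexQ h δ).trans (Cfsg.Agent.S2746.result M₁ M₂ h δ)

theorem criticalDistance_pos {p : ℕ} [Fact p.Prime] (h : IsCharPAmalgamPair p M₁ M₂)
    {α α' : CosetVertex M₁ M₂} (hc : IsCriticalPair p α α') : 0 < criticalDistance p M₁ M₂ := by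
  have hconn : (cosetGraph M₁ M₂).Connected := cosetGraph_connected h.1.1
  rw [Nat.pos_iff_ne_zero]
  intro h0
  obtain ⟨hc1, hc2⟩ := hc
  rw [h0] at hc2
  have : α = α' := hconn.dist_eq_zero_iff.mp hc2
  subst this
  exact hc1 (vertexZ_le_neighbourKernel_self h α)

theorem neighbour_transitive {δ μ μ' : CosetVertex M₁ M₂} (hμ : (cosetGraph M₁ M₂).Adj δ μ)
    (hμ' : (cosetGraph M₁ M₂).Adj δ μ') : ∃ g ∈ MulAction.stabilizer X δ, g • μ = μ' :=
  Cfsg.Agent.S2744.result M₁ M₂ δ μ μ' hμ hμ'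

end Vertex

end Cfsg.Agent.Lib.Helper6
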