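import Mathlib
import Cfsg.Prelude.Def_Amalgam
import Cfsg.Agent.Lib.Helper6.Amalgam3

set_option autoImplicit false

namespace Cfsg.Agent.Lib.Helper6

open Cfsg

variable {X : Type*} [Group X]

theorem pElementClosure_le (p : ℕ) (H : Subgroup X) : pElementClosure p H ≤ H := by
  unfold pElementClosure
  rw [Subgroup.closure_le]
  intro x hx
  exact hx.1

theorem pElementClosure_map_conj (p : ℕ) (H : Subgroup X) (g : X) :
    (pElementClosure p H).map (MulAut.conj g).toMonoidHom =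
      pElementClosure p (H.map (MulAut.conj g).toMonoidHom) := by
  unfold pElementClosure
  rw [MonoidHom.map_closure]
  congr 1
  ext y
  constructor
  · rintro ⟨x, ⟨hxH, k, hk⟩, rfl⟩
    refine ⟨⟨x, hxH, rfl⟩, k, ?_⟩
    rw [← hk]; exact MulEquiv.orderOf_eq _ _
  · rintro ⟨⟨x, hxH, rfl⟩, k, hk⟩
    refine ⟨x, ⟨hxH, k, ?_⟩, rfl⟩
    rw [← hk]; exact (MulEquiv.orderOf_eq (MulAut.conj g) x).symm

theorem pElementClosure_conj_mem {p : ℕ} {H : Subgroup X} {g l : X} (hg : g ∈ H)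
    (hl : l ∈ pElementClosure p H) : g * l * g⁻¹ ∈ pElementClosure p H := by
  have hmap : (pElementClosure p H).map (MulAut.conj g).toMonoidHom ≤ pElementClosure p H := by
    rw [pElementClosure_map_conj]
    have : H.map (MulAut.conj g).toMonoidHom = H :=
      map_conj_eq_self_of_mem_normalizer (Subgroup.le_normalizer hg)
    rw [this]
  exact hmap ⟨l, hl, by simp [MulAut.conj_apply]⟩

theorem le_pElementClosure_of_isPGroup {p : ℕ} [Fact p.Prime] {H T : Subgroup X} (hTH : T ≤ H)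
    (hT : IsPGroup p T) : T ≤ pElementClosure p H := by
  intro t ht
  apply Subgroup.subset_closure
  refine ⟨hTH ht, ?_⟩
  obtain ⟨k, hk⟩ := IsPGroup.iff_orderOf.mp hT ⟨t, ht⟩
  exact ⟨k, by rwa [Subgroup.orderOf_mk] at hk⟩

theorem normalizer_map_conj (H : Subgroup X) (g : X) :
    (Subgroup.normalizer (H : Set X)).map (MulAut.conj g).toMonoidHom =
      Subgroup.normalizer ((H.map (MulAut.conj g).toMonoidHom : Subgroup X) : Set X) :=
  Subgroup.map_equiv_normalizer_eq H (MulAut.conj g)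

theorem IsSylowOf.of_le {p : ℕ} {G N T : Subgroup X} (h : IsSylowOf p G T) (hTN : T ≤ N)
    (hNG : N ≤ G) : IsSylowOf p N T :=
  ⟨hTN, h.2.1, fun Q hQ hQN hTQ => h.2.2 Q hQ (hQN.trans hNG) hTQ⟩

theorem map_conj_eq_self_of_le' {S : Subgroup X} [Finite S] {g : X}
    (h : S.map (MulAut.conj g).toMonoidHom ≤ S) : S.map (MulAut.conj g).toMonoidHom = S :=
  Subgroup.eq_of_le_of_card_ge h (card_map_conj S g).ge

theorem frattini_isSylowOf {p : ℕ} [Fact p.Prime] {G N T : Subgroup X} [Finite N] (hNG : N ≤ G)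
    (hnorm : ∀ g ∈ G, ∀ n ∈ N, g * n * g⁻¹ ∈ N) (hT : IsSylowOf p N T) :
    ∀ g ∈ G, ∃ l ∈ N, ∃ b ∈ G ⊓ Subgroup.normalizer (T : Set X), g = l * b := by
  intro g hg
  have hNg : N.map (MulAut.conj g).toMonoidHom = N := by
    apply map_conj_eq_self_of_le'
    rintro _ ⟨n, hn, rfl⟩
    simpa [MulAut.conj_apply] using hnorm g hg n hn
  have hT' : IsSylowOf p N (T.map (MulAut.conj g).toMonoidHom) := by
    have := hT.map_conj g
    rwa [hNg] at this
  obtain ⟨l, hl, hlT⟩ := hT'.exists_conj hT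
  rw [map_conj_map_conj] at hlT
  have hlg : l * g ∈ Subgroup.normalizer (T : Set X) := mem_normalizer_of_map_conj_eq_self hlT.symm
  exact ⟨l⁻¹, N.inv_mem hl, l * g, Subgroup.mem_inf.mpr ⟨G.mul_mem (hNG hl) hg, hlg⟩, by group⟩

theorem spe_base {p : ℕ} [Fact p.Prime] (M₁ M₂ : Subgroup X) (h : IsSpeAmalgamPair p M₁ M₂)
    (T U : Subgroup X) (hT : IsSylowOf p (M₁ ⊓ M₂) T) (hUT : U ≤ T)
    (hU1 : pElementClosure p M₁ ≤ Subgroup.normalizer (U : Set X))
    (hU2 : pElementClosure p M₂ ≤ Subgroup.normalizer (U : Set X)) : U = ⊥ := by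
  obtain ⟨hc, hN, _, _⟩ := h
  have hfac := factorization_inf_eq hc
  have hfin1 : Finite M₁ := hc.2.1
  have hfin2 : Finite M₂ := hc.2.2.1
  have hT1 : IsSylowOf p M₁ T := hT.of_le_of_factorization_eq inf_le_left hfac.1
  have hT2 : IsSylowOf p M₂ T := hT.of_le_of_factorization_eq inf_le_right hfac.2
  obtain ⟨S₀, hS₀⟩ := hT.exists_sylow
  obtain ⟨hB12, hBle⟩ := hN S₀
  rw [hS₀] at hB12 hBle
  set B : Subgroup X := M₁ ⊓ Subgroup.normalizer (T : Set X) with hB
  have hfinL1 : Finite (pElementClosure p M₁) :=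
    Finite.of_injective (Subgroup.inclusion (pElementClosure_le p M₁))
      (Subgroup.inclusion_injective _)
  have hfinL2 : Finite (pElementClosure p M₂) :=
    Finite.of_injective (Subgroup.inclusion (pElementClosure_le p M₂))
      (Subgroup.inclusion_injective _)
  have hF1 := frattini_isSylowOf (pElementClosure_le p M₁)
    (fun g hg n hn => pElementClosure_conj_mem hg hn)
    (hT1.of_le (le_pElementClosure_of_isPGroup hT1.1 hT1.2.1) (pElementClosure_le p M₁))
  have hF2 := frattini_isSylowOf (pElementClosure_le p M₂)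
    (fun g hg n hn => pElementClosure_conj_mem hg hn)
    (hT2.of_le (le_pElementClosure_of_isPGroup hT2.1 hT2.2.1) (pElementClosure_le p M₂))
  rw [← hB12] at hF2
  set Y : Set X := {y | ∃ b ∈ B, ∃ u ∈ U, y = b * u * b⁻¹} with hY
  have hYT : Y ⊆ T := by
    rintro y ⟨b, hb, u, hu, rfl⟩
    exact (Subgroup.mem_normalizer_iff.mp hb.2 u).mp (hUT hu)
  have hinv : ∀ M : Subgroup X, (∀ g ∈ M, ∃ l ∈ pElementClosure p M, ∃ b ∈ B, g = l * b) →
      B ≤ M → pElementClosure p M ≤ Subgroup.normalizer (U : Set X) →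
      ∀ g ∈ M, ∀ y ∈ Y, g * y * g⁻¹ ∈ Y := by
    rintro M hF hBM hLU g hg y ⟨b, hb, u, hu, rfl⟩
    obtain ⟨l, hl, b', hb', hgb⟩ := hF (g * b) (M.mul_mem hg (hBM hb))
    have hl' : b'⁻¹ * l * b' ∈ pElementClosure p M := by
      have := pElementClosure_conj_mem (p := p) (M.inv_mem (hBM hb')) hl
      simpa using this
    have hu' : (b'⁻¹ * l * b') * u * (b'⁻¹ * l * b')⁻¹ ∈ U :=
      (Subgroup.mem_normalizer_iff.mp (hLU hl') u).mp hu
    refine ⟨b', hb', _, hu', ?_⟩
    calc g * (b * u * b⁻¹) * g⁻¹ = (g * b) * u * (g * b)⁻¹ := by group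
      _ = (l * b') * u * (l * b')⁻¹ := by rw [hgb]
      _ = b' * ((b'⁻¹ * l * b') * u * (b'⁻¹ * l * b')⁻¹) * b'⁻¹ := by group
  have hN1 : M₁ ≤ Subgroup.normalizer Y :=
    Subgroup.le_set_normalizer_iff.mpr (hinv M₁ hF1 inf_le_left hU1)
  have hN2 : M₂ ≤ Subgroup.normalizer Y :=
    Subgroup.le_set_normalizer_iff.mpr (hinv M₂ hF2 (hB12 ▸ inf_le_left) hU2)
  have htop : Subgroup.normalizer Y = ⊤ := by
    rw [eq_top_iff, ← hc.1.1]
    exact sup_le hN1 hN2
  have hnormal : (Subgroup.closure Y).Normal := by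
    rw [← Subgroup.normalizer_eq_top_iff, eq_top_iff, ← htop]
    exact Subgroup.normalizer_le_normalizer_closure Y
  have hle : Subgroup.closure Y ≤ M₁ ⊓ M₂ := by
    rw [Subgroup.closure_le]
    exact fun y hy => hT.1 (hYT hy)
  have hbot := hc.1.2.2.2 _ hle hnormal
  rw [eq_bot_iff, ← hbot]
  intro u hu
  apply Subgroup.subset_closure
  exact ⟨1, B.one_mem, u, hu, by group⟩

end Cfsg.Agent.Lib.Helper6
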