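import Mathlib
import Cfsg.Agent.Lib.Lead.ExtraspecialCentral
import Cfsg.Agent.Lib.Lead.Frattini
import Cfsg.Prelude.Def_Transfer

set_option autoImplicit false

namespace Cfsg.Agent.Lib.Helper6

open Cfsg.Agent.Lib.Lead
open scoped commutatorElement

section
variable {E : Type*} [Group E] [Finite E]

/-- In a group whose commutators lie in a centre of order 2, a non-centralising element `g`
centralises exactly half of a subgroup `H`. -/
theorem two_mul_card_inf_centralizer (hcomm : ∀ x y : E, ⁅x, y⁆ ∈ Subgroup.center E)
    (hZ : Nat.card (Subgroup.center E) = 2) (H : Subgroup E) (g : E)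
    (hg : g ∉ Subgroup.centralizer (H : Set E)) :
    2 * Nat.card ↥(H ⊓ Subgroup.centralizer ({g} : Set E)) = Nat.card H := by
  classical
  let φ : H →* Subgroup.center E :=
    (commutatorHom (Subgroup.center E) le_rfl g (fun h => hcomm h g)).comp H.subtype
  have hφ : ∀ h : H, φ h = 1 ↔ (h : E) * g = g * h := by
    intro h
    rw [← Subtype.coe_inj]
    show ⁅(h : E), g⁆ = 1 ↔ _
    rw [commutatorElement_eq_one_iff_mul_comm]
  have hker : φ.ker = (H ⊓ Subgroup.centralizer ({g} : Set E)).subgroupOf H := by
    ext h
    rw [MonoidHom.mem_ker, hφ, Subgroup.mem_subgroupOf, Subgroup.mem_inf,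
      Subgroup.mem_centralizer_iff]
    constructor
    · intro hh
      refine ⟨h.2, ?_⟩
      intro y hy
      rw [Set.mem_singleton_iff] at hy
      rw [hy]; exact hh.symm
    · rintro ⟨-, hh⟩
      exact (hh g rfl).symm
  have hrange : φ.range = ⊤ := by
    haveI : Fact (Nat.card (Subgroup.center E)).Prime := ⟨by rw [hZ]; exact Nat.prime_two⟩
    rcases Subgroup.eq_bot_or_eq_top_of_prime_card φ.range with h | h
    · exfalso
      apply hg
      rw [Subgroup.mem_centralizer_iff]
      intro y hy
      have h1 : φ ⟨y, hy⟩ ∈ φ.range := ⟨_, rfl⟩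
      rw [h, Subgroup.mem_bot, hφ] at h1
      exact h1
    · exact h
  have hidx : φ.ker.index = 2 := by
    rw [Subgroup.index_ker, hrange, Subgroup.card_top, hZ]
  have h1 := φ.ker.card_mul_index
  rw [hidx, hker] at h1
  have h2 : Nat.card ↥((H ⊓ Subgroup.centralizer ({g} : Set E)).subgroupOf H)
      = Nat.card ↥(H ⊓ Subgroup.centralizer ({g} : Set E)) :=
    Nat.card_congr (Subgroup.subgroupOfEquivOfLe inf_le_left).toEquiv
  rw [h2] at h1
  omega

/-- Double counting: `|C_E(B)| * |B| = 2 * |E|` for `Z(E) ≤ B` (commutators in a centre of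
order 2). -/
theorem card_centralizer_mul_card (hcomm : ∀ x y : E, ⁅x, y⁆ ∈ Subgroup.center E)
    (hZ : Nat.card (Subgroup.center E) = 2) (B : Subgroup E) (hZB : Subgroup.center E ≤ B) :
    Nat.card (Subgroup.centralizer (B : Set E)) * Nat.card B = 2 * Nat.card E := by
  classical
  haveI : Fintype E := Fintype.ofFinite E
  have hcnt : ∀ K : Subgroup E,
      (Finset.univ.filter (fun x : E => x ∈ K)).card = Nat.card K := by
    intro K; exact (Nat.subtype_card _ (by simp)).symm
  have hrow : ∀ b : E, 2 * (Finset.univ.filter (fun x : E => b * x = x * b)).card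
      = Nat.card E + if b ∈ Subgroup.center E then Nat.card E else 0 := by
    intro b
    have h0 : (Finset.univ.filter (fun x : E => b * x = x * b)).card
        = Nat.card ↥((⊤ : Subgroup E) ⊓ Subgroup.centralizer ({b} : Set E)) := by
      rw [← hcnt]; congr 1; ext x
      simp [Subgroup.mem_centralizer_iff]
    rw [h0]
    by_cases hb : b ∈ Subgroup.center E
    · rw [if_pos hb]
      have h1 : (⊤ : Subgroup E) ⊓ Subgroup.centralizer ({b} : Set E) = ⊤ := by
        rw [top_inf_eq, eq_top_iff]; intro x _
        rw [Subgroup.mem_centralizer_iff]; intro y hy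
        rw [Set.mem_singleton_iff] at hy; rw [hy]
        exact (Subgroup.mem_center_iff.mp hb x).symm
      rw [h1, Subgroup.card_top]; ring
    · rw [if_neg hb, add_zero]
      have h1 := two_mul_card_inf_centralizer hcomm hZ ⊤ b (by
        rw [Subgroup.coe_top, Subgroup.centralizer_univ]; exact hb)
      rw [h1, Subgroup.card_top]
  have hcol : ∀ x : E,
      2 * ((Finset.univ.filter (fun b : E => b ∈ B)).filter (fun b => b * x = x * b)).card
      = Nat.card B + if x ∈ Subgroup.centralizer (B : Set E) then Nat.card B else 0 := by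
    intro x
    have h0 : ((Finset.univ.filter (fun b : E => b ∈ B)).filter (fun b => b * x = x * b)).card
        = Nat.card ↥(B ⊓ Subgroup.centralizer ({x} : Set E)) := by
      rw [← hcnt, Finset.filter_filter]; congr 1; ext b
      simp only [Finset.mem_filter, Finset.mem_univ, true_and, Subgroup.mem_inf,
        Subgroup.mem_centralizer_iff, Set.mem_singleton_iff, forall_eq]
      constructor
      · rintro ⟨h1, h2⟩; exact ⟨h1, h2.symm⟩
      · rintro ⟨h1, h2⟩; exact ⟨h1, h2.symm⟩
    rw [h0]
    by_cases hx : x ∈ Subgroup.centralizer (B : Set E)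
    · rw [if_pos hx]
      have h1 : B ⊓ Subgroup.centralizer ({x} : Set E) = B := by
        rw [inf_eq_left]; intro b hb
        rw [Subgroup.mem_centralizer_iff]; intro y hy
        rw [Set.mem_singleton_iff] at hy; rw [hy]
        exact ((Subgroup.mem_centralizer_iff.mp hx) b hb).symm
      rw [h1]; ring
    · rw [if_neg hx, add_zero]
      exact two_mul_card_inf_centralizer hcomm hZ B x hx
  have hdc := Finset.sum_card_bipartiteAbove_eq_sum_card_bipartiteBelow
    (s := Finset.univ.filter (fun b : E => b ∈ B)) (t := (Finset.univ : Finset E))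
    (fun b x => b * x = x * b)
  have hL : 2 * ∑ b ∈ Finset.univ.filter (fun b : E => b ∈ B),
      ((Finset.univ : Finset E).bipartiteAbove (fun b x => b * x = x * b) b).card
      = Nat.card B * Nat.card E + 2 * Nat.card E := by
    rw [Finset.mul_sum]
    have h1 : ∀ b ∈ Finset.univ.filter (fun b : E => b ∈ B),
        2 * ((Finset.univ : Finset E).bipartiteAbove (fun b x => b * x = x * b) b).card
        = Nat.card E + if b ∈ Subgroup.center E then Nat.card E else 0 := by
      intro b _
      exact hrow b
    rw [Finset.sum_congr rfl h1, Finset.sum_add_distrib, Finset.sum_const, hcnt, smul_eq_mul,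
      Finset.sum_ite, Finset.sum_const, Finset.sum_const_zero, add_zero, smul_eq_mul,
      Finset.filter_filter]
    have h2 : (Finset.univ.filter (fun a : E => a ∈ B ∧ a ∈ Subgroup.center E))
        = Finset.univ.filter (fun a : E => a ∈ Subgroup.center E) := by
      ext a; simp only [Finset.mem_filter, Finset.mem_univ, true_and]
      exact ⟨fun h => h.2, fun h => ⟨hZB h, h⟩⟩
    have h3 : (Finset.univ.filter (fun a : E => a ∈ Subgroup.center E)).card
        = Nat.card (Subgroup.center E) := by
      convert hcnt (Subgroup.center E)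
    rw [h2, h3, hZ]
  have hR : 2 * ∑ x ∈ (Finset.univ : Finset E),
      ((Finset.univ.filter (fun b : E => b ∈ B)).bipartiteBelow (fun b x => b * x = x * b) x).card
      = Nat.card E * Nat.card B + Nat.card (Subgroup.centralizer (B : Set E)) * Nat.card B := by
    rw [Finset.mul_sum]
    have h1 : ∀ x ∈ (Finset.univ : Finset E),
        2 * ((Finset.univ.filter (fun b : E => b ∈ B)).bipartiteBelow
          (fun b x => b * x = x * b) x).card
        = Nat.card B + if x ∈ Subgroup.centralizer (B : Set E) then Nat.card B else 0 := by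
      intro x _
      exact hcol x
    rw [Finset.sum_congr rfl h1, Finset.sum_add_distrib, Finset.sum_const, Finset.card_univ,
      ← Nat.card_eq_fintype_card, smul_eq_mul,
      Finset.sum_ite, Finset.sum_const, Finset.sum_const_zero, add_zero, smul_eq_mul, hcnt]
  rw [hdc] at hL
  rw [hL] at hR
  have h3 : Nat.card B * Nat.card E = Nat.card E * Nat.card B := mul_comm _ _
  omega

/-- Basic facts about an extraspecial 2-group. -/
theorem extraspecial_two_facts (hE : Cfsg.IsExtraspecial 2 E) :
    (∀ x y : E, ⁅x, y⁆ ∈ Subgroup.center E) ∧ (∀ x : E, x ^ 2 ∈ Subgroup.center E) ∧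
      Nat.card (Subgroup.center E) = 2 := by
  haveI : Fact (Nat.Prime 2) := ⟨Nat.prime_two⟩
  obtain ⟨⟨hp, hfr, hcm⟩, hZ⟩ := hE
  refine ⟨fun x y => ?_, fun x => ?_, hZ⟩
  · rw [← hcm, commutator_def]
    exact Subgroup.commutator_mem_commutator (Subgroup.mem_top x) (Subgroup.mem_top y)
  · rw [← hfr]
    exact pow_mem_frattini_of_isPGroup hp x

/-- An abelian subgroup `A` with `|A|² = 2|E|` contains the centre and is self-centralising. -/
theorem self_centralizing_of_card (hcomm : ∀ x y : E, ⁅x, y⁆ ∈ Subgroup.center E)
    (hZ : Nat.card (Subgroup.center E) = 2) (A : Subgroup E)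
    (hA : ∀ a ∈ A, ∀ b ∈ A, a * b = b * a) (hcard : Nat.card A * Nat.card A = 2 * Nat.card E) :
    Subgroup.center E ≤ A ∧ Subgroup.centralizer (A : Set E) = A := by
  classical
  have hAC : A ≤ Subgroup.centralizer (A : Set E) := by
    intro a ha
    rw [Subgroup.mem_centralizer_iff]
    intro b hb
    exact hA b hb a ha
  set B := A ⊔ Subgroup.center E with hB
  have hBC : B ≤ Subgroup.centralizer (B : Set E) := by
    rw [hB, sup_le_iff]
    constructor
    · rw [Subgroup.le_centralizer_iff, sup_le_iff]
      exact ⟨hAC, Subgroup.center_le_centralizer _⟩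
    · exact Subgroup.center_le_centralizer _
  have h1 := card_centralizer_mul_card hcomm hZ B le_sup_right
  have h2 : Nat.card B ≤ Nat.card (Subgroup.centralizer (B : Set E)) :=
    Subgroup.card_le_of_le hBC
  have h3 : Nat.card A ≤ Nat.card B := Subgroup.card_le_of_le le_sup_left
  have h4 : Nat.card B * Nat.card B ≤ Nat.card A * Nat.card A := by
    rw [hcard, ← h1]
    exact Nat.mul_le_mul_right _ h2
  have h5 : Nat.card B ≤ Nat.card A := by
    by_contra hlt
    push Not at hlt
    have := Nat.mul_lt_mul'' hlt hlt
    omega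
  have hAB : A = B := Subgroup.eq_of_le_of_card_ge le_sup_left h5
  have hZA : Subgroup.center E ≤ A := by rw [hAB]; exact le_sup_right
  refine ⟨hZA, ?_⟩
  have h6 := card_centralizer_mul_card hcomm hZ A hZA
  rw [← hcard] at h6
  have hApos : 0 < Nat.card A := Nat.card_pos
  have h7 : Nat.card (Subgroup.centralizer (A : Set E)) = Nat.card A :=
    Nat.eq_of_mul_eq_mul_right hApos h6
  exact (Subgroup.eq_of_le_of_card_ge hAC h7.le).symm

end

end Cfsg.Agent.Lib.Helper6
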