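import Mathlib
import Cfsg.Agent.Lib.Helper2.CubD0
import Cfsg.Agent.Lib.Helper9.CubPC23
import Cfsg.Agent.Lib.Helper1.CubF3
import Cfsg.Agent.Lib.Helper9.LargeExtra5

/-!
# S4415 farm-out, package PC5a (Lemma X'), core

In Case C' a normal 2-subgroup `O ≤ R` of `G` of order `> 2` is extraspecial.  The core
`Setup.pc5a_core` takes the conclusion of PC1 (abelian normal subgroups inside `R` are central)
as an explicit hypothesis `hPC1`.

Proof.  Let `z` be the central involution (PC2 core).  By strong induction on `|O|` all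
commutators and squares of a normal 2-subgroup `O ≤ R` lie in `{1, z}` (`Setup.pc5a_type`):
pick `M ≤ O` normal in `G` of least order not contained in `{1, z}`; `M` is extraspecial
(`Setup.pc5a_minimal`, as in PC3), `⁅O, M⁆ ⊆ {1, z}` (else `⁅O, M⁆ = M`, impossible in the
nilpotent group `O`), so `O` induces inner automorphisms on `M` (`f3_inner_key`) and
`O = M * C` with `C = C_O(M)` normal of smaller order; a central product of two groups of the
type is again of the type.  Finally the centre of `O` is `{1, z}` by PC1, and `O` is nonabelian.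
-/

set_option autoImplicit false
open Cfsg
open scoped commutatorElement

namespace Cfsg.Agent.Lib.Helper2.Cub

/-- Commutators in a central product. -/
theorem pc5a_central_product {G : Type*} [Group G] {s s' c c' : G}
    (h1 : Commute c s) (h2 : Commute c s') (h3 : Commute c' s) (h4 : Commute c' s') :
    (s * c) * (s' * c') * (s * c)⁻¹ * (s' * c')⁻¹
      = (s * s' * s⁻¹ * s'⁻¹) * (c * c' * c⁻¹ * c'⁻¹) := by
  have e0 : (s * c)⁻¹ = s⁻¹ * c⁻¹ := h1.symm.mul_inv
  have e0' : (s' * c')⁻¹ = s'⁻¹ * c'⁻¹ := h4.symm.mul_inv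
  have e1 : (s * c) * (s' * c') = (s * s') * (c * c') := h2.mul_mul_mul_comm s c'
  have e2 : ((s * s') * (c * c')) * (s⁻¹ * c⁻¹) = (s * s' * s⁻¹) * (c * c' * c⁻¹) :=
    (Commute.mul_left h1 h3).inv_right.mul_mul_mul_comm (s * s') c⁻¹
  have e3 : ((s * s' * s⁻¹) * (c * c' * c⁻¹)) * (s'⁻¹ * c'⁻¹)
      = (s * s' * s⁻¹ * s'⁻¹) * (c * c' * c⁻¹ * c'⁻¹) :=
    (Commute.mul_left (Commute.mul_left h2 h4) h2.inv_left).inv_right.mul_mul_mul_comm
      (s * s' * s⁻¹) c'⁻¹
  rw [e0, e0', e1, e2, e3]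

variable {G : Type*} [Group G] {W : Type*} [AddCommGroup W] [Module (ZMod 3) W]
variable [Finite G] [Finite W] {ρ : Representation (ZMod 3) G W} {R Q : Subgroup G} {b : G}

/-- A normal subgroup `M ≤ R` minimal subject to not lying in `{1, z}`: it contains `z`, its
commutators and squares lie in `{1, z}`, its centre is `{1, z}` and it is not abelian. -/
theorem Setup.pc5a_minimal (h : Setup ρ R Q b)
    (hPC1 : ∀ A : Subgroup G, A.Normal → (∀ x ∈ A, ∀ y ∈ A, x * y = y * x) → A ≤ R →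
      ∀ a ∈ A, ∀ g : G, a * g = g * a)
    {z : G} (hz1 : z ≠ 1) (hzc : ∀ g : G, z * g = g * z) (hzz : z * z = 1)
    (M : Subgroup G) (hMn : M.Normal) (hMR : M ≤ R) {x0 : G} (hx0M : x0 ∈ M) (hx01 : x0 ≠ 1)
    (hx0z : x0 ≠ z)
    (hmin : ∀ N : Subgroup G, N.Normal → N ≤ M → (∃ x ∈ N, x ≠ 1 ∧ x ≠ z) → N = M) :
    z ∈ M ∧ (∀ x ∈ M, ∀ y ∈ M, ⁅x, y⁆ = 1 ∨ ⁅x, y⁆ = z) ∧
      (∀ c ∈ M, (∀ y ∈ M, c * y = y * c) → c = 1 ∨ c = z) ∧
      (∃ x ∈ M, ∃ y ∈ M, x * y ≠ y * x) ∧ (∀ y ∈ M, y * y = 1 ∨ y * y = z) := by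
  classical
  have hcen : ∀ c : G, (∀ g : G, c * g = g * c) → c = 1 ∨ c = z := by
    intro c hc
    by_cases hc1 : c = 1
    · exact Or.inl hc1
    · exact Or.inr (h.central_eq hc hzc hc1 hz1)
  have hMne : M ≠ ⊥ := by
    intro hM
    rw [hM, Subgroup.mem_bot] at hx0M
    exact hx01 hx0M
  -- `z ∈ M`
  have hzM : z ∈ M := by
    obtain ⟨c, hcM, hc1, hcc⟩ := h.pc23_exists_central hPC1 M hMn hMR hMne
    rcases hcen c hcc with h1 | h1
    · exact absurd h1 hc1
    · rw [← h1]; exact hcM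
  -- commutators of `M` lie in `{1, z}`
  have hcomm : ∀ x ∈ M, ∀ y ∈ M, ⁅x, y⁆ = 1 ∨ ⁅x, y⁆ = z := by
    have hsolv : ∃ n : ℕ, ∀ x ∈ M ⊓ derivedSeries G n, x = 1 ∨ x = z := by
      obtain ⟨n, hn⟩ := h.solv.solvable
      refine ⟨n, fun x hx => ?_⟩
      rw [hn] at hx
      exact Or.inl (Subgroup.mem_bot.mp hx.2)
    have hspec := Nat.find_spec hsolv
    rcases hk : Nat.find hsolv with _ | j
    · exfalso
      rw [hk] at hspec
      rcases hspec x0 ⟨hx0M, by rw [derivedSeries_zero]; exact Subgroup.mem_top _⟩ with h1 | h1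
      · exact hx01 h1
      · exact hx0z h1
    · rw [hk] at hspec
      have hj : ¬ (∀ x ∈ M ⊓ derivedSeries G j, x = 1 ∨ x = z) :=
        Nat.find_min hsolv (by rw [hk]; exact Nat.lt_succ_self j)
      push Not at hj
      obtain ⟨x1, hx1, hx11, hx1z⟩ := hj
      have : (derivedSeries G j).Normal := derivedSeries_normal G j
      have : M.Normal := hMn
      have hAn : (M ⊓ derivedSeries G j).Normal := Subgroup.normal_inf_normal M (derivedSeries G j)
      have hMD : M ⊓ derivedSeries G j = M := hmin _ hAn inf_le_left ⟨x1, hx1, hx11, hx1z⟩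
      have hMle : M ≤ derivedSeries G j := by rw [← hMD]; exact inf_le_right
      intro x hx y hy
      apply hspec
      refine ⟨?_, ?_⟩
      · rw [commutatorElement_def]
        exact M.mul_mem (M.mul_mem (M.mul_mem hx hy) (M.inv_mem hx)) (M.inv_mem hy)
      · rw [derivedSeries_succ]
        exact Subgroup.commutator_mem_commutator (hMle hx) (hMle hy)
  -- the centre of `M` is `{1, z}`
  have hcenM : ∀ c ∈ M, (∀ y ∈ M, c * y = y * c) → c = 1 ∨ c = z := by
    have : M.Normal := hMn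
    have hCn : (M ⊓ Subgroup.centralizer (M : Set G)).Normal :=
      Subgroup.normal_inf_normal M (Subgroup.centralizer (M : Set G))
    have hCab : ∀ x ∈ M ⊓ Subgroup.centralizer (M : Set G),
        ∀ y ∈ M ⊓ Subgroup.centralizer (M : Set G), x * y = y * x := by
      intro x hx y hy
      exact ((Subgroup.mem_centralizer_iff.mp hx.2) y hy.1).symm
    have hCc := hPC1 _ hCn hCab (inf_le_left.trans hMR)
    intro c hc hcy
    apply hcen c
    apply hCc c
    refine Subgroup.mem_inf.mpr ⟨hc, ?_⟩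
    rw [Subgroup.mem_centralizer_iff]
    intro y hy
    exact (hcy y hy).symm
  -- `M` is not abelian
  have hna : ∃ x ∈ M, ∃ y ∈ M, x * y ≠ y * x := by
    by_contra hcon
    push Not at hcon
    have := hPC1 M hMn hcon hMR x0 hx0M
    rcases hcen x0 this with h1 | h1
    · exact hx01 h1
    · exact hx0z h1
  -- squares of `M` lie in `{1, z}`
  have hsq : ∀ y ∈ M, y * y = 1 ∨ y * y = z := by
    intro y hy
    apply hcenM (y * y) (M.mul_mem hy hy)
    intro x hx
    symm
    rcases hcomm x hx y hy with h1 | h1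
    · have h2 : x * y = y * x := commutatorElement_eq_one_iff_mul_comm.mp h1
      calc x * (y * y) = (x * y) * y := by group
        _ = (y * x) * y := by rw [h2]
        _ = y * (x * y) := by group
        _ = y * (y * x) := by rw [h2]
        _ = y * y * x := by group
    · rw [commutatorElement_def] at h1
      have h2 : x * y = z * y * x := by
        calc x * y = (x * y * x⁻¹ * y⁻¹) * y * x := by group
          _ = z * y * x := by rw [h1]
      calc x * (y * y) = (x * y) * y := by group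
        _ = (z * y * x) * y := by rw [h2]
        _ = z * y * (x * y) := by group
        _ = z * y * (z * y * x) := by rw [h2]
        _ = z * (y * z) * y * x := by group
        _ = z * (z * y) * y * x := by rw [hzc y]
        _ = (z * z) * (y * y) * x := by group
        _ = y * y * x := by rw [hzz, one_mul]
  exact ⟨hzM, hcomm, hcenM, hna, hsq⟩

/-- All commutators and squares of a normal 2-subgroup inside `R` lie in `{1, z}`. -/
theorem Setup.pc5a_type (h : Setup ρ R Q b)
    (hPC1 : ∀ A : Subgroup G, A.Normal → (∀ x ∈ A, ∀ y ∈ A, x * y = y * x) → A ≤ R →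
      ∀ a ∈ A, ∀ g : G, a * g = g * a)
    {z : G} (hz1 : z ≠ 1) (hzc : ∀ g : G, z * g = g * z) :
    ∀ n : ℕ, ∀ O : Subgroup G, O.Normal → IsPGroup 2 O → O ≤ R → Nat.card O = n →
      (∀ x ∈ O, ∀ y ∈ O, ⁅x, y⁆ = 1 ∨ ⁅x, y⁆ = z) ∧ (∀ x ∈ O, x * x = 1 ∨ x * x = z) := by
  classical
  have hcen : ∀ c : G, (∀ g : G, c * g = g * c) → c = 1 ∨ c = z := by
    intro c hc
    by_cases hc1 : c = 1
    · exact Or.inl hc1
    · exact Or.inr (h.central_eq hc hzc hc1 hz1)
  have hzz : z * z = 1 := by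
    rcases hcen (z * z) (fun g => by rw [mul_assoc, hzc g, ← mul_assoc, hzc g, mul_assoc])
      with h1 | h1
    · exact h1
    · exfalso; apply hz1
      calc z = z⁻¹ * (z * z) := by group
        _ = 1 := by rw [h1, inv_mul_cancel]
  have hmul : ∀ a c : G, (a = 1 ∨ a = z) → (c = 1 ∨ c = z) → (a * c = 1 ∨ a * c = z) := by
    intro a c ha hc
    rcases ha with ha | ha <;> rcases hc with hc | hc
    · left; rw [ha, hc, one_mul]
    · right; rw [ha, hc, one_mul]
    · right; rw [ha, hc, mul_one]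
    · left; rw [ha, hc, hzz]
  intro n
  induction n using Nat.strong_induction_on with
  | _ n ih =>
  intro O hOn hO2 hOR hcard
  by_cases hsmall : ∀ x ∈ O, x = 1 ∨ x = z
  · refine ⟨fun x hx y _ => ?_, fun x hx => ?_⟩
    · left
      have hxc : ∀ g : G, x * g = g * x := by
        rcases hsmall x hx with h1 | h1
        · intro g; rw [h1, one_mul, mul_one]
        · intro g; rw [h1]; exact hzc g
      exact commutatorElement_eq_one_iff_mul_comm.mpr (hxc y)
    · rcases hsmall x hx with h1 | h1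
      · left; rw [h1, one_mul]
      · left; rw [h1, hzz]
  push Not at hsmall
  obtain ⟨x0', hx0'O, hx0'1, hx0'z⟩ := hsmall
  -- the minimal normal subgroup
  have hex : ∃ m : ℕ, ∃ N : Subgroup G, (N.Normal ∧ N ≤ O ∧ ∃ x ∈ N, x ≠ 1 ∧ x ≠ z) ∧
      Nat.card N = m := ⟨_, O, ⟨hOn, le_rfl, x0', hx0'O, hx0'1, hx0'z⟩, rfl⟩
  obtain ⟨M, ⟨hMn, hMO, x0, hx0M, hx01, hx0z⟩, hMcard⟩ := Nat.find_spec hex
  have hmin : ∀ N : Subgroup G, N.Normal → N ≤ M → (∃ x ∈ N, x ≠ 1 ∧ x ≠ z) → N = M := by
    intro N hN hle hx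
    have h1 : Nat.find hex ≤ Nat.card N := Nat.find_min' hex ⟨N, ⟨hN, hle.trans hMO, hx⟩, rfl⟩
    exact Subgroup.eq_of_le_of_card_ge hle (by rw [hMcard]; exact h1)
  have hMR : M ≤ R := hMO.trans hOR
  obtain ⟨hzM, hcommM, hcenM, hnaM, hsqM⟩ :=
    h.pc5a_minimal hPC1 hz1 hzc hzz M hMn hMR hx0M hx01 hx0z hmin
  have hMne : M ≠ ⊥ := by
    intro hM
    rw [hM, Subgroup.mem_bot] at hx0M
    exact hx01 hx0M
  haveI : M.Normal := hMn
  haveI : O.Normal := hOn
  -- `⁅O, M⁆ ⊆ {1, z}`
  have hOM : ∀ x ∈ ⁅O, M⁆, x = 1 ∨ x = z := by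
    by_contra hcon
    push Not at hcon
    obtain ⟨x1, hx1, hx11, hx1z⟩ := hcon
    have hN : (⁅O, M⁆).Normal := Subgroup.commutator_normal O M
    have hle : ⁅O, M⁆ ≤ M := Subgroup.commutator_le_right O M
    have heq : ⁅O, M⁆ = M := hmin _ hN hle ⟨x1, hx1, hx11, hx1z⟩
    have hlcs : ∀ j : ℕ, M ≤ O.lowerCentralSeries j := by
      intro j
      induction j with
      | zero => rw [Subgroup.lowerCentralSeries_zero]; exact hMO
      | succ j ihj =>
        rw [Subgroup.lowerCentralSeries_succ]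
        calc M = ⁅O, M⁆ := heq.symm
          _ = ⁅M, O⁆ := Subgroup.commutator_comm _ _
          _ ≤ ⁅O.lowerCentralSeries j, O⁆ := Subgroup.commutator_mono ihj le_rfl
    haveI : Fact (Nat.Prime 2) := ⟨Nat.prime_two⟩
    have hnil : Group.IsNilpotent O := hO2.isNilpotent
    obtain ⟨k, hk⟩ := (Subgroup.isNilpotent_iff_lowerCentralSeries O).mp hnil
    have h1 := hlcs k
    rw [hk] at h1
    exact hMne (le_bot_iff.mp h1)
  -- `O` induces inner automorphisms on `M`
  have hinner : ∀ o ∈ O, ∃ s ∈ M, ∀ t ∈ M, o * t * o⁻¹ = s * t * s⁻¹ := by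
    intro o ho
    have hconj : ∀ t ∈ M, o * t * o⁻¹ ∈ M := fun t ht => hMn.conj_mem t ht o
    have hd : ∀ t ∈ M, t⁻¹ * (o * t * o⁻¹) = 1 ∨ t⁻¹ * (o * t * o⁻¹) = z := by
      intro t ht
      apply hOM
      have e : t⁻¹ * (o * t * o⁻¹) = ⁅t⁻¹, o⁆ := by
        rw [commutatorElement_def, inv_inv]; group
      rw [e, Subgroup.commutator_comm]
      exact Subgroup.commutator_mem_commutator (M.inv_mem ht) ho
    let zM : M := ⟨z, hzM⟩
    have hzMc : zM ∈ Subgroup.center M := by
      rw [Subgroup.mem_center_iff]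
      intro g
      apply Subtype.ext
      exact (hzc g).symm
    have hzM1 : zM ≠ 1 := fun h1 => hz1 (congrArg Subtype.val h1)
    have hZ : ∀ c ∈ Subgroup.center M, c = 1 ∨ c = zM := by
      intro c hc
      have h1 : (c : G) = 1 ∨ (c : G) = z := hcenM c c.2 (fun y hy => by
        have := (Subgroup.mem_center_iff.mp hc) ⟨y, hy⟩
        exact (congrArg Subtype.val this).symm)
      rcases h1 with h1 | h1
      · left; exact Subtype.ext h1
      · right; exact Subtype.ext h1
    have hcases : ∀ c : M, ((c : G) = 1 ∨ (c : G) = z) → c ∈ Subgroup.center M := by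
      intro c hc
      rcases hc with h1 | h1
      · have : c = 1 := Subtype.ext h1
        rw [this]; exact Subgroup.one_mem _
      · have : c = zM := Subtype.ext h1
        rw [this]; exact hzMc
    have hcomm' : ∀ a c : M, a⁻¹ * c⁻¹ * a * c ∈ Subgroup.center M := by
      intro a c
      apply hcases
      have h1 := hcommM ((a : G)⁻¹) (M.inv_mem a.2) ((c : G)⁻¹) (M.inv_mem c.2)
      rw [commutatorElement_def, inv_inv, inv_inv] at h1
      exact h1
    let δ : M → M := fun t =>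
      ⟨(t : G)⁻¹ * (o * t * o⁻¹), M.mul_mem (M.inv_mem t.2) (hconj t t.2)⟩
    have hδval : ∀ t : M, ((δ t : M) : G) = (t : G)⁻¹ * (o * t * o⁻¹) := fun t => rfl
    have hδZ : ∀ t, δ t ∈ Subgroup.center M := fun t => hcases _ (hd t t.2)
    have hδmul : ∀ a c, δ (a * c) = δ a * δ c := by
      intro a c
      apply Subtype.ext
      rw [Subgroup.coe_mul, hδval, hδval, hδval, Subgroup.coe_mul]
      have hc : ∀ g : G, ((a : G)⁻¹ * (o * a * o⁻¹)) * g = g * ((a : G)⁻¹ * (o * a * o⁻¹)) := by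
        rcases hd a a.2 with h1 | h1
        · intro g; rw [h1, one_mul, mul_one]
        · intro g; rw [h1]; exact hzc g
      calc ((a : G) * c)⁻¹ * (o * ((a : G) * c) * o⁻¹)
          = ((c : G)⁻¹ * ((a : G)⁻¹ * (o * a * o⁻¹))) * (o * c * o⁻¹) := by group
        _ = (((a : G)⁻¹ * (o * a * o⁻¹)) * (c : G)⁻¹) * (o * c * o⁻¹) := by rw [← hc]
        _ = (a : G)⁻¹ * (o * a * o⁻¹) * ((c : G)⁻¹ * (o * c * o⁻¹)) := by group
    have hδc : ∀ c ∈ Subgroup.center M, δ c = 1 := by
      intro c hc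
      apply Subtype.ext
      rw [hδval]
      have hcc : ∀ g : G, (c : G) * g = g * c := by
        rcases hZ c hc with h1 | h1
        · intro g; rw [h1]; simp
        · intro g; rw [h1]; exact hzc g
      show (c : G)⁻¹ * (o * c * o⁻¹) = 1
      rw [← hcc o]; group
    obtain ⟨s, hs⟩ := f3_inner_key (Nat.card M) M rfl zM hzMc hzM1 hZ hcomm' δ hδZ hδmul hδc
    refine ⟨s, s.2, fun t ht => ?_⟩
    have h1 := congrArg Subtype.val (hs ⟨t, ht⟩)
    have h2 : t⁻¹ * (o * t * o⁻¹) = t⁻¹ * s * t * (s : G)⁻¹ := h1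
    calc o * t * o⁻¹ = t * (t⁻¹ * (o * t * o⁻¹)) := by group
      _ = t * (t⁻¹ * s * t * (s : G)⁻¹) := by rw [h2]
      _ = s * t * (s : G)⁻¹ := by group
  -- the centraliser of `M` in `O`
  have hCn : (O ⊓ Subgroup.centralizer (M : Set G)).Normal :=
    Subgroup.normal_inf_normal O (Subgroup.centralizer (M : Set G))
  have hCO : O ⊓ Subgroup.centralizer (M : Set G) ≤ O := inf_le_left
  have hClt : Nat.card ↥(O ⊓ Subgroup.centralizer (M : Set G)) < n := by
    by_contra hcon
    push Not at hcon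
    have hCeq : O ⊓ Subgroup.centralizer (M : Set G) = O :=
      Subgroup.eq_of_le_of_card_ge hCO (by rw [hcard]; exact hcon)
    obtain ⟨x, hx, y, hy, hxy⟩ := hnaM
    apply hxy
    have hxC : x ∈ O ⊓ Subgroup.centralizer (M : Set G) := by rw [hCeq]; exact hMO hx
    exact ((Subgroup.mem_centralizer_iff.mp hxC.2) y hy).symm
  obtain ⟨hcommC, hsqC⟩ := ih _ hClt (O ⊓ Subgroup.centralizer (M : Set G)) hCn
    (hO2.to_le hCO) (hCO.trans hOR) rfl
  have hdecomp : ∀ x ∈ O, ∃ s ∈ M, ∃ c ∈ O ⊓ Subgroup.centralizer (M : Set G), x = s * c := by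
    intro x hx
    obtain ⟨s, hsM, hs⟩ := hinner x hx
    have hcz : s⁻¹ * x ∈ Subgroup.centralizer (M : Set G) := by
      rw [Subgroup.mem_centralizer_iff]
      intro t ht
      have h1 := hs t ht
      calc t * (s⁻¹ * x) = s⁻¹ * (s * t * s⁻¹) * x := by group
        _ = s⁻¹ * (x * t * x⁻¹) * x := by rw [h1]
        _ = s⁻¹ * x * t := by group
    exact ⟨s, hsM, s⁻¹ * x,
      Subgroup.mem_inf.mpr ⟨O.mul_mem (O.inv_mem (hMO hsM)) hx, hcz⟩, by group⟩
  have hCM : ∀ c ∈ O ⊓ Subgroup.centralizer (M : Set G), ∀ s ∈ M, Commute c s := by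
    intro c hc s hs
    exact ((Subgroup.mem_centralizer_iff.mp hc.2) s hs).symm
  refine ⟨fun x hx y hy => ?_, fun x hx => ?_⟩
  · obtain ⟨s, hs, c, hc, rfl⟩ := hdecomp x hx
    obtain ⟨s', hs', c', hc', rfl⟩ := hdecomp y hy
    rw [commutatorElement_def, pc5a_central_product (hCM c hc s hs) (hCM c hc s' hs')
      (hCM c' hc' s hs) (hCM c' hc' s' hs')]
    apply hmul
    · have := hcommM s hs s' hs'
      rwa [commutatorElement_def] at this
    · have := hcommC c hc c' hc'
      rwa [commutatorElement_def] at this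
  · obtain ⟨s, hs, c, hc, rfl⟩ := hdecomp x hx
    rw [(hCM c hc s hs).mul_mul_mul_comm s c]
    exact hmul _ _ (hsqM s hs) (hsqC c hc)

/-- PC5a core: Lemma X' with the conclusion of PC1 as an explicit hypothesis. -/
theorem Setup.pc5a_core (h : Setup ρ R Q b)
    (hPC1 : ∀ A : Subgroup G, A.Normal → (∀ x ∈ A, ∀ y ∈ A, x * y = y * x) → A ≤ R →
      ∀ a ∈ A, ∀ g : G, a * g = g * a)
    (O : Subgroup G) (hOn : O.Normal) (hO2 : IsPGroup 2 O) (hOR : O ≤ R)
    (hbig : 2 < Nat.card O) : IsExtraspecial 2 O := by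
  classical
  obtain ⟨z, -, hz1, hzc, -⟩ := h.pc2_core hPC1
  have hcen : ∀ c : G, (∀ g : G, c * g = g * c) → c = 1 ∨ c = z := by
    intro c hc
    by_cases hc1 : c = 1
    · exact Or.inl hc1
    · exact Or.inr (h.central_eq hc hzc hc1 hz1)
  have hzz : z * z = 1 := by
    rcases hcen (z * z) (fun g => by rw [mul_assoc, hzc g, ← mul_assoc, hzc g, mul_assoc])
      with h1 | h1
    · exact h1
    · exfalso; apply hz1
      calc z = z⁻¹ * (z * z) := by group
        _ = 1 := by rw [h1, inv_mul_cancel]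
  obtain ⟨hcomm, hsq⟩ := h.pc5a_type hPC1 hz1 hzc (Nat.card O) O hOn hO2 hOR rfl
  have hOne : O ≠ ⊥ := by
    intro hO
    rw [hO, Subgroup.card_bot] at hbig
    omega
  have hzO : z ∈ O := by
    obtain ⟨c, hcO, hc1, hcc⟩ := h.pc23_exists_central hPC1 O hOn hOR hOne
    rcases hcen c hcc with h1 | h1
    · exact absurd h1 hc1
    · rw [← h1]; exact hcO
  obtain ⟨x0, hx0O, hx0⟩ := f5_exists_notMem O ({1, z} : Finset G) (by
    calc ({1, z} : Finset G).card ≤ 2 := Finset.card_le_two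
      _ < Nat.card O := hbig)
  simp only [Finset.mem_insert, Finset.mem_singleton, not_or] at hx0
  -- `O` is not abelian
  have hna : ∃ x ∈ O, ∃ y ∈ O, x * y ≠ y * x := by
    by_contra hcon
    push Not at hcon
    have := hPC1 O hOn hcon hOR x0 hx0O
    rcases hcen x0 this with h1 | h1
    · exact hx0.1 h1
    · exact hx0.2 h1
  -- the centre of `O` is `{1, z}`
  have hcenO : ∀ c ∈ O, (∀ y ∈ O, c * y = y * c) → c = 1 ∨ c = z := by
    have : O.Normal := hOn
    have hCn : (O ⊓ Subgroup.centralizer (O : Set G)).Normal :=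
      Subgroup.normal_inf_normal O (Subgroup.centralizer (O : Set G))
    have hCab : ∀ x ∈ O ⊓ Subgroup.centralizer (O : Set G),
        ∀ y ∈ O ⊓ Subgroup.centralizer (O : Set G), x * y = y * x := by
      intro x hx y hy
      exact ((Subgroup.mem_centralizer_iff.mp hx.2) y hy.1).symm
    have hCc := hPC1 _ hCn hCab (inf_le_left.trans hOR)
    intro c hc hcy
    apply hcen c
    apply hCc c
    refine Subgroup.mem_inf.mpr ⟨hc, ?_⟩
    rw [Subgroup.mem_centralizer_iff]
    intro y hy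
    exact (hcy y hy).symm
  have hz' : (⟨z, hzO⟩ : O) ∈ Subgroup.center O := by
    rw [Subgroup.mem_center_iff]
    intro g
    apply Subtype.ext
    exact (hzc g).symm
  have hcases : ∀ c : O, ((c : G) = 1 ∨ (c : G) = z) → c ∈ Subgroup.center O := by
    intro c hc
    rcases hc with h1 | h1
    · have : c = 1 := Subtype.ext h1
      rw [this]; exact Subgroup.one_mem _
    · have : c = ⟨z, hzO⟩ := Subtype.ext h1
      rw [this]; exact hz'
  have hcenter : Subgroup.center O = Subgroup.zpowers (⟨z, hzO⟩ : O) := by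
    apply le_antisymm
    · intro c hc
      have : (c : G) = 1 ∨ (c : G) = z := hcenO c c.2 (fun y hy => by
        have := (Subgroup.mem_center_iff.mp hc) ⟨y, hy⟩
        exact (congrArg Subtype.val this).symm)
      rcases this with h1 | h1
      · have : c = 1 := Subtype.ext h1
        rw [this]; exact Subgroup.one_mem _
      · have : c = ⟨z, hzO⟩ := Subtype.ext h1
        rw [this]; exact Subgroup.mem_zpowers _
    · rw [Subgroup.zpowers_le]; exact hz'
  have hcard : Nat.card (Subgroup.center O) = 2 := by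
    rw [hcenter, Nat.card_zpowers]
    have : Fact (Nat.Prime 2) := ⟨Nat.prime_two⟩
    apply orderOf_eq_prime
    · apply Subtype.ext
      rw [pow_two]; exact hzz
    · intro h1; exact hz1 (congrArg Subtype.val h1)
  apply Cfsg.Agent.Lib.Helper9.LargeExtra.isExtraspecial_of_type hO2 hcard
  · intro x y
    apply hcases
    have := hcomm x x.2 y y.2
    exact this
  · intro x
    apply hcases
    have := hsq x x.2
    rw [pow_two]
    exact this
  · obtain ⟨x, hx, y, hy, hxy⟩ := hna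
    refine ⟨⟨x, hx⟩, ⟨y, hy⟩, ?_⟩
    intro h1
    apply hxy
    have h3 : (⟨x, hx⟩ : O) * ⟨y, hy⟩ = ⟨y, hy⟩ * ⟨x, hx⟩ :=
      commutatorElement_eq_one_iff_mul_comm.mp h1
    exact congrArg Subtype.val h3

end Cfsg.Agent.Lib.Helper2.Cub
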