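import Mathlib
import Cfsg.Agent.Lib.Helper2.CubD0
import Cfsg.Agent.Lib.Helper9.CubPC1
import Cfsg.Agent.Lib.Helper6.CubPC5a

/-!
# S4415 farm-out, package PC5a (Lemma X'): exact-signature wrapper
-/

set_option autoImplicit false
open Cfsg

namespace Cfsg.Agent.Lib.Helper2.Cub

variable {G : Type*} [Group G] {W : Type*} [AddCommGroup W] [Module (ZMod 3) W]
variable [Finite G] [Finite W] {ρ : Representation (ZMod 3) G W} {R Q : Subgroup G} {b : G}

/-- PC5a = Lemma X': in Case C' a normal 2-subgroup of order > 2 inside `R` is extraspecial. -/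
theorem Setup.pc5a_extraspecial (h : Setup ρ R Q b) (hC : CaseC G) (O : Subgroup G) (hOn : O.Normal)
    (hO2 : IsPGroup 2 O) (hOR : O ≤ R) (hbig : 2 < Nat.card O) : IsExtraspecial 2 O :=
  h.pc5a_core (fun A hA hab hAR => h.pc1_abelian_central hC A hA hab hAR) O hOn hO2 hOR hbig

end Cfsg.Agent.Lib.Helper2.Cub
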