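import Mathlib
import Cfsg.Prelude.Def_Transfer
import Cfsg.Agent.Lib.Lead.FrobNPC5
import Cfsg.Agent.Lib.Helper4.NPC

set_option autoImplicit false

namespace Cfsg.Agent.Lib.Helper6

variable {G : Type*} [Group G]

theorem orderOf_conj_h6 (g x : G) : orderOf (g * x * g⁻¹) = orderOf x := by
  have := MulEquiv.orderOf_eq (MulAut.conj g) x
  rwa [MulAut.conj_apply] at this

theorem orderOf_conj_inv_h6 (g x : G) : orderOf (g⁻¹ * x * g) = orderOf x := by
  have := orderOf_conj_h6 g⁻¹ x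
  rwa [inv_inv] at this

/-- In a cyclic group `⟨a⟩` of order `2 ^ n` (`n ≥ 1`) the only involution is `a ^ 2 ^ (n - 1)`. -/
theorem involution_zpowers {a y : G} {n : ℕ} (hn : 1 ≤ n) (ha : orderOf a = 2 ^ n)
    (hy : y ∈ Subgroup.zpowers a) (hy2 : orderOf y = 2) : y = a ^ (2 ^ (n - 1)) := by
  have hfin : IsOfFinOrder a := by rw [← orderOf_pos_iff, ha]; positivity
  rw [← hfin.mem_powers_iff_mem_zpowers, Submonoid.mem_powers_iff] at hy
  obtain ⟨m, rfl⟩ := hy
  obtain ⟨j, rfl⟩ : ∃ j, n = j + 1 := ⟨n - 1, by omega⟩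
  simp only [Nat.add_sub_cancel]
  have h1 : (a ^ m) ^ 2 = 1 := by rw [← hy2]; exact pow_orderOf_eq_one _
  rw [← pow_mul] at h1
  have h2 := orderOf_dvd_of_pow_eq_one h1
  rw [ha, pow_succ] at h2
  have h3 : 2 ^ j ∣ m := Nat.dvd_of_mul_dvd_mul_right (by norm_num) h2
  obtain ⟨t, rfl⟩ := h3
  have hz2 : (a ^ 2 ^ j) ^ 2 = 1 := by
    rw [← pow_mul, ← pow_succ, ← ha]; exact pow_orderOf_eq_one _
  rw [pow_mul]
  rcases Nat.even_or_odd' t with ⟨s, rfl | rfl⟩
  · exfalso
    have : (a ^ 2 ^ j) ^ (2 * s) = 1 := by rw [pow_mul, hz2, one_pow]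
    rw [pow_mul, this, orderOf_one] at hy2
    omega
  · rw [pow_succ, pow_mul, hz2, one_pow, one_mul]

theorem pow_eq_of_mem_zpowers {a y : G} {n k : ℕ} (hn : 1 ≤ n) (ha : orderOf a = 2 ^ n)
    (hy : y ∈ Subgroup.zpowers a) (hk : 1 ≤ k) (hyo : orderOf y = 2 ^ k) :
    y ^ (2 ^ (k - 1)) = a ^ (2 ^ (n - 1)) := by
  apply involution_zpowers hn ha (Subgroup.pow_mem _ hy _)
  rw [orderOf_pow_of_dvd (by positivity) (by rw [hyo]; exact pow_dvd_pow 2 (Nat.sub_le k 1)), hyo]
  obtain ⟨j, rfl⟩ : ∃ j, k = j + 1 := ⟨k - 1, by omega⟩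
  simp [pow_succ]

theorem index_zpowers_subgroupOf (S : Subgroup G) {a : G} {n : ℕ}
    (hS : Nat.card S = 2 ^ (n + 1)) (ha : a ∈ S) (hao : orderOf a = 2 ^ n) :
    ((Subgroup.zpowers a).subgroupOf S).index = 2 := by
  have hle : Subgroup.zpowers a ≤ S := (Subgroup.zpowers_le).mpr ha
  have h1 := Subgroup.card_mul_index ((Subgroup.zpowers a).subgroupOf S)
  have h2 : Nat.card ((Subgroup.zpowers a).subgroupOf S) = 2 ^ n := by
    rw [Nat.card_congr (Subgroup.subgroupOfEquivOfLe hle).toEquiv, Nat.card_zpowers, hao]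
  rw [h2, hS, pow_succ] at h1
  exact Nat.eq_of_mul_eq_mul_left (by positivity) h1

/-- If `S` has order `2 ^ (n + 1)` and contains `a` of order `2 ^ n`, then every element of `S` of
order `2 ^ k ≥ 4` has the same involution `a ^ 2 ^ (n - 1)` among its powers. -/
theorem pow_eq_of_mem_of_card (S : Subgroup G) {a x : G} {n k : ℕ} (hn : 1 ≤ n)
    (hS : Nat.card S = 2 ^ (n + 1)) (ha : a ∈ S) (hao : orderOf a = 2 ^ n) (hx : x ∈ S)
    (hk : 2 ≤ k) (hxo : orderOf x = 2 ^ k) : x ^ (2 ^ (k - 1)) = a ^ (2 ^ (n - 1)) := by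
  have hidx := index_zpowers_subgroupOf S hS ha hao
  have hsq : x ^ 2 ∈ Subgroup.zpowers a := by
    have := Subgroup.sq_mem_of_index_two hidx ⟨x, hx⟩
    rwa [Subgroup.mem_subgroupOf] at this
  have ho2 : orderOf (x ^ 2) = 2 ^ (k - 1) := by
    rw [orderOf_pow_of_dvd (by norm_num) (by rw [hxo]; exact dvd_pow_self 2 (by omega)), hxo]
    obtain ⟨j, rfl⟩ : ∃ j, k = j + 1 := ⟨k - 1, by omega⟩
    simp [pow_succ]
  have h := pow_eq_of_mem_zpowers hn hao hsq (by omega : 1 ≤ k - 1) ho2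
  rw [← pow_mul] at h
  rw [← h]
  congr 1
  obtain ⟨j, rfl⟩ : ∃ j, k = j + 2 := ⟨k - 2, by omega⟩
  simp [pow_succ]; ring

/-- A group with a cyclic Sylow 2-subgroup has a normal 2-complement. -/
theorem hasNormalPComplement_two_of_cyclic [Finite G] (T : Sylow 2 G)
    (hT : IsCyclic (T : Subgroup G)) : Cfsg.HasNormalPComplement 2 G := by
  haveI : Fact (Nat.Prime 2) := ⟨Nat.prime_two⟩
  by_cases heven : 2 ∣ Nat.card G
  · have hmin : (Nat.card G).minFac = 2 := (Nat.minFac_eq_two_iff _).mpr heven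
    have hT' : IsCyclic T := hT
    exact ⟨T, _, MonoidHom.normal_ker _, hT'.isComplement' hmin⟩
  · refine ⟨T, ⊤, inferInstance, ?_⟩
    have hbot : (T : Subgroup G) = ⊥ := by
      obtain ⟨k, hk⟩ := IsPGroup.iff_card.mp T.isPGroup'
      have h1 : Nat.card (T : Subgroup G) ∣ Nat.card G := Subgroup.card_subgroup_dvd_card _
      rw [hk] at h1
      rcases Nat.eq_zero_or_pos k with rfl | hk0
      · rw [pow_zero] at hk
        exact Subgroup.eq_bot_of_card_eq _ hk
      · exact absurd ((dvd_pow_self 2 (by omega)).trans h1) heven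
    rw [hbot]
    exact Subgroup.isComplement'_top_bot

/-- A normal `p`-complement of a normal subgroup of `p`-power index is a normal `p`-complement of
the whole group. -/
theorem hasNormalPComplement_of_normal_index_pow [Finite G] {p : ℕ} [Fact p.Prime]
    (M : Subgroup G) [hM : M.Normal] (k : ℕ) (hidx : M.index = p ^ k)
    (h : Cfsg.HasNormalPComplement p M) : Cfsg.HasNormalPComplement p G := by
  obtain ⟨T, K, hKn, hc⟩ := h
  obtain ⟨j, hj⟩ := Lead.index_eq_pow_of_isComplement' T K hc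
  have hKcop := Lead.card_coprime_of_isComplement' T K hc
  haveI := hKn
  have hn : (K.map M.subtype).Normal := by
    constructor
    rintro _ ⟨x, hx, rfl⟩ g
    have hmem : g * (x : G) * g⁻¹ ∈ M := hM.conj_mem _ x.2 g
    refine ⟨⟨_, hmem⟩, ?_, rfl⟩
    apply Lead.mem_of_coprime_orderOf K ⟨j, hj⟩
    have h1 : orderOf (⟨g * x * g⁻¹, hmem⟩ : M) = orderOf x := by
      rw [← Subgroup.orderOf_coe, ← Subgroup.orderOf_coe x]
      exact orderOf_conj_h6 g (x : G)
    rw [h1]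
    have h2 : orderOf x ∣ Nat.card K := by
      have := orderOf_dvd_natCard (⟨x, hx⟩ : K)
      rwa [Subgroup.orderOf_mk] at this
    exact Nat.Coprime.coprime_dvd_left h2 hKcop
  apply Helper4.hasNormalPComplement_of_normal_coprime (K.map M.subtype) hn _ (j + k)
  · rw [Subgroup.index_map_subtype, hj, hidx, pow_add]
  · rw [Subgroup.card_map_of_injective M.subtype_injective]
    exact hKcop

end Cfsg.Agent.Lib.Helper6
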