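import Mathlib
import Cfsg.Prelude.Def_G2
set_option autoImplicit false

/-!
# The group `G₂(F)` of automorphisms of Zorn's vector-matrix algebra: basic definitions (S4632 swarm)

* `mk8 α a b β` : the vector matrix `[[α, a], [b, β]]` as an element of `Fin 8 → F`;
* `act g x` : the action of `g : G2 F` on `Fin 8 → F`;
* `ofLinear φ ψ` : the element of `G2 F` given by a multiplicative linear map `φ` with left inverse `ψ`.
-/

namespace Cfsg.Agent.Lib.Helper6.G2O

open Cfsg Cfsg.Lie Matrix

variable {F : Type*} [Field F]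

/-- the vector matrix `[[α, a], [b, β]]` -/
def mk8 (α : F) (a b : Fin 3 → F) (β : F) : Fin 8 → F := ![α, a 0, a 1, a 2, b 0, b 1, b 2, β]

@[simp] theorem mk8_apply_0 (α : F) (a b : Fin 3 → F) (β : F) : mk8 α a b β 0 = α := rfl
@[simp] theorem mk8_apply_1 (α : F) (a b : Fin 3 → F) (β : F) : mk8 α a b β 1 = a 0 := rfl
@[simp] theorem mk8_apply_2 (α : F) (a b : Fin 3 → F) (β : F) : mk8 α a b β 2 = a 1 := rfl
@[simp] theorem mk8_apply_3 (α : F) (a b : Fin 3 → F) (β : F) : mk8 α a b β 3 = a 2 := rfl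
@[simp] theorem mk8_apply_4 (α : F) (a b : Fin 3 → F) (β : F) : mk8 α a b β 4 = b 0 := rfl
@[simp] theorem mk8_apply_5 (α : F) (a b : Fin 3 → F) (β : F) : mk8 α a b β 5 = b 1 := rfl
@[simp] theorem mk8_apply_6 (α : F) (a b : Fin 3 → F) (β : F) : mk8 α a b β 6 = b 2 := rfl
@[simp] theorem mk8_apply_7 (α : F) (a b : Fin 3 → F) (β : F) : mk8 α a b β 7 = β := rfl

theorem vec3_eta (a : Fin 3 → F) : ![a 0, a 1, a 2] = a := by
  ext i; fin_cases i <;> rfl

@[simp] theorem zA_mk8 (α : F) (a b : Fin 3 → F) (β : F) : zA F (mk8 α a b β) = a := vec3_eta a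
@[simp] theorem zB_mk8 (α : F) (a b : Fin 3 → F) (β : F) : zB F (mk8 α a b β) = b := vec3_eta b

theorem mk8_eta (x : Fin 8 → F) : mk8 (x 0) (zA F x) (zB F x) (x 7) = x := by
  ext i; fin_cases i <;> rfl

theorem mk8_inj {α α' β β' : F} {a a' b b' : Fin 3 → F} (h : mk8 α a b β = mk8 α' a' b' β') :
    α = α' ∧ a = a' ∧ b = b' ∧ β = β' := by
  refine ⟨by simpa using congrFun h 0, ?_, ?_, by simpa using congrFun h 7⟩
  · rw [← zA_mk8 α a b β, h, zA_mk8]
  · rw [← zB_mk8 α a b β, h, zB_mk8]

theorem mk8_add (α α' : F) (a a' b b' : Fin 3 → F) (β β' : F) :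
    mk8 α a b β + mk8 α' a' b' β' = mk8 (α + α') (a + a') (b + b') (β + β') := by
  ext i; fin_cases i <;> rfl

theorem mk8_smul (r α : F) (a b : Fin 3 → F) (β : F) :
    r • mk8 α a b β = mk8 (r * α) (r • a) (r • b) (r * β) := by
  ext i; fin_cases i <;> rfl

theorem mk8_neg (α : F) (a b : Fin 3 → F) (β : F) : - mk8 α a b β = mk8 (-α) (-a) (-b) (-β) := by
  ext i; fin_cases i <;> rfl

theorem mk8_sub (α α' : F) (a a' b b' : Fin 3 → F) (β β' : F) :
    mk8 α a b β - mk8 α' a' b' β' = mk8 (α - α') (a - a') (b - b') (β - β') := by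
  ext i; fin_cases i <;> rfl

theorem mk8_zero : mk8 (0 : F) 0 0 0 = 0 := by
  ext i; fin_cases i <;> rfl

theorem mk8_eq_zero_iff {α β : F} {a b : Fin 3 → F} : mk8 α a b β = 0 ↔ α = 0 ∧ a = 0 ∧ b = 0 ∧ β = 0 := by
  rw [← mk8_zero]
  exact ⟨mk8_inj, fun ⟨h1, h2, h3, h4⟩ => by rw [h1, h2, h3, h4]⟩

/-! ### dot and cross product -/

theorem dot3_comm (u v : Fin 3 → F) : dot3 u v = dot3 v u := by unfold dot3; ring
theorem dot3_add_left (u u' v : Fin 3 → F) : dot3 (u + u') v = dot3 u v + dot3 u' v := by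
  simp only [dot3, Pi.add_apply]; ring
theorem dot3_add_right (u v v' : Fin 3 → F) : dot3 u (v + v') = dot3 u v + dot3 u v' := by
  simp only [dot3, Pi.add_apply]; ring
theorem dot3_smul_left (r : F) (u v : Fin 3 → F) : dot3 (r • u) v = r * dot3 u v := by
  simp only [dot3, Pi.smul_apply, smul_eq_mul]; ring
theorem dot3_smul_right (r : F) (u v : Fin 3 → F) : dot3 u (r • v) = r * dot3 u v := by
  simp only [dot3, Pi.smul_apply, smul_eq_mul]; ring
@[simp] theorem dot3_zero_left (v : Fin 3 → F) : dot3 0 v = 0 := by simp [dot3]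
@[simp] theorem dot3_zero_right (v : Fin 3 → F) : dot3 v 0 = 0 := by simp [dot3]
theorem dot3_neg_left (u v : Fin 3 → F) : dot3 (-u) v = - dot3 u v := by
  simp only [dot3, Pi.neg_apply]; ring
theorem dot3_neg_right (u v : Fin 3 → F) : dot3 u (-v) = - dot3 u v := by
  simp only [dot3, Pi.neg_apply]; ring
theorem dot3_eq_dotProduct (u v : Fin 3 → F) : dot3 u v = u ⬝ᵥ v := by
  simp [dot3, dotProduct, Fin.sum_univ_three]

theorem cross3_apply_0 (u v : Fin 3 → F) : cross3 u v 0 = u 1 * v 2 - u 2 * v 1 := rfl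
theorem cross3_apply_1 (u v : Fin 3 → F) : cross3 u v 1 = u 2 * v 0 - u 0 * v 2 := rfl
theorem cross3_apply_2 (u v : Fin 3 → F) : cross3 u v 2 = u 0 * v 1 - u 1 * v 0 := rfl

theorem cross3_self (u : Fin 3 → F) : cross3 u u = 0 := by
  ext i; fin_cases i <;> simp [cross3] <;> ring
theorem cross3_anticomm (u v : Fin 3 → F) : cross3 u v = - cross3 v u := by
  ext i; fin_cases i <;> simp [cross3] <;> ring
@[simp] theorem cross3_zero_left (v : Fin 3 → F) : cross3 0 v = 0 := by
  ext i; fin_cases i <;> simp [cross3]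
@[simp] theorem cross3_zero_right (v : Fin 3 → F) : cross3 v 0 = 0 := by
  ext i; fin_cases i <;> simp [cross3]
theorem cross3_add_left (u u' v : Fin 3 → F) : cross3 (u + u') v = cross3 u v + cross3 u' v := by
  ext i; fin_cases i <;> simp [cross3] <;> ring
theorem cross3_add_right (u v v' : Fin 3 → F) : cross3 u (v + v') = cross3 u v + cross3 u v' := by
  ext i; fin_cases i <;> simp [cross3] <;> ring
theorem cross3_smul_left (r : F) (u v : Fin 3 → F) : cross3 (r • u) v = r • cross3 u v := by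
  ext i; fin_cases i <;> simp [cross3] <;> ring
theorem cross3_smul_right (r : F) (u v : Fin 3 → F) : cross3 u (r • v) = r • cross3 u v := by
  ext i; fin_cases i <;> simp [cross3] <;> ring
theorem cross3_neg_left (u v : Fin 3 → F) : cross3 (-u) v = - cross3 u v := by
  ext i; fin_cases i <;> simp [cross3] <;> ring
theorem cross3_neg_right (u v : Fin 3 → F) : cross3 u (-v) = - cross3 u v := by
  ext i; fin_cases i <;> simp [cross3] <;> ring
theorem dot3_cross3_self_left (u v : Fin 3 → F) : dot3 u (cross3 u v) = 0 := by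
  simp [dot3, cross3]; ring
theorem dot3_cross3_self_right (u v : Fin 3 → F) : dot3 v (cross3 u v) = 0 := by
  simp [dot3, cross3]; ring

/-! ### the product in block form -/

theorem zornMul_mk8 (α β γ δ : F) (a b c d : Fin 3 → F) :
    zornMul (mk8 α a b β) (mk8 γ c d δ) =
      mk8 (α * γ + dot3 a d) (α • c + δ • a - cross3 b d) (γ • b + β • d + cross3 a c) (dot3 b c + β * δ) := by
  have hA : ∀ (α β : F) (a b : Fin 3 → F), zA F (mk8 α a b β) = a := fun α β a b => zA_mk8 α a b β
  have hB : ∀ (α β : F) (a b : Fin 3 → F), zB F (mk8 α a b β) = b := fun α β a b => zB_mk8 α a b β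
  unfold zornMul
  simp only [hA, hB, mk8_apply_0, mk8_apply_7]
  rfl

theorem zornMul_add_left (x x' y : Fin 8 → F) : zornMul (x + x') y = zornMul x y + zornMul x' y := by
  rw [← mk8_eta x, ← mk8_eta x', ← mk8_eta y, mk8_add, zornMul_mk8, zornMul_mk8, zornMul_mk8, mk8_add]
  congr 1
  · rw [dot3_add_left]; ring
  · rw [cross3_add_left]; module
  · rw [cross3_add_left]; module
  · rw [dot3_add_left]; ring

theorem zornMul_add_right (x y y' : Fin 8 → F) : zornMul x (y + y') = zornMul x y + zornMul x y' := by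
  rw [← mk8_eta x, ← mk8_eta y, ← mk8_eta y', mk8_add, zornMul_mk8, zornMul_mk8, zornMul_mk8, mk8_add]
  congr 1
  · rw [dot3_add_right]; ring
  · rw [cross3_add_right]; module
  · rw [cross3_add_right]; module
  · rw [dot3_add_right]; ring

theorem zornMul_smul_left (r : F) (x y : Fin 8 → F) : zornMul (r • x) y = r • zornMul x y := by
  rw [← mk8_eta x, ← mk8_eta y, mk8_smul, zornMul_mk8, zornMul_mk8, mk8_smul]
  congr 1
  · rw [dot3_smul_left]; ring
  · rw [cross3_smul_left]; module
  · rw [cross3_smul_left]; module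
  · rw [dot3_smul_left]; ring

theorem zornMul_smul_right (r : F) (x y : Fin 8 → F) : zornMul x (r • y) = r • zornMul x y := by
  rw [← mk8_eta x, ← mk8_eta y, mk8_smul, zornMul_mk8, zornMul_mk8, mk8_smul]
  congr 1
  · rw [dot3_smul_right]; ring
  · rw [cross3_smul_right]; module
  · rw [cross3_smul_right]; module
  · rw [dot3_smul_right]; ring

@[simp] theorem zornMul_zero_left (y : Fin 8 → F) : zornMul 0 y = 0 := by
  have := zornMul_smul_left (0 : F) 0 y
  simpa using this

@[simp] theorem zornMul_zero_right (x : Fin 8 → F) : zornMul x 0 = 0 := by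
  have := zornMul_smul_right (0 : F) x 0
  simpa using this

theorem zornMul_neg_left (x y : Fin 8 → F) : zornMul (-x) y = - zornMul x y := by
  have := zornMul_smul_left (-1 : F) x y
  simpa using this

theorem zornMul_neg_right (x y : Fin 8 → F) : zornMul x (-y) = - zornMul x y := by
  have := zornMul_smul_right (-1 : F) x y
  simpa using this

theorem zornMul_sub_left (x x' y : Fin 8 → F) : zornMul (x - x') y = zornMul x y - zornMul x' y := by
  rw [sub_eq_add_neg, zornMul_add_left, zornMul_neg_left, ← sub_eq_add_neg]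

theorem zornMul_sub_right (x y y' : Fin 8 → F) : zornMul x (y - y') = zornMul x y - zornMul x y' := by
  rw [sub_eq_add_neg, zornMul_add_right, zornMul_neg_right, ← sub_eq_add_neg]

/-! ### the identity and the two standard idempotents -/

/-- the idempotent `[[1, 0], [0, 0]]` -/
def e1 : Fin 8 → F := mk8 1 0 0 0
/-- the idempotent `[[0, 0], [0, 1]]` -/
def e2 : Fin 8 → F := mk8 0 0 0 1
/-- the identity `[[1, 0], [0, 1]]` -/
def one8 : Fin 8 → F := mk8 1 0 0 1

theorem e1_add_e2 : (e1 : Fin 8 → F) + e2 = one8 := by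
  unfold e1 e2 one8; rw [mk8_add]; simp

theorem one8_mul (x : Fin 8 → F) : zornMul one8 x = x := by
  rw [← mk8_eta x]; unfold one8; rw [zornMul_mk8]; simp

theorem mul_one8 (x : Fin 8 → F) : zornMul x one8 = x := by
  rw [← mk8_eta x]; unfold one8; rw [zornMul_mk8]; simp

theorem e1_mul (α β : F) (a b : Fin 3 → F) : zornMul e1 (mk8 α a b β) = mk8 α a 0 0 := by
  unfold e1; rw [zornMul_mk8]; simp

theorem mul_e1 (α β : F) (a b : Fin 3 → F) : zornMul (mk8 α a b β) e1 = mk8 α 0 b 0 := by
  unfold e1; rw [zornMul_mk8]; simp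

theorem e2_mul (α β : F) (a b : Fin 3 → F) : zornMul e2 (mk8 α a b β) = mk8 0 0 b β := by
  unfold e2; rw [zornMul_mk8]; simp

theorem mul_e2 (α β : F) (a b : Fin 3 → F) : zornMul (mk8 α a b β) e2 = mk8 0 a 0 β := by
  unfold e2; rw [zornMul_mk8]; simp

theorem e1_ne_zero : (e1 : Fin 8 → F) ≠ 0 := by
  intro h; have := congrFun h 0; simp [e1] at this

theorem e1_ne_one8 : (e1 : Fin 8 → F) ≠ one8 := by
  intro h; have := congrFun h 7; simp [e1, one8] at this

theorem one8_ne_zero : (one8 : Fin 8 → F) ≠ 0 := by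
  intro h; have := congrFun h 0; simp [one8] at this

/-! ### the action of `G2 F` -/

/-- the action of `G₂(F)` on the algebra -/
def act (g : G2 F) (x : Fin 8 → F) : Fin 8 → F := ((g : GL (Fin 8) F) : Matrix (Fin 8) (Fin 8) F) *ᵥ x

theorem act_def (g : G2 F) (x : Fin 8 → F) :
    act g x = ((g : GL (Fin 8) F) : Matrix (Fin 8) (Fin 8) F) *ᵥ x := rfl

theorem act_zornMul (g : G2 F) (x y : Fin 8 → F) : act g (zornMul x y) = zornMul (act g x) (act g y) :=
  g.2 x y

@[simp] theorem act_one (x : Fin 8 → F) : act (1 : G2 F) x = x := by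
  simp [act]

theorem act_mul (g h : G2 F) (x : Fin 8 → F) : act (g * h) x = act g (act h x) := by
  simp [act, Matrix.mulVec_mulVec]

theorem act_add (g : G2 F) (x y : Fin 8 → F) : act g (x + y) = act g x + act g y :=
  Matrix.mulVec_add _ _ _

theorem act_smul (g : G2 F) (r : F) (x : Fin 8 → F) : act g (r • x) = r • act g x :=
  Matrix.mulVec_smul _ _ _

@[simp] theorem act_zero (g : G2 F) : act g (0 : Fin 8 → F) = 0 := Matrix.mulVec_zero _

theorem act_neg (g : G2 F) (x : Fin 8 → F) : act g (-x) = - act g x := Matrix.mulVec_neg _ _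

theorem act_sub (g : G2 F) (x y : Fin 8 → F) : act g (x - y) = act g x - act g y := Matrix.mulVec_sub _ _ _

theorem act_inv_act (g : G2 F) (x : Fin 8 → F) : act g⁻¹ (act g x) = x := by
  rw [← act_mul, inv_mul_cancel, act_one]

theorem act_act_inv (g : G2 F) (x : Fin 8 → F) : act g (act g⁻¹ x) = x := by
  rw [← act_mul, mul_inv_cancel, act_one]

theorem act_injective (g : G2 F) : Function.Injective (act g) := fun x y h => by
  rw [← act_inv_act g x, h, act_inv_act]

theorem act_eq_zero_iff (g : G2 F) (x : Fin 8 → F) : act g x = 0 ↔ x = 0 :=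
  ⟨fun h => act_injective g (by rw [h, act_zero]), fun h => by rw [h, act_zero]⟩

/-- the action as a linear map -/
def actL (g : G2 F) : (Fin 8 → F) →ₗ[F] (Fin 8 → F) where
  toFun := act g
  map_add' := act_add g
  map_smul' := act_smul g

@[simp] theorem actL_apply (g : G2 F) (x : Fin 8 → F) : actL g x = act g x := rfl

/-- an element of `G₂(F)` is determined by its action -/
theorem ext_act {g h : G2 F} (H : ∀ x, act g x = act h x) : g = h := by
  apply Subtype.ext
  apply Units.ext
  apply Matrix.toLin'.injective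
  apply LinearMap.ext
  intro x
  rw [Matrix.toLin'_apply, Matrix.toLin'_apply]
  exact H x

theorem act_one8 (g : G2 F) : act g (one8 : Fin 8 → F) = one8 := by
  have h1 : ∀ y, zornMul (act g one8) y = y := by
    intro y
    have := act_zornMul g one8 (act g⁻¹ y)
    rw [one8_mul, act_act_inv] at this
    exact this.symm
  have := h1 one8
  rwa [mul_one8] at this

/-- the element of `G₂(F)` defined by a multiplicative linear map with a left inverse -/
def ofLinear (φ ψ : (Fin 8 → F) →ₗ[F] (Fin 8 → F)) (hinv : ∀ x, ψ (φ x) = x)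
    (hmul : ∀ x y, φ (zornMul x y) = zornMul (φ x) (φ y)) : G2 F :=
  ⟨⟨LinearMap.toMatrix' φ, LinearMap.toMatrix' ψ,
      by
        rw [mul_eq_one_comm, ← LinearMap.toMatrix'_comp, ← LinearMap.toMatrix'_id]
        congr 1
        exact LinearMap.ext hinv,
      by
        rw [← LinearMap.toMatrix'_comp, ← LinearMap.toMatrix'_id]
        congr 1
        exact LinearMap.ext hinv⟩,
    by
      intro x y
      show (LinearMap.toMatrix' φ) *ᵥ zornMul x y = zornMul ((LinearMap.toMatrix' φ) *ᵥ x) ((LinearMap.toMatrix' φ) *ᵥ y)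
      rw [LinearMap.toMatrix'_mulVec, LinearMap.toMatrix'_mulVec, LinearMap.toMatrix'_mulVec]
      exact hmul x y⟩

@[simp] theorem act_ofLinear (φ ψ : (Fin 8 → F) →ₗ[F] (Fin 8 → F)) (hinv : ∀ x, ψ (φ x) = x)
    (hmul : ∀ x y, φ (zornMul x y) = zornMul (φ x) (φ y)) (x : Fin 8 → F) :
    act (ofLinear φ ψ hinv hmul) x = φ x := by
  show (LinearMap.toMatrix' φ) *ᵥ x = φ x
  rw [LinearMap.toMatrix'_mulVec]

instance [Fintype F] : Finite (G2 F) := inferInstance

end Cfsg.Agent.Lib.Helper6.G2O
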