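import Mathlib
import Cfsg.Prelude.Def_G2
import Cfsg.Agent.Lib.Helper6.G2O_Defs
set_option autoImplicit false

/-!
# S4632 swarm: shared definitions, part 2

* `IsNTIdem x` : `x` is an idempotent of the Zorn algebra different from `0` and `1`;
* `toX`, `toY` : the Cayley-Dickson coordinates (two `2 × 2` matrices) of an element of the Zorn algebra;
* `detEq F` : the pairs `(A, B)` of invertible `2 × 2` matrices with `det A = det B`; `Zc F` the scalar pairs `(c, c)`;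
* `cplx x y = [[x, -y], [y, x]]`, `Tplus F` the group of the invertible ones, `T2 F` its elements of 2-power order,
  `Dg = diag(1, -1)`, `S2 F = T2 F ∪ T2 F * Dg` (a Sylow 2-subgroup of `GL₂(F)`, `|F|` odd),
  `Stil F = (S2 F × S2 F) ⊓ detEq F`.
-/

namespace Cfsg.Agent.Lib.Helper6.G2O

open Cfsg Cfsg.Lie Matrix

variable {F : Type*} [Field F]

/-- nontrivial idempotents of the Zorn algebra -/
def IsNTIdem (x : Fin 8 → F) : Prop := zornMul x x = x ∧ x ≠ 0 ∧ x ≠ one8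

theorem isNTIdem_e1 : IsNTIdem (e1 : Fin 8 → F) := by
  refine ⟨?_, e1_ne_zero, e1_ne_one8⟩
  show zornMul e1 (mk8 1 0 0 0) = mk8 1 0 0 0
  rw [e1_mul]

theorem isNTIdem_act (g : G2 F) {x : Fin 8 → F} (hx : IsNTIdem x) : IsNTIdem (act g x) := by
  obtain ⟨h1, h2, h3⟩ := hx
  refine ⟨?_, ?_, ?_⟩
  · rw [← act_zornMul, h1]
  · rwa [Ne, act_eq_zero_iff]
  · intro h
    apply h3
    apply act_injective g
    rw [h, act_one8]

/-! ### Cayley-Dickson coordinates -/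

/-- the first Cayley-Dickson coordinate `[[α, a₀], [b₀, β]]` -/
def toX (x : Fin 8 → F) : Matrix (Fin 2) (Fin 2) F := !![x 0, x 1; x 4, x 7]

/-- the second Cayley-Dickson coordinate `[[a₁, b₂], [a₂, -b₁]]` -/
def toY (x : Fin 8 → F) : Matrix (Fin 2) (Fin 2) F := !![x 2, x 6; x 3, -x 5]

/-- the element with given Cayley-Dickson coordinates -/
def ofXY (X Y : Matrix (Fin 2) (Fin 2) F) : Fin 8 → F :=
  ![X 0 0, X 0 1, Y 0 0, Y 1 0, X 1 0, -Y 1 1, Y 0 1, X 1 1]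

@[simp] theorem toX_ofXY (X Y : Matrix (Fin 2) (Fin 2) F) : toX (ofXY X Y) = X := by
  ext i j; fin_cases i <;> fin_cases j <;> rfl

@[simp] theorem toY_ofXY (X Y : Matrix (Fin 2) (Fin 2) F) : toY (ofXY X Y) = Y := by
  ext i j; fin_cases i <;> fin_cases j <;> simp [toY, ofXY]

@[simp] theorem ofXY_toX_toY (x : Fin 8 → F) : ofXY (toX x) (toY x) = x := by
  ext i; fin_cases i <;> simp [toX, toY, ofXY]

theorem ext_XY {x y : Fin 8 → F} (hX : toX x = toX y) (hY : toY x = toY y) : x = y := by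
  rw [← ofXY_toX_toY x, ← ofXY_toX_toY y, hX, hY]

theorem ofXY_add (X X' Y Y' : Matrix (Fin 2) (Fin 2) F) :
    ofXY (X + X') (Y + Y') = ofXY X Y + ofXY X' Y' := by
  ext i; fin_cases i <;> simp [ofXY] <;> ring

theorem ofXY_smul (r : F) (X Y : Matrix (Fin 2) (Fin 2) F) : ofXY (r • X) (r • Y) = r • ofXY X Y := by
  ext i; fin_cases i <;> simp [ofXY]

/-! ### pairs of matrices with the same determinant -/

/-- the pairs `(A, B)` of invertible `2 × 2` matrices with `det A = det B` -/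
def detEq (F : Type*) [Field F] : Subgroup (GL (Fin 2) F × GL (Fin 2) F) where
  carrier := {p | Matrix.GeneralLinearGroup.det p.1 = Matrix.GeneralLinearGroup.det p.2}
  mul_mem' := by
    intro p p' h h'
    show Matrix.GeneralLinearGroup.det (p.1 * p'.1) = Matrix.GeneralLinearGroup.det (p.2 * p'.2)
    rw [map_mul, map_mul, h, h']
  one_mem' := rfl
  inv_mem' := by
    intro p h
    show Matrix.GeneralLinearGroup.det (p.1⁻¹) = Matrix.GeneralLinearGroup.det (p.2⁻¹)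
    rw [map_inv, map_inv, h]

theorem mem_detEq {p : GL (Fin 2) F × GL (Fin 2) F} :
    p ∈ detEq F ↔ Matrix.GeneralLinearGroup.det p.1 = Matrix.GeneralLinearGroup.det p.2 := Iff.rfl

/-- the scalar matrix `c • 1` in `GL₂(F)` -/
def scal (c : Fˣ) : GL (Fin 2) F :=
  ⟨(c : F) • 1, ((c⁻¹ : Fˣ) : F) • 1, by simp [smul_smul], by simp [smul_smul]⟩

@[simp] theorem scal_val (c : Fˣ) : ((scal c : GL (Fin 2) F) : Matrix (Fin 2) (Fin 2) F) = (c : F) • 1 := rfl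

/-- the scalar pairs `(c, c)` -/
def Zc (F : Type*) [Field F] : Subgroup (GL (Fin 2) F × GL (Fin 2) F) where
  carrier := {p | ∃ c : Fˣ, p = (scal c, scal c)}
  mul_mem' := by
    rintro _ _ ⟨c, rfl⟩ ⟨c', rfl⟩
    refine ⟨c * c', ?_⟩
    ext i j <;> simp [smul_smul] <;> ring
  one_mem' := ⟨1, by ext i j <;> simp⟩
  inv_mem' := by
    rintro _ ⟨c, rfl⟩
    refine ⟨c⁻¹, ?_⟩
    rw [inv_eq_iff_mul_eq_one]
    ext i j <;> simp [smul_smul]

theorem Zc_le_detEq : Zc F ≤ detEq F := by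
  rintro _ ⟨c, rfl⟩
  rfl

/-! ### a Sylow 2-subgroup of `GL₂(F)` -/

/-- the matrix `[[x, -y], [y, x]]` of multiplication by `x + y i` -/
def cplx (x y : F) : Matrix (Fin 2) (Fin 2) F := !![x, -y; y, x]

theorem cplx_mul (x y x' y' : F) : cplx x y * cplx x' y' = cplx (x * x' - y * y') (x * y' + y * x') := by
  ext i j; fin_cases i <;> fin_cases j <;> simp [cplx, Matrix.mul_apply, Fin.sum_univ_two] <;> ring

theorem cplx_one : cplx (1 : F) 0 = 1 := by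
  ext i j; fin_cases i <;> fin_cases j <;> simp [cplx]

theorem det_cplx (x y : F) : (cplx x y).det = x ^ 2 + y ^ 2 := by
  simp [cplx, Matrix.det_fin_two]; ring

theorem cplx_inj {x y x' y' : F} (h : cplx x y = cplx x' y') : x = x' ∧ y = y' := by
  have h1 := congrFun (congrFun h 0) 0
  have h2 := congrFun (congrFun h 1) 0
  simp [cplx] at h1 h2
  exact ⟨h1, h2⟩

/-- the invertible matrices `[[x, -y], [y, x]]` -/
def Tplus (F : Type*) [Field F] : Subgroup (GL (Fin 2) F) where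
  carrier := {g | ∃ x y : F, (g : Matrix (Fin 2) (Fin 2) F) = cplx x y}
  mul_mem' := by
    rintro g h ⟨x, y, hg⟩ ⟨x', y', hh⟩
    exact ⟨_, _, by rw [Units.val_mul, hg, hh, cplx_mul]⟩
  one_mem' := ⟨1, 0, by rw [Units.val_one, cplx_one]⟩
  inv_mem' := by
    rintro g ⟨x, y, hg⟩
    have hd : x ^ 2 + y ^ 2 ≠ 0 := by
      rw [← det_cplx, ← hg]
      exact (Matrix.GeneralLinearGroup.det g).ne_zero
    refine ⟨x / (x ^ 2 + y ^ 2), -y / (x ^ 2 + y ^ 2), ?_⟩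
    have h1 : (g : Matrix (Fin 2) (Fin 2) F) * cplx (x / (x ^ 2 + y ^ 2)) (-y / (x ^ 2 + y ^ 2)) = 1 := by
      rw [hg, cplx_mul, ← cplx_one]
      congr 1 <;> field_simp <;> ring
    exact (Matrix.inv_eq_right_inv h1 ▸ (Matrix.coe_units_inv g))

theorem mem_Tplus {g : GL (Fin 2) F} :
    g ∈ Tplus F ↔ ∃ x y : F, (g : Matrix (Fin 2) (Fin 2) F) = cplx x y := Iff.rfl

theorem Tplus_comm {g h : GL (Fin 2) F} (hg : g ∈ Tplus F) (hh : h ∈ Tplus F) : g * h = h * g := by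
  obtain ⟨x, y, hg⟩ := hg
  obtain ⟨x', y', hh⟩ := hh
  apply Units.ext
  rw [Units.val_mul, Units.val_mul, hg, hh, cplx_mul, cplx_mul]
  congr 1 <;> ring

/-- the elements of 2-power order of `Tplus F` -/
def T2 (F : Type*) [Field F] : Subgroup (GL (Fin 2) F) where
  carrier := {g | g ∈ Tplus F ∧ ∃ k : ℕ, g ^ (2 ^ k) = 1}
  mul_mem' := by
    rintro g h ⟨hg, k, hk⟩ ⟨hh, l, hl⟩
    refine ⟨(Tplus F).mul_mem hg hh, k + l, ?_⟩
    rw [(show Commute g h from Tplus_comm hg hh).mul_pow, pow_add, pow_mul, hk, one_pow, mul_comm (2 ^ k),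
      pow_mul, hl, one_pow, one_mul]
  one_mem' := ⟨(Tplus F).one_mem, 0, by simp⟩
  inv_mem' := by
    rintro g ⟨hg, k, hk⟩
    exact ⟨(Tplus F).inv_mem hg, k, by rw [inv_pow, hk, inv_one]⟩

theorem mem_T2 {g : GL (Fin 2) F} : g ∈ T2 F ↔ g ∈ Tplus F ∧ ∃ k : ℕ, g ^ (2 ^ k) = 1 := Iff.rfl

theorem T2_le_Tplus : T2 F ≤ Tplus F := fun _ h => h.1

/-- the matrix `diag(1, -1)` -/
def Dg : GL (Fin 2) F :=
  ⟨!![1, 0; 0, -1], !![1, 0; 0, -1],
    by ext i j; fin_cases i <;> fin_cases j <;> simp [Matrix.mul_apply, Fin.sum_univ_two],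
    by ext i j; fin_cases i <;> fin_cases j <;> simp [Matrix.mul_apply, Fin.sum_univ_two]⟩

@[simp] theorem Dg_val : ((Dg : GL (Fin 2) F) : Matrix (Fin 2) (Fin 2) F) = !![1, 0; 0, -1] := rfl

theorem Dg_mul_self : (Dg : GL (Fin 2) F) * Dg = 1 := by
  apply Units.ext
  rw [Units.val_mul, Dg_val, Units.val_one]
  ext i j; fin_cases i <;> fin_cases j <;> simp [Matrix.mul_apply, Fin.sum_univ_two]

theorem Dg_inv : (Dg : GL (Fin 2) F)⁻¹ = Dg := inv_eq_of_mul_eq_one_left Dg_mul_self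

theorem Dg_mul_cplx_mul_Dg (x y : F) :
    (!![1, 0; 0, -1] : Matrix (Fin 2) (Fin 2) F) * cplx x y * !![1, 0; 0, -1] = cplx x (-y) := by
  ext i j; fin_cases i <;> fin_cases j <;> simp [cplx, Matrix.mul_apply, Fin.sum_univ_two]

/-- conjugation by `Dg` preserves `Tplus F` -/
theorem Dg_conj_mem_Tplus {g : GL (Fin 2) F} (hg : g ∈ Tplus F) : Dg * g * Dg ∈ Tplus F := by
  obtain ⟨x, y, hg⟩ := hg
  exact ⟨x, -y, by rw [Units.val_mul, Units.val_mul, Dg_val, hg, Dg_mul_cplx_mul_Dg]⟩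

theorem Dg_conj_mem_T2 {g : GL (Fin 2) F} (hg : g ∈ T2 F) : Dg * g * Dg ∈ T2 F := by
  refine ⟨Dg_conj_mem_Tplus hg.1, ?_⟩
  obtain ⟨k, hk⟩ := hg.2
  refine ⟨k, ?_⟩
  have h1 : Dg * g * Dg = Dg * g * Dg⁻¹ := by rw [Dg_inv]
  rw [h1, conj_pow, hk, mul_one, mul_inv_cancel]

/-- `S2 F = T2 F ∪ T2 F * Dg` -/
def S2 (F : Type*) [Field F] : Subgroup (GL (Fin 2) F) where
  carrier := {g | ∃ t ∈ T2 F, g = t ∨ g = t * Dg}
  mul_mem' := by
    rintro g h ⟨t, ht, hg⟩ ⟨u, hu, hh⟩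
    rcases hg with hg | hg <;> rcases hh with hh | hh
    · exact ⟨t * u, (T2 F).mul_mem ht hu, Or.inl (by rw [hg, hh])⟩
    · exact ⟨t * u, (T2 F).mul_mem ht hu, Or.inr (by rw [hg, hh]; group)⟩
    · refine ⟨t * (Dg * u * Dg), (T2 F).mul_mem ht (Dg_conj_mem_T2 hu), Or.inr ?_⟩
      have := Dg_mul_self (F := F)
      rw [hg, hh]
      calc t * Dg * u = t * Dg * u * (Dg * Dg) := by rw [this, mul_one]
        _ = t * (Dg * u * Dg) * Dg := by group
    · refine ⟨t * (Dg * u * Dg), (T2 F).mul_mem ht (Dg_conj_mem_T2 hu), Or.inl ?_⟩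
      rw [hg, hh]
      group
  one_mem' := ⟨1, (T2 F).one_mem, Or.inl rfl⟩
  inv_mem' := by
    rintro g ⟨t, ht, hg⟩
    rcases hg with hg | hg
    · exact ⟨t⁻¹, (T2 F).inv_mem ht, Or.inl (by rw [hg])⟩
    · refine ⟨Dg * t⁻¹ * Dg, Dg_conj_mem_T2 ((T2 F).inv_mem ht), Or.inr ?_⟩
      have := Dg_mul_self (F := F)
      rw [hg, _root_.mul_inv_rev, Dg_inv]
      calc Dg * t⁻¹ = Dg * t⁻¹ * (Dg * Dg) := by rw [this, mul_one]
        _ = Dg * t⁻¹ * Dg * Dg := by group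

theorem mem_S2 {g : GL (Fin 2) F} : g ∈ S2 F ↔ ∃ t ∈ T2 F, g = t ∨ g = t * Dg := Iff.rfl

theorem T2_le_S2 : T2 F ≤ S2 F := fun t ht => ⟨t, ht, Or.inl rfl⟩

theorem Dg_mem_S2 : (Dg : GL (Fin 2) F) ∈ S2 F := ⟨1, (T2 F).one_mem, Or.inr (one_mul _).symm⟩

/-- the pairs of elements of `S2 F` with the same determinant -/
def Stil (F : Type*) [Field F] : Subgroup (GL (Fin 2) F × GL (Fin 2) F) := (S2 F).prod (S2 F) ⊓ detEq F

theorem mem_Stil {p : GL (Fin 2) F × GL (Fin 2) F} :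
    p ∈ Stil F ↔ (p.1 ∈ S2 F ∧ p.2 ∈ S2 F) ∧
      Matrix.GeneralLinearGroup.det p.1 = Matrix.GeneralLinearGroup.det p.2 := by
  unfold Stil
  rw [Subgroup.mem_inf, Subgroup.mem_prod, mem_detEq]

theorem Stil_le_detEq : Stil F ≤ detEq F := inf_le_right

end Cfsg.Agent.Lib.Helper6.G2O
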