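import Cfsg.Agent.Lib.Helper1.GC0

/-!
# S3067, key lemma (KL)

In the language of `Cfsg.Agent.Lib.Helper1.GC0`: for a minimal counterexample, a proper `a`-invariant
subgroup `H ≤ G` containing an element of the class `K` of `τ`, and `k ∈ H`, the group
`Lam0 G a (k⁻¹ a k) = ⟨a, k⁻¹ a k⟩ ∩ G` has odd order.  The statement `(E5)` enters as a hypothesis.
-/

set_option autoImplicit false

namespace Cfsg.Agent.Lib.Helper6.GlFixKL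

open Cfsg.Agent.Lib.Helper1.GC

universe u

variable {Γ : Type u} [Group Γ]

/-- the commutator subgroup `[H,a]` in the conventions of `GC0`. -/
def klComm (H : Subgroup Γ) (a : Γ) : Subgroup Γ :=
  Subgroup.closure {z | ∃ y ∈ H, z = y⁻¹ * a⁻¹ * y * a}

theorem klComm_gen_mem {H : Subgroup Γ} {a y : Γ} (hy : y ∈ H) :
    y⁻¹ * a⁻¹ * y * a ∈ klComm H a :=
  Subgroup.subset_closure ⟨y, hy, rfl⟩

theorem klComm_le {H R : Subgroup Γ} {a : Γ} (hR : ∀ y ∈ H, y⁻¹ * a⁻¹ * y * a ∈ R) :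
    klComm H a ≤ R := by
  unfold klComm
  rw [Subgroup.closure_le]
  rintro z ⟨y, hy, rfl⟩
  exact hR y hy

theorem klComm_le_self {H : Subgroup Γ} {a : Γ} (hinv : ∀ x ∈ H, a⁻¹ * x * a ∈ H) :
    klComm H a ≤ H := by
  apply klComm_le
  intro y hy
  have := H.mul_mem (H.inv_mem hy) (hinv y hy)
  simpa [mul_assoc] using this

theorem klComm_inv_conj {H : Subgroup Γ} {a : Γ} (hinv : ∀ x ∈ H, a⁻¹ * x * a ∈ H) :
    ∀ z ∈ klComm H a, a⁻¹ * z * a ∈ klComm H a := by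
  intro z hz
  unfold klComm at hz ⊢
  induction hz using Subgroup.closure_induction with
  | mem z hz =>
    obtain ⟨y, hy, rfl⟩ := hz
    apply Subgroup.subset_closure
    exact ⟨a⁻¹ * y * a, hinv y hy, by group⟩
  | one => simp
  | mul x y _ _ hx hy =>
    have : a⁻¹ * (x * y) * a = (a⁻¹ * x * a) * (a⁻¹ * y * a) := by group
    rw [this]; exact Subgroup.mul_mem _ hx hy
  | inv x _ hx =>
    have : a⁻¹ * x⁻¹ * a = (a⁻¹ * x * a)⁻¹ := by group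
    rw [this]; exact Subgroup.inv_mem _ hx

theorem klComm_pow_conj {H : Subgroup Γ} {a : Γ} (hinv : ∀ x ∈ H, a⁻¹ * x * a ∈ H) (i : ℕ) :
    ∀ z ∈ klComm H a, (a ^ i)⁻¹ * z * a ^ i ∈ klComm H a := by
  induction i with
  | zero => intro z hz; simpa using hz
  | succ i ih =>
    intro z hz
    have h1 := klComm_inv_conj hinv _ (ih z hz)
    have e : (a ^ (i + 1))⁻¹ * z * a ^ (i + 1) = a⁻¹ * ((a ^ i)⁻¹ * z * a ^ i) * a := by
      rw [pow_succ]; group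
    rw [e]; exact h1

variable [Finite Γ] {G : Subgroup Γ} {a τ : Γ} {r : ℕ}

omit [Finite Γ] in
/-- every element of `⟨a, k⁻¹ a k⟩` (`k ∈ H`) has the form `a ^ i * c` with `c ∈ [H,a]`. -/
theorem kl_form (h : Hyp G a τ r) {H : Subgroup Γ} (hinv : ∀ x ∈ H, a⁻¹ * x * a ∈ H) {k : Γ}
    (hk : k ∈ H) :
    ∀ x ∈ Subgroup.closure ({a, k⁻¹ * a * k} : Set Γ),
      ∃ i : ℕ, ∃ c ∈ klComm H a, x = a ^ i * c := by
  intro x hx
  induction hx using Subgroup.closure_induction with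
  | mem x hx =>
    simp only [Set.mem_insert_iff, Set.mem_singleton_iff] at hx
    rcases hx with hx | hx
    · exact ⟨1, 1, Subgroup.one_mem _, by simp [hx]⟩
    · refine ⟨1, a⁻¹ * k⁻¹ * a * k, ?_, by rw [hx]; group⟩
      have : a⁻¹ * k⁻¹ * a * k = (k⁻¹ * a⁻¹ * k * a)⁻¹ := by group
      rw [this]
      exact Subgroup.inv_mem _ (klComm_gen_mem hk)
  | one => exact ⟨0, 1, Subgroup.one_mem _, by simp⟩
  | mul x y _ _ hx hy =>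
    obtain ⟨i, c, hc, rfl⟩ := hx
    obtain ⟨j, d, hd, rfl⟩ := hy
    refine ⟨i + j, (a ^ j)⁻¹ * c * a ^ j * d,
      Subgroup.mul_mem _ (klComm_pow_conj hinv j c hc) hd, ?_⟩
    rw [pow_add]; group
  | inv x _ hx =>
    obtain ⟨i, c, hc, rfl⟩ := hx
    have e1 : (a ^ i)⁻¹ = a ^ (i * (r - 1)) := by
      rw [mul_comm, pow_mul, ← h.a_inv_eq, inv_pow]
    refine ⟨i * (r - 1), (a ^ (i * (r - 1)))⁻¹ * c⁻¹ * a ^ (i * (r - 1)),
      klComm_pow_conj hinv _ _ (Subgroup.inv_mem _ hc), ?_⟩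
    rw [mul_inv_rev, e1]
    generalize a ^ (i * (r - 1)) = w
    group

/-- (KL), with (E5) as a hypothesis. -/
theorem KL_of_E5
    (hE5 : ∀ (H : Subgroup Γ), H ≤ G → (∀ x ∈ H, a⁻¹ * x * a ∈ H) → ∀ {g : Γ}, g ∈ G →
      g⁻¹ * τ * g ∈ H → ∃ x ∈ H, x⁻¹ * (g⁻¹ * a * g) * x = a)
    (h : MinCE G a τ r) (H : Subgroup Γ) (hHG : H ≤ G) (hne : H ≠ G)
    (hinv : ∀ x ∈ H, a⁻¹ * x * a ∈ H) {u : Γ} (hu : IsK G τ u) (huH : u ∈ H)
    {k : Γ} (hk : k ∈ H) : Odd (Nat.card (Lam0 G a (k⁻¹ * a * k))) := by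
  obtain ⟨g, hg, rfl⟩ := hu
  obtain ⟨x, hxH, hxa⟩ := hE5 H hHG hinv hg huH
  have ht : IsK G τ (x⁻¹ * (g⁻¹ * τ * g) * x) := IsK.conj ⟨g, hg, rfl⟩ (hHG hxH)
  have htH : x⁻¹ * (g⁻¹ * τ * g) * x ∈ H := H.mul_mem (H.mul_mem (H.inv_mem hxH) huH) hxH
  have hta : Commute (x⁻¹ * (g⁻¹ * τ * g) * x) a := by
    have h1 : Commute (g⁻¹ * τ * g) (g⁻¹ * a * g) := h.hyp.K_commute_pt
    have e := h1.eq
    have h2 : Commute (x⁻¹ * (g⁻¹ * τ * g) * x) (x⁻¹ * (g⁻¹ * a * g) * x) := by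
      show x⁻¹ * (g⁻¹ * τ * g) * x * (x⁻¹ * (g⁻¹ * a * g) * x)
        = x⁻¹ * (g⁻¹ * a * g) * x * (x⁻¹ * (g⁻¹ * τ * g) * x)
      calc x⁻¹ * (g⁻¹ * τ * g) * x * (x⁻¹ * (g⁻¹ * a * g) * x)
          = x⁻¹ * ((g⁻¹ * τ * g) * (g⁻¹ * a * g)) * x := by group
        _ = x⁻¹ * ((g⁻¹ * a * g) * (g⁻¹ * τ * g)) * x := by rw [e]
        _ = x⁻¹ * (g⁻¹ * a * g) * x * (x⁻¹ * (g⁻¹ * τ * g) * x) := by group
    rwa [hxa] at h2
  obtain ⟨R, hRH, hRodd, hR⟩ := h.ih_sub H hHG hne hinv ht hta htH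
  have hle : klComm H a ≤ R := klComm_le hR
  have hodd : Odd (Nat.card (klComm H a)) :=
    Odd.of_dvd_nat hRodd (Subgroup.card_dvd_of_le hle)
  have hLam : Lam0 G a (k⁻¹ * a * k) ≤ klComm H a := by
    intro y hy
    have hy' : y ∈ Subgroup.closure ({a, k⁻¹ * a * k} : Set Γ) ⊓ G := hy
    obtain ⟨hy1, hy2⟩ := Subgroup.mem_inf.1 hy'
    obtain ⟨i, c, hc, rfl⟩ := kl_form h.hyp hinv hk y hy1
    have hcG : c ∈ G := hHG (hRH (hle hc))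
    have hai : a ^ i ∈ G := by
      have := G.mul_mem hy2 (G.inv_mem hcG)
      simpa using this
    have h1 : a ^ i = 1 := by
      apply h.hyp.eq_one_of_pow hai
      rw [← pow_mul, mul_comm, pow_mul, h.hyp.a_pow, one_pow]
    rw [h1, one_mul]; exact hc
  exact Odd.of_dvd_nat hodd (Subgroup.card_dvd_of_le hLam)

/-- a variant giving directly the containment `Lam0 ≤ [H,a]` and oddness of `[H,a]`. -/
theorem KL_of_E5'
    (hE5 : ∀ (H : Subgroup Γ), H ≤ G → (∀ x ∈ H, a⁻¹ * x * a ∈ H) → ∀ {g : Γ}, g ∈ G →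
      g⁻¹ * τ * g ∈ H → ∃ x ∈ H, x⁻¹ * (g⁻¹ * a * g) * x = a)
    (h : MinCE G a τ r) (H : Subgroup Γ) (hHG : H ≤ G) (hne : H ≠ G)
    (hinv : ∀ x ∈ H, a⁻¹ * x * a ∈ H) {u : Γ} (hu : IsK G τ u) (huH : u ∈ H) :
    Odd (Nat.card (klComm H a)) ∧ ∀ k ∈ H, Lam0 G a (k⁻¹ * a * k) ≤ klComm H a := by
  obtain ⟨g, hg, rfl⟩ := hu
  obtain ⟨x, hxH, hxa⟩ := hE5 H hHG hinv hg huH
  have ht : IsK G τ (x⁻¹ * (g⁻¹ * τ * g) * x) := IsK.conj ⟨g, hg, rfl⟩ (hHG hxH)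
  have htH : x⁻¹ * (g⁻¹ * τ * g) * x ∈ H := H.mul_mem (H.mul_mem (H.inv_mem hxH) huH) hxH
  have hta : Commute (x⁻¹ * (g⁻¹ * τ * g) * x) a := by
    have h1 : Commute (g⁻¹ * τ * g) (g⁻¹ * a * g) := h.hyp.K_commute_pt
    have e := h1.eq
    have h2 : Commute (x⁻¹ * (g⁻¹ * τ * g) * x) (x⁻¹ * (g⁻¹ * a * g) * x) := by
      show x⁻¹ * (g⁻¹ * τ * g) * x * (x⁻¹ * (g⁻¹ * a * g) * x)
        = x⁻¹ * (g⁻¹ * a * g) * x * (x⁻¹ * (g⁻¹ * τ * g) * x)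
      calc x⁻¹ * (g⁻¹ * τ * g) * x * (x⁻¹ * (g⁻¹ * a * g) * x)
          = x⁻¹ * ((g⁻¹ * τ * g) * (g⁻¹ * a * g)) * x := by group
        _ = x⁻¹ * ((g⁻¹ * a * g) * (g⁻¹ * τ * g)) * x := by rw [e]
        _ = x⁻¹ * (g⁻¹ * a * g) * x * (x⁻¹ * (g⁻¹ * τ * g) * x) := by group
    rwa [hxa] at h2
  obtain ⟨R, hRH, hRodd, hR⟩ := h.ih_sub H hHG hne hinv ht hta htH
  have hle : klComm H a ≤ R := klComm_le hR
  refine ⟨Odd.of_dvd_nat hRodd (Subgroup.card_dvd_of_le hle), ?_⟩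
  intro k hk y hy
  have hy' : y ∈ Subgroup.closure ({a, k⁻¹ * a * k} : Set Γ) ⊓ G := hy
  obtain ⟨hy1, hy2⟩ := Subgroup.mem_inf.1 hy'
  obtain ⟨i, c, hc, rfl⟩ := kl_form h.hyp hinv hk y hy1
  have hcG : c ∈ G := hHG (hRH (hle hc))
  have hai : a ^ i ∈ G := by
    have := G.mul_mem hy2 (G.inv_mem hcG)
    simpa using this
  have h1 : a ^ i = 1 := by
    apply h.hyp.eq_one_of_pow hai
    rw [← pow_mul, mul_comm, pow_mul, h.hyp.a_pow, one_pow]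
  rw [h1, one_mul]; exact hc

end Cfsg.Agent.Lib.Helper6.GlFixKL
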