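import Mathlib

set_option autoImplicit false

namespace Cfsg.Agent.Lib.Helper6

/-- If a finite group `X` of order `2 * 2 ^ m` has an element `x` of order `2 ^ m` which every
automorphism maps into `⟨x⟩`, then `Aut X` is a `2`-group. -/
theorem isPGroup_mulAut_of_char_cyclic {X : Type*} [Group X] [Finite X] (x : X) (m : ℕ)
    (hx : orderOf x = 2 ^ m) (hcard : Nat.card X = 2 * 2 ^ m)
    (hchar : ∀ α : MulAut X, α x ∈ Subgroup.zpowers x) : IsPGroup 2 (MulAut X) := by
  haveI : Fact (Nat.Prime 2) := ⟨Nat.prime_two⟩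
  have hidx : (Subgroup.zpowers x).index = 2 := by
    have h1 := Subgroup.card_mul_index (Subgroup.zpowers x)
    rw [Nat.card_zpowers, hx, hcard] at h1
    have hpos : 0 < 2 ^ m := by positivity
    have : 2 ^ m * (Subgroup.zpowers x).index = 2 ^ m * 2 := by rw [h1]; ring
    exact Nat.eq_of_mul_eq_mul_left hpos this
  have hmul := @Subgroup.mul_mem_iff_of_index_two _ _ (Subgroup.zpowers x) hidx
  obtain ⟨y, hy⟩ : ∃ y : X, y ∉ Subgroup.zpowers x := by
    by_contra hall
    push Not at hall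
    have : Subgroup.zpowers x = ⊤ := by
      rw [eq_top_iff]; intro z _; exact hall z
    rw [this, Subgroup.index_top] at hidx
    omega
  rw [IsPGroup.iff_orderOf]
  intro α
  -- α x = x ^ k with k coprime to 2 ^ m
  obtain ⟨k, hk⟩ := mem_powers_iff_mem_zpowers.mpr (hchar α)
  have hk : x ^ k = α x := hk
  have hcop : Nat.Coprime k (2 ^ m) := by
    have h1 : orderOf (α x) = orderOf x := MulEquiv.orderOf_eq α x
    rw [← hk, orderOf_pow, hx] at h1
    have hpos : 0 < 2 ^ m := by positivity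
    have hg : (2 ^ m).gcd k ∣ 2 ^ m := Nat.gcd_dvd_left _ _
    rw [Nat.coprime_comm]
    show (2 ^ m).gcd k = 1
    have h3 : (2 ^ m).gcd k * (2 ^ m / (2 ^ m).gcd k) = 2 ^ m := Nat.mul_div_cancel' hg
    rw [h1] at h3
    have : (2 ^ m).gcd k * 2 ^ m = 1 * 2 ^ m := by rw [one_mul]; exact h3
    exact Nat.eq_of_mul_eq_mul_right hpos this
  have hiter : ∀ j : ℕ, (α ^ j) x = x ^ (k ^ j) := by
    intro j
    induction j with
    | zero => simp
    | succ j ih =>
      rw [pow_succ', MulAut.mul_apply, ih, map_pow, ← hk, ← pow_mul, pow_succ']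
  set t := (2 ^ m).totient with ht
  have hβx : (α ^ t) x = x := by
    rw [hiter]
    have h1 : k ^ t ≡ 1 [MOD 2 ^ m] := Nat.ModEq.pow_totient hcop
    rw [← pow_mod_orderOf, hx, h1, ← hx, pow_mod_orderOf, pow_one]
  set β := α ^ t with hβ
  have hβC : ∀ c ∈ Subgroup.zpowers x, β c = c := by
    intro c hc
    obtain ⟨i, rfl⟩ := Subgroup.mem_zpowers_iff.mp hc
    rw [map_zpow, hβx]
  have hβy : y⁻¹ * β y ∈ Subgroup.zpowers x := by
    rw [hmul, inv_mem_iff]
    constructor
    · intro h; exact absurd h hy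
    · intro h
      exfalso
      apply hy
      have := hβC _ h
      have h2 : β y = y := β.injective this
      rwa [h2] at h
  have hβiter : ∀ u : ℕ, (β ^ u) y = y * (y⁻¹ * β y) ^ u := by
    intro u
    induction u with
    | zero => simp
    | succ u ih =>
      rw [pow_succ', MulAut.mul_apply, ih, map_mul, map_pow, hβC _ hβy, pow_succ', ← mul_assoc,
        mul_inv_cancel_left]
  have hβpow : β ^ (2 ^ m) = 1 := by
    have hcpow : (y⁻¹ * β y) ^ (2 ^ m) = 1 := by
      obtain ⟨i, hi⟩ := Subgroup.mem_zpowers_iff.mp hβy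
      rw [← hi, ← zpow_natCast, ← zpow_mul, mul_comm, zpow_mul, zpow_natCast, ← hx,
        pow_orderOf_eq_one, one_zpow]
    have hy' : (β ^ (2 ^ m)) y = y := by rw [hβiter, hcpow, mul_one]
    have hC' : ∀ c ∈ Subgroup.zpowers x, (β ^ (2 ^ m)) c = c := by
      intro c hc
      have : ∀ u : ℕ, (β ^ u) c = c := by
        intro u
        induction u with
        | zero => simp
        | succ u ih => rw [pow_succ', MulAut.mul_apply, ih, hβC c hc]
      exact this _
    ext z
    show (β ^ (2 ^ m)) z = z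
    by_cases hz : z ∈ Subgroup.zpowers x
    · exact hC' z hz
    · have h1 : y⁻¹ * z ∈ Subgroup.zpowers x := by
        rw [hmul, inv_mem_iff]
        exact ⟨fun h => absurd h hy, fun h => absurd h hz⟩
      have h2 : z = y * (y⁻¹ * z) := by group
      rw [h2, map_mul, hy', hC' _ h1]
  have hαpow : α ^ (t * 2 ^ m) = 1 := by rw [pow_mul]; exact hβpow
  have htdvd : t ∣ 2 ^ m := by
    rcases Nat.eq_zero_or_pos m with h0 | h0
    · rw [ht, h0]; simp
    · rw [ht, Nat.totient_prime_pow Nat.prime_two h0]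
      simp only [Nat.add_one_sub_one, mul_one]
      exact pow_dvd_pow 2 (Nat.sub_le m 1)
  have hdvd : orderOf α ∣ 2 ^ (m + m) := by
    rw [pow_add]
    exact (orderOf_dvd_of_pow_eq_one hαpow).trans (Nat.mul_dvd_mul_right htdvd _)
  obtain ⟨j, -, hj⟩ := (Nat.dvd_prime_pow Nat.prime_two).mp hdvd
  exact ⟨j, hj⟩

end Cfsg.Agent.Lib.Helper6
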