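import Mathlib
import Cfsg.Agent.Lib.Helper6.AutIdx2

set_option autoImplicit false

namespace Cfsg.Agent.Lib.Helper6

theorem isCyclic_of_le_zpowers {G : Type*} [Group G] {H : Subgroup G} {g : G}
    (h : H ≤ Subgroup.zpowers g) : IsCyclic H := by
  have e := Subgroup.subgroupOfEquivOfLe h
  have : IsCyclic (H.subgroupOf (Subgroup.zpowers g)) := inferInstance
  exact isCyclic_of_surjective e e.surjective

/-- The automorphism group of a cyclic `2`-group is a `2`-group. -/
theorem isPGroup_mulAut_of_isCyclic {Q : Type*} [Group Q] [Finite Q] [IsCyclic Q]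
    (hQ : IsPGroup 2 Q) : IsPGroup 2 (MulAut Q) := by
  haveI : Fact (Nat.Prime 2) := ⟨Nat.prime_two⟩
  obtain ⟨k, hk⟩ := IsPGroup.iff_card.mp hQ
  apply IsPGroup.of_card (n := k - 1)
  rw [IsCyclic.card_mulAut, hk]
  rcases Nat.eq_zero_or_pos k with rfl | h0
  · simp
  · rw [Nat.totient_prime_pow Nat.prime_two h0]; simp

open QuaternionGroup in
/-- A subgroup of the generalized quaternion group of order `2 ^ (n + 2) ≥ 32` which is normalized
by the generator `a 1` has a `2`-group as automorphism group. -/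
theorem isPGroup_mulAut_of_normalized_quaternion (n : ℕ) (hn : 3 ≤ n)
    (Q : Subgroup (QuaternionGroup (2 ^ n)))
    (hQ : (a 1 : QuaternionGroup (2 ^ n)) ∈
      Subgroup.normalizer (Q : Set (QuaternionGroup (2 ^ n)))) :
    IsPGroup 2 (MulAut Q) := by
  haveI : NeZero (2 ^ n) := ⟨by positivity⟩
  haveI : Fact (Nat.Prime 2) := ⟨Nat.prime_two⟩
  have hcard : Nat.card (QuaternionGroup (2 ^ n)) = 2 ^ (n + 2) := by
    rw [Nat.card_eq_fintype_card, QuaternionGroup.card]; ring
  have hY2 : IsPGroup 2 (QuaternionGroup (2 ^ n)) := IsPGroup.of_card hcard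
  set C := Subgroup.zpowers (a 1 : QuaternionGroup (2 ^ n)) with hC
  have haC : ∀ i : ZMod (2 * 2 ^ n), (a i : QuaternionGroup (2 ^ n)) ∈ C := by
    intro i
    have : (a i : QuaternionGroup (2 ^ n)) = (a 1) ^ i.val := by
      rw [a_one_pow, ZMod.natCast_zmod_val]
    rw [this]; exact Subgroup.pow_mem _ (Subgroup.mem_zpowers _) _
  have hxaC : ∀ i : ZMod (2 * 2 ^ n), (xa i : QuaternionGroup (2 ^ n)) ∉ C := by
    intro i hi
    have hfin : IsOfFinOrder (a 1 : QuaternionGroup (2 ^ n)) := isOfFinOrder_of_finite _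
    rw [hC, ← hfin.mem_powers_iff_mem_zpowers, Submonoid.mem_powers_iff] at hi
    obtain ⟨k, hk⟩ := hi
    rw [a_one_pow] at hk
    cases hk
  by_cases hQC : Q ≤ C
  · haveI : IsCyclic Q := isCyclic_of_le_zpowers hQC
    exact isPGroup_mulAut_of_isCyclic (hY2.to_subgroup Q)
  · obtain ⟨q, hqQ, hqC⟩ := SetLike.not_le_iff_exists.mp hQC
    obtain ⟨i, rfl⟩ : ∃ i, q = xa i := by
      cases q with
      | a j => exact absurd (haC j) hqC
      | xa j => exact ⟨j, rfl⟩
    have ha2 : (a 2 : QuaternionGroup (2 ^ n)) ∈ Q := by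
      have h1 : a 1 * xa i * (a 1)⁻¹ ∈ Q := (Subgroup.mem_normalizer_iff.mp hQ _).mp hqQ
      have hinv : (a 1 : QuaternionGroup (2 ^ n))⁻¹ = a (-1) :=
        inv_eq_of_mul_eq_one_right (by rw [a_mul_a, add_neg_cancel, a_zero])
      have h2 : a 1 * xa i * (a 1)⁻¹ * (xa i)⁻¹ ∈ Q := Q.mul_mem h1 (Q.inv_mem hqQ)
      have : a 1 * xa i * (a 1)⁻¹ * (xa i)⁻¹ = (a 2 : QuaternionGroup (2 ^ n)) := by
        rw [hinv, mul_inv_eq_iff_eq_mul]
        simp only [a_mul_xa, xa_mul_a]
        congr 1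
        ring
      rwa [this] at h2
    set Q₀ := Q ⊓ C with hQ₀
    have hQ₀C : Q₀ ≤ C := inf_le_right
    haveI : IsCyclic Q₀ := isCyclic_of_le_zpowers hQ₀C
    obtain ⟨⟨b, hb⟩, hgen⟩ := IsCyclic.exists_generator (α := Q₀)
    have hbQ : b ∈ Q := (Subgroup.mem_inf.mp hb).1
    have hbo : orderOf b = Nat.card Q₀ := by
      have := orderOf_eq_card_of_forall_mem_zpowers hgen
      rwa [Subgroup.orderOf_mk] at this
    obtain ⟨m, hm⟩ := IsPGroup.iff_card.mp (hY2.to_subgroup Q₀)
    have hzb : Subgroup.zpowers b = Q₀ := by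
      apply Subgroup.eq_of_le_of_card_ge (Subgroup.zpowers_le.mpr hb)
      rw [Nat.card_zpowers, hbo]
    have hm3 : 3 ≤ m := by
      have h1 : orderOf (a 2 : QuaternionGroup (2 ^ n)) = 2 ^ n := by
        rw [orderOf_a]
        have hlt : 2 < 2 * 2 ^ n := by
          have : 2 ^ 1 < 2 ^ n := Nat.pow_lt_pow_right (by norm_num) (by omega)
          omega
        have hval : (2 : ZMod (2 * 2 ^ n)).val = 2 := by
          have : ((2 : ℕ) : ZMod (2 * 2 ^ n)).val = 2 := ZMod.val_natCast_of_lt hlt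
          simpa using this
        rw [hval, Nat.gcd_eq_right (dvd_mul_right 2 _)]
        simp
      have h2 : orderOf (a 2 : QuaternionGroup (2 ^ n)) ∣ Nat.card Q₀ := by
        have h3 : (a 2 : QuaternionGroup (2 ^ n)) ∈ Q₀ := Subgroup.mem_inf.mpr ⟨ha2, haC 2⟩
        have := orderOf_dvd_natCard (⟨_, h3⟩ : Q₀)
        rwa [Subgroup.orderOf_mk] at this
      rw [h1, hm] at h2
      have := (Nat.pow_dvd_pow_iff_le_right (by norm_num : 1 < 2)).mp h2
      omega
    have hidx : Nat.card Q = 2 * 2 ^ m := by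
      have hCidx : C.index = 2 := by
        have h1 := Subgroup.card_mul_index C
        rw [hC, Nat.card_zpowers, orderOf_a_one, hcard] at h1
        have : 2 * 2 ^ n * (Subgroup.zpowers (a 1 : QuaternionGroup (2 ^ n))).index
            = 2 * 2 ^ n * 2 := by rw [h1]; ring
        exact Nat.eq_of_mul_eq_mul_left (by positivity) this
      haveI : C.Normal := Subgroup.normal_of_index_eq_two hCidx
      have h1 : C.relIndex Q ∣ 2 := by
        have := Subgroup.relIndex_dvd_index_of_normal C Q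
        rwa [hCidx] at this
      have h2 : C.relIndex Q ≠ 1 := fun h => hQC (Subgroup.relIndex_eq_one.mp h)
      have h3 : C.relIndex Q = 2 := by
        rcases (Nat.dvd_prime Nat.prime_two).mp h1 with h | h
        · exact absurd h h2
        · exact h
      have h4 : Q₀.relIndex Q = 2 := by rw [hQ₀, inf_comm, Subgroup.inf_relIndex_right, h3]
      have h5 : Nat.card (Q₀.subgroupOf Q) * (Q₀.subgroupOf Q).index = Nat.card Q :=
        Subgroup.card_mul_index _
      have h6 : Nat.card (Q₀.subgroupOf Q) = Nat.card Q₀ :=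
        Nat.card_congr (Subgroup.subgroupOfEquivOfLe inf_le_left).toEquiv
      have h7 : (Q₀.subgroupOf Q).index = 2 := h4
      rw [h6, hm, h7] at h5
      rw [← h5]; ring
    apply isPGroup_mulAut_of_char_cyclic (⟨b, hbQ⟩ : Q) m
      (by rw [Subgroup.orderOf_mk, hbo, hm]) hidx
    intro α
    have ho : orderOf ((α ⟨b, hbQ⟩ : Q) : QuaternionGroup (2 ^ n)) = 2 ^ m := by
      rw [Subgroup.orderOf_coe, MulEquiv.orderOf_eq, Subgroup.orderOf_mk, hbo, hm]
    have hmem : ((α ⟨b, hbQ⟩ : Q) : QuaternionGroup (2 ^ n)) ∈ C := by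
      generalize ((α ⟨b, hbQ⟩ : Q) : QuaternionGroup (2 ^ n)) = z at ho
      cases z with
      | a j => exact haC j
      | xa j =>
        rw [orderOf_xa] at ho
        exfalso
        have : 2 ^ 3 ≤ 2 ^ m := Nat.pow_le_pow_right (by norm_num) hm3
        omega
    have h1 : ((α ⟨b, hbQ⟩ : Q) : QuaternionGroup (2 ^ n)) ∈ Subgroup.zpowers b := by
      rw [hzb]; exact Subgroup.mem_inf.mpr ⟨(α ⟨b, hbQ⟩).2, hmem⟩
    obtain ⟨k, hk⟩ := Subgroup.mem_zpowers_iff.mp h1
    rw [Subgroup.mem_zpowers_iff]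
    exact ⟨k, Subtype.ext (by rw [Subgroup.coe_zpow]; exact hk)⟩

end Cfsg.Agent.Lib.Helper6
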