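import Mathlib
import Cfsg.Agent.Lib.Helper6.Conj

set_option autoImplicit false

namespace Cfsg.Agent.Lib.Helper6

variable {G : Type*} [Group G]

/-- If `p` divides `|H : T|` for a `p`-subgroup `T ≤ H`, then `T` lies properly in a `p`-subgroup of `H`. -/
theorem exists_pGroup_lt_of_dvd_relIndex {p : ℕ} [Fact p.Prime] [Finite G] {T H : Subgroup G}
    (hTH : T ≤ H) (hT : IsPGroup p T) (hdvd : p ∣ T.relIndex H) :
    ∃ S : Subgroup G, T < S ∧ S ≤ H ∧ IsPGroup p S := by
  have hT' : IsPGroup p (T.subgroupOf H) := hT.comap_subtype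
  obtain ⟨Q, hQ⟩ := hT'.exists_le_sylow
  have hne : T.subgroupOf H ≠ (Q : Subgroup H) := by
    intro h
    have := Q.not_dvd_index
    rw [← h] at this
    exact this hdvd
  have hlt : T.subgroupOf H < (Q : Subgroup H) := lt_of_le_of_ne hQ hne
  refine ⟨(Q : Subgroup H).map H.subtype, ?_, ?_, Q.isPGroup'.map _⟩
  · have h1 : T = (T.subgroupOf H).map H.subtype := by
      rw [Subgroup.map_subgroupOf_eq_of_le hTH]
    rw [h1]
    exact (Subgroup.map_lt_map_iff_of_injective H.subtype_injective).mpr hlt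
  · rintro _ ⟨y, _, rfl⟩; exact y.2

/-- If `p ∤ |K : T|` and `T ≤ S ≤ K` with `S` a `p`-group, then `S = T`. -/
theorem eq_of_not_dvd_relIndex {p : ℕ} [Fact p.Prime] [Finite G] {T S K : Subgroup G}
    (hTS : T ≤ S) (hSK : S ≤ K) (hS : IsPGroup p S) (hnd : ¬ p ∣ T.relIndex K) : S = T := by
  have h1 : T.relIndex S * S.relIndex K = T.relIndex K := Subgroup.relIndex_mul_relIndex T S K hTS hSK
  have h2 : ¬ p ∣ T.relIndex S := fun h => hnd (h1 ▸ Dvd.dvd.mul_right h _)
  have h3 : T.relIndex S ∣ Nat.card S := by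
    rw [Subgroup.relIndex]; exact Subgroup.index_dvd_card _
  obtain ⟨k, hk⟩ := hS.exists_card_eq
  rw [hk] at h3
  obtain ⟨j, _, hj⟩ := (Nat.dvd_prime_pow (Fact.out : p.Prime)).mp h3
  have hj0 : j = 0 := by
    by_contra hne
    apply h2
    rw [hj]
    exact dvd_pow_self p hne
  rw [hj0, pow_zero] at hj
  exact le_antisymm (Subgroup.relIndex_eq_one.mp hj) hTS

/-- Normalizers grow in finite `p`-groups. -/
theorem exists_mem_normalizer_not_mem {p : ℕ} [Fact p.Prime] [Finite G] {T S : Subgroup G}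
    (hlt : T < S) (hS : IsPGroup p S) :
    ∃ n ∈ S, n ∉ T ∧ n ∈ Subgroup.normalizer (T : Set G) := by
  have : Group.IsNilpotent S := hS.isNilpotent
  have hnc := Group.normalizerCondition_of_isNilpotent (G := S)
  have h1 : T.subgroupOf S < ⊤ := by
    rw [lt_top_iff_ne_top]
    intro h
    rw [Subgroup.subgroupOf_eq_top] at h
    exact (not_le_of_gt hlt) h
  have h2 := hnc _ h1
  obtain ⟨n, hn, hnT⟩ := SetLike.exists_of_lt h2
  refine ⟨n, n.2, ?_, ?_⟩
  · intro h
    apply hnT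
    rw [Subgroup.mem_subgroupOf]; exact h
  · have key : ∀ (m : S), m ∈ Subgroup.normalizer ((T.subgroupOf S : Subgroup S) : Set S) →
        ∀ x ∈ T, (m : G) * x * (m : G)⁻¹ ∈ T := by
      intro m hm x hx
      have hxS : x ∈ S := hlt.le hx
      have := (Subgroup.mem_normalizer_iff.mp hm ⟨x, hxS⟩).mp
        (by rw [Subgroup.mem_subgroupOf]; exact hx)
      rw [Subgroup.mem_subgroupOf] at this
      simpa using this
    rw [Subgroup.mem_normalizer_iff]
    intro x
    constructor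
    · exact key n hn x
    · intro hx
      have := key n⁻¹ (Subgroup.inv_mem _ hn) _ hx
      simpa [mul_assoc] using this

/-- Sylow's theorem inside a subgroup `K`: two `p`-subgroups of `K` can be brought into a common
`p`-subgroup of `K` by conjugating the second with an element of `K`. -/
theorem exists_common_pGroup {p : ℕ} [Fact p.Prime] [Finite G] (K A B : Subgroup G)
    (hA : A ≤ K) (hB : B ≤ K) (hAp : IsPGroup p A) (hBp : IsPGroup p B) :
    ∃ c ∈ K, ∃ R : Subgroup G, R ≤ K ∧ IsPGroup p R ∧ A ≤ R ∧ B.map (MulAut.conj c).toMonoidHom ≤ R := by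
  have hA'p : IsPGroup p (A.subgroupOf K) := hAp.comap_subtype
  obtain ⟨Q, hQ⟩ := hA'p.exists_le_sylow
  have hB'p : IsPGroup p (B.subgroupOf K) := hBp.comap_subtype
  obtain ⟨h, hh⟩ := exists_map_conj_le_sylow Q hB'p
  refine ⟨(h : G), h.2, (Q : Subgroup K).map K.subtype, ?_, Q.isPGroup'.map _, ?_, ?_⟩
  · rintro _ ⟨y, _, rfl⟩; exact y.2
  · intro a ha
    exact ⟨⟨a, hA ha⟩, hQ (by rw [Subgroup.mem_subgroupOf]; exact ha), rfl⟩
  · intro b hb
    rw [mem_map_conj] at hb
    have hbK : b ∈ K := by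
      have h3 := hB hb
      have := K.mul_mem (K.mul_mem h.2 h3) (K.inv_mem h.2)
      simpa [mul_assoc] using this
    refine ⟨⟨b, hbK⟩, hh ?_, rfl⟩
    rw [mem_map_conj, Subgroup.mem_subgroupOf]
    simpa using hb

theorem isPGroup_zpowers_of_orderOf {p : ℕ} {x : G} (hx : ∃ k : ℕ, orderOf x = p ^ k) :
    IsPGroup p (Subgroup.zpowers x) := by
  obtain ⟨k, hk⟩ := hx
  rintro ⟨y, hy⟩
  refine ⟨k, ?_⟩
  rw [Subgroup.mem_zpowers_iff] at hy
  obtain ⟨n, rfl⟩ := hy
  ext
  simp only [Subgroup.coe_pow, Subgroup.coe_one]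
  rw [← zpow_natCast, ← zpow_mul, mul_comm, zpow_mul, zpow_natCast, ← hk, pow_orderOf_eq_one, one_zpow]

end Cfsg.Agent.Lib.Helper6
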