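import Mathlib

/-!
# Lemma F for Glauberman's theorem on `C_{Aut G}(S)` (S1301 swarm)

Fusion of a central element of a Sylow subgroup (Alperin-type, self-contained):
if `T ∈ Syl_p(H)`, `z ∈ Z(T)` and some conjugate of `z` lies in `T` and differs from `z`, then there
are `V ≤ T` with `Z(T) ≤ V`, `N_T(V) ∈ Syl_p(N_H(V))` and `m ∈ N_H(V)` with `m z m⁻¹ ≠ z`.
Paper proof: notes/S1301_core_helper8.md (Lemma F).  LEFT conjugation throughout.
-/

set_option autoImplicit false

namespace Cfsg.Agent.Lib.Helper6.GlAutF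

variable {H : Type*} [Group H]

/-- left conjugate `g A g⁻¹` of a subgroup -/
abbrev cj (g : H) (A : Subgroup H) : Subgroup H := A.map (MulAut.conj g).toMonoidHom

theorem mem_cj {g a : H} {A : Subgroup H} : a ∈ cj g A ↔ g⁻¹ * a * g ∈ A := by
  constructor
  · rintro ⟨b, hb, rfl⟩
    have : g⁻¹ * ((MulAut.conj g).toMonoidHom b) * g = b := by
      simp [MulAut.conj_apply, mul_assoc]
    rwa [this]
  · intro h
    refine ⟨g⁻¹ * a * g, h, ?_⟩
    simp [MulAut.conj_apply, mul_assoc]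

theorem conj_mem_cj {g a : H} {A : Subgroup H} (ha : a ∈ A) : g * a * g⁻¹ ∈ cj g A :=
  ⟨a, ha, by simp [MulAut.conj_apply]⟩

theorem cj_mono (g : H) {A B : Subgroup H} (h : A ≤ B) : cj g A ≤ cj g B := Subgroup.map_mono h

theorem cj_cj (g k : H) (A : Subgroup H) : cj g (cj k A) = cj (g * k) A := by
  ext a
  simp only [mem_cj]
  have : k⁻¹ * (g⁻¹ * a * g) * k = (g * k)⁻¹ * a * (g * k) := by group
  rw [this]

theorem cj_one (A : Subgroup H) : cj 1 A = A := by
  ext a; simp [mem_cj]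

theorem cj_inv_cj (g : H) (A : Subgroup H) : cj g⁻¹ (cj g A) = A := by
  rw [cj_cj, inv_mul_cancel, cj_one]

theorem cj_cj_inv (g : H) (A : Subgroup H) : cj g (cj g⁻¹ A) = A := by
  rw [cj_cj, mul_inv_cancel, cj_one]

theorem card_cj (g : H) (A : Subgroup H) : Nat.card (cj g A) = Nat.card A :=
  Subgroup.card_map_of_injective (MulAut.conj g).injective

theorem isPGroup_cj {p : ℕ} (g : H) {A : Subgroup H} (hA : IsPGroup p A) : IsPGroup p (cj g A) :=
  hA.map _

theorem cj_le_iff {g : H} {A B : Subgroup H} : cj g A ≤ B ↔ A ≤ cj g⁻¹ B := by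
  constructor
  · intro h
    have := cj_mono g⁻¹ h
    rwa [cj_inv_cj] at this
  · intro h
    have := cj_mono g h
    rwa [cj_cj_inv] at this

theorem cj_normalizer (g : H) (A : Subgroup H) :
    cj g (Subgroup.normalizer (A : Set H)) = Subgroup.normalizer ((cj g A : Subgroup H) : Set H) := by
  ext a
  rw [mem_cj, Subgroup.mem_normalizer_iff, Subgroup.mem_normalizer_iff]
  constructor
  · intro h b
    rw [mem_cj, mem_cj, h (g⁻¹ * b * g)]
    have : g⁻¹ * a * g * (g⁻¹ * b * g) * (g⁻¹ * a * g)⁻¹ = g⁻¹ * (a * b * a⁻¹) * g := by group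
    rw [this]
  · intro h b
    have := h (g * b * g⁻¹)
    rw [mem_cj, mem_cj] at this
    have e1 : g⁻¹ * (g * b * g⁻¹) * g = b := by group
    have e2 : g⁻¹ * (a * (g * b * g⁻¹) * a⁻¹) * g = g⁻¹ * a * g * b * (g⁻¹ * a * g)⁻¹ := by group
    rw [e1, e2] at this
    exact this

theorem cj_eq_self_of_mem_normalizer {g : H} {A : Subgroup H}
    (hg : g ∈ Subgroup.normalizer (A : Set H)) : cj g A = A := by
  ext a
  rw [mem_cj]
  have h1 : g⁻¹ ∈ Subgroup.normalizer (A : Set H) := Subgroup.inv_mem _ hg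
  have := (Subgroup.mem_normalizer_iff.1 h1) a
  rw [inv_inv] at this
  exact this.symm

variable [Finite H]

/-- `R` is a Sylow `p`-subgroup of `K`: a `p`-subgroup of `K` into which every `p`-subgroup of `K`
can be conjugated by an element of `K`. -/
def IsSylowIn (p : ℕ) (R K : Subgroup H) : Prop :=
  R ≤ K ∧ IsPGroup p R ∧
    ∀ B : Subgroup H, IsPGroup p B → B ≤ K → ∃ k ∈ K, cj k B ≤ R

theorem IsSylowIn.eq_of_le {p : ℕ} {R K P : Subgroup H} (hR : IsSylowIn p R K)
    (hP : IsPGroup p P) (hRP : R ≤ P) (hPK : P ≤ K) : P = R := by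
  obtain ⟨k, _, hk⟩ := hR.2.2 P hP hPK
  have h1 : Nat.card P ≤ Nat.card R := by
    rw [← card_cj k P]; exact Subgroup.card_le_of_le hk
  exact (Subgroup.eq_of_le_of_card_ge hRP h1).symm

theorem IsSylowIn.conj {p : ℕ} {R K : Subgroup H} (hR : IsSylowIn p R K) (y : H) :
    IsSylowIn p (cj y R) (cj y K) := by
  refine ⟨cj_mono y hR.1, isPGroup_cj y hR.2.1, ?_⟩
  intro B hB hBK
  have hB' : cj y⁻¹ B ≤ K := by rw [cj_le_iff, inv_inv]; exact hBK
  obtain ⟨k, hkK, hk⟩ := hR.2.2 (cj y⁻¹ B) (isPGroup_cj _ hB) hB'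
  refine ⟨y * k * y⁻¹, conj_mem_cj hkK, ?_⟩
  have : cj (y * k * y⁻¹) B = cj y (cj k (cj y⁻¹ B)) := by
    rw [cj_cj, cj_cj]
  rw [this]
  exact cj_mono y hk

variable {p : ℕ} [Fact p.Prime]

/-- every `p`-subgroup of `K` lies in a Sylow `p`-subgroup of `K` -/
theorem exists_isSylowIn (K A : Subgroup H) (hA : IsPGroup p A) (hAK : A ≤ K) :
    ∃ R : Subgroup H, A ≤ R ∧ IsSylowIn p R K := by
  have hA' : IsPGroup p (A.subgroupOf K) := hA.comap_subtype
  obtain ⟨P, hP⟩ := hA'.exists_le_sylow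
  refine ⟨(P : Subgroup K).map K.subtype, ?_, Subgroup.map_subtype_le _, P.2.map _, ?_⟩
  · intro a ha
    exact ⟨⟨a, hAK ha⟩, hP (by simpa [Subgroup.mem_subgroupOf] using ha), rfl⟩
  · intro B hB hBK
    have hB' : IsPGroup p (B.subgroupOf K) := hB.comap_subtype
    obtain ⟨P', hP'⟩ := hB'.exists_le_sylow
    obtain ⟨k, hk⟩ := MulAction.exists_smul_eq K P' P
    refine ⟨(k : H), k.2, ?_⟩
    intro a ha
    rw [mem_cj] at ha
    have h1 : (⟨(k : H)⁻¹ * a * k, hBK ha⟩ : K) ∈ (P' : Subgroup K) :=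
      hP' (by simpa [Subgroup.mem_subgroupOf] using ha)
    have h2 : k * (⟨(k : H)⁻¹ * a * k, hBK ha⟩ : K) * k⁻¹ ∈ ((k • P' : Sylow p K) : Subgroup K) := by
      rw [Sylow.coe_subgroup_smul]
      exact ⟨_, h1, by simp [MulAut.conj_apply]⟩
    rw [hk] at h2
    refine ⟨_, h2, ?_⟩
    simp [mul_assoc]

/-- a Sylow `p`-subgroup of `H` is a Sylow `p`-subgroup of every subgroup containing it -/
theorem isSylowIn_of_sylow (T : Sylow p H) (K : Subgroup H) (hTK : (T : Subgroup H) ≤ K) :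
    IsSylowIn p (T : Subgroup H) K := by
  obtain ⟨R, hTR, hR⟩ := exists_isSylowIn K (T : Subgroup H) T.2 hTK
  have : R = (T : Subgroup H) := T.is_maximal' hR.2.1 hTR
  rwa [this] at hR

/-- in a `p`-group a proper subgroup is properly contained in its normaliser (cardinality form) -/
theorem card_lt_card_inf_normalizer {T V : Subgroup H} (hT : IsPGroup p T) (hVT : V ≤ T)
    (hne : V ≠ T) : Nat.card V < Nat.card (T ⊓ Subgroup.normalizer (V : Set H) : Subgroup H) := by
  have : Group.IsNilpotent T := hT.isNilpotent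
  have hnc := Group.normalizerCondition_of_isNilpotent (G := T)
  have hlt : V.subgroupOf T < ⊤ := by
    rw [lt_top_iff_ne_top]
    intro h
    apply hne
    apply le_antisymm hVT
    intro a ha
    have : (⟨a, ha⟩ : T) ∈ V.subgroupOf T := by rw [h]; trivial
    simpa [Subgroup.mem_subgroupOf] using this
  have h2 := hnc _ hlt
  -- map to H
  have hle : V ≤ T ⊓ Subgroup.normalizer (V : Set H) := le_inf hVT Subgroup.le_normalizer
  rcases (Subgroup.card_le_of_le hle).lt_or_eq with h | h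
  · exact h
  · exfalso
    have heq : V = T ⊓ Subgroup.normalizer (V : Set H) := Subgroup.eq_of_le_of_card_ge hle h.ge
    obtain ⟨b, hb1, hb2⟩ := SetLike.exists_of_lt h2
    apply hb2
    rw [Subgroup.mem_subgroupOf, heq]
    refine ⟨b.2, ?_⟩
    show (b : H) ∈ Subgroup.normalizer (V : Set H)
    rw [Subgroup.mem_normalizer_iff]
    intro c
    rw [Subgroup.mem_normalizer_iff] at hb1
    constructor
    · intro hc
      have := (hb1 ⟨c, hVT hc⟩).1 (by simpa [Subgroup.mem_subgroupOf] using hc)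
      simpa [Subgroup.mem_subgroupOf] using this
    · intro hc
      -- c = b⁻¹ (b c b⁻¹) b, and b c b⁻¹ ∈ V ≤ T so c ∈ T
      have hcT : c ∈ T := by
        have h1 : (b : H) * c * (b : H)⁻¹ ∈ T := hVT hc
        have : c = (b : H)⁻¹ * ((b : H) * c * (b : H)⁻¹) * (b : H) := by group
        rw [this]
        exact T.mul_mem (T.mul_mem (T.inv_mem b.2) h1) b.2
      have := (hb1 ⟨c, hcT⟩).2 (by simpa [Subgroup.mem_subgroupOf] using hc)
      simpa [Subgroup.mem_subgroupOf] using this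


theorem mem_normalizer_of_cj_eq {g : H} {A : Subgroup H} (h : cj g A = A) :
    g ∈ Subgroup.normalizer (A : Set H) := by
  rw [Subgroup.mem_normalizer_iff]
  intro b
  constructor
  · intro hb
    have := conj_mem_cj (g := g) hb
    rwa [h] at this
  · intro hb
    rw [← h, mem_cj] at hb
    have e : g⁻¹ * (g * b * g⁻¹) * g = b := by group
    rwa [e] at hb

theorem IsSylowIn.of_top {R K : Subgroup H} (hR : IsSylowIn p R ⊤) (hRK : R ≤ K) :
    IsSylowIn p R K := by
  obtain ⟨R', hRR', hR'⟩ := exists_isSylowIn K R hR.2.1 hRK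
  have : R' = R := hR.eq_of_le hR'.2.1 hRR' le_top
  rwa [this] at hR'

/-- `C_T(a)` -/
abbrev CT (T : Subgroup H) (a : H) : Subgroup H := T ⊓ Subgroup.centralizer {a}

theorem mem_CT {T : Subgroup H} {a x : H} : x ∈ CT T a ↔ x ∈ T ∧ a * x = x * a := by
  simp [CT, Subgroup.mem_centralizer_iff]

/-- conjugating a commuting pair -/
theorem conj_comm {g a b : H} (h : a * b = b * a) :
    (g * a * g⁻¹) * (g * b * g⁻¹) = (g * b * g⁻¹) * (g * a * g⁻¹) := by
  have e1 : (g * a * g⁻¹) * (g * b * g⁻¹) = g * (a * b) * g⁻¹ := by group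
  have e2 : (g * b * g⁻¹) * (g * a * g⁻¹) = g * (b * a) * g⁻¹ := by group
  rw [e1, e2, h]

/-- LEMMA F. -/
theorem lemmaF (T : Sylow p H) (z : H) (hzT : z ∈ (T : Subgroup H))
    (hzc : ∀ t ∈ (T : Subgroup H), t * z = z * t) (h : H) (hh : h * z * h⁻¹ ∈ (T : Subgroup H))
    (hne : h * z * h⁻¹ ≠ z) :
    ∃ V : Subgroup H, V ≤ (T : Subgroup H) ∧
      (∀ c ∈ (T : Subgroup H), (∀ t ∈ (T : Subgroup H), t * c = c * t) → c ∈ V) ∧
      IsSylowIn p ((T : Subgroup H) ⊓ Subgroup.normalizer (V : Set H))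
        (Subgroup.normalizer (V : Set H)) ∧
      ∃ m ∈ Subgroup.normalizer (V : Set H), m * z * m⁻¹ ≠ z := by
  classical
  set TT : Subgroup H := (T : Subgroup H) with hTT
  have hTp : IsPGroup p TT := T.2
  -- the set X of conjugates of z in T different from z
  let X : Set H := {z' | (∃ g : H, z' = g * z * g⁻¹) ∧ z' ∈ TT ∧ z' ≠ z}
  have hXne : X.Nonempty := ⟨h * z * h⁻¹, ⟨h, rfl⟩, hh, hne⟩
  obtain ⟨z', hz'X, hmax⟩ := Set.exists_max_image X (fun a => Nat.card (CT TT a)) (Set.toFinite X) hXne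
  obtain ⟨⟨g0, hg0⟩, hz'T, hz'ne⟩ := hz'X
  set V0 : Subgroup H := CT TT z' with hV0
  have hV0T : V0 ≤ TT := inf_le_left
  have hz'V0 : z' ∈ V0 := mem_CT.2 ⟨hz'T, rfl⟩
  have hzV0 : z ∈ V0 := mem_CT.2 ⟨hzT, hzc z' hz'T⟩
  have hV0p : IsPGroup p V0 := hTp.to_le hV0T
  -- T^{g0} is Sylow in C(z')
  have hTtop : IsSylowIn p TT ⊤ := isSylowIn_of_sylow T ⊤ le_top
  have hcent0 : cj g0 TT ≤ Subgroup.centralizer {z'} := by
    intro a ha
    rw [mem_cj] at ha
    rw [Subgroup.mem_centralizer_iff]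
    intro b hb
    rw [Set.mem_singleton_iff] at hb
    subst hb
    have h1 := hzc _ ha
    have h2 := conj_comm (g := g0) h1
    have e : g0 * (g0⁻¹ * a * g0) * g0⁻¹ = a := by group
    rw [e, ← hg0] at h2
    exact h2.symm
  have hS0 : IsSylowIn p (cj g0 TT) (Subgroup.centralizer {z'}) := by
    have h1 := hTtop.conj g0
    have h2 : cj g0 (⊤ : Subgroup H) = ⊤ := by
      ext a
      constructor
      · intro _; trivial
      · intro _; rw [mem_cj]; trivial
    rw [h2] at h1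
    exact h1.of_top hcent0
  obtain ⟨c, hc, hcV0⟩ := hS0.2.2 V0 hV0p inf_le_right
  -- the adjusted conjugating element
  set g1 : H := c⁻¹ * g0 with hg1
  have hcz' : c * z' = z' * c := by
    rw [Subgroup.mem_centralizer_iff] at hc
    exact (hc z' rfl).symm
  have hg1z : z' = g1 * z * g1⁻¹ := by
    have e : g1 * z * g1⁻¹ = c⁻¹ * (g0 * z * g0⁻¹) * c := by rw [hg1]; group
    rw [e, ← hg0]
    have : c⁻¹ * z' * c = c⁻¹ * (z' * c) := by group
    rw [this, ← hcz']; group
  set Th : Subgroup H := cj g1 TT with hTh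
  have hV0Th : V0 ≤ Th := by
    have : Th = cj c⁻¹ (cj g0 TT) := by rw [hTh, hg1, cj_cj]
    rw [this, ← cj_le_iff]
    exact hcV0
  have hThp : IsPGroup p Th := isPGroup_cj g1 hTp
  have hThcard : Nat.card Th = Nat.card TT := card_cj g1 TT
  have hThc : ∀ a ∈ Th, z' * a = a * z' := by
    intro a ha
    rw [hTh, mem_cj] at ha
    have h1 := hzc _ ha
    have h2 := conj_comm (g := g1) h1
    have e : g1 * (g1⁻¹ * a * g1) * g1⁻¹ = a := by group
    rw [e, ← hg1z] at h2
    exact h2.symm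
  by_cases hVT : V0 = TT
  · -- Case 1
    have hTTh : TT ≤ Th := hVT ▸ hV0Th
    have hEq : Th = TT := (Subgroup.eq_of_le_of_card_ge hTTh hThcard.le).symm
    have hg1N : g1 ∈ Subgroup.normalizer (TT : Set H) := mem_normalizer_of_cj_eq hEq
    refine ⟨TT, le_rfl, fun c hc _ => hc, ?_, g1, hg1N, ?_⟩
    · have : TT ⊓ Subgroup.normalizer (TT : Set H) = TT :=
        inf_eq_left.2 Subgroup.le_normalizer
      rw [this]
      exact isSylowIn_of_sylow T _ Subgroup.le_normalizer
    · rw [← hg1z]; exact hz'ne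
  · -- Case 2
    set N0 : Subgroup H := Subgroup.normalizer (V0 : Set H) with hN0
    set NT : Subgroup H := TT ⊓ N0 with hNT
    set NTh : Subgroup H := Th ⊓ N0 with hNTh
    have hNTcard : Nat.card V0 < Nat.card NT := card_lt_card_inf_normalizer hTp hV0T hVT
    have hVTh : V0 ≠ Th := by
      intro hEq
      apply hVT
      apply Subgroup.eq_of_le_of_card_ge hV0T
      rw [← hThcard, ← hEq]
    have hNThcard : Nat.card V0 < Nat.card NTh := card_lt_card_inf_normalizer hThp hV0Th hVTh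
    have hV0NT : V0 ≤ NT := le_inf hV0T Subgroup.le_normalizer
    have hV0NTh : V0 ≤ NTh := le_inf hV0Th Subgroup.le_normalizer
    obtain ⟨R1, hNTR1, hR1⟩ := exists_isSylowIn N0 NT (hTp.to_le inf_le_left) inf_le_right
    obtain ⟨y, _, hy⟩ := hTtop.2.2 R1 hR1.2.1 le_top
    -- (1) y fixes z
    have hzy : y * z * y⁻¹ = z := by
      by_contra hzy'
      have hwT : y * z * y⁻¹ ∈ TT := hy (conj_mem_cj (hNTR1 (hV0NT hzV0)))
      have hwX : y * z * y⁻¹ ∈ X := ⟨⟨y, rfl⟩, hwT, hzy'⟩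
      have h1 := hmax _ hwX
      have h2 : cj y NT ≤ CT TT (y * z * y⁻¹) := by
        intro a ha
        refine mem_CT.2 ⟨hy (cj_mono y hNTR1 ha), ?_⟩
        rw [mem_cj] at ha
        have h3 := hzc _ ha.1
        have h4 := conj_comm (g := y) h3
        have e : y * (y⁻¹ * a * y) * y⁻¹ = a := by group
        rw [e] at h4
        exact h4.symm
      have h3 := Subgroup.card_le_of_le h2
      rw [card_cj] at h3
      have : Nat.card NT ≤ Nat.card V0 := h3.trans h1
      omega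
    -- (2)
    obtain ⟨k, hkN0, hk⟩ := hR1.2.2 NTh (hThp.to_le inf_le_left) inf_le_right
    have hz'' : (y * k) * z' * (y * k)⁻¹ = z := by
      by_contra hne''
      have e0 : (y * k) * z' * (y * k)⁻¹ = y * (k * z' * k⁻¹) * y⁻¹ := by group
      have hwT : (y * k) * z' * (y * k)⁻¹ ∈ TT := by
        rw [e0]
        exact hy (conj_mem_cj (hk (conj_mem_cj (hV0NTh hz'V0))))
      have hwX : (y * k) * z' * (y * k)⁻¹ ∈ X := by
        refine ⟨⟨y * k * g1, ?_⟩, hwT, hne''⟩
        rw [hg1z]; group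
      have h1 := hmax _ hwX
      have h2 : cj (y * k) NTh ≤ CT TT ((y * k) * z' * (y * k)⁻¹) := by
        intro a ha
        refine mem_CT.2 ⟨?_, ?_⟩
        · rw [← cj_cj] at ha
          exact hy (cj_mono y hk ha)
        · rw [mem_cj] at ha
          have h3 := hThc _ ha.1
          have h4 := conj_comm (g := y * k) h3
          have e : (y * k) * ((y * k)⁻¹ * a * (y * k)) * (y * k)⁻¹ = a := by group
          rw [e] at h4
          exact h4
      have h3 := Subgroup.card_le_of_le h2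
      rw [card_cj] at h3
      have : Nat.card NTh ≤ Nat.card V0 := h3.trans h1
      omega
    -- z' = k⁻¹ z k
    have hz'k : z' = k⁻¹ * z * k := by
      have e1 : z' = (y * k)⁻¹ * ((y * k) * z' * (y * k)⁻¹) * (y * k) := by group
      rw [hz''] at e1
      have e2 : (y * k)⁻¹ * z * (y * k) = k⁻¹ * (y⁻¹ * z * y) * k := by group
      have e3 : y⁻¹ * z * y = z := by
        have : y⁻¹ * z * y = y⁻¹ * (y * z * y⁻¹) * y := by rw [hzy]
        rw [this]; group
      rw [e1, e2, e3]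
    -- (3)
    set V : Subgroup H := cj y V0 with hV
    have hVT' : V ≤ TT := fun a ha => hy (cj_mono y (hV0NT.trans hNTR1) ha)
    have hNV : Subgroup.normalizer (V : Set H) = cj y N0 := (cj_normalizer y V0).symm
    have hw'ne : y * z' * y⁻¹ ≠ z := by
      intro hEq
      apply hz'ne
      have : z' = y⁻¹ * (y * z' * y⁻¹) * y := by group
      rw [this, hEq]
      have : y⁻¹ * z * y = y⁻¹ * (y * z * y⁻¹) * y := by rw [hzy]
      rw [this]; group
    have hw'T : y * z' * y⁻¹ ∈ TT := hVT' (conj_mem_cj hz'V0)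
    have hw'X : y * z' * y⁻¹ ∈ X := by
      refine ⟨⟨y * g1, ?_⟩, hw'T, hw'ne⟩
      rw [hg1z]; group
    have hVCT : V = CT TT (y * z' * y⁻¹) := by
      have hle : V ≤ CT TT (y * z' * y⁻¹) := by
        intro a ha
        refine mem_CT.2 ⟨hVT' ha, ?_⟩
        rw [hV, mem_cj] at ha
        have h3 := (mem_CT.1 ha).2
        have h4 := conj_comm (g := y) h3
        have e : y * (y⁻¹ * a * y) * y⁻¹ = a := by group
        rw [e] at h4
        exact h4
      apply Subgroup.eq_of_le_of_card_ge hle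
      have h1 := hmax _ hw'X
      have : Nat.card V = Nat.card V0 := card_cj y V0
      rw [this]
      exact h1
    refine ⟨V, hVT', ?_, ?_, y * k⁻¹ * y⁻¹, ?_, ?_⟩
    · intro c hc hcc
      rw [hVCT]
      exact mem_CT.2 ⟨hc, (hcc _ hw'T)⟩
    · have h1 := hR1.conj y
      rw [← hNV] at h1
      have h2 : cj y R1 ≤ TT ⊓ Subgroup.normalizer (V : Set H) := le_inf hy h1.1
      have h3 : TT ⊓ Subgroup.normalizer (V : Set H) = cj y R1 :=
        h1.eq_of_le (hTp.to_le inf_le_left) h2 inf_le_right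
      rw [h3]
      exact h1
    · rw [hNV]
      exact conj_mem_cj (N0.inv_mem hkN0)
    · have e : y * k⁻¹ * y⁻¹ * z * (y * k⁻¹ * y⁻¹)⁻¹ = y * (k⁻¹ * (y⁻¹ * z * y) * k) * y⁻¹ := by group
      have e3 : y⁻¹ * z * y = z := by
        have : y⁻¹ * z * y = y⁻¹ * (y * z * y⁻¹) * y := by rw [hzy]
        rw [this]; group
      rw [e, e3, ← hz'k]
      exact hw'ne

/-- LEMMA F, with Sylow-ness of `N_T(V)` in `N_H(V)` expressed as maximality. -/
theorem lemmaF' (T : Sylow p H) (z : H) (hzT : z ∈ (T : Subgroup H))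
    (hzc : ∀ t ∈ (T : Subgroup H), t * z = z * t) (h : H) (hh : h * z * h⁻¹ ∈ (T : Subgroup H))
    (hne : h * z * h⁻¹ ≠ z) :
    ∃ V : Subgroup H, V ≤ (T : Subgroup H) ∧
      (∀ c ∈ (T : Subgroup H), (∀ t ∈ (T : Subgroup H), t * c = c * t) → c ∈ V) ∧
      (∀ P : Subgroup H, IsPGroup p P →
        (T : Subgroup H) ⊓ Subgroup.normalizer (V : Set H) ≤ P →
        P ≤ Subgroup.normalizer (V : Set H) →
        P = (T : Subgroup H) ⊓ Subgroup.normalizer (V : Set H)) ∧
      ∃ m ∈ Subgroup.normalizer (V : Set H), m * z * m⁻¹ ≠ z := by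
  obtain ⟨V, h1, h2, h3, h4⟩ := lemmaF T z hzT hzc h hh hne
  exact ⟨V, h1, h2, fun P hP hle hPN => h3.eq_of_le hP hle hPN, h4⟩

end Cfsg.Agent.Lib.Helper6.GlAutF
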