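import Mathlib
import Cfsg.Agent.Lib.Helper8.GlAutDefs
import Cfsg.Agent.Lib.Helper8.GlAutBasic
import Cfsg.Agent.Lib.Lead.GlAutC

/-!
# Theorem G swarm, package PU: `eq_of_le_centralizer_sylMax` and lemma (U)
-/

set_option autoImplicit false
open scoped commutatorElement

namespace Cfsg.Agent.Lib.Helper8.GlAut

universe u

variable {Γ : Type u} [Group Γ]

/-- central Sylow 2-subgroup and `O(K) = 1`: `K = S` (Burnside transfer) -/
theorem eq_of_le_centralizer_sylMax [Finite Γ] {K S : Subgroup Γ} (h : SylMax S K) (h1 : oc K = ⊥)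
    (hc : K ≤ Subgroup.centralizer (S : Set Γ)) : K = S := by
  obtain ⟨P, hPS⟩ := h.exists_sylow
  have hP : Subgroup.normalizer ((P : Subgroup ↥K) : Set ↥K) ≤
      Subgroup.centralizer ((P : Subgroup ↥K) : Set ↥K) := by
    intro g _
    rw [Subgroup.mem_centralizer_iff]
    intro a ha
    have haS : (a : Γ) ∈ S := by
      rw [← hPS]; exact Subgroup.mem_map_of_mem _ ha
    have := (Subgroup.mem_centralizer_iff.mp (hc g.2)) (a : Γ) haS
    exact Subtype.ext this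
  have hcomp := MonoidHom.ker_transferSylow_isComplement' P hP
  have hnd := MonoidHom.not_dvd_card_ker_transferSylow P hP
  set N' : Subgroup ↥K := (MonoidHom.transferSylow P hP).ker with hN'
  have hNle : N'.map K.subtype ≤ oc K := by
    apply le_oc
    · rintro _ ⟨a, _, rfl⟩; exact a.2
    · intro k hk
      rw [Subgroup.mem_normalizer_iff]
      intro y
      constructor
      · rintro ⟨a, ha, rfl⟩
        have : (⟨k, hk⟩ : ↥K) * a * (⟨k, hk⟩ : ↥K)⁻¹ ∈ N' :=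
          (inferInstance : N'.Normal).conj_mem a ha _
        exact ⟨_, this, rfl⟩
      · rintro ⟨a, ha, ha'⟩
        have : (⟨k, hk⟩ : ↥K)⁻¹ * a * (⟨k, hk⟩ : ↥K)⁻¹⁻¹ ∈ N' :=
          (inferInstance : N'.Normal).conj_mem a ha _
        refine ⟨_, this, ?_⟩
        simp only [inv_inv, Subgroup.subtype_apply, Subgroup.coe_mul, Subgroup.coe_inv] at ha' ⊢
        rw [ha']; group
    · have : Nat.card ↥(N'.map K.subtype) = Nat.card ↥N' :=
        Subgroup.card_map_of_injective K.subtype_injective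
      rw [this]
      exact Nat.odd_iff.mpr (Nat.two_dvd_ne_zero.mp hnd)
  rw [h1, le_bot_iff, Subgroup.map_eq_bot_iff_of_injective _ K.subtype_injective] at hNle
  rw [hNle] at hcomp
  have hPtop : (P : Subgroup ↥K) = ⊤ := Subgroup.isComplement'_bot_left.mp hcomp
  rw [← hPS, hPtop, ← MonoidHom.range_eq_map, Subgroup.range_subtype]

/-! ### Lemma (U) -/

namespace PU

/-- the subgroup of the elements of `Z(W)` killed by `m` -/
def torsionCenter (W : Subgroup Γ) (m : ℕ) : Subgroup Γ where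
  carrier := {a | a ∈ W ∧ a ∈ Subgroup.centralizer (W : Set Γ) ∧ a ^ m = 1}
  one_mem' := ⟨W.one_mem, Subgroup.one_mem _, one_pow _⟩
  mul_mem' := by
    rintro a b ⟨ha1, ha2, ha3⟩ ⟨hb1, hb2, hb3⟩
    refine ⟨W.mul_mem ha1 hb1, Subgroup.mul_mem _ ha2 hb2, ?_⟩
    have hcomm : Commute a b := (Subgroup.mem_centralizer_iff.mp hb2 a ha1)
    rw [hcomm.mul_pow, ha3, hb3, one_mul]
  inv_mem' := by
    rintro a ⟨ha1, ha2, ha3⟩
    exact ⟨W.inv_mem ha1, Subgroup.inv_mem _ ha2, by rw [inv_pow, ha3, inv_one]⟩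

theorem mem_torsionCenter {W : Subgroup Γ} {m : ℕ} {a : Γ} :
    a ∈ torsionCenter W m ↔ a ∈ W ∧ a ∈ Subgroup.centralizer (W : Set Γ) ∧ a ^ m = 1 := Iff.rfl

theorem conj_mem_torsionCenter {W : Subgroup Γ} [W.Normal] {m : ℕ} {a : Γ}
    (ha : a ∈ torsionCenter W m) (g : Γ) : g * a * g⁻¹ ∈ torsionCenter W m := by
  obtain ⟨ha1, ha2, ha3⟩ := ha
  refine ⟨(inferInstance : W.Normal).conj_mem a ha1 g,
    (inferInstance : (Subgroup.centralizer (W : Set Γ)).Normal).conj_mem a ha2 g, ?_⟩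
  rw [conj_pow, ha3, mul_one, mul_inv_cancel]

/-- if `c` commutes with `⁅c, k⁆` then `c ^ i * k * c ^ (-i) = ⁅c, k⁆ ^ i * k` -/
theorem pow_conj_eq {c k : Γ} (h : Commute c ⁅c, k⁆) (i : ℕ) :
    c ^ i * k * (c ^ i)⁻¹ = ⁅c, k⁆ ^ i * k := by
  induction i with
  | zero => simp
  | succ i ih =>
    have h2 : Commute c (⁅c, k⁆ ^ i) := h.pow_right i
    calc c ^ (i + 1) * k * (c ^ (i + 1))⁻¹
        = c * (c ^ i * k * (c ^ i)⁻¹) * c⁻¹ := by rw [pow_succ']; group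
      _ = c * (⁅c, k⁆ ^ i * k) * c⁻¹ := by rw [ih]
      _ = (c * ⁅c, k⁆ ^ i) * k * c⁻¹ := by group
      _ = (⁅c, k⁆ ^ i * c) * k * c⁻¹ := by rw [h2.eq]
      _ = ⁅c, k⁆ ^ i * (c * k * c⁻¹ * k⁻¹) * k := by group
      _ = ⁅c, k⁆ ^ (i + 1) * k := by rw [← commutatorElement_def, ← pow_succ]

end PU

/-- (U): if `⁅⁅q,x⁆, K⁆` lies in a proper `Γ`-normal subgroup `W` of `K` then `⁅q,x⁆` centralizes `K`. -/
theorem comm_eq_one_of_comm_mem_proper {n : ℕ} (ih : IH.{u} n) [Finite Γ] {K : Subgroup Γ} [K.Normal]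
    {S Q : Subgroup Γ} {x : Γ} (hn : Nat.card ↥K = n) (hyp : Hyp K S Q x) (h1 : oc K = ⊥)
    (W : Subgroup Γ) [W.Normal] (hWK : W ≤ K) (hWne : W ≠ K) {q : Γ} (hq : q ∈ Q)
    (hW : ∀ k ∈ K, ⁅⁅q, x⁆, k⁆ ∈ W) : ∀ k ∈ K, ⁅⁅q, x⁆, k⁆ = 1 := by
  -- `c = ⁅q, x⁆` lies in `Q` and centralizes `S`
  have hcQ : ⁅q, x⁆ ∈ Q := by
    have h2 : x * q⁻¹ * x⁻¹ ∈ Q := (Subgroup.mem_normalizer_iff.mp hyp.hxQ q⁻¹).mp (Q.inv_mem hq)
    have : ⁅q, x⁆ = q * (x * q⁻¹ * x⁻¹) := by rw [commutatorElement_def]; group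
    rw [this]; exact Q.mul_mem hq h2
  have hcS : ⁅q, x⁆ ∈ Subgroup.centralizer (S : Set Γ) := by
    rw [commutatorElement_def]
    exact Subgroup.mul_mem _ (Subgroup.mul_mem _ (Subgroup.mul_mem _ (hyp.hQS hq) hyp.hxS)
      (Subgroup.inv_mem _ (hyp.hQS hq))) (Subgroup.inv_mem _ hyp.hxS)
  set c : Γ := ⁅q, x⁆ with hc
  -- Step 1: `c` centralizes `W` (induction hypothesis)
  have hKW : K ≤ Subgroup.normalizer (W : Set Γ) := by
    rw [Subgroup.normalizer_eq_top]; exact le_top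
  have hlt : Nat.card ↥W < n := by
    rw [← hn]
    by_contra hge
    exact hWne (Subgroup.eq_of_le_of_card_ge hWK (not_lt.mp hge))
  have hypW : Hyp W (S ⊓ W) Q x :=
    ⟨hyp.syl.inf_normal hWK hKW, hyp.hQ2,
      hyp.hQS.trans (Subgroup.centralizer_le (by intro y hy; exact hy.1)), hyp.hx,
      Subgroup.centralizer_le (by intro y hy; exact hy.1) hyp.hxS, hyp.hxQ⟩
  have hcW : ∀ w ∈ W, ⁅c, w⁆ = 1 := by
    intro w hw
    have h2 : ⁅c, w⁆ ∈ oc W := ih Γ W (S ⊓ W) Q x hlt hypW q hq w hw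
    have h3 : oc W ≤ oc K := oc_le_oc hWK hKW
    have h4 := h3 h2
    rw [h1] at h4
    exact Subgroup.mem_bot.mp h4
  have hcomm : ∀ w ∈ W, Commute c w := by
    intro w hw
    have := hcW w hw
    rw [commutatorElement_eq_one_iff_mul_comm] at this
    exact this
  -- Step 2: `c ^ 2 ^ j = 1`
  obtain ⟨j, hj⟩ := hyp.hQ2 ⟨c, hcQ⟩
  have hj' : c ^ 2 ^ j = 1 := by
    have := congrArg Subtype.val hj
    simpa using this
  -- Step 3: the values of `f` lie in `A`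
  have hfA : ∀ k ∈ K, ⁅c, k⁆ ∈ PU.torsionCenter W (2 ^ j) := by
    intro k hk
    refine ⟨hW k hk, ?_, ?_⟩
    · rw [Subgroup.mem_centralizer_iff]
      intro w hw
      have hw' : k⁻¹ * w * k⁻¹⁻¹ ∈ W := (inferInstance : W.Normal).conj_mem w hw k⁻¹
      have e1 : c * (k⁻¹ * w * k⁻¹⁻¹) = (k⁻¹ * w * k⁻¹⁻¹) * c := (hcomm _ hw').eq
      have e2 : c * w = w * c := (hcomm _ hw).eq
      rw [commutatorElement_def]
      have e3 : c * k * c⁻¹ * k⁻¹ * w = c * k * (c⁻¹ * (k⁻¹ * w * k⁻¹⁻¹) * c) * c⁻¹ * k⁻¹ := by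
        group
      have e4 : c⁻¹ * (k⁻¹ * w * k⁻¹⁻¹) * c = k⁻¹ * w * k⁻¹⁻¹ := by
        rw [mul_assoc, ← e1, inv_mul_cancel_left]
      rw [show w * (c * k * c⁻¹ * k⁻¹) = (w * c) * k * c⁻¹ * k⁻¹ by group, ← e2, e3, e4]
      group
    · have h3 := PU.pow_conj_eq (hcomm _ (hW k hk)) (2 ^ j)
      rw [hj'] at h3
      have : ⁅c, k⁆ ^ 2 ^ j * k = k := by rw [← h3]; group
      exact mul_eq_right.mp this
  set A : Subgroup Γ := PU.torsionCenter W (2 ^ j) with hA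
  have hAK : A ≤ K := fun a ha => hWK ha.1
  have hAn : K ≤ Subgroup.normalizer (A : Set Γ) := by
    intro k _
    rw [Subgroup.mem_normalizer_iff]
    intro a
    constructor
    · intro ha; exact PU.conj_mem_torsionCenter ha k
    · intro ha
      have := PU.conj_mem_torsionCenter ha k⁻¹
      have e : k⁻¹ * (k * a * k⁻¹) * k⁻¹⁻¹ = a := by group
      rwa [e] at this
  have hAab : ∀ a ∈ A, ∀ b ∈ A, a * b = b * a := by
    intro a ha b hb
    exact (Subgroup.mem_centralizer_iff.mp hb.2.1 a ha.1)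
  have hA2 : IsPGroup 2 ↥A := by
    intro a
    refine ⟨j, ?_⟩
    apply Subtype.ext
    have := a.2.2.2
    simpa using this
  obtain ⟨a, haA, haS, hac⟩ := cocycle_conj hyp.syl hAK hAn hAab hA2 hcS hfA
  -- Step 4: `a ∈ S`, so `x` commutes with `a`
  have haS' : a ∈ S := by
    have hle : Subgroup.zpowers a ≤ S :=
      hyp.syl.le_of_centralizes (hA2.to_le (Subgroup.zpowers_le.mpr haA))
        (Subgroup.zpowers_le.mpr (hAK haA)) (Subgroup.zpowers_le.mpr haS)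
    exact hle (Subgroup.mem_zpowers a)
  have hxa : a * x = x * a := Subgroup.mem_centralizer_iff.mp hyp.hxS a haS'
  -- Step 5: `⁅c, x⁆ ∈ C_Γ(K)`
  have hd : a⁻¹ * c ∈ Subgroup.centralizer (K : Set Γ) := by
    rw [Subgroup.mem_centralizer_iff]
    intro k hk
    have := hac k hk
    have e : a⁻¹ * c * k = a⁻¹ * (c * k * c⁻¹) * c := by group
    rw [e, this]; group
  have hcx : ⁅c, x⁆ ∈ Subgroup.centralizer (K : Set Γ) := by
    have hN : (Subgroup.centralizer (K : Set Γ)).Normal := inferInstance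
    have e : ⁅c, x⁆ = a * ((a⁻¹ * c) * (x * (a⁻¹ * c)⁻¹ * x⁻¹)) * a⁻¹ := by
      rw [commutatorElement_def]
      have hxa' : x⁻¹ * a⁻¹ = a⁻¹ * x⁻¹ := by
        rw [← mul_inv_rev, ← mul_inv_rev, hxa]
      calc c * x * c⁻¹ * x⁻¹ = c * x * c⁻¹ * a * (a⁻¹ * x⁻¹) := by group
        _ = c * x * c⁻¹ * a * (x⁻¹ * a⁻¹) := by rw [hxa']
        _ = a * ((a⁻¹ * c) * (x * (a⁻¹ * c)⁻¹ * x⁻¹)) * a⁻¹ := by group
    rw [e]
    exact hN.conj_mem _ (Subgroup.mul_mem _ hd (hN.conj_mem _ (Subgroup.inv_mem _ hd) x)) a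
  -- Step 6: the trivial lemma
  have hcC : c ∈ Subgroup.centralizer (K : Set Γ) :=
    comm_mem_of_comm_comm_mem (Subgroup.centralizer (K : Set Γ)) hcx hyp.hx
      (j := j) (by rw [hj']; exact Subgroup.one_mem _)
  intro k hk
  rw [commutatorElement_eq_one_iff_mul_comm]
  exact (Subgroup.mem_centralizer_iff.mp hcC k hk).symm

end Cfsg.Agent.Lib.Helper8.GlAut
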