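import Mathlib
import Cfsg.Agent.Lib.Helper6.GlAutF

/-!
# Lemma F in the exact shape of helper8's stub (`notes/S1301_GlAut_stub.lean.txt`, package PF)
-/

set_option autoImplicit false

namespace Cfsg.Agent.Lib.Helper8.GlAut

universe u

/-- **Lemma F** (local fusion, Alperin-type): if the central element `z` of the Sylow `p`-subgroup `T`
is `H`-conjugate to another element of `T`, then there is a subgroup `V ≤ T` containing `Z(T)` such that
`N_T(V)` is a Sylow `p`-subgroup of `N_H(V)` and some `m ∈ N_H(V)` moves `z`. -/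
theorem exists_local_fusion {H : Type u} [Group H] [Finite H] {p : ℕ} [Fact p.Prime] (T : Sylow p H)
    {z h : H} (hzT : z ∈ T) (hzc : ∀ t ∈ T, t * z = z * t) (hh : h * z * h⁻¹ ∈ T)
    (hne : h * z * h⁻¹ ≠ z) :
    ∃ (V : Subgroup H) (m : H), V ≤ T ∧ (∀ c ∈ T, (∀ t ∈ T, t * c = c * t) → c ∈ V) ∧
      (∀ P : Subgroup H, IsPGroup p ↥P →
        (T : Subgroup H) ⊓ Subgroup.normalizer (V : Set H) ≤ P →
        P ≤ Subgroup.normalizer (V : Set H) →
        P = (T : Subgroup H) ⊓ Subgroup.normalizer (V : Set H)) ∧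
      m ∈ Subgroup.normalizer (V : Set H) ∧ m * z * m⁻¹ ≠ z := by
  obtain ⟨V, h1, h2, h3, m, hm, hmz⟩ :=
    Cfsg.Agent.Lib.Helper6.GlAutF.lemmaF' T z hzT hzc h hh hne
  exact ⟨V, m, h1, h2, h3, hm, hmz⟩

end Cfsg.Agent.Lib.Helper8.GlAut
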