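import Mathlib
import Cfsg.Agent.Lib.Helper6.GlAutF

/-!
# S1301 swarm, package CS-C of `core_simple`: the cover lemma
If `⁅L, S1⁆ ≤ O` with `O` of odd order and `S1` a 2-group (both `L` and `S1` normalizing `O`),
then `C_{LO}(S1)` covers `L` modulo `O`.
-/

set_option autoImplicit false
open scoped commutatorElement

namespace Cfsg.Agent.Lib.LB2

open Cfsg.Agent.Lib.Helper6.GlAutF

variable {Γ : Type*} [Group Γ]

namespace CSC

/-- elements of `U ⊔ T` when `U` normalizes `T`: `x = u * t` -/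
theorem exists_mul_of_mem_sup {T U : Subgroup Γ}
    (hUT : U ≤ Subgroup.normalizer (T : Set Γ)) {x : Γ} (hx : x ∈ U ⊔ T) :
    ∃ u ∈ U, ∃ t ∈ T, x = u * t := by
  let M : Subgroup Γ :=
    { carrier := {x | ∃ u ∈ U, ∃ t ∈ T, x = u * t}
      one_mem' := ⟨1, U.one_mem, 1, T.one_mem, by simp⟩
      mul_mem' := by
        rintro _ _ ⟨u, hu, t, ht, rfl⟩ ⟨u', hu', t', ht', rfl⟩
        refine ⟨u * u', U.mul_mem hu hu', (u'⁻¹ * t * u'⁻¹⁻¹) * t', T.mul_mem ?_ ht', by group⟩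
        exact (Subgroup.mem_normalizer_iff.mp (hUT (U.inv_mem hu')) t).mp ht
      inv_mem' := by
        rintro _ ⟨u, hu, t, ht, rfl⟩
        refine ⟨u⁻¹, U.inv_mem hu, u * t⁻¹ * u⁻¹, ?_, by group⟩
        exact (Subgroup.mem_normalizer_iff.mp (hUT hu) t⁻¹).mp (T.inv_mem ht) }
  have h1 : U ≤ M := fun u hu => ⟨u, hu, 1, T.one_mem, by simp⟩
  have h2 : T ≤ M := fun t ht => ⟨1, U.one_mem, t, ht, by simp⟩
  exact (sup_le h1 h2) hx

/-- an element of a group of odd order killed by a power of `2` is trivial -/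
theorem eq_one_of_odd_of_pow [Finite Γ] {O : Subgroup Γ} (hO : Odd (Nat.card O)) {o : Γ} (ho : o ∈ O)
    {k : ℕ} (hk : o ^ 2 ^ k = 1) : o = 1 := by
  have h1 : orderOf o ∣ Nat.card O := by
    have := orderOf_dvd_natCard (⟨o, ho⟩ : ↥O)
    rwa [Subgroup.orderOf_mk] at this
  have h2 : orderOf o ∣ 2 ^ k := orderOf_dvd_of_pow_eq_one hk
  have h3 : (Nat.card O).Coprime (2 ^ k) := by
    apply Nat.Coprime.pow_right
    exact hO.coprime_two_right
  have h4 : orderOf o ∣ 1 := by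
    have := Nat.dvd_gcd h1 h2
    rwa [h3] at this
  exact orderOf_eq_one_iff.mp (Nat.dvd_one.mp h4)

/-- an element of a `2`-group lying in a group of odd order is trivial -/
theorem eq_one_of_mem_of_mem [Finite Γ] {O R : Subgroup Γ} (hO : Odd (Nat.card O)) (hR : IsPGroup 2 R)
    {o : Γ} (ho : o ∈ O) (hoR : o ∈ R) : o = 1 := by
  obtain ⟨k, hk⟩ := hR ⟨o, hoR⟩
  have hk' : o ^ 2 ^ k = 1 := by
    have := congrArg Subtype.val hk
    simpa using this
  exact eq_one_of_odd_of_pow hO ho hk'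

end CSC

variable [Finite Γ]

theorem cover_of_comm_le (O S1 L : Subgroup Γ) (hO : Odd (Nat.card O)) (hS1 : IsPGroup 2 S1)
    (hS1O : S1 ≤ Subgroup.normalizer (O : Set Γ)) (hLO : L ≤ Subgroup.normalizer (O : Set Γ))
    (hcomm : ⁅L, S1⁆ ≤ O) :
    L ≤ O ⊔ ((L ⊔ O) ⊓ Subgroup.centralizer (S1 : Set Γ)) := by
  have : Fact (Nat.Prime 2) := ⟨Nat.prime_two⟩
  -- `S1` is a Sylow 2-subgroup of `W = S1 ⊔ O`
  obtain ⟨R, hS1R, hR⟩ := exists_isSylowIn (S1 ⊔ O) S1 hS1 le_sup_left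
  have hRS1 : R = S1 := by
    apply le_antisymm _ hS1R
    intro r hr
    obtain ⟨s, hs, o, ho, rfl⟩ := CSC.exists_mul_of_mem_sup hS1O (hR.1 hr)
    have hoR : o ∈ R := by
      have : o = s⁻¹ * (s * o) := by group
      rw [this]; exact R.mul_mem (R.inv_mem (hS1R hs)) hr
    have := CSC.eq_one_of_mem_of_mem hO hR.2.1 ho hoR
    rw [this, mul_one]; exact hs
  rw [hRS1] at hR
  intro l hl
  -- the conjugate `cj l S1` lies in `W`
  have hcjW : cj l S1 ≤ S1 ⊔ O := by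
    intro a ha
    rw [mem_cj] at ha
    have h1 : ⁅l, l⁻¹ * a * l⁆ ∈ O := hcomm (Subgroup.commutator_mem_commutator hl ha)
    have e : a = (l⁻¹ * a * l) * ((l⁻¹ * a * l)⁻¹ * ⁅l, l⁻¹ * a * l⁆ * (l⁻¹ * a * l)⁻¹⁻¹) := by
      rw [commutatorElement_def]; group
    rw [e]
    refine Subgroup.mul_mem_sup ha ?_
    exact (Subgroup.mem_normalizer_iff.mp (hS1O (S1.inv_mem ha)) _).mp h1
  obtain ⟨w, hw, hwle⟩ := hR.2.2 (cj l S1) (isPGroup_cj l hS1) hcjW
  rw [cj_cj] at hwle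
  have hweq : cj (w * l) S1 = S1 :=
    Subgroup.eq_of_le_of_card_ge hwle (by rw [card_cj])
  have hwlN : w * l ∈ Subgroup.normalizer (S1 : Set Γ) := mem_normalizer_of_cj_eq hweq
  obtain ⟨s, hs, o, ho, rfl⟩ := CSC.exists_mul_of_mem_sup hS1O hw
  -- `n = o * l` normalizes `S1`
  have hnN : o * l ∈ Subgroup.normalizer (S1 : Set Γ) := by
    have : o * l = s⁻¹ * (s * o * l) := by group
    rw [this]
    exact Subgroup.mul_mem _ (Subgroup.inv_mem _ (Subgroup.le_normalizer hs)) hwlN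
  -- `n` centralizes `S1`
  have hnC : o * l ∈ Subgroup.centralizer (S1 : Set Γ) := by
    rw [Subgroup.mem_centralizer_iff]
    intro t ht
    have h1 : ⁅o * l, t⁆ ∈ S1 := by
      rw [commutatorElement_def]
      exact S1.mul_mem ((Subgroup.mem_normalizer_iff.mp hnN t).mp ht) (S1.inv_mem ht)
    have h2 : ⁅o * l, t⁆ ∈ O := by
      have hlt : ⁅l, t⁆ ∈ O := hcomm (Subgroup.commutator_mem_commutator hl ht)
      have hto : t * o⁻¹ * t⁻¹ ∈ O :=
        (Subgroup.mem_normalizer_iff.mp (hS1O ht) _).mp (O.inv_mem ho)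
      have e : ⁅o * l, t⁆ = o * ⁅l, t⁆ * (t * o⁻¹ * t⁻¹) := by
        rw [commutatorElement_def, commutatorElement_def]; group
      rw [e]
      exact O.mul_mem (O.mul_mem ho hlt) hto
    have h3 := CSC.eq_one_of_mem_of_mem hO hS1 h2 h1
    rw [commutatorElement_eq_one_iff_mul_comm] at h3
    exact h3.symm
  have hnLO : o * l ∈ L ⊔ O := by
    rw [sup_comm]; exact Subgroup.mul_mem_sup ho hl
  have : l = o⁻¹ * (o * l) := by group
  rw [this]
  exact Subgroup.mul_mem_sup (O.inv_mem ho) (Subgroup.mem_inf.mpr ⟨hnLO, hnC⟩)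

end Cfsg.Agent.Lib.LB2
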