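import Mathlib

set_option autoImplicit false

namespace Cfsg.Agent.Lib.Helper6

open scoped commutatorElement Pointwise

/-- If `P / N` is an elementary abelian `p`-group (all commutators and `p`-th powers lie in `N`), then the
Frattini subgroup of the finite group `P` lies in `N`. -/
theorem frattini_le_of_elemAb {P : Type*} [Group P] [Finite P] {p : ℕ} [Fact p.Prime]
    (N : Subgroup P) (hcomm : ∀ x y : P, ⁅x, y⁆ ∈ N) (hpow : ∀ x : P, x ^ p ∈ N) :
    frattini P ≤ N := by
  have hp : p.Prime := Fact.out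
  intro x hxF
  by_contra hxN
  set 𝒮 : Set (Subgroup P) := {M | N ≤ M ∧ x ∉ M} with h𝒮
  obtain ⟨M, hM⟩ := (Set.toFinite 𝒮).exists_maximal ⟨N, le_rfl, hxN⟩
  obtain ⟨hNM, hxM⟩ := hM.prop
  have hMnormal : M.Normal := by
    constructor
    intro m hm g
    have : g * m * g⁻¹ = ⁅g, m⁆ * m := by rw [commutatorElement_def]; group
    rw [this]
    exact M.mul_mem (hNM (hcomm g m)) hm
  have hcoatom : IsCoatom M := by
    refine ⟨fun htop => hxM (htop ▸ Subgroup.mem_top x), ?_⟩
    intro K hMK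
    have hxK : x ∈ K := by
      by_contra hxK
      have hK𝒮 : K ∈ 𝒮 := ⟨hNM.trans hMK.le, hxK⟩
      exact hMK.not_ge (hM.le_of_ge hK𝒮 hMK.le)
    rw [eq_top_iff]
    intro y _
    by_cases hyM : y ∈ M
    · exact hMK.le hyM
    have hlt : M < M ⊔ Subgroup.zpowers y := by
      refine lt_of_le_of_ne le_sup_left ?_
      intro he
      apply hyM
      rw [he]
      exact Subgroup.mem_sup_right (Subgroup.mem_zpowers y)
    have hxM' : x ∈ M ⊔ Subgroup.zpowers y := by
      by_contra hcon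
      have h1 : M ⊔ Subgroup.zpowers y ∈ 𝒮 := ⟨hNM.trans le_sup_left, hcon⟩
      exact hlt.not_ge (hM.le_of_ge h1 hlt.le)
    have hmem : x ∈ (M : Set P) * (Subgroup.zpowers y : Set P) := by
      rw [← Subgroup.normal_mul]; exact hxM'
    obtain ⟨m, hm, w, hw, hmw⟩ := Set.mem_mul.mp hmem
    obtain ⟨k, rfl⟩ := Subgroup.mem_zpowers_iff.mp hw
    have hkp : ¬ (p : ℤ) ∣ k := by
      rintro ⟨c, rfl⟩
      apply hxM
      rw [← hmw]
      apply M.mul_mem hm
      rw [zpow_mul, zpow_natCast]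
      exact Subgroup.zpow_mem _ (hNM (hpow y)) _
    have hcop : IsCoprime k (p : ℤ) := by
      rw [isCoprime_comm]
      exact (Prime.coprime_iff_not_dvd (Nat.prime_iff_prime_int.mp hp)).mpr hkp
    obtain ⟨a, b, hab⟩ := hcop
    have hyk : y ^ k ∈ K := by
      have : y ^ k = m⁻¹ * x := by rw [← hmw]; group
      rw [this]
      exact K.mul_mem (K.inv_mem (hMK.le hm)) hxK
    have hyp : y ^ (p : ℤ) ∈ K := by
      rw [zpow_natCast]; exact hMK.le (hNM (hpow y))
    have : y = (y ^ k) ^ a * (y ^ (p : ℤ)) ^ b := by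
      rw [← zpow_mul, ← zpow_mul, ← zpow_add, mul_comm k a, mul_comm (p : ℤ) b, hab, zpow_one]
    rw [this]
    exact K.mul_mem (K.zpow_mem hyk a) (K.zpow_mem hyp b)
  exact hxM (frattini_le_coatom hcoatom hxF)

theorem commutatorElement_mul_left_of_commute {G : Type*} [Group G] {c a y : G}
    (hca : Commute c a) (hcy : Commute c y) : ⁅c * a, y⁆ = ⁅a, y⁆ := by
  have hcw : Commute c (a * y * a⁻¹) := (hca.mul_right hcy).mul_right hca.inv_right
  calc ⁅c * a, y⁆ = c * (a * y * a⁻¹) * c⁻¹ * y⁻¹ := by rw [commutatorElement_def]; group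
    _ = (a * y * a⁻¹) * y⁻¹ := by rw [hcw.eq, mul_inv_cancel_right]
    _ = ⁅a, y⁆ := by rw [commutatorElement_def]

theorem commutatorElement_mul_right_of_commute {G : Type*} [Group G] {d b x : G}
    (hdb : Commute d b) (hdx : Commute d x) : ⁅x, d * b⁆ = ⁅x, b⁆ := by
  rw [← commutatorElement_inv, commutatorElement_mul_left_of_commute hdb hdx,
    commutatorElement_inv]

end Cfsg.Agent.Lib.Helper6
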