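import Mathlib
import Cfsg.Agent.Lib.Helper3.CharP5
import Cfsg.Agent.Lib.Helper6.PCore
import Cfsg.Agent.Lib.Lead.Nilpotent

set_option autoImplicit false

/-! Characteristic `p` for `p`-local subgroups, in terms of centralizers of central elements. -/

namespace Cfsg.Agent.Lib.Helper6

open Cfsg Cfsg.Agent.Lib.Helper3

/-- `F*(X) = O_p(X)` iff `C_X(O_p(X)) ≤ O_p(X)` -/
theorem fstar_eq_pCore_iff_centralizer_le {p : ℕ} [Fact p.Prime] (X : Type*) [Group X] [Finite X] :
    Cfsg.generalizedFittingSubgroup X = Cfsg.pCore p X ↔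
      Subgroup.centralizer (Cfsg.pCore p X : Set X) ≤ Cfsg.pCore p X := by
  constructor
  · intro h
    have := centralizer_generalizedFittingSubgroup_le (G := X)
    rwa [h] at this
  · intro h
    apply generalizedFittingSubgroup_eq_pCore_of_centralizer_le (Cfsg.pCore p X) h
    exact (pCore_isPGroup (G := X) p).to_subgroup _

variable {G : Type*} [Group G]

theorem centralizer_zpowers_eq (z : G) :
    Subgroup.centralizer ((Subgroup.zpowers z : Subgroup G) : Set G) =
      Subgroup.centralizer ({z} : Set G) := by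
  ext x
  simp only [Subgroup.mem_centralizer_iff]
  constructor
  · intro h y hy
    rw [Set.mem_singleton_iff] at hy
    subst hy
    exact h y (Subgroup.mem_zpowers y)
  · intro h y hy
    obtain ⟨k, rfl⟩ := Subgroup.mem_zpowers_iff.mp hy
    have hc : Commute z x := h z rfl
    exact (hc.zpow_left k).eq

/-- conjugation as an isomorphism of centralizers of elements -/
def centralizerConjEquiv (g z : G) :
    ↥(Subgroup.centralizer ({z} : Set G)) ≃* ↥(Subgroup.centralizer ({g * z * g⁻¹} : Set G)) where
  toFun x := ⟨g * x * g⁻¹, by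
    have hx := x.2
    rw [Subgroup.mem_centralizer_iff] at hx ⊢
    intro y hy
    rw [Set.mem_singleton_iff] at hy
    subst hy
    have h := hx z rfl
    calc g * z * g⁻¹ * (g * ↑x * g⁻¹) = g * (z * ↑x) * g⁻¹ := by group
      _ = g * (↑x * z) * g⁻¹ := by rw [h]
      _ = _ := by group⟩
  invFun y := ⟨g⁻¹ * y * g, by
    have hy := y.2
    rw [Subgroup.mem_centralizer_iff] at hy ⊢
    intro w hw
    rw [Set.mem_singleton_iff] at hw
    subst hw
    have h := hy (g * w * g⁻¹) rfl
    calc w * (g⁻¹ * ↑y * g) = g⁻¹ * (g * w * g⁻¹ * ↑y) * g := by group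
      _ = g⁻¹ * (↑y * (g * w * g⁻¹)) * g := by rw [h]
      _ = _ := by group⟩
  left_inv x := by
    apply Subtype.ext
    show g⁻¹ * (g * ↑x * g⁻¹) * g = ↑x
    group
  right_inv y := by
    apply Subtype.ext
    show g * (g⁻¹ * ↑y * g) * g⁻¹ = ↑y
    group
  map_mul' x y := by
    apply Subtype.ext
    show g * (↑x * ↑y) * g⁻¹ = g * ↑x * g⁻¹ * (g * ↑y * g⁻¹)
    group

variable [Finite G] {p : ℕ} [Fact p.Prime]

theorem isPGroup_fstar_centralizer_conj (g z : G)
    (h : IsPGroup p (Cfsg.generalizedFittingSubgroup ↥(Subgroup.centralizer ({z} : Set G)))) :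
    IsPGroup p (Cfsg.generalizedFittingSubgroup ↥(Subgroup.centralizer ({g * z * g⁻¹} : Set G))) :=
  isPGroup_generalizedFittingSubgroup_of_mulEquiv (centralizerConjEquiv g z) h

/-- If `z` is central in the `p`-subgroup `X` and `C_G(z)` has characteristic `p`, so has `N_G(X)`. -/
theorem fstar_normalizer_eq_pCore_of_central {X : Subgroup G} (hX : IsPGroup p X) {z : G}
    (hzX : z ∈ X) (hzc : ∀ x ∈ X, x * z = z * x)
    (hF' : IsPGroup p (Cfsg.generalizedFittingSubgroup ↥(Subgroup.centralizer ({z} : Set G)))) :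
    Cfsg.generalizedFittingSubgroup ↥(Subgroup.normalizer (X : Set G)) =
      Cfsg.pCore p ↥(Subgroup.normalizer (X : Set G)) := by
  have hXC : X ≤ Subgroup.centralizer ({z} : Set G) := by
    intro x hx
    rw [Subgroup.mem_centralizer_iff]
    intro y hy
    rw [Set.mem_singleton_iff] at hy
    subst hy
    exact (hzc x hx).symm
  have hF := isPGroup_generalizedFittingSubgroup_subgroupOf_normalizer hXC hX hF'
  apply generalizedFittingSubgroup_eq_pCore_of_centralizer_le
    ((Subgroup.centralizer ({z} : Set G)).subgroupOf (Subgroup.normalizer (X : Set G))) _ hF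
  intro m hm
  rw [Subgroup.mem_subgroupOf, Subgroup.mem_centralizer_iff]
  intro y hy
  rw [Set.mem_singleton_iff] at hy
  subst hy
  have hBle : X.subgroupOf (Subgroup.normalizer (X : Set G)) ≤
      Cfsg.pCore p ↥(Subgroup.normalizer (X : Set G)) :=
    le_pCore inferInstance hX.comap_subtype
  have hz' : (⟨y, Subgroup.le_normalizer hzX⟩ : Subgroup.normalizer (X : Set G)) ∈
      Cfsg.pCore p ↥(Subgroup.normalizer (X : Set G)) := hBle (Subgroup.mem_subgroupOf.mpr hzX)
  have := Subgroup.mem_centralizer_iff.mp hm _ hz'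
  exact congrArg Subtype.val this

/-- `C_G(z)` has characteristic `p` as soon as `N_G(⟨z⟩)` has. -/
theorem isPGroup_fstar_centralizer_of_normalizer_zpowers (z : G)
    (h : IsPGroup p (Cfsg.generalizedFittingSubgroup
      ↥(Subgroup.normalizer ((Subgroup.zpowers z : Subgroup G) : Set G)))) :
    IsPGroup p (Cfsg.generalizedFittingSubgroup ↥(Subgroup.centralizer ({z} : Set G))) := by
  have hle : Subgroup.centralizer ({z} : Set G) ≤
      Subgroup.normalizer ((Subgroup.zpowers z : Subgroup G) : Set G) := by
    rw [← centralizer_zpowers_eq]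
    exact Subgroup.centralizer_le_normalizer _
  have hMn : ((Subgroup.centralizer ({z} : Set G)).subgroupOf
      (Subgroup.normalizer ((Subgroup.zpowers z : Subgroup G) : Set G))).Normal := by
    apply Subgroup.normal_subgroupOf_of_le_normalizer
    rw [← centralizer_zpowers_eq]
    exact Cfsg.Agent.Lib.Helper2.normalizer_le_normalizer_centralizer _
  have hM := isPGroup_generalizedFittingSubgroup_of_isSubnormal hMn.isSubnormal h
  exact isPGroup_generalizedFittingSubgroup_of_mulEquiv (Subgroup.subgroupOfEquivOfLe hle) hM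

end Cfsg.Agent.Lib.Helper6
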