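import Mathlib
import Cfsg.Prelude.Def_FusionSystem
import Cfsg.Agent.Lib.Helper9.FusionBasic
import Cfsg.Agent.Lib.Helper9.FusionAut
import Cfsg.Agent.Lib.Helper9.FusionAG1
import Cfsg.Agent.Lib.Helper9.FusionAG3
import Cfsg.Agent.Lib.Helper9.FusionNormal7
import Cfsg.Agent.Lib.Helper9.FusionMorph5
import Cfsg.Agent.Lib.Helper9.GroupFusion3
import Cfsg.Agent.Lib.Helper9.PCore
import Cfsg.Agent.Lib.Helper2.NSub0

/-! F-facts for S5121 (normal subsystems of the fusion system of a group): an elementwise calculus for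
"conjugation by `g` on `P` is a map of `E`". See `notes/S5121_plan_helper2.md`. -/

set_option autoImplicit false

namespace Cfsg.Agent.Lib.Helper6.NSubF

open Cfsg Cfsg.FusionSystem Cfsg.Agent.Lib.Helper9

section general

variable {Ω : Type*} [Group Ω] {T : Subgroup Ω}

/-- conjugation by `g` on `P` is a map of `E` -/
def InE (E : FusionSystem T) (P : Subgroup Ω) (g : Ω) : Prop := conjHom P g ∈ E.Hom P

theorem conjHom_apply' (P : Subgroup Ω) (g : Ω) (x : P) : conjHom P g x = g * (x : Ω) * g⁻¹ := rfl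

variable (E : FusionSystem T)

theorem inE_of_hom {P : Subgroup Ω} {φ : P →* Ω} {g : Ω} (hφ : φ ∈ E.Hom P)
    (h : ∀ x : P, φ x = g * (x : Ω) * g⁻¹) : InE E P g := by
  have : φ = conjHom P g := by
    ext x; rw [h x]; rfl
  unfold InE
  rw [← this]; exact hφ

theorem inE_congr {P : Subgroup Ω} {g g' : Ω} (h : ∀ x ∈ P, g * x * g⁻¹ = g' * x * g'⁻¹)
    (hg : InE E P g) : InE E P g' :=
  inE_of_hom E hg (fun x => by rw [conjHom_apply']; exact h x x.2)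

theorem inE_of_eq {P P' : Subgroup Ω} (h : P = P') {g : Ω} (hg : InE E P g) : InE E P' g := by
  subst h; exact hg

theorem inE_of_mem {P : Subgroup Ω} (hP : P ≤ T) {g : Ω} (hg : g ∈ T) : InE E P g :=
  E.conj_mem hP hg

theorem inE_one {P : Subgroup Ω} (hP : P ≤ T) : InE E P 1 := inE_of_mem E hP T.one_mem

theorem inE_le {P : Subgroup Ω} {g : Ω} (hg : InE E P g) : P ≤ T := (E.le_of_mem hg).1

theorem inE_map_mem {P : Subgroup Ω} {g : Ω} (hg : InE E P g) {x : Ω} (hx : x ∈ P) :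
    g * x * g⁻¹ ∈ T := (E.le_of_mem hg).2 ⟨x, hx⟩

theorem inE_restrict {P P' : Subgroup Ω} {g : Ω} (hg : InE E P g) (h : P' ≤ P) : InE E P' g :=
  inE_of_hom E (fs_restrict_mem E hg h) (fun _ => rfl)

theorem inE_mul {P P' : Subgroup Ω} {g h : Ω} (hh : InE E P h) (hg : InE E P' g)
    (hP : ∀ x ∈ P, h * x * h⁻¹ ∈ P') : InE E P (g * h) := by
  have hval : ∀ x : P, conjHom P h x ∈ P' := fun x => hP x x.2
  refine inE_of_hom E (E.comp_mem hh hg hval) (fun x => ?_)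
  show g * (h * (x : Ω) * h⁻¹) * g⁻¹ = g * h * (x : Ω) * (g * h)⁻¹
  group

theorem inE_inv {P P' : Subgroup Ω} {g : Ω} (hg : InE E P g) (hP : ∀ x ∈ P', g⁻¹ * x * g ∈ P) :
    InE E P' g⁻¹ := by
  obtain ⟨ψ, hψ, H⟩ := E.inv_mem hg
  have hle : P' ≤ (conjHom P g).range := by
    intro x hx
    refine ⟨⟨g⁻¹ * x * g, hP x hx⟩, ?_⟩
    rw [conjHom_apply']
    show g * (g⁻¹ * x * g) * g⁻¹ = x
    group
  refine inE_of_hom E (fs_restrict_mem E hψ hle) (fun x => ?_)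
  have h1 := H ⟨g⁻¹ * x * g, hP x x.2⟩
  have h2 : (Subgroup.inclusion hle x : (conjHom P g).range) =
      ⟨conjHom P g ⟨g⁻¹ * x * g, hP x x.2⟩, ⟨_, rfl⟩⟩ := by
    apply Subtype.ext
    show (x : Ω) = g * (g⁻¹ * x * g) * g⁻¹
    group
  show ψ (Subgroup.inclusion hle x) = _
  rw [h2, h1]
  show g⁻¹ * (x : Ω) * g = g⁻¹ * (x : Ω) * g⁻¹⁻¹
  rw [inv_inv]

/-- in a saturated system a weakly closed subgroup is fully automized and receptive -/
theorem fa_receptive_of_weaklyClosed {p : ℕ} (hsat : E.IsSaturated p) {W : Subgroup Ω}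
    (hW : E.WeaklyClosed W) : E.IsFullyAutomized p W ∧ E.IsReceptive W := by
  obtain ⟨Q, ⟨φ, hφ, hφr⟩, hQa, hQr⟩ := hsat W hW.1
  have : Q = W := by rw [← hφr]; exact hW.2 φ hφ
  subst this
  exact ⟨hQa, hQr⟩

end general

section normalIn

variable {G : Type*} [Group G] [Finite G] {p : ℕ} [Fact p.Prime] {S : Sylow p G} {T : Subgroup G}
  {E : FusionSystem T} (hE : E.IsNormalIn (groupFusionSystem (S : Subgroup G)) p)
include hE

theorem isSaturated : E.IsSaturated p := hE.1.1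

theorem isSubsystem : E.IsSubsystemOf (groupFusionSystem (S : Subgroup G)) := hE.1.2.2.1

theorem stronglyClosed : (groupFusionSystem (S : Subgroup G)).StronglyClosed T := hE.1.2.2.2.1

theorem le_sylow : T ≤ S := (stronglyClosed hE).1

/-- F1: every map of `E` is a conjugation -/
theorem exists_conj {P : Subgroup G} {φ : P →* G} (hφ : φ ∈ E.Hom P) :
    ∃ g : G, ∀ x : P, φ x = g * (x : G) * g⁻¹ := by
  obtain ⟨-, -, g, hg⟩ := isSubsystem hE P hφ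
  exact ⟨g, hg⟩

/-- F0: `T` is strongly closed in `S` with respect to `G`, elementwise -/
theorem strongly_closed (g t : G) (ht : t ∈ T) (h : g * t * g⁻¹ ∈ (S : Subgroup G)) :
    g * t * g⁻¹ ∈ T := by
  have hR : Subgroup.zpowers t ≤ T := by rw [Subgroup.zpowers_le]; exact ht
  have hφ : conjHom (Subgroup.zpowers t) g ∈
      (groupFusionSystem (S : Subgroup G)).Hom (Subgroup.zpowers t) := by
    refine ⟨hR.trans (le_sylow hE), ?_, g, fun x => rfl⟩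
    rintro ⟨x, k, rfl⟩
    show g * t ^ k * g⁻¹ ∈ (S : Subgroup G)
    have : g * t ^ k * g⁻¹ = (g * t * g⁻¹) ^ k := by rw [conj_zpow]
    rw [this]; exact Subgroup.zpow_mem _ h k
  exact (stronglyClosed hE).2 _ hR _ hφ ⟨t, Subgroup.mem_zpowers t⟩

omit hE in
theorem inv_conj_mem_of_conj_mem {T : Subgroup G} {n : G} (hn : ∀ t ∈ T, n * t * n⁻¹ ∈ T) :
    ∀ t ∈ T, n⁻¹ * t * n ∈ T := by
  intro t ht
  have h1 : n ∈ Subgroup.normalizer (T : Set G) := mem_normalizer_of_conj_mem hn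
  have h2 := (Subgroup.mem_normalizer_iff.mp h1 (n⁻¹ * t * n)).mpr
  apply h2
  have : n * (n⁻¹ * t * n) * n⁻¹ = t := by group
  rw [this]; exact ht

/-- F3: invariance under `N_G(T)`, in usable form -/
theorem inE_conj_normalizer {n : G} (hn : ∀ t ∈ T, n * t * n⁻¹ ∈ T) {P : Subgroup G} {g : G}
    (hg : InE E P g) : InE E (P.map (MulAut.conj n).toMonoidHom) (n * g * n⁻¹) := by
  have hPT : P ≤ T := inE_le E hg
  have hTS : T ≤ S := le_sylow hE
  have hnN : n ∈ Subgroup.normalizer (T : Set G) := mem_normalizer_of_conj_mem hn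
  obtain ⟨α, hαdef⟩ : ∃ α : MulAut T, α = T.normalizerMonoidHom ⟨n, hnN⟩ := ⟨_, rfl⟩
  have hαx : ∀ x : T, ((α x : T) : G) = n * x * n⁻¹ := by
    intro x; rw [hαdef]; rfl
  have hα : α ∈ (groupFusionSystem (S : Subgroup G)).autGroup T := by
    rw [mem_autGroup_iff _ hTS]
    exact ⟨hTS, fun x => hTS (α x).2, n, fun x => hαx x⟩
  obtain ⟨χ, hχ, Hχ⟩ := hE.1.2.2.2.2.1 P hPT _ hg α hα
  have hPeq : (P.subgroupOf T).map (T.subtype.comp α.toMonoidHom) = P.map (MulAut.conj n).toMonoidHom := by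
    ext y
    constructor
    · rintro ⟨x, hx, rfl⟩
      refine ⟨x, hx, ?_⟩
      show n * (x : G) * n⁻¹ = ((α x : T) : G)
      rw [hαx]
    · rintro ⟨x, hx, rfl⟩
      refine ⟨⟨x, hPT hx⟩, hx, ?_⟩
      show ((α ⟨x, hPT hx⟩ : T) : G) = n * x * n⁻¹
      rw [hαx]
  refine inE_of_eq E hPeq (inE_of_hom E hχ ?_)
  intro y
  obtain ⟨x, hx, hxy⟩ := y.2
  have hxP : (x : G) ∈ P := hx
  have hφx : conjHom P g ⟨x, hxP⟩ ∈ T := inE_map_mem E hg hxP
  have hmem : ((α ⟨(⟨(x : G), hxP⟩ : P), hPT hxP⟩ : T) : G) ∈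
      (P.subgroupOf T).map (T.subtype.comp α.toMonoidHom) := ⟨x, hx, rfl⟩
  have h1 := Hχ ⟨x, hxP⟩ hφx hmem
  have e : y = ⟨_, hmem⟩ := Subtype.ext hxy.symm
  rw [e, h1, hαx]
  show n * (g * (x : G) * g⁻¹) * n⁻¹ = n * g * n⁻¹ * ((α _ : T) : G) * (n * g * n⁻¹)⁻¹
  rw [hαx]
  show _ = n * g * n⁻¹ * (n * (x : G) * n⁻¹) * (n * g * n⁻¹)⁻¹
  group

/-- F4: the Frattini condition, in usable form -/
theorem frattini {P : Subgroup G} (hP : P ≤ T) {g : G} (hg : ∀ x ∈ P, g * x * g⁻¹ ∈ T) :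
    ∃ n g₀ : G, (∀ t ∈ T, n * t * n⁻¹ ∈ T) ∧ InE E P g₀ ∧
      ∀ x ∈ P, g * x * g⁻¹ = n * (g₀ * x * g₀⁻¹) * n⁻¹ := by
  have hTS : T ≤ S := le_sylow hE
  have hφ : conjHom P g ∈ (groupFusionSystem (S : Subgroup G)).Hom P :=
    ⟨hP.trans hTS, fun x => hTS (hg x x.2), g, fun x => rfl⟩
  obtain ⟨α, hα, φ₀, hφ₀, H⟩ := hE.1.2.2.2.2.2 P hP _ hφ
  rw [mem_autGroup_iff _ hTS] at hα
  obtain ⟨-, -, n, hn⟩ := hα
  obtain ⟨g₀, hg₀⟩ := exists_conj hE hφ₀
  have hn' : ∀ x : T, ((α x : T) : G) = n * x * n⁻¹ := fun x => hn x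
  refine ⟨n, g₀, ?_, inE_of_hom E hφ₀ hg₀, ?_⟩
  · intro t ht
    rw [← hn' ⟨t, ht⟩]
    exact (α _).2
  · intro x hx
    have hx' : φ₀ ⟨x, hx⟩ ∈ T := (E.le_of_mem hφ₀).2 _
    have h1 := H ⟨x, hx⟩ hx'
    rw [hn'] at h1
    rw [← hg₀ ⟨x, hx⟩]
    exact h1

/-- `Aut_E(P) ⊴ Aut_F(P)`, elementwise -/
theorem inE_conj_of_normalizes {P : Subgroup G} {g x : G} (hgP : ∀ y ∈ P, g * y * g⁻¹ ∈ P)
    (hxP : ∀ y ∈ P, x * y * x⁻¹ ∈ P) (hx : InE E P x) : InE E P (g * x * g⁻¹) := by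
  have hPT : P ≤ T := inE_le E hx
  obtain ⟨n, g₀, hn, hg₀, H⟩ := frattini hE hPT (g := g) (fun y hy => hPT (hgP y hy))
  -- `P₀ = g₀ P g₀⁻¹`
  obtain ⟨P₀, hP₀⟩ : ∃ P₀ : Subgroup G, P₀ = P.map (MulAut.conj g₀).toMonoidHom := ⟨_, rfl⟩
  have hP₀mem : ∀ y, y ∈ P₀ ↔ ∃ z ∈ P, g₀ * z * g₀⁻¹ = y := by
    intro y; rw [hP₀]; exact Iff.rfl
  -- `g₀ x g₀⁻¹` on `P₀`
  have h1 : InE E P₀ g₀⁻¹ := by
    refine inE_inv E hg₀ ?_
    intro y hy
    obtain ⟨z, hz, rfl⟩ := (hP₀mem y).mp hy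
    have : g₀⁻¹ * (g₀ * z * g₀⁻¹) * g₀ = z := by group
    rw [this]; exact hz
  have h2 : InE E P₀ (x * g₀⁻¹) := by
    refine inE_mul E h1 hx ?_
    intro y hy
    obtain ⟨z, hz, rfl⟩ := (hP₀mem y).mp hy
    have : g₀⁻¹ * (g₀ * z * g₀⁻¹) * g₀⁻¹⁻¹ = z := by group
    rw [this]; exact hz
  have h3 : InE E P₀ (g₀ * (x * g₀⁻¹)) := by
    refine inE_mul E h2 hg₀ ?_
    intro y hy
    obtain ⟨z, hz, rfl⟩ := (hP₀mem y).mp hy
    have : x * g₀⁻¹ * (g₀ * z * g₀⁻¹) * (x * g₀⁻¹)⁻¹ = x * z * x⁻¹ := by group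
    rw [this]; exact hxP z hz
  have h4 := inE_conj_normalizer hE hn h3
  -- `n P₀ n⁻¹ = P`
  have hPeq : P₀.map (MulAut.conj n).toMonoidHom = P := by
    have : Finite P := Finite.of_injective (fun y : P => (y : G)) Subtype.val_injective
    apply Subgroup.eq_of_le_of_card_ge
    · rintro _ ⟨y, hy, rfl⟩
      obtain ⟨z, hz, rfl⟩ := (hP₀mem y).mp hy
      show n * (g₀ * z * g₀⁻¹) * n⁻¹ ∈ P
      rw [← H z hz]; exact hgP z hz
    · rw [hP₀]
      rw [Subgroup.card_map_of_injective (MulAut.conj n).injective,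
        Subgroup.card_map_of_injective (MulAut.conj g₀).injective]
  refine inE_congr E ?_ (inE_of_eq E hPeq h4)
  intro y hy
  -- `y = g z g⁻¹`
  have hgy : g⁻¹ * y * g ∈ P := inv_conj_mem_of_conj_mem hgP y hy
  obtain ⟨z, hz, hzy⟩ : ∃ z ∈ P, g * z * g⁻¹ = y := ⟨g⁻¹ * y * g, hgy, by group⟩
  have hHz := H z hz
  have hHxz := H (x * z * x⁻¹) (hxP z hz)
  -- compute
  have e1 : n * (g₀ * (x * g₀⁻¹)) * n⁻¹ * y * (n * (g₀ * (x * g₀⁻¹)) * n⁻¹)⁻¹
      = n * (g₀ * (x * (g₀⁻¹ * (n⁻¹ * y * n) * g₀) * x⁻¹) * g₀⁻¹) * n⁻¹ := by group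
  have e2 : g₀⁻¹ * (n⁻¹ * y * n) * g₀ = z := by
    rw [← hzy, hHz]; group
  rw [e1, e2, ← hHxz, ← hzy]
  group

end normalIn

section weaklyClosed

variable {G : Type*} [Group G] [Finite G] {p : ℕ} [Fact p.Prime] {S : Sylow p G} {T : Subgroup G}
  {E : FusionSystem T} (hE : E.IsNormalIn (groupFusionSystem (S : Subgroup G)) p)
include hE

/-- a map `c_g` of `E` defined on a weakly closed `W` sends `W` to `W` -/
theorem conj_mem_of_weaklyClosed {W : Subgroup G} (hW : E.WeaklyClosed W) {g : G} (hg : InE E W g) :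
    ∀ w ∈ W, g * w * g⁻¹ ∈ W := by
  intro w hw
  have h1 := hW.2 _ hg
  have h2 : conjHom W g ⟨w, hw⟩ ∈ (conjHom W g).range := ⟨_, rfl⟩
  rw [h1] at h2
  exact h2

/-- receptivity of a weakly closed subgroup, for conjugation maps -/
theorem receptive_extend_conj {W : Subgroup G} (hW : E.WeaklyClosed W) {g : G} (hg : InE E W g)
    {P : Subgroup G} (hPT : P ≤ T) (hPN : ∀ y ∈ P, ∀ w ∈ W, y * w * y⁻¹ ∈ W)
    (hP : ∀ y ∈ P, ∃ h ∈ T, ∀ w ∈ W, g * (y * w * y⁻¹) * g⁻¹ = h * (g * w * g⁻¹) * h⁻¹) :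
    ∃ g' : G, InE E P g' ∧ ∀ w ∈ W, w ∈ P → g' * w * g'⁻¹ = g * w * g⁻¹ := by
  have hrec := (fa_receptive_of_weaklyClosed E (isSaturated hE) hW).2
  obtain ⟨ψ, hψ, Hψ⟩ := hrec.2 W _ hg (hW.2 _ hg)
  have hWfin : Finite W := Finite.of_injective (fun y : W => (y : G)) Subtype.val_injective
  have hle : P ≤ extender T W (conjHom W g) := by
    intro y hy
    rw [mem_extender_iff]
    refine ⟨hPT hy, mem_normalizer_of_conj_mem (hPN y hy), ?_⟩
    obtain ⟨h, hh, Hh⟩ := hP y hy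
    exact ⟨h, hh, fun x hx => Hh x x.2⟩
  have hψP := fs_restrict_mem E hψ hle
  obtain ⟨g', hg'⟩ := exists_conj hE hψP
  refine ⟨g', inE_of_hom E hψP hg', ?_⟩
  intro w hw hwP
  have h1 := hg' ⟨w, hwP⟩
  have h2 := Hψ w hw (hle hwP)
  rw [← h1]
  exact h2

/-- `Aut_T(W)` is a Sylow `p`-subgroup of `Aut_E(W)` for `W` weakly closed: a `p`-element `c_g` of
`Aut_E(W)` with `g` normalizing `T` is induced by an element of `T` -/
theorem exists_mem_of_pElement {W : Subgroup G} (hW : E.WeaklyClosed W) {g : G} (hg : InE E W g)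
    (hgT : ∀ t ∈ T, g * t * g⁻¹ ∈ T) (k : ℕ)
    (hk : ∀ w ∈ W, g ^ p ^ k * w * (g ^ p ^ k)⁻¹ = w) :
    ∃ t ∈ T, ∀ w ∈ W, g * w * g⁻¹ = t * w * t⁻¹ := by
  have hWT : W ≤ T := hW.1
  have hWfin : Finite W := Finite.of_injective (fun y : W => (y : G)) Subtype.val_injective
  have hgW := conj_mem_of_weaklyClosed hE hW hg
  have hgN : g ∈ Subgroup.normalizer (W : Set G) := mem_normalizer_of_conj_mem hgW
  obtain ⟨α, hαdef⟩ : ∃ α : MulAut W, α = W.normalizerMonoidHom ⟨g, hgN⟩ := ⟨_, rfl⟩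
  have hαx : ∀ x : W, ((α x : W) : G) = g * x * g⁻¹ := by
    intro x; rw [hαdef]; rfl
  have hαA : α ∈ E.autGroup W := by
    rw [mem_autGroup_iff E hWT]
    have e : W.subtype.comp α.toMonoidHom = conjHom W g := by
      ext x; exact hαx x
    rw [e]; exact hg
  obtain ⟨R₀, hR₀⟩ := (fa_receptive_of_weaklyClosed E (isSaturated hE) hW).1.2
  obtain ⟨a, ha⟩ : ∃ a : E.autGroup W, a = ⟨α, hαA⟩ := ⟨_, rfl⟩
  have hapow : a ^ p ^ k = 1 := by
    apply Subtype.ext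
    rw [ha]
    show α ^ p ^ k = 1
    ext x
    rw [autInduced_pow α g hαx]
    exact hk x x.2
  have hZ : IsPGroup p (Subgroup.zpowers a) := by
    rintro ⟨z, m, rfl⟩
    refine ⟨k, Subtype.ext ?_⟩
    show (a ^ m) ^ p ^ k = 1
    rw [← zpow_natCast, ← zpow_mul, mul_comm, zpow_mul, zpow_natCast, hapow, one_zpow]
  have hfinA : Finite (E.autGroup W) := inferInstance
  have hnorm : Subgroup.zpowers a ≤ Subgroup.normalizer ((R₀ : Subgroup (E.autGroup W)) : Set (E.autGroup W)) := by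
    rw [Subgroup.zpowers_le]
    apply mem_normalizer_of_conj_mem
    intro b hb
    rw [hR₀, Subgroup.mem_subgroupOf, mem_autInducedBy_iff] at hb ⊢
    obtain ⟨t, ht, Ht⟩ := hb
    refine ⟨g * t * g⁻¹, hgT t ht, fun x => ?_⟩
    have e : ((a * b * a⁻¹ : E.autGroup W) : MulAut W) = α * (b : MulAut W) * α⁻¹ := by
      rw [ha]; rfl
    rw [e]
    simp only [MulAut.mul_apply]
    rw [hαx, Ht]
    have h3 : ((α⁻¹ x : W) : G) = g⁻¹ * x * g := by
      have h4 := hαx (α⁻¹ x)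
      rw [MulAut.apply_inv_self] at h4
      rw [h4]; group
    rw [h3]; group
  have hsup : IsPGroup p (Subgroup.zpowers a ⊔ (R₀ : Subgroup (E.autGroup W)) : Subgroup (E.autGroup W)) :=
    IsPGroup.to_sup_of_normal_right' hZ R₀.isPGroup' hnorm
  have heq := R₀.is_maximal' hsup le_sup_right
  have haR : a ∈ (R₀ : Subgroup (E.autGroup W)) := by
    rw [← heq]
    exact (le_sup_left : Subgroup.zpowers a ≤ _) (Subgroup.mem_zpowers a)
  rw [hR₀, Subgroup.mem_subgroupOf, mem_autInducedBy_iff] at haR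
  obtain ⟨t, ht, Ht⟩ := haR
  refine ⟨t, ht, fun w hw => ?_⟩
  have h5 := Ht ⟨w, hw⟩
  rw [ha] at h5
  rw [← hαx ⟨w, hw⟩]
  exact h5

end weaklyClosed

section setting

open Cfsg.Agent.Lib.Helper2.NSub

variable {G : Type*} [Group G] [Finite G] {p : ℕ} [Fact p.Prime] (D : Setting p G)

theorem Q_le_S : D.Q ≤ (D.S : Subgroup G) := pCore_le_sylow D.S

/-- A1 (own copy): `R ⊴ G` -/
theorem R_conj_mem' (g r : G) (hr : r ∈ D.R) : g * r * g⁻¹ ∈ D.R := by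
  have hQ : g * r * g⁻¹ ∈ D.Q := (D.Q_normal).conj_mem r hr.2 g
  exact ⟨D.hsc g r hr.1 (Q_le_S D hQ), hQ⟩

theorem R_le_T : D.R ≤ D.T := inf_le_left

variable (E : FusionSystem D.T) (hE : E.IsNormalIn (groupFusionSystem (D.S : Subgroup G)) p)
include hE

theorem T_weaklyClosed : E.WeaklyClosed D.T := by
  refine ⟨le_rfl, fun φ hφ => ?_⟩
  have hfin : Finite D.T := Finite.of_injective (fun y : D.T => (y : G)) Subtype.val_injective
  have hle : φ.range ≤ D.T := by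
    rintro _ ⟨x, rfl⟩
    exact (E.le_of_mem hφ).2 x
  have hcard : Nat.card φ.range = Nat.card D.T :=
    (Nat.card_congr (MonoidHom.ofInjective (E.injective_of_mem hφ)).toEquiv).symm
  exact Subgroup.eq_of_le_of_card_ge hle (le_of_eq hcard.symm)

theorem R_stronglyClosed : E.StronglyClosed D.R := by
  refine ⟨R_le_T D, fun P hP φ hφ x => ?_⟩
  obtain ⟨g, hg⟩ := exists_conj hE hφ
  rw [hg]
  exact R_conj_mem' D g x (hP x.2)

theorem R_weaklyClosed : E.WeaklyClosed D.R := by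
  have hfin : Finite D.T := Finite.of_injective (fun y : D.T => (y : G)) Subtype.val_injective
  exact fs_weaklyClosed_of_stronglyClosed E (R_stronglyClosed D E hE)

end setting

end Cfsg.Agent.Lib.Helper6.NSubF
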