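import Mathlib
import Cfsg.Agent.Lib.Helper6.NSubF
import Cfsg.Agent.Lib.Helper2.NSubA

/-! S5121 package C4, part 1: the group `N_E(P)` of elements normalizing `P` and inducing a map of `E`
on it, and the `p'`-argument. -/

set_option autoImplicit false

namespace Cfsg.Agent.Lib.Helper6.NSubC4

open Cfsg Cfsg.FusionSystem Cfsg.Agent.Lib.Helper2.NSub Cfsg.Agent.Lib.Helper6.NSubF
  Cfsg.Agent.Lib.Helper9

section NE

variable {G : Type*} [Group G] {T : Subgroup G}

theorem conj_mem_of_mem_normalizer {P : Subgroup G} {y : G} (hy : y ∈ Subgroup.normalizer (P : Set G)) :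
    ∀ d ∈ P, y * d * y⁻¹ ∈ P := fun d hd => (Subgroup.mem_normalizer_iff.mp hy d).mp hd

theorem inv_conj_mem_of_mem_normalizer {P : Subgroup G} {y : G}
    (hy : y ∈ Subgroup.normalizer (P : Set G)) : ∀ d ∈ P, y⁻¹ * d * y ∈ P := by
  intro d hd
  have h := conj_mem_of_mem_normalizer (Subgroup.inv_mem _ hy) d hd
  rwa [inv_inv] at h

/-- `N_E(P)`: the elements normalizing `P` whose conjugation on `P` is a map of `E` -/
def NE (E : FusionSystem T) (P : Subgroup G) (hP : P ≤ T) : Subgroup G where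
  carrier := {y | y ∈ Subgroup.normalizer (P : Set G) ∧ InE E P y}
  one_mem' := ⟨Subgroup.one_mem _, inE_one E hP⟩
  mul_mem' := by
    rintro a b ⟨ha, ha'⟩ ⟨hb, hb'⟩
    exact ⟨Subgroup.mul_mem _ ha hb, inE_mul E hb' ha' (conj_mem_of_mem_normalizer hb)⟩
  inv_mem' := by
    rintro a ⟨ha, ha'⟩
    exact ⟨Subgroup.inv_mem _ ha, inE_inv E ha' (inv_conj_mem_of_mem_normalizer ha)⟩

theorem mem_NE (E : FusionSystem T) (P : Subgroup G) (hP : P ≤ T) (y : G) :
    y ∈ NE E P hP ↔ y ∈ Subgroup.normalizer (P : Set G) ∧ InE E P y := Iff.rfl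

theorem centralizer_le_NE (E : FusionSystem T) (P : Subgroup G) (hP : P ≤ T) :
    Subgroup.centralizer (P : Set G) ≤ NE E P hP := by
  intro c hc
  refine ⟨Subgroup.centralizer_le_normalizer (P : Set G) hc, inE_congr E ?_ (inE_one E hP)⟩
  intro x hx
  have h1 : x * c = c * x := Subgroup.mem_centralizer_iff.mp hc x hx
  rw [← h1]; group

end NE

section normalIn

variable {G : Type*} [Group G] [Finite G] {p : ℕ} [Fact p.Prime] {S : Sylow p G} {T : Subgroup G}
  {E : FusionSystem T} (hE : E.IsNormalIn (groupFusionSystem (S : Subgroup G)) p)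
include hE

/-- `N_E(P) ⊴ N_G(P)` -/
theorem NE_conj {P : Subgroup G} (hP : P ≤ T) {g y : G} (hg : g ∈ Subgroup.normalizer (P : Set G))
    (hy : y ∈ NE E P hP) : g * y * g⁻¹ ∈ NE E P hP :=
  ⟨Subgroup.mul_mem _ (Subgroup.mul_mem _ hg hy.1) (Subgroup.inv_mem _ hg),
    inE_conj_of_normalizes hE (conj_mem_of_mem_normalizer hg) (conj_mem_of_mem_normalizer hy.1) hy.2⟩

/-- `(g c)^m ∈ N_E(P) c^m` for `g ∈ N_E(P)`, `c ∈ N_G(P)` -/
theorem pow_mul_mem_NE {P : Subgroup G} (hP : P ≤ T) {g c : G} (hg : g ∈ NE E P hP)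
    (hc : c ∈ Subgroup.normalizer (P : Set G)) (m : ℕ) : (g * c) ^ m * (c ^ m)⁻¹ ∈ NE E P hP := by
  induction m with
  | zero => simp
  | succ m ih =>
    have e : (g * c) ^ (m + 1) * (c ^ (m + 1))⁻¹ = ((g * c) ^ m * (c ^ m)⁻¹) * (c ^ m * g * (c ^ m)⁻¹) := by
      rw [pow_succ, pow_succ]; group
    rw [e]
    exact Subgroup.mul_mem _ ih (NE_conj hE hP (Subgroup.pow_mem _ hc m) hg)

/-- the quotient `N_G(P) / N_E(P)` argument: if `x = g c` with `g ∈ N_E(P)`, `c^q` and `x^n` centralizing `P`,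
`q`, `n` coprime, then `x ∈ N_E(P)` -/
theorem mem_NE_of_coprime {P : Subgroup G} (hP : P ≤ T) {g c : G} (hg : g ∈ NE E P hP)
    (hc : c ∈ Subgroup.normalizer (P : Set G)) {q n : ℕ} (hqn : Nat.Coprime q n)
    (hcq : c ^ q ∈ Subgroup.centralizer (P : Set G))
    (hxn : (g * c) ^ n ∈ Subgroup.centralizer (P : Set G)) : g * c ∈ NE E P hP := by
  have h1 : (g * c) ^ q ∈ NE E P hP := by
    have h2 := pow_mul_mem_NE hE hP hg hc q
    have h3 := Subgroup.mul_mem _ h2 (centralizer_le_NE E P hP hcq)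
    rwa [inv_mul_cancel_right] at h3
  have h4 : (g * c) ^ n ∈ NE E P hP := centralizer_le_NE E P hP hxn
  have h5 : (Nat.gcd q n : ℤ) = q * Nat.gcdA q n + n * Nat.gcdB q n := Nat.gcd_eq_gcd_ab q n
  rw [hqn] at h5
  have h6 : g * c = ((g * c) ^ q) ^ (Nat.gcdA q n) * ((g * c) ^ n) ^ (Nat.gcdB q n) := by
    rw [← zpow_natCast, ← zpow_natCast, ← zpow_mul, ← zpow_mul, ← zpow_add, ← h5]
    simp
  rw [h6]
  exact Subgroup.mul_mem _ (Subgroup.zpow_mem _ h1 _) (Subgroup.zpow_mem _ h4 _)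

end normalIn

section setting

variable {G : Type*} [Group G] [Finite G] {p : ℕ} [Fact p.Prime] (D : Setting p G)
  (E : FusionSystem D.T) (hE : E.IsNormalIn (groupFusionSystem (D.S : Subgroup G)) p)
include hE

/-- the `p'`-argument: `R ≤ P ≤ T`, `x` normalizes `P`, `c_x|_R ∈ E`, and the automorphism of `P` induced
by `x` has order prime to `p`. Then `c_x|_P ∈ E`. -/
theorem mem_NE_of_coprime_order {P : Subgroup G} (hPT : P ≤ D.T) (hRP : D.R ≤ P) {x : G}
    (hxN : x ∈ Subgroup.normalizer (P : Set G)) (hxR : InE E D.R x) {n : ℕ} (hn : Nat.Coprime n p)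
    (hxn : x ^ n ∈ Subgroup.centralizer (P : Set G)) : x ∈ NE E P hPT := by
  have hPfin : Finite P := Finite.of_injective (fun y : P => (y : G)) Subtype.val_injective
  -- extend `c_x|_R` to `P`
  obtain ⟨g', hg', Hg'⟩ := receptive_extend_conj hE (R_weaklyClosed D E hE) hxR hPT
    (fun y _ w hw => R_conj_mem' D y w hw)
    (fun y hy => ⟨x * y * x⁻¹, hPT (conj_mem_of_mem_normalizer hxN y hy), fun w _ => by group⟩)
  -- `c = g'⁻¹ x ∈ C`
  obtain ⟨c, hcdef⟩ : ∃ c : G, c = g'⁻¹ * x := ⟨_, rfl⟩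
  have hx : x = g' * c := by rw [hcdef]; group
  have hcC : c ∈ D.C := by
    rw [D.mem_C_iff]
    intro r hr
    have h1 := Hg' r hr (hRP hr)
    rw [hcdef]
    calc r * (g'⁻¹ * x) = g'⁻¹ * (g' * r * g'⁻¹) * x := by group
      _ = g'⁻¹ * (x * r * x⁻¹) * x := by rw [h1]
      _ = g'⁻¹ * x * r := by group
  -- `c` normalizes `P`
  have hcN : c ∈ Subgroup.normalizer (P : Set G) := by
    apply mem_normalizer_of_conj_mem
    intro d hd
    obtain ⟨z, hzR, -, hz⟩ := D.conj_C_T _ d hcC (hPT hd)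
    rw [hz]
    exact P.mul_mem (hRP hzR) hd
  have hg'N : g' ∈ Subgroup.normalizer (P : Set G) := by
    have : g' = x * c⁻¹ := by rw [hx]; group
    rw [this]
    exact Subgroup.mul_mem _ hxN (Subgroup.inv_mem _ hcN)
  -- `c ^ |R|` centralizes `P`
  have hpow : ∀ (m : ℕ) (d z : G), d ∈ P → z ∈ D.R → c * d * c⁻¹ = z * d →
      c ^ m * d * (c ^ m)⁻¹ = z ^ m * d := by
    intro m d z hd hz hzd
    induction m with
    | zero => simp
    | succ m ih =>
      have hzc : z ^ m * c = c * z ^ m :=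
        (D.mem_C_iff _).mp hcC _ (D.R.pow_mem hz m)
      calc c ^ (m + 1) * d * (c ^ (m + 1))⁻¹
          = c * (c ^ m * d * (c ^ m)⁻¹) * c⁻¹ := by
            rw [pow_succ']; group
        _ = c * (z ^ m * d) * c⁻¹ := by rw [ih]
        _ = (c * z ^ m) * d * c⁻¹ := by group
        _ = (z ^ m * c) * d * c⁻¹ := by rw [hzc]
        _ = z ^ m * (c * d * c⁻¹) := by group
        _ = z ^ m * (z * d) := by rw [hzd]
        _ = z ^ (m + 1) * d := by rw [pow_succ]; group
  have hRp : IsPGroup p D.R := D.S.isPGroup'.to_le ((R_le_T D).trans D.hTS)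
  obtain ⟨k, hk⟩ := IsPGroup.iff_card.mp hRp
  have hcq : c ^ (p ^ k) ∈ Subgroup.centralizer (P : Set G) := by
    rw [Subgroup.mem_centralizer_iff]
    intro d hd
    obtain ⟨z, hzR, -, hz⟩ := D.conj_C_T _ d hcC (hPT hd)
    have h1 := hpow (p ^ k) d z hd hzR hz
    have h2 : z ^ (p ^ k) = 1 := by
      have h3 : (⟨z, hzR⟩ : D.R) ^ Nat.card D.R = 1 := pow_card_eq_one'
      rw [hk] at h3
      have := congrArg Subtype.val h3
      simpa using this
    rw [h2, one_mul] at h1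
    calc d * c ^ p ^ k = (c ^ p ^ k * d * (c ^ p ^ k)⁻¹) * c ^ p ^ k := by
          rw [h1]
      _ = c ^ p ^ k * d := by group
  have hqn : Nat.Coprime (p ^ k) n := Nat.Coprime.pow_left k hn.symm
  rw [hx]
  refine mem_NE_of_coprime hE hPT ⟨hg'N, hg'⟩ hcN hqn hcq ?_
  rw [← hx]; exact hxn

end setting

end Cfsg.Agent.Lib.Helper6.NSubC4
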