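import Mathlib
import Cfsg.Agent.Lib.Helper6.NSubC4a
import Cfsg.Agent.Lib.Helper6.PRes
import Cfsg.Agent.Lib.Helper4.NSubB3
import Cfsg.Agent.Lib.Helper1.NSubB4a
import Cfsg.Agent.Lib.Helper9.FusionAG3
import Cfsg.Agent.Lib.Helper9.FusionSubgroupSat
import Cfsg.Agent.Lib.Helper9.FusionNormal2
import Cfsg.Agent.Lib.Helper9.FusionNormal5
import Cfsg.Agent.Lib.Helper9.FusionNormal6
import Cfsg.Agent.Lib.Helper9.FusionNormal7
import Cfsg.Agent.Lib.Helper9.FusionSat2
import Cfsg.Agent.S5080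

/-! S5121 package C4: `F_T(H) ≤ E`. -/

set_option autoImplicit false

namespace Cfsg.Agent.Lib.Helper6.NSubC4

open Cfsg Cfsg.FusionSystem Cfsg.Agent.Lib.Helper2.NSub Cfsg.Agent.Lib.Helper6.NSubF
  Cfsg.Agent.Lib.Helper9

section fsos

variable {G : Type*} [Group G]

/-- a subgroup of `T` normalized by `H` is normal in `F_T(H)` -/
theorem fsos_isNormal (H T R : Subgroup G) (hTH : T ≤ H) (hRT : R ≤ T)
    (hR : ∀ h ∈ H, ∀ r ∈ R, h * r * h⁻¹ ∈ R) :
    (fusionSystemOfSubgroup H T hTH).IsNormal R := by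
  refine ⟨hRT, ?_⟩
  rintro P φ ⟨hPT, hφT, h, hh, Hh⟩
  have hval : ∀ x : ↥(P ⊔ R), h * (x : G) * h⁻¹ ∈ T := by
    have hle : P ⊔ R ≤ T.comap (MulAut.conj h).toMonoidHom := by
      apply sup_le
      · intro x hx
        show h * x * h⁻¹ ∈ T
        rw [← Hh ⟨x, hx⟩]; exact hφT _
      · intro x hx
        exact hRT (hR h hh x hx)
    intro x
    exact hle x.2
  refine ⟨conjHom (P ⊔ R) h, ⟨sup_le hPT hRT, hval, h, hh, fun x => rfl⟩, ?_, ?_⟩
  · intro x
    rw [Hh x]; rfl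
  · ext y
    constructor
    · rintro ⟨x, hx, rfl⟩
      exact hR h hh x hx
    · intro hy
      have hy' : h⁻¹ * y * h ∈ R := by
        have := hR h⁻¹ (H.inv_mem hh) y hy
        rwa [inv_inv] at this
      refine ⟨⟨h⁻¹ * y * h, (le_sup_right : R ≤ P ⊔ R) hy'⟩, hy', ?_⟩
      show h * (h⁻¹ * y * h) * h⁻¹ = y
      group

end fsos

section C4

variable {p : ℕ} [Fact p.Prime] {G : Type*} [Group G] [Finite G]

variable (D : Setting p G) (E : Cfsg.FusionSystem D.T)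
  (hE : E.IsNormalIn (Cfsg.groupFusionSystem (D.S : Subgroup G)) p)
include hE

/-- C4 -/
theorem fsos_le (H₁ : Subgroup G) [H₁.Normal] (hH₁ : ∀ g : G, g ∈ H₁ ↔ conjHom D.R g ∈ E.Hom D.R)
    (hC : D.C ≤ H₁) (hT : D.T ≤ H₁) (hsyl : (D.S : Subgroup G) ⊓ H₁ ≤ D.T ⊔ D.C)
    (hTH : D.T ≤ D.H H₁) :
    ∀ P : Subgroup G, (Cfsg.fusionSystemOfSubgroup (D.H H₁) D.T hTH).Hom P ⊆ E.Hom P := by
  have hfinT : Finite D.T := Finite.of_injective (fun y : D.T => (y : G)) Subtype.val_injective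
  have hTp : IsPGroup p D.T := D.S.isPGroup'.to_le D.hTS
  obtain ⟨T', hT'⟩ := Cfsg.Agent.Lib.Helper4.NSubB3.exists_sylow_H D H₁ hC hT hsyl
  have hT'map : (T' : Subgroup (D.H H₁)).map (D.H H₁).subtype = D.T := by
    rw [hT', Subgroup.subgroupOf_map_subtype, inf_eq_left.mpr hTH]
  have hsat : (fusionSystemOfSubgroup (D.H H₁) D.T hTH).IsSaturated p :=
    fsos_isSaturated p (D.H H₁) D.T hTH T' hT'map
  have hHle : D.H H₁ ≤ H₁ := (Cfsg.Agent.Lib.Helper1.NSubB4a.H_le' D H₁ hT).1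
  have hnormal : (fusionSystemOfSubgroup (D.H H₁) D.T hTH).IsNormal D.R :=
    fsos_isNormal (D.H H₁) D.T D.R hTH (R_le_T D) (fun h _ r hr => R_conj_mem' D h r hr)
  obtain ⟨𝓗, h𝓗⟩ : ∃ 𝓗 : FusionSystem D.T, 𝓗 = fusionSystemOfSubgroup (D.H H₁) D.T hTH := ⟨_, rfl⟩
  rw [← h𝓗] at hsat hnormal ⊢
  have hmem : ∀ {P : Subgroup G} {φ : P →* G}, φ ∈ 𝓗.Hom P →
      ∃ g ∈ D.H H₁, ∀ x : P, φ x = g * (x : G) * g⁻¹ := by
    intro P φ hφ
    rw [h𝓗] at hφ
    exact hφ.2.2
  refine fs_alperin_goldschmidt p hTp 𝓗 hsat E ?_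
  intro P hP
  -- `R ≤ P ≤ T`, `P` fully normalized
  have hPT : P ≤ D.T := by
    rcases hP with rfl | hP
    · exact le_rfl
    · exact hP.1.1
  have hRP : D.R ≤ P := by
    rcases hP with rfl | hP
    · exact R_le_T D
    · exact fs_le_of_isNormal_of_centric_radical p hTp 𝓗 hnormal hP.1
        (Cfsg.Agent.S5080.result p hTp 𝓗 hsat P hP)
  have hfn : 𝓗.IsFullyNormalized P := by
    rcases hP with rfl | hP
    · exact fs_fullyNormalized_of_weaklyClosed 𝓗
        (fs_weaklyClosed_of_stronglyClosed 𝓗 (fs_stronglyClosed_top 𝓗))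
    · exact hP.2.1
  obtain ⟨-, -, R₀, hR₀⟩ := fs_sylow_axiom p hTp 𝓗 hsat hfn
  have hPfin : Finite P := Finite.of_injective (fun y : P => (y : G)) Subtype.val_injective
  have hAfin : Finite (𝓗.autGroup P) := inferInstance
  have htop := Cfsg.Agent.Lib.Helper6.pResidual_sup_sylow R₀
  have hle : (⊤ : Subgroup (𝓗.autGroup P)) ≤ (E.autGroup P).subgroupOf (𝓗.autGroup P) := by
    rw [← htop]
    apply sup_le
    · unfold Cfsg.pResidual
      rw [Subgroup.closure_le]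
      intro a ha
      have ha' : Nat.Coprime (orderOf a) p := ha
      show a ∈ (E.autGroup P).subgroupOf (𝓗.autGroup P)
      rw [Subgroup.mem_subgroupOf]
      have h1 := (mem_autGroup_iff 𝓗 hPT _).mp a.2
      obtain ⟨x, hxH, Hx⟩ := hmem h1
      have Hx' : ∀ y : P, (((a : MulAut P) y : P) : G) = x * y * x⁻¹ := fun y => Hx y
      have hxN : x ∈ Subgroup.normalizer (P : Set G) := mem_normalizer_of_induces _ x Hx'
      have hxR : InE E D.R x := (hH₁ x).mp (hHle hxH)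
      have hpow : (a : MulAut P) ^ orderOf a = 1 := by
        have h2 : ((a ^ orderOf a : 𝓗.autGroup P) : MulAut P) = ((1 : 𝓗.autGroup P) : MulAut P) := by
          rw [pow_orderOf_eq_one a]
        rw [Subgroup.coe_pow, Subgroup.coe_one] at h2
        exact h2
      have hxn : x ^ orderOf a ∈ Subgroup.centralizer (P : Set G) := by
        rw [Subgroup.mem_centralizer_iff]
        intro d hd
        have h3 := autInduced_pow (a : MulAut P) x Hx' (orderOf a) ⟨d, hd⟩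
        rw [hpow] at h3
        have h4 : d = x ^ orderOf a * d * (x ^ orderOf a)⁻¹ := h3
        calc d * x ^ orderOf a = (x ^ orderOf a * d * (x ^ orderOf a)⁻¹) * x ^ orderOf a := by rw [← h4]
          _ = x ^ orderOf a * d := by group
      have hNE := mem_NE_of_coprime_order D E hE hPT hRP hxN hxR ha' hxn
      rw [mem_autGroup_iff E hPT]
      have e : P.subtype.comp (a : MulAut P).toMonoidHom = conjHom P x := by
        ext y; exact Hx' y
      rw [e]
      exact hNE.2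
    · rw [hR₀]
      exact Subgroup.comap_mono (autInducedBy_le_autGroup E hPT)
  intro α hα
  have h5 : (⟨α, hα⟩ : 𝓗.autGroup P) ∈ (E.autGroup P).subgroupOf (𝓗.autGroup P) := hle (Subgroup.mem_top _)
  rw [Subgroup.mem_subgroupOf] at h5
  exact h5

end C4

end Cfsg.Agent.Lib.Helper6.NSubC4
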