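import Mathlib
import Cfsg.Prelude
import Cfsg.Agent.Lib.Helper9.OrthMax15

set_option autoImplicit false

/-! # S5677 hub: orthogonal decompositions `V = D_1 ⊥ … ⊥ D_t` and overgroups of `Stab(D) ∩ Ω`.

Definitions and the "X-calculus" (see `notes/S5677_proof_helper6.md`).
* `perpS Q W`            : the orthogonal complement of `W`
* `XS hQ M w`            : for singular `w`, the subspace `{v ⊥ w | ∀ c, E_{w,cv} ∈ M}` (junk `⊥` otherwise)
* `Ctx Q k D M`          : the standing hypotheses (`H = Stab(D) ∩ Ω ≤ M`)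
-/

namespace Cfsg.Agent.Lib.Helper6.ODec

open Matrix Module Cfsg.Agent.H9Orth Cfsg.Agent.Lib.Helper2.ReflGen Cfsg.Agent.Lib.Helper2.CDG
  Cfsg.Agent.Lib.Helper2.LongRoot

variable {F : Type*} [Field F] {ι : Type} [Fintype ι] [DecidableEq ι]
variable {Q : QuadraticForm F (ι → F)}

/-- the orthogonal complement of a subspace -/
abbrev perpS (Q : QuadraticForm F (ι → F)) (W : Submodule F (ι → F)) : Submodule F (ι → F) :=
  LinearMap.BilinForm.orthogonal (QuadraticMap.polarBilin Q) W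

theorem mem_perpS (W : Submodule F (ι → F)) (x : ι → F) :
    x ∈ perpS Q W ↔ ∀ w ∈ W, QuadraticMap.polar (⇑Q) w x = 0 := Iff.rfl

theorem mem_perpS' (W : Submodule F (ι → F)) (x : ι → F) :
    x ∈ perpS Q W ↔ ∀ w ∈ W, QuadraticMap.polar (⇑Q) x w = 0 := by
  rw [mem_perpS]
  constructor
  · intro h w hw; rw [QuadraticMap.polar_comm]; exact h w hw
  · intro h w hw; rw [QuadraticMap.polar_comm]; exact h w hw

open Classical in
/-- `X_w`: the vectors `v ⊥ w` with `E_{w,cv} ∈ M` for all `c` (`w` singular) -/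
noncomputable def XS (hQ : (QuadraticMap.polarBilin Q).Nondegenerate)
    (M : Subgroup (Matrix.GeneralLinearGroup ι F)) (w : ι → F) : Submodule F (ι → F) :=
  if hw : Q w = 0 then rootSub hQ M ⊤ w hw else ⊥

theorem mem_XS (hQ : (QuadraticMap.polarBilin Q).Nondegenerate)
    (M : Subgroup (Matrix.GeneralLinearGroup ι F)) {w : ι → F} (hw : Q w = 0) (v : ι → F) :
    v ∈ XS hQ M w ↔ QuadraticMap.polar (⇑Q) w v = 0 ∧
      ∀ (c : F) (hd : QuadraticMap.polar (⇑Q) w (c • v) = 0),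
        ((eich hQ w (c • v) hw hd : ↥(Cfsg.isometryGroup F ⇑Q)) :
          Matrix.GeneralLinearGroup ι F) ∈ M := by
  unfold XS
  rw [dif_pos hw, mem_rootSub]
  constructor
  · rintro ⟨-, h1, h2⟩; exact ⟨h1, h2⟩
  · rintro ⟨h1, h2⟩; exact ⟨Submodule.mem_top, h1, h2⟩

section XCalc

variable (hQ : (QuadraticMap.polarBilin Q).Nondegenerate)
  {M : Subgroup (Matrix.GeneralLinearGroup ι F)}

/-- (X1a) -/
theorem XS_perp {w v : ι → F} (hw : Q w = 0) (hv : v ∈ XS hQ M w) :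
    QuadraticMap.polar (⇑Q) w v = 0 := ((mem_XS hQ M hw v).1 hv).1

/-- the Eichler transformation `E_{w,v}` for `v ∈ X_w` lies in `M` -/
theorem XS_eich {w v : ι → F} (hw : Q w = 0) (hv : v ∈ XS hQ M w)
    (hwv : QuadraticMap.polar (⇑Q) w v = 0) :
    ((eich hQ w v hw hwv : ↥(Cfsg.isometryGroup F ⇑Q)) : Matrix.GeneralLinearGroup ι F) ∈ M := by
  have h1 : QuadraticMap.polar (⇑Q) w ((1 : F) • v) = 0 := by rw [one_smul]; exact hwv
  have h := ((mem_XS hQ M hw v).1 hv).2 1 h1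
  have e : eich hQ w ((1 : F) • v) hw h1 = eich hQ w v hw hwv :=
    eich_congr hQ rfl (one_smul F v) _ _ _ _
  rw [e] at h
  exact h

/-- constructor: it suffices to have all `E_{w,cv}` in `M` -/
theorem XS_of_forall {w v : ι → F} (hw : Q w = 0) (hwv : QuadraticMap.polar (⇑Q) w v = 0)
    (h : ∀ (c : F) (hd : QuadraticMap.polar (⇑Q) w (c • v) = 0),
      ((eich hQ w (c • v) hw hd : ↥(Cfsg.isometryGroup F ⇑Q)) :
        Matrix.GeneralLinearGroup ι F) ∈ M) : v ∈ XS hQ M w :=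
  (mem_XS hQ M hw v).2 ⟨hwv, h⟩

/-- (X1b) `w ∈ X_w` -/
theorem XS_self {w : ι → F} (hw : Q w = 0) : w ∈ XS hQ M w := by
  have hww : QuadraticMap.polar (⇑Q) w w = 0 := by rw [polar_self, hw, mul_zero]
  apply XS_of_forall hQ hw hww
  intro c hd
  have e : eich hQ w (c • w) hw hd = 1 := by
    apply iso_ext
    intro x
    rw [eich_mulVec, one_mulVec', QuadraticMap.map_smul, hw, QuadraticMap.polar_smul_left]
    simp only [smul_eq_mul, mul_zero, zero_mul, zero_smul, sub_zero]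
    module
  rw [e]
  exact M.one_mem

/-- (X2) transport by an element of `M` -/
theorem XS_map {w v : ι → F} (hw : Q w = 0) (g : ↥(Cfsg.isometryGroup F ⇑Q))
    (hgM : (g : Matrix.GeneralLinearGroup ι F) ∈ M) (hv : v ∈ XS hQ M w) :
    ((g : Matrix.GeneralLinearGroup ι F) : Matrix ι ι F) *ᵥ v ∈
      XS hQ M (((g : Matrix.GeneralLinearGroup ι F) : Matrix ι ι F) *ᵥ w) := by
  have hgw : Q (((g : Matrix.GeneralLinearGroup ι F) : Matrix ι ι F) *ᵥ w) = 0 := by
    rw [iso_Q]; exact hw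
  obtain ⟨h1, h2⟩ := (mem_XS hQ M hw v).1 hv
  apply XS_of_forall hQ hgw (by rw [iso_polar]; exact h1)
  intro c hd
  have h3 : QuadraticMap.polar (⇑Q) w (c • v) = 0 := by
    rw [QuadraticMap.polar_smul_right, h1, smul_zero]
  have e := conj_eich hQ g w (c • v) hw h3
  have e' : eich hQ (((g : Matrix.GeneralLinearGroup ι F) : Matrix ι ι F) *ᵥ w)
      (c • ((g : Matrix.GeneralLinearGroup ι F) : Matrix ι ι F) *ᵥ v) hgw hd =
      g * eich hQ w (c • v) hw h3 * g⁻¹ := by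
    rw [e]
    apply eich_congr hQ rfl
    rw [Matrix.mulVec_smul]
  rw [e']
  have h4 : ((g * eich hQ w (c • v) hw h3 * g⁻¹ : ↥(Cfsg.isometryGroup F ⇑Q)) :
      Matrix.GeneralLinearGroup ι F) =
      (g : Matrix.GeneralLinearGroup ι F) *
        ((eich hQ w (c • v) hw h3 : ↥(Cfsg.isometryGroup F ⇑Q)) : Matrix.GeneralLinearGroup ι F) *
        (g : Matrix.GeneralLinearGroup ι F)⁻¹ := rfl
  rw [h4]
  exact M.mul_mem (M.mul_mem hgM (h2 c h3)) (M.inv_mem hgM)

/-- (INV) an element of `M` fixing `w` preserves `X_w` -/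
theorem XS_inv {w v : ι → F} (hw : Q w = 0) (g : ↥(Cfsg.isometryGroup F ⇑Q))
    (hgM : (g : Matrix.GeneralLinearGroup ι F) ∈ M)
    (hgw : ((g : Matrix.GeneralLinearGroup ι F) : Matrix ι ι F) *ᵥ w = w)
    (hv : v ∈ XS hQ M w) :
    ((g : Matrix.GeneralLinearGroup ι F) : Matrix ι ι F) *ᵥ v ∈ XS hQ M w := by
  have h := XS_map hQ hw g hgM hv
  rw [hgw] at h
  exact h

/-- (X3) rescaling `w` -/
theorem XS_smul {w v : ι → F} (hw : Q w = 0) {a : F} (ha : a ≠ 0) (hv : v ∈ XS hQ M w) :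
    v ∈ XS hQ M (a • w) := by
  have haw : Q (a • w) = 0 := by rw [QuadraticMap.map_smul, hw, smul_zero]
  obtain ⟨h1, h2⟩ := (mem_XS hQ M hw v).1 hv
  apply XS_of_forall hQ haw (by rw [QuadraticMap.polar_smul_left, h1, smul_zero])
  intro c hd
  have h3 : QuadraticMap.polar (⇑Q) w ((a * c) • v) = 0 := by
    rw [QuadraticMap.polar_smul_right, h1, smul_zero]
  have e : eich hQ (a • w) (c • v) haw hd = eich hQ w ((a * c) • v) hw h3 := by
    have h4 : QuadraticMap.polar (⇑Q) w (c • v) = 0 := by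
      rw [QuadraticMap.polar_smul_right, h1, smul_zero]
    rw [eich_smul hQ a w (c • v) hw h4]
    exact eich_congr hQ rfl (by rw [smul_smul]) _ _ _ _
  rw [e]
  exact h2 (a * c) h3

/-- (X3') rescaling `w`, converse direction -/
theorem XS_of_smul {w v : ι → F} (hw : Q w = 0) {a : F} (ha : a ≠ 0)
    (hv : v ∈ XS hQ M (a • w)) : v ∈ XS hQ M w := by
  have haw : Q (a • w) = 0 := by rw [QuadraticMap.map_smul, hw, smul_zero]
  have h := XS_smul hQ (M := M) haw (inv_ne_zero ha) hv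
  rw [smul_smul, inv_mul_cancel₀ ha, one_smul] at h
  exact h

/-- (X4) symmetry for two singular vectors -/
theorem XS_symm {w v : ι → F} (hw : Q w = 0) (hv : Q v = 0) (h : v ∈ XS hQ M w) :
    w ∈ XS hQ M v := by
  obtain ⟨h1, h2⟩ := (mem_XS hQ M hw v).1 h
  have hvw : QuadraticMap.polar (⇑Q) v w = 0 := by rw [QuadraticMap.polar_comm]; exact h1
  apply XS_of_forall hQ hv hvw
  intro c hd
  have h3 : QuadraticMap.polar (⇑Q) w ((-c) • v) = 0 := by
    rw [QuadraticMap.polar_smul_right, h1, smul_zero]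
  have e : eich hQ v (c • w) hv hd = eich hQ w ((-c) • v) hw h3 := by
    apply iso_ext
    intro x
    rw [eich_mulVec, eich_mulVec, QuadraticMap.map_smul, QuadraticMap.map_smul, hw, hv]
    simp only [QuadraticMap.polar_smul_left, smul_eq_mul, mul_zero, zero_mul, zero_smul, sub_zero]
    module
  rw [e]
  exact h2 (-c) h3

end XCalc

/-- the standing hypotheses of S5677 (general form) -/
structure Ctx (Q : QuadraticForm F (ι → F)) {t : ℕ} (k : ℕ) (D : Fin t → Submodule F (ι → F))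
    (M : Subgroup (Matrix.GeneralLinearGroup ι F)) : Prop where
  h2 : (2 : F) ≠ 0
  hn : 7 ≤ Fintype.card ι
  hk : 3 ≤ k
  hD : Cfsg.Geo.IsOrthogonalMDecomposition (⇑Q) k D
  hHM : Cfsg.Geo.decompositionStabilizer D ⊓ Cfsg.Geo.omegaGL ⇑Q ≤ M

namespace Ctx

variable [Fintype F] {t k : ℕ} {D : Fin t → Submodule F (ι → F)}
  {M : Subgroup (Matrix.GeneralLinearGroup ι F)}

theorem orth (c : Ctx Q k D M) {i j : Fin t} (hij : i ≠ j) {a b : ι → F} (ha : a ∈ D i)
    (hb : b ∈ D j) : QuadraticMap.polar (⇑Q) a b = 0 :=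
  c.hD.decomp.orthogonal i j hij a ha b hb

theorem le_perp (c : Ctx Q k D M) {i j : Fin t} (hij : i ≠ j) : D i ≤ perpS Q (D j) := by
  intro x hx
  rw [mem_perpS]
  intro w hw
  exact c.orth hij.symm hw hx

/-- `V = D_j ⊥ D_j^⊥` -/
theorem split (c : Ctx Q k D M) (j : Fin t) : OrthSplit Q (D j) (perpS Q (D j)) :=
  orthSplit_of_nondeg (D j) (c.hD.decomp.nondegenerate j)

theorem finrank_eq (c : Ctx Q k D M) (j : Fin t) : finrank F (D j) = k :=
  c.hD.decomp.decomp.finrank_eq j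

theorem three_le (c : Ctx Q k D M) (j : Fin t) : 3 ≤ finrank F (D j) := by
  rw [c.finrank_eq j]; exact c.hk

/-- a vector of `D_j` orthogonal to `D_j` is zero -/
theorem eq_zero_of_mem_of_perp (c : Ctx Q k D M) (hQ : (QuadraticMap.polarBilin Q).Nondegenerate)
    {j : Fin t} {x : ι → F} (hx : x ∈ D j) (hxp : x ∈ perpS Q (D j)) : x = 0 :=
  (c.split j).disj hQ hx hxp

/-- an element of `Ω` preserving every block lies in `M` -/
theorem mem_of_mapsTo (c : Ctx Q k D M) (g : Matrix.GeneralLinearGroup ι F)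
    (hΩ : g ∈ Cfsg.Geo.omegaGL ⇑Q)
    (hg : ∀ i, ∀ x ∈ D i, (g : Matrix ι ι F) *ᵥ x ∈ D i) : g ∈ M := by
  have : Finite F := Finite.of_fintype F
  apply c.hHM
  refine Subgroup.mem_inf.2 ⟨⟨1, fun i => ?_⟩, hΩ⟩
  rw [Equiv.Perm.coe_one, id_eq]
  exact map_eq_of_mem_stab (D i) g (mem_subspaceStabilizer_of_mapsTo (D i) g (hg i))

/-- block Eichler transformations lie in `M` -/
theorem eich_mem (c : Ctx Q k D M) (hQ : (QuadraticMap.polarBilin Q).Nondegenerate)
    {j : Fin t} {a b : ι → F} (ha : a ∈ D j) (hb : b ∈ D j) (hQa : Q a = 0)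
    (hab : QuadraticMap.polar (⇑Q) a b = 0) :
    ((eich hQ a b hQa hab : ↥(Cfsg.isometryGroup F ⇑Q)) : Matrix.GeneralLinearGroup ι F) ∈ M := by
  have : Finite F := Finite.of_fintype F
  apply c.mem_of_mapsTo _ (eich_mem_omegaGL hQ c.hn a b hQa hab)
  intro i x hx
  by_cases hij : i = j
  · subst hij
    rw [eich_mulVec]
    exact (D i).sub_mem ((D i).sub_mem ((D i).add_mem hx ((D i).smul_mem _ hb))
      ((D i).smul_mem _ ha)) ((D i).smul_mem _ ha)
  · rw [eich_fix hQ a b x hQa hab (c.orth (Ne.symm hij) ha hx) (c.orth (Ne.symm hij) hb hx)]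
    exact hx

/-- reflections in block vectors preserve every block -/
theorem refl_mapsTo (c : Ctx Q k D M) {j : Fin t} {v : ι → F} (hv : v ∈ D j) (hQv : Q v ≠ 0)
    (i : Fin t) {x : ι → F} (hx : x ∈ D i) :
    ((refl Q v hQv : Matrix.GeneralLinearGroup ι F) : Matrix ι ι F) *ᵥ x ∈ D i := by
  rw [refl_mulVec]
  by_cases hij : i = j
  · subst hij
    exact (D i).sub_mem hx ((D i).smul_mem _ hv)
  · rw [c.orth (Ne.symm hij) hv hx, mul_zero, zero_smul, sub_zero]
    exact hx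

/-- products of two reflections in block vectors of the same norm lie in `M` -/
theorem refl_pair_mem (c : Ctx Q k D M) (hQ : (QuadraticMap.polarBilin Q).Nondegenerate)
    {j l : Fin t} {v v' : ι → F} (hv : v ∈ D j) (hv' : v' ∈ D l) (hQv : Q v ≠ 0)
    (hQv' : Q v' ≠ 0) (heq : Q v' = Q v) :
    ((refl Q v hQv * refl Q v' hQv' : ↥(Cfsg.isometryGroup F ⇑Q)) :
      Matrix.GeneralLinearGroup ι F) ∈ M := by
  have : Finite F := Finite.of_fintype F
  apply c.mem_of_mapsTo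
  · refine ⟨refl Q v hQv * refl Q v' hQv', ?_, rfl⟩
    rw [← T_eq_Omega hQ c.hn]
    exact refl_mul_refl_mem_T hQ (by have := c.hn; omega) v v' hQv hQv' heq
  · intro i x hx
    rw [mul_mulVec]
    exact c.refl_mapsTo hv hQv i (c.refl_mapsTo hv' hQv' i hx)

/-- (X5) for a singular block vector `u ∈ D_j`: `D_j ∩ u^⊥ ⊆ X_u` -/
theorem XS_blk (c : Ctx Q k D M) (hQ : (QuadraticMap.polarBilin Q).Nondegenerate)
    {j : Fin t} {u b : ι → F} (hu : u ∈ D j) (hb : b ∈ D j) (hQu : Q u = 0)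
    (hub : QuadraticMap.polar (⇑Q) u b = 0) : b ∈ XS hQ M u := by
  apply XS_of_forall hQ hQu hub
  intro a hd
  exact c.eich_mem hQ hu ((D j).smul_mem a hb) hQu hd

/-- nonzero singular vectors exist in every block -/
theorem exists_sing (c : Ctx Q k D M) (hQ : (QuadraticMap.polarBilin Q).Nondegenerate)
    (j : Fin t) : ∃ p ∈ D j, p ≠ 0 ∧ Q p = 0 := by
  have : Finite F := Finite.of_fintype F
  obtain ⟨p, q, hp, -, hQp, -, hpq, -⟩ := (c.split j).exists_hyp_in hQ ⊥ (by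
    rw [finrank_bot]; have := c.three_le j; omega)
  refine ⟨p, hp, ?_, hQp⟩
  rintro rfl
  simp [QuadraticMap.polar] at hpq

/-- a singular block vector not orthogonal to `x`, if `x` is not orthogonal to the block -/
theorem exists_sing_not_perp (c : Ctx Q k D M) (hQ : (QuadraticMap.polarBilin Q).Nondegenerate)
    (j : Fin t) {x : ι → F} (hx : x ∉ perpS Q (D j)) :
    ∃ p ∈ D j, Q p = 0 ∧ QuadraticMap.polar (⇑Q) p x ≠ 0 := by
  have : Finite F := Finite.of_fintype F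
  apply (c.split j).exists_singular_not_perp hQ (c.three_le j) x
  rw [mem_perpS] at hx
  push Not at hx
  exact hx

/-- a nonsingular vector of the block orthogonal to a given singular block vector -/
theorem exists_nonsing_perp (c : Ctx Q k D M) (hQ : (QuadraticMap.polarBilin Q).Nondegenerate)
    {j : Fin t} {a : ι → F} (ha : a ∈ D j) (ha0 : a ≠ 0) (hQa : Q a = 0) :
    ∃ d ∈ D j, QuadraticMap.polar (⇑Q) a d = 0 ∧ Q d ≠ 0 := by
  obtain ⟨p, hp, hQp, hap⟩ := (c.split j).exists_partner_in hQ ha ha0 hQa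
  obtain ⟨x, y, hx, hy, hax, -, hay, -, hxy⟩ :=
    (c.split j).exists_room hQ (c.three_le j) a p ha hp hQa hQp hap
  by_cases h1 : Q x ≠ 0
  · exact ⟨x, hx, hax, h1⟩
  by_cases h2 : Q y ≠ 0
  · exact ⟨y, hy, hay, h2⟩
  push Not at h1 h2
  refine ⟨x + y, (D j).add_mem hx hy, ?_, ?_⟩
  · rw [QuadraticMap.polar_add_right, hax, hay, add_zero]
  · rw [QuadraticMap.map_add Q, h1, h2, zero_add, zero_add]
    exact hxy

/-- (ZC) if `w ⊥ D_l` and some `z ∈ X_w` is not orthogonal to `D_l` then `D_l ⊆ X_w` -/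
theorem ZC (c : Ctx Q k D M) (hQ : (QuadraticMap.polarBilin Q).Nondegenerate)
    {w z : ι → F} (hw : Q w = 0) {l : Fin t} (hwl : w ∈ perpS Q (D l))
    (hz : z ∈ XS hQ M w) (hzl : z ∉ perpS Q (D l)) : D l ≤ XS hQ M w := by
  have : Finite F := Finite.of_fintype F
  apply (c.split l).eich_invariant_ge hQ (c.three_le l) (XS hQ M w) _ z hz
  · rw [mem_perpS] at hzl
    push Not at hzl
    exact hzl
  · intro p hp hQp d hd hpd x hx
    apply XS_inv hQ hw _ (c.eich_mem hQ hp hd hQp hpd) _ hx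
    rw [mem_perpS] at hwl
    exact eich_fix hQ p d w hQp hpd (hwl p hp) (hwl d hd)

/-- everything orthogonal to `D_j` lies in any subspace containing the other blocks -/
theorem perp_le (c : Ctx Q k D M) (hQ : (QuadraticMap.polarBilin Q).Nondegenerate)
    (j : Fin t) (X : Submodule F (ι → F)) (hX : ∀ l, l ≠ j → D l ≤ X) : perpS Q (D j) ≤ X := by
  intro x hx
  have hx' : x ∈ iSup D := by rw [c.hD.decomp.decomp.iSup_eq_top]; trivial
  -- `x = a + y`, `a ∈ D_j`, `y ∈ X ⊓ D_j^⊥`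
  have key : ∀ v ∈ iSup D, ∃ a ∈ D j, ∃ y ∈ X ⊓ perpS Q (D j), v = a + y := by
    intro v hv
    refine Submodule.iSup_induction D (motive := fun v => ∃ a ∈ D j, ∃ y ∈ X ⊓ perpS Q (D j),
      v = a + y) hv ?_ ?_ ?_
    · intro i v hv
      by_cases hij : i = j
      · subst hij
        exact ⟨v, hv, 0, Submodule.zero_mem _, (add_zero v).symm⟩
      · exact ⟨0, Submodule.zero_mem _, v, ⟨hX i hij hv, c.le_perp hij hv⟩, (zero_add v).symm⟩
    · exact ⟨0, Submodule.zero_mem _, 0, Submodule.zero_mem _, (add_zero 0).symm⟩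
    · rintro v v' ⟨a, ha, y, hy, rfl⟩ ⟨a', ha', y', hy', rfl⟩
      exact ⟨a + a', (D j).add_mem ha ha', y + y', Submodule.add_mem _ hy hy', by abel⟩
  obtain ⟨a, ha, y, hy, rfl⟩ := key x hx'
  have ha0 : a = 0 := by
    apply c.eq_zero_of_mem_of_perp hQ ha
    have : a = (a + y) - y := by abel
    rw [this]
    exact Submodule.sub_mem _ hx hy.2
  rw [ha0, zero_add]
  exact hy.1

end Ctx

/-- the conclusion of the KEY LEMMA: a singular block vector `u ∈ D_j` with `X_u ⊄ D_j` -/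
def Key (hQ : (QuadraticMap.polarBilin Q).Nondegenerate)
    (M : Subgroup (Matrix.GeneralLinearGroup ι F)) {t : ℕ} (D : Fin t → Submodule F (ι → F)) :
    Prop :=
  ∃ (j : Fin t) (u v : ι → F), u ∈ D j ∧ u ≠ 0 ∧ Q u = 0 ∧ v ∈ XS hQ M u ∧ v ∉ D j

end Cfsg.Agent.Lib.Helper6.ODec
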