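import Mathlib
import Cfsg.Prelude.Def_Characters
import Cfsg.Agent.Lib.Helper2.OmMin.Defs

set_option autoImplicit false
set_option linter.unusedSectionVars false

/-!
# S2346 PK-E : calculus of the Eichler (Siegel) elements `eich hQ u y`
-/

namespace Cfsg.Agent.Lib.Helper2.OmMin

open Matrix Cfsg Cfsg.Agent.Lib.Helper2.HypExt Cfsg.Agent.Lib.Helper2.Siegel
open Cfsg.Agent.Lib.Helper2.LongRoot Cfsg.Agent.Lib.Helper1.SUMin Cfsg.Agent.Lib.Helper4.SLMin
open scoped ComplexConjugate

universe u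

section PKE
variable {F : Type u} [Field F] {ι : Type} [Fintype ι] [DecidableEq ι]
variable {Q : QuadraticForm F (ι → F)} (hQ : (QuadraticMap.polarBilin Q).Nondegenerate)

namespace PkE

/-- `f(z, E_{u,y} x)` -/
theorem polar_eichVec (z u y x : ι → F) :
    QuadraticMap.polar (⇑Q) z (x + QuadraticMap.polar (⇑Q) u x • y - QuadraticMap.polar (⇑Q) y x • u
        - (Q y * QuadraticMap.polar (⇑Q) u x) • u) =
      QuadraticMap.polar (⇑Q) z x + QuadraticMap.polar (⇑Q) u x * QuadraticMap.polar (⇑Q) z y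
        - QuadraticMap.polar (⇑Q) y x * QuadraticMap.polar (⇑Q) z u
        - Q y * QuadraticMap.polar (⇑Q) u x * QuadraticMap.polar (⇑Q) z u := by
  rw [QuadraticMap.polar_sub_right, QuadraticMap.polar_sub_right, QuadraticMap.polar_add_right,
    QuadraticMap.polar_smul_right, QuadraticMap.polar_smul_right, QuadraticMap.polar_smul_right]
  simp only [smul_eq_mul]

theorem polar_self_of_sing {u : ι → F} (hu : Q u = 0) : QuadraticMap.polar (⇑Q) u u = 0 := by
  rw [Cfsg.Agent.Lib.Helper2.ReflGen.polar_self, hu, mul_zero]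

end PkE

open PkE

theorem eich_of_not (u y : ι → F) (h : ¬ (Q u = 0 ∧ QuadraticMap.polar (⇑Q) u y = 0)) :
    eich hQ u y = 1 := by
  unfold eich
  rw [dif_neg h]

theorem eich_zero (u : ι → F) : eich hQ u 0 = 1 := by
  by_cases hu : Q u = 0
  · apply CDG.iso_ext
    intro x
    rw [eich_mulVec hQ hu (QuadraticMap.polar_zero_right _ _), CDG.one_mulVec',
      QuadraticMap.polar_zero_left, map_zero]
    simp
  · exact eich_of_not hQ u 0 (fun h => hu h.1)

theorem eich_add {u y y' : ι → F} (hu : Q u = 0) (huy : QuadraticMap.polar (⇑Q) u y = 0)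
    (huy' : QuadraticMap.polar (⇑Q) u y' = 0) :
    eich hQ u (y + y') = eich hQ u y * eich hQ u y' := by
  have huyy : QuadraticMap.polar (⇑Q) u (y + y') = 0 := by
    rw [QuadraticMap.polar_add_right, huy, huy', add_zero]
  have hyu : QuadraticMap.polar (⇑Q) y u = 0 := by rw [QuadraticMap.polar_comm]; exact huy
  apply CDG.iso_ext
  intro x
  rw [CDG.mul_mulVec, eich_mulVec hQ hu huyy, eich_mulVec hQ hu huy', eich_mulVec hQ hu huy,
    polar_eichVec, polar_eichVec, polar_self_of_sing hu, huy', hyu, QuadraticMap.map_add Q y y',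
    QuadraticMap.polar_add_left]
  module

theorem eich_neg {u y : ι → F} (hu : Q u = 0) (huy : QuadraticMap.polar (⇑Q) u y = 0) :
    eich hQ u (-y) = (eich hQ u y)⁻¹ := by
  have huy' : QuadraticMap.polar (⇑Q) u (-y) = 0 := by
    rw [QuadraticMap.polar_neg_right, huy, neg_zero]
  have h := eich_add hQ hu huy huy'
  rw [add_neg_cancel, eich_zero] at h
  exact eq_inv_of_mul_eq_one_right h.symm

/-- conjugation by an isometry -/
theorem eich_conj (g : ↥(Cfsg.isometryGroup F ⇑Q)) (u y : ι → F) :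
    g * eich hQ u y * g⁻¹ =
      eich hQ (((g : Matrix.GeneralLinearGroup ι F) : Matrix ι ι F) *ᵥ u)
        (((g : Matrix.GeneralLinearGroup ι F) : Matrix ι ι F) *ᵥ y) := by
  by_cases h : Q u = 0 ∧ QuadraticMap.polar (⇑Q) u y = 0
  · obtain ⟨hu, huy⟩ := h
    have hu' : Q (((g : Matrix.GeneralLinearGroup ι F) : Matrix ι ι F) *ᵥ u) = 0 := by
      rw [CDG.iso_Q]; exact hu
    have huy' : QuadraticMap.polar (⇑Q) (((g : Matrix.GeneralLinearGroup ι F) : Matrix ι ι F) *ᵥ u)
        (((g : Matrix.GeneralLinearGroup ι F) : Matrix ι ι F) *ᵥ y) = 0 := by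
      rw [CDG.iso_polar]; exact huy
    apply CDG.iso_ext
    intro x
    have h1 : ∀ w : ι → F, QuadraticMap.polar (⇑Q) w
        (((g⁻¹ : ↥(Cfsg.isometryGroup F ⇑Q)) : Matrix.GeneralLinearGroup ι F).1 *ᵥ x) =
        QuadraticMap.polar (⇑Q) (((g : Matrix.GeneralLinearGroup ι F) : Matrix ι ι F) *ᵥ w) x := by
      intro w
      have h := CDG.iso_polar g w
        (((g⁻¹ : ↥(Cfsg.isometryGroup F ⇑Q)) : Matrix.GeneralLinearGroup ι F).1 *ᵥ x)
      rw [← CDG.mul_mulVec, mul_inv_cancel, CDG.one_mulVec'] at h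
      exact h.symm
    have h2 : ((g : Matrix.GeneralLinearGroup ι F) : Matrix ι ι F) *ᵥ
        (((g⁻¹ : ↥(Cfsg.isometryGroup F ⇑Q)) : Matrix.GeneralLinearGroup ι F).1 *ᵥ x) = x := by
      rw [← CDG.mul_mulVec, mul_inv_cancel, CDG.one_mulVec']
    rw [CDG.mul_mulVec, CDG.mul_mulVec, eich_mulVec hQ hu huy, eich_mulVec hQ hu' huy', h1, h1,
      CDG.iso_Q, Matrix.mulVec_sub, Matrix.mulVec_sub, Matrix.mulVec_add, Matrix.mulVec_smul,
      Matrix.mulVec_smul, Matrix.mulVec_smul, h2]
  · rw [eich_of_not hQ u y h, mul_one, mul_inv_cancel]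
    symm
    apply eich_of_not
    rw [CDG.iso_Q, CDG.iso_polar]
    exact h

theorem eich_smul_left {u y : ι → F} (a : F) (ha : a ≠ 0) :
    eich hQ (a • u) y = eich hQ u (a • y) := by
  by_cases h : Q u = 0 ∧ QuadraticMap.polar (⇑Q) u y = 0
  · obtain ⟨hu, huy⟩ := h
    have hu' : Q (a • u) = 0 := by rw [QuadraticMap.map_smul, hu, smul_zero]
    have huy' : QuadraticMap.polar (⇑Q) (a • u) y = 0 := by
      rw [QuadraticMap.polar_smul_left, huy, smul_zero]
    have huy'' : QuadraticMap.polar (⇑Q) u (a • y) = 0 := by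
      rw [QuadraticMap.polar_smul_right, huy, smul_zero]
    apply CDG.iso_ext
    intro x
    rw [eich_mulVec hQ hu' huy', eich_mulVec hQ hu huy'', QuadraticMap.polar_smul_left,
      QuadraticMap.polar_smul_left, QuadraticMap.map_smul]
    simp only [smul_eq_mul]
    module
  · rw [eich_of_not hQ u (a • y), eich_of_not hQ (a • u) y]
    · rintro ⟨h1, h2⟩
      apply h
      rw [QuadraticMap.map_smul, smul_eq_mul] at h1
      rw [QuadraticMap.polar_smul_left, smul_eq_mul] at h2
      refine ⟨?_, ?_⟩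
      · rcases mul_eq_zero.1 h1 with h3 | h3
        · exact absurd (mul_self_eq_zero.1 h3) ha
        · exact h3
      · rcases mul_eq_zero.1 h2 with h3 | h3
        · exact absurd h3 ha
        · exact h3
    · rintro ⟨h1, h2⟩
      apply h
      rw [QuadraticMap.polar_smul_right, smul_eq_mul] at h2
      refine ⟨h1, ?_⟩
      rcases mul_eq_zero.1 h2 with h3 | h3
      · exact absurd h3 ha
      · exact h3

theorem eich_add_smul {u y : ι → F} (a : F) (hu : Q u = 0) :
    eich hQ u (y + a • u) = eich hQ u y := by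
  have huu := polar_self_of_sing hu
  have e : QuadraticMap.polar (⇑Q) u (y + a • u) = QuadraticMap.polar (⇑Q) u y := by
    rw [QuadraticMap.polar_add_right, QuadraticMap.polar_smul_right, huu, smul_zero, add_zero]
  by_cases huy : QuadraticMap.polar (⇑Q) u y = 0
  · have huy' : QuadraticMap.polar (⇑Q) u (y + a • u) = 0 := by rw [e]; exact huy
    have hyu : QuadraticMap.polar (⇑Q) y u = 0 := by rw [QuadraticMap.polar_comm]; exact huy
    apply CDG.iso_ext
    intro x
    rw [eich_mulVec hQ hu huy', eich_mulVec hQ hu huy, Cfsg.Agent.Lib.Helper2.ReflGen.map_add_smul,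
      hu, hyu, QuadraticMap.polar_add_left, QuadraticMap.polar_smul_left]
    simp only [smul_eq_mul]
    module
  · rw [eich_of_not hQ u y (fun h => huy h.2), eich_of_not hQ u (y + a • u)]
    rw [e]
    exact fun h => huy h.2

/-- for singular `y` the Eichler element is the long root element `LR u y 1` -/
theorem eich_eq_LR {u y : ι → F} (hu : Q u = 0) (hy : Q y = 0)
    (huy : QuadraticMap.polar (⇑Q) u y = 0) : eich hQ u y = LR hQ u y hu hy huy 1 := by
  apply CDG.iso_ext
  intro x
  rw [eich_mulVec hQ hu huy, LR_mulVec, hy]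
  module

theorem LR_eq_eich {u v : ι → F} (hu : Q u = 0) (hv : Q v = 0)
    (huv : QuadraticMap.polar (⇑Q) u v = 0) (c : F) :
    LR hQ u v hu hv huv c = eich hQ u (c • v) := by
  have huv' : QuadraticMap.polar (⇑Q) u (c • v) = 0 := by
    rw [QuadraticMap.polar_smul_right, huv, smul_zero]
  apply CDG.iso_ext
  intro x
  rw [eich_mulVec hQ hu huv', LR_mulVec, QuadraticMap.map_smul, hv, QuadraticMap.polar_smul_left]
  simp only [smul_eq_mul]
  module

/-- an Eichler element fixes the vectors orthogonal to `u` and `y` -/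
theorem eich_fix {u y x : ι → F} (hux : QuadraticMap.polar (⇑Q) u x = 0)
    (hyx : QuadraticMap.polar (⇑Q) y x = 0) :
    ((eich hQ u y : Matrix.GeneralLinearGroup ι F) : Matrix ι ι F) *ᵥ x = x := by
  by_cases h : Q u = 0 ∧ QuadraticMap.polar (⇑Q) u y = 0
  · rw [eich_mulVec hQ h.1 h.2, hux, hyx]
    simp
  · rw [eich_of_not hQ u y h, CDG.one_mulVec']

/-- the commutator of two Eichler elements at orthogonal singular vectors `a`, `b`, with `y, y'`
orthogonal to both, is the long root element `LR a b (f(y,y'))` -/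
theorem eich_comm {a b y y' : ι → F} (ha : Q a = 0) (hb : Q b = 0)
    (hab : QuadraticMap.polar (⇑Q) a b = 0) (hay : QuadraticMap.polar (⇑Q) a y = 0)
    (hay' : QuadraticMap.polar (⇑Q) a y' = 0) (hby : QuadraticMap.polar (⇑Q) b y = 0)
    (hby' : QuadraticMap.polar (⇑Q) b y' = 0) :
    eich hQ a y * eich hQ b y' * (eich hQ a y)⁻¹ * (eich hQ b y')⁻¹ =
      LR hQ a b ha hb hab (QuadraticMap.polar (⇑Q) y y') := by
  set c := QuadraticMap.polar (⇑Q) y y' with hc
  have hba : QuadraticMap.polar (⇑Q) b a = 0 := by rw [QuadraticMap.polar_comm]; exact hab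
  have hyb : QuadraticMap.polar (⇑Q) y b = 0 := by rw [QuadraticMap.polar_comm]; exact hby
  -- `E₁ b = b`, `E₁ y' = y' - c • a`
  have e1 : ((eich hQ a y : Matrix.GeneralLinearGroup ι F) : Matrix ι ι F) *ᵥ b = b := by
    rw [eich_mulVec hQ ha hay, hab, hyb]
    simp
  have e2 : ((eich hQ a y : Matrix.GeneralLinearGroup ι F) : Matrix ι ι F) *ᵥ y' =
      (-c) • a + y' := by
    rw [eich_mulVec hQ ha hay, hay', ← hc]
    module
  have hbca : QuadraticMap.polar (⇑Q) b ((-c) • a) = 0 := by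
    rw [QuadraticMap.polar_smul_right, hba, smul_zero]
  have h1 := eich_conj hQ (eich hQ a y) b y'
  rw [e1, e2, eich_add hQ hb hbca hby'] at h1
  rw [h1, mul_inv_cancel_right]
  -- `E_{b, -c a} = LR b a (-c) = LR a b c`
  rw [← LR_eq_eich hQ hb ha hba (-c)]
  apply CDG.iso_ext
  intro x
  rw [LR_mulVec, LR_mulVec]
  module

end PKE

end Cfsg.Agent.Lib.Helper2.OmMin
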