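import Mathlib
import Cfsg.Prelude.Def_Characters
import Cfsg.Agent.Lib.Helper2.OmMin.Defs
import Cfsg.Agent.Lib.Helper2.LongRoot11
import Cfsg.Agent.Lib.Helper6.OmMin_E

set_option autoImplicit false
set_option linter.unusedSectionVars false

/-!
# S2346 PK-M : the Eichler elements lie in `Ω = [O, O]`; `T ≤ Ω`; transitivity of `Ω`
-/

namespace Cfsg.Agent.Lib.Helper2.OmMin

open Matrix Cfsg Cfsg.Agent.Lib.Helper2.HypExt Cfsg.Agent.Lib.Helper2.Siegel
open Cfsg.Agent.Lib.Helper2.LongRoot Cfsg.Agent.Lib.Helper1.SUMin Cfsg.Agent.Lib.Helper4.SLMin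
open scoped ComplexConjugate

universe u

section PKM
variable {F : Type u} [Field F] [Fintype F] {ι : Type} [Fintype ι] [DecidableEq ι]
variable {Q : QuadraticForm F (ι → F)} (hQ : (QuadraticMap.polarBilin Q).Nondegenerate)

namespace PkM

include hQ in
/-- for singular `u ≠ 0` and nonsingular `y` there is `y' ⟂ u` with `f(y,y') = -Q y` -/
theorem exists_perp_partner (u y : ι → F) (hu0 : u ≠ 0) (hu : Q u = 0) (hy : Q y ≠ 0) :
    ∃ y' : ι → F, QuadraticMap.polar (⇑Q) u y' = 0 ∧ QuadraticMap.polar (⇑Q) y y' = - Q y := by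
  obtain ⟨z, hz⟩ : ∃ z, QuadraticMap.polar (⇑Q) u z ≠ 0 := by
    by_contra hcon
    push Not at hcon
    exact hu0 (hQ.1 u hcon)
  have hex : ∃ y'' : ι → F, QuadraticMap.polar (⇑Q) u y'' = 0 ∧
      QuadraticMap.polar (⇑Q) y y'' ≠ 0 := by
    by_contra hcon
    push Not at hcon
    set z1 := (QuadraticMap.polar (⇑Q) u z)⁻¹ • z with hz1def
    have hz1 : QuadraticMap.polar (⇑Q) u z1 = 1 := by
      rw [hz1def, QuadraticMap.polar_smul_right, smul_eq_mul, inv_mul_cancel₀ hz]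
    have key : ∀ v, QuadraticMap.polar (⇑Q) y v =
        QuadraticMap.polar (⇑Q) u v * QuadraticMap.polar (⇑Q) y z1 := by
      intro v
      have h := hcon (v - QuadraticMap.polar (⇑Q) u v • z1) (by
        rw [QuadraticMap.polar_sub_right, QuadraticMap.polar_smul_right, hz1, smul_eq_mul, mul_one,
          sub_self])
      rw [QuadraticMap.polar_sub_right, QuadraticMap.polar_smul_right, smul_eq_mul] at h
      linear_combination h
    have h0 : y - QuadraticMap.polar (⇑Q) y z1 • u = 0 := by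
      apply hQ.1
      intro v
      show QuadraticMap.polar (⇑Q) (y - QuadraticMap.polar (⇑Q) y z1 • u) v = 0
      rw [QuadraticMap.polar_sub_left, QuadraticMap.polar_smul_left, key v, smul_eq_mul]
      ring
    apply hy
    rw [sub_eq_zero.1 h0, QuadraticMap.map_smul, hu, smul_zero]
  obtain ⟨y'', h1, h2⟩ := hex
  refine ⟨(-(Q y) / QuadraticMap.polar (⇑Q) y y'') • y'', ?_, ?_⟩
  · rw [QuadraticMap.polar_smul_right, h1, smul_zero]
  · rw [QuadraticMap.polar_smul_right, smul_eq_mul, div_mul_cancel₀ _ h2]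

/-- commutators lie in `Ω` -/
theorem comm_mem_Omega (a b : ↥(Cfsg.isometryGroup F ⇑Q)) :
    a * b * a⁻¹ * b⁻¹ ∈ Cfsg.Omega F ⇑Q := by
  show a * b * a⁻¹ * b⁻¹ ∈ commutator ↥(Cfsg.isometryGroup F ⇑Q)
  rw [commutator_def, ← commutatorElement_def]
  exact Subgroup.commutator_mem_commutator (Subgroup.mem_top a) (Subgroup.mem_top b)

/-- `E_{u,y} ∈ Ω` for nonsingular `y`: it is the commutator of the reflection in `y` with `E_{u,y'}` -/
theorem eich_mem_of_nonsing (u y : ι → F) (hu0 : u ≠ 0) (hu : Q u = 0)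
    (huy : QuadraticMap.polar (⇑Q) u y = 0) (hy : Q y ≠ 0) :
    eich hQ u y ∈ Cfsg.Omega F ⇑Q := by
  obtain ⟨y', h1, h2⟩ := exists_perp_partner hQ u y hu0 hu hy
  have hyu : QuadraticMap.polar (⇑Q) y u = 0 := by rw [QuadraticMap.polar_comm]; exact huy
  have e1 : ((CDG.refl Q y hy : Matrix.GeneralLinearGroup ι F) : Matrix ι ι F) *ᵥ u = u :=
    CDG.refl_fix y hy u hyu
  have e2 : ((CDG.refl Q y hy : Matrix.GeneralLinearGroup ι F) : Matrix ι ι F) *ᵥ y' = y + y' := by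
    rw [CDG.refl_mulVec, h2]
    have : (Q y)⁻¹ * -Q y = -1 := by
      rw [mul_neg, inv_mul_cancel₀ hy]
    rw [this]
    module
  have hc := eich_conj hQ (CDG.refl Q y hy) u y'
  rw [e1, e2, eich_add hQ hu huy h1] at hc
  have e : eich hQ u y =
      CDG.refl Q y hy * eich hQ u y' * (CDG.refl Q y hy)⁻¹ * (eich hQ u y')⁻¹ := by
    rw [hc, mul_inv_cancel_right]
  rw [e]
  exact comm_mem_Omega _ _

include hQ in
/-- two orthogonal singular vectors with dual partners and a nonsingular vector orthogonal to both -/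
theorem exists_nonsing_perp (hn : 5 ≤ Fintype.card ι) :
    ∃ e0 e1 f0 f1 d : ι → F, Q e0 = 0 ∧ Q e1 = 0 ∧ QuadraticMap.polar (⇑Q) e0 e1 = 0 ∧
      QuadraticMap.polar (⇑Q) f0 e0 = 1 ∧ QuadraticMap.polar (⇑Q) f0 e1 = 0 ∧
      QuadraticMap.polar (⇑Q) f1 e0 = 0 ∧ QuadraticMap.polar (⇑Q) f1 e1 = 1 ∧
      QuadraticMap.polar (⇑Q) e0 d = 0 ∧ QuadraticMap.polar (⇑Q) e1 d = 0 ∧ Q d ≠ 0 := by
  obtain ⟨k, e, f, W, hH, hmem, hdim, hW2, haniso⟩ := Cfsg.Agent.Lib.Helper5.exists_witt Q hQ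
  rw [Module.finrank_fintype_fun_eq_card] at hdim
  have hk : 2 ≤ k := by omega
  have hfe : ∀ i i' : Fin k, QuadraticMap.polar (⇑Q) (f i) (e i') = if i = i' then 1 else 0 :=
    fun i i' => hyp_fe hH i i'
  by_cases hk3 : 3 ≤ k
  · refine ⟨e ⟨0, by omega⟩, e ⟨1, by omega⟩, f ⟨0, by omega⟩, f ⟨1, by omega⟩,
      e ⟨2, by omega⟩ + f ⟨2, by omega⟩, hH.qe _, hH.qe _, hH.ee _ _, ?_, ?_, ?_, ?_, ?_, ?_, ?_⟩
    · rw [hfe]; simp
    · rw [hfe]; simp
    · rw [hfe]; simp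
    · rw [hfe]; simp
    · rw [QuadraticMap.polar_add_right, hH.ee, hH.ef]; simp
    · rw [QuadraticMap.polar_add_right, hH.ee, hH.ef]; simp
    · rw [QuadraticMap.map_add (⇑Q), hH.qe, hH.qf, hH.ef]; simp
  · have hW1 : 1 ≤ Module.finrank F W := by omega
    have hWne : W ≠ ⊥ := by
      intro h
      rw [h, finrank_bot] at hW1
      omega
    obtain ⟨d, hdW, hd0⟩ := Submodule.exists_mem_ne_zero_of_ne_bot hWne
    have hdperp := (hmem d).1 hdW
    refine ⟨e ⟨0, by omega⟩, e ⟨1, by omega⟩, f ⟨0, by omega⟩, f ⟨1, by omega⟩, d,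
      hH.qe _, hH.qe _, hH.ee _ _, ?_, ?_, ?_, ?_, (hdperp _).1, (hdperp _).1,
      fun h => hd0 (haniso d hdW h)⟩
    · rw [hfe]; simp
    · rw [hfe]; simp
    · rw [hfe]; simp
    · rw [hfe]; simp

end PkM

open PkM

/-- `E_{u,y} = [g, E_{u,y'}]` with `g` a reflection in `y` (`Q y ≠ 0`), and for singular `y` split
`y = y₁ + (y - y₁)` with `y₁ ⟂ u, y` nonsingular (`⟨u,y⟩^⟂` is not totally singular when `5 ≤ dim`) -/
theorem eich_mem_Omega (hn : 5 ≤ Fintype.card ι) (u y : ι → F) :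
    eich hQ u y ∈ Cfsg.Omega F ⇑Q := by
  by_cases h : Q u = 0 ∧ QuadraticMap.polar (⇑Q) u y = 0
  swap
  · rw [eich_of_not hQ u y h]; exact Subgroup.one_mem _
  obtain ⟨hu, huy⟩ := h
  by_cases hu0 : u = 0
  · have e : eich hQ u y = 1 := by
      apply CDG.iso_ext
      intro x
      rw [eich_mulVec hQ hu huy, CDG.one_mulVec', hu0, QuadraticMap.polar_zero_left]
      simp
    rw [e]; exact Subgroup.one_mem _
  by_cases hy : Q y = 0
  swap
  · exact eich_mem_of_nonsing hQ u y hu0 hu huy hy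
  by_cases hind : ∀ s t : F, s • u + t • y = 0 → s = 0 ∧ t = 0
  · obtain ⟨e0, e1, f0, f1, d, he0, he1, hee, h11, h12, h21, h22, hd0, hd1, hd⟩ :=
      exists_nonsing_perp hQ hn
    obtain ⟨g, hg0, hg1⟩ := transport2 hQ e0 e1 u y
      (QuadraticMap.polarBilin Q f0) (QuadraticMap.polarBilin Q f1) h11 h12 h21 h22
      (by
        intro s t
        rw [Cfsg.Agent.Lib.Helper5.map_lin2, Cfsg.Agent.Lib.Helper5.map_lin2, hu, hy, huy, he0,
          he1, hee])
      hind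
    set y₁ := ((g : Matrix.GeneralLinearGroup ι F) : Matrix ι ι F) *ᵥ d with hy₁
    have hy1u : QuadraticMap.polar (⇑Q) u y₁ = 0 := by
      rw [← hg0, hy₁, CDG.iso_polar]; exact hd0
    have hy1y : QuadraticMap.polar (⇑Q) y y₁ = 0 := by
      rw [← hg1, hy₁, CDG.iso_polar]; exact hd1
    have hQy1 : Q y₁ ≠ 0 := by
      rw [hy₁, CDG.iso_Q]; exact hd
    have e : y = y₁ + (y - y₁) := by abel
    have hQ2 : Q (y - y₁) ≠ 0 := by
      have e' : y - y₁ = y + (-1 : F) • y₁ := by module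
      rw [e', Cfsg.Agent.Lib.Helper2.ReflGen.map_add_smul, hy, hy1y]
      simpa using hQy1
    have hu2 : QuadraticMap.polar (⇑Q) u (y - y₁) = 0 := by
      rw [QuadraticMap.polar_sub_right, huy, hy1u, sub_zero]
    rw [e, eich_add hQ hu hy1u hu2]
    exact Subgroup.mul_mem _ (eich_mem_of_nonsing hQ u y₁ hu0 hu hy1u hQy1)
      (eich_mem_of_nonsing hQ u (y - y₁) hu0 hu hu2 hQ2)
  · push Not at hind
    obtain ⟨s, t, hst, hne⟩ := hind
    have ht : t ≠ 0 := by
      intro ht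
      rw [ht, zero_smul, add_zero] at hst
      rcases smul_eq_zero.1 hst with h' | h'
      · exact hne h' ht
      · exact hu0 h'
    have hy' : y = (0 : ι → F) + (-(t⁻¹ * s)) • u := by
      have h1 : t • y = -(s • u) := eq_neg_of_add_eq_zero_right hst
      have h2 : y = t⁻¹ • (t • y) := by rw [smul_smul, inv_mul_cancel₀ ht, one_smul]
      rw [h2, h1, smul_neg, smul_smul, neg_smul, zero_add]
    have e : eich hQ u y = 1 := by
      rw [hy', eich_add_smul hQ _ hu, eich_zero]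
    rw [e]; exact Subgroup.one_mem _

include hQ in
theorem T_le_Omega (hn : 5 ≤ Fintype.card ι) : T Q ≤ Cfsg.Omega F ⇑Q := by
  unfold T
  rw [Subgroup.closure_le]
  rintro g ⟨u, v, c, hu, hv, huv, hg⟩
  rw [eq_LR_of_coe hQ g u v hu hv huv c hg, LR_eq_eich]
  exact eich_mem_Omega hQ hn _ _

include hQ in
/-- `Ω(Q)` is transitive on the nonzero vectors of any given norm (`LongRoot.T_trans`, `T_trans_sing`) -/
theorem omega_trans (hn : 5 ≤ Fintype.card ι) (x y : ι → F) (hx : x ≠ 0) (hy : y ≠ 0)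
    (hxy : Q x = Q y) :
    ∃ g : ↥(Cfsg.isometryGroup F ⇑Q), g ∈ Cfsg.Omega F ⇑Q ∧
      ((g : Matrix.GeneralLinearGroup ι F) : Matrix ι ι F) *ᵥ x = y := by
  by_cases h : Q x = 0
  · obtain ⟨t, ht, h1⟩ := T_trans_sing hQ hn x y hx hy h (by rw [← hxy]; exact h)
    exact ⟨t, T_le_Omega hQ hn ht, h1⟩
  · obtain ⟨t, ht, h1⟩ := T_trans hQ hn x y h hxy.symm
    exact ⟨t, T_le_Omega hQ hn ht, h1⟩

end PKM

end Cfsg.Agent.Lib.Helper2.OmMin
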