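import Mathlib
import Cfsg.Prelude.Def_Characters
import Cfsg.Agent.Lib.Helper2.OmMin.Defs
import Cfsg.Agent.Lib.Helper6.OmMin_E
import Cfsg.Agent.Lib.Helper6.OmMin_M

set_option autoImplicit false
set_option linter.unusedSectionVars false

/-!
# S2346 PK-H : the Siegel radicals `qe`, `qf` and the Levi embedding `jO` in `HQ` coordinates
-/

namespace Cfsg.Agent.Lib.Helper2.OmMin

open Matrix Cfsg Cfsg.Agent.Lib.Helper2.HypExt Cfsg.Agent.Lib.Helper2.Siegel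
open Cfsg.Agent.Lib.Helper2.LongRoot Cfsg.Agent.Lib.Helper1.SUMin Cfsg.Agent.Lib.Helper4.SLMin
open scoped ComplexConjugate

universe u

section PKH
variable {F : Type u} [Field F] {κ : Type} [Fintype κ] [DecidableEq κ]
variable {W : QuadraticForm F (κ → F)} (hW : (QuadraticMap.polarBilin W).Nondegenerate)

namespace PkH

theorem tl_sub (v v' : Fin 2 ⊕ κ → F) : tl (v - v') = tl v - tl v' := rfl

theorem HQ_e_sing : HQ W (mk3 1 0 0) = 0 := by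
  rw [HQ_apply]; simp

theorem HQ_f_sing : HQ W (mk3 0 1 0) = 0 := by
  rw [HQ_apply]; simp

theorem polar_e_w (w : κ → F) : QuadraticMap.polar (⇑(HQ W)) (mk3 1 0 0) (mk3 0 0 w) = 0 := by
  rw [HQ_polar]; simp

theorem polar_f_w (w : κ → F) : QuadraticMap.polar (⇑(HQ W)) (mk3 0 1 0) (mk3 0 0 w) = 0 := by
  rw [HQ_polar]; simp

theorem polar_e_x (x : Fin 2 ⊕ κ → F) :
    QuadraticMap.polar (⇑(HQ W)) (mk3 1 0 0) x = x (Sum.inl 1) := by
  rw [HQ_polar]; simp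

theorem polar_f_x (x : Fin 2 ⊕ κ → F) :
    QuadraticMap.polar (⇑(HQ W)) (mk3 0 1 0) x = x (Sum.inl 0) := by
  rw [HQ_polar]; simp

theorem polar_w_x (w : κ → F) (x : Fin 2 ⊕ κ → F) :
    QuadraticMap.polar (⇑(HQ W)) (mk3 0 0 w) x = QuadraticMap.polar (⇑W) w (tl x) := by
  rw [HQ_polar]; simp

theorem HQ_w (w : κ → F) : HQ W (mk3 0 0 w) = W w := by
  rw [HQ_apply]; simp

end PkH

open PkH

theorem qe_mulVec (w : κ → F) (x : Fin 2 ⊕ κ → F) :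
    ((qe hW w : Matrix.GeneralLinearGroup (Fin 2 ⊕ κ) F) : Matrix (Fin 2 ⊕ κ) (Fin 2 ⊕ κ) F) *ᵥ x =
      mk3 (x (Sum.inl 0) - QuadraticMap.polar (⇑W) w (tl x) - W w * x (Sum.inl 1)) (x (Sum.inl 1))
        (tl x + x (Sum.inl 1) • w) := by
  unfold qe
  rw [eich_mulVec (HQ_nondeg W hW) HQ_e_sing (polar_e_w w), polar_e_x, polar_w_x, HQ_w]
  apply ext3
  · simp
  · simp
  · rw [tl_sub, tl_sub, tl_add, tl_smul, tl_smul, tl_smul, tl_mk3, tl_mk3, tl_mk3]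
    simp

theorem qf_mulVec (w : κ → F) (x : Fin 2 ⊕ κ → F) :
    ((qf hW w : Matrix.GeneralLinearGroup (Fin 2 ⊕ κ) F) : Matrix (Fin 2 ⊕ κ) (Fin 2 ⊕ κ) F) *ᵥ x =
      mk3 (x (Sum.inl 0)) (x (Sum.inl 1) - QuadraticMap.polar (⇑W) w (tl x) - W w * x (Sum.inl 0))
        (tl x + x (Sum.inl 0) • w) := by
  unfold qf
  rw [eich_mulVec (HQ_nondeg W hW) HQ_f_sing (polar_f_w w), polar_f_x, polar_w_x, HQ_w]
  apply ext3
  · simp
  · simp
  · rw [tl_sub, tl_sub, tl_add, tl_smul, tl_smul, tl_smul, tl_mk3, tl_mk3, tl_mk3]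
    simp

theorem jO_mulVec (g : ↥(Cfsg.isometryGroup F ⇑W)) (x : Fin 2 ⊕ κ → F) :
    ((jO W g : Matrix.GeneralLinearGroup (Fin 2 ⊕ κ) F) : Matrix (Fin 2 ⊕ κ) (Fin 2 ⊕ κ) F) *ᵥ x =
      mk3 (x (Sum.inl 0)) (x (Sum.inl 1))
        (((g : Matrix.GeneralLinearGroup κ F) : Matrix κ κ F) *ᵥ tl x) := by
  rw [jO_coe]
  apply ext3
  · rw [emb_mulVec_inl, mk3_zero]
  · rw [emb_mulVec_inl, mk3_one]
  · rw [tl_emb_mulVec, tl_mk3]

theorem qe_add (w w' : κ → F) : qe hW (w + w') = qe hW w * qe hW w' := by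
  unfold qe
  have e : (mk3 0 0 (w + w') : Fin 2 ⊕ κ → F) = mk3 0 0 w + mk3 0 0 w' := by
    apply ext3 <;> simp [tl_add]
  rw [e]
  exact eich_add (HQ_nondeg W hW) HQ_e_sing (polar_e_w w) (polar_e_w w')

theorem qf_add (w w' : κ → F) : qf hW (w + w') = qf hW w * qf hW w' := by
  unfold qf
  have e : (mk3 0 0 (w + w') : Fin 2 ⊕ κ → F) = mk3 0 0 w + mk3 0 0 w' := by
    apply ext3 <;> simp [tl_add]
  rw [e]
  exact eich_add (HQ_nondeg W hW) HQ_f_sing (polar_f_w w) (polar_f_w w')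

theorem qe_injective : Function.Injective (qe hW) := by
  intro w w' h
  have h1 := qe_mulVec hW w (mk3 0 1 0)
  rw [h, qe_mulVec] at h1
  have h2 := congrArg tl h1
  rw [tl_mk3, tl_mk3] at h2
  simpa using h2.symm

theorem qf_injective : Function.Injective (qf hW) := by
  intro w w' h
  have h1 := qf_mulVec hW w (mk3 1 0 0)
  rw [h, qf_mulVec] at h1
  have h2 := congrArg tl h1
  rw [tl_mk3, tl_mk3] at h2
  simpa using h2.symm

theorem jO_conj_qe (g : ↥(Cfsg.isometryGroup F ⇑W)) (w : κ → F) :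
    jO W g * qe hW w * (jO W g)⁻¹ =
      qe hW (((g : Matrix.GeneralLinearGroup κ F) : Matrix κ κ F) *ᵥ w) := by
  unfold qe
  rw [eich_conj, jO_mulVec, jO_mulVec]
  simp only [mk3_zero, mk3_one, tl_mk3, Matrix.mulVec_zero]

theorem jO_conj_qf (g : ↥(Cfsg.isometryGroup F ⇑W)) (w : κ → F) :
    jO W g * qf hW w * (jO W g)⁻¹ =
      qf hW (((g : Matrix.GeneralLinearGroup κ F) : Matrix κ κ F) *ᵥ w) := by
  unfold qf
  rw [eich_conj, jO_mulVec, jO_mulVec]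
  simp only [mk3_zero, mk3_one, tl_mk3, Matrix.mulVec_zero]

/-- the embedding of an Eichler element is an Eichler element -/
theorem jO_eich (u y : κ → F) :
    jO W (eich hW u y) = eich (HQ_nondeg W hW) (mk3 0 0 u) (mk3 0 0 y) := by
  have e1 : HQ W (mk3 0 0 u) = W u := HQ_w u
  have e2 : QuadraticMap.polar (⇑(HQ W)) (mk3 0 0 u) (mk3 0 0 y) = QuadraticMap.polar (⇑W) u y := by
    rw [polar_w_x, tl_mk3]
  by_cases h : W u = 0 ∧ QuadraticMap.polar (⇑W) u y = 0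
  · obtain ⟨hu, huy⟩ := h
    apply CDG.iso_ext
    intro x
    rw [jO_mulVec, eich_mulVec hW hu huy, eich_mulVec (HQ_nondeg W hW) (e1.trans hu) (e2.trans huy),
      polar_w_x, polar_w_x, HQ_w]
    apply ext3
    · simp
    · simp
    · rw [tl_sub, tl_sub, tl_add, tl_smul, tl_smul, tl_smul, tl_mk3, tl_mk3, tl_mk3]
  · rw [eich_of_not hW u y h, map_one]
    symm
    apply eich_of_not
    rw [e1, e2]
    exact h

variable [Fintype F]

theorem qe_mem_Omega (h3 : 3 ≤ Fintype.card κ) (w : κ → F) :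
    qe hW w ∈ Cfsg.Omega F ⇑(HQ W) := by
  unfold qe
  apply eich_mem_Omega
  rw [Fintype.card_sum, Fintype.card_fin]
  omega

theorem qf_mem_Omega (h3 : 3 ≤ Fintype.card κ) (w : κ → F) :
    qf hW w ∈ Cfsg.Omega F ⇑(HQ W) := by
  unfold qf
  apply eich_mem_Omega
  rw [Fintype.card_sum, Fintype.card_fin]
  omega

theorem qeΩ_coe (h3 : 3 ≤ Fintype.card κ) (w : κ → F) :
    ((qeΩ hW w : ↥(Cfsg.Omega F ⇑(HQ W))) : ↥(Cfsg.isometryGroup F ⇑(HQ W))) = qe hW w := by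
  unfold qeΩ
  rw [dif_pos (qe_mem_Omega hW h3 w)]

theorem qfΩ_coe (h3 : 3 ≤ Fintype.card κ) (w : κ → F) :
    ((qfΩ hW w : ↥(Cfsg.Omega F ⇑(HQ W))) : ↥(Cfsg.isometryGroup F ⇑(HQ W))) = qf hW w := by
  unfold qfΩ
  rw [dif_pos (qf_mem_Omega hW h3 w)]

theorem qeΩ_add (h3 : 3 ≤ Fintype.card κ) (w w' : κ → F) :
    qeΩ hW (w + w') = qeΩ hW w * qeΩ hW w' := by
  apply Subtype.ext
  rw [Subgroup.coe_mul, qeΩ_coe hW h3, qeΩ_coe hW h3, qeΩ_coe hW h3, qe_add]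

theorem qfΩ_add (h3 : 3 ≤ Fintype.card κ) (w w' : κ → F) :
    qfΩ hW (w + w') = qfΩ hW w * qfΩ hW w' := by
  apply Subtype.ext
  rw [Subgroup.coe_mul, qfΩ_coe hW h3, qfΩ_coe hW h3, qfΩ_coe hW h3, qf_add]

theorem qeΩ_injective (h3 : 3 ≤ Fintype.card κ) : Function.Injective (qeΩ hW) := by
  intro w w' h
  apply qe_injective hW
  rw [← qeΩ_coe hW h3, ← qeΩ_coe hW h3, h]

/-- every `g ∈ O(W)` whose embedding lies in `Ω(HQ W)` normalises `qeΩ` (and `qfΩ`) through its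
action on `W` -/
theorem conj_qeΩ (h3 : 3 ≤ Fintype.card κ) (g : ↥(Cfsg.isometryGroup F ⇑W))
    (n : ↥(Cfsg.Omega F ⇑(HQ W))) (hn : (n : ↥(Cfsg.isometryGroup F ⇑(HQ W))) = jO W g) (w : κ → F) :
    n * qeΩ hW w * n⁻¹ = qeΩ hW (((g : Matrix.GeneralLinearGroup κ F) : Matrix κ κ F) *ᵥ w) := by
  apply Subtype.ext
  rw [Subgroup.coe_mul, Subgroup.coe_mul, Subgroup.coe_inv, qeΩ_coe hW h3, qeΩ_coe hW h3, hn,
    jO_conj_qe]

theorem conj_qfΩ (h3 : 3 ≤ Fintype.card κ) (g : ↥(Cfsg.isometryGroup F ⇑W))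
    (n : ↥(Cfsg.Omega F ⇑(HQ W))) (hn : (n : ↥(Cfsg.isometryGroup F ⇑(HQ W))) = jO W g) (w : κ → F) :
    n * qfΩ hW w * n⁻¹ = qfΩ hW (((g : Matrix.GeneralLinearGroup κ F) : Matrix κ κ F) *ᵥ w) := by
  apply Subtype.ext
  rw [Subgroup.coe_mul, Subgroup.coe_mul, Subgroup.coe_inv, qfΩ_coe hW h3, qfΩ_coe hW h3, hn,
    jO_conj_qf]

end PKH

section S
variable {F : Type u} [Field F] [Fintype F] [DecidableEq F] {κ : Type} [Fintype κ] [DecidableEq κ]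
variable {W₄ : QuadraticForm F (κ → F)} (hW₄ : (QuadraticMap.polarBilin W₄).Nondegenerate)

/-- PK-RAD0: a vector of `HQ W₄` fixed by both Siegel radicals is zero -/
theorem no_fixed_vector (h1 : 1 ≤ Fintype.card κ) (v₀ : Fin 2 ⊕ κ → F)
    (he : ∀ y : κ → F, ((qe hW₄ y : Matrix.GeneralLinearGroup (Fin 2 ⊕ κ) F) : Matrix _ _ F) *ᵥ v₀ = v₀)
    (hf : ∀ y : κ → F, ((qf hW₄ y : Matrix.GeneralLinearGroup (Fin 2 ⊕ κ) F) : Matrix _ _ F) *ᵥ v₀ = v₀) :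
    v₀ = 0 := by
  obtain ⟨k⟩ : Nonempty κ := Fintype.card_pos_iff.1 h1
  -- `v₀ (inl 1) = 0`
  have h1' : v₀ (Sum.inl 1) = 0 := by
    have h := congrArg tl (he (Pi.single k 1))
    rw [qe_mulVec, tl_mk3] at h
    have h2 := congrFun h k
    simpa using h2
  have h0' : v₀ (Sum.inl 0) = 0 := by
    have h := congrArg tl (hf (Pi.single k 1))
    rw [qf_mulVec, tl_mk3] at h
    have h2 := congrFun h k
    simpa using h2
  have h2' : tl v₀ = 0 := by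
    apply hW₄.1
    intro y
    show QuadraticMap.polar (⇑W₄) (tl v₀) y = 0
    have h := congrFun (he y) (Sum.inl 0)
    rw [qe_mulVec, mk3_zero, h1', mul_zero, sub_zero] at h
    rw [QuadraticMap.polar_comm]
    linear_combination -h
  apply ext3
  · exact h0'
  · exact h1'
  · exact h2'

end S

end Cfsg.Agent.Lib.Helper2.OmMin
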