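import Mathlib
import Cfsg.Prelude.Def_Characters
import Cfsg.Agent.Lib.Helper2.OmMin.Defs
import Cfsg.Agent.Lib.Helper6.OmMin_E
import Cfsg.Agent.Lib.Helper6.OmMin_M
import Cfsg.Agent.Lib.Helper6.OmMin_H

set_option autoImplicit false
set_option linter.unusedSectionVars false

/-!
# S2346 PK-SW : an element of `Ω(HQ W)` swapping the two Siegel radicals
-/

namespace Cfsg.Agent.Lib.Helper2.OmMin

open Matrix Cfsg Cfsg.Agent.Lib.Helper2.HypExt Cfsg.Agent.Lib.Helper2.Siegel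
open Cfsg.Agent.Lib.Helper2.LongRoot Cfsg.Agent.Lib.Helper1.SUMin Cfsg.Agent.Lib.Helper4.SLMin
open scoped ComplexConjugate

universe u

namespace PkSW

variable {F : Type u} [Field F] {κ : Type} [Fintype κ] [DecidableEq κ]
variable {W : QuadraticForm F (κ → F)} (hW : (QuadraticMap.polarBilin W).Nondegenerate)

include hW in
/-- a nondegenerate form on a nonzero space has a nonsingular vector -/
theorem exists_nonsing (h1 : 1 ≤ Fintype.card κ) : ∃ w : κ → F, W w ≠ 0 := by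
  by_contra hcon
  push Not at hcon
  obtain ⟨k⟩ : Nonempty κ := Fintype.card_pos_iff.1 h1
  have h0 : (Pi.single k 1 : κ → F) = 0 := by
    apply hW.1
    intro y
    show QuadraticMap.polar (⇑W) (Pi.single k 1) y = 0
    unfold QuadraticMap.polar
    rw [hcon, hcon, hcon]
    ring
  have := congrFun h0 k
  simp at this

/-- the swap element `qe w * qf ((W w)⁻¹ • w) * qe w` as an isometry -/
noncomputable def swapO (w : κ → F) : ↥(Cfsg.isometryGroup F ⇑(HQ W)) :=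
  qe hW w * qf hW ((W w)⁻¹ • w) * qe hW w

theorem qe_mk3 (w t : κ → F) (a b : F) :
    ((qe hW w : Matrix.GeneralLinearGroup (Fin 2 ⊕ κ) F) : Matrix (Fin 2 ⊕ κ) (Fin 2 ⊕ κ) F) *ᵥ
      mk3 a b t = mk3 (a - QuadraticMap.polar (⇑W) w t - W w * b) b (t + b • w) := by
  rw [qe_mulVec]
  simp only [mk3_zero, mk3_one, tl_mk3]

theorem qf_mk3 (w t : κ → F) (a b : F) :
    ((qf hW w : Matrix.GeneralLinearGroup (Fin 2 ⊕ κ) F) : Matrix (Fin 2 ⊕ κ) (Fin 2 ⊕ κ) F) *ᵥ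
      mk3 a b t = mk3 a (b - QuadraticMap.polar (⇑W) w t - W w * a) (t + a • w) := by
  rw [qf_mulVec]
  simp only [mk3_zero, mk3_one, tl_mk3]

theorem mk3_congr {a a' b b' : F} {t t' : κ → F} (ha : a = a') (hb : b = b') (ht : t = t') :
    (mk3 a b t : Fin 2 ⊕ κ → F) = mk3 a' b' t' := by
  rw [ha, hb, ht]

/-- the swap element maps `(a, b, t)` to `(-c b, -c⁻¹ a, r_w t)`, `c = W w` -/
theorem swapO_mk3 (w : κ → F) (hw : W w ≠ 0) (a b : F) (t : κ → F) :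
    ((swapO hW w : Matrix.GeneralLinearGroup (Fin 2 ⊕ κ) F) : Matrix (Fin 2 ⊕ κ) (Fin 2 ⊕ κ) F) *ᵥ
      mk3 a b t = mk3 (-(W w) * b) (-(W w)⁻¹ * a)
        (t - ((W w)⁻¹ * QuadraticMap.polar (⇑W) w t) • w) := by
  unfold swapO
  rw [CDG.mul_mulVec, CDG.mul_mulVec, qe_mk3, qf_mk3, qe_mk3]
  simp only [QuadraticMap.map_smul, QuadraticMap.polar_smul_left, QuadraticMap.polar_add_right,
    QuadraticMap.polar_smul_right, Cfsg.Agent.Lib.Helper2.ReflGen.polar_self, smul_eq_mul]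
  apply mk3_congr
  · field_simp
    ring
  · field_simp
    ring
  · match_scalars
    · ring
    · field_simp
      ring

end PkSW

open PkSW

/-- PK-SW : an element of `Ω(HQ W)` swapping the two Siegel radicals -/
theorem exists_swap {F : Type u} [Field F] [Fintype F] {κ : Type} [Fintype κ] [DecidableEq κ]
    {W : QuadraticForm F (κ → F)} (hW : (QuadraticMap.polarBilin W).Nondegenerate)
    (h3 : 3 ≤ Fintype.card κ) :
    ∃ (n₀ : ↥(Cfsg.Omega F ⇑(HQ W))) (a : F) (r : ↥(Cfsg.isometryGroup F ⇑W)), a ≠ 0 ∧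
      ∀ x : κ → F, n₀ * qeΩ hW x * n₀⁻¹ =
        qfΩ hW (a • (((r : Matrix.GeneralLinearGroup κ F) : Matrix κ κ F) *ᵥ x)) := by
  obtain ⟨w, hw⟩ := exists_nonsing hW (by omega)
  have ha : -(W w)⁻¹ ≠ 0 := neg_ne_zero.2 (inv_ne_zero hw)
  refine ⟨qeΩ hW w * qfΩ hW ((W w)⁻¹ • w) * qeΩ hW w, -(W w)⁻¹, CDG.refl W w hw, ha, ?_⟩
  intro x
  apply Subtype.ext
  rw [Subgroup.coe_mul, Subgroup.coe_mul, Subgroup.coe_inv, Subgroup.coe_mul, Subgroup.coe_mul,
    qeΩ_coe hW h3, qfΩ_coe hW h3, qeΩ_coe hW h3, qfΩ_coe hW h3]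
  show swapO hW w * qe hW x * (swapO hW w)⁻¹ = _
  have e1 : (mk3 (-(W w) * 0) (-(W w)⁻¹ * 1)
      ((0 : κ → F) - ((W w)⁻¹ * QuadraticMap.polar (⇑W) w 0) • w) : Fin 2 ⊕ κ → F) =
      (-(W w)⁻¹) • mk3 0 1 0 := by
    apply ext3
    · simp
    · simp
    · rw [tl_mk3, tl_smul, tl_mk3, QuadraticMap.polar_zero_right]
      simp
  have e2 : (-(W w)⁻¹) • (mk3 (-(W w) * 0) (-(W w)⁻¹ * 0)
      (x - ((W w)⁻¹ * QuadraticMap.polar (⇑W) w x) • w) : Fin 2 ⊕ κ → F) =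
      mk3 0 0 ((-(W w)⁻¹) •
        (((CDG.refl W w hw : Matrix.GeneralLinearGroup κ F) : Matrix κ κ F) *ᵥ x)) := by
    rw [CDG.refl_mulVec]
    apply ext3
    · simp
    · simp
    · rw [tl_mk3, tl_smul, tl_mk3]
  unfold qe qf
  rw [eich_conj, swapO_mk3 hW w hw, swapO_mk3 hW w hw, e1,
    eich_smul_left (HQ_nondeg W hW) _ ha, e2]

end Cfsg.Agent.Lib.Helper2.OmMin
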