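import Mathlib
import Cfsg.Prelude.Def_Characters
import Cfsg.Agent.Lib.Helper2.OmMin.Defs
import Cfsg.Agent.Lib.Helper3.OmMin_CHAR
import Cfsg.Agent.Lib.Helper6.OmMin_E
import Cfsg.Agent.Lib.Helper6.OmMin_M
import Cfsg.Agent.Lib.Helper6.OmMin_H

set_option autoImplicit false
set_option linter.unusedSectionVars false

/-!
# S2346 PK-XC : the long root element of `Ω(W)` is a commutator in the stabiliser of `psiU u`
-/

namespace Cfsg.Agent.Lib.Helper2.OmMin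

open Matrix Cfsg Cfsg.Agent.Lib.Helper2.HypExt Cfsg.Agent.Lib.Helper2.Siegel
open Cfsg.Agent.Lib.Helper2.LongRoot Cfsg.Agent.Lib.Helper1.SUMin Cfsg.Agent.Lib.Helper4.SLMin
open scoped ComplexConjugate

universe u

namespace PkXC

section
variable {F : Type u} [Field F] {ι : Type} [Fintype ι] [DecidableEq ι]
variable {Q : QuadraticForm F (ι → F)}

/-- the action of an isometry on vectors as an additive equivalence -/
noncomputable def actEquiv (g : ↥(Cfsg.isometryGroup F ⇑Q)) : (ι → F) ≃+ (ι → F) where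
  toFun w := ((g : Matrix.GeneralLinearGroup ι F) : Matrix ι ι F) *ᵥ w
  invFun w := (((g⁻¹ : ↥(Cfsg.isometryGroup F ⇑Q)) : Matrix.GeneralLinearGroup ι F) : Matrix ι ι F) *ᵥ w
  left_inv w := by
    show (((g⁻¹ : ↥(Cfsg.isometryGroup F ⇑Q)) : Matrix.GeneralLinearGroup ι F) : Matrix ι ι F) *ᵥ
      (((g : Matrix.GeneralLinearGroup ι F) : Matrix ι ι F) *ᵥ w) = w
    rw [← CDG.mul_mulVec, inv_mul_cancel, CDG.one_mulVec']
  right_inv w := by
    show ((g : Matrix.GeneralLinearGroup ι F) : Matrix ι ι F) *ᵥ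
      ((((g⁻¹ : ↥(Cfsg.isometryGroup F ⇑Q)) : Matrix.GeneralLinearGroup ι F) : Matrix ι ι F) *ᵥ w) = w
    rw [← CDG.mul_mulVec, mul_inv_cancel, CDG.one_mulVec']
  map_add' a b := Matrix.mulVec_add _ a b

theorem actEquiv_apply (g : ↥(Cfsg.isometryGroup F ⇑Q)) (w : ι → F) :
    actEquiv g w = ((g : Matrix.GeneralLinearGroup ι F) : Matrix ι ι F) *ᵥ w := rfl

end

section
variable {F : Type u} [Field F] [Fintype F] {κ : Type} [Fintype κ] [DecidableEq κ]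
variable {W : QuadraticForm F (κ → F)} (hW : (QuadraticMap.polarBilin W).Nondegenerate)

/-- an element of `Ω(HQ W)` which is the embedding of `g ∈ O(W)` with `g u = u` lies in the stabiliser
of `psiU u` -/
theorem mem_invStab_of_fix (h3 : 3 ≤ Fintype.card κ) (ψ0 : AddChar F ℂ) (u : κ → F)
    (g : ↥(Cfsg.isometryGroup F ⇑W)) (n : ↥(Cfsg.Omega F ⇑(HQ W)))
    (hn : (n : ↥(Cfsg.isometryGroup F ⇑(HQ W))) = jO W g)
    (hgu : ((g : Matrix.GeneralLinearGroup κ F) : Matrix κ κ F) *ᵥ u = u) :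
    n ∈ invStab (qeΩ hW) (psiU ψ0 W u) := by
  rw [mem_invStab]
  refine ⟨actEquiv g, fun a => ?_, fun a => ?_⟩
  · rw [actEquiv_apply]
    exact conj_qeΩ hW h3 g n hn a
  · rw [actEquiv_apply, psiU_apply, psiU_apply]
    conv_lhs => rw [← hgu]
    rw [CDG.iso_polar]

end

end PkXC

open PkXC

section PKXC
variable {F : Type u} [Field F] [Fintype F] {κ : Type} [Fintype κ] [DecidableEq κ]
variable {W₄ : QuadraticForm F (κ → F)} (hW₄ : (QuadraticMap.polarBilin W₄).Nondegenerate)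

theorem exists_comm_lr (ψ0 : AddChar F ℂ) (u : Fin 2 ⊕ (Fin 2 ⊕ κ) → F)
    (hu1 : u (Sum.inl 1) = 0) (hu2 : tl u (Sum.inl 1) = 0) (y y' : κ → F)
    (hy : QuadraticMap.polar (⇑W₄) y (tl (tl u)) = 0)
    (hy' : QuadraticMap.polar (⇑W₄) y' (tl (tl u)) = 0)
    (hyy' : QuadraticMap.polar (⇑W₄) y y' = 1) :
    ∃ a b : ↥(Cfsg.Omega F ⇑(HQ (HQ (HQ W₄)))),
      a ∈ invStab (qeΩ (HQ_nondeg _ (HQ_nondeg W₄ hW₄))) (psiU ψ0 (HQ (HQ W₄)) u) ∧
      b ∈ invStab (qeΩ (HQ_nondeg _ (HQ_nondeg W₄ hW₄))) (psiU ψ0 (HQ (HQ W₄)) u) ∧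
      a * b * a⁻¹ * b⁻¹ = jΩ (HQ (HQ W₄)) (lrΩ hW₄) := by
  -- `κ` is nonempty
  have hκ : 1 ≤ Fintype.card κ := by
    rw [Nat.one_le_iff_ne_zero, Ne, Fintype.card_eq_zero_iff]
    intro hemp
    have : y = y' := Subsingleton.elim _ _
    rw [this, Cfsg.Agent.Lib.Helper2.ReflGen.polar_self] at hyy'
    have h0 : y' = 0 := Subsingleton.elim _ _
    rw [h0, map_zero, mul_zero] at hyy'
    exact zero_ne_one hyy'
  have hW₂ := HQ_nondeg W₄ hW₄
  have hW := HQ_nondeg _ hW₂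
  have h5 : 5 ≤ Fintype.card (Fin 2 ⊕ (Fin 2 ⊕ κ)) := by
    rw [Fintype.card_sum, Fintype.card_sum, Fintype.card_fin]; omega
  have h3 : 3 ≤ Fintype.card (Fin 2 ⊕ (Fin 2 ⊕ κ)) := by omega
  have h3' : 3 ≤ Fintype.card (Fin 2 ⊕ κ) := by
    rw [Fintype.card_sum, Fintype.card_fin]; omega
  -- the vectors
  set hh : Fin 2 ⊕ (Fin 2 ⊕ κ) → F := mk3 1 0 0 with hhdef
  set h₂ : Fin 2 ⊕ (Fin 2 ⊕ κ) → F := mk3 0 0 (mk3 1 0 0) with h₂def
  set yy : Fin 2 ⊕ (Fin 2 ⊕ κ) → F := mk3 0 0 (mk3 0 0 y) with yydef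
  set yy' : Fin 2 ⊕ (Fin 2 ⊕ κ) → F := mk3 0 0 (mk3 0 0 y') with yy'def
  have Qhh : HQ (HQ W₄) hh = 0 := PkH.HQ_e_sing
  have Qh₂ : HQ (HQ W₄) h₂ = 0 := by rw [h₂def, PkH.HQ_w]; exact PkH.HQ_e_sing
  have p_hh_h₂ : QuadraticMap.polar (⇑(HQ (HQ W₄))) hh h₂ = 0 := PkH.polar_e_w _
  have p_hh_yy : QuadraticMap.polar (⇑(HQ (HQ W₄))) hh yy = 0 := PkH.polar_e_w _
  have p_hh_yy' : QuadraticMap.polar (⇑(HQ (HQ W₄))) hh yy' = 0 := PkH.polar_e_w _
  have p_h₂_yy : QuadraticMap.polar (⇑(HQ (HQ W₄))) h₂ yy = 0 := by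
    rw [h₂def, yydef, PkH.polar_w_x, tl_mk3]; exact PkH.polar_e_w _
  have p_h₂_yy' : QuadraticMap.polar (⇑(HQ (HQ W₄))) h₂ yy' = 0 := by
    rw [h₂def, yy'def, PkH.polar_w_x, tl_mk3]; exact PkH.polar_e_w _
  have p_yy_yy' : QuadraticMap.polar (⇑(HQ (HQ W₄))) yy yy' = 1 := by
    rw [yydef, yy'def, PkH.polar_w_x, tl_mk3, PkH.polar_w_x, tl_mk3]; exact hyy'
  have p_hh_u : QuadraticMap.polar (⇑(HQ (HQ W₄))) hh u = 0 := by
    rw [hhdef, PkH.polar_e_x]; exact hu1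
  have p_h₂_u : QuadraticMap.polar (⇑(HQ (HQ W₄))) h₂ u = 0 := by
    rw [h₂def, PkH.polar_w_x, PkH.polar_e_x]; exact hu2
  have p_yy_u : QuadraticMap.polar (⇑(HQ (HQ W₄))) yy u = 0 := by
    rw [yydef, PkH.polar_w_x, PkH.polar_w_x]; exact hy
  have p_yy'_u : QuadraticMap.polar (⇑(HQ (HQ W₄))) yy' u = 0 := by
    rw [yy'def, PkH.polar_w_x, PkH.polar_w_x]; exact hy'
  -- the two Eichler elements of `Ω(W)`
  set gA : ↥(Cfsg.Omega F ⇑(HQ (HQ W₄))) := ⟨eich hW hh yy, eich_mem_Omega hW h5 _ _⟩ with gAdef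
  set gB : ↥(Cfsg.Omega F ⇑(HQ (HQ W₄))) := ⟨eich hW h₂ yy', eich_mem_Omega hW h5 _ _⟩ with gBdef
  refine ⟨jΩ _ gA, jΩ _ gB, ?_, ?_, ?_⟩
  · exact mem_invStab_of_fix hW h3 ψ0 u (eich hW hh yy) (jΩ _ gA) (jΩ_coe _ gA)
      (eich_fix hW p_hh_u p_yy_u)
  · exact mem_invStab_of_fix hW h3 ψ0 u (eich hW h₂ yy') (jΩ _ gB) (jΩ_coe _ gB)
      (eich_fix hW p_h₂_u p_yy'_u)
  · rw [← map_inv, ← map_inv, ← map_mul, ← map_mul, ← map_mul]
    congr 1
    apply Subtype.ext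
    rw [Subgroup.coe_mul, Subgroup.coe_mul, Subgroup.coe_mul, Subgroup.coe_inv, Subgroup.coe_inv]
    show eich hW hh yy * eich hW h₂ yy' * (eich hW hh yy)⁻¹ * (eich hW h₂ yy')⁻¹ = _
    have hc := eich_comm hW Qhh Qh₂ p_hh_h₂ p_hh_yy p_hh_yy' p_h₂_yy p_h₂_yy'
    rw [hc, p_yy_yy']
    unfold lrΩ
    rw [qeΩ_coe hW₂ h3']
    unfold qe
    rw [eich_eq_LR hW Qhh Qh₂ p_hh_h₂]

include hW₄ in
/-- any nondegenerate space of dimension `≥ 1` has such a pair for `u₄ = 0`; here `2 ≤ dim` -/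
theorem exists_pair (h2 : 1 ≤ Fintype.card κ) :
    ∃ y y' : κ → F, QuadraticMap.polar (⇑W₄) y y' = 1 := by
  obtain ⟨k⟩ : Nonempty κ := Fintype.card_pos_iff.1 h2
  have hne : (Pi.single k 1 : κ → F) ≠ 0 := by
    intro h
    have := congrFun h k
    simp at this
  obtain ⟨z, hz⟩ : ∃ z, QuadraticMap.polar (⇑W₄) (Pi.single k 1) z ≠ 0 := by
    by_contra hcon
    push Not at hcon
    exact hne (hW₄.1 _ hcon)
  refine ⟨Pi.single k 1, (QuadraticMap.polar (⇑W₄) (Pi.single k 1) z)⁻¹ • z, ?_⟩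
  rw [QuadraticMap.polar_smul_right, smul_eq_mul, inv_mul_cancel₀ hz]

include hW₄ in
/-- in dimension `≥ 3` the orthogonal complement of a vector is not totally isotropic -/
theorem exists_perp_pair (h3 : 3 ≤ Fintype.card κ) (u₄ : κ → F) :
    ∃ y y' : κ → F, QuadraticMap.polar (⇑W₄) y u₄ = 0 ∧ QuadraticMap.polar (⇑W₄) y' u₄ = 0 ∧
      QuadraticMap.polar (⇑W₄) y y' = 1 := by
  by_cases hu0 : u₄ = 0
  · obtain ⟨y, y', h⟩ := exists_pair hW₄ (by omega)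
    exact ⟨y, y', by rw [hu0, QuadraticMap.polar_zero_right],
      by rw [hu0, QuadraticMap.polar_zero_right], h⟩
  -- enough: a pair in `u₄^⊥` with nonzero product
  suffices hex : ∃ y y' : κ → F, QuadraticMap.polar (⇑W₄) y u₄ = 0 ∧
      QuadraticMap.polar (⇑W₄) y' u₄ = 0 ∧ QuadraticMap.polar (⇑W₄) y y' ≠ 0 by
    obtain ⟨y, y', h1, h2, h3'⟩ := hex
    refine ⟨y, (QuadraticMap.polar (⇑W₄) y y')⁻¹ • y', h1, ?_, ?_⟩
    · rw [QuadraticMap.polar_smul_left, h2, smul_zero]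
    · rw [QuadraticMap.polar_smul_right, smul_eq_mul, inv_mul_cancel₀ h3']
  by_contra hcon
  push Not at hcon
  -- `z` with `f(u₄, z) = 1`
  obtain ⟨z0, hz0⟩ : ∃ z, QuadraticMap.polar (⇑W₄) u₄ z ≠ 0 := by
    by_contra hc
    push Not at hc
    exact hu0 (hW₄.1 _ hc)
  set z := (QuadraticMap.polar (⇑W₄) u₄ z0)⁻¹ • z0 with hzdef
  have hz : QuadraticMap.polar (⇑W₄) u₄ z = 1 := by
    rw [hzdef, QuadraticMap.polar_smul_right, smul_eq_mul, inv_mul_cancel₀ hz0]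
  -- the projection to `u₄^⊥`
  have hproj : ∀ v : κ → F, QuadraticMap.polar (⇑W₄) (v - QuadraticMap.polar (⇑W₄) u₄ v • z) u₄ = 0 := by
    intro v
    rw [QuadraticMap.polar_sub_left, QuadraticMap.polar_smul_left, QuadraticMap.polar_comm (⇑W₄) z u₄,
      hz, smul_eq_mul, mul_one, QuadraticMap.polar_comm (⇑W₄) v u₄, sub_self]
  -- every `y ⟂ u₄` is a multiple of `u₄`
  have hmul : ∀ y : κ → F, QuadraticMap.polar (⇑W₄) y u₄ = 0 →
      y = QuadraticMap.polar (⇑W₄) y z • u₄ := by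
    intro y hy
    have h0 : y - QuadraticMap.polar (⇑W₄) y z • u₄ = 0 := by
      apply hW₄.1
      intro v
      show QuadraticMap.polar (⇑W₄) (y - QuadraticMap.polar (⇑W₄) y z • u₄) v = 0
      have h1 := hcon y (v - QuadraticMap.polar (⇑W₄) u₄ v • z) hy (hproj v)
      rw [QuadraticMap.polar_sub_right, QuadraticMap.polar_smul_right, smul_eq_mul] at h1
      rw [QuadraticMap.polar_sub_left, QuadraticMap.polar_smul_left, smul_eq_mul]
      linear_combination h1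
    exact sub_eq_zero.1 h0
  -- so every vector lies in the span of `u₄, z`
  have hmem : ∀ v : κ → F, v ∈ Submodule.span F ({u₄, z} : Set (κ → F)) := by
    intro v
    have h1 := hmul _ (hproj v)
    have h2 : v = QuadraticMap.polar (⇑W₄) (v - QuadraticMap.polar (⇑W₄) u₄ v • z) z • u₄ +
        QuadraticMap.polar (⇑W₄) u₄ v • z := by
      rw [← h1]; abel
    rw [h2]
    exact Submodule.add_mem _ (Submodule.smul_mem _ _ (Submodule.subset_span (by simp)))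
      (Submodule.smul_mem _ _ (Submodule.subset_span (by simp)))
  have htop : (⊤ : Submodule F (κ → F)) ≤ Submodule.span F ({u₄, z} : Set (κ → F)) :=
    fun v _ => hmem v
  have hfin := Submodule.finrank_mono htop
  rw [finrank_top, Module.finrank_fintype_fun_eq_card] at hfin
  have h2 : Module.finrank F (Submodule.span F ({u₄, z} : Set (κ → F))) ≤ 2 := by
    classical
    have e : ({u₄, z} : Set (κ → F)) = (({u₄, z} : Finset (κ → F)) : Set (κ → F)) := by simp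
    rw [e]
    exact (finrank_span_finset_le_card _).trans Finset.card_le_two
  omega

end PKXC

end Cfsg.Agent.Lib.Helper2.OmMin
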