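import Mathlib
import Cfsg.Prelude.Def_Characters
import Cfsg.Agent.Lib.Helper2.OmMin.Defs
import Cfsg.Agent.Lib.Helper6.OmMin_E
import Cfsg.Agent.Lib.Helper6.OmMin_M
import Cfsg.Agent.Lib.Helper6.OmMin_H
import Cfsg.Agent.Lib.Helper6.OmMin_SW

set_option autoImplicit false
set_option linter.unusedSectionVars false

/-!
# S2346 PK-GEN : the two Siegel radicals generate `Ω(HQ W)`
-/

namespace Cfsg.Agent.Lib.Helper2.OmMin

open Matrix Cfsg Cfsg.Agent.Lib.Helper2.HypExt Cfsg.Agent.Lib.Helper2.Siegel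
open Cfsg.Agent.Lib.Helper2.LongRoot Cfsg.Agent.Lib.Helper1.SUMin Cfsg.Agent.Lib.Helper4.SLMin
open scoped ComplexConjugate

universe u

namespace PkGEN

variable {F : Type u} [Field F] {κ : Type} [Fintype κ] [DecidableEq κ]
variable {W : QuadraticForm F (κ → F)} (hW : (QuadraticMap.polarBilin W).Nondegenerate)

/-- the subgroup of `O(HQ W)` generated by the two Siegel radicals -/
noncomputable def KK : Subgroup ↥(Cfsg.isometryGroup F ⇑(HQ W)) :=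
  Subgroup.closure (Set.range (qe hW) ∪ Set.range (qf hW))

theorem qe_mem_KK (w : κ → F) : qe hW w ∈ KK hW :=
  Subgroup.subset_closure (Or.inl ⟨w, rfl⟩)

theorem qf_mem_KK (w : κ → F) : qf hW w ∈ KK hW :=
  Subgroup.subset_closure (Or.inr ⟨w, rfl⟩)

/-- `E_{e,y} ∈ KK` for all `y` -/
theorem eich_e_mem (y : Fin 2 ⊕ κ → F) :
    eich (HQ_nondeg W hW) (mk3 1 0 0) y ∈ KK hW := by
  by_cases h : QuadraticMap.polar (⇑(HQ W)) (mk3 1 0 0) y = 0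
  · rw [PkH.polar_e_x] at h
    have e : y = mk3 0 0 (tl y) + y (Sum.inl 0) • mk3 1 0 0 := by
      apply ext3
      · simp
      · simp [h]
      · rw [tl_add, tl_smul, tl_mk3, tl_mk3]; simp
    rw [e, eich_add_smul (HQ_nondeg W hW) _ PkH.HQ_e_sing]
    exact qe_mem_KK hW _
  · rw [eich_of_not (HQ_nondeg W hW) _ _ (fun h' => h h'.2)]
    exact Subgroup.one_mem _

/-- `E_{f,y} ∈ KK` for all `y` -/
theorem eich_f_mem (y : Fin 2 ⊕ κ → F) :
    eich (HQ_nondeg W hW) (mk3 0 1 0) y ∈ KK hW := by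
  by_cases h : QuadraticMap.polar (⇑(HQ W)) (mk3 0 1 0) y = 0
  · rw [PkH.polar_f_x] at h
    have e : y = mk3 0 0 (tl y) + y (Sum.inl 1) • mk3 0 1 0 := by
      apply ext3
      · simp [h]
      · simp
      · rw [tl_add, tl_smul, tl_mk3, tl_mk3]; simp
    rw [e, eich_add_smul (HQ_nondeg W hW) _ PkH.HQ_f_sing]
    exact qf_mem_KK hW _
  · rw [eich_of_not (HQ_nondeg W hW) _ _ (fun h' => h h'.2)]
    exact Subgroup.one_mem _

/-- if `g e = a • u` (or `g f = a • u`) with `g ∈ KK`, `a ≠ 0`, then all `E_{u,y}` lie in `KK` -/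
theorem eich_mem_of_orbit_e (g : ↥(Cfsg.isometryGroup F ⇑(HQ W))) (hg : g ∈ KK hW) (a : F)
    (ha : a ≠ 0) (u : Fin 2 ⊕ κ → F)
    (h : ((g : Matrix.GeneralLinearGroup (Fin 2 ⊕ κ) F) : Matrix (Fin 2 ⊕ κ) (Fin 2 ⊕ κ) F) *ᵥ mk3 1 0 0 = a • u)
    (y : Fin 2 ⊕ κ → F) : eich (HQ_nondeg W hW) u y ∈ KK hW := by
  have hu : u = a⁻¹ • (((g : Matrix.GeneralLinearGroup (Fin 2 ⊕ κ) F) : Matrix (Fin 2 ⊕ κ) (Fin 2 ⊕ κ) F) *ᵥ mk3 1 0 0) := by
    rw [h, smul_smul, inv_mul_cancel₀ ha, one_smul]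
  have hy : a⁻¹ • y = ((g : Matrix.GeneralLinearGroup (Fin 2 ⊕ κ) F) : Matrix (Fin 2 ⊕ κ) (Fin 2 ⊕ κ) F) *ᵥ
      (((g⁻¹ : ↥(Cfsg.isometryGroup F ⇑(HQ W))) : Matrix.GeneralLinearGroup (Fin 2 ⊕ κ) F).1 *ᵥ
        (a⁻¹ • y)) := by
    rw [← CDG.mul_mulVec, mul_inv_cancel, CDG.one_mulVec']
  rw [hu, eich_smul_left (HQ_nondeg W hW) _ (inv_ne_zero ha), hy, ← eich_conj]
  exact (KK hW).mul_mem ((KK hW).mul_mem hg (eich_e_mem hW _)) ((KK hW).inv_mem hg)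

theorem eich_mem_of_orbit_f (g : ↥(Cfsg.isometryGroup F ⇑(HQ W))) (hg : g ∈ KK hW) (a : F)
    (ha : a ≠ 0) (u : Fin 2 ⊕ κ → F)
    (h : ((g : Matrix.GeneralLinearGroup (Fin 2 ⊕ κ) F) : Matrix (Fin 2 ⊕ κ) (Fin 2 ⊕ κ) F) *ᵥ mk3 0 1 0 = a • u)
    (y : Fin 2 ⊕ κ → F) : eich (HQ_nondeg W hW) u y ∈ KK hW := by
  have hu : u = a⁻¹ • (((g : Matrix.GeneralLinearGroup (Fin 2 ⊕ κ) F) : Matrix (Fin 2 ⊕ κ) (Fin 2 ⊕ κ) F) *ᵥ mk3 0 1 0) := by
    rw [h, smul_smul, inv_mul_cancel₀ ha, one_smul]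
  have hy : a⁻¹ • y = ((g : Matrix.GeneralLinearGroup (Fin 2 ⊕ κ) F) : Matrix (Fin 2 ⊕ κ) (Fin 2 ⊕ κ) F) *ᵥ
      (((g⁻¹ : ↥(Cfsg.isometryGroup F ⇑(HQ W))) : Matrix.GeneralLinearGroup (Fin 2 ⊕ κ) F).1 *ᵥ
        (a⁻¹ • y)) := by
    rw [← CDG.mul_mulVec, mul_inv_cancel, CDG.one_mulVec']
  rw [hu, eich_smul_left (HQ_nondeg W hW) _ (inv_ne_zero ha), hy, ← eich_conj]
  exact (KK hW).mul_mem ((KK hW).mul_mem hg (eich_f_mem hW _)) ((KK hW).inv_mem hg)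

/-- all Eichler elements at singular vectors with nonzero first coordinate -/
theorem eich_mem_of_fst (u : Fin 2 ⊕ κ → F) (hu : HQ W u = 0) (h0 : u (Sum.inl 0) ≠ 0)
    (y : Fin 2 ⊕ κ → F) : eich (HQ_nondeg W hW) u y ∈ KK hW := by
  set a := u (Sum.inl 0) with ha
  apply eich_mem_of_orbit_e hW (qf hW (a⁻¹ • tl u)) (qf_mem_KK hW _) a⁻¹ (inv_ne_zero h0) u _ y
  rw [PkSW.qf_mk3]
  rw [HQ_apply] at hu
  apply ext3
  · simp only [mk3_zero, Pi.smul_apply, smul_eq_mul]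
    rw [← ha, inv_mul_cancel₀ h0]
  · simp only [mk3_one, Pi.smul_apply, smul_eq_mul, QuadraticMap.polar_zero_right,
      QuadraticMap.map_smul]
    rw [← ha] at hu
    field_simp
    linear_combination -hu
  · rw [tl_mk3, tl_smul]
    simp

/-- all Eichler elements at singular vectors with nonzero second coordinate -/
theorem eich_mem_of_snd (u : Fin 2 ⊕ κ → F) (hu : HQ W u = 0) (h1 : u (Sum.inl 1) ≠ 0)
    (y : Fin 2 ⊕ κ → F) : eich (HQ_nondeg W hW) u y ∈ KK hW := by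
  set b := u (Sum.inl 1) with hb
  apply eich_mem_of_orbit_f hW (qe hW (b⁻¹ • tl u)) (qe_mem_KK hW _) b⁻¹ (inv_ne_zero h1) u _ y
  rw [PkSW.qe_mk3]
  rw [HQ_apply] at hu
  apply ext3
  · simp only [mk3_zero, Pi.smul_apply, smul_eq_mul, QuadraticMap.polar_zero_right,
      QuadraticMap.map_smul]
    rw [← hb] at hu
    field_simp
    linear_combination -hu
  · simp only [mk3_one, Pi.smul_apply, smul_eq_mul]
    rw [← hb, inv_mul_cancel₀ h1]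
  · rw [tl_mk3, tl_smul]
    simp

/-- all Eichler elements lie in `KK` -/
theorem eich_mem_KK (u y : Fin 2 ⊕ κ → F) : eich (HQ_nondeg W hW) u y ∈ KK hW := by
  by_cases hc : HQ W u = 0 ∧ QuadraticMap.polar (⇑(HQ W)) u y = 0
  swap
  · rw [eich_of_not _ _ _ hc]; exact Subgroup.one_mem _
  obtain ⟨hu, huy⟩ := hc
  by_cases h0 : u (Sum.inl 0) ≠ 0
  · exact eich_mem_of_fst hW u hu h0 y
  by_cases h1 : u (Sum.inl 1) ≠ 0
  · exact eich_mem_of_snd hW u hu h1 y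
  push Not at h0 h1
  by_cases ht : tl u = 0
  · have : u = 0 := by
      apply ext3
      · exact h0
      · exact h1
      · exact ht
    have e : eich (HQ_nondeg W hW) u y = 1 := by
      apply CDG.iso_ext
      intro x
      rw [eich_mulVec _ hu huy, CDG.one_mulVec', this, QuadraticMap.polar_zero_left]
      simp
    rw [e]; exact Subgroup.one_mem _
  -- `u = (0, 0, t)`, `t ≠ 0`: move it by `qe w` with `f(w,t) ≠ 0`
  obtain ⟨w, hw⟩ : ∃ w, QuadraticMap.polar (⇑W) (tl u) w ≠ 0 := by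
    by_contra hcon
    push Not at hcon
    exact ht (hW.1 _ hcon)
  set g := qe hW w with hg
  set u' := ((g : Matrix.GeneralLinearGroup (Fin 2 ⊕ κ) F) : Matrix (Fin 2 ⊕ κ) (Fin 2 ⊕ κ) F) *ᵥ u with hu'
  have hu'0 : u' (Sum.inl 0) ≠ 0 := by
    rw [hu', hg, qe_mulVec, mk3_zero, h0, h1, mul_zero, sub_zero, zero_sub, neg_ne_zero,
      QuadraticMap.polar_comm]
    exact hw
  have hQu' : HQ W u' = 0 := by rw [hu', CDG.iso_Q]; exact hu
  have hmem := eich_mem_of_fst hW u' hQu' hu'0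
    (((g : Matrix.GeneralLinearGroup (Fin 2 ⊕ κ) F) : Matrix (Fin 2 ⊕ κ) (Fin 2 ⊕ κ) F) *ᵥ y)
  rw [hu', ← eich_conj] at hmem
  have hgK : g ∈ KK hW := qe_mem_KK hW w
  have := (KK hW).mul_mem ((KK hW).mul_mem ((KK hW).inv_mem hgK) hmem) hgK
  rw [← mul_assoc, ← mul_assoc, inv_mul_cancel, one_mul, mul_assoc, inv_mul_cancel, mul_one] at this
  exact this

end PkGEN

open PkGEN

/-- PK-GEN : the two Siegel radicals generate `Ω(HQ W)` -/
theorem closure_qe_qf {F : Type u} [Field F] [Fintype F] {κ : Type} [Fintype κ] [DecidableEq κ]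
    {W : QuadraticForm F (κ → F)} (hW : (QuadraticMap.polarBilin W).Nondegenerate)
    (h5 : 5 ≤ Fintype.card κ) :
    Subgroup.closure (Set.range (qeΩ hW) ∪ Set.range (qfΩ hW)) = ⊤ := by
  have h3 : 3 ≤ Fintype.card κ := by omega
  have h7 : 7 ≤ Fintype.card (Fin 2 ⊕ κ) := by
    rw [Fintype.card_sum, Fintype.card_fin]; omega
  set K := Subgroup.closure (Set.range (qeΩ hW) ∪ Set.range (qfΩ hW)) with hK
  -- `KK ≤ K.map subtype`
  have h1 : KK hW ≤ K.map (Cfsg.Omega F ⇑(HQ W)).subtype := by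
    unfold KK
    rw [Subgroup.closure_le]
    rintro g (⟨w, rfl⟩ | ⟨w, rfl⟩)
    · exact ⟨qeΩ hW w, Subgroup.subset_closure (Or.inl ⟨w, rfl⟩), qeΩ_coe hW h3 w⟩
    · exact ⟨qfΩ hW w, Subgroup.subset_closure (Or.inr ⟨w, rfl⟩), qfΩ_coe hW h3 w⟩
  -- `T ≤ KK`
  have h2 : T (HQ W) ≤ KK hW := by
    unfold T
    rw [Subgroup.closure_le]
    rintro g ⟨u, v, c, hu, hv, huv, hg⟩
    rw [eq_LR_of_coe (HQ_nondeg W hW) g u v hu hv huv c hg, LR_eq_eich]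
    exact eich_mem_KK hW _ _
  rw [eq_top_iff]
  intro x _
  have hx : (x : ↥(Cfsg.isometryGroup F ⇑(HQ W))) ∈ T (HQ W) := by
    rw [T_eq_Omega (HQ_nondeg W hW) h7]; exact x.2
  obtain ⟨y, hy, hyx⟩ := h1 (h2 hx)
  have : y = x := Subtype.ext hyx
  rw [← this]; exact hy

end Cfsg.Agent.Lib.Helper2.OmMin
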