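import Mathlib
import Cfsg.Prelude.Def_Characters
import Cfsg.Agent.Lib.Helper4.SLMin.Defs

set_option autoImplicit false
set_option linter.unusedSectionVars false

namespace Cfsg.Agent.Lib.Helper4.SLMin

open Matrix Cfsg Cfsg.Agent.H9SLRoot Cfsg.Agent.Lib.Helper1.SUMin
open scoped ComplexConjugate

universe u

variable {F : Type u} [Field F]

namespace PkB

variable {m : ℕ}

theorem ext0_zero (w : Fin m → F) : ext0 w 0 = 0 := rfl

theorem ext0_succ (w : Fin m → F) (j : Fin m) : ext0 w j.succ = w j := rfl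

theorem ext0_add (w w' : Fin m → F) : ext0 (w + w') = ext0 w + ext0 w' := by
  funext j
  refine Fin.cases ?_ (fun j' => ?_) j
  · simp [ext0_zero]
  · simp [ext0_succ]

theorem ext0_smul (s : F) (w : Fin m → F) : ext0 (s • w) = s • ext0 w := by
  funext j
  refine Fin.cases ?_ (fun j' => ?_) j
  · simp [ext0_zero]
  · simp [ext0_succ]

theorem ext0_injective : Function.Injective (ext0 : (Fin m → F) → Fin (m + 1) → F) := by
  intro w w' h
  funext j
  have := congrFun h j.succ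
  rwa [ext0_succ, ext0_succ] at this

theorem ext0_dot_e0 (w : Fin m → F) : ext0 w ⬝ᵥ (e 0 : Fin (m + 1) → F) = 0 := by
  unfold e
  rw [dotProduct_single, ext0_zero, mul_one]

theorem e0_dot_ext0 (w : Fin m → F) : (e 0 : Fin (m + 1) → F) ⬝ᵥ ext0 w = 0 := by
  rw [dotProduct_comm, ext0_dot_e0]

theorem embMat_mulVec (h : Matrix (Fin m) (Fin m) F) (v : Fin (m + 1) → F) :
    embMat h *ᵥ v = Fin.cons (v 0) (h *ᵥ Fin.tail v) := by
  funext i
  rw [Matrix.mulVec, dotProduct, Fin.sum_univ_succ]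
  refine Fin.cases ?_ (fun i' => ?_) i
  · simp [embMat_zero_zero, embMat_zero_succ]
  · simp [embMat_succ_zero, embMat_succ_succ, Matrix.mulVec, dotProduct, Fin.tail]

theorem ext0_vecMul_embMat (h : Matrix (Fin m) (Fin m) F) (w : Fin m → F) :
    ext0 w ᵥ* embMat h = ext0 (w ᵥ* h) := by
  funext j
  rw [Matrix.vecMul, dotProduct, Fin.sum_univ_succ]
  refine Fin.cases ?_ (fun j' => ?_) j
  · simp [ext0_zero, ext0_succ, embMat_succ_zero]
  · simp [ext0_zero, ext0_succ, embMat_succ_succ, Matrix.vecMul, dotProduct]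

theorem embMat_mulVec_e0 (h : Matrix (Fin m) (Fin m) F) :
    embMat h *ᵥ (e 0 : Fin (m + 1) → F) = e 0 := by
  rw [embMat_mulVec]
  funext i
  refine Fin.cases ?_ (fun i' => ?_) i
  · simp [e]
  · simp only [Fin.cons_succ]
    have : Fin.tail (e 0 : Fin (m + 1) → F) = 0 := by
      funext j
      simp [Fin.tail, e, Fin.succ_ne_zero]
    rw [this, Matrix.mulVec_zero]
    simp [e, Fin.succ_ne_zero]

end PkB

namespace PkB

variable {ι : Type*} [Fintype ι] [DecidableEq ι]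

/-- a nonzero vector in the kernel of `φ` not proportional to `y` (dimension at least three) -/
theorem exists_ker_indep (hcard : 3 ≤ Fintype.card ι) {y φ : ι → F} (hy : y ≠ 0) :
    ∃ z : ι → F, φ ⬝ᵥ z = 0 ∧ z ∉ Submodule.span F {y} ∧ y ∉ Submodule.span F {z} := by
  obtain ⟨ρ, hρ⟩ : ∃ ρ : ι → F, ρ ⬝ᵥ y ≠ 0 := exists_dot_ne_zero hy |>.imp fun v hv => by
    rwa [dotProduct_comm]
  obtain ⟨z, hz0, hz1, hz2⟩ := exists_perp_two hcard φ ρ
  rw [dotProduct_comm] at hz1 hz2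
  have hzy : z ∉ Submodule.span F {y} := by
    intro hmem
    obtain ⟨mu, rfl⟩ := Submodule.mem_span_singleton.mp hmem
    rw [dotProduct_smul, smul_eq_mul] at hz2
    rcases mul_eq_zero.mp hz2 with h | h
    · exact hz0 (by rw [h, zero_smul])
    · exact hρ h
  refine ⟨z, hz1, hzy, ?_⟩
  rcases span_dichotomy hz0 hy with ⟨lam, _, rfl⟩ | ⟨_, h2⟩
  · exact absurd (Submodule.mem_span_singleton.mpr ⟨lam, rfl⟩) hzy
  · exact h2

/-- moving the centre inside the kernel of the axis, exactly -/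
theorem move_center' (hcard : 3 ≤ Fintype.card ι) {x y φ : ι → F} (hx : φ ⬝ᵥ x = 0)
    (hy : φ ⬝ᵥ y = 0) (hx0 : x ≠ 0) (hy0 : y ≠ 0) :
    ∃ u : Matrix.SpecialLinearGroup ι F, (u : Matrix ι ι F) *ᵥ x = y ∧
      φ ᵥ* ((u⁻¹ : Matrix.SpecialLinearGroup ι F) : Matrix ι ι F) = φ := by
  rcases span_dichotomy hx0 hy0 with ⟨lam, hlam, rfl⟩ | ⟨h1, h2⟩
  · obtain ⟨z, hz, hzy, hyz⟩ := exists_ker_indep (φ := φ) hcard hy0
    have hz0 : z ≠ 0 := by
      rintro rfl
      exact hzy (Submodule.zero_mem _)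
    have h1 : lam • y ∉ Submodule.span F {z} := by
      intro hmem
      apply hyz
      have := Submodule.smul_mem _ lam⁻¹ hmem
      rwa [smul_smul, inv_mul_cancel₀ hlam, one_smul] at this
    have h2 : z ∉ Submodule.span F {lam • y} := by
      intro hmem
      apply hzy
      obtain ⟨mu, rfl⟩ := Submodule.mem_span_singleton.mp hmem
      rw [smul_smul]
      exact Submodule.mem_span_singleton.mpr ⟨_, rfl⟩
    obtain ⟨u1, a1, a2⟩ := move_center hx hz h1 h2
    obtain ⟨u2, b1, b2⟩ := move_center hz hy hzy hyz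
    refine ⟨u2 * u1, ?_, ?_⟩
    · rw [coe_mul_mulVec, a1, b1]
    · rw [_root_.mul_inv_rev, coe_mul_vecMul, a2, b2]
  · exact move_center hx hy h1 h2

/-- moving the axis among the covectors killing the centre, exactly -/
theorem move_axis' (hcard : 3 ≤ Fintype.card ι) {x φ ψ : ι → F} (hφ : φ ⬝ᵥ x = 0)
    (hψ : ψ ⬝ᵥ x = 0) (hφ0 : φ ≠ 0) (hψ0 : ψ ≠ 0) :
    ∃ u : Matrix.SpecialLinearGroup ι F, (u : Matrix ι ι F) *ᵥ x = x ∧
      φ ᵥ* ((u⁻¹ : Matrix.SpecialLinearGroup ι F) : Matrix ι ι F) = ψ := by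
  rcases span_dichotomy hφ0 hψ0 with ⟨lam, hlam, rfl⟩ | ⟨h1, h2⟩
  · obtain ⟨χ, hχ, hχψ, hψχ⟩ := exists_ker_indep (φ := x) hcard hψ0
    rw [dotProduct_comm] at hχ
    have hχ0 : χ ≠ 0 := by
      rintro rfl
      exact hχψ (Submodule.zero_mem _)
    have h1 : lam • ψ ∉ Submodule.span F {χ} := by
      intro hmem
      apply hψχ
      have := Submodule.smul_mem _ lam⁻¹ hmem
      rwa [smul_smul, inv_mul_cancel₀ hlam, one_smul] at this
    have h2 : χ ∉ Submodule.span F {lam • ψ} := by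
      intro hmem
      apply hχψ
      obtain ⟨mu, rfl⟩ := Submodule.mem_span_singleton.mp hmem
      rw [smul_smul]
      exact Submodule.mem_span_singleton.mpr ⟨_, rfl⟩
    obtain ⟨u1, a1, a2⟩ := move_axis hφ hχ h1 h2
    obtain ⟨u2, b1, b2⟩ := move_axis hχ hψ hχψ hψχ
    refine ⟨u2 * u1, ?_, ?_⟩
    · rw [coe_mul_mulVec, a1, b1]
    · rw [_root_.mul_inv_rev, coe_mul_vecMul, a2, b2]
  · exact move_axis hφ hψ h1 h2

/-- in dimension at least three, any two transvections with parameter `c` are conjugate -/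
theorem exists_conj_tv_gen (hcard : 3 ≤ Fintype.card ι) {x φ y ψ : ι → F} (hx : x ≠ 0)
    (hφ : φ ≠ 0) (h : φ ⬝ᵥ x = 0) (hy : y ≠ 0) (hψ : ψ ≠ 0) (h' : ψ ⬝ᵥ y = 0) (c : F) :
    ∃ g : Matrix.SpecialLinearGroup ι F, g * tv x φ c * g⁻¹ = tv y ψ c := by
  obtain ⟨χ, hχ0, hχ1, hχ2⟩ := exists_perp_two hcard x y
  obtain ⟨u1, a1, a2⟩ := move_axis' hcard h hχ1 hφ hχ0
  obtain ⟨u2, b1, b2⟩ := move_center' hcard hχ1 hχ2 hx hy
  obtain ⟨u3, c1, c2⟩ := move_axis' hcard hχ2 h' hχ0 hψ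
  refine ⟨u3 * u2 * u1, ?_⟩
  have e1 : u1 * tv x φ c * u1⁻¹ = tv x χ c := by rw [tv_conj, a1, a2]
  have e2 : u2 * tv x χ c * u2⁻¹ = tv y χ c := by rw [tv_conj, b1, b2]
  have e3 : u3 * tv y χ c * u3⁻¹ = tv y ψ c := by rw [tv_conj, c1, c2]
  calc u3 * u2 * u1 * tv x φ c * (u3 * u2 * u1)⁻¹
      = u3 * (u2 * (u1 * tv x φ c * u1⁻¹) * u2⁻¹) * u3⁻¹ := by group
    _ = tv y ψ c := by rw [e1, e2, e3]

end PkB

open PkB

variable [Fintype F] [DecidableEq F]

section PKB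
variable {m : ℕ}

theorem ext0_e (i : Fin m) : ext0 (e i : Fin m → F) = e i.succ := by
  funext j
  refine Fin.cases ?_ (fun j' => ?_) j
  · rw [ext0_zero]
    simp [e, Ne.symm (Fin.succ_ne_zero i)]
  · rw [ext0_succ]
    simp only [e, Pi.single_apply, Fin.succ_inj]

theorem ext0_dot (x y : Fin m → F) : ext0 x ⬝ᵥ ext0 y = x ⬝ᵥ y := by
  rw [dotProduct, Fin.sum_univ_succ]
  simp [ext0_zero, ext0_succ, dotProduct]

theorem qrow_add (w w' : Fin m → F) : qrow (w + w') = qrow w * qrow w' := by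
  unfold qrow
  apply sl_ext
  intro v
  rw [coe_mul_mulVec, tv_mulVec (ext0_dot_e0 _), tv_mulVec (ext0_dot_e0 _),
    tv_mulVec (ext0_dot_e0 _), ext0_add, add_dotProduct, dotProduct_add, dotProduct_smul,
    ext0_dot_e0, smul_zero, add_zero]
  module

theorem qrow_injective : Function.Injective (qrow : (Fin m → F) → SpecialLinearGroup (Fin (m + 1)) F) := by
  intro w w' h
  apply ext0_injective
  have h1 : (e 0 : Fin (m + 1) → F) ᵥ* ((qrow w : SpecialLinearGroup (Fin (m + 1)) F) :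
      Matrix (Fin (m + 1)) (Fin (m + 1)) F) = e 0 ᵥ* ((qrow w' : SpecialLinearGroup (Fin (m + 1)) F) :
      Matrix (Fin (m + 1)) (Fin (m + 1)) F) := by rw [h]
  unfold qrow at h1
  rw [tv_vecMul (ext0_dot_e0 _), tv_vecMul (ext0_dot_e0 _), e_dot_e_self, mul_one, one_smul,
    one_smul] at h1
  exact add_left_cancel h1

/-- `qrow (s e_j) = 1 + s e_0 e_(j+1)ᵀ` -/
theorem qrow_smul_e (s : F) (j : Fin m) :
    qrow (s • (e j : Fin m → F)) = tv (e 0) (e j.succ) s := by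
  unfold qrow
  rw [ext0_smul, ext0_e]
  have := tv_smul (1 : F) s (e 0 : Fin (m + 1) → F) (e j.succ) 1
  rw [one_smul] at this
  rw [this, one_mul, mul_one]

theorem emb_tv (x φ : Fin m → F) (c : F) : emb m (tv x φ c) = tv (ext0 x) (ext0 φ) c := by
  by_cases h : φ ⬝ᵥ x = 0
  · have h' : ext0 φ ⬝ᵥ ext0 x = 0 := by rw [ext0_dot, h]
    apply sl_ext
    intro v
    rw [emb_coe, embMat_mulVec, tv_mulVec h, tv_mulVec h']
    funext i
    refine Fin.cases ?_ (fun i' => ?_) i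
    · simp [ext0_zero]
    · have hd : ext0 φ ⬝ᵥ v = φ ⬝ᵥ Fin.tail v := by
        rw [dotProduct, Fin.sum_univ_succ]
        simp [ext0_zero, ext0_succ, dotProduct, Fin.tail]
      simp only [Fin.cons_succ, Pi.add_apply, Pi.smul_apply, ext0_succ, hd, Fin.tail]
  · have h' : ¬ ext0 φ ⬝ᵥ ext0 x = 0 := by rw [ext0_dot]; exact h
    rw [tv_of_not h, tv_of_not h', map_one]

theorem emb_conj_qrow (h : SpecialLinearGroup (Fin m) F) (w : Fin m → F) :
    emb m h * qrow w * (emb m h)⁻¹ =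
      qrow (w ᵥ* ((h⁻¹ : SpecialLinearGroup (Fin m) F) : Matrix (Fin m) (Fin m) F)) := by
  unfold qrow
  rw [tv_conj, emb_coe, embMat_mulVec_e0, ← map_inv, emb_coe, ext0_vecMul_embMat]

/-- elements of `emb SL_m` fixing `u` lie in the stabiliser of `lamU ψ0 u` -/
theorem emb_mem_invStab (ψ0 : AddChar F ℂ) (u : Fin m → F) (h : SpecialLinearGroup (Fin m) F)
    (hu : (h : Matrix (Fin m) (Fin m) F) *ᵥ u = u) :
    emb m h ∈ invStab (qrow : (Fin m → F) → SpecialLinearGroup (Fin (m + 1)) F) (lamU ψ0 u) := by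
  rw [mem_invStab]
  have hu' : ((h⁻¹ : SpecialLinearGroup (Fin m) F) : Matrix (Fin m) (Fin m) F) *ᵥ u = u := by
    have := inv_mulVec_mulVec h u
    rwa [hu] at this
  refine ⟨{ toFun := fun a => a ᵥ* ((h⁻¹ : SpecialLinearGroup (Fin m) F) : Matrix (Fin m) (Fin m) F)
            invFun := fun a => a ᵥ* (h : Matrix (Fin m) (Fin m) F)
            left_inv := fun a => vecMul_inv_vecMul h a
            right_inv := fun a => vecMul_vecMul_inv h a
            map_add' := fun a b => Matrix.add_vecMul _ _ _ }, fun a => emb_conj_qrow h a, fun a => ?_⟩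
  show lamU ψ0 u (a ᵥ* ((h⁻¹ : SpecialLinearGroup (Fin m) F) : Matrix (Fin m) (Fin m) F)) = lamU ψ0 u a
  rw [lamU_apply, lamU_apply, dotProduct_comm, ← Matrix.dotProduct_mulVec, hu', dotProduct_comm]

/-- B9: all transvections of `SL_(m+2)`, `m ≥ 1`, are conjugate -/
theorem exists_conj_tv (hm : 1 ≤ m) {x φ : Fin (m + 2) → F} (hx : x ≠ 0) (hφ : φ ≠ 0)
    (h : φ ⬝ᵥ x = 0) :
    ∃ g : SpecialLinearGroup (Fin (m + 2)) F, g * tv x φ 1 * g⁻¹ = tauE (m + 1) 1 := by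
  have hcard : 3 ≤ Fintype.card (Fin (m + 2)) := by rw [Fintype.card_fin]; omega
  unfold tauE
  exact exists_conj_tv_gen hcard hx hφ h (e_ne_zero 0) (e_ne_zero 1)
    (e_dot_e_ne (by simp)) 1

end PKB

end Cfsg.Agent.Lib.Helper4.SLMin
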