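import Mathlib
import Cfsg.Prelude.Def_Characters
import Cfsg.Agent.Lib.Helper4.SLMin.Defs

set_option autoImplicit false
set_option linter.unusedSectionVars false

namespace Cfsg.Agent.Lib.Helper4.SLMin

open Matrix Cfsg Cfsg.Agent.H9SLRoot Cfsg.Agent.Lib.Helper1.SUMin
open scoped ComplexConjugate

universe u

variable {F : Type u} [Field F] [Fintype F] [DecidableEq F]

local notation "q" => Fintype.card F

namespace PkD1

variable {ι : Type*} [Fintype ι] [DecidableEq ι]

/-- orthogonality on `F`: `∑_s ψ0 (s a) = q [a = 0]` -/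
theorem sum_mul (ψ0 : AddChar F ℂ) (hψ0 : ψ0 ≠ 1) (a : F) :
    ∑ s : F, ψ0 (s * a) = if a = 0 then (q : ℂ) else 0 := by
  split_ifs with h
  · subst h
    simp
  · have : ∑ s : F, ψ0 (s * a) = ∑ t : F, ψ0 t :=
      Fintype.sum_equiv (Equiv.mulRight₀ a h) _ _ (fun s => rfl)
    rw [this, AddChar.sum_eq_zero_of_ne_one hψ0]

/-- orthogonality on `F^ι`: `∑_u ψ0 (u ⬝ v) = |F^ι| [v = 0]` -/
theorem sum_dot (ψ0 : AddChar F ℂ) (hψ0 : ψ0 ≠ 1) (v : ι → F) :
    ∑ u : ι → F, ψ0 (u ⬝ᵥ v) = if v = 0 then (Fintype.card (ι → F) : ℂ) else 0 := by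
  split_ifs with h
  · subst h
    simp
  · let φ : AddChar (ι → F) ℂ :=
      { toFun := fun u => ψ0 (u ⬝ᵥ v)
        map_zero_eq_one' := by rw [zero_dotProduct, AddChar.map_zero_eq_one]
        map_add_eq_mul' := fun a b => by rw [add_dotProduct, AddChar.map_add_eq_mul] }
    have hφ : φ ≠ 1 := by
      obtain ⟨j, hj⟩ : ∃ j, v j ≠ 0 := by
        by_contra hcon
        push Not at hcon
        exact h (funext hcon)
      obtain ⟨a, ha⟩ := AddChar.ne_one_iff.mp hψ0
      intro h1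
      apply ha
      have h2 : φ (Pi.single j (a / v j)) = 1 := by rw [h1]; rfl
      have h3 : φ (Pi.single j (a / v j)) = ψ0 ((Pi.single j (a / v j) : ι → F) ⬝ᵥ v) := rfl
      rw [h3, single_dotProduct, div_mul_cancel₀ a hj] at h2
      exact h2
    exact AddChar.sum_eq_zero_of_ne_one hφ

end PkD1

open PkD1

section PKD
variable {m : ℕ}

/-- D1 (Fourier): the characters `lamU ψ0 u`, `u 1 = 0`, are those trivial on `1 + s e_0 e_2ᵀ` -/
theorem sum_fix_isoAvg (hm : 1 ≤ m) (ψ0 : AddChar F ℂ) (hψ0 : ψ0 ≠ 1)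
    (χ : SpecialLinearGroup (Fin (m + 2)) F → ℂ) (g : SpecialLinearGroup (Fin (m + 2)) F) :
    ∑ u ∈ (Finset.univ.filter fun u : Fin (m + 1) → F => u 1 = 0),
        isoAvg qrow (lamU ψ0 u) χ g =
      (q : ℂ)⁻¹ * ∑ s : F, χ (qrow (s • (e 1 : Fin (m + 1) → F)) * g) := by
  classical
  set N : ℂ := (Fintype.card (Fin (m + 1) → F) : ℂ) with hN
  have hN0 : N ≠ 0 := by
    rw [hN]
    exact_mod_cast Fintype.card_ne_zero
  have hq0 : (q : ℂ) ≠ 0 := by exact_mod_cast Fintype.card_ne_zero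
  -- indicator of `u 1 = 0`
  have hind : ∀ u : Fin (m + 1) → F,
      (if u 1 = 0 then (1 : ℂ) else 0) = (q : ℂ)⁻¹ * ∑ s : F, ψ0 (s * u 1) := by
    intro u
    rw [sum_mul ψ0 hψ0]
    split_ifs
    · rw [inv_mul_cancel₀ hq0]
    · rw [mul_zero]
  -- the pointwise identity
  have hpt : ∀ (u w : Fin (m + 1) → F) (s : F),
      ψ0 (s * u 1) * conj (lamU ψ0 u w) = ψ0 (u ⬝ᵥ (s • (e 1 : Fin (m + 1) → F) - w)) := by
    intro u w s
    rw [lamU_apply, ← AddChar.map_neg_eq_conj, ← AddChar.map_add_eq_mul]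
    congr 1
    rw [dotProduct_sub, dotProduct_smul, smul_eq_mul]
    unfold e
    rw [dotProduct_single, mul_one]
    ring
  calc ∑ u ∈ (Finset.univ.filter fun u : Fin (m + 1) → F => u 1 = 0),
        isoAvg qrow (lamU ψ0 u) χ g
      = ∑ u : Fin (m + 1) → F, (if u 1 = 0 then (1 : ℂ) else 0) *
          isoAvg qrow (lamU ψ0 u) χ g := by
        rw [Finset.sum_filter]
        apply Finset.sum_congr rfl
        intro u _
        split_ifs <;> simp
    _ = ∑ u : Fin (m + 1) → F, ∑ w : Fin (m + 1) → F, ∑ s : F,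
          ((q : ℂ)⁻¹ * N⁻¹) * (χ (qrow w * g) *
            ψ0 (u ⬝ᵥ (s • (e 1 : Fin (m + 1) → F) - w))) := by
        apply Finset.sum_congr rfl
        intro u _
        rw [hind u, isoAvg_apply, ← hN]
        calc ((q : ℂ)⁻¹ * ∑ s : F, ψ0 (s * u 1)) *
              (N⁻¹ * ∑ c : Fin (m + 1) → F, conj (lamU ψ0 u c) * χ (qrow c * g))
            = ((q : ℂ)⁻¹ * N⁻¹) * ((∑ s : F, ψ0 (s * u 1)) *
                ∑ c : Fin (m + 1) → F, conj (lamU ψ0 u c) * χ (qrow c * g)) := by ring
          _ = ((q : ℂ)⁻¹ * N⁻¹) * ∑ w : Fin (m + 1) → F, ∑ s : F,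
                ψ0 (s * u 1) * (conj (lamU ψ0 u w) * χ (qrow w * g)) := by
              rw [Finset.sum_mul_sum, Finset.sum_comm]
          _ = _ := by
              rw [Finset.mul_sum]
              apply Finset.sum_congr rfl
              intro w _
              rw [Finset.mul_sum]
              apply Finset.sum_congr rfl
              intro s _
              rw [← hpt u w s]
              ring
    _ = ∑ w : Fin (m + 1) → F, ∑ s : F, ((q : ℂ)⁻¹ * N⁻¹) * (χ (qrow w * g) *
          ∑ u : Fin (m + 1) → F, ψ0 (u ⬝ᵥ (s • (e 1 : Fin (m + 1) → F) - w))) := by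
        rw [Finset.sum_comm]
        apply Finset.sum_congr rfl
        intro w _
        rw [Finset.sum_comm]
        apply Finset.sum_congr rfl
        intro s _
        rw [Finset.mul_sum, Finset.mul_sum]
    _ = ∑ s : F, ∑ w : Fin (m + 1) → F, ((q : ℂ)⁻¹ * N⁻¹) * (χ (qrow w * g) *
          (if s • (e 1 : Fin (m + 1) → F) - w = 0 then N else 0)) := by
        rw [Finset.sum_comm]
        apply Finset.sum_congr rfl
        intro s _
        apply Finset.sum_congr rfl
        intro w _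
        rw [sum_dot ψ0 hψ0]
    _ = ∑ s : F, (q : ℂ)⁻¹ * χ (qrow (s • (e 1 : Fin (m + 1) → F)) * g) := by
        apply Finset.sum_congr rfl
        intro s _
        rw [Finset.sum_eq_single (s • (e 1 : Fin (m + 1) → F))]
        · rw [sub_self, if_pos rfl]
          field_simp
        · intro w _ hw
          rw [if_neg, mul_zero, mul_zero]
          intro h0
          exact hw (sub_eq_zero.mp h0).symm
        · intro h
          exact absurd (Finset.mem_univ _) h
    _ = (q : ℂ)⁻¹ * ∑ s : F, χ (qrow (s • (e 1 : Fin (m + 1) → F)) * g) := by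
        rw [Finset.mul_sum]

end PKD

end Cfsg.Agent.Lib.Helper4.SLMin
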