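import Mathlib

set_option autoImplicit false

namespace Cfsg.Agent.Lib.Helper6

open scoped commutatorElement

variable {G : Type*} [Group G]

/-- `[V, A ⊔ B] ≤ N` if `[V, A], [V, B] ≤ N` and `A`, `B` normalize `N`. -/
theorem commutator_sup_right_le (V A B N : Subgroup G) (hA : ⁅V, A⁆ ≤ N) (hB : ⁅V, B⁆ ≤ N)
    (hAN : A ≤ Subgroup.normalizer (N : Set G)) (hBN : B ≤ Subgroup.normalizer (N : Set G)) :
    ⁅V, A ⊔ B⁆ ≤ N := by
  rw [Subgroup.commutator_le]
  intro v hv l hl
  rw [Subgroup.sup_eq_closure] at hl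
  have key : l ∈ Subgroup.normalizer (N : Set G) ∧ ∀ v ∈ V, ⁅v, l⁆ ∈ N := by
    induction hl using Subgroup.closure_induction with
    | mem x hx =>
      rcases hx with hx | hx
      · exact ⟨hAN hx, fun v hv => hA (Subgroup.commutator_mem_commutator hv hx)⟩
      · exact ⟨hBN hx, fun v hv => hB (Subgroup.commutator_mem_commutator hv hx)⟩
    | one => exact ⟨Subgroup.one_mem _, fun v _ => by simp [N.one_mem]⟩
    | mul x y _ _ hx hy =>
      refine ⟨Subgroup.mul_mem _ hx.1 hy.1, fun v hv => ?_⟩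
      rw [commutatorElement_mul_right_eq_mul_conj]
      have h1 : x * ⁅v, y⁆ * x⁻¹ ∈ N := (Subgroup.mem_normalizer_iff.mp hx.1 _).mp (hy.2 v hv)
      have : ⁅v, x⁆ * x * ⁅v, y⁆ * x⁻¹ = ⁅v, x⁆ * (x * ⁅v, y⁆ * x⁻¹) := by group
      rw [this]
      exact N.mul_mem (hx.2 v hv) h1
    | inv x _ hx =>
      refine ⟨Subgroup.inv_mem _ hx.1, fun v hv => ?_⟩
      rw [commutatorElement_inv_right]
      have h1 : ⁅x, v⁆ ∈ N := by
        rw [← commutatorElement_inv]; exact N.inv_mem (hx.2 v hv)
      have h2 := (Subgroup.mem_normalizer_iff.mp (Subgroup.inv_mem _ hx.1) _).mp h1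
      simpa using h2
  exact key.2 v hv

theorem commutator_sup_left_le (V A B N : Subgroup G) (hA : ⁅A, V⁆ ≤ N) (hB : ⁅B, V⁆ ≤ N)
    (hAN : A ≤ Subgroup.normalizer (N : Set G)) (hBN : B ≤ Subgroup.normalizer (N : Set G)) :
    ⁅A ⊔ B, V⁆ ≤ N := by
  rw [Subgroup.commutator_comm]
  apply commutator_sup_right_le V A B N _ _ hAN hBN
  · rw [Subgroup.commutator_comm]; exact hA
  · rw [Subgroup.commutator_comm]; exact hB

/-- `x` centralizes `A ⊔ B` if it centralizes `A` and `B` -/
theorem centralizer_sup_eq (A B : Subgroup G) :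
    Subgroup.centralizer ((A ⊔ B : Subgroup G) : Set G) =
      Subgroup.centralizer (A : Set G) ⊓ Subgroup.centralizer (B : Set G) := by
  apply le_antisymm
  · exact le_inf (Subgroup.centralizer_le (fun x hx => (le_sup_left : A ≤ A ⊔ B) hx))
      (Subgroup.centralizer_le (fun x hx => (le_sup_right : B ≤ A ⊔ B) hx))
  · intro x hx
    have h1 : A ⊔ B ≤ Subgroup.centralizer ({x} : Set G) := by
      apply sup_le
      · intro a ha
        rw [Subgroup.mem_centralizer_singleton_iff]
        exact (Subgroup.mem_centralizer_iff.mp hx.1 a ha)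
      · intro b hb
        rw [Subgroup.mem_centralizer_singleton_iff]
        exact (Subgroup.mem_centralizer_iff.mp hx.2 b hb)
    rw [Subgroup.mem_centralizer_iff]
    intro h hh
    have := h1 hh
    rw [Subgroup.mem_centralizer_singleton_iff] at this
    exact this

end Cfsg.Agent.Lib.Helper6
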