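import Mathlib
import Cfsg.Agent.Lib.Helper1.SUMin.FieldDefs
import Cfsg.Agent.Lib.Lead.SURField

set_option autoImplicit false

/-!
S2334 / S2335, packages PK-B1 and PK-B2 (finite field facts on additive characters of the
skew elements): `exists_norm_scale` and `exists_shear`.
-/

namespace Cfsg.Agent.Lib.Helper1.SUMin

open Cfsg.Agent.Lib.Helper1.SUR Cfsg.Agent.Lib.Helper2.UT

variable {F : Type*} [Field F] {σ : F ≃+* F}

namespace PKB

theorem sc_add_right {r : F} (hr : σ r = r) (a b : skewS σ) :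
    sc σ r (a + b) = sc σ r a + sc σ r b := by
  apply Subtype.ext
  rw [AddSubgroup.coe_add, sc_val hr, sc_val hr, sc_val hr, AddSubgroup.coe_add, mul_add]

theorem sc_zero_right {r : F} (hr : σ r = r) : sc σ r (0 : skewS σ) = 0 := by
  apply Subtype.ext
  rw [sc_val hr, AddSubgroup.coe_zero, mul_zero]

theorem sc_sub_left {r r' : F} (hr : σ r = r) (hr' : σ r' = r') (a : skewS σ) :
    sc σ (r - r') a = sc σ r a - sc σ r' a := by
  have h : σ (r - r') = r - r' := by rw [map_sub, hr, hr']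
  apply Subtype.ext
  rw [AddSubgroup.coe_sub, sc_val hr, sc_val hr', sc_val h, sub_mul]

theorem sc_add_left {r r' : F} (hr : σ r = r) (hr' : σ r' = r') (a : skewS σ) :
    sc σ (r + r') a = sc σ r a + sc σ r' a := by
  have h : σ (r + r') = r + r' := by rw [map_add, hr, hr']
  apply Subtype.ext
  rw [AddSubgroup.coe_add, sc_val hr, sc_val hr', sc_val h, add_mul]

theorem sc_sc {r r' : F} (hr : σ r = r) (hr' : σ r' = r') (a : skewS σ) :
    sc σ r (sc σ r' a) = sc σ (r * r') a := by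
  have h : σ (r * r') = r * r' := by rw [map_mul, hr, hr']
  apply Subtype.ext
  rw [sc_val hr, sc_val hr', sc_val h, mul_assoc]

theorem sc_one (a : skewS σ) : sc σ 1 a = a := by
  apply Subtype.ext
  rw [sc_val (map_one σ), one_mul]

/-- scaling by a fixed element as an additive endomorphism of the skew elements -/
noncomputable def scHom (σ : F ≃+* F) (r : F) (hr : σ r = r) : skewS σ →+ skewS σ where
  toFun := sc σ r
  map_zero' := sc_zero_right hr
  map_add' := sc_add_right hr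

theorem scHom_apply {r : F} (hr : σ r = r) (a : skewS σ) : scHom σ r hr a = sc σ r a := rfl

/-- quotient of two skew elements is fixed -/
theorem sigma_div_skew (b a : skewS σ) : σ ((b : F) / (a : F)) = (b : F) / (a : F) := by
  rw [map_div₀, skewS_prop, skewS_prop, neg_div_neg_eq]

/-- `x ↦ x - σ x` as an additive map onto the skew elements -/
noncomputable def skewTr (σ : F ≃+* F) (hσ : orderOf σ = 2) : F →+ skewS σ where
  toFun x := ⟨x - σ x, by
    show σ (x - σ x) = -(x - σ x)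
    rw [map_sub, sigma_sigma_of_order hσ, neg_sub]⟩
  map_zero' := by
    apply Subtype.ext
    simp
  map_add' := by
    intro x y
    apply Subtype.ext
    simp only [AddSubgroup.coe_add, map_add]
    ring

theorem skewTr_val (hσ : orderOf σ = 2) (x : F) : ((skewTr σ hσ x : skewS σ) : F) = x - σ x := rfl

theorem skewTr_surjective (hσ : orderOf σ = 2) : Function.Surjective (skewTr σ hσ) := by
  intro a
  obtain ⟨l, hl⟩ := exists_sub_eq_of_skew hσ (a : F) (skewS_prop a)
  exact ⟨l, Subtype.ext hl⟩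

section Fin
variable [Fintype F]

/-- every additive character of the skew elements is a fixed-scalar twist of a given nontrivial
one -/
theorem exists_sc_eq (ψ : AddChar (skewS σ) ℂ) (hψ : ψ ≠ 1) (φ : AddChar (skewS σ) ℂ) :
    ∃ r : F, σ r = r ∧ ∀ a : skewS σ, φ a = ψ (sc σ r a) := by
  classical
  obtain ⟨a0, ha0⟩ : ∃ a0 : skewS σ, ψ a0 ≠ 1 := by
    by_contra hcon
    apply hψ
    ext a
    by_contra h
    exact hcon ⟨a, by simpa using h⟩
  have ha00 : (a0 : F) ≠ 0 := by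
    intro h
    apply ha0
    have : a0 = 0 := Subtype.ext h
    rw [this, AddChar.map_zero_eq_one]
  let Φ : skewS σ → AddChar (skewS σ) ℂ := fun b =>
    ψ.compAddMonoidHom (scHom σ ((b : F) / (a0 : F)) (sigma_div_skew b a0))
  have hΦ : ∀ b a, Φ b a = ψ (sc σ ((b : F) / (a0 : F)) a) := fun b a => rfl
  have hinj : Function.Injective Φ := by
    intro b b' hbb'
    by_contra hne
    have hr := sigma_div_skew b a0
    have hr' := sigma_div_skew b' a0
    set r := (b : F) / (a0 : F) with hrdef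
    set r' := (b' : F) / (a0 : F) with hr'def
    have hrr' : r - r' ≠ 0 := by
      intro h
      apply hne
      apply Subtype.ext
      have h1 : r = r' := sub_eq_zero.1 h
      rw [hrdef, hr'def] at h1
      field_simp at h1
      exact h1
    have hfix : σ (r - r') = r - r' := by rw [map_sub, hr, hr']
    have hfixi : σ (r - r')⁻¹ = (r - r')⁻¹ := by rw [map_inv₀, hfix]
    apply ha0
    have h1 : a0 = sc σ (r - r') (sc σ (r - r')⁻¹ a0) := by
      rw [sc_sc hfix hfixi, mul_inv_cancel₀ hrr', sc_one]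
    rw [h1, sc_sub_left hr hr', AddChar.map_sub_eq_div, ← hΦ b, ← hΦ b', hbb', div_self]
    exact (AddChar.val_isUnit _ _).ne_zero
  have hcard : Fintype.card (skewS σ) = Fintype.card (AddChar (skewS σ) ℂ) :=
    (AddChar.card_eq (α := skewS σ)).symm
  have hbij : Function.Bijective Φ :=
    (Fintype.bijective_iff_injective_and_card Φ).2 ⟨hinj, hcard⟩
  obtain ⟨b, hb⟩ := hbij.2 φ
  refine ⟨(b : F) / (a0 : F), sigma_div_skew b a0, ?_⟩
  intro a
  rw [← hb, hΦ]

/-- every additive character of `F` is `β ↦ ψ (γ β - σ (γ β))` for a given nontrivial `ψ` -/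
theorem exists_tr_eq (hσ : orderOf σ = 2) (ψ : AddChar (skewS σ) ℂ) (hψ : ψ ≠ 1)
    (χ : AddChar F ℂ) :
    ∃ γ : F, ∀ β : F, χ β = ψ (skewTr σ hσ (γ * β)) := by
  classical
  obtain ⟨a0, ha0⟩ : ∃ a0 : skewS σ, ψ a0 ≠ 1 := by
    by_contra hcon
    apply hψ
    ext a
    by_contra h
    exact hcon ⟨a, by simpa using h⟩
  let Φ : F → AddChar F ℂ := fun γ =>
    ψ.compAddMonoidHom ((skewTr σ hσ).comp (AddMonoidHom.mulLeft γ))
  have hΦ : ∀ γ β, Φ γ β = ψ (skewTr σ hσ (γ * β)) := fun γ β => rfl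
  have hinj : Function.Injective Φ := by
    intro γ γ' hgg
    by_contra hne
    have hd : γ - γ' ≠ 0 := sub_ne_zero.2 hne
    apply ha0
    obtain ⟨l, hl⟩ := skewTr_surjective hσ a0
    have h1 : l = (γ - γ') * ((γ - γ')⁻¹ * l) := by
      rw [← mul_assoc, mul_inv_cancel₀ hd, one_mul]
    rw [← hl, h1, sub_mul, map_sub, AddChar.map_sub_eq_div, ← hΦ γ, ← hΦ γ', hgg, div_self]
    exact (AddChar.val_isUnit _ _).ne_zero
  have hcard : Fintype.card F = Fintype.card (AddChar F ℂ) :=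
    (AddChar.card_eq (α := F)).symm
  have hbij : Function.Bijective Φ :=
    (Fintype.bijective_iff_injective_and_card Φ).2 ⟨hinj, hcard⟩
  obtain ⟨γ, hγ⟩ := hbij.2 χ
  refine ⟨γ, ?_⟩
  intro β
  rw [← hγ, hΦ]

end Fin

end PKB

open PKB

section Main
variable [Fintype F]

/-! ### PK-B1 : any two nontrivial additive characters of the skew elements differ by a norm -/
theorem exists_norm_scale (hσ : orderOf σ = 2) (ψ ψ' : AddChar (skewS σ) ℂ) (hψ : ψ ≠ 1)
    (hψ' : ψ' ≠ 1) : ∃ κ : F, κ ≠ 0 ∧ ∀ a : skewS σ, ψ' (sc σ (κ * σ κ) a) = ψ a := by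
  obtain ⟨r, hr, hra⟩ := exists_sc_eq ψ' hψ' ψ
  have hr0 : r ≠ 0 := by
    intro h
    apply hψ
    ext a
    rw [hra a, AddChar.one_apply]
    have : sc σ r a = 0 := by
      apply Subtype.ext
      rw [sc_val hr, h, zero_mul, AddSubgroup.coe_zero]
    rw [this, AddChar.map_zero_eq_one]
  obtain ⟨κ, hκ0, hκ⟩ := exists_norm_eq hσ r hr0 hr
  refine ⟨κ, hκ0, ?_⟩
  intro a
  rw [hκ, ← hra a]

/-! ### PK-B2 : Lemma H -/
theorem exists_shear (hσ : orderOf σ = 2) (ν : AddChar (skewS σ × skewS σ × F) ℂ)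
    (hν : ∃ a : skewS σ, ν (a, 0, 0) ≠ 1) :
    ∃ t : F, ∀ a : skewS σ, ν (sc σ (t * σ t) a, a, -((a : F) * σ t)) = 1 := by
  have hss := sigma_sigma_of_order hσ
  -- the three components of `ν`
  let ψ1 : AddChar (skewS σ) ℂ :=
    ν.compAddMonoidHom (AddMonoidHom.inl (skewS σ) (skewS σ × F))
  let ψ2 : AddChar (skewS σ) ℂ :=
    ν.compAddMonoidHom ((AddMonoidHom.inr (skewS σ) (skewS σ × F)).comp
      (AddMonoidHom.inl (skewS σ) F))
  let χ : AddChar F ℂ :=
    ν.compAddMonoidHom ((AddMonoidHom.inr (skewS σ) (skewS σ × F)).comp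
      (AddMonoidHom.inr (skewS σ) F))
  have hψ1 : ∀ a, ψ1 a = ν (a, 0, 0) := fun a => rfl
  have hψ2 : ∀ a, ψ2 a = ν (0, a, 0) := fun a => rfl
  have hχ : ∀ β, χ β = ν (0, 0, β) := fun β => rfl
  have hdec : ∀ (x y : skewS σ) (β : F), ν (x, y, β) = ψ1 x * ψ2 y * χ β := by
    intro x y β
    rw [hψ1, hψ2, hχ, ← AddChar.map_add_eq_mul, ← AddChar.map_add_eq_mul]
    congr 1
    simp
  have hψ1ne : ψ1 ≠ 1 := by
    obtain ⟨a, ha⟩ := hν
    intro h
    apply ha
    rw [← hψ1, h, AddChar.one_apply]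
  obtain ⟨r0, hr0, hr0a⟩ := exists_sc_eq ψ1 hψ1ne ψ2
  obtain ⟨γ, hγ⟩ := exists_tr_eq hσ ψ1 hψ1ne χ
  -- solve `N(u) = N(γ) - r0`
  have hfix : σ (γ * σ γ - r0) = γ * σ γ - r0 := by
    rw [map_sub, map_mul, hss, hr0, mul_comm]
  obtain ⟨u, hu⟩ : ∃ u : F, u * σ u = γ * σ γ - r0 := by
    by_cases h0 : γ * σ γ - r0 = 0
    · exact ⟨0, by rw [map_zero, mul_zero, h0]⟩
    · obtain ⟨u, _, hu⟩ := exists_norm_eq hσ _ h0 hfix
      exact ⟨u, hu⟩
  refine ⟨u + γ, ?_⟩
  intro a
  have hN : σ ((u + γ) * σ (u + γ)) = (u + γ) * σ (u + γ) := by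
    rw [map_mul, hss, mul_comm]
  rw [hdec, hr0a, hγ, ← AddChar.map_add_eq_mul, ← AddChar.map_add_eq_mul]
  have hz : sc σ ((u + γ) * σ (u + γ)) a + sc σ r0 a +
      skewTr σ hσ (γ * -((a : F) * σ (u + γ))) = 0 := by
    apply Subtype.ext
    rw [AddSubgroup.coe_add, AddSubgroup.coe_add, sc_val hN, sc_val hr0, skewTr_val,
      AddSubgroup.coe_zero]
    have ha := skewS_prop a
    simp only [map_mul, map_neg, map_add, hss, ha]
    linear_combination (a : F) * hu
  rw [hz, AddChar.map_zero_eq_one]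

end Main

end Cfsg.Agent.Lib.Helper1.SUMin
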