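import Mathlib
import Cfsg.Agent.Lib.Helper6.SUMinB

set_option autoImplicit false

/-!
S2334 / S2335, package PK-G5b (first part): the number of skew elements.
-/

namespace Cfsg.Agent.Lib.Helper1.SUMin

open Cfsg.Agent.Lib.Helper1.SUR

variable {F : Type*} [Field F] [Fintype F]

theorem card_skewS {σ : F ≃+* F} (hσ : orderOf σ = 2) {q : ℕ} (hF : Fintype.card F = q ^ 2) :
    Fintype.card (skewS σ) = q := by
  classical
  have hss := sigma_sigma_of_order hσ
  set f := PKB.skewTr σ hσ with hf
  have hsurj : Function.Surjective f := PKB.skewTr_surjective hσ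
  -- a nonzero skew element
  obtain ⟨x0, hx0⟩ : ∃ x, σ x ≠ x := by
    by_contra hcon
    apply sigma_ne_one_of_order hσ
    intro x
    by_contra hx
    exact hcon ⟨x, hx⟩
  set ε : skewS σ := f x0 with hεdef
  have hεv : (ε : F) = x0 - σ x0 := rfl
  have hε : (ε : F) ≠ 0 := by
    rw [hεv]
    intro h
    exact hx0 (sub_eq_zero.1 h).symm
  have hker : ∀ x, x ∈ f.ker ↔ σ x = x := by
    intro x
    rw [AddMonoidHom.mem_ker]
    constructor
    · intro h
      have h1 := congrArg Subtype.val h
      rw [hf, PKB.skewTr_val, AddSubgroup.coe_zero] at h1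
      exact (sub_eq_zero.1 h1).symm
    · intro h
      apply Subtype.ext
      rw [hf, PKB.skewTr_val, AddSubgroup.coe_zero, h, sub_self]
  let e : f.ker ≃ skewS σ :=
    { toFun := fun r => ⟨(r : F) * (ε : F), by
        show σ ((r : F) * (ε : F)) = -((r : F) * (ε : F))
        rw [map_mul, (hker r).1 r.2, skewS_prop, mul_neg]⟩
      invFun := fun s => ⟨(s : F) / (ε : F), by
        rw [hker]
        exact PKB.sigma_div_skew s ε⟩
      left_inv := by
        intro r
        apply Subtype.ext
        show (r : F) * (ε : F) / (ε : F) = r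
        field_simp
      right_inv := by
        intro s
        apply Subtype.ext
        show (s : F) / (ε : F) * (ε : F) = s
        field_simp }
  have h1 : Nat.card F = Nat.card (F ⧸ f.ker) * Nat.card f.ker :=
    AddSubgroup.card_eq_card_quotient_mul_card_addSubgroup f.ker
  have h2 : Nat.card (F ⧸ f.ker) = Nat.card (skewS σ) :=
    Nat.card_congr (QuotientAddGroup.quotientKerEquivOfSurjective f hsurj).toEquiv
  have h3 : Nat.card f.ker = Nat.card (skewS σ) := Nat.card_congr e
  rw [h2, h3, Nat.card_eq_fintype_card, hF, Nat.card_eq_fintype_card, ← pow_two] at h1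
  exact (Nat.pow_left_injective (two_ne_zero) h1).symm

end Cfsg.Agent.Lib.Helper1.SUMin
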