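import Mathlib
import Cfsg.Prelude.Def_Characters
import Cfsg.Prelude.Def_Classical
import Cfsg.Agent.Lib.Helper2.UT18
import Cfsg.Agent.Lib.Helper1.CharFound7
import Cfsg.Agent.Lib.Helper6.SUMinCard

set_option autoImplicit false

/-!
S2334 / S2335, package PK-G5b: transfer from the group `T h` generated by the unitary
transvections to `Cfsg.SU n F q`, and the arithmetic of the two bounds.
-/

namespace Cfsg.Agent.Lib.Helper1.SUMin

open Module Cfsg Cfsg.Agent.Lib.Helper2 Cfsg.Agent.Lib.Helper2.IsomDecomp Cfsg.Agent.Lib.Helper2.UT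
  Cfsg.Agent.Lib.Helper5.PSLCoset Cfsg.Agent.Lib.Helper1.SUR

section G5b
variable {F : Type*} [Field F] [Fintype F]

/-- transfer along `suLin` -/
theorem su_min_degree_of_T [DecidableEq F] (n q : ℕ) (hn : 3 ≤ n)
    (hF : Fintype.card F = q ^ 2) (h32 : ¬ (n = 3 ∧ q = 2)) (B : ℕ)
    (hT : ∀ σ : F ≃+* F, orderOf σ = 2 → (∀ a : F, σ a = a ^ q) →
      ∀ h : IsHerm σ (Cfsg.hermForm n F q), ∀ χ : ↥(T h) → ℂ, IsIrrCharacter ↥(T h) χ → χ 1 ≠ 1 →
        ∃ k : ℕ, χ 1 = k ∧ B ≤ k) :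
    ∀ (k : ℕ) (ρ : Representation ℂ (Cfsg.SU n F q) (Fin k → ℂ)), ρ.IsIrreducible → 2 ≤ k →
      B ≤ k := by
  intro k ρ hρ hk
  obtain ⟨σ, hσ, hσq⟩ := HermDecomp.exists_sigma hF
  have hσ2 := sigma_sigma_of_order hσ
  have h := GUIsom.isHerm_hermForm n q σ hσ2 hσq
  let e : ↥(Cfsg.SU n F q) ≃* ↥(T h) :=
    (MonoidHom.ofInjective suLin_injective).trans
      (MulEquiv.subgroupCongr (range_suLin hF hn h32 hσ hσq h))
  let ρ' : Representation ℂ ↥(T h) (Fin k → ℂ) := ρ.comp e.symm.toMonoidHom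
  have hirr : ρ'.IsIrreducible :=
    Cfsg.Agent.Lib.Helper1.isIrreducible_comp_surjective ρ hρ e.symm.toMonoidHom e.symm.surjective
  have hχ : IsIrrCharacter ↥(T h) ρ'.character := ⟨k, ρ', hirr, rfl⟩
  have h1 : ρ'.character 1 = (k : ℂ) := by
    rw [Representation.char_one]
    simp
  have hne : ρ'.character 1 ≠ 1 := by
    rw [h1]
    intro h
    have : k = 1 := by exact_mod_cast h
    omega
  obtain ⟨k', hk', hB⟩ := hT σ hσ hσq h ρ'.character hχ hne
  rw [h1] at hk'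
  have : k = k' := by exact_mod_cast hk'
  rw [this]
  exact hB

theorem PKB.sum_odd_aux (p m : ℕ) :
    (p + 2) * ∑ i ∈ Finset.range m, p * (p + 1) ^ (2 * m + 1 - 2 * i - 2) + (p + 1) =
      (p + 1) ^ (2 * m + 1) := by
  induction m with
  | zero => simp
  | succ m ih =>
    rw [Finset.sum_range_succ']
    have h1 : ∑ i ∈ Finset.range m, p * (p + 1) ^ (2 * (m + 1) + 1 - 2 * (i + 1) - 2) =
        ∑ i ∈ Finset.range m, p * (p + 1) ^ (2 * m + 1 - 2 * i - 2) := by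
      apply Finset.sum_congr rfl
      intro i _
      congr 2
      omega
    rw [h1]
    have h2 : 2 * (m + 1) + 1 - 2 * 0 - 2 = 2 * m + 1 := by omega
    rw [h2]
    have h3 : (p + 1) ^ (2 * (m + 1) + 1) = (p + 1) ^ (2 * m + 1) * (p + 1) ^ 2 := by
      rw [← pow_add]
      congr 1
    rw [h3, ← ih]
    ring

theorem PKB.sum_even_aux (p m : ℕ) :
    (p + 2) * ∑ i ∈ Finset.range m, p * (p + 1) ^ (2 * m - 2 * i - 2) + 1 =
      (p + 1) ^ (2 * m) := by
  induction m with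
  | zero => simp
  | succ m ih =>
    rw [Finset.sum_range_succ']
    have h1 : ∑ i ∈ Finset.range m, p * (p + 1) ^ (2 * (m + 1) - 2 * (i + 1) - 2) =
        ∑ i ∈ Finset.range m, p * (p + 1) ^ (2 * m - 2 * i - 2) := by
      apply Finset.sum_congr rfl
      intro i _
      congr 2
      omega
    rw [h1]
    have h2 : 2 * (m + 1) - 2 * 0 - 2 = 2 * m := by omega
    rw [h2]
    have h3 : (p + 1) ^ (2 * (m + 1)) = (p + 1) ^ (2 * m) * (p + 1) ^ 2 := by
      rw [← pow_add]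
      congr 1
    rw [h3, ← ih]
    ring

theorem sum_odd (q m : ℕ) (hq : 1 ≤ q) :
    ∑ i ∈ Finset.range m, (q - 1) * q ^ (2 * m + 1 - 2 * i - 2) = (q ^ (2 * m + 1) - q) / (q + 1) := by
  obtain ⟨p, rfl⟩ : ∃ p, q = p + 1 := ⟨q - 1, by omega⟩
  rw [Nat.add_sub_cancel]
  have h := PKB.sum_odd_aux p m
  symm
  apply Nat.div_eq_of_eq_mul_right (by omega)
  rw [← h]
  have : p + 1 + 1 = p + 2 := by ring
  rw [this, Nat.add_sub_cancel]

theorem sum_even (q m : ℕ) (hq : 1 ≤ q) :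
    ∑ i ∈ Finset.range m, (q - 1) * q ^ (2 * m - 2 * i - 2) = (q ^ (2 * m) - 1) / (q + 1) := by
  obtain ⟨p, rfl⟩ : ∃ p, q = p + 1 := ⟨q - 1, by omega⟩
  rw [Nat.add_sub_cancel]
  have h := PKB.sum_even_aux p m
  symm
  apply Nat.div_eq_of_eq_mul_right (by omega)
  rw [← h]
  have : p + 1 + 1 = p + 2 := by ring
  rw [this, Nat.add_sub_cancel]

end G5b

end Cfsg.Agent.Lib.Helper1.SUMin
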