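import Mathlib
import Cfsg.Agent.Lib.Helper9.UPol1
import Cfsg.Agent.Lib.Helper1.SpBlk2

set_option autoImplicit false

/-!
# S5953 (PSU_n on totally singular `m`-spaces): basic definitions
-/

namespace Cfsg.Agent.Lib.Helper6.TSU

open Module Polynomial Cfsg.Agent.H9SemiInv Cfsg.Agent.Lib.Helper1.SpBlk
  Cfsg.Agent.Lib.Helper9.UPol Cfsg.Agent.Lib.Helper5.PSLCoset

universe u

/-- `T` fixes a totally singular subspace of dimension `m` -/
def FixTS {F V : Type*} [Field F] [AddCommGroup V] [Module F V] (H : V → V → F)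
    (T : V →ₗ[F] V) (m : ℕ) : Prop :=
  ∃ W : Submodule F V, finrank F W = m ∧ (∀ u ∈ W, ∀ v ∈ W, H u v = 0) ∧ W.map T ≤ W

/-- `b = ord_r(q²)` from `i = ord_r(q)` -/
def bOf (i : ℕ) : ℕ := if Even i then i / 2 else i

/-- `c = ord_r(-q)` from `i = ord_r(q)` -/
def cOf (i : ℕ) : ℕ := if i % 4 = 0 then i else if i % 4 = 2 then i / 2 else 2 * i

/-- abstract unitary space over `F` (in the universe of `F`) of dimension `n` with an isometry `T`,
`T ^ r = 1`, `dim C_V(T) = k` -/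
def HModel0 (F : Type u) [Field F] (σ : F ≃+* F) (r n k : ℕ) : Prop :=
  ∃ (W : Type u) (_ : AddCommGroup W) (_ : Module F W) (_ : FiniteDimensional F W)
    (HW : W → W → F) (TW : W →ₗ[F] W), IsHerm σ HW ∧ (∀ v, (∀ w, HW v w = 0) → v = 0) ∧
    finrank F W = n ∧ (∀ u v, HW (TW u) (TW v) = HW u v) ∧ TW ^ r = 1 ∧
    finrank F (fixE TW) = k

/-- the same, the moved part being annihilated by `P` and having no nonzero invariant totally
singular subspace -/
def HModel (F : Type u) [Field F] (σ : F ≃+* F) (r n k : ℕ) (P : F[X]) : Prop :=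
  ∃ (W : Type u) (_ : AddCommGroup W) (_ : Module F W) (_ : FiniteDimensional F W)
    (HW : W → W → F) (TW : W →ₗ[F] W), IsHerm σ HW ∧ (∀ v, (∀ w, HW v w = 0) → v = 0) ∧
    finrank F W = n ∧ (∀ u v, HW (TW u) (TW v) = HW u v) ∧ TW ^ r = 1 ∧
    finrank F (fixE TW) = k ∧ (∀ w ∈ movK r TW, aeval TW P w = 0) ∧
    (∀ U : Submodule F W, U ≤ movK r TW → Inv TW U → TS HW U → U = ⊥)

end Cfsg.Agent.Lib.Helper6.TSU
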