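import Mathlib
import Cfsg.Prelude.Def_Characters
import Cfsg.Agent.Lib.Helper2.WG.Defs3

set_option autoImplicit false

/-!
# S2524 PK-G1: fixed points of generated subgroups (generic representation theory)

`fixdim H χ` is the average of `χ` over the subgroup `H`; for a character `χ` it is the dimension of
the space of `H`-invariants.
-/

namespace Cfsg.Agent.Lib.Helper2.WG

open Cfsg

universe u

section G1

namespace PkG1

variable {Γ : Type*} [Group Γ] {V : Type*} [AddCommGroup V] [Module ℂ V] [FiniteDimensional ℂ V]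

/-- the invariants of the restriction of `ρ` to `H` -/
noncomputable def fixInv (ρ : Representation ℂ Γ V) (H : Subgroup Γ) : Submodule ℂ V :=
  Representation.invariants (ρ.comp H.subtype)

theorem mem_fixInv (ρ : Representation ℂ Γ V) (H : Subgroup Γ) (v : V) :
    v ∈ fixInv ρ H ↔ ∀ h ∈ H, ρ h v = v := by
  unfold fixInv
  rw [Representation.mem_invariants]
  constructor
  · intro h x hx
    exact h ⟨x, hx⟩
  · intro h x
    exact h x x.2

theorem fixdim_eq (ρ : Representation ℂ Γ V) (H : Subgroup Γ) [Fintype H] :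
    fixdim H ρ.character = (Module.finrank ℂ (fixInv ρ H) : ℂ) := by
  have hH0 : (Nat.card H : ℂ) ≠ 0 := Nat.cast_ne_zero.mpr Nat.card_pos.ne'
  have : Invertible (Nat.card H : ℂ) := invertibleOfNonzero hH0
  unfold fixInv
  rw [← Representation.card_inv_mul_sum_char_eq_finrank (ρ.comp H.subtype)]
  unfold fixdim
  rw [Fintype.card_eq_nat_card]
  rfl

theorem fixInv_anti (ρ : Representation ℂ Γ V) {H H' : Subgroup Γ} (h : H ≤ H') :
    fixInv ρ H' ≤ fixInv ρ H := by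
  intro v hv
  rw [mem_fixInv] at hv ⊢
  intro x hx
  exact hv x (h hx)

theorem fixInv_sup (ρ : Representation ℂ Γ V) (B D : Subgroup Γ) :
    fixInv ρ (B ⊔ D) = fixInv ρ B ⊓ fixInv ρ D := by
  apply le_antisymm
  · exact le_inf (fixInv_anti ρ le_sup_left) (fixInv_anti ρ le_sup_right)
  · intro v hv
    obtain ⟨hB, hD⟩ := Submodule.mem_inf.1 hv
    rw [mem_fixInv] at hB hD ⊢
    -- the stabiliser of v is a subgroup containing B and D
    let St : Subgroup Γ :=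
      { carrier := {g | ρ g v = v}
        mul_mem' := by
          intro a b ha hb
          simp only [Set.mem_ofPred_eq] at ha hb ⊢
          rw [map_mul, Module.End.mul_apply, hb, ha]
        one_mem' := by simp
        inv_mem' := by
          intro a ha
          simp only [Set.mem_ofPred_eq] at ha ⊢
          have h1 : ρ a⁻¹ (ρ a v) = v := by
            rw [← Module.End.mul_apply, ← map_mul, inv_mul_cancel, map_one, Module.End.one_apply]
          rw [ha] at h1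
          exact h1 }
    have hle : B ⊔ D ≤ St := sup_le (fun x hx => hB x hx) (fun x hx => hD x hx)
    intro x hx
    exact hle hx

/-- ambient form: `Φ` is a function on `𝔾` whose restriction to `J` is the character of `ρ` -/
theorem fixdim_eq_amb {𝔾 : Type*} [Group 𝔾] (J : Subgroup 𝔾) {W : Type*} [AddCommGroup W]
    [Module ℂ W] [FiniteDimensional ℂ W] (ρ : Representation ℂ J W) {Φ : 𝔾 → ℂ}
    (hΦ : ρ.character = fun j : J => Φ (j : 𝔾)) (H : Subgroup 𝔾) [Fintype H] (hHJ : H ≤ J) :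
    fixdim H Φ = (Module.finrank ℂ (fixInv ρ (H.subgroupOf J)) : ℂ) := by
  classical
  haveI : Fintype ↥(H.subgroupOf J) := Fintype.ofEquiv H (Subgroup.subgroupOfEquivOfLe hHJ).symm.toEquiv
  rw [← fixdim_eq ρ (H.subgroupOf J)]
  unfold fixdim
  have hc : Fintype.card ↥(H.subgroupOf J) = Fintype.card H :=
    Fintype.card_congr (Subgroup.subgroupOfEquivOfLe hHJ).toEquiv
  rw [hc]
  congr 1
  rw [hΦ]
  exact (Fintype.sum_equiv (Subgroup.subgroupOfEquivOfLe hHJ).toEquiv _ _ (fun x => rfl)).symm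

end PkG1

open PkG1

theorem fixdim_nat {Γ : Type u} [Group Γ] [Finite Γ] {χ : Γ → ℂ} (hχ : IsCharacter Γ χ)
    (H : Subgroup Γ) [Fintype H] : ∃ k : ℕ, fixdim H χ = k := by
  obtain ⟨n, ρ, rfl⟩ := hχ
  exact ⟨_, fixdim_eq ρ H⟩

theorem fixdim_mono {Γ : Type u} [Group Γ] [Finite Γ] {χ : Γ → ℂ} (hχ : IsCharacter Γ χ)
    (H H' : Subgroup Γ) [Fintype H] [Fintype H'] (h : H ≤ H') :
    (fixdim H' χ).re ≤ (fixdim H χ).re := by
  obtain ⟨n, ρ, rfl⟩ := hχ
  rw [fixdim_eq ρ H, fixdim_eq ρ H', Complex.natCast_re, Complex.natCast_re]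
  exact_mod_cast Submodule.finrank_mono (fixInv_anti ρ h)

/-- if `A ≤ B` have the same fixed space and `A ≤ D`, then `D` and `⟨B, D⟩` have the same fixed
space -/
theorem fixdim_propagation {Γ : Type u} [Group Γ] [Finite Γ] {χ : Γ → ℂ} (hχ : IsCharacter Γ χ)
    (A B D : Subgroup Γ) [Fintype A] [Fintype B] [Fintype D] [Fintype ↥(B ⊔ D)]
    (hAB : A ≤ B) (hAD : A ≤ D) (h : fixdim A χ = fixdim B χ) :
    fixdim D χ = fixdim (B ⊔ D) χ := by
  obtain ⟨n, ρ, rfl⟩ := hχ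
  rw [fixdim_eq ρ A, fixdim_eq ρ B] at h
  have h' : Module.finrank ℂ (fixInv ρ A) = Module.finrank ℂ (fixInv ρ B) := by exact_mod_cast h
  have hBA : fixInv ρ B = fixInv ρ A :=
    Submodule.eq_of_le_of_finrank_eq (fixInv_anti ρ hAB) h'.symm
  rw [fixdim_eq ρ D, fixdim_eq ρ (B ⊔ D), fixInv_sup, hBA,
    inf_eq_right.2 (fixInv_anti ρ hAD)]

/-! ### ambient forms: `Φ` is a function on `𝔾` which is a character only on the subgroup `J` -/

theorem fixdim_nat' {𝔾 : Type u} [Group 𝔾] [Finite 𝔾] (J : Subgroup 𝔾) {Φ : 𝔾 → ℂ}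
    (hΦ : IsCharacter J (fun j : J => Φ (j : 𝔾))) (H : Subgroup 𝔾) [Fintype H] (hJ : H ≤ J) :
    ∃ k : ℕ, fixdim H Φ = k := by
  obtain ⟨n, ρ, hρ⟩ := hΦ
  exact ⟨_, fixdim_eq_amb J ρ hρ H hJ⟩

theorem fixdim_mono' {𝔾 : Type u} [Group 𝔾] [Finite 𝔾] (J : Subgroup 𝔾) {Φ : 𝔾 → ℂ}
    (hΦ : IsCharacter J (fun j : J => Φ (j : 𝔾))) (H H' : Subgroup 𝔾) [Fintype H] [Fintype H']
    (h : H ≤ H') (hJ : H' ≤ J) : (fixdim H' Φ).re ≤ (fixdim H Φ).re := by
  obtain ⟨n, ρ, hρ⟩ := hΦ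
  rw [fixdim_eq_amb J ρ hρ H (h.trans hJ), fixdim_eq_amb J ρ hρ H' hJ, Complex.natCast_re,
    Complex.natCast_re]
  have hle : H.subgroupOf J ≤ H'.subgroupOf J := fun x hx => h hx
  exact_mod_cast Submodule.finrank_mono (fixInv_anti ρ hle)

theorem fixdim_propagation' {𝔾 : Type u} [Group 𝔾] [Finite 𝔾] (J : Subgroup 𝔾) {Φ : 𝔾 → ℂ}
    (hΦ : IsCharacter J (fun j : J => Φ (j : 𝔾))) (A B D : Subgroup 𝔾) [Fintype A] [Fintype B]
    [Fintype D] [Fintype ↥(B ⊔ D)] (hBJ : B ≤ J) (hDJ : D ≤ J) (hAB : A ≤ B) (hAD : A ≤ D)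
    (h : fixdim A Φ = fixdim B Φ) : fixdim D Φ = fixdim (B ⊔ D) Φ := by
  obtain ⟨n, ρ, hρ⟩ := hΦ
  have hBDJ : B ⊔ D ≤ J := sup_le hBJ hDJ
  rw [fixdim_eq_amb J ρ hρ A (hAB.trans hBJ), fixdim_eq_amb J ρ hρ B hBJ] at h
  have h' : Module.finrank ℂ (fixInv ρ (A.subgroupOf J)) =
      Module.finrank ℂ (fixInv ρ (B.subgroupOf J)) := by exact_mod_cast h
  have hAB' : A.subgroupOf J ≤ B.subgroupOf J := fun x hx => hAB hx
  have hAD' : A.subgroupOf J ≤ D.subgroupOf J := fun x hx => hAD hx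
  have hBA : fixInv ρ (B.subgroupOf J) = fixInv ρ (A.subgroupOf J) :=
    Submodule.eq_of_le_of_finrank_eq (fixInv_anti ρ hAB') h'.symm
  have hsup : (B ⊔ D).subgroupOf J = B.subgroupOf J ⊔ D.subgroupOf J := by
    exact Subgroup.subgroupOf_sup hBJ hDJ
  rw [fixdim_eq_amb J ρ hρ D hDJ, fixdim_eq_amb J ρ hρ (B ⊔ D) hBDJ, hsup, fixInv_sup, hBA,
    inf_eq_right.2 (fixInv_anti ρ hAD')]

end G1

end Cfsg.Agent.Lib.Helper2.WG
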