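import Mathlib
import Cfsg.Prelude.Def_Local
import Cfsg.Agent.Lib.Helper3.Components10
import Cfsg.Agent.Lib.Lead.CoprimeAction2
import Cfsg.Agent.Lib.Lead.Core
import Cfsg.Agent.Lib.Lead.CoprimeFrattini

set_option autoImplicit false

namespace Cfsg.Agent.Lib.Helper6

open Cfsg Cfsg.Agent.Lib.Helper3
open scoped commutatorElement

section
variable {G : Type*} [Group G]

/-- elements of a join with a normalised left factor -/
theorem exists_mul_of_mem_sup_of_le_normalizer {A M : Subgroup G}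
    (hM : M ≤ Subgroup.normalizer (A : Set G)) {g : G}
    (hg : g ∈ A ⊔ M) : ∃ a ∈ A, ∃ m ∈ M, g = a * m := by
  have : g ∈ ((A ⊔ M : Subgroup G) : Set G) := hg
  rw [Subgroup.coe_mul_of_right_le_normalizer_left A M hM] at this
  obtain ⟨a, ha, m, hm, rfl⟩ := this
  exact ⟨a, ha, m, hm, rfl⟩

/-- A quasisimple normal subgroup `K` of `L` lies in `[L, Y]` or is centralised by `Y`. -/
theorem quasisimple_le_commutator_or (L Y K : Subgroup G) (hYL : Y ≤ Subgroup.normalizer (L : Set G))
    (hKq : IsQuasisimple K) (hKL : K ≤ L) (hLK : L ≤ Subgroup.normalizer (K : Set G)) :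
    K ≤ ⁅L, Y⁆ ∨ ⁅K, Y⁆ = ⊥ := by
  set M := ⁅L, Y⁆ with hM
  have hML : M ≤ L := Cfsg.Agent.Lib.Lead.commutator_le_left_of_le_normalizer L Y hYL
  have hLM : L ≤ Subgroup.normalizer (M : Set G) := Cfsg.Agent.Lib.Lead.le_normalizer_commutator_left L Y
  haveI hn : (M.subgroupOf K).Normal :=
    Subgroup.normal_subgroupOf_of_le_normalizer (hKL.trans hLM)
  rcases IsQuasisimple.normal_eq_top_or_le_center hKq (M.subgroupOf K) with h | h
  · left
    rwa [Subgroup.subgroupOf_eq_top] at h
  · right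
    have hperf : ⁅K, K⁆ = K := IsQuasisimple.commutator_eq_self hKq
    -- `M ⊓ K` centralises `K`
    have h1 : M ⊓ K ≤ Subgroup.centralizer (K : Set G) := by
      intro x hx
      rw [Subgroup.mem_centralizer_iff]
      intro k hk
      have hx' : (⟨x, hx.2⟩ : K) ∈ M.subgroupOf K := by
        rw [Subgroup.mem_subgroupOf]; exact hx.1
      have := Subgroup.mem_center_iff.mp (h hx') ⟨k, hk⟩
      exact congrArg Subtype.val this
    have h2 : ⁅K, M⁆ ≤ M ⊓ K := by
      apply le_inf
      · rw [Subgroup.commutator_comm]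
        exact Cfsg.Agent.Lib.Lead.commutator_le_left_of_le_normalizer M K (hKL.trans hLM)
      · exact Cfsg.Agent.Lib.Lead.commutator_le_left_of_le_normalizer K M (hML.trans hLK)
    have h3 : ⁅⁅K, M⁆, K⁆ = ⊥ := by
      rw [Subgroup.commutator_eq_bot_iff_le_centralizer]
      exact h2.trans h1
    have h4 : ⁅⁅M, K⁆, K⁆ = ⊥ := by rw [Subgroup.commutator_comm M K]; exact h3
    have h5 : ⁅⁅K, K⁆, M⁆ = ⊥ := Subgroup.commutator_commutator_eq_bot_of_rotate h3 h4
    rw [hperf] at h5
    -- now `[K, Y] ≤ M` is centralised by `K`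
    have h6 : ⁅K, Y⁆ ≤ M := Subgroup.commutator_mono hKL le_rfl
    have h7 : ⁅⁅K, Y⁆, K⁆ = ⊥ := by
      rw [eq_bot_iff, ← h5, Subgroup.commutator_comm K M]
      exact Subgroup.commutator_mono h6 le_rfl
    have h8 : ⁅⁅Y, K⁆, K⁆ = ⊥ := by rw [Subgroup.commutator_comm Y K]; exact h7
    have h9 : ⁅⁅K, K⁆, Y⁆ = ⊥ := Subgroup.commutator_commutator_eq_bot_of_rotate h7 h8
    rwa [hperf] at h9

/-- The decomposition `L = [L, Y] C_L(Y)` and `[L, Y] = [L, Y, Y]` when `L` is generated by a subgroup on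
which `Y` acts coprimely and by quasisimple normal subgroups. -/
theorem commutator_decomp [Finite G] (L Y : Subgroup G) (hYL : Y ≤ Subgroup.normalizer (L : Set G))
    (FL : Subgroup G) (hFL : FL ≤ L) (hYF : Y ≤ Subgroup.normalizer (FL : Set G))
    (hcop : (Nat.card Y).Coprime (Nat.card FL)) (hYs : Group.IsSolvable Y)
    (𝒦 : Set (Subgroup G))
    (h𝒦 : ∀ K ∈ 𝒦, IsQuasisimple K ∧ K ≤ L ∧ L ≤ Subgroup.normalizer (K : Set G))
    (hgen : L ≤ FL ⊔ sSup 𝒦) :
    ⁅L, Y⁆ ⊔ (L ⊓ Subgroup.centralizer (Y : Set G)) = L ∧ ⁅L, Y⁆ = ⁅⁅L, Y⁆, Y⁆ := by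
  set M := ⁅L, Y⁆ with hM
  have hML : M ≤ L := Cfsg.Agent.Lib.Lead.commutator_le_left_of_le_normalizer L Y hYL
  have hLM : L ≤ Subgroup.normalizer (M : Set G) := Cfsg.Agent.Lib.Lead.le_normalizer_commutator_left L Y
  have h1 : M ⊔ (L ⊓ Subgroup.centralizer (Y : Set G)) = L := by
    apply le_antisymm (sup_le hML inf_le_left)
    refine hgen.trans (sup_le ?_ (sSup_le ?_))
    · have h2 := Cfsg.Agent.Lib.Lead.coprime_commutator_sup_centralizer Y FL hYF hcop (Or.inl hYs)
      rw [← h2]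
      exact sup_le_sup (Subgroup.commutator_mono hFL le_rfl) (inf_le_inf_right _ hFL)
    · intro K hK
      obtain ⟨hKq, hKL, hLK⟩ := h𝒦 K hK
      rcases quasisimple_le_commutator_or L Y K hYL hKq hKL hLK with h | h
      · exact h.trans le_sup_left
      · rw [Subgroup.commutator_eq_bot_iff_le_centralizer] at h
        exact (le_inf hKL h).trans le_sup_right
  refine ⟨h1, le_antisymm ?_ (Subgroup.commutator_mono hML le_rfl)⟩
  rw [hM, Subgroup.commutator_le]
  intro l hl y hy
  have hl' : l ∈ M ⊔ (L ⊓ Subgroup.centralizer (Y : Set G)) := by rw [h1]; exact hl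
  obtain ⟨m, hm, c, hc, rfl⟩ := exists_mul_of_mem_sup_of_le_normalizer (inf_le_left.trans hLM) hl'
  have hcy : c * y = y * c := (Subgroup.mem_centralizer_iff.mp hc.2 y hy).symm
  have : ⁅m * c, y⁆ = ⁅m, y⁆ := by
    simp only [commutatorElement_def]
    have : m * c * y * (m * c)⁻¹ * y⁻¹ = m * (c * y) * c⁻¹ * m⁻¹ * y⁻¹ := by group
    rw [this, hcy]; group
  rw [this]
  exact Subgroup.commutator_mem_commutator hm hy

instance fittingSubgroup_characteristic : (fittingSubgroup G).Characteristic := by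
  rw [Subgroup.characteristic_iff_map_eq]
  intro φ
  exact fittingSubgroup_map_equiv φ

/-- a nilpotent normal subgroup has order prime to `p` when `O_p = 1` -/
theorem coprime_card_of_nilpotent_normal_of_pCore_eq_bot [Finite G] {p : ℕ} [hp : Fact p.Prime]
    (hO : Cfsg.pCore p G = ⊥) (D : Subgroup G) [D.Normal] [Group.IsNilpotent D] :
    (Nat.card D).Coprime p := by
  rw [Nat.coprime_comm, Nat.Prime.coprime_iff_not_dvd hp.out]
  intro hdvd
  obtain ⟨P⟩ : Nonempty (Sylow p D) := inferInstance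
  haveI : (P : Subgroup D).Normal := inferInstance
  haveI : (P : Subgroup D).Characteristic := Sylow.characteristic_of_normal P inferInstance
  have hn : ((P : Subgroup D).map D.subtype).Normal := inferInstance
  have hpg : IsPGroup p ((P : Subgroup D).map D.subtype) := P.isPGroup'.map _
  have hle := Cfsg.Agent.Lib.Lead.le_pCore hn hpg
  rw [hO, le_bot_iff, Subgroup.map_eq_bot_iff_of_injective _ D.subtype_injective] at hle
  exact P.ne_bot_of_dvd_card hdvd hle

theorem coprime_card_fittingSubgroup [Finite G] {p : ℕ} [hp : Fact p.Prime]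
    (hO : Cfsg.pCore p G = ⊥) : (Nat.card (fittingSubgroup G)).Coprime p := by
  haveI := Cfsg.Agent.Lib.Lead.fittingSubgroup_normal (G := G)
  haveI := Cfsg.Agent.Lib.Lead.fittingSubgroup_isNilpotent (G := G)
  exact coprime_card_of_nilpotent_normal_of_pCore_eq_bot hO _

theorem normalizer_inf_le (A B : Subgroup G) :
    Subgroup.normalizer (A : Set G) ⊓ Subgroup.normalizer (B : Set G) ≤
      Subgroup.normalizer ((A ⊓ B : Subgroup G) : Set G) := by
  intro y hy
  rw [Subgroup.mem_normalizer_iff]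
  intro x
  rw [Subgroup.mem_inf, Subgroup.mem_inf, ← (Subgroup.mem_normalizer_iff.mp hy.1) x,
    ← (Subgroup.mem_normalizer_iff.mp hy.2) x]

theorem generalizedFittingSubgroup_le_normalizer_of_isComponent [Finite G] {K : Subgroup G}
    (hK : IsComponent K) : generalizedFittingSubgroup G ≤ Subgroup.normalizer (K : Set G) := by
  unfold generalizedFittingSubgroup
  apply sup_le (IsComponent.layer_le_normalizer hK)
  have := IsComponent.commutator_fittingSubgroup hK
  rw [Subgroup.commutator_comm, Subgroup.commutator_eq_bot_iff_le_centralizer] at this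
  exact this.trans (Subgroup.centralizer_le_normalizer _)

/-- **MS 1.?**: a `p`-group acting on a subnormal subgroup of `F*(G)` when `O_p(G) = 1`. -/
theorem commutator_decomp_of_le_generalizedFittingSubgroup [Finite G] {p : ℕ} [hp : Fact p.Prime]
    (hO : Cfsg.pCore p G = ⊥) (Y : Subgroup G) (hY : IsPGroup p Y) (L : Subgroup G)
    (hLF : L ≤ generalizedFittingSubgroup G) (hLsn : L.IsSubnormal)
    (hYL : Y ≤ Subgroup.normalizer (L : Set G)) :
    ⁅L, Y⁆ ⊔ (L ⊓ Subgroup.centralizer (Y : Set G)) = L ∧ ⁅L, Y⁆ = ⁅⁅L, Y⁆, Y⁆ := by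
  haveI hFn := Cfsg.Agent.Lib.Lead.fittingSubgroup_normal (G := G)
  haveI : Group.IsNilpotent Y := hY.isNilpotent
  apply commutator_decomp L Y hYL (fittingSubgroup G ⊓ L) inf_le_right
    ?_ ?_ inferInstance {K | IsComponent K ∧ K ≤ L}
  · rintro K ⟨hK, hKL⟩
    exact ⟨hK.2, hKL, hLF.trans (generalizedFittingSubgroup_le_normalizer_of_isComponent hK)⟩
  · have h1 := le_layer_sup_fitting_of_le_generalizedFittingSubgroup hLsn hLF
    rw [layer_map_subtype_eq hLsn] at h1
    rw [sup_comm]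
    exact h1
  · refine le_trans (le_inf ?_ hYL) (normalizer_inf_le _ _)
    rw [Subgroup.normalizer_eq_top_iff.mpr hFn]
    exact le_top
  · obtain ⟨k, hk⟩ := IsPGroup.iff_card.mp hY
    rw [hk]
    apply Nat.Coprime.pow_left
    rw [Nat.coprime_comm]
    exact Nat.Coprime.coprime_dvd_left (Subgroup.card_dvd_of_le inf_le_left)
      (coprime_card_fittingSubgroup hO)

/-- the same for a subgroup `H` of an ambient group and a `p`-group normalising `H` -/
theorem commutator_decomp_ambient [Finite G] {p : ℕ} [hp : Fact p.Prime] (H : Subgroup G)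
    (hO : Cfsg.pCore p ↥H = ⊥) (Y : Subgroup G) (hY : IsPGroup p ↥Y)
    (hYH : Y ≤ Subgroup.normalizer (H : Set G)) (L : Subgroup G)
    (hLF : L ≤ (Cfsg.generalizedFittingSubgroup ↥H).map H.subtype)
    (hLsn : (L.subgroupOf H).IsSubnormal) (hYL : Y ≤ Subgroup.normalizer (L : Set G)) :
    ⁅L, Y⁆ ⊔ (L ⊓ Subgroup.centralizer (Y : Set G)) = L ∧ ⁅L, Y⁆ = ⁅⁅L, Y⁆, Y⁆ := by
  haveI : Group.IsNilpotent Y := hY.isNilpotent
  have hLH : L ≤ H := hLF.trans (Subgroup.map_subtype_le _)
  set S := L.subgroupOf H with hS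
  have hSL : S.map H.subtype = L := Subgroup.map_subgroupOf_eq_of_le hLH
  have hSF : S ≤ generalizedFittingSubgroup ↥H := by
    intro s hs
    obtain ⟨t, ht, hts⟩ := hLF (Subgroup.mem_subgroupOf.mp hs)
    have : t = s := Subtype.ext hts
    rwa [← this]
  set F' := (fittingSubgroup ↥H).map H.subtype with hF'
  have hFL : (fittingSubgroup ↥H ⊓ S).map H.subtype = F' ⊓ L := by
    rw [Subgroup.map_inf _ _ _ H.subtype_injective, hSL]
  apply commutator_decomp L Y hYL ((fittingSubgroup ↥H ⊓ S).map H.subtype) (hFL ▸ inf_le_right)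
    ?_ ?_ inferInstance ((fun K : Subgroup ↥H => K.map H.subtype) '' {K | IsComponent K ∧ K ≤ S})
  · rintro _ ⟨K, ⟨hK, hKS⟩, rfl⟩
    refine ⟨isQuasisimple_map_of_injective _ H.subtype_injective hK.2, ?_, ?_⟩
    · rw [← hSL]; exact Subgroup.map_mono hKS
    · rw [← hSL]
      refine le_trans (Subgroup.map_mono ?_) (Subgroup.le_normalizer_map _)
      exact hSF.trans (generalizedFittingSubgroup_le_normalizer_of_isComponent hK)
  · have h1 := le_layer_sup_fitting_of_le_generalizedFittingSubgroup hLsn hSF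
    rw [layer_map_subtype_eq hLsn] at h1
    have h2 := Subgroup.map_mono (f := H.subtype) h1
    rw [hSL, Subgroup.map_sup, sup_comm] at h2
    refine h2.trans (sup_le_sup le_rfl ?_)
    rw [(Subgroup.gc_map_comap H.subtype).l_sSup]
    refine iSup₂_le fun K hK => ?_
    exact le_sSup ⟨K, hK, rfl⟩
  · rw [hFL]
    refine le_trans (le_inf ?_ hYL) (normalizer_inf_le _ _)
    exact hYH.trans (Cfsg.Agent.Lib.Lead.le_normalizer_map_characteristic H (fittingSubgroup ↥H))
  · obtain ⟨k, hk⟩ := IsPGroup.iff_card.mp hY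
    rw [hk]
    apply Nat.Coprime.pow_left
    rw [Nat.coprime_comm, Subgroup.card_map_of_injective H.subtype_injective]
    exact Nat.Coprime.coprime_dvd_left (Subgroup.card_dvd_of_le inf_le_left)
      (coprime_card_fittingSubgroup hO)

end

end Cfsg.Agent.Lib.Helper6
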