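import Mathlib
import Cfsg.Prelude

set_option autoImplicit false

namespace Cfsg.Agent.Lib.Helper6

open scoped commutatorElement Pointwise

section
variable {G : Type*} [Group G]

/-- In a finite group with the normalizer condition, every subgroup is subnormal. -/
theorem isSubnormal_of_normalizerCondition [Finite G] (hnc : NormalizerCondition G)
    (H : Subgroup G) : H.IsSubnormal := by
  induction H using WellFoundedGT.induction with
  | ind H ih =>
    by_cases h : H = ⊤
    · rw [h]; exact Subgroup.IsSubnormal.top
    · have hlt := hnc H (lt_top_iff_ne_top.mpr h)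
      exact Subgroup.IsSubnormal.step H _ Subgroup.le_normalizer (ih _ hlt)
        Subgroup.normal_in_normalizer

/-- Every subgroup of a finite `p`-group is subnormal. -/
theorem isSubnormal_of_isPGroup [Finite G] {p : ℕ} [Fact p.Prime] (hG : IsPGroup p G)
    (H : Subgroup G) : H.IsSubnormal := by
  haveI : Group.IsNilpotent G := hG.isNilpotent
  exact isSubnormal_of_normalizerCondition normalizerCondition_of_isNilpotent H

/-- A finite intersection of subnormal subgroups is subnormal. -/
theorem isSubnormal_sInf [Finite G] (S : Set (Subgroup G)) (hS : ∀ K ∈ S, K.IsSubnormal) :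
    (sInf S).IsSubnormal := by
  have hfin : S.Finite := Set.toFinite S
  induction S, hfin using Set.Finite.induction_on with
  | empty => simp
  | insert _ _ ih =>
    rw [sInf_insert]
    exact (hS _ (Set.mem_insert _ _)).inf (ih (fun K hK => hS K (Set.mem_insert_of_mem _ hK)))

theorem subnormalClosure_isSubnormal [Finite G] (A : Subgroup G) :
    (Cfsg.subnormalClosure A).IsSubnormal :=
  isSubnormal_sInf _ (fun _ hK => hK.2)

theorem le_subnormalClosure (A : Subgroup G) : A ≤ Cfsg.subnormalClosure A :=
  le_sInf (fun _ hK => hK.1)

theorem subnormalClosure_le {A K : Subgroup G} (hAK : A ≤ K) (hK : K.IsSubnormal) :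
    Cfsg.subnormalClosure A ≤ K :=
  sInf_le ⟨hAK, hK⟩

/-- A subnormal subgroup of a subnormal subgroup, mapped to the big group, is subnormal. -/
theorem isSubnormal_map_subtype {K : Subgroup G} (hK : K.IsSubnormal) {B : Subgroup K}
    (hB : B.IsSubnormal) : (B.map K.subtype).IsSubnormal := by
  refine Subgroup.IsSubnormal.trans (Subgroup.map_subtype_le B) ?_ hK
  have : (B.map K.subtype).subgroupOf K = B := by
    ext x
    rw [Subgroup.mem_subgroupOf]
    constructor
    · rintro ⟨y, hy, hxy⟩
      have : y = x := Subtype.ext hxy
      rw [← this]; exact hy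
    · intro hx
      exact ⟨x, hx, rfl⟩
  rw [this]
  exact hB

end

end Cfsg.Agent.Lib.Helper6
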