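import Mathlib
import Cfsg.Prelude.Def_Local
import Cfsg.Agent.Lib.Helper6.FStarAct

set_option autoImplicit false

namespace Cfsg.Agent.Lib.Helper6

open Cfsg Cfsg.Agent.Lib.Helper3
open scoped commutatorElement

section
variable {G : Type*} [Group G]

/-- `F*(K) = F*(G) ∩ K` for a subnormal subgroup `K`. -/
theorem generalizedFittingSubgroup_map_subtype_eq_of_isSubnormal [Finite G] {K : Subgroup G}
    (hK : K.IsSubnormal) :
    (generalizedFittingSubgroup K).map K.subtype = generalizedFittingSubgroup G ⊓ K := by
  rw [generalizedFittingSubgroup_map_subtype, fittingSubgroup_map_subtype_eq_of_isSubnormal hK]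
  apply le_antisymm
  · apply sup_le
    · exact le_inf ((layer_map_subtype_le hK).trans layer_le_generalizedFittingSubgroup)
        (Subgroup.map_subtype_le _)
    · exact inf_le_inf_right _ fittingSubgroup_le_generalizedFittingSubgroup
  · set S := generalizedFittingSubgroup G ⊓ K with hS
    have hSsn : S.IsSubnormal := (generalizedFittingSubgroup_normal (G := G)).isSubnormal.inf hK
    have h1 := le_layer_sup_fitting_of_le_generalizedFittingSubgroup hSsn inf_le_left
    refine h1.trans (sup_le_sup ?_ (inf_le_inf_left _ inf_le_right))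
    exact layer_map_subtype_mono hSsn hK inf_le_right

/-- if `[L, Y] = [L, Y, Y]` then `[L, Y]` lies in every subnormal subgroup containing `Y` -/
theorem commutator_le_of_isSubnormal_of_stable (L Y : Subgroup G) (h : ⁅L, Y⁆ = ⁅⁅L, Y⁆, Y⁆)
    {K : Subgroup G} (hK : K.IsSubnormal) : Y ≤ K → ⁅L, Y⁆ ≤ K := by
  induction hK with
  | top => intro _; exact le_top
  | step K' K h_le hSubn hN ih =>
    intro hY
    have h1 := ih (hY.trans h_le)
    rw [h]
    refine (Subgroup.commutator_mono h1 hY).trans ?_
    rw [Subgroup.commutator_comm]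
    apply Cfsg.Agent.Lib.Lead.commutator_le_left_of_le_normalizer
    exact (Subgroup.normal_subgroupOf_iff_le_normalizer h_le).mp hN

end

end Cfsg.Agent.Lib.Helper6
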