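import Mathlib
import Cfsg.Prelude.Def_Local
import Cfsg.Agent.Lib.Helper6.FStarAct2
import Cfsg.Agent.Lib.Lead.Coprime
import Cfsg.Agent.Lib.Lead.Frattini

set_option autoImplicit false

namespace Cfsg.Agent.Lib.Helper6

open Cfsg Cfsg.Agent.Lib.Helper3
open scoped commutatorElement

section
variable {G : Type*} [Group G]

theorem mem_centralizer_sup {A B : Subgroup G} {x : G} :
    x ∈ Subgroup.centralizer ((A ⊔ B : Subgroup G) : Set G) ↔
      x ∈ Subgroup.centralizer (A : Set G) ∧ x ∈ Subgroup.centralizer (B : Set G) := by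
  constructor
  · intro h
    exact ⟨Subgroup.centralizer_le (show (A : Set G) ⊆ ((A ⊔ B : Subgroup G) : Set G) from
        fun y hy => (le_sup_left : A ≤ A ⊔ B) hy) h,
      Subgroup.centralizer_le (show (B : Set G) ⊆ ((A ⊔ B : Subgroup G) : Set G) from
        fun y hy => (le_sup_right : B ≤ A ⊔ B) hy) h⟩
  · rintro ⟨hA, hB⟩
    have h1 : A ⊔ B ≤ Subgroup.centralizer ({x} : Set G) := by
      apply sup_le
      · intro a ha
        rw [Subgroup.mem_centralizer_singleton_iff]
        exact (Subgroup.mem_centralizer_iff.mp hA a ha)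
      · intro b hb
        rw [Subgroup.mem_centralizer_singleton_iff]
        exact (Subgroup.mem_centralizer_iff.mp hB b hb)
    rw [Subgroup.mem_centralizer_iff]
    intro y hy
    have := h1 hy
    rw [Subgroup.mem_centralizer_singleton_iff] at this
    exact this

/-- `Z(X) ∩ X' ≤ Φ(X)` -/
theorem center_inf_commutator_le_frattini {X : Type*} [Group X] [Finite X] :
    Subgroup.center X ⊓ commutator X ≤ frattini X := by
  rw [Cfsg.Agent.Lib.Lead.le_frattini_iff]
  intro M hM x hx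
  by_contra hxM
  set Z := Subgroup.zpowers x with hZ
  have hZc : Z ≤ Subgroup.center X := by
    rw [hZ, Subgroup.zpowers_le]; exact hx.1
  have hsup : M ⊔ Z = ⊤ := by
    by_contra hne
    have h1 : M ≤ M ⊔ Z := le_sup_left
    rcases eq_or_lt_of_le h1 with h2 | h2
    · apply hxM
      rw [h2]; exact (le_sup_right : Z ≤ M ⊔ Z) (Subgroup.mem_zpowers x)
    · exact hne (hM.2 _ h2)
  haveI hMn : M.Normal := by
    rw [← Subgroup.normalizer_eq_top_iff, eq_top_iff, ← hsup]
    exact sup_le Subgroup.le_normalizer (hZc.trans (Subgroup.center_le_normalizer _))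
  have hdec : ∀ a : X, ∃ m ∈ M, ∃ z ∈ Z, a = m * z := by
    intro a
    have : a ∈ ((M ⊔ Z : Subgroup X) : Set X) := by rw [hsup]; trivial
    rw [Subgroup.normal_mul] at this
    obtain ⟨m, hm, z, hz, rfl⟩ := this
    exact ⟨m, hm, z, hz, rfl⟩
  have hcomm : commutator X ≤ M := by
    apply Cfsg.Agent.Lib.Lead.commutator_le_of_quotient_comm M
    intro a b
    obtain ⟨a', rfl⟩ := QuotientGroup.mk_surjective a
    obtain ⟨b', rfl⟩ := QuotientGroup.mk_surjective b
    obtain ⟨m₁, hm₁, z₁, hz₁, rfl⟩ := hdec a'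
    obtain ⟨m₂, hm₂, z₂, hz₂, rfl⟩ := hdec b'
    have e1 : (QuotientGroup.mk (m₁ * z₁) : X ⧸ M) = QuotientGroup.mk z₁ := by
      rw [QuotientGroup.mk_mul, (QuotientGroup.eq_one_iff m₁).mpr hm₁, one_mul]
    have e2 : (QuotientGroup.mk (m₂ * z₂) : X ⧸ M) = QuotientGroup.mk z₂ := by
      rw [QuotientGroup.mk_mul, (QuotientGroup.eq_one_iff m₂).mpr hm₂, one_mul]
    rw [e1, e2, ← QuotientGroup.mk_mul, ← QuotientGroup.mk_mul,
      Subgroup.mem_center_iff.mp (hZc hz₁) z₂]
  exact hxM (hcomm hx.2)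

/-- Coprime action: if `K = [K, A]` and `K = R K'` with `(|A|, |R|) = 1` then `C_K(A) ≤ K'`. -/
theorem coprime_fixed_le_commutator [Finite G] (A K R : Subgroup G)
    (hAK : A ≤ Subgroup.normalizer (K : Set G)) (hKA : ⁅K, A⁆ = K) (hRK : R ≤ K)
    (hgen : K ≤ R ⊔ ⁅K, K⁆) (hcop : (Nat.card A).Coprime (Nat.card R)) :
    K ⊓ Subgroup.centralizer (A : Set G) ≤ ⁅K, K⁆ := by
  classical
  set N := Subgroup.normalizer (K : Set G) with hN
  have hKN : K ≤ N := Subgroup.le_normalizer
  set K₁ := K.subgroupOf N with hK₁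
  set A₁ := A.subgroupOf N with hA₁
  set R₁ := R.subgroupOf N with hR₁
  haveI hK₁n : K₁.Normal := Subgroup.normal_in_normalizer
  set D : Subgroup N := ⁅K₁, K₁⁆ with hD
  haveI hDn : D.Normal := Subgroup.commutator_normal K₁ K₁
  have hmapK : K₁.map N.subtype = K := Subgroup.map_subgroupOf_eq_of_le hKN
  have hmapA : A₁.map N.subtype = A := Subgroup.map_subgroupOf_eq_of_le hAK
  have hmapR : R₁.map N.subtype = R := Subgroup.map_subgroupOf_eq_of_le (hRK.trans hKN)
  have hmapD : D.map N.subtype = ⁅K, K⁆ := by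
    rw [hD, Subgroup.map_commutator, hmapK]
  set π : N →* N ⧸ D := QuotientGroup.mk' D with hπ
  have hπs : Function.Surjective π := QuotientGroup.mk'_surjective D
  have hπ1 : ∀ x : N, π x = 1 ↔ x ∈ D := fun x => QuotientGroup.eq_one_iff x
  set V := K₁.map π with hV
  set Ab := A₁.map π with hAb
  haveI hVn : V.Normal := Subgroup.Normal.map hK₁n π hπs
  haveI hVc : IsMulCommutative V := by
    refine ⟨⟨fun a b => ?_⟩⟩
    obtain ⟨a, k₁, hk₁, rfl⟩ := a
    obtain ⟨b, k₂, hk₂, rfl⟩ := b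
    apply Subtype.ext
    show π k₁ * π k₂ = π k₂ * π k₁
    rw [← map_mul, ← map_mul, ← mul_inv_eq_one, ← map_inv, ← map_mul, hπ1]
    have h := Subgroup.commutator_mem_commutator hk₁ hk₂
    rw [commutatorElement_def] at h
    convert h using 1
    group
  have hAbV : Ab ≤ Subgroup.normalizer (V : Set (N ⧸ D)) := by
    rw [Subgroup.normalizer_eq_top_iff.mpr hVn]; exact le_top
  have hVR : V = R₁.map π := by
    apply le_antisymm
    · have h1 : K₁ ≤ R₁ ⊔ D := by
        intro x hx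
        have hx' : (x : G) ∈ R ⊔ ⁅K, K⁆ := hgen (Subgroup.mem_subgroupOf.mp hx)
        rw [← hmapR, ← hmapD, ← Subgroup.map_sup] at hx'
        obtain ⟨y, hy, hyx⟩ := hx'
        have : y = x := Subtype.ext hyx
        rwa [← this]
      refine (Subgroup.map_mono h1).trans ?_
      rw [Subgroup.map_sup]
      apply sup_le le_rfl
      rintro _ ⟨d, hd, rfl⟩
      rw [(hπ1 d).mpr hd]; exact Subgroup.one_mem _
    · apply Subgroup.map_mono
      intro x hx
      exact hRK (Subgroup.mem_subgroupOf.mp hx)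
  have hcop' : (Nat.card Ab).Coprime (Nat.card V) := by
    have h1 : Nat.card Ab ∣ Nat.card A := by
      have := Subgroup.card_dvd_of_surjective (π.subgroupMap A₁) (π.subgroupMap_surjective A₁)
      refine this.trans ?_
      rw [← hmapA, Subgroup.card_map_of_injective N.subtype_injective]
    have h2 : Nat.card V ∣ Nat.card R := by
      rw [hVR]
      have := Subgroup.card_dvd_of_surjective (π.subgroupMap R₁) (π.subgroupMap_surjective R₁)
      refine this.trans ?_
      rw [← hmapR, Subgroup.card_map_of_injective N.subtype_injective]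
    exact Nat.Coprime.coprime_dvd_left h1 (Nat.Coprime.coprime_dvd_right h2 hcop)
  have hdec := (Cfsg.Agent.Lib.Lead.coprime_abelian_decomp Ab V hAbV hcop').1
  have hcomm : ⁅V, Ab⁆ = V := by
    rw [hV, hAb, ← Subgroup.map_commutator]
    congr 1
    apply Subgroup.map_injective N.subtype_injective
    rw [Subgroup.map_commutator, hmapK, hmapA, hKA]
  rw [hcomm, inf_eq_left.mpr inf_le_left] at hdec
  intro x hx
  have hxN : x ∈ N := hKN hx.1
  have h1 : π ⟨x, hxN⟩ ∈ V ⊓ Subgroup.centralizer (Ab : Set (N ⧸ D)) := by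
    refine ⟨⟨⟨x, hxN⟩, Subgroup.mem_subgroupOf.mpr hx.1, rfl⟩, ?_⟩
    show π ⟨x, hxN⟩ ∈ Subgroup.centralizer (Ab : Set (N ⧸ D))
    rw [Subgroup.mem_centralizer_iff]
    rintro _ ⟨a, ha, rfl⟩
    rw [← map_mul, ← map_mul]
    congr 1
    apply Subtype.ext
    exact Subgroup.mem_centralizer_iff.mp hx.2 (a : G) (Subgroup.mem_subgroupOf.mp ha)
  rw [hdec, Subgroup.mem_bot, hπ1] at h1
  rw [← hmapD]
  exact ⟨⟨x, hxN⟩, h1, rfl⟩

end

end Cfsg.Agent.Lib.Helper6
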