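import Mathlib
import Cfsg.Prelude.Def_BaumannBlocks
import Cfsg.Agent.Lib.Helper6.Comm

set_option autoImplicit false

namespace Cfsg.Agent.Lib.Helper6

open scoped Pointwise

/-- `|HK| · |H ∩ K| = |H| · |K|` for the set product of two subgroups. -/
theorem card_setMul_mul_card_inf {G : Type*} [Group G] (H K : Subgroup G) :
    Nat.card ((H : Set G) * (K : Set G) : Set G) * Nat.card ↥(H ⊓ K) = Nat.card H * Nat.card K := by
  rw [Subgroup.card_mul_eq_card_subgroup_mul_card_quotient K (H : Set G)]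
  have h1 : Nat.card ((fun x : G => (x : G ⧸ K)) '' (H : Set G)) * Nat.card ↥(H ⊓ K) = Nat.card H := by
    have e := MulAction.orbitProdStabilizerEquivGroup H ((1 : G) : G ⧸ K)
    have h2 := Nat.card_congr e
    rw [Nat.card_prod] at h2
    have hsm : ∀ h : H, h • ((1 : G) : G ⧸ K) = ((h : G) : G ⧸ K) := by
      intro h
      show (((h : G) * 1 : G) : G ⧸ K) = _
      rw [mul_one]
    have h3 : (MulAction.orbit H ((1 : G) : G ⧸ K)) = (fun x : G => (x : G ⧸ K)) '' (H : Set G) := by
      ext y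
      constructor
      · rintro ⟨h, rfl⟩
        refine ⟨h, h.2, ?_⟩
        exact (hsm h).symm
      · rintro ⟨h, hh, rfl⟩
        exact ⟨⟨h, hh⟩, hsm ⟨h, hh⟩⟩
    have h4 : Nat.card (MulAction.stabilizer H ((1 : G) : G ⧸ K)) = Nat.card ↥(H ⊓ K) := by
      have hmem : ∀ h : H, h ∈ MulAction.stabilizer H ((1 : G) : G ⧸ K) ↔ (h : G) ∈ K := by
        intro h
        rw [MulAction.mem_stabilizer_iff, hsm, QuotientGroup.eq]
        constructor
        · intro hx
          have := K.inv_mem hx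
          simpa using this
        · intro hx
          have := K.inv_mem hx
          simpa using this
      refine Nat.card_congr
        { toFun := fun x => ⟨(x.1 : G), x.1.2, (hmem x.1).mp x.2⟩
          invFun := fun y => ⟨⟨y.1, y.2.1⟩, (hmem _).mpr y.2.2⟩
          left_inv := fun x => rfl
          right_inv := fun y => rfl }
    rw [← h3, ← h4]
    exact h2
  rw [← h1]
  ring


theorem setMul_subset_sup {G : Type*} [Group G] (H K : Subgroup G) :
    (H : Set G) * (K : Set G) ⊆ ((H ⊔ K : Subgroup G) : Set G) := by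
  rintro _ ⟨a, ha, b, hb, rfl⟩
  exact Subgroup.mul_mem_sup ha hb

theorem card_setMul_le_card_sup {G : Type*} [Group G] [Finite G] (H K : Subgroup G) :
    Nat.card ((H : Set G) * (K : Set G) : Set G) ≤ Nat.card ↥(H ⊔ K) :=
  Nat.card_mono (Set.toFinite _) (setMul_subset_sup H K)

/-- the general inequality `|H| |K| ≤ |⟨H, K⟩| |H ∩ K|` -/
theorem card_mul_card_le_sup_inf {G : Type*} [Group G] [Finite G] (H K : Subgroup G) :
    Nat.card H * Nat.card K ≤ Nat.card ↥(H ⊔ K) * Nat.card ↥(H ⊓ K) := by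
  rw [← card_setMul_mul_card_inf]
  exact Nat.mul_le_mul_right _ (card_setMul_le_card_sup H K)

/-- equality in the previous inequality forces `⟨H, K⟩ = HK` -/
theorem coe_sup_eq_setMul_of_card {G : Type*} [Group G] [Finite G] (H K : Subgroup G)
    (h : Nat.card ↥(H ⊔ K) * Nat.card ↥(H ⊓ K) ≤ Nat.card H * Nat.card K) :
    ((H ⊔ K : Subgroup G) : Set G) = (H : Set G) * (K : Set G) := by
  rw [← card_setMul_mul_card_inf H K] at h
  have hpos : 0 < Nat.card ↥(H ⊓ K) := Nat.card_pos
  have h1 : Nat.card ↥(H ⊔ K) ≤ Nat.card ((H : Set G) * (K : Set G) : Set G) :=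
    Nat.le_of_mul_le_mul_right h hpos
  symm
  apply Set.eq_of_subset_of_ncard_le (setMul_subset_sup H K) _ (Set.toFinite _)
  rw [← Nat.card_coe_set_eq, ← Nat.card_coe_set_eq]
  exact h1

section CD

variable {S : Type*} [Group S]

/-- the Chermak–Delgado measure -/
noncomputable def cdm (R : Subgroup S) : ℕ := Nat.card ↥R * Nat.card ↥(Subgroup.centralizer (R : Set S))

theorem cdm_pos [Finite S] (R : Subgroup S) : 0 < cdm R :=
  Nat.mul_pos Nat.card_pos Nat.card_pos

theorem cdm_bddAbove [Finite S] :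
    BddAbove {k : ℕ | ∃ R : Subgroup S, Nat.card ↥R * Nat.card ↥(Subgroup.centralizer (R : Set S)) = k} := by
  refine ⟨Nat.card S * Nat.card S, ?_⟩
  rintro k ⟨R, rfl⟩
  exact Nat.mul_le_mul (Subgroup.card_le_card_group _) (Subgroup.card_le_card_group _)

theorem cdm_le_max [Finite S] (R : Subgroup S) : cdm R ≤ maxCentralizerProduct S :=
  le_csSup cdm_bddAbove ⟨R, rfl⟩

theorem exists_cdm_eq_max [Finite S] : ∃ R : Subgroup S, cdm R = maxCentralizerProduct S :=
  Nat.sSup_mem (s := {k : ℕ | ∃ R : Subgroup S,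
    Nat.card ↥R * Nat.card ↥(Subgroup.centralizer (R : Set S)) = k}) ⟨_, ⊥, rfl⟩ cdm_bddAbove

theorem isCentralizerLarge_iff_cdm (R : Subgroup S) :
    IsCentralizerLarge R ↔ cdm R = maxCentralizerProduct S := Iff.rfl

theorem isCentralizerLarge_of_le [Finite S] (R : Subgroup S) (h : maxCentralizerProduct S ≤ cdm R) :
    IsCentralizerLarge R := le_antisymm (cdm_le_max R) h

theorem setMul_centralizer_subset (Q R : Subgroup S) :
    (Subgroup.centralizer (Q : Set S) : Set S) * (Subgroup.centralizer (R : Set S) : Set S) ⊆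
      (Subgroup.centralizer ((Q ⊓ R : Subgroup S) : Set S) : Set S) := by
  rintro _ ⟨a, ha, b, hb, rfl⟩
  apply Subgroup.mul_mem
  · exact Subgroup.centralizer_le (fun x hx => (inf_le_left : Q ⊓ R ≤ Q) hx) ha
  · exact Subgroup.centralizer_le (fun x hx => (inf_le_right : Q ⊓ R ≤ R) hx) hb

/-- the Chermak–Delgado inequality `m(Q) m(R) ≤ m(⟨Q,R⟩) m(Q ∩ R)` with the intermediate quantities. -/
theorem cdm_mul_le [Finite S] (Q R : Subgroup S) :
    cdm Q * cdm R ≤ cdm (Q ⊔ R) * cdm (Q ⊓ R) := by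
  unfold cdm
  rw [centralizer_sup_eq]
  have h1 := card_mul_card_le_sup_inf Q R
  have h2 := card_setMul_mul_card_inf (Subgroup.centralizer (Q : Set S)) (Subgroup.centralizer (R : Set S))
  have h3 : Nat.card ((Subgroup.centralizer (Q : Set S) : Set S) * (Subgroup.centralizer (R : Set S) : Set S) : Set S)
      ≤ Nat.card ↥(Subgroup.centralizer ((Q ⊓ R : Subgroup S) : Set S)) :=
    Nat.card_mono (Set.toFinite _) (setMul_centralizer_subset Q R)
  calc Nat.card ↥Q * Nat.card ↥(Subgroup.centralizer (Q : Set S)) *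
        (Nat.card ↥R * Nat.card ↥(Subgroup.centralizer (R : Set S)))
      = (Nat.card ↥Q * Nat.card ↥R) * (Nat.card ↥(Subgroup.centralizer (Q : Set S)) *
          Nat.card ↥(Subgroup.centralizer (R : Set S))) := by ring
    _ ≤ (Nat.card ↥(Q ⊔ R) * Nat.card ↥(Q ⊓ R)) *
          (Nat.card ((Subgroup.centralizer (Q : Set S) : Set S) * (Subgroup.centralizer (R : Set S) : Set S) : Set S) *
            Nat.card ↥(Subgroup.centralizer (Q : Set S) ⊓ Subgroup.centralizer (R : Set S))) := by
        rw [h2]; exact Nat.mul_le_mul_right _ h1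
    _ ≤ (Nat.card ↥(Q ⊔ R) * Nat.card ↥(Q ⊓ R)) *
          (Nat.card ↥(Subgroup.centralizer ((Q ⊓ R : Subgroup S) : Set S)) *
            Nat.card ↥(Subgroup.centralizer (Q : Set S) ⊓ Subgroup.centralizer (R : Set S))) :=
        Nat.mul_le_mul_left _ (Nat.mul_le_mul_right _ h3)
    _ = _ := by ring

theorem cd_arith (x1 X1 x2 X2 z y m : ℕ) (h1 : x1 ≤ X1) (h2 : x2 ≤ X2) (ha : X1 * y ≤ m)
    (hb : z * X2 ≤ m) (hm : m * m = (x1 * z) * (x2 * y)) (hz : 0 < z) (hy : 0 < y)
    (hx1 : 0 < x1) (hx2 : 0 < x2) : X1 * y = m ∧ z * X2 = m ∧ x1 = X1 ∧ x2 = X2 := by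
  have hX1 : 0 < X1 := lt_of_lt_of_le hx1 h1
  have hX2 : 0 < X2 := lt_of_lt_of_le hx2 h2
  have hmpos : 0 < m := lt_of_lt_of_le (Nat.mul_pos hX1 hy) ha
  have e1 : x1 = X1 := by
    by_contra hne
    have hlt : x1 < X1 := lt_of_le_of_ne h1 hne
    have : (x1 * z) * (x2 * y) < (X1 * y) * (z * X2) := by
      have h3 : x1 * (z * y) < X1 * (z * y) := Nat.mul_lt_mul_of_pos_right hlt (Nat.mul_pos hz hy)
      have h4 : x1 * (z * y) * x2 ≤ x1 * (z * y) * X2 := Nat.mul_le_mul_left _ h2
      have h5 : x1 * (z * y) * X2 < X1 * (z * y) * X2 := Nat.mul_lt_mul_of_pos_right h3 hX2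
      calc (x1 * z) * (x2 * y) = x1 * (z * y) * x2 := by ring
        _ ≤ x1 * (z * y) * X2 := h4
        _ < X1 * (z * y) * X2 := h5
        _ = _ := by ring
    have h6 : (X1 * y) * (z * X2) ≤ m * m := Nat.mul_le_mul ha hb
    omega
  have e2 : x2 = X2 := by
    by_contra hne
    have hlt : x2 < X2 := lt_of_le_of_ne h2 hne
    have : (x1 * z) * (x2 * y) < (X1 * y) * (z * X2) := by
      have h3 : x2 * (z * y) < X2 * (z * y) := Nat.mul_lt_mul_of_pos_right hlt (Nat.mul_pos hz hy)
      have h4 : x2 * (z * y) * x1 ≤ x2 * (z * y) * X1 := Nat.mul_le_mul_left _ h1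
      have h5 : x2 * (z * y) * X1 < X2 * (z * y) * X1 := Nat.mul_lt_mul_of_pos_right h3 hX1
      calc (x1 * z) * (x2 * y) = x2 * (z * y) * x1 := by ring
        _ ≤ x2 * (z * y) * X1 := h4
        _ < X2 * (z * y) * X1 := h5
        _ = _ := by ring
    have h6 : (X1 * y) * (z * X2) ≤ m * m := Nat.mul_le_mul ha hb
    omega
  subst e1 e2
  have h7 : (x1 * y) * (z * x2) = m * m := by rw [hm]; ring
  have e3 : x1 * y = m := by
    by_contra hne
    have hlt : x1 * y < m := lt_of_le_of_ne ha hne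
    have : (x1 * y) * (z * x2) < m * m := by
      calc (x1 * y) * (z * x2) < m * (z * x2) := Nat.mul_lt_mul_of_pos_right hlt (Nat.mul_pos hz hx2)
        _ ≤ m * m := Nat.mul_le_mul_left _ hb
    omega
  have e4 : z * x2 = m := by
    rw [e3] at h7
    exact Nat.eq_of_mul_eq_mul_left hmpos h7
  exact ⟨e3, e4, rfl, rfl⟩

/-- The Chermak–Delgado lattice theorem. -/
theorem cd_lattice [Finite S] (Q R : Subgroup S) (hQ : IsCentralizerLarge Q) (hR : IsCentralizerLarge R) :
    IsCentralizerLarge (Q ⊔ R) ∧ IsCentralizerLarge (Q ⊓ R) ∧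
    ((Q ⊔ R : Subgroup S) : Set S) = (Q : Set S) * (R : Set S) ∧
    (Subgroup.centralizer ((Q ⊓ R : Subgroup S) : Set S) : Set S) =
      (Subgroup.centralizer (Q : Set S) : Set S) * (Subgroup.centralizer (R : Set S) : Set S) := by
  have hQ' : cdm Q = maxCentralizerProduct S := hQ
  have hR' : cdm R = maxCentralizerProduct S := hR
  have ha := cdm_le_max (Q ⊔ R)
  have hb := cdm_le_max (Q ⊓ R)
  unfold cdm at hQ' hR' ha hb
  rw [centralizer_sup_eq] at ha
  have e1 := card_setMul_mul_card_inf Q R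
  have e2 := card_setMul_mul_card_inf (Subgroup.centralizer (Q : Set S)) (Subgroup.centralizer (R : Set S))
  have h1 := card_setMul_le_card_sup Q R
  have h2 : Nat.card ((Subgroup.centralizer (Q : Set S) : Set S) * (Subgroup.centralizer (R : Set S) : Set S) : Set S)
      ≤ Nat.card ↥(Subgroup.centralizer ((Q ⊓ R : Subgroup S) : Set S)) :=
    Nat.card_mono (Set.toFinite _) (setMul_centralizer_subset Q R)
  have hne1 : ((Q : Set S) * (R : Set S)).Nonempty := ⟨1 * 1, 1, Q.one_mem, 1, R.one_mem, rfl⟩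
  have hne2 : ((Subgroup.centralizer (Q : Set S) : Set S) * (Subgroup.centralizer (R : Set S) : Set S)).Nonempty :=
    ⟨1 * 1, 1, Subgroup.one_mem _, 1, Subgroup.one_mem _, rfl⟩
  have hx1 : 0 < Nat.card ((Q : Set S) * (R : Set S) : Set S) := by
    haveI : Nonempty ((Q : Set S) * (R : Set S) : Set S) := hne1.to_subtype
    exact Nat.card_pos
  have hx2 : 0 < Nat.card ((Subgroup.centralizer (Q : Set S) : Set S) * (Subgroup.centralizer (R : Set S) : Set S) : Set S) := by
    haveI : Nonempty ((Subgroup.centralizer (Q : Set S) : Set S) * (Subgroup.centralizer (R : Set S) : Set S) : Set S) :=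
      hne2.to_subtype
    exact Nat.card_pos
  have hm : maxCentralizerProduct S * maxCentralizerProduct S =
      (Nat.card ((Q : Set S) * (R : Set S) : Set S) * Nat.card ↥(Q ⊓ R)) *
      (Nat.card ((Subgroup.centralizer (Q : Set S) : Set S) * (Subgroup.centralizer (R : Set S) : Set S) : Set S) *
        Nat.card ↥(Subgroup.centralizer (Q : Set S) ⊓ Subgroup.centralizer (R : Set S))) := by
    rw [e1, e2]
    nth_rewrite 1 [← hQ']
    rw [← hR']
    ring
  obtain ⟨r1, r2, r3, r4⟩ := cd_arith _ _ _ _ _ _ _ h1 h2 ha hb hm Nat.card_pos Nat.card_pos hx1 hx2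
  refine ⟨?_, ?_, ?_, ?_⟩
  · show cdm (Q ⊔ R) = _
    unfold cdm
    rw [centralizer_sup_eq]
    exact r1
  · exact r2
  · symm
    apply Set.eq_of_subset_of_ncard_le (setMul_subset_sup Q R) _ (Set.toFinite _)
    rw [← Nat.card_coe_set_eq, ← Nat.card_coe_set_eq]
    exact r3.symm.le
  · symm
    apply Set.eq_of_subset_of_ncard_le (setMul_centralizer_subset Q R) _ (Set.toFinite _)
    rw [← Nat.card_coe_set_eq, ← Nat.card_coe_set_eq]
    exact r4.symm.le

theorem le_centralizer_centralizer (Q : Subgroup S) :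
    Q ≤ Subgroup.centralizer ((Subgroup.centralizer (Q : Set S) : Subgroup S) : Set S) := by
  intro x hx
  rw [Subgroup.mem_centralizer_iff]
  intro y hy
  exact (Subgroup.mem_centralizer_iff.mp hy x hx).symm

/-- the centralizer of a member of the CD lattice is a member, and `Q = C(C(Q))` -/
theorem cd_centralizer [Finite S] (Q : Subgroup S) (hQ : IsCentralizerLarge Q) :
    IsCentralizerLarge (Subgroup.centralizer (Q : Set S)) ∧
    Q = Subgroup.centralizer ((Subgroup.centralizer (Q : Set S) : Subgroup S) : Set S) := by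
  have hQ' : cdm Q = maxCentralizerProduct S := hQ
  have hle := le_centralizer_centralizer Q
  have hcard : Nat.card ↥Q ≤
      Nat.card ↥(Subgroup.centralizer ((Subgroup.centralizer (Q : Set S) : Subgroup S) : Set S)) :=
    Subgroup.card_le_of_le hle
  have h1 := cdm_le_max (Subgroup.centralizer (Q : Set S))
  unfold cdm at hQ' h1
  have hpos : 0 < Nat.card ↥(Subgroup.centralizer (Q : Set S)) := Nat.card_pos
  have h2 : Nat.card ↥(Subgroup.centralizer ((Subgroup.centralizer (Q : Set S) : Subgroup S) : Set S)) ≤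
      Nat.card ↥Q := by
    rw [← hQ', mul_comm] at h1
    exact Nat.le_of_mul_le_mul_right h1 hpos
  have h3 := le_antisymm hcard h2
  refine ⟨?_, ?_⟩
  · show cdm _ = _
    unfold cdm
    rw [← h3, mul_comm]
    exact hQ'
  · exact Subgroup.eq_of_le_of_card_ge hle h2

end CD

end Cfsg.Agent.Lib.Helper6
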