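import Cfsg.Agent.Lib.Helper6.TC11

set_option autoImplicit false

namespace Cfsg.Agent.Lib.Helper6.TC

/-- two functions agree on a range -/
noncomputable def chkEqF (f g : ℕ → ℕ) (lo len : ℕ) : Bool :=
  allR (fun p => Nat.beq (f p) (g p)) lo len

theorem chkEqF_spec {f g : ℕ → ℕ} {lo len : ℕ} (h : chkEqF f g lo len = true) :
    ∀ p, lo ≤ p → p < lo + len → f p = g p := by
  intro p h1 h2
  have := allR_spec h p h1 h2
  rw [Nat.beq_eq] at this
  exact this

end Cfsg.Agent.Lib.Helper6.TC
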