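import Cfsg.Agent.Lib.Helper6.TC12
import Cfsg.Agent.Lib.Helper6.TC13

set_option autoImplicit false

namespace Cfsg.Agent.Lib.Helper6.TC

/-- the action of a power word through a tabulated period -/
theorem wapp_pow {px : ℕ → ℕ → ℕ} {N ncol INV : ℕ} (hP : PHyp px N ncol INV) {u : List ℕ}
    (hu : ∀ c ∈ u, c < ncol) {Q : ℕ → ℕ} (hQ : ∀ p < N, Q p = wapp px u p) :
    ∀ (k p : ℕ), p < N → wapp px (List.replicate k u).flatten p = Q^[k] p := by
  intro k
  induction k with
  | zero => intro p _; rfl
  | succ k ih =>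
    intro p hp
    rw [List.replicate_succ, List.flatten_cons, wapp_append, Function.iterate_succ_apply,
      ← hQ p hp]
    have hq : Q p < N := by rw [hQ p hp]; exact wapp_lt hP u hu p hp
    exact ih _ hq

end Cfsg.Agent.Lib.Helper6.TC
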