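import Mathlib
import Cfsg.Agent.Lib.Helper2.G2LDefs

set_option autoImplicit false
set_option linter.style.haveILetI false
set_option linter.unusedVariables false

/-!
# S3801, package E3 : the representation on `Hom(D / Z(D), K')` and its plane element

Layer L : for a representation `ρ` of `H` on a finite dimensional `F`-space `W` and a field extension
`K'` of `F`, the representation `homRep ρ` on `W →ₗ[F] K'`, `h • f = f ∘ ρ h⁻¹`.
-/

namespace Cfsg.Agent.Lib.Helper6.G2LE3

open Cfsg Cfsg.Agent.Lib.Helper2.G2L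

universe u v

section L

variable {F : Type*} [Field F] {K' : Type*} [Field K'] [Algebra F K'] {H : Type*} [Group H]
  {W : Type*} [AddCommGroup W] [Module F W]

/-- the representation on `Hom_F(W, K')`: `h • f = f ∘ ρ h⁻¹` -/
noncomputable def homRep (ρ : Representation F H W) : Representation K' H (W →ₗ[F] K') where
  toFun h :=
    { toFun := fun f => f.comp (ρ h⁻¹)
      map_add' := fun f₁ f₂ => by
        ext w
        simp
      map_smul' := fun c f => by
        ext w
        simp }
  map_one' := by
    ext f w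
    simp
  map_mul' := fun h₁ h₂ => by
    ext f w
    simp [mul_inv_rev]

theorem homRep_apply (ρ : Representation F H W) (h : H) (f : W →ₗ[F] K') (w : W) :
    homRep ρ h f w = f (ρ h⁻¹ w) := rfl

theorem finrank_hom [FiniteDimensional F W] :
    Module.finrank K' (W →ₗ[F] K') = Module.finrank F W := by
  classical
  let b := Module.finBasis F W
  have e : (Fin (Module.finrank F W) → K') ≃ₗ[K'] (W →ₗ[F] K') := b.constr K'
  rw [← e.finrank_eq, Module.finrank_fin_fun]

theorem finite_hom [FiniteDimensional F W] : FiniteDimensional K' (W →ₗ[F] K') := by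
  classical
  let b := Module.finBasis F W
  have e : (Fin (Module.finrank F W) → K') ≃ₗ[K'] (W →ₗ[F] K') := b.constr K'
  exact Module.Finite.equiv e

theorem homRep_eq_one_iff [FiniteDimensional F W] (ρ : Representation F H W) (h : H) :
    homRep (K' := K') ρ h = 1 ↔ ρ h = 1 := by
  constructor
  · intro hh
    have h1 : ∀ w : W, ρ h⁻¹ w = w := by
      intro w
      rw [← sub_eq_zero, ← Module.forall_dual_apply_eq_zero_iff F]
      intro φ
      have h2 := congrArg (fun e : Module.End K' (W →ₗ[F] K') =>
        e ((Algebra.linearMap F K').comp φ) w) hh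
      simp only [homRep_apply, Module.End.one_apply, LinearMap.comp_apply,
        Algebra.linearMap_apply] at h2
      have h3 := (algebraMap F K').injective h2
      rw [map_sub, h3, sub_self]
    apply LinearMap.ext
    intro w
    have h4 : ρ h (ρ h⁻¹ w) = w := by
      rw [← Module.End.mul_apply, ← map_mul, mul_inv_cancel, map_one, Module.End.one_apply]
    rw [h1 w] at h4
    rw [h4, Module.End.one_apply]
  · intro hh
    apply LinearMap.ext
    intro f
    apply LinearMap.ext
    intro w
    have h1 : ρ h⁻¹ = 1 := by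
      have : ρ h⁻¹ * ρ h = 1 := by rw [← map_mul, inv_mul_cancel, map_one]
      rw [hh, mul_one] at this
      exact this
    rw [homRep_apply, h1, Module.End.one_apply, Module.End.one_apply]

/-- the plane element: if `t = g ^ m` is an involution, `g` fixes the fixed vectors of `t` and the
`-1`-eigenspace of `t` is a plane, then `g` is of plane type on `Hom_F(W, K')` -/
theorem planeType_homRep [FiniteDimensional F W] (ρ : Representation F H W) (h2 : (2 : F) ≠ 0)
    (g : H) (m : ℕ) (hg2 : (g ^ m) ^ 2 = 1)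
    (hfix : ∀ w : W, ρ (g ^ m) w = w → ρ g w = w)
    (hdim : Module.finrank F (LinearMap.ker (ρ (g ^ m) + 1)) = 2) :
    PlaneType (homRep (K' := K') ρ g) m := by
  classical
  set t : H := g ^ m with ht
  have h2K : (2 : K') ≠ 0 := by
    have h1 : (algebraMap F K') 2 ≠ 0 := by
      intro h0
      rw [← map_zero (algebraMap F K')] at h0
      exact h2 ((algebraMap F K').injective h0)
    rwa [map_ofNat] at h1
  have htinv : t⁻¹ = t := by
    rw [inv_eq_iff_mul_eq_one, ← pow_two]
    exact hg2
  have htt : ∀ w : W, ρ t (ρ t w) = w := by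
    intro w
    rw [← Module.End.mul_apply, ← map_mul, ← pow_two, hg2, map_one, Module.End.one_apply]
  have hgt : g * t = t * g := by
    rw [ht, ← pow_succ', ← pow_succ]
  have hginv : ∀ w : W, ρ g w = w → ρ g⁻¹ w = w := by
    intro w hw
    have h1 : ρ g⁻¹ (ρ g w) = w := by
      rw [← Module.End.mul_apply, ← map_mul, inv_mul_cancel, map_one, Module.End.one_apply]
    rw [hw] at h1
    exact h1
  have hgit : g⁻¹ * t = t * g⁻¹ := by
    rw [eq_mul_inv_iff_mul_eq, mul_assoc, ← hgt, ← mul_assoc, inv_mul_cancel, one_mul]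
  have hgitw : ∀ w : W, ρ g⁻¹ (ρ t w) = ρ t (ρ g⁻¹ w) := by
    intro w
    rw [← Module.End.mul_apply, ← map_mul, hgit, map_mul, Module.End.mul_apply]
  set σ : Representation K' H (W →ₗ[F] K') := homRep ρ with hσ
  set T : Module.End K' (W →ₗ[F] K') := σ t with hT
  have hTapp : ∀ (f : W →ₗ[F] K') (w : W), T f w = f (ρ t w) := by
    intro f w
    rw [hT, hσ, homRep_apply, htinv]
  have hTT : ∀ f : W →ₗ[F] K', T (T f) = f := by
    intro f
    apply LinearMap.ext
    intro w
    rw [hTapp, hTapp, htt]
  have hσgT : ∀ f : W →ₗ[F] K', T (σ g f) = σ g (T f) := by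
    intro f
    rw [hT, ← Module.End.mul_apply, ← Module.End.mul_apply, ← map_mul, ← map_mul, hgt]
  -- decomposition of `W`
  have hdec : ∀ w : W, (2 : F)⁻¹ • (w + ρ t w) + (2 : F)⁻¹ • (w - ρ t w) = w := by
    intro w
    rw [← smul_add]
    have : w + ρ t w + (w - ρ t w) = (2 : F) • w := by
      rw [two_smul]; abel
    rw [this, smul_smul, inv_mul_cancel₀ h2, one_smul]
  refine ⟨LinearMap.ker (T + 1), LinearMap.ker (T - 1), ?_, ?_, ?_, ?_, ?_⟩
  · -- complement
    rw [isCompl_iff]
    constructor
    · rw [Submodule.disjoint_def]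
      intro f hf1 hf2
      rw [LinearMap.mem_ker, LinearMap.add_apply, Module.End.one_apply] at hf1
      rw [LinearMap.mem_ker, LinearMap.sub_apply, Module.End.one_apply] at hf2
      have h3 : (2 : K') • f = 0 := by
        rw [two_smul]
        have h4 : T f = f := sub_eq_zero.mp hf2
        rw [h4] at hf1
        exact hf1
      rcases smul_eq_zero.mp h3 with h | h
      · exact absurd h h2K
      · exact h
    · rw [codisjoint_iff, eq_top_iff]
      intro f _
      rw [Submodule.mem_sup]
      refine ⟨(2 : K')⁻¹ • (f - T f), ?_, (2 : K')⁻¹ • (f + T f), ?_, ?_⟩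
      · apply Submodule.smul_mem
        rw [LinearMap.mem_ker, LinearMap.add_apply, Module.End.one_apply, map_sub, hTT]
        abel
      · apply Submodule.smul_mem
        rw [LinearMap.mem_ker, LinearMap.sub_apply, Module.End.one_apply, map_add, hTT]
        abel
      · rw [← smul_add]
        have : f - T f + (f + T f) = (2 : K') • f := by
          rw [two_smul]; abel
        rw [this, smul_smul, inv_mul_cancel₀ h2K, one_smul]
  · -- the dimension of the plane
    set Wm : Submodule F W := LinearMap.ker (ρ t + 1) with hWm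
    have hWm_mem : ∀ w : W, w ∈ Wm ↔ ρ t w = -w := by
      intro w
      rw [hWm, LinearMap.mem_ker, LinearMap.add_apply, Module.End.one_apply,
        add_eq_zero_iff_eq_neg]
    have hproj : ∀ w : W, ((2 : F)⁻¹ • ((1 : Module.End F W) - ρ t)) w ∈ Wm := by
      intro w
      rw [hWm_mem, LinearMap.smul_apply, LinearMap.sub_apply, Module.End.one_apply, map_smul,
        map_sub, htt, ← smul_neg, neg_sub]
    let proj : W →ₗ[F] Wm := LinearMap.codRestrict Wm ((2 : F)⁻¹ • ((1 : Module.End F W) - ρ t)) hproj
    have hproj_app : ∀ w : W, ((proj w : Wm) : W) = (2 : F)⁻¹ • (w - ρ t w) := by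
      intro w
      rfl
    let e : LinearMap.ker (T + 1) →ₗ[K'] (Wm →ₗ[F] K') :=
      { toFun := fun f => (f : W →ₗ[F] K').comp Wm.subtype
        map_add' := fun f₁ f₂ => by
          ext w
          simp
        map_smul' := fun c f => by
          ext w
          simp }
    have hmemP : ∀ f : W →ₗ[F] K', f ∈ LinearMap.ker (T + 1) ↔ ∀ w, f (ρ t w) = - f w := by
      intro f
      rw [LinearMap.mem_ker, LinearMap.add_apply, Module.End.one_apply, add_eq_zero_iff_eq_neg]
      constructor
      · intro h w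
        rw [← hTapp, h, LinearMap.neg_apply]
      · intro h
        apply LinearMap.ext
        intro w
        rw [hTapp, h, LinearMap.neg_apply]
    have hbij : Function.Bijective e := by
      constructor
      · rw [injective_iff_map_eq_zero]
        intro f hf
        apply Subtype.ext
        apply LinearMap.ext
        intro w
        have hfP := (hmemP f.1).mp f.2
        have h5 : (f : W →ₗ[F] K') ((2 : F)⁻¹ • (w - ρ t w)) = 0 := by
          have := congrArg (fun φ : Wm →ₗ[F] K' => φ (proj w)) hf
          simpa [e, hproj_app] using this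
        have h6 : (f : W →ₗ[F] K') ((2 : F)⁻¹ • (w + ρ t w)) = 0 := by
          rw [map_smul, map_add, hfP, add_neg_cancel, smul_zero]
        have h7 := congrArg (f : W →ₗ[F] K') (hdec w)
        rw [map_add, h5, h6, add_zero] at h7
        rw [← h7]
        rfl
      · intro φ
        have hφP : φ.comp proj ∈ LinearMap.ker (T + 1) := by
          rw [hmemP]
          intro w
          rw [LinearMap.comp_apply, LinearMap.comp_apply, ← map_neg]
          congr 1
          apply Subtype.ext
          rw [hproj_app, Submodule.coe_neg, hproj_app, htt, ← smul_neg, neg_sub]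
        refine ⟨⟨φ.comp proj, hφP⟩, ?_⟩
        apply LinearMap.ext
        intro w
        show φ (proj (w : W)) = φ w
        congr 1
        apply Subtype.ext
        rw [hproj_app, (hWm_mem w).mp w.2, sub_neg_eq_add, ← two_smul F (w : W), smul_smul,
          inv_mul_cancel₀ h2, one_smul]
    have h8 := (LinearEquiv.ofBijective e hbij).finrank_eq
    rw [h8, finrank_hom, hdim]
  · -- `g` is trivial on the complement
    intro f hf
    rw [LinearMap.mem_ker, LinearMap.sub_apply, Module.End.one_apply, sub_eq_zero] at hf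
    have hf' : ∀ w, f (ρ t w) = f w := by
      intro w
      rw [← hTapp, hf]
    apply LinearMap.ext
    intro w
    rw [hσ, homRep_apply]
    have h3 : ∀ w : W, f ((2 : F)⁻¹ • (w - ρ t w)) = 0 := by
      intro w
      rw [map_smul, map_sub, hf', sub_self, smul_zero]
    have h4 : ρ g⁻¹ ((2 : F)⁻¹ • (w + ρ t w)) = (2 : F)⁻¹ • (w + ρ t w) := by
      apply hginv
      apply hfix
      rw [map_smul, map_add, htt, add_comm]
    have h5 : ρ g⁻¹ ((2 : F)⁻¹ • (w - ρ t w)) = (2 : F)⁻¹ • (ρ g⁻¹ w - ρ t (ρ g⁻¹ w)) := by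
      rw [map_smul, map_sub, hgitw]
    calc f (ρ g⁻¹ w) = f (ρ g⁻¹ ((2 : F)⁻¹ • (w + ρ t w) + (2 : F)⁻¹ • (w - ρ t w))) := by
          rw [hdec]
      _ = f ((2 : F)⁻¹ • (w + ρ t w)) := by
          rw [map_add, map_add, h4, h5, h3, add_zero]
      _ = f ((2 : F)⁻¹ • (w + ρ t w) + (2 : F)⁻¹ • (w - ρ t w)) := by
          rw [map_add, h3, add_zero]
      _ = f w := by rw [hdec]
  · -- the plane is invariant
    intro f hf
    rw [LinearMap.mem_ker, LinearMap.add_apply, Module.End.one_apply] at hf ⊢
    rw [hσgT, ← map_add, hf, map_zero]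
  · -- `g ^ m = -1` on the plane
    intro f hf
    rw [LinearMap.mem_ker, LinearMap.add_apply, Module.End.one_apply,
      add_eq_zero_iff_eq_neg] at hf
    rw [← map_pow, ← ht]
    exact hf

end L

section AG

/-- an involution of a vector space in characteristic `≠ 2` splits it -/
theorem isCompl_ker_invol {R : Type*} [Field R] {M : Type*} [AddCommGroup M] [Module R M]
    (T : Module.End R M) (hTT : ∀ x : M, T (T x) = x) (h2 : (2 : R) ≠ 0) :
    IsCompl (LinearMap.ker (T + 1)) (LinearMap.ker (T - 1)) := by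
  rw [isCompl_iff]
  constructor
  · rw [Submodule.disjoint_def]
    intro f hf1 hf2
    rw [LinearMap.mem_ker, LinearMap.add_apply, Module.End.one_apply] at hf1
    rw [LinearMap.mem_ker, LinearMap.sub_apply, Module.End.one_apply] at hf2
    have h3 : (2 : R) • f = 0 := by
      rw [two_smul]
      have h4 : T f = f := sub_eq_zero.mp hf2
      rw [h4] at hf1
      exact hf1
    rcases smul_eq_zero.mp h3 with h | h
    · exact absurd h h2
    · exact h
  · rw [codisjoint_iff, eq_top_iff]
    intro f _
    rw [Submodule.mem_sup]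
    refine ⟨(2 : R)⁻¹ • (f - T f), ?_, (2 : R)⁻¹ • (f + T f), ?_, ?_⟩
    · apply Submodule.smul_mem
      rw [LinearMap.mem_ker, LinearMap.add_apply, Module.End.one_apply, map_sub, hTT]
      abel
    · apply Submodule.smul_mem
      rw [LinearMap.mem_ker, LinearMap.sub_apply, Module.End.one_apply, map_add, hTT]
      abel
    · rw [← smul_add]
      have : f - T f + (f + T f) = (2 : R) • f := by
        rw [two_smul]; abel
      rw [this, smul_smul, inv_mul_cancel₀ h2, one_smul]

theorem two_ne_zero_zmod (q : ℕ) [Fact q.Prime] (hq2 : q ≠ 2) : (2 : ZMod q) ≠ 0 := by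
  have hq : q.Prime := Fact.out
  intro h
  have h1 : ((2 : ℕ) : ZMod q) = 0 := by exact_mod_cast h
  rw [ZMod.natCast_eq_zero_iff] at h1
  have h2 := Nat.le_of_dvd (by norm_num) h1
  have h3 := hq.two_le
  omega

/-- the abstract form of E3 : a representation over `ZMod q` on a finite module -/
theorem exists_plane_rep_of_rep {H : Type*} [Group H] (q : ℕ) [Fact q.Prime] (hq2 : q ≠ 2)
    {W : Type u} [AddCommGroup W] [Module (ZMod q) W] [Finite W]
    (ρ : Representation (ZMod q) H W) (g : H) (m : ℕ) (hg2 : (g ^ m) ^ 2 = 1)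
    (hfix : ∀ w : W, ρ (g ^ m) w = w → ρ g w = w)
    (hidx : Nat.card W = q ^ 2 * Nat.card {w : W // ρ (g ^ m) w = w}) :
    ∃ (K' : Type) (_ : Field K') (_ : IsAlgClosed K') (U' : Type u) (_ : AddCommGroup U')
      (_ : Module K' U') (_ : FiniteDimensional K' U') (σ : Representation K' H U'),
      (2 : K') ≠ 0 ∧ (∀ h : H, σ h = 1 ↔ ρ h = 1) ∧ PlaneType (σ g) m := by
  classical
  have hq : q.Prime := Fact.out
  haveI : FiniteDimensional (ZMod q) W := Module.Finite.of_finite
  have h2 : (2 : ZMod q) ≠ 0 := two_ne_zero_zmod q hq2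
  have h2K : (2 : AlgebraicClosure (ZMod q)) ≠ 0 := by
    have h1 : (algebraMap (ZMod q) (AlgebraicClosure (ZMod q))) 2 ≠ 0 := by
      intro h0
      rw [← map_zero (algebraMap (ZMod q) (AlgebraicClosure (ZMod q)))] at h0
      exact h2 ((algebraMap (ZMod q) (AlgebraicClosure (ZMod q))).injective h0)
    rwa [map_ofNat] at h1
  set t : H := g ^ m with ht
  have htt : ∀ w : W, ρ t (ρ t w) = w := by
    intro w
    rw [← Module.End.mul_apply, ← map_mul, ← pow_two, hg2, map_one, Module.End.one_apply]
  have hcompl := isCompl_ker_invol (ρ t) htt h2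
  have hsum := Submodule.finrank_add_eq_of_isCompl hcompl
  have hcW : Nat.card W = q ^ Module.finrank (ZMod q) W := by
    rw [Module.natCard_eq_pow_finrank (K := ZMod q) (V := W), Nat.card_zmod]
  have hcF : Nat.card (LinearMap.ker (ρ t - 1)) =
      q ^ Module.finrank (ZMod q) (LinearMap.ker (ρ t - 1)) := by
    rw [Module.natCard_eq_pow_finrank (K := ZMod q) (V := LinearMap.ker (ρ t - 1)), Nat.card_zmod]
  have hcF' : Nat.card {w : W // ρ t w = w} = Nat.card (LinearMap.ker (ρ t - 1)) := by
    apply Nat.card_congr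
    apply Equiv.subtypeEquivRight
    intro w
    rw [LinearMap.mem_ker, LinearMap.sub_apply, Module.End.one_apply, sub_eq_zero]
  have hdim : Module.finrank (ZMod q) (LinearMap.ker (ρ t + 1)) = 2 := by
    rw [hcW, hcF', hcF, ← pow_add] at hidx
    have h3 := Nat.pow_right_injective hq.two_le hidx
    omega
  refine ⟨AlgebraicClosure (ZMod q), inferInstance, inferInstance,
    W →ₗ[ZMod q] AlgebraicClosure (ZMod q), inferInstance, inferInstance, finite_hom,
    homRep ρ, h2K, fun h => homRep_eq_one_iff ρ h, ?_⟩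
  exact planeType_homRep ρ h2 g m hg2 hfix hdim

end AG

section AG2

/-- the group form of E3, with the `ZMod q`-module structure as an instance argument -/
theorem exists_plane_rep_of_action_aux {H : Type*} [Group H] (q : ℕ) [Fact q.Prime] (hq2 : q ≠ 2)
    {U : Type u} [CommGroup U] [Finite U] [Module (ZMod q) (Additive U)]
    (α : H → U →* U) (hα1 : ∀ u, α 1 u = u)
    (hαmul : ∀ h₁ h₂ u, α (h₁ * h₂) u = α h₁ (α h₂ u))
    (g : H) (m : ℕ) (hg2 : (g ^ m) ^ 2 = 1)
    (hfix : ∀ u : U, α (g ^ m) u = u → α g u = u)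
    (hidx : Nat.card U = q ^ 2 * Nat.card {u : U // α (g ^ m) u = u}) :
    ∃ (K' : Type) (_ : Field K') (_ : IsAlgClosed K') (U' : Type u) (_ : AddCommGroup U')
      (_ : Module K' U') (_ : FiniteDimensional K' U') (σ : Representation K' H U'),
      (2 : K') ≠ 0 ∧ (∀ h : H, σ h = 1 ↔ ∀ u, α h u = u) ∧ PlaneType (σ g) m := by
  classical
  let ρ : Representation (ZMod q) H (Additive U) :=
    { toFun := fun h => AddMonoidHom.toZModLinearMap q (MonoidHom.toAdditive (α h))
      map_one' := by
        apply LinearMap.ext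
        intro x
        obtain ⟨a, rfl⟩ := Additive.ofMul.surjective x
        show Additive.ofMul (α 1 a) = Additive.ofMul a
        rw [hα1]
      map_mul' := by
        intro h₁ h₂
        apply LinearMap.ext
        intro x
        obtain ⟨a, rfl⟩ := Additive.ofMul.surjective x
        show Additive.ofMul (α (h₁ * h₂) a) = Additive.ofMul (α h₁ (α h₂ a))
        rw [hαmul] }
  have hρ : ∀ (h : H) (u : U), ρ h (Additive.ofMul u) = Additive.ofMul (α h u) := fun _ _ => rfl
  haveI : Finite (Additive U) := inferInstanceAs (Finite U)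
  have hfixW : ∀ w : Additive U, ρ (g ^ m) w = w → ρ g w = w := by
    intro w hw
    obtain ⟨a, rfl⟩ := Additive.ofMul.surjective w
    rw [hρ] at hw ⊢
    rw [hfix a (Additive.ofMul.injective hw)]
  have hidxW : Nat.card (Additive U) =
      q ^ 2 * Nat.card {w : Additive U // ρ (g ^ m) w = w} := by
    have h1 : Nat.card (Additive U) = Nat.card U := rfl
    have h3 : Nat.card {w : Additive U // ρ (g ^ m) w = w} =
        Nat.card {u : U // α (g ^ m) u = u} := by
      apply Nat.card_congr
      apply Equiv.subtypeEquiv Additive.toMul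
      intro w
      obtain ⟨a, rfl⟩ := Additive.ofMul.surjective w
      rw [hρ]
      constructor
      · intro h
        exact Additive.ofMul.injective h
      · intro h
        exact congrArg Additive.ofMul h
    rw [h1, h3]
    exact hidx
  obtain ⟨K', i1, i2, U', i3, i4, i5, σ, h2, hker, hpl⟩ :=
    exists_plane_rep_of_rep q hq2 ρ g m hg2 hfixW hidxW
  refine ⟨K', i1, i2, U', i3, i4, i5, σ, h2, ?_, hpl⟩
  intro h
  rw [hker h]
  constructor
  · intro hh u
    have h1 := congrArg (fun e : Module.End (ZMod q) (Additive U) => e (Additive.ofMul u)) hh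
    exact Additive.ofMul.injective h1
  · intro hh
    apply LinearMap.ext
    intro x
    obtain ⟨a, rfl⟩ := Additive.ofMul.surjective x
    rw [hρ, hh]
    rfl

/-- the group form of E3 -/
theorem exists_plane_rep_of_action {H : Type*} [Group H] (q : ℕ) [Fact q.Prime] (hq2 : q ≠ 2)
    {U : Type u} [Group U] [Finite U] (hcomm : ∀ a b : U, a * b = b * a)
    (hexp : ∀ a : U, a ^ q = 1)
    (α : H → U →* U) (hα1 : ∀ u, α 1 u = u)
    (hαmul : ∀ h₁ h₂ u, α (h₁ * h₂) u = α h₁ (α h₂ u))
    (g : H) (m : ℕ) (hg2 : (g ^ m) ^ 2 = 1)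
    (hfix : ∀ u : U, α (g ^ m) u = u → α g u = u)
    (hidx : Nat.card U = q ^ 2 * Nat.card {u : U // α (g ^ m) u = u}) :
    ∃ (K' : Type) (_ : Field K') (_ : IsAlgClosed K') (U' : Type u) (_ : AddCommGroup U')
      (_ : Module K' U') (_ : FiniteDimensional K' U') (σ : Representation K' H U'),
      (2 : K') ≠ 0 ∧ (∀ h : H, σ h = 1 ↔ ∀ u, α h u = u) ∧ PlaneType (σ g) m := by
  letI instCG : CommGroup U := { (inferInstance : Group U) with mul_comm := hcomm }
  have hexpW : ∀ x : Additive U, q • x = 0 := by
    intro x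
    obtain ⟨a, rfl⟩ := Additive.ofMul.surjective x
    rw [← ofMul_pow]
    exact congrArg Additive.ofMul (hexp a)
  exact @exists_plane_rep_of_action_aux H _ q _ hq2 U instCG _ (AddCommGroup.zmodModule hexpW)
    α hα1 hαmul g m hg2 hfix hidx

end AG2

section Concrete

variable {H : Type u} [Group H]

/-- the coset argument: an involution fixing a coset of an odd order central element fixes an
element of the coset -/
theorem exists_fixed_in_coset (D : Subgroup H) (t : H) (ht2 : t ^ 2 = 1) (d z : H) (hzD : z ∈ D)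
    (hzc : ∀ c ∈ D, z * c = c * z) (hodd : Odd (orderOf z)) (hz : t * d * t⁻¹ = d * z) :
    ∃ w ∈ D, (∀ c ∈ D, w * c = c * w) ∧ t * (d * w) * t⁻¹ = d * w := by
  have htt : t * t = 1 := by rw [← pow_two]; exact ht2
  have ti : t⁻¹ = t := inv_eq_of_mul_eq_one_left htt
  have h1 : t * (t * d * t⁻¹) * t⁻¹ = d := by
    rw [ti]
    calc t * (t * d * t) * t = (t * t) * d * (t * t) := by simp only [mul_assoc]
      _ = d := by rw [htt, one_mul, mul_one]
  have h2 : t * (d * z) * t⁻¹ = (t * d * t⁻¹) * (t * z * t⁻¹) := by group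
  rw [hz, h2, hz] at h1
  have h3 : z * (t * z * t⁻¹) = 1 := by
    apply mul_left_cancel (a := d)
    rw [← mul_assoc, h1, mul_one]
  have h4 : t * z * t⁻¹ = z⁻¹ := eq_inv_of_mul_eq_one_right h3
  obtain ⟨k, hk⟩ := hodd
  have hww : z ^ (k + 1) * z ^ (k + 1) = z := by
    rw [← pow_add]
    have : k + 1 + (k + 1) = orderOf z + 1 := by omega
    rw [this, pow_succ, pow_orderOf_eq_one, one_mul]
  have h5 : t * z ^ (k + 1) * t⁻¹ = (z ^ (k + 1))⁻¹ := by
    rw [← conj_pow, h4, inv_pow]
  refine ⟨z ^ (k + 1), pow_mem hzD _, ?_, ?_⟩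
  · intro c hc
    exact (show Commute z c from hzc c hc).pow_left (k + 1)
  · have h6 : t * (d * z ^ (k + 1)) * t⁻¹ = (t * d * t⁻¹) * (t * z ^ (k + 1) * t⁻¹) := by group
    rw [h6, hz, h5]
    nth_rewrite 1 [← hww]
    group

end Concrete

section Concrete2

/-- E3 : the representation on `Hom(D/Z(D), K')` and its plane element -/
theorem exists_plane_rep (H : Type u) [Group H] [Finite H] (q : ℕ) (hq : q.Prime) (hq2 : q ≠ 2)
    (D : Subgroup H) (hDn : D.Normal) (hDq : IsPGroup q D)
    (hcl : ∀ a ∈ D, ∀ b ∈ D, ∀ c ∈ D, cm a b * c = c * cm a b)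
    (hex : ∀ a ∈ D, ∀ c ∈ D, a ^ q * c = c * a ^ q)
    (g : H) (m : ℕ) (hm : 1 ≤ m) (hg2 : (g ^ m) ^ 2 = 1)
    (hidx : ((D ⊓ Subgroup.centralizer {g ^ m}) ⊔
        (Subgroup.center D).map D.subtype).relIndex D = q ^ 2)
    (hcen : ∀ d ∈ D, g ^ m * d = d * g ^ m → g * d = d * g) :
    ∃ (K' : Type) (_ : Field K') (_ : IsAlgClosed K') (U' : Type u) (_ : AddCommGroup U')
      (_ : Module K' U') (_ : FiniteDimensional K' U') (σ : Representation K' H U'),
      (2 : K') ≠ 0 ∧
      (∀ h : H, σ h = 1 ↔ ∀ d ∈ D, ∃ z ∈ D, (∀ c ∈ D, z * c = c * z) ∧ h * d * h⁻¹ = d * z) ∧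
      PlaneType (σ g) m := by
  classical
  haveI : Fact q.Prime := ⟨hq⟩
  haveI := hDn
  set t : H := g ^ m with ht
  -- membership in the centre
  have hmemZ : ∀ x : D, x ∈ Subgroup.center D ↔ ∀ c ∈ D, (x : H) * c = c * (x : H) := by
    intro x
    rw [Subgroup.mem_center_iff]
    constructor
    · intro h c hc
      have := h ⟨c, hc⟩
      exact (congrArg Subtype.val this).symm
    · intro h c
      apply Subtype.ext
      exact (h c.1 c.2).symm
  -- the quotient is commutative of exponent `q`
  have hcommU : ∀ a b : D ⧸ Subgroup.center D, a * b = b * a := by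
    intro a b
    induction a using QuotientGroup.induction_on with
    | H a =>
    induction b using QuotientGroup.induction_on with
    | H b =>
    rw [← QuotientGroup.mk_mul, ← QuotientGroup.mk_mul, QuotientGroup.eq, hmemZ]
    intro c hc
    have h1 := hcl b.1 b.2 a.1 a.2 c hc
    have h2 : (((a * b)⁻¹ * (b * a) : D) : H) = cm (b : H) (a : H) := by
      simp only [cm, Subgroup.coe_mul, Subgroup.coe_inv, mul_inv_rev, mul_assoc]
    rw [h2]
    exact h1
  have hexpU : ∀ a : D ⧸ Subgroup.center D, a ^ q = 1 := by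
    intro a
    induction a using QuotientGroup.induction_on with
    | H a =>
    rw [← QuotientGroup.mk_pow, QuotientGroup.eq_one_iff, hmemZ]
    intro c hc
    have h1 := hex a.1 a.2 c hc
    rw [Subgroup.coe_pow]
    exact h1
  -- the conjugation action on the quotient
  let cj : H →* MulAut D := MulAut.conjNormal
  have hle : ∀ h : H, Subgroup.center D ≤
      (Subgroup.center D).comap (cj h).toMonoidHom := by
    intro h
    exact le_of_eq (Subgroup.Characteristic.fixed inferInstance (cj h)).symm
  let α : H → (D ⧸ Subgroup.center D →* D ⧸ Subgroup.center D) := fun h =>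
    QuotientGroup.map (Subgroup.center D) (Subgroup.center D) (cj h).toMonoidHom (hle h)
  have hα : ∀ (h : H) (d : D), α h (QuotientGroup.mk d) = QuotientGroup.mk (cj h d) := by
    intro h d
    rfl
  have hcj : ∀ (h : H) (d : D), ((cj h d : D) : H) = h * d * h⁻¹ := by
    intro h d
    rfl
  have hα1 : ∀ u, α 1 u = u := by
    intro u
    induction u using QuotientGroup.induction_on with
    | H a =>
    rw [hα, map_one]
    rfl
  have hαmul : ∀ h₁ h₂ u, α (h₁ * h₂) u = α h₁ (α h₂ u) := by
    intro h₁ h₂ u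
    induction u using QuotientGroup.induction_on with
    | H a =>
    rw [hα, hα, hα, map_mul]
    rfl
  -- `α h` fixes the class of `d` iff `h d h⁻¹ = d z` with `z` central
  have hfixiff : ∀ (h : H) (d : D), α h (QuotientGroup.mk d) = QuotientGroup.mk d ↔
      ∃ z ∈ D, (∀ c ∈ D, z * c = c * z) ∧ h * d * h⁻¹ = d * z := by
    intro h d
    rw [hα, eq_comm, QuotientGroup.eq, hmemZ]
    constructor
    · intro hh
      refine ⟨((d⁻¹ * cj h d : D) : H), (d⁻¹ * cj h d : D).2, hh, ?_⟩
      rw [Subgroup.coe_mul, Subgroup.coe_inv, hcj, mul_inv_cancel_left]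
    · rintro ⟨z, hzD, hzc, hz⟩
      have h1 : ((d⁻¹ * cj h d : D) : H) = z := by
        rw [Subgroup.coe_mul, Subgroup.coe_inv, hcj, hz, inv_mul_cancel_left]
      rw [h1]
      exact hzc
  have ht2 : t ^ 2 = 1 := hg2
  have hoddD : ∀ z ∈ D, Odd (orderOf z) := by
    intro z hz
    obtain ⟨k, hk⟩ := (IsPGroup.iff_orderOf.mp hDq) ⟨z, hz⟩
    rw [Subgroup.orderOf_mk] at hk
    rw [hk]
    exact (hq.odd_of_ne_two hq2).pow
  have hcoset : ∀ d : D, α t (QuotientGroup.mk d) = QuotientGroup.mk d →
      ∃ w : D, w ∈ Subgroup.center D ∧ t * ((d * w : D) : H) * t⁻¹ = ((d * w : D) : H) := by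
    intro d hd
    obtain ⟨z, hzD, hzc, hz⟩ := (hfixiff t d).mp hd
    obtain ⟨w, hwD, hwc, hw⟩ := exists_fixed_in_coset D t ht2 d z hzD hzc (hoddD z hzD) hz
    refine ⟨⟨w, hwD⟩, (hmemZ _).mpr hwc, ?_⟩
    exact hw
  have hmkw : ∀ d w : D, w ∈ Subgroup.center D →
      (QuotientGroup.mk d : D ⧸ Subgroup.center D) = QuotientGroup.mk (d * w) := by
    intro d w hwZ
    rw [QuotientGroup.eq, inv_mul_cancel_left]
    exact hwZ
  have hfix : ∀ u, α t u = u → α g u = u := by
    intro u hu
    induction u using QuotientGroup.induction_on with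
    | H d =>
    obtain ⟨w, hwZ, hw⟩ := hcoset d hu
    rw [hmkw d w hwZ, hfixiff]
    refine ⟨1, one_mem _, fun c _ => by rw [one_mul, mul_one], ?_⟩
    rw [mul_one]
    have h2 : t * ((d * w : D) : H) = ((d * w : D) : H) * t := mul_inv_eq_iff_eq_mul.mp hw
    have h3 := hcen _ (d * w : D).2 h2
    exact mul_inv_eq_iff_eq_mul.mpr h3
  -- the index
  set A : Subgroup H := D ⊓ Subgroup.centralizer {t} with hA
  set B : Subgroup H := (Subgroup.center D).map D.subtype with hB
  have hX : ((A ⊔ B).subgroupOf D).index = q ^ 2 := hidx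
  have hsup : (A ⊔ B).subgroupOf D = A.subgroupOf D ⊔ B.subgroupOf D :=
    Subgroup.subgroupOf_sup inf_le_left (Subgroup.map_subtype_le _)
  have hBmem : ∀ x : D, x ∈ B.subgroupOf D ↔ x ∈ Subgroup.center D := by
    intro x
    rw [Subgroup.mem_subgroupOf, hB, Subgroup.mem_map]
    constructor
    · rintro ⟨y, hy, hyx⟩
      have : y = x := Subtype.ext hyx
      rw [← this]
      exact hy
    · intro hx
      exact ⟨x, hx, rfl⟩
  have hAmem : ∀ x : D, x ∈ A.subgroupOf D ↔ t * (x : H) * t⁻¹ = (x : H) := by
    intro x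
    rw [Subgroup.mem_subgroupOf, hA, Subgroup.mem_inf, Subgroup.mem_centralizer_singleton_iff,
      mul_inv_eq_iff_eq_mul]
    constructor
    · intro h
      exact h.2.symm
    · intro h
      exact ⟨x.2, h.symm⟩
  set FixU : Subgroup (D ⧸ Subgroup.center D) :=
    MonoidHom.eqLocus (α t) (MonoidHom.id _) with hFixU
  have hFixmem : ∀ u, u ∈ FixU ↔ α t u = u := fun u => Iff.rfl
  have hmapeq : ((A ⊔ B).subgroupOf D).map (QuotientGroup.mk' (Subgroup.center D)) = FixU := by
    apply le_antisymm
    · rw [Subgroup.map_le_iff_le_comap, hsup]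
      apply sup_le
      · intro x hx
        rw [Subgroup.mem_comap, hFixmem, QuotientGroup.mk'_apply, hfixiff]
        refine ⟨1, one_mem _, fun c _ => by rw [one_mul, mul_one], ?_⟩
        rw [mul_one]
        exact (hAmem x).mp hx
      · intro x hx
        rw [Subgroup.mem_comap, hFixmem, QuotientGroup.mk'_apply,
          (QuotientGroup.eq_one_iff x).mpr ((hBmem x).mp hx), map_one]
    · intro u hu
      induction u using QuotientGroup.induction_on with
      | H d =>
      obtain ⟨w, hwZ, hw⟩ := hcoset d ((hFixmem _).mp hu)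
      rw [Subgroup.mem_map]
      refine ⟨d * w, ?_, ?_⟩
      · rw [hsup]
        exact Subgroup.mem_sup_left ((hAmem _).mpr hw)
      · rw [QuotientGroup.mk'_apply]
        exact (hmkw d w hwZ).symm
  have hidxU : Nat.card (D ⧸ Subgroup.center D) =
      q ^ 2 * Nat.card {u : D ⧸ Subgroup.center D // α t u = u} := by
    have h1 := Subgroup.index_map_eq ((A ⊔ B).subgroupOf D)
      (QuotientGroup.mk'_surjective (Subgroup.center D)) (by
        rw [QuotientGroup.ker_mk', hsup]
        intro x hx
        exact Subgroup.mem_sup_right ((hBmem x).mpr hx))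
    rw [hmapeq, hX] at h1
    rw [← Subgroup.index_mul_card FixU, h1]
    rfl
  obtain ⟨K', i1, i2, U', i3, i4, i5, σ, h2, hker, hpl⟩ :=
    exists_plane_rep_of_action q hq2 hcommU hexpU α hα1 hαmul g m hg2 hfix hidxU
  refine ⟨K', i1, i2, U', i3, i4, i5, σ, h2, ?_, hpl⟩
  intro h
  rw [hker h]
  constructor
  · intro hh d hd
    exact (hfixiff h ⟨d, hd⟩).mp (hh _)
  · intro hh u
    induction u using QuotientGroup.induction_on with
    | H d =>
    exact (hfixiff h d).mpr (hh d.1 d.2)

end Concrete2

end Cfsg.Agent.Lib.Helper6.G2LE3
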