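import Mathlib
import Cfsg.Prelude.Def_BaumannBlocks
import Cfsg.Agent.Lib.Helper6.ChermakDelgado

set_option autoImplicit false

namespace Cfsg.Agent.Lib.Helper6

open scoped Pointwise

section CL

variable {S : Type*} [Group S]

/-- the order of the centre of `R`, computed inside `S` -/
theorem card_center_eq (R : Subgroup S) :
    Nat.card ↥(Subgroup.center ↥R) = Nat.card ↥(R ⊓ Subgroup.centralizer (R : Set S)) := by
  have hmem : ∀ z : R, z ∈ Subgroup.center ↥R ↔ (z : S) ∈ Subgroup.centralizer (R : Set S) := by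
    intro z
    rw [Subgroup.mem_center_iff, Subgroup.mem_centralizer_iff]
    constructor
    · intro h y hy
      exact congrArg Subtype.val (h ⟨y, hy⟩)
    · intro h y
      exact Subtype.ext (h y y.2)
  refine Nat.card_congr
    { toFun := fun z => ⟨(z.1 : S), z.1.2, (hmem z.1).mp z.2⟩
      invFun := fun y => ⟨⟨y.1, y.2.1⟩, (hmem _).mpr y.2.2⟩
      left_inv := fun z => rfl
      right_inv := fun y => rfl }

/-- the measure `|R| |Z(R)|` -/
noncomputable def zm (R : Subgroup S) : ℕ := Nat.card ↥R * Nat.card ↥(Subgroup.center ↥R)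

theorem zm_eq (R : Subgroup S) :
    zm R = Nat.card ↥R * Nat.card ↥(R ⊓ Subgroup.centralizer (R : Set S)) := by
  unfold zm; rw [card_center_eq]

theorem zm_le_cdm [Finite S] (R : Subgroup S) : zm R ≤ cdm R := by
  rw [zm_eq]
  exact Nat.mul_le_mul_left _ (Subgroup.card_le_of_le inf_le_right)

theorem zm_bddAbove [Finite S] :
    BddAbove {k : ℕ | ∃ R : Subgroup S, Nat.card ↥R * Nat.card ↥(Subgroup.center ↥R) = k} := by
  refine ⟨maxCentralizerProduct S, ?_⟩
  rintro k ⟨R, rfl⟩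
  exact (zm_le_cdm R).trans (cdm_le_max R)

theorem zm_le_max [Finite S] (R : Subgroup S) : zm R ≤ maxCentralProduct S :=
  le_csSup zm_bddAbove ⟨R, rfl⟩

theorem exists_zm_eq_max [Finite S] : ∃ R : Subgroup S, zm R = maxCentralProduct S :=
  Nat.sSup_mem (s := {k : ℕ | ∃ R : Subgroup S,
    Nat.card ↥R * Nat.card ↥(Subgroup.center ↥R) = k}) ⟨_, ⊥, rfl⟩ zm_bddAbove

theorem maxCentralProduct_le [Finite S] : maxCentralProduct S ≤ maxCentralizerProduct S := by
  obtain ⟨R, hR⟩ := exists_zm_eq_max (S := S)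
  rw [← hR]
  exact (zm_le_cdm R).trans (cdm_le_max R)

/-- for `R` in the CD lattice, `T = R C(R)` has `zm T = cdm T` maximal. -/
theorem exists_zm_eq_maxCentralizerProduct [Finite S] :
    ∃ T : Subgroup S, zm T = maxCentralizerProduct S := by
  obtain ⟨R, hR⟩ := exists_cdm_eq_max (S := S)
  have hRl : IsCentralizerLarge R := hR
  obtain ⟨hC, hCC⟩ := cd_centralizer R hRl
  obtain ⟨hT, -, -, -⟩ := cd_lattice R (Subgroup.centralizer (R : Set S)) hRl hC
  refine ⟨R ⊔ Subgroup.centralizer (R : Set S), ?_⟩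
  have hT' : cdm (R ⊔ Subgroup.centralizer (R : Set S)) = maxCentralizerProduct S := hT
  rw [← hT', zm_eq]
  unfold cdm
  have h1 : (R ⊔ Subgroup.centralizer (R : Set S)) ⊓
      Subgroup.centralizer ((R ⊔ Subgroup.centralizer (R : Set S) : Subgroup S) : Set S) =
      Subgroup.centralizer ((R ⊔ Subgroup.centralizer (R : Set S) : Subgroup S) : Set S) := by
    apply inf_eq_right.mpr
    rw [centralizer_sup_eq, ← hCC]
    exact inf_le_right.trans le_sup_left
  rw [h1]

theorem maxCentralProduct_eq [Finite S] : maxCentralProduct S = maxCentralizerProduct S := by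
  apply le_antisymm maxCentralProduct_le
  obtain ⟨T, hT⟩ := exists_zm_eq_maxCentralizerProduct (S := S)
  rw [← hT]
  exact zm_le_max T

theorem isCentrallyLarge_iff_zm (R : Subgroup S) :
    IsCentrallyLarge R ↔ zm R = maxCentralProduct S := Iff.rfl

/-- a centrally large subgroup lies in the CD lattice and `C(Q) = Z(Q)`. -/
theorem isCentrallyLarge_centralizer [Finite S] (Q : Subgroup S) (hQ : IsCentrallyLarge Q) :
    IsCentralizerLarge Q ∧
      Subgroup.centralizer (Q : Set S) = Q ⊓ Subgroup.centralizer (Q : Set S) := by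
  have hQ' : zm Q = maxCentralProduct S := hQ
  rw [maxCentralProduct_eq] at hQ'
  have h1 := zm_le_cdm Q
  have h2 := cdm_le_max Q
  have h3 : cdm Q = maxCentralizerProduct S := le_antisymm h2 (hQ' ▸ h1)
  refine ⟨h3, ?_⟩
  have h4 : zm Q = cdm Q := by rw [h3, hQ']
  rw [zm_eq] at h4
  unfold cdm at h4
  have hpos : 0 < Nat.card ↥Q := Nat.card_pos
  have h5 := Nat.eq_of_mul_eq_mul_left hpos h4
  exact (Subgroup.eq_of_le_of_card_ge inf_le_right h5.symm.le).symm

theorem isCentrallyLarge_iff_of_isCentralizerLarge [Finite S] (Q : Subgroup S)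
    (hQ : IsCentralizerLarge Q) :
    IsCentrallyLarge Q ↔ Subgroup.centralizer (Q : Set S) ≤ Q := by
  constructor
  · intro h
    have := (isCentrallyLarge_centralizer Q h).2
    rw [this]
    exact inf_le_left
  · intro h
    show zm Q = _
    rw [maxCentralProduct_eq, zm_eq, inf_eq_right.mpr h]
    exact hQ

theorem isCentrallyLarge_sup [Finite S] (Q R : Subgroup S) (hQ : IsCentrallyLarge Q)
    (hR : IsCentrallyLarge R) :
    ((Q ⊔ R : Subgroup S) : Set S) = (Q : Set S) * (R : Set S) ∧ IsCentrallyLarge (Q ⊔ R) := by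
  obtain ⟨hQ1, hQ2⟩ := isCentrallyLarge_centralizer Q hQ
  obtain ⟨hR1, hR2⟩ := isCentrallyLarge_centralizer R hR
  obtain ⟨h1, -, h3, -⟩ := cd_lattice Q R hQ1 hR1
  refine ⟨h3, ?_⟩
  rw [isCentrallyLarge_iff_of_isCentralizerLarge _ h1, centralizer_sup_eq]
  refine inf_le_left.trans ?_
  rw [hQ2]
  exact inf_le_left.trans le_sup_left

/-- the join of a nonempty family of centrally large subgroups is centrally large -/
theorem isCentrallyLarge_sSup [Finite S] (𝓜 : Set (Subgroup S)) (hne : 𝓜.Nonempty)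
    (h𝓜 : ∀ M ∈ 𝓜, IsCentrallyLarge M) : IsCentrallyLarge (sSup 𝓜) := by
  classical
  let 𝓕 : Set (Subgroup S) := {T | IsCentrallyLarge T ∧ T ≤ sSup 𝓜}
  have hfin : 𝓕.Finite := Set.toFinite _
  obtain ⟨M₀, hM₀⟩ := hne
  have hne' : 𝓕.Nonempty := ⟨M₀, h𝓜 M₀ hM₀, le_sSup hM₀⟩
  obtain ⟨T, hT, hmax⟩ := hfin.exists_maximal hne'
  have hle : sSup 𝓜 ≤ T := by
    apply sSup_le
    intro M hM
    have h1 : T ⊔ M ∈ 𝓕 := ⟨(isCentrallyLarge_sup T M hT.1 (h𝓜 M hM)).2, sup_le hT.2 (le_sSup hM)⟩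
    have h2 : T ⊔ M ≤ T := hmax h1 le_sup_left
    exact le_sup_right.trans h2
  have : sSup 𝓜 = T := le_antisymm hle hT.2
  rw [this]
  exact hT.1

theorem exists_isCentrallyLarge [Finite S] : ∃ R : Subgroup S, IsCentrallyLarge R :=
  exists_zm_eq_max

theorem exists_isMinimalCentrallyLarge_le [Finite S] (Q : Subgroup S) (hQ : IsCentrallyLarge Q) :
    ∃ R : Subgroup S, IsMinimalCentrallyLarge R ∧ R ≤ Q := by
  classical
  let 𝓕 : Set (Subgroup S) := {T | IsCentrallyLarge T ∧ T ≤ Q}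
  have hfin : 𝓕.Finite := Set.toFinite _
  have hne' : 𝓕.Nonempty := ⟨Q, hQ, le_rfl⟩
  obtain ⟨T, hT, hmin⟩ := hfin.exists_minimal hne'
  refine ⟨T, ⟨hT.1, ?_⟩, hT.2⟩
  intro R' hR'T hR'
  have h1 : R' ∈ 𝓕 := ⟨hR', hR'T.trans hT.2⟩
  exact le_antisymm hR'T (hmin h1 hR'T)

end CL

end Cfsg.Agent.Lib.Helper6
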