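import Mathlib
import Cfsg.Prelude.Def_BaumannBlocks
import Cfsg.Prelude.Def_PLocal
import Cfsg.Agent.Lib.Helper6.ChermakDelgado2

set_option autoImplicit false

namespace Cfsg.Agent.Lib.Helper6

open scoped Pointwise

section MaxAb

variable {S : Type*} [Group S]

theorem mul_comm_of_isMulCommutative {A : Subgroup S} (hA : IsMulCommutative A) {a b : S}
    (ha : a ∈ A) (hb : b ∈ A) : a * b = b * a :=
  congrArg Subtype.val (hA.is_comm.comm ⟨a, ha⟩ ⟨b, hb⟩)

theorem le_centralizer_of_isMulCommutative {A : Subgroup S} (hA : IsMulCommutative A) :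
    A ≤ Subgroup.centralizer (A : Set S) := by
  intro a ha
  rw [Subgroup.mem_centralizer_iff]
  intro b hb
  exact mul_comm_of_isMulCommutative hA hb ha

theorem isMulCommutative_sup {H K : Subgroup S} (hH : IsMulCommutative H) (hK : IsMulCommutative K)
    (hHK : H ≤ Subgroup.centralizer (K : Set S)) : IsMulCommutative ↥(H ⊔ K) := by
  have h1 : H ⊔ K = Subgroup.closure ((H : Set S) ∪ (K : Set S)) := by
    rw [Subgroup.closure_union, Subgroup.closure_eq, Subgroup.closure_eq]
  rw [h1]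
  apply Subgroup.isMulCommutative_closure
  rintro a (ha | ha) b (hb | hb)
  · exact mul_comm_of_isMulCommutative hH ha hb
  · exact (Subgroup.mem_centralizer_iff.mp (hHK ha) b hb).symm
  · exact Subgroup.mem_centralizer_iff.mp (hHK hb) a ha
  · exact mul_comm_of_isMulCommutative hK ha hb

theorem isMulCommutative_zpowers (x : S) : IsMulCommutative ↥(Subgroup.zpowers x) := inferInstance

theorem isMulCommutative_of_le {A B : Subgroup S} (hA : IsMulCommutative A) (hBA : B ≤ A) :
    IsMulCommutative B :=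
  ⟨⟨fun a b => Subtype.ext (mul_comm_of_isMulCommutative hA (hBA a.2) (hBA b.2))⟩⟩

/-- an abelian subgroup of largest order is self-centralizing -/
theorem maxAbelian_centralizer_eq [Finite S] {A : Subgroup S} (hA : A ∈ maxAbelianSubgroups S) :
    Subgroup.centralizer (A : Set S) = A := by
  apply le_antisymm _ (le_centralizer_of_isMulCommutative hA.1)
  intro x hx
  have h1 : IsMulCommutative ↥(A ⊔ Subgroup.zpowers x) := by
    apply isMulCommutative_sup hA.1 (isMulCommutative_zpowers x)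
    rw [Subgroup.le_centralizer_iff, Subgroup.zpowers_le]
    exact hx
  have h2 := hA.2 _ h1
  have h3 : A ⊔ Subgroup.zpowers x = A :=
    (Subgroup.eq_of_le_of_card_ge le_sup_left h2).symm
  rw [← h3]
  exact Subgroup.mem_sup_right (Subgroup.mem_zpowers x)

theorem exists_maxAbelian [Finite S] : ∃ A : Subgroup S, A ∈ maxAbelianSubgroups S := by
  haveI : Nonempty {B : Subgroup S // IsMulCommutative B} :=
    ⟨⟨⊥, isMulCommutative_of_le (isMulCommutative_zpowers (1 : S)) bot_le⟩⟩
  obtain ⟨A, hA⟩ := Finite.exists_max (fun B : {B : Subgroup S // IsMulCommutative B} => Nat.card B.1)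
  exact ⟨A.1, A.2, fun B hB => hA ⟨B, hB⟩⟩

theorem cl_arith (q a z b t c w s f : ℕ) (hq : 0 < q) (hb : 0 < b) (hw : 0 < w)
    (h1 : s ≤ a) (h2 : b * z ≤ s * w) (h4 : w ≤ c) (h5 : t * c ≤ f) (h6 : q * z = f)
    (h7 : q * a ≤ t * b) : t * b = q * a ∧ t * c = f ∧ s = a := by
  have E1 : q * a * w ≤ t * b * w := Nat.mul_le_mul_right _ h7
  have E2 : t * b * w ≤ t * b * c := Nat.mul_le_mul_left _ h4
  have E3 : t * b * c ≤ f * b := by
    calc t * b * c = (t * c) * b := by ring
      _ ≤ f * b := Nat.mul_le_mul_right _ h5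
  have E4 : f * b ≤ q * (s * w) := by
    calc f * b = q * (b * z) := by rw [← h6]; ring
      _ ≤ q * (s * w) := Nat.mul_le_mul_left _ h2
  have E5 : q * (s * w) ≤ q * a * w := by
    calc q * (s * w) ≤ q * (a * w) := Nat.mul_le_mul_left _ (Nat.mul_le_mul_right _ h1)
      _ = q * a * w := by ring
  have e1 : t * b * w = q * a * w := le_antisymm (E2.trans (E3.trans (E4.trans E5))) E1
  have e3 : t * b * c = f * b := le_antisymm E3 (E4.trans (E5.trans (E1.trans E2)))
  have e5 : q * (s * w) = q * a * w := le_antisymm E5 (E1.trans (E2.trans (E3.trans E4)))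
  refine ⟨Nat.eq_of_mul_eq_mul_right hw e1, ?_, ?_⟩
  · have : (t * c) * b = f * b := by rw [← e3]; ring
    exact Nat.eq_of_mul_eq_mul_right hb this
  · have : q * (s * w) = q * (a * w) := by rw [e5]; ring
    have := Nat.eq_of_mul_eq_mul_left hq this
    exact Nat.eq_of_mul_eq_mul_right hw this

theorem isMulCommutative_center_inf (Q : Subgroup S) :
    IsMulCommutative ↥(Q ⊓ Subgroup.centralizer (Q : Set S)) :=
  ⟨⟨fun a b => Subtype.ext (Subgroup.mem_centralizer_iff.mp b.2.2 a a.2.1)⟩⟩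

/-- Glauberman: a centrally large `Q` and an abelian subgroup `A` of largest order. -/
theorem cl_maxAbelian [Finite S] (Q A : Subgroup S) (hQ : IsCentrallyLarge Q)
    (hA : A ∈ maxAbelianSubgroups S) :
    ((Q ⊔ A : Subgroup S) : Set S) = (Q : Set S) * (A : Set S) ∧ IsCentrallyLarge (Q ⊔ A) ∧
    ((Q ⊓ A) ⊔ (Q ⊓ Subgroup.centralizer (Q : Set S))) ∈ maxAbelianSubgroups S := by
  obtain ⟨hQ1, hQ2⟩ := isCentrallyLarge_centralizer Q hQ
  have hBab : IsMulCommutative ↥(Q ⊓ A) := isMulCommutative_of_le hA.1 inf_le_right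
  have hZab := isMulCommutative_center_inf Q
  have hBZ : Q ⊓ A ≤ Subgroup.centralizer ((Q ⊓ Subgroup.centralizer (Q : Set S) : Subgroup S) : Set S) := by
    rw [Subgroup.le_centralizer_iff]
    exact inf_le_right.trans (Subgroup.centralizer_le (fun x hx => (inf_le_left : Q ⊓ A ≤ Q) hx))
  have hBZab := isMulCommutative_sup hBab hZab hBZ
  have h1 := hA.2 _ hBZab
  have h2 := card_mul_card_le_sup_inf (Q ⊓ A) (Q ⊓ Subgroup.centralizer (Q : Set S))
  have hBZinf : (Q ⊓ A) ⊓ (Q ⊓ Subgroup.centralizer (Q : Set S)) =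
      A ⊓ (Q ⊓ Subgroup.centralizer (Q : Set S)) := by
    apply le_antisymm
    · exact inf_le_inf_right _ inf_le_right
    · exact le_inf (le_inf (inf_le_right.trans inf_le_left) inf_le_left) inf_le_right
  rw [hBZinf] at h2
  have h3 : A ⊓ (Q ⊓ Subgroup.centralizer (Q : Set S)) ≤
      (Q ⊔ A) ⊓ Subgroup.centralizer ((Q ⊔ A : Subgroup S) : Set S) := by
    refine le_inf (inf_le_left.trans le_sup_right) ?_
    rw [centralizer_sup_eq]
    exact le_inf (inf_le_right.trans inf_le_right)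
      (inf_le_left.trans (le_centralizer_of_isMulCommutative hA.1))
  have h4 := Subgroup.card_le_of_le h3
  have h5 : zm (Q ⊔ A) ≤ maxCentralProduct S := zm_le_max _
  have h6 : zm Q = maxCentralProduct S := hQ
  rw [zm_eq] at h5 h6
  have h7 := card_mul_card_le_sup_inf Q A
  obtain ⟨r1, r2, r3⟩ := cl_arith _ _ _ _ _ _ _ _ _ Nat.card_pos Nat.card_pos Nat.card_pos
    h1 h2 h4 h5 h6 h7
  refine ⟨?_, ?_, ?_⟩
  · exact coe_sup_eq_setMul_of_card Q A r1.le
  · show zm _ = _
    rw [zm_eq]; exact r2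
  · refine ⟨hBZab, ?_⟩
    intro B' hB'
    rw [r3]
    exact hA.2 B' hB'

theorem cl_maxAbelian_mem_setMul [Finite S] (Q A : Subgroup S) (hQ : IsCentrallyLarge Q)
    (hA : A ∈ maxAbelianSubgroups S) {x : S} (hxT : x ∈ Q ⊔ A)
    (hxC : x ∈ Subgroup.centralizer ((Q ⊓ A : Subgroup S) : Set S)) :
    x ∈ ((Q ⊓ Subgroup.centralizer (Q : Set S) : Subgroup S) : Set S) * (A : Set S) := by
  obtain ⟨hcoe, -, hmax⟩ := cl_maxAbelian Q A hQ hA
  have hxT' : x ∈ ((Q ⊔ A : Subgroup S) : Set S) := hxT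
  rw [hcoe] at hxT'
  obtain ⟨q, hq, a, ha, rfl⟩ := hxT'
  have haC : a ∈ Subgroup.centralizer ((Q ⊓ A : Subgroup S) : Set S) :=
    Subgroup.centralizer_le (fun y hy => (inf_le_right : Q ⊓ A ≤ A) hy)
      (le_centralizer_of_isMulCommutative hA.1 ha)
  have hqC : q ∈ Subgroup.centralizer ((Q ⊓ A : Subgroup S) : Set S) := by
    have := Subgroup.mul_mem _ hxC (Subgroup.inv_mem _ haC)
    simpa using this
  have hqZ : q ∈ Subgroup.centralizer ((Q ⊓ Subgroup.centralizer (Q : Set S) : Subgroup S) : Set S) := by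
    rw [Subgroup.mem_centralizer_iff]
    intro y hy
    exact (Subgroup.mem_centralizer_iff.mp hy.2 q hq).symm
  have hq2 : q ∈ Subgroup.centralizer
      (((Q ⊓ A) ⊔ (Q ⊓ Subgroup.centralizer (Q : Set S)) : Subgroup S) : Set S) := by
    rw [centralizer_sup_eq]; exact ⟨hqC, hqZ⟩
  rw [maxAbelian_centralizer_eq hmax, sup_comm] at hq2
  have hnorm : Q ⊓ Subgroup.centralizer (Q : Set S) ≤ Subgroup.normalizer ((Q ⊓ A : Subgroup S) : Set S) := by
    refine le_trans ?_ (Subgroup.centralizer_le_normalizer _)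
    exact inf_le_right.trans (Subgroup.centralizer_le (fun y hy => (inf_le_left : Q ⊓ A ≤ Q) hy))
  have hq3 : q ∈ (((Q ⊓ Subgroup.centralizer (Q : Set S)) ⊔ (Q ⊓ A) : Subgroup S) : Set S) := hq2
  rw [Subgroup.coe_mul_of_left_le_normalizer_right _ _ hnorm] at hq3
  obtain ⟨z, hz, b, hb, rfl⟩ := hq3
  refine ⟨z, hz, b * a, A.mul_mem hb.2 ha, ?_⟩
  simp [mul_assoc]

theorem cl_maxAbelian_centralizer [Finite S] (Q A : Subgroup S) (hQ : IsCentrallyLarge Q)
    (hA : A ∈ maxAbelianSubgroups S) :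
    (Q ⊔ A) ⊓ Subgroup.centralizer ((Q ⊓ A : Subgroup S) : Set S) =
      (Q ⊓ Subgroup.centralizer (Q : Set S)) ⊔ A ∧
    (((Q ⊓ Subgroup.centralizer (Q : Set S)) ⊔ A : Subgroup S) : Set S) =
      ((Q ⊓ Subgroup.centralizer (Q : Set S) : Subgroup S) : Set S) * (A : Set S) := by
  have hge : (Q ⊓ Subgroup.centralizer (Q : Set S)) ⊔ A ≤
      (Q ⊔ A) ⊓ Subgroup.centralizer ((Q ⊓ A : Subgroup S) : Set S) := by
    refine le_inf (sup_le_sup_right inf_le_left _) (sup_le ?_ ?_)
    · exact inf_le_right.trans (Subgroup.centralizer_le (fun y hy => (inf_le_left : Q ⊓ A ≤ Q) hy))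
    · exact (le_centralizer_of_isMulCommutative hA.1).trans
        (Subgroup.centralizer_le (fun y hy => (inf_le_right : Q ⊓ A ≤ A) hy))
  constructor
  · apply le_antisymm _ hge
    intro x hx
    have := cl_maxAbelian_mem_setMul Q A hQ hA hx.1 hx.2
    exact setMul_subset_sup _ _ this
  · apply Set.Subset.antisymm _ (setMul_subset_sup _ _)
    intro x hx
    have hx' := hge hx
    exact cl_maxAbelian_mem_setMul Q A hQ hA hx'.1 hx'.2

/-- `C_P(Z(J(P)))` lies in the join of all centrally large subgroups. -/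
theorem centralizer_center_thompsonA_le [Finite S] :
    Subgroup.centralizer ((thompsonSubgroupA S ⊓ Subgroup.centralizer (thompsonSubgroupA S : Set S) :
      Subgroup S) : Set S) ≤ centrallyLargeJoin S := by
  obtain ⟨R, hR⟩ := exists_isCentrallyLarge (S := S)
  have hQ₀ : IsCentrallyLarge (centrallyLargeJoin S) :=
    isCentrallyLarge_sSup _ ⟨R, hR⟩ (fun M hM => hM)
  have hAle : ∀ A ∈ maxAbelianSubgroups S, A ≤ centrallyLargeJoin S := by
    intro A hA
    have h1 := (cl_maxAbelian _ A hQ₀ hA).2.1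
    have h2 : centrallyLargeJoin S ⊔ A ≤ centrallyLargeJoin S := le_sSup h1
    exact le_sup_right.trans h2
  have hZle : ∀ A ∈ maxAbelianSubgroups S,
      centrallyLargeJoin S ⊓ Subgroup.centralizer (centrallyLargeJoin S : Set S) ≤ A := by
    intro A hA
    have h1 := (cl_maxAbelian_centralizer _ A hQ₀ hA).1
    have h2 : centrallyLargeJoin S ⊓ Subgroup.centralizer (centrallyLargeJoin S : Set S) ≤
        (centrallyLargeJoin S ⊔ A) ⊓
          Subgroup.centralizer ((centrallyLargeJoin S ⊓ A : Subgroup S) : Set S) := by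
      rw [h1]; exact le_sup_left
    have h3 : centrallyLargeJoin S ⊓ A = A := inf_eq_right.mpr (hAle A hA)
    rw [h3, maxAbelian_centralizer_eq hA] at h2
    exact h2.trans inf_le_right
  obtain ⟨A₀, hA₀⟩ := exists_maxAbelian (S := S)
  have hZJ : centrallyLargeJoin S ⊓ Subgroup.centralizer (centrallyLargeJoin S : Set S) ≤
      thompsonSubgroupA S ⊓ Subgroup.centralizer (thompsonSubgroupA S : Set S) := by
    refine le_inf ((hZle A₀ hA₀).trans (le_sSup hA₀)) ?_
    rw [Subgroup.le_centralizer_iff]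
    apply sSup_le
    intro A hA
    exact (le_centralizer_of_isMulCommutative hA.1).trans
      (Subgroup.centralizer_le (fun y hy => hZle A hA hy))
  obtain ⟨hQ1, hQ2⟩ := isCentrallyLarge_centralizer _ hQ₀
  obtain ⟨-, hCC⟩ := cd_centralizer _ hQ1
  have h5 := Subgroup.centralizer_le (fun y hy => hZJ hy)
  rw [← hQ2, ← hCC] at h5
  exact h5

end MaxAb

end Cfsg.Agent.Lib.Helper6
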