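import Mathlib
import Cfsg.Prelude.Def_BaumannBlocks
import Cfsg.Prelude.Def_PLocal
import Cfsg.Agent.Lib.Helper6.ChermakDelgado3

set_option autoImplicit false

namespace Cfsg.Agent.Lib.Helper6

open scoped Pointwise commutatorElement

section MinCL

variable {S : Type*} [Group S]

theorem commutatorElement_mul_left_of_commute {z x y : S} (hzx : Commute z x) (hzy : Commute z y) :
    ⁅z * x, y⁆ = ⁅x, y⁆ := by
  rw [commutatorElement_def, commutatorElement_def, mul_inv_rev]
  have h1 : Commute z (x * y * x⁻¹ * y⁻¹) :=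
    ((hzx.mul_right hzy).mul_right hzx.inv_right).mul_right hzy.inv_right
  have h2 : z⁻¹ * y⁻¹ = y⁻¹ * z⁻¹ := (hzy.inv_inv).eq
  calc z * x * y * (x⁻¹ * z⁻¹) * y⁻¹ = z * x * y * x⁻¹ * (z⁻¹ * y⁻¹) := by group
    _ = z * x * y * x⁻¹ * (y⁻¹ * z⁻¹) := by rw [h2]
    _ = z * (x * y * x⁻¹ * y⁻¹) * z⁻¹ := by group
    _ = (x * y * x⁻¹ * y⁻¹) * z * z⁻¹ := by rw [h1.eq]
    _ = x * y * x⁻¹ * y⁻¹ := by group

theorem commutatorElement_mul_right_of_commute {z x y : S} (hzx : Commute z x) (hzy : Commute z y) :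
    ⁅x, z * y⁆ = ⁅x, y⁆ := by
  rw [← commutatorElement_inv, commutatorElement_mul_left_of_commute hzy hzx, commutatorElement_inv]

theorem card_sup_mul_card_inf_of_le_normalizer (H N : Subgroup S)
    (h : H ≤ Subgroup.normalizer (N : Set S)) :
    Nat.card ↥(H ⊔ N) * Nat.card ↥(H ⊓ N) = Nat.card H * Nat.card N := by
  rw [← card_setMul_mul_card_inf H N]
  have h1 := Subgroup.coe_mul_of_left_le_normalizer_right H N h
  have h2 : Nat.card ↥(H ⊔ N) = Nat.card ((H : Set S) * (N : Set S) : Set S) := by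
    rw [← h1]; rfl
  rw [h2]

/-- a minimal centrally large `Q` and a centrally large `R`: `Q = (Q ∩ R) Z(Q)`. -/
theorem min_cl_eq [Finite S] (Q R : Subgroup S) (hQ : IsMinimalCentrallyLarge Q)
    (hR : IsCentrallyLarge R) :
    (Q ⊓ R) ⊔ (Q ⊓ Subgroup.centralizer (Q : Set S)) = Q := by
  obtain ⟨hQ1, hQ2⟩ := isCentrallyLarge_centralizer Q hQ.1
  obtain ⟨hR1, hR2⟩ := isCentrallyLarge_centralizer R hR
  obtain ⟨-, hD, -, hCD⟩ := cd_lattice Q R hQ1 hR1
  obtain ⟨hZ, hCC⟩ := cd_centralizer Q hQ1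
  rw [hQ2] at hZ
  obtain ⟨hQ₁, -, -, -⟩ := cd_lattice _ _ hD hZ
  have hle : (Q ⊓ R) ⊔ (Q ⊓ Subgroup.centralizer (Q : Set S)) ≤ Q := sup_le inf_le_left inf_le_left
  have hcl : IsCentrallyLarge ((Q ⊓ R) ⊔ (Q ⊓ Subgroup.centralizer (Q : Set S))) := by
    rw [isCentrallyLarge_iff_of_isCentralizerLarge _ hQ₁, centralizer_sup_eq]
    intro x hx
    have hx1 : x ∈ (Subgroup.centralizer ((Q ⊓ R : Subgroup S) : Set S) : Set S) := hx.1
    have hx2 : x ∈ Q := by
      have := hx.2
      rw [← hQ2, ← hCC] at this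
      exact this
    rw [hCD] at hx1
    obtain ⟨z, hz, z', hz', rfl⟩ := hx1
    have hzQ : z ∈ Q := by
      have hz2 : z ∈ Subgroup.centralizer (Q : Set S) := hz
      rw [hQ2] at hz2; exact hz2.1
    have hz'Q : z' ∈ Q := by
      have := Q.mul_mem (Q.inv_mem hzQ) hx2
      simpa using this
    have hz'R : z' ∈ R := by
      have hz2 : z' ∈ Subgroup.centralizer (R : Set S) := hz'
      rw [hR2] at hz2; exact hz2.1
    have hz3 : z ∈ Q ⊓ Subgroup.centralizer (Q : Set S) := ⟨hzQ, hz⟩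
    exact Subgroup.mul_mem _ (Subgroup.mem_sup_right hz3) (Subgroup.mem_sup_left ⟨hz'Q, hz'R⟩)
  exact hQ.2 _ hle hcl

/-- the derived subgroup of a minimal centrally large subgroup is that of its intersection with
any centrally large subgroup -/
theorem min_cl_commutator [Finite S] (Q R : Subgroup S) (hQ : IsMinimalCentrallyLarge Q)
    (hR : IsCentrallyLarge R) : ⁅Q, Q⁆ = ⁅Q ⊓ R, Q ⊓ R⁆ := by
  apply le_antisymm _ (Subgroup.commutator_mono inf_le_left inf_le_left)
  have heq := min_cl_eq Q R hQ hR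
  have hnorm : Q ⊓ Subgroup.centralizer (Q : Set S) ≤ Subgroup.normalizer ((Q ⊓ R : Subgroup S) : Set S) := by
    refine le_trans ?_ (Subgroup.centralizer_le_normalizer _)
    exact inf_le_right.trans (Subgroup.centralizer_le (fun y hy => (inf_le_left : Q ⊓ R ≤ Q) hy))
  have hcoe := Subgroup.coe_mul_of_left_le_normalizer_right _ _ hnorm
  rw [sup_comm, heq] at hcoe
  rw [Subgroup.commutator_le]
  intro x hx y hy
  have hx' : x ∈ (Q : Set S) := hx
  have hy' : y ∈ (Q : Set S) := hy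
  rw [hcoe] at hx' hy'
  obtain ⟨z, hz, d, hd, rfl⟩ := hx'
  obtain ⟨z', hz', d', hd', rfl⟩ := hy'
  have hzc : ∀ u ∈ Q, Commute z u := fun u hu => (Subgroup.mem_centralizer_iff.mp hz.2 u hu).symm
  have hz'c : ∀ u ∈ Q, Commute z' u := fun u hu => (Subgroup.mem_centralizer_iff.mp hz'.2 u hu).symm
  rw [commutatorElement_mul_left_of_commute (hzc d hd.1) (hzc _ (Q.mul_mem hz'.1 hd'.1)),
    commutatorElement_mul_right_of_commute (hz'c d hd.1) (hz'c d' hd'.1)]
  exact Subgroup.commutator_mem_commutator hd hd'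

/-- for `Q` minimal centrally large and `R` centrally large, `|Q| |Z(Q ∩ R)| = |Q ∩ R| |Z(Q)|` -/
theorem min_cl_card [Finite S] (Q R : Subgroup S) (hQ : IsMinimalCentrallyLarge Q)
    (hR : IsCentrallyLarge R) :
    Nat.card ↥Q * Nat.card ↥((Q ⊓ R) ⊓ Subgroup.centralizer ((Q ⊓ R : Subgroup S) : Set S)) =
      Nat.card ↥(Q ⊓ R) * Nat.card ↥(Q ⊓ Subgroup.centralizer (Q : Set S)) := by
  have heq := min_cl_eq Q R hQ hR
  have hnorm : Q ⊓ Subgroup.centralizer (Q : Set S) ≤ Subgroup.normalizer ((Q ⊓ R : Subgroup S) : Set S) := by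
    refine le_trans ?_ (Subgroup.centralizer_le_normalizer _)
    exact inf_le_right.trans (Subgroup.centralizer_le (fun y hy => (inf_le_left : Q ⊓ R ≤ Q) hy))
  have h1 := card_sup_mul_card_inf_of_le_normalizer _ _ hnorm
  rw [sup_comm, heq] at h1
  have h2 : (Q ⊓ Subgroup.centralizer (Q : Set S)) ⊓ (Q ⊓ R) =
      (Q ⊓ R) ⊓ Subgroup.centralizer ((Q ⊓ R : Subgroup S) : Set S) := by
    apply le_antisymm
    · refine le_inf inf_le_right ?_
      exact inf_le_left.trans (inf_le_right.trans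
        (Subgroup.centralizer_le (fun y hy => (inf_le_left : Q ⊓ R ≤ Q) hy)))
    · refine le_inf (le_inf (inf_le_left.trans inf_le_left) ?_) inf_le_left
      intro x hx
      rw [Subgroup.mem_centralizer_iff]
      intro y hy
      have hy' : y ∈ (Q ⊓ R) ⊔ (Q ⊓ Subgroup.centralizer (Q : Set S)) := by rw [heq]; exact hy
      have hxc : x ∈ Subgroup.centralizer
          (((Q ⊓ R) ⊔ (Q ⊓ Subgroup.centralizer (Q : Set S)) : Subgroup S) : Set S) := by
        rw [centralizer_sup_eq]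
        refine ⟨hx.2, ?_⟩
        show x ∈ Subgroup.centralizer ((Q ⊓ Subgroup.centralizer (Q : Set S) : Subgroup S) : Set S)
        rw [Subgroup.mem_centralizer_iff]
        intro u hu
        exact (Subgroup.mem_centralizer_iff.mp hu.2 x hx.1.1).symm
      exact Subgroup.mem_centralizer_iff.mp hxc y hy'
  rw [h2] at h1
  rw [h1, mul_comm]

theorem min_cl_card_eq [Finite S] (Q R : Subgroup S) (hQ : IsMinimalCentrallyLarge Q)
    (hR : IsMinimalCentrallyLarge R) :
    Nat.card ↥Q = Nat.card ↥R ∧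
      Nat.card ↥(Q ⊓ Subgroup.centralizer (Q : Set S)) =
        Nat.card ↥(R ⊓ Subgroup.centralizer (R : Set S)) := by
  have h1 := min_cl_card Q R hQ hR.1
  have h2 := min_cl_card R Q hR hQ.1
  rw [inf_comm R Q] at h2
  have hf1 : zm Q = maxCentralProduct S := hQ.1
  have hf2 : zm R = maxCentralProduct S := hR.1
  rw [zm_eq] at hf1 hf2
  generalize Nat.card ↥((Q ⊓ R) ⊓ Subgroup.centralizer ((Q ⊓ R : Subgroup S) : Set S)) = w at h1 h2
  have hw : 0 < Nat.card ↥(Q ⊓ R) := Nat.card_pos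
  have hq : 0 < Nat.card ↥Q := Nat.card_pos
  have hr : 0 < Nat.card ↥R := Nat.card_pos
  have hzq : 0 < Nat.card ↥(Q ⊓ Subgroup.centralizer (Q : Set S)) := Nat.card_pos
  have hzr : 0 < Nat.card ↥(R ⊓ Subgroup.centralizer (R : Set S)) := Nat.card_pos
  generalize Nat.card ↥(Q ⊓ R) = δ at h1 h2 hw
  generalize Nat.card ↥Q = q at h1 hf1 hq
  generalize Nat.card ↥R = r at h2 hf2 hr
  generalize Nat.card ↥(Q ⊓ Subgroup.centralizer (Q : Set S)) = zq at h1 hf1 hzq
  generalize Nat.card ↥(R ⊓ Subgroup.centralizer (R : Set S)) = zr at h2 hf2 hzr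
  have hwpos : 0 < w := by
    rcases Nat.eq_zero_or_pos w with h0 | h0
    · rw [h0, mul_zero] at h1
      have := Nat.mul_pos hw hzq
      omega
    · exact h0
  -- q * zr = r * zq
  have h3 : q * zr = r * zq := by
    have : (q * zr) * (w * δ) = (r * zq) * (w * δ) := by
      calc (q * zr) * (w * δ) = (q * w) * (δ * zr) := by ring
        _ = (δ * zq) * (r * w) := by rw [h1, h2]
        _ = (r * zq) * (w * δ) := by ring
    exact Nat.eq_of_mul_eq_mul_right (Nat.mul_pos hwpos hw) this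
  have h4 : q * q = r * r := by
    have : (q * q) * (zr * zq) = (r * r) * (zr * zq) := by
      calc (q * q) * (zr * zq) = (q * zr) * (q * zq) := by ring
        _ = (r * zq) * (r * zr) := by rw [h3, hf1, hf2]
        _ = (r * r) * (zr * zq) := by ring
    exact Nat.eq_of_mul_eq_mul_right (Nat.mul_pos hzr hzq) this
  have h5 : q = r := Nat.mul_self_inj.mp h4
  refine ⟨h5, ?_⟩
  rw [h5] at h3
  exact (Nat.eq_of_mul_eq_mul_left hr h3).symm

theorem zm_of_isMulCommutative {B : Subgroup S} (hB : IsMulCommutative ↥B) :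
    zm B = Nat.card ↥B * Nat.card ↥B := by
  rw [zm_eq, inf_eq_left.mpr (le_centralizer_of_isMulCommutative hB)]

theorem isMulCommutative_of_le_centralizer {B : Subgroup S}
    (h : B ≤ Subgroup.centralizer (B : Set S)) : IsMulCommutative ↥B :=
  ⟨⟨fun a b => Subtype.ext (Subgroup.mem_centralizer_iff.mp (h b.2) a a.2)⟩⟩

theorem min_cl_abelian_iff [Finite S] (Q : Subgroup S) (hQ : IsMinimalCentrallyLarge Q)
    (hQab : IsMulCommutative ↥Q) (X : Subgroup S) :
    IsMinimalCentrallyLarge X ↔ X ∈ maxAbelianSubgroups S := by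
  have hf : zm Q = maxCentralProduct S := hQ.1
  rw [zm_of_isMulCommutative hQab] at hf
  have hQZ : Q ⊓ Subgroup.centralizer (Q : Set S) = Q :=
    inf_eq_left.mpr (le_centralizer_of_isMulCommutative hQab)
  constructor
  · intro hX
    obtain ⟨h1, h2⟩ := min_cl_card_eq X Q hX hQ
    rw [hQZ, ← h1] at h2
    have h3 : X ⊓ Subgroup.centralizer (X : Set S) = X :=
      Subgroup.eq_of_le_of_card_ge inf_le_left h2.symm.le
    have hXab : IsMulCommutative ↥X := isMulCommutative_of_le_centralizer (inf_eq_left.mp h3)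
    refine ⟨hXab, ?_⟩
    intro B hB
    have h4 := zm_le_max B
    rw [zm_of_isMulCommutative hB, ← hf] at h4
    rw [h1]
    exact Nat.mul_self_le_mul_self_iff.mp h4
  · intro hX
    have h1 : Nat.card ↥Q ≤ Nat.card ↥X := hX.2 Q hQab
    have h2 := zm_le_max X
    rw [zm_of_isMulCommutative hX.1, ← hf] at h2
    have h3 : Nat.card ↥X ≤ Nat.card ↥Q := Nat.mul_self_le_mul_self_iff.mp h2
    have h4 : Nat.card ↥X = Nat.card ↥Q := le_antisymm h3 h1
    have hXcl : IsCentrallyLarge X := by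
      show zm X = _
      rw [zm_of_isMulCommutative hX.1, h4, hf]
    refine ⟨hXcl, ?_⟩
    intro X' hX'X hX'
    have hX'ab : IsMulCommutative ↥X' := isMulCommutative_of_le hX.1 hX'X
    have h5 : zm X' = maxCentralProduct S := hX'
    rw [zm_of_isMulCommutative hX'ab, ← hf, ← h4] at h5
    have h6 : Nat.card ↥X' = Nat.card ↥X := Nat.mul_self_inj.mp h5
    exact Subgroup.eq_of_le_of_card_ge hX'X h6.symm.le

end MinCL

end Cfsg.Agent.Lib.Helper6
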