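import Mathlib
import Cfsg.Prelude.Def_BaumannBlocks
import Cfsg.Agent.Lib.Helper6.ChermakDelgado
import Cfsg.Agent.Lib.Helper6.Amalgam2

set_option autoImplicit false

namespace Cfsg.Agent.Lib.Helper6

open scoped Pointwise

section CDsimple

variable {G : Type*} [Group G]

theorem cdm_map_conj (R : Subgroup G) (g : G) :
    cdm (R.map (MulAut.conj g).toMonoidHom) = cdm R := by
  unfold cdm
  rw [← centralizer_map_conj, card_map_conj, card_map_conj]

theorem isCentralizerLarge_map_conj (R : Subgroup G) (g : G) (hR : IsCentralizerLarge R) :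
    IsCentralizerLarge (R.map (MulAut.conj g).toMonoidHom) := by
  show cdm _ = _
  rw [cdm_map_conj]; exact hR

/-- a group is never the product of two conjugates of a proper subgroup -/
theorem eq_top_of_setMul_conj_eq_univ (H : Subgroup G) (g : G)
    (h : (H : Set G) * ((H.map (MulAut.conj g).toMonoidHom : Subgroup G) : Set G) = Set.univ) :
    H = ⊤ := by
  have hg : g⁻¹ ∈ (H : Set G) * ((H.map (MulAut.conj g).toMonoidHom : Subgroup G) : Set G) := by
    rw [h]; exact Set.mem_univ _
  obtain ⟨a, ha, k, hk, hak⟩ := hg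
  have hk' : g⁻¹ * k * g ∈ H := mem_map_conj.mp hk
  have hgH : g ∈ H := by
    have h1 : g⁻¹ * k * g = g⁻¹ * a⁻¹ := by
      have : k = a⁻¹ * g⁻¹ := by rw [← hak]; group
      rw [this]; group
    rw [h1] at hk'
    have h2 := H.mul_mem hk' ha
    have h3 : g⁻¹ * a⁻¹ * a = g⁻¹ := by group
    rw [h3] at h2
    exact (H.inv_mem_iff).mp h2
  have hK : H.map (MulAut.conj g).toMonoidHom = H := map_conj_eq_self_of_mem_normalizer
    (Subgroup.le_normalizer hgH)
  rw [hK] at h
  rw [eq_top_iff]
  intro x _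
  have hx : x ∈ (H : Set G) * (H : Set G) := by rw [h]; exact Set.mem_univ _
  obtain ⟨a, ha, b, hb, rfl⟩ := hx
  exact H.mul_mem ha hb

theorem center_eq_bot_of_simple [IsSimpleGroup G] (hG : ¬ IsMulCommutative G) :
    Subgroup.center G = ⊥ := by
  rcases (Subgroup.Normal.eq_bot_or_eq_top (inferInstance : (Subgroup.center G).Normal)) with h | h
  · exact h
  · exfalso
    apply hG
    refine ⟨⟨fun a b => ?_⟩⟩
    have : b ∈ Subgroup.center G := by rw [h]; exact Subgroup.mem_top b
    exact Subgroup.mem_center_iff.mp this a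

theorem normal_of_forall_le_map_conj (R : Subgroup G)
    (h : ∀ g : G, R ≤ R.map (MulAut.conj g).toMonoidHom) : R.Normal := by
  refine ⟨fun n hn g => ?_⟩
  have h1 := h g⁻¹ hn
  rw [mem_map_conj] at h1
  simpa using h1

theorem maxCentralizerProduct_of_simple [Finite G] [IsSimpleGroup G] (hG : ¬ IsMulCommutative G) :
    maxCentralizerProduct G = Nat.card G := by
  classical
  let 𝓕 : Set (Subgroup G) := {R | IsCentralizerLarge R}
  have hfin : 𝓕.Finite := Set.toFinite _
  obtain ⟨R₀, hR₀⟩ := exists_cdm_eq_max (S := G)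
  have hne : 𝓕.Nonempty := ⟨R₀, hR₀⟩
  obtain ⟨R, hR, hmin⟩ := hfin.exists_minimal hne
  have hRn : R.Normal := by
    apply normal_of_forall_le_map_conj
    intro g
    have h1 : R ⊓ R.map (MulAut.conj g).toMonoidHom ∈ 𝓕 :=
      (cd_lattice R _ hR (isCentralizerLarge_map_conj R g hR)).2.1
    have h2 := hmin h1 inf_le_left
    exact (le_inf_iff.mp h2).2
  have hR' : cdm R = maxCentralizerProduct G := hR
  rw [← hR']
  unfold cdm
  rcases hRn.eq_bot_or_eq_top with h | h
  · rw [h]
    have : Subgroup.centralizer (((⊥ : Subgroup G) : Subgroup G) : Set G) = ⊤ := by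
      rw [Subgroup.centralizer_eq_top_iff_subset]
      intro x hx
      have hx' : x = 1 := by simpa using hx
      rw [hx']
      exact Subgroup.one_mem _
    rw [this, Subgroup.card_bot, one_mul, Subgroup.card_top]
  · rw [h]
    have : Subgroup.centralizer (((⊤ : Subgroup G) : Subgroup G) : Set G) = ⊥ := by
      rw [Subgroup.coe_top, Subgroup.centralizer_univ]
      exact center_eq_bot_of_simple hG
    rw [this, Subgroup.card_bot, mul_one, Subgroup.card_top]

theorem cdm_lt_card_of_simple [Finite G] [IsSimpleGroup G] (hG : ¬ IsMulCommutative G)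
    (A : Subgroup G) (hA1 : A ≠ ⊥) (hA2 : A ≠ ⊤) : cdm A < Nat.card G := by
  classical
  have hm := maxCentralizerProduct_of_simple hG
  by_contra hcon
  push Not at hcon
  have hAl : IsCentralizerLarge A := isCentralizerLarge_of_le A (hm ▸ hcon)
  let 𝓕 : Set (Subgroup G) := {K | IsCentralizerLarge K ∧ K ≠ ⊥ ∧ K ≤ A}
  have hfin : 𝓕.Finite := Set.toFinite _
  have hne : 𝓕.Nonempty := ⟨A, hAl, hA1, le_rfl⟩
  obtain ⟨K, ⟨hK, hK1, hKA⟩, hmin⟩ := hfin.exists_minimal hne
  have hK2 : K ≠ ⊤ := by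
    intro h
    apply hA2
    rw [eq_top_iff, ← h]; exact hKA
  -- some conjugate differs from K
  have hex : ∃ g : G, K.map (MulAut.conj g).toMonoidHom ≠ K := by
    by_contra hall
    push Not at hall
    have hn : K.Normal := normal_of_forall_le_map_conj K (fun g => (hall g).symm.le)
    rcases hn.eq_bot_or_eq_top with h | h
    · exact hK1 h
    · exact hK2 h
  obtain ⟨g, hg⟩ := hex
  set Kg := K.map (MulAut.conj g).toMonoidHom with hKg
  have hKgl : IsCentralizerLarge Kg := isCentralizerLarge_map_conj K g hK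
  obtain ⟨hsup, hinf, hcoe, -⟩ := cd_lattice K Kg hK hKgl
  have hinf_bot : K ⊓ Kg = ⊥ := by
    by_contra hne'
    have h1 : K ⊓ Kg ∈ 𝓕 := ⟨hinf, hne', inf_le_left.trans hKA⟩
    have h2 := hmin h1 inf_le_left
    have h3 : K ≤ Kg := (le_inf_iff.mp h2).2
    have h4 : Nat.card ↥Kg ≤ Nat.card ↥K := by rw [hKg, card_map_conj]
    exact hg (Subgroup.eq_of_le_of_card_ge h3 h4).symm
  -- |K ⊔ Kg| = |K|^2
  have hc1 : Nat.card ↥(K ⊔ Kg) = Nat.card ↥K * Nat.card ↥K := by
    have h1 := card_setMul_mul_card_inf K Kg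
    rw [hinf_bot, Subgroup.card_bot, mul_one] at h1
    have h2 : Nat.card ↥(K ⊔ Kg) = Nat.card ((K : Set G) * (Kg : Set G) : Set G) := by
      rw [← hcoe]; rfl
    rw [h2, h1, hKg, card_map_conj]
  -- centralizers
  set H := Subgroup.centralizer (K : Set G) with hH
  have hHg : Subgroup.centralizer (Kg : Set G) = H.map (MulAut.conj g).toMonoidHom := by
    rw [hKg, hH, centralizer_map_conj]
  obtain ⟨hHl, -⟩ := cd_centralizer K hK
  have hHgl : IsCentralizerLarge (H.map (MulAut.conj g).toMonoidHom) :=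
    isCentralizerLarge_map_conj H g hHl
  obtain ⟨-, -, hcoeH, -⟩ := cd_lattice H _ hHl hHgl
  have hc2 := card_setMul_mul_card_inf H (H.map (MulAut.conj g).toMonoidHom)
  rw [card_map_conj] at hc2
  have hc3 : H ⊓ H.map (MulAut.conj g).toMonoidHom =
      Subgroup.centralizer ((K ⊔ Kg : Subgroup G) : Set G) := by
    rw [centralizer_sup_eq, hHg]
  have hc4 : cdm (K ⊔ Kg) = Nat.card G := by rw [← hm]; exact hsup
  have hc5 : cdm K = Nat.card G := by rw [← hm]; exact hK
  unfold cdm at hc4 hc5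
  rw [hc1, ← hc3] at hc4
  rw [← hH] at hc5
  have hc6 : Nat.card ↥(H ⊔ H.map (MulAut.conj g).toMonoidHom) =
      Nat.card ((H : Set G) * ((H.map (MulAut.conj g).toMonoidHom : Subgroup G) : Set G) : Set G) := by
    rw [← hcoeH]; rfl
  rw [← hc6] at hc2
  -- arithmetic: |H ⊔ Hg| = |G|
  have hc7 : Nat.card ↥(H ⊔ H.map (MulAut.conj g).toMonoidHom) = Nat.card G := by
    have hpos : 0 < Nat.card G := Nat.card_pos
    have h1 : Nat.card ↥(H ⊔ H.map (MulAut.conj g).toMonoidHom) * Nat.card G =
        Nat.card G * Nat.card G := by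
      calc Nat.card ↥(H ⊔ H.map (MulAut.conj g).toMonoidHom) * Nat.card G
          = Nat.card ↥(H ⊔ H.map (MulAut.conj g).toMonoidHom) *
              (Nat.card ↥K * Nat.card ↥K * Nat.card ↥(H ⊓ H.map (MulAut.conj g).toMonoidHom)) := by
            rw [hc4]
        _ = (Nat.card ↥(H ⊔ H.map (MulAut.conj g).toMonoidHom) *
              Nat.card ↥(H ⊓ H.map (MulAut.conj g).toMonoidHom)) * (Nat.card ↥K * Nat.card ↥K) := by
            ring
        _ = (Nat.card ↥H * Nat.card ↥H) * (Nat.card ↥K * Nat.card ↥K) := by rw [hc2]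
        _ = (Nat.card ↥K * Nat.card ↥H) * (Nat.card ↥K * Nat.card ↥H) := by ring
        _ = Nat.card G * Nat.card G := by rw [hc5]
    exact Nat.eq_of_mul_eq_mul_right hpos h1
  have htop : H ⊔ H.map (MulAut.conj g).toMonoidHom = ⊤ :=
    Subgroup.eq_top_of_card_eq _ hc7
  have huniv : (H : Set G) * ((H.map (MulAut.conj g).toMonoidHom : Subgroup G) : Set G) = Set.univ := by
    rw [← hcoeH, htop, Subgroup.coe_top]
  have hHtop := eq_top_of_setMul_conj_eq_univ H g huniv
  apply hK1
  rw [eq_bot_iff, ← center_eq_bot_of_simple hG]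
  intro x hx
  rw [Subgroup.mem_center_iff]
  intro y
  have hy : y ∈ H := by rw [hHtop]; exact Subgroup.mem_top y
  exact (Subgroup.mem_centralizer_iff.mp hy x hx).symm

end CDsimple

end Cfsg.Agent.Lib.Helper6
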