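import Mathlib
import Cfsg.Prelude.Def_BaumannBlocks
import Cfsg.Prelude.Def_PLocal
import Cfsg.Agent.Lib.Helper2.GCLDefs
import Cfsg.Agent.Lib.Helper6.ChermakDelgado4
import Cfsg.Agent.Lib.Helper6.ChermakDelgado5

set_option autoImplicit false

/-! S3008 (b), package PC1: (C0), (C1), (C1'). -/

namespace Cfsg.Agent.Lib.Helper2.GCL

open scoped Pointwise
open Cfsg Cfsg.Agent.Lib.Helper6

variable {S : Type*} [Group S]

theorem zc_facts [Finite S] (Q : Subgroup S) (hQ : IsMinimalCentrallyLarge Q) :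
    IsCentralizerLarge (zc Q) ∧ Subgroup.centralizer (zc Q : Set S) = Q ∧
      zc Q = Subgroup.centralizer (Q : Set S) ∧ zc Q ≤ Subgroup.centralizer (zc Q : Set S) := by
  obtain ⟨hQ1, hQ2⟩ := isCentrallyLarge_centralizer Q hQ.1
  obtain ⟨hZ, hCC⟩ := cd_centralizer Q hQ1
  have h3 : zc Q = Subgroup.centralizer (Q : Set S) := by
    unfold zc
    exact hQ2.symm
  have h2 : Subgroup.centralizer (zc Q : Set S) = Q := by
    rw [h3]
    exact hCC.symm
  refine ⟨?_, h2, h3, ?_⟩
  · rw [h3]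
    exact hZ
  · rw [h2]
    unfold zc
    exact inf_le_left

/-- pc1: the centralizer of an abelian member is centrally large. -/
theorem pc1_cl_centralizer [Finite S] (Y : Subgroup S)
    (hY : IsCentralizerLarge Y) (hYab : Y ≤ Subgroup.centralizer (Y : Set S)) :
    IsCentrallyLarge (Subgroup.centralizer (Y : Set S)) := by
  obtain ⟨hC, hCC⟩ := cd_centralizer Y hY
  rw [isCentrallyLarge_iff_of_isCentralizerLarge _ hC, ← hCC]
  exact hYab

/-- pc1: the order equation `|Y| |C(Y)| = |Q| |Z(Q)|`. -/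
theorem pc1_card_eq [Finite S] (Q Y : Subgroup S) (hQ : IsMinimalCentrallyLarge Q)
    (hY : IsCentralizerLarge Y) :
    Nat.card Y * Nat.card (Subgroup.centralizer (Y : Set S)) =
      Nat.card Q * Nat.card (zc Q) := by
  obtain ⟨hQ1, hQ2⟩ := isCentrallyLarge_centralizer Q hQ.1
  obtain ⟨-, -, h3, -⟩ := zc_facts Q hQ
  have e1 : Nat.card Y * Nat.card (Subgroup.centralizer (Y : Set S)) = maxCentralizerProduct S := hY
  have e2 : Nat.card Q * Nat.card (Subgroup.centralizer (Q : Set S)) = maxCentralizerProduct S := hQ1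
  rw [e1, h3, e2]

/-- (C0) -/
theorem abMember_card_le [Finite S] (Q Y : Subgroup S) (hQ : IsMinimalCentrallyLarge Q)
    (hY : IsCentralizerLarge Y) (hYab : Y ≤ Subgroup.centralizer (Y : Set S)) :
    Nat.card Y ≤ Nat.card (zc Q) := by
  have hcl := pc1_cl_centralizer Y hY hYab
  obtain ⟨R, hR, hRle⟩ := exists_isMinimalCentrallyLarge_le _ hcl
  have hRQ : Nat.card R = Nat.card Q := (min_cl_card_eq R Q hR hQ).1
  have hle : Nat.card Q ≤ Nat.card (Subgroup.centralizer (Y : Set S)) := by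
    rw [← hRQ]
    exact Subgroup.card_le_of_le hRle
  have heq := pc1_card_eq Q Y hQ hY
  have hQpos : 0 < Nat.card Q := Nat.card_pos
  have h1 : Nat.card Y * Nat.card Q ≤ Nat.card Q * Nat.card (zc Q) := by
    rw [← heq]
    exact Nat.mul_le_mul_left _ hle
  rw [mul_comm] at h1
  exact Nat.le_of_mul_le_mul_left h1 hQpos

/-- (C1) -/
theorem mcl_of_abMember [Finite S] (Q Y : Subgroup S) (hQ : IsMinimalCentrallyLarge Q)
    (hY : IsCentralizerLarge Y) (hYab : Y ≤ Subgroup.centralizer (Y : Set S))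
    (hc : Nat.card (zc Q) ≤ Nat.card Y) :
    IsMinimalCentrallyLarge (Subgroup.centralizer (Y : Set S)) ∧
      zc (Subgroup.centralizer (Y : Set S)) = Y := by
  have hcl := pc1_cl_centralizer Y hY hYab
  obtain ⟨hC, hCC⟩ := cd_centralizer Y hY
  obtain ⟨R, hR, hRle⟩ := exists_isMinimalCentrallyLarge_le _ hcl
  have hRQ : Nat.card R = Nat.card Q := (min_cl_card_eq R Q hR hQ).1
  have heq := pc1_card_eq Q Y hQ hY
  have hYpos : 0 < Nat.card Y := Nat.card_pos
  -- `|C(Y)| ≤ |Q|`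
  have hle : Nat.card (Subgroup.centralizer (Y : Set S)) ≤ Nat.card Q := by
    have h1 : Nat.card Y * Nat.card (Subgroup.centralizer (Y : Set S)) ≤ Nat.card Y * Nat.card Q := by
      rw [heq, mul_comm]
      exact Nat.mul_le_mul_right _ hc
    exact Nat.le_of_mul_le_mul_left h1 hYpos
  have hRC : R = Subgroup.centralizer (Y : Set S) :=
    Subgroup.eq_of_le_of_card_ge hRle (by rw [hRQ]; exact hle)
  refine ⟨hRC ▸ hR, ?_⟩
  unfold zc
  rw [← hCC]
  exact inf_eq_right.mpr hYab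

/-- (C1') -/
theorem le_zc_of_abMember [Finite S] (Q Y : Subgroup S) (hQ : IsMinimalCentrallyLarge Q)
    (hY : IsCentralizerLarge Y) (hYab : Y ≤ Subgroup.centralizer (Y : Set S))
    (hc : Y ≤ Subgroup.centralizer (zc Q : Set S)) : Y ≤ zc Q := by
  obtain ⟨hZ, hCZ, hZC, hZab⟩ := zc_facts Q hQ
  obtain ⟨hsup, -, -, -⟩ := cd_lattice Y (zc Q) hY hZ
  have hc' : zc Q ≤ Subgroup.centralizer (Y : Set S) := by
    intro z hz
    rw [Subgroup.mem_centralizer_iff]
    intro y hy
    exact ((Subgroup.mem_centralizer_iff.mp (hc hy)) z hz).symm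
  have hab : Y ⊔ zc Q ≤ Subgroup.centralizer ((Y ⊔ zc Q : Subgroup S) : Set S) := by
    rw [centralizer_sup_eq]
    exact sup_le (le_inf hYab hc) (le_inf hc' hZab)
  have hcard := abMember_card_le Q (Y ⊔ zc Q) hQ hsup hab
  have heq : zc Q = Y ⊔ zc Q := Subgroup.eq_of_le_of_card_ge le_sup_right hcard
  rw [heq]
  exact le_sup_left

end Cfsg.Agent.Lib.Helper2.GCL
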