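import Mathlib
import Cfsg.Prelude.Def_BaumannBlocks
import Cfsg.Prelude.Def_PLocal
import Cfsg.Agent.Lib.Helper2.GCLDefs
import Cfsg.Agent.Lib.Helper6.ChermakDelgado4
import Cfsg.Agent.Lib.Helper6.ChermakDelgado5
import Cfsg.Agent.Lib.Helper6.GCLPC1

set_option autoImplicit false

/-! S3008 (b), package PC2: (C2). -/

namespace Cfsg.Agent.Lib.Helper2.GCL

open scoped Pointwise
open Cfsg Cfsg.Agent.Lib.Helper6

variable {S : Type*} [Group S]

/-- pc2: elements of `zc Q` commute. -/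
theorem pc2_zc_comm (Q : Subgroup S) : ∀ x ∈ zc Q, ∀ y ∈ zc Q, x * y = y * x := by
  intro x hx y hy
  unfold zc at hx hy
  exact Subgroup.mem_centralizer_iff.mp hy.2 x hx.1

/-- pc2: a conjugate of a member is a member. -/
theorem pc2_cj_member (A : Subgroup S) (b : S) (hA : IsCentralizerLarge A) :
    IsCentralizerLarge (cj A b) :=
  isCentralizerLarge_map_conj A b hA

/-- pc2: `RHyp` for two members `A`, `B` that are abelian. -/
theorem pc2_rhyp_of_members [Finite S] (A B : Subgroup S) (b : S)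
    (hA : IsCentralizerLarge A) (hB : IsCentralizerLarge B)
    (hAab : ∀ x ∈ A, ∀ y ∈ A, x * y = y * x) (hBab : ∀ x ∈ B, ∀ y ∈ B, x * y = y * x)
    (hb : b ∈ B) : RHyp A B b where
  hA := hAab
  hB := hBab
  hAB := (cd_lattice A B hA hB).2.2.1
  hb := hb
  hT := (cd_lattice A (cj A b) hA (pc2_cj_member A b hA)).2.2.1

/-- pc2: the replacement of a member `A` against a member `B` is a member. -/
theorem pc2_repl_member [Finite S] (A B : Subgroup S) (b : S)
    (hA : IsCentralizerLarge A) (hB : IsCentralizerLarge B) :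
    IsCentralizerLarge (repl A B b) := by
  have hAb := pc2_cj_member A b hA
  obtain ⟨hsup, hinf, -, -⟩ := cd_lattice A (cj A b) hA hAb
  obtain ⟨-, hinf2, -, -⟩ := cd_lattice B (A ⊔ cj A b) hB hsup
  unfold repl
  exact (cd_lattice _ _ hinf hinf2).1

theorem rhyp_zc_zc [Finite S] (Q Q' : Subgroup S) (hQ : IsMinimalCentrallyLarge Q)
    (hQ' : IsMinimalCentrallyLarge Q') (b : S) (hb : b ∈ zc Q') : RHyp (zc Q) (zc Q') b :=
  pc2_rhyp_of_members (zc Q) (zc Q') b (zc_facts Q hQ).1 (zc_facts Q' hQ').1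
    (pc2_zc_comm Q) (pc2_zc_comm Q') hb

set_option linter.unusedVariables false in
theorem repl_zc_member [Finite S] (Q Q' : Subgroup S) (hQ : IsMinimalCentrallyLarge Q)
    (hQ' : IsMinimalCentrallyLarge Q') (b : S) (hb : b ∈ zc Q') :
    IsCentralizerLarge (repl (zc Q) (zc Q') b) :=
  pc2_repl_member (zc Q) (zc Q') b (zc_facts Q hQ).1 (zc_facts Q' hQ').1

end Cfsg.Agent.Lib.Helper2.GCL
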