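import Mathlib
import Cfsg.Prelude.Def_BaumannBlocks
import Cfsg.Prelude.Def_PLocal
import Cfsg.Agent.Lib.Helper2.GCLDefs
import Cfsg.Agent.Lib.Helper2.GCLPR1
import Cfsg.Agent.Lib.Helper6.ChermakDelgado4
import Cfsg.Agent.Lib.Helper6.ChermakDelgado5
import Cfsg.Agent.Lib.Helper6.GCLPC1
import Cfsg.Agent.Lib.Helper6.GCLPC2

set_option autoImplicit false

/-! S3008 (b), package PC3: (C3). -/

namespace Cfsg.Agent.Lib.Helper2.GCL

open scoped Pointwise
open Cfsg Cfsg.Agent.Lib.Helper6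

variable {S : Type*} [Group S]

theorem rhyp_zc_maxAb [Finite S] (Q A : Subgroup S) (hQ : IsMinimalCentrallyLarge Q)
    (hA : A ∈ maxAbelianSubgroups S) (a : S) (ha : a ∈ A) : RHyp (zc Q) A a where
  hA := pc2_zc_comm Q
  hB := fun _ hx _ hy => mul_comm_of_isMulCommutative hA.1 hx hy
  hAB := (cl_maxAbelian_centralizer Q A hQ.1 hA).2
  hb := ha
  hT := (cd_lattice (zc Q) (cj (zc Q) a) (zc_facts Q hQ).1
    (pc2_cj_member _ a (zc_facts Q hQ).1)).2.2.1

/-- pc3: pure arithmetic. -/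
theorem pc3_arith (q t d al be m : ℕ) (hq : 0 < q) (ht : 0 < t) (hbe : 0 < be)
    (e1 : t * be = q * al) (e2 : t * d = q * q) (e3 : m * be = d * al) : m = q := by
  have h1 : m * q * (be * t) = q * q * (be * t) := by
    calc m * q * (be * t) = (m * be) * (q * t) := by ring
      _ = (d * al) * (q * t) := by rw [e3]
      _ = (t * d) * (q * al) := by ring
      _ = (q * q) * (t * be) := by rw [e2, e1]
      _ = q * q * (be * t) := by ring
  have h2 : m * q = q * q := Nat.eq_of_mul_eq_mul_right (Nat.mul_pos hbe ht) h1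
  exact Nat.eq_of_mul_eq_mul_right hq h2

theorem repl_maxAb_member [Finite S] (Q A : Subgroup S) (hQ : IsMinimalCentrallyLarge Q)
    (hA : A ∈ maxAbelianSubgroups S) (a : S) (ha : a ∈ A) :
    IsCentralizerLarge (repl (zc Q) A a) := by
  obtain ⟨hZ, hCZ, hZC, hZab⟩ := zc_facts Q hQ
  obtain ⟨hQ1, hQ2⟩ := isCentrallyLarge_centralizer Q hQ.1
  have hR := rhyp_zc_maxAb Q A hQ hA a ha
  have hcard3 : Nat.card (repl (zc Q) A a) = Nat.card (zc Q) := repl_card hR
  have hQa : IsCentralizerLarge (cj Q a) := pc2_cj_member Q a hQ1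
  have hZa : IsCentralizerLarge (cj (zc Q) a) := pc2_cj_member _ a hZ
  -- `C(Z^a) = Q^a`
  have hCZa : Subgroup.centralizer (cj (zc Q) a : Set S) = cj Q a := by
    have := centralizer_map_conj (zc Q) a
    rw [hCZ] at this
    exact this.symm
  -- `Q^a ≤ Q ⊔ A`
  have hQale : cj Q a ≤ Q ⊔ A := by
    intro x hx
    rw [mem_cj] at hx
    have h1 : x = a * (a⁻¹ * x * a) * a⁻¹ := by group
    rw [h1]
    have haQA : a ∈ Q ⊔ A := (le_sup_right : A ≤ Q ⊔ A) ha
    exact Subgroup.mul_mem _ (Subgroup.mul_mem _ haQA ((le_sup_left : Q ≤ Q ⊔ A) hx))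
      (Subgroup.inv_mem _ haQA)
  have hTle : Q ⊔ cj Q a ≤ Q ⊔ A := sup_le le_sup_left hQale
  obtain ⟨hQAset, -, -⟩ := cl_maxAbelian Q A hQ.1 hA
  -- `T = Q * A'` as sets
  have hTset : ((Q ⊔ cj Q a : Subgroup S) : Set S) =
      (Q : Set S) * ((A ⊓ (Q ⊔ cj Q a) : Subgroup S) : Set S) := by
    apply Set.Subset.antisymm
    · intro x hx
      have hx' : x ∈ ((Q ⊔ A : Subgroup S) : Set S) := hTle hx
      rw [hQAset] at hx'
      obtain ⟨u, hu, al, hal, rfl⟩ := hx'
      refine ⟨u, hu, al, ⟨hal, ?_⟩, rfl⟩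
      have h1 : al = u⁻¹ * (u * al) := by group
      rw [h1]
      exact Subgroup.mul_mem _ (Subgroup.inv_mem _ ((le_sup_left : Q ≤ Q ⊔ cj Q a) hu)) hx
    · rintro _ ⟨u, hu, al, hal, rfl⟩
      exact Subgroup.mul_mem _ ((le_sup_left : Q ≤ Q ⊔ cj Q a) hu) hal.2
  -- `T = Q * Q^a` as sets
  have hTset2 : ((Q ⊔ cj Q a : Subgroup S) : Set S) = (Q : Set S) * (cj Q a : Set S) :=
    (cd_lattice Q (cj Q a) hQ1 hQa).2.2.1
  -- `A ⊓ Q ≤ Q^a`
  have hAQ : A ⊓ Q ≤ cj Q a := by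
    intro x hx
    rw [mem_cj]
    have h1 : a⁻¹ * x * a = x := by
      have := mul_comm_of_isMulCommutative hA.1 hx.1 ha
      rw [mul_assoc, this, ← mul_assoc, inv_mul_cancel, one_mul]
    rw [h1]
    exact hx.2
  have hinf1 : Q ⊓ (A ⊓ (Q ⊔ cj Q a)) = Q ⊓ A := by
    apply le_antisymm
    · exact le_inf inf_le_left (inf_le_right.trans inf_le_left)
    · exact le_inf inf_le_left (le_inf inf_le_right (inf_le_left.trans le_sup_left))
  have hinf2 : (Q ⊓ cj Q a) ⊓ (A ⊓ (Q ⊔ cj Q a)) = Q ⊓ A := by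
    apply le_antisymm
    · exact le_inf (inf_le_left.trans inf_le_left) (inf_le_right.trans inf_le_left)
    · refine le_inf (le_inf inf_le_left ?_) (le_inf inf_le_right (inf_le_left.trans le_sup_left))
      intro x hx
      exact hAQ ⟨hx.2, hx.1⟩
  -- the card equations
  have e1 := card_setMul_mul_card_inf Q (A ⊓ (Q ⊔ cj Q a))
  have e2 := card_setMul_mul_card_inf Q (cj Q a)
  have e3 := card_setMul_mul_card_inf (Q ⊓ cj Q a) (A ⊓ (Q ⊔ cj Q a))
  rw [hinf1, ← hTset] at e1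
  rw [← hTset2, pr1_card_cj] at e2
  rw [hinf2] at e3
  have hTcard : Nat.card (((Q ⊔ cj Q a : Subgroup S) : Set S)) = Nat.card (Q ⊔ cj Q a : Subgroup S) :=
    rfl
  rw [hTcard] at e1 e2
  have hm := pc3_arith (Nat.card Q) (Nat.card (Q ⊔ cj Q a : Subgroup S))
    (Nat.card (Q ⊓ cj Q a : Subgroup S)) (Nat.card (A ⊓ (Q ⊔ cj Q a) : Subgroup S))
    (Nat.card (Q ⊓ A : Subgroup S)) _ Nat.card_pos Nat.card_pos Nat.card_pos e1 e2 e3
  -- the set `(Q ⊓ Q^a) * A'` centralizes `Z3`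
  have hsub : ((Q ⊓ cj Q a : Subgroup S) : Set S) * ((A ⊓ (Q ⊔ cj Q a) : Subgroup S) : Set S) ⊆
      (Subgroup.centralizer (repl (zc Q) A a : Set S) : Set S) := by
    have h1 : Q ⊓ cj Q a ≤ Subgroup.centralizer (repl (zc Q) A a : Set S) := by
      have h2 : Q ⊓ cj Q a = Subgroup.centralizer ((zc Q ⊔ cj (zc Q) a : Subgroup S) : Set S) := by
        rw [centralizer_sup_eq, hCZ, hCZa]
      rw [h2]
      apply Subgroup.centralizer_le
      unfold repl
      intro x hx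
      exact (sup_le (inf_le_left.trans le_sup_left) inf_le_right : _ ≤ zc Q ⊔ cj (zc Q) a) hx
    have h3 : A ⊓ (Q ⊔ cj Q a) ≤ Subgroup.centralizer (repl (zc Q) A a : Set S) := by
      unfold repl
      rw [centralizer_sup_eq]
      refine le_inf ?_ ?_
      · -- `Q ⊔ Q^a` centralizes `Z ⊓ Z^a`
        refine inf_le_right.trans (sup_le ?_ ?_)
        · calc Q = Subgroup.centralizer (zc Q : Set S) := hCZ.symm
            _ ≤ _ := Subgroup.centralizer_le (fun x hx => hx.1)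
        · calc cj Q a = Subgroup.centralizer (cj (zc Q) a : Set S) := hCZa.symm
            _ ≤ _ := Subgroup.centralizer_le (fun x hx => hx.2)
      · -- `A` centralizes `A ⊓ _`
        refine inf_le_left.trans ((le_centralizer_of_isMulCommutative hA.1).trans ?_)
        exact Subgroup.centralizer_le (fun x hx => hx.1)
    rintro _ ⟨u, hu, v, hv, rfl⟩
    exact Subgroup.mul_mem _ (h1 hu) (h3 hv)
  have hCcard : Nat.card Q ≤ Nat.card (Subgroup.centralizer (repl (zc Q) A a : Set S)) := by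
    rw [← hm]
    exact Nat.card_mono (Set.toFinite _) hsub
  apply isCentralizerLarge_of_le
  have hM : Nat.card Q * Nat.card (zc Q) = maxCentralizerProduct S := by
    rw [hZC]
    exact hQ1
  unfold cdm
  rw [← hM, hcard3, mul_comm]
  exact Nat.mul_le_mul_left _ hCcard

end Cfsg.Agent.Lib.Helper2.GCL
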