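import Mathlib
import Cfsg.Prelude.Def_BaumannBlocks
import Cfsg.Prelude.Def_PLocal
import Cfsg.Agent.Lib.Helper2.GCLDefs
import Cfsg.Agent.Lib.Helper6.ChermakDelgado4
import Cfsg.Agent.Lib.Helper6.ChermakDelgado5
import Cfsg.Agent.Lib.Helper6.GCLPC1

set_option autoImplicit false

/-! S3008 (b), package PC4: (C4). -/

namespace Cfsg.Agent.Lib.Helper2.GCL

open scoped Pointwise
open Cfsg Cfsg.Agent.Lib.Helper6

variable {S : Type*} [Group S]

/-- (C4) -/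
theorem mcl_le_normalizer [Finite S] (Q Q' : Subgroup S) (hQ : IsMinimalCentrallyLarge Q)
    (hQ' : IsMinimalCentrallyLarge Q') (h : zc Q' ≤ Subgroup.normalizer (zc Q : Set S)) :
    Q' ≤ Subgroup.normalizer (zc Q : Set S) := by
  obtain ⟨hZ, hCZ, hZC, hZab⟩ := zc_facts Q hQ
  obtain ⟨hZ', hCZ', hZC', hZab'⟩ := zc_facts Q' hQ'
  -- `W := Z ⊔ Z'`
  obtain ⟨hW, -, -, -⟩ := cd_lattice (zc Q) (zc Q') hZ hZ'
  obtain ⟨hCW, hCCW⟩ := cd_centralizer _ hW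
  obtain ⟨-, hY0, -, hCY0⟩ := cd_lattice _ _ hW hCW
  -- `Y0 := W ⊓ C(W)` is an abelian member centralizing `Z'`
  have hY0ab : (zc Q ⊔ zc Q') ⊓ Subgroup.centralizer ((zc Q ⊔ zc Q' : Subgroup S) : Set S)
      ≤ Subgroup.centralizer ((((zc Q ⊔ zc Q') ⊓
        Subgroup.centralizer ((zc Q ⊔ zc Q' : Subgroup S) : Set S) : Subgroup S)) : Set S) := by
    refine inf_le_right.trans (Subgroup.centralizer_le ?_)
    intro x hx
    exact hx.1
  have hY0c : (zc Q ⊔ zc Q') ⊓ Subgroup.centralizer ((zc Q ⊔ zc Q' : Subgroup S) : Set S)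
      ≤ Subgroup.centralizer (zc Q' : Set S) := by
    refine inf_le_right.trans (Subgroup.centralizer_le ?_)
    intro x hx
    exact (le_sup_right : zc Q' ≤ zc Q ⊔ zc Q') hx
  have hY0le := le_zc_of_abMember Q' _ hQ' hY0 hY0ab hY0c
  -- `Q' = C(Z') ≤ C(Y0) = C(W) * W`
  intro x hx
  have hx1 : x ∈ Subgroup.centralizer (zc Q' : Set S) := by
    rw [hCZ']
    exact hx
  have hx2 : x ∈ (Subgroup.centralizer ((((zc Q ⊔ zc Q') ⊓
        Subgroup.centralizer ((zc Q ⊔ zc Q' : Subgroup S) : Set S) : Subgroup S)) : Set S) : Set S) :=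
    Subgroup.centralizer_le (fun y hy => hY0le hy) hx1
  rw [hCY0, ← hCCW] at hx2
  obtain ⟨c, hc, w, hw, rfl⟩ := hx2
  apply Subgroup.mul_mem
  · -- `c ∈ C(W) ≤ C(Z) ≤ N(Z)`
    apply Subgroup.centralizer_le_normalizer
    exact Subgroup.centralizer_le (fun y hy => (le_sup_left : zc Q ≤ zc Q ⊔ zc Q') hy) hc
  · -- `w ∈ W = Z ⊔ Z' ≤ N(Z)`
    exact (sup_le Subgroup.le_normalizer h) hw

end Cfsg.Agent.Lib.Helper2.GCL
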