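import Mathlib
import Cfsg.Agent.Lib.Helper4.PPDefs
import Cfsg.Agent.Lib.Helper4.HH13

set_option autoImplicit false
set_option linter.unusedVariables false
set_option linter.unusedSectionVars false

/-! S3793 (Shult–Gross), package M-B: the orbit-sum lemma and the commutative case of the
prime-power module theorem. -/

namespace Cfsg.Agent.Lib.Helper6.PPMB

open Module Cfsg.Agent.Lib.Helper4.FM Cfsg.Agent.Lib.Helper4.HH Cfsg.Agent.Lib.Helper4.PP

section MB

variable {K : Type*} [Field K] {G : Type*} [Group G] {V : Type*} [AddCommGroup V] [Module K V]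
  (ρ : Representation K G V) (M : Subgroup G) [hMn : M.Normal]

/-- if `x ^ i` moves the weight `χ` for `0 < i < s` and `v ∈ wt χ` is fixed by `x ^ s`, then
`∑_{i<s} ρ (x^i) v` is a fixed vector of `x`, non-zero unless `v = 0`. -/
theorem orbit_sum_fixed (hcomm : ∀ a b : M, Commute (ρ (a : G)) (ρ (b : G)))
    (x : G) (s : ℕ) (hs : 0 < s) (χ : M → K)
    (hmin : ∀ i, 0 < i → i < s → conjWt M (x ^ i) χ ≠ χ)
    (v : V) (hv : v ∈ wt ρ M χ) (hfix : ρ (x ^ s) v = v)
    (hx : ∀ w : V, ρ x w = w → w = 0) : v = 0 := by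
  classical
  obtain ⟨t, rfl⟩ : ∃ t, s = t + 1 := ⟨s - 1, by omega⟩
  have hf0 : ρ (x ^ 0) v = v := by
    rw [pow_zero, map_one, Module.End.one_apply]
  have hstep : ∀ i, ρ x (ρ (x ^ i) v) = ρ (x ^ (i + 1)) v := by
    intro i
    rw [← Module.End.mul_apply, ← map_mul, ← pow_succ']
  have hxw : ρ x (∑ i ∈ Finset.range (t + 1), ρ (x ^ i) v) =
      ∑ i ∈ Finset.range (t + 1), ρ (x ^ i) v := by
    rw [map_sum]
    simp_rw [hstep]
    have h1 := Finset.sum_range_succ (fun i => ρ (x ^ i) v) (t + 1)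
    have h2 := Finset.sum_range_succ' (fun i => ρ (x ^ i) v) (t + 1)
    rw [h1] at h2
    simp only [hfix, hf0] at h2
    exact (add_right_cancel h2).symm
  have hw0 := hx _ hxw
  rw [Finset.sum_range_succ', hf0] at hw0
  -- hw0 : ∑ i ∈ range t, ρ (x ^ (i+1)) v + v = 0
  have hmem : ∑ i ∈ Finset.range t, ρ (x ^ (i + 1)) v ∈ ⨆ (ψ) (_ : ψ ≠ χ), wt ρ M ψ := by
    apply Submodule.sum_mem
    intro i hi
    rw [Finset.mem_range] at hi
    have hne : conjWt M (x ^ (i + 1)) χ ≠ χ := hmin (i + 1) (by omega) (by omega)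
    have h1 : ρ (x ^ (i + 1)) v ∈ wt ρ M (conjWt M (x ^ (i + 1)) χ) :=
      map_mem_wt ρ M (x ^ (i + 1)) χ v hv
    exact Submodule.mem_iSup_of_mem _ (Submodule.mem_iSup_of_mem hne h1)
  have hv' : v = -∑ i ∈ Finset.range t, ρ (x ^ (i + 1)) v := by
    rw [eq_neg_iff_add_eq_zero, add_comm]
    exact hw0
  have hvm : v ∈ ⨆ (ψ) (_ : ψ ≠ χ), wt ρ M ψ := by
    rw [hv']
    exact Submodule.neg_mem _ hmem
  have hind := (iSupIndep_def.1 (iSupIndep_wt ρ M hcomm)) χ
  exact (Submodule.disjoint_def.1 hind) v hv hvm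

theorem conjWt_zpow_eq (e : G) (χ : M → K) (h : conjWt M e χ = χ) (k : ℤ) :
    conjWt M (e ^ k) χ = χ := by
  have hinv : conjWt M e⁻¹ χ = χ := by
    have := congrArg (conjWt M e⁻¹) h
    rw [← conjWt_mul, inv_mul_cancel, conjWt_one] at this
    exact this.symm
  have hnat : ∀ n : ℕ, conjWt M (e ^ n) χ = χ := by
    intro n
    induction n with
    | zero => rw [pow_zero, conjWt_one]
    | succ n ih => rw [pow_succ, conjWt_mul, h, ih]
  have hnat' : ∀ n : ℕ, conjWt M (e⁻¹ ^ n) χ = χ := by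
    intro n
    induction n with
    | zero => rw [pow_zero, conjWt_one]
    | succ n ih => rw [pow_succ, conjWt_mul, hinv, ih]
  obtain ⟨n, rfl | rfl⟩ := Int.eq_nat_or_neg k
  · rw [zpow_natCast]
    exact hnat n
  · rw [zpow_neg, zpow_natCast, ← inv_pow]
    exact hnat' n

/-- `M` acts commutatively, `x` has no fixed vector, `τ` lies in every non-trivial subgroup of
`⟨x⟩`: then `[M, τ]` acts trivially. -/
theorem ab_comm_trivial_pp [IsAlgClosed K] [FiniteDimensional K V] [Finite M]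
    (hM : (Nat.card M : K) ≠ 0)
    (hcomm : ∀ a b : M, Commute (ρ (a : G)) (ρ (b : G)))
    (x τ : G) (hfin : IsOfFinOrder x)
    (hτ : ∀ e ∈ Subgroup.zpowers x, e ≠ 1 → τ ∈ Subgroup.zpowers e)
    (H4 : ∀ w : V, ρ x w = w → w = 0) :
    ∀ m ∈ M, ρ (m⁻¹ * τ⁻¹ * m * τ) = 1 := by
  classical
  intro m hm
  have hspan := iSup_wt_eq_top ρ M hcomm hM
  -- the key claim: `τ` fixes every weight with a non-zero weight space
  have hclaim : ∀ χ : M → K, wt ρ M χ ≠ ⊥ → conjWt M τ χ = χ := by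
    intro χ hχ
    have hex : ∃ s : ℕ, 0 < s ∧ conjWt M (x ^ s) χ = χ :=
      ⟨orderOf x, hfin.orderOf_pos, by rw [pow_orderOf_eq_one, conjWt_one]⟩
    set s := Nat.find hex with hs_def
    obtain ⟨hs, hstab⟩ := Nat.find_spec hex
    have hmin : ∀ i, 0 < i → i < s → conjWt M (x ^ i) χ ≠ χ := by
      intro i hi his hc
      exact Nat.find_min hex his ⟨hi, hc⟩
    have hne1 : x ^ s ≠ 1 := by
      intro h1
      apply hχ
      rw [Submodule.eq_bot_iff]
      intro v hv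
      apply orbit_sum_fixed ρ M hcomm x s hs χ hmin v hv _ H4
      rw [h1, map_one, Module.End.one_apply]
    have hmemx : x ^ s ∈ Subgroup.zpowers x := Subgroup.pow_mem _ (Subgroup.mem_zpowers x) s
    obtain ⟨k, hk⟩ := Subgroup.mem_zpowers_iff.1 (hτ (x ^ s) hmemx hne1)
    rw [← hk]
    exact conjWt_zpow_eq M (x ^ s) χ hstab k
  -- the fixed space of the commutator contains every weight space
  have hle : ∀ χ : M → K, wt ρ M χ ≤ LinearMap.ker (ρ (m⁻¹ * τ⁻¹ * m * τ) - 1) := by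
    intro χ v hv
    rw [LinearMap.mem_ker, LinearMap.sub_apply, Module.End.one_apply, sub_eq_zero]
    by_cases hχ : wt ρ M χ = ⊥
    · rw [hχ, Submodule.mem_bot] at hv
      rw [hv, map_zero]
    · have hc := hclaim χ hχ
      have h1 : ρ τ v ∈ wt ρ M χ := by
        have := map_mem_wt ρ M τ χ v hv
        rwa [hc] at this
      have h2 : ρ m (ρ τ v) = χ ⟨m, hm⟩ • ρ τ v := (mem_wt ρ M χ _).1 h1 ⟨m, hm⟩
      have h3 : ρ m v = χ ⟨m, hm⟩ • v := (mem_wt ρ M χ _).1 hv ⟨m, hm⟩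
      rw [rho_mul_apply, rho_mul_apply, rho_mul_apply, h2, map_smul, rho_inv_cancel', ← h3,
        rho_inv_cancel']
  have htop : (⊤ : Submodule K V) ≤ LinearMap.ker (ρ (m⁻¹ * τ⁻¹ * m * τ) - 1) := by
    rw [← hspan]
    exact iSup_le hle
  apply LinearMap.ext
  intro v
  have := htop (Submodule.mem_top : v ∈ ⊤)
  rwa [LinearMap.mem_ker, LinearMap.sub_apply, sub_eq_zero] at this

end MB

end Cfsg.Agent.Lib.Helper6.PPMB
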