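import Mathlib
import Cfsg.Agent.Lib.Helper2.GR2MDefs
import Cfsg.Agent.Lib.Helper6.PPMB
import Cfsg.Agent.Lib.Lead.PPMF2

set_option autoImplicit false
set_option linter.unusedVariables false
set_option linter.unusedSectionVars false

/-! S3795 (Gross, `p = 2`), package AB: an `x`-invariant commutative subgroup of order prime to `ℓ`
commutes with `τ = x ^ (2 ^ n)` on the `ℓ`-torsion module `M` (`x` without fixed points on `M`,
`x ^ (2 ^ (n + 1))` trivial on `M`). -/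

namespace Cfsg.Agent.Lib.Helper6.GR2AB

open Module Cfsg.Agent.Lib.Helper4.FM Cfsg.Agent.Lib.Helper4.HH Cfsg.Agent.Lib.Helper4.PP
  Cfsg.Agent.Lib.Helper2.GR2M

universe u

section cyc

variable {G : Type*} [Group G]

/-- in a cyclic `2`-group `⟨x⟩`, `x ^ (2 ^ n)` lies in `⟨x ^ s⟩` unless `2 ^ (n + 1) ∣ s`. -/
theorem ab_tau_mem_zpowers (x : G) (N n s : ℕ) (hN : x ^ (2 ^ N) = 1) (hs : ¬ 2 ^ (n + 1) ∣ s) :
    x ^ (2 ^ n) ∈ Subgroup.zpowers (x ^ s) := by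
  have hs0 : s ≠ 0 := by
    rintro rfl
    exact hs (dvd_zero _)
  obtain ⟨a, m, hm, rfl⟩ := Nat.exists_eq_pow_mul_and_not_dvd hs0 2 (by norm_num)
  have han : a ≤ n := by
    by_contra h
    apply hs
    have h1 : n + 1 ≤ a := by omega
    exact Dvd.dvd.mul_right (pow_dvd_pow 2 h1) m
  rcases Nat.eq_zero_or_pos N with hN0 | hN0
  · subst hN0
    rw [pow_zero, pow_one] at hN
    rw [hN, one_pow, one_pow]
    exact (Subgroup.zpowers (1 : G)).one_mem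
  have hcop : Nat.Coprime m (2 ^ N) := by
    apply Nat.Coprime.pow_right
    exact ((Nat.Prime.coprime_iff_not_dvd Nat.prime_two).2 hm).symm
  have h1lt : 1 < 2 ^ N := Nat.one_lt_two_pow (by omega)
  obtain ⟨m', hm'⟩ := Nat.exists_mul_mod_eq_one_of_coprime hcop h1lt
  have key : ((x ^ (2 ^ a * m)) ^ (2 ^ (n - a))) ^ m' = x ^ (2 ^ n) := by
    have e2 : m * m' = 2 ^ N * (m * m' / 2 ^ N) + 1 := by
      have := Nat.div_add_mod (m * m') (2 ^ N)
      rw [hm'.2] at this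
      exact this.symm
    have e1 : 2 ^ a * m * (2 ^ (n - a) * m') = 2 ^ n * (m * m') := by
      have : 2 ^ n = 2 ^ a * 2 ^ (n - a) := by rw [← pow_add]; congr 1; omega
      rw [this]; ring
    rw [← pow_mul, ← pow_mul, e1, e2, mul_add, mul_one, pow_add, mul_left_comm, pow_mul, hN,
      one_pow, one_mul]
  rw [← key]
  exact Subgroup.pow_mem _ (Subgroup.pow_mem _ (Subgroup.mem_zpowers _) _) _

end cyc

section MB

variable {K : Type*} [Field K] {G : Type*} [Group G] {V : Type*} [AddCommGroup V] [Module K V]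
  (ρ : Representation K G V) (M : Subgroup G) [hMn : M.Normal]

/-- variant of `Helper6.PPMB.ab_comm_trivial_pp` where only the powers of `x` acting non-trivially
are required to have `τ` among their powers. -/
theorem ab_comm_trivial_ker [IsAlgClosed K] [FiniteDimensional K V] [Finite M]
    (hM : (Nat.card M : K) ≠ 0)
    (hcomm : ∀ a b : M, Commute (ρ (a : G)) (ρ (b : G)))
    (x τ : G) (hfin : IsOfFinOrder x)
    (hτ : ∀ s : ℕ, ρ (x ^ s) ≠ 1 → τ ∈ Subgroup.zpowers (x ^ s))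
    (H4 : ∀ w : V, ρ x w = w → w = 0) :
    ∀ m ∈ M, ρ (m⁻¹ * τ⁻¹ * m * τ) = 1 := by
  classical
  intro m hm
  have hspan := iSup_wt_eq_top ρ M hcomm hM
  have hclaim : ∀ χ : M → K, wt ρ M χ ≠ ⊥ → conjWt M τ χ = χ := by
    intro χ hχ
    have hex : ∃ s : ℕ, 0 < s ∧ conjWt M (x ^ s) χ = χ :=
      ⟨orderOf x, hfin.orderOf_pos, by rw [pow_orderOf_eq_one, conjWt_one]⟩
    set s := Nat.find hex with hs_def
    obtain ⟨hs, hstab⟩ := Nat.find_spec hex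
    have hmin : ∀ i, 0 < i → i < s → conjWt M (x ^ i) χ ≠ χ := by
      intro i hi his hc
      exact Nat.find_min hex his ⟨hi, hc⟩
    have hne1 : ρ (x ^ s) ≠ 1 := by
      intro h1
      apply hχ
      rw [Submodule.eq_bot_iff]
      intro v hv
      apply Cfsg.Agent.Lib.Helper6.PPMB.orbit_sum_fixed ρ M hcomm x s hs χ hmin v hv _ H4
      rw [h1, Module.End.one_apply]
    obtain ⟨k, hk⟩ := Subgroup.mem_zpowers_iff.1 (hτ s hne1)
    rw [← hk]
    exact Cfsg.Agent.Lib.Helper6.PPMB.conjWt_zpow_eq M (x ^ s) χ hstab k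
  have hle : ∀ χ : M → K, wt ρ M χ ≤ LinearMap.ker (ρ (m⁻¹ * τ⁻¹ * m * τ) - 1) := by
    intro χ v hv
    rw [LinearMap.mem_ker, LinearMap.sub_apply, Module.End.one_apply, sub_eq_zero]
    by_cases hχ : wt ρ M χ = ⊥
    · rw [hχ, Submodule.mem_bot] at hv
      rw [hv, map_zero]
    · have hc := hclaim χ hχ
      have h1 : ρ τ v ∈ wt ρ M χ := by
        have := map_mem_wt ρ M τ χ v hv
        rwa [hc] at this
      have h2 : ρ m (ρ τ v) = χ ⟨m, hm⟩ • ρ τ v := (mem_wt ρ M χ _).1 h1 ⟨m, hm⟩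
      have h3 : ρ m v = χ ⟨m, hm⟩ • v := (mem_wt ρ M χ _).1 hv ⟨m, hm⟩
      rw [rho_mul_apply, rho_mul_apply, rho_mul_apply, h2, map_smul, rho_inv_cancel', ← h3,
        rho_inv_cancel']
  have htop : (⊤ : Submodule K V) ≤ LinearMap.ker (ρ (m⁻¹ * τ⁻¹ * m * τ) - 1) := by
    rw [← hspan]
    exact iSup_le hle
  apply LinearMap.ext
  intro v
  have := htop (Submodule.mem_top : v ∈ ⊤)
  rwa [LinearMap.mem_ker, LinearMap.sub_apply, sub_eq_zero] at this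

end MB

open Cfsg.Agent.Lib.Lead.PPMF2 in
theorem ab_mod_aux {A : Type u} [Group A] [Finite A] {M : Type u} [AddCommGroup M] [Finite M]
    [DistribMulAction A M] (ℓ : ℕ) [hℓ : Fact ℓ.Prime] [Module (ZMod ℓ) M] (n : ℕ) (hℓ2 : ℓ ≠ 2)
    (x : A) (hxp : ∃ N : ℕ, x ^ (2 ^ N) = 1) (hx : ∀ m : M, x ^ (2 ^ (n + 1)) • m = m)
    (H4 : ∀ m : M, x • m = m → m = 0)
    (B : Subgroup A) (hBc : ∀ b ∈ B, ∀ b' ∈ B, b * b' = b' * b) (hBℓ : (Nat.card B).Coprime ℓ)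
    (hxB : ∀ b ∈ B, x * b * x⁻¹ ∈ B) :
    ∀ b ∈ B, ∀ m : M, x ^ (2 ^ n) • b • m = b • x ^ (2 ^ n) • m := by
  classical
  obtain ⟨N, hN⟩ := hxp
  set Nz : Subgroup A := Subgroup.normalizer (B : Set A) with hNz
  have hBN : B ≤ Nz := Subgroup.le_normalizer
  have hxN : x ∈ Nz := by
    rw [Subgroup.mem_normalizer_iff]
    intro m
    constructor
    · exact hxB m
    · intro hm
      have := conj_inv_mem B x (2 ^ N) (pow_pos (by norm_num) _) hN hxB _ hm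
      have e : x⁻¹ * (x * m * x⁻¹) * x = m := by group
      rwa [e] at this
  -- the representation of the normaliser over `ZMod ℓ` and its base change
  let ρ : Representation (ZMod ℓ) ↥Nz M := (addRepA (A := A) (M := M) ℓ).comp Nz.subtype
  have hρ : ∀ (a : ↥Nz) (m : M), ρ a m = (a : A) • m := fun a m => rfl
  let K := AlgebraicClosure (ZMod ℓ)
  let σ : Representation K ↥Nz (TensorProduct (ZMod ℓ) K M) := bc K ρ
  let B₁ : Subgroup ↥Nz := B.subgroupOf Nz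
  have hB₁n : B₁.Normal := Subgroup.normal_in_normalizer
  let x₁ : ↥Nz := ⟨x, hxN⟩
  have h2d : ¬ ℓ ∣ 2 := fun h => hℓ2 ((Nat.prime_dvd_prime_iff_eq hℓ.out Nat.prime_two).1 h)
  have h2k : ((2 : ℕ) : ZMod ℓ) ≠ 0 := cast_ne_zero_of_not_dvd ℓ 2 h2d
  have hN₁ : x₁ ^ (2 ^ N) = 1 := by
    apply Subtype.ext
    rw [Subgroup.coe_pow, Subgroup.coe_one]
    exact hN
  have hcard : (Nat.card B₁ : K) ≠ 0 := by
    apply cast_card_ne_zero_bc (k := ZMod ℓ) K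
    apply cast_ne_zero_of_not_dvd ℓ
    intro hd
    have h1 : Nat.card B₁ = Nat.card B := Nat.card_congr (Subgroup.subgroupOfEquivOfLe hBN).toEquiv
    rw [h1] at hd
    have h2 : ℓ ∣ Nat.gcd (Nat.card B) ℓ := Nat.dvd_gcd hd dvd_rfl
    rw [hBℓ] at h2
    exact hℓ.out.one_lt.ne' (Nat.dvd_one.1 h2)
  have hcomm : ∀ a b : B₁, Commute (σ (a : ↥Nz)) (σ (b : ↥Nz)) := by
    intro a b
    have hab : (a : ↥Nz) * (b : ↥Nz) = (b : ↥Nz) * (a : ↥Nz) := by
      apply Subtype.ext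
      rw [Subgroup.coe_mul, Subgroup.coe_mul]
      exact hBc _ (Subgroup.mem_subgroupOf.1 a.2) _ (Subgroup.mem_subgroupOf.1 b.2)
    show σ (a : ↥Nz) * σ (b : ↥Nz) = σ (b : ↥Nz) * σ (a : ↥Nz)
    rw [← map_mul, ← map_mul, hab]
  have hXk : (Nat.card (Subgroup.zpowers x₁) : ZMod ℓ) ≠ 0 :=
    card_zpowers_cast_ne_zero x₁ 2 N Nat.prime_two hN₁ h2k
  have hinv0 : inv ρ (Subgroup.zpowers x₁) = ⊥ := by
    rw [Submodule.eq_bot_iff]
    intro v hv
    apply H4 v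
    have := hv x₁ (Subgroup.mem_zpowers x₁)
    rw [hρ] at this
    exact this
  have H4σ : ∀ w, σ x₁ w = w → w = 0 := by
    intro w hw
    have hmem : w ∈ inv σ (Subgroup.zpowers x₁) := by
      intro s hs
      obtain ⟨i, rfl⟩ := Subgroup.mem_zpowers_iff.1 hs
      have hfix : ∀ j : ℕ, σ (x₁ ^ j) w = w := by
        intro j
        induction j with
        | zero => rw [pow_zero, map_one, Module.End.one_apply]
        | succ j ih => rw [pow_succ, rho_mul_apply, hw, ih]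
      obtain ⟨j, rfl | rfl⟩ := Int.eq_nat_or_neg i
      · rw [zpow_natCast]
        exact hfix j
      · rw [zpow_neg, zpow_natCast]
        have := hfix j
        conv_lhs => rw [← this]
        exact rho_inv_cancel' σ _ _
    have h1 : inv σ (Subgroup.zpowers x₁) = ⊥ := by
      show inv (bc K ρ) (Subgroup.zpowers x₁) = ⊥
      rw [inv_bc K ρ _ hXk, hinv0, Submodule.baseChange_bot]
    rw [h1, Submodule.mem_bot] at hmem
    exact hmem
  have hτ : ∀ s : ℕ, σ (x₁ ^ s) ≠ 1 → x₁ ^ (2 ^ n) ∈ Subgroup.zpowers (x₁ ^ s) := by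
    intro s hs
    apply ab_tau_mem_zpowers x₁ N n s hN₁
    rintro ⟨c, rfl⟩
    apply hs
    have h1 : ρ (x₁ ^ (2 ^ (n + 1))) = 1 := by
      apply LinearMap.ext
      intro m
      rw [hρ, Module.End.one_apply]
      show ((x₁ ^ (2 ^ (n + 1)) : ↥Nz) : A) • m = m
      rw [Subgroup.coe_pow]
      exact hx m
    show bc K ρ (x₁ ^ (2 ^ (n + 1) * c)) = 1
    rw [pow_mul, map_pow, bc_apply, h1, LinearMap.baseChange_one, one_pow]
  have hmain := ab_comm_trivial_ker σ B₁ hcard hcomm x₁ (x₁ ^ (2 ^ n)) (isOfFinOrder_of_finite x₁)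
    hτ H4σ
  intro b hb m
  have hb₁ : (⟨b, hBN hb⟩ : ↥Nz) ∈ B₁ := Subgroup.mem_subgroupOf.2 hb
  have h1 := hmain ⟨b, hBN hb⟩ hb₁
  have h2 : ρ ((⟨b, hBN hb⟩ : ↥Nz)⁻¹ * (x₁ ^ (2 ^ n))⁻¹ * ⟨b, hBN hb⟩ * x₁ ^ (2 ^ n)) = 1 := by
    have h3 : (ρ ((⟨b, hBN hb⟩ : ↥Nz)⁻¹ * (x₁ ^ (2 ^ n))⁻¹ * ⟨b, hBN hb⟩ * x₁ ^ (2 ^ n))).baseChange K =
        (1 : M →ₗ[ZMod ℓ] M).baseChange K :=
      h1.trans (LinearMap.baseChange_one (ZMod ℓ) M).symm
    exact LinearMap.baseChangeHom_injective (ZMod ℓ) M K h3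
  have h4 := LinearMap.congr_fun h2 m
  rw [hρ, Module.End.one_apply] at h4
  have h5 : ((((⟨b, hBN hb⟩ : ↥Nz)⁻¹ * (x₁ ^ (2 ^ n))⁻¹ * ⟨b, hBN hb⟩ * x₁ ^ (2 ^ n) : ↥Nz)) : A) =
      b⁻¹ * (x ^ (2 ^ n))⁻¹ * b * x ^ (2 ^ n) := rfl
  rw [h5, mul_smul, mul_smul, mul_smul] at h4
  -- h4 : b⁻¹ • (x^(2^n))⁻¹ • b • x^(2^n) • m = m
  have h6 := congrArg (fun t => x ^ (2 ^ n) • b • t) h4
  simp only [smul_inv_smul] at h6
  exact h6.symm

theorem ab_mod : ABStatement.{u} := by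
  intro A _ _ M _ _ _ ℓ n hℓ hℓ2 htor x hxp hx H4 B hBc hBℓ hxB
  have : Fact ℓ.Prime := ⟨hℓ⟩
  let iM : Module (ZMod ℓ) M := AddCommGroup.zmodModule htor
  exact ab_mod_aux ℓ n hℓ2 x hxp hx H4 B hBc hBℓ hxB

end Cfsg.Agent.Lib.Helper6.GR2AB
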