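import Mathlib
import Cfsg.Agent.Lib.Helper2.GR2M3Defs
import Cfsg.Agent.Lib.Helper4.HH12
import Cfsg.Agent.Lib.Lead.CoprimeAction

set_option autoImplicit false
set_option linter.unusedVariables false
set_option linter.unusedSectionVars false

/-! S3795 (Gross, `p = 2`), package M3-F: the three-layer module theorem follows from its version
for faithful actions (pass to the image of `A` in the units of `AddMonoid.End M`; fixed points of
`x` lift through the quotient map by coprime action). -/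

namespace Cfsg.Agent.Lib.Helper6.GR2M3F

open Cfsg.Agent.Lib.Helper2.GR2M Cfsg.Agent.Lib.Helper4.HH

universe u

section fpf

variable {A : Type u} [Group A] [Finite A] {A' : Type*} [Group A'] (f : A →* A')

/-- fixed points of a `2`-element `x` on an `x`-invariant `q`-group (`q` odd) lift through a
homomorphism: if `C_Q(x) = 1` then `C_{f(Q)}(f x) = 1`. -/
theorem m3f_fpf_map (x : A) (N : ℕ) (hN : x ^ (2 ^ N) = 1) (q : ℕ) (hq : q.Prime) (hq2 : q ≠ 2)
    (Q : Subgroup A) (hQ : IsPGroup q Q) (hxQ : ∀ m ∈ Q, x * m * x⁻¹ ∈ Q)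
    (hfpf : ∀ m ∈ Q, x * m = m * x → m = 1) :
    ∀ m ∈ Q.map f, f x * m = m * f x → m = 1 := by
  have hzn : Subgroup.zpowers x ≤ Subgroup.normalizer (Q : Set A) := by
    rw [Subgroup.zpowers_le, Subgroup.mem_normalizer_iff]
    intro m
    constructor
    · exact hxQ m
    · intro hm
      have := conj_inv_mem Q x (2 ^ N) (pow_pos (by norm_num) _) hN hxQ _ hm
      have e : x⁻¹ * (x * m * x⁻¹) * x = m := by group
      rwa [e] at this
  have hcop : (Nat.card (Subgroup.zpowers x)).Coprime (Nat.card Q) := by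
    rw [Nat.card_zpowers]
    obtain ⟨j, _, hj⟩ := (Nat.dvd_prime_pow Nat.prime_two).1 (orderOf_dvd_of_pow_eq_one hN)
    have : Fact q.Prime := ⟨hq⟩
    obtain ⟨i, hi⟩ := IsPGroup.iff_card.1 hQ
    rw [hj, hi]
    apply Nat.Coprime.pow
    exact (Nat.coprime_primes Nat.prime_two hq).2 (Ne.symm hq2)
  set Nk : Subgroup A := Q ⊓ f.ker with hNk
  have hNkn : ∀ g : A, ∀ y ∈ Nk, (g ∈ Subgroup.normalizer (Q : Set A)) → g * y * g⁻¹ ∈ Nk := by
    intro g y hy hg
    refine ⟨(Subgroup.mem_normalizer_iff.1 hg y).1 hy.1, ?_⟩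
    show g * y * g⁻¹ ∈ f.ker
    rw [MonoidHom.mem_ker, map_mul, map_mul, (MonoidHom.mem_ker).1 hy.2, mul_one, map_inv,
      mul_inv_cancel]
  rintro _ ⟨m, hm, rfl⟩ hc
  have hpow : ∀ a ∈ Subgroup.zpowers x, a * m * a⁻¹ * m⁻¹ ∈ Nk := by
    intro a ha
    have haQ : a * m * a⁻¹ ∈ Q := (Subgroup.mem_normalizer_iff.1 (hzn ha) m).1 hm
    refine ⟨Q.mul_mem haQ (Q.inv_mem hm), ?_⟩
    show a * m * a⁻¹ * m⁻¹ ∈ f.ker
    obtain ⟨i, rfl⟩ := ha
    have hci : f (x ^ i) * f m = f m * f (x ^ i) := by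
      rw [map_zpow]
      exact ((Commute.zpow_left (show Commute (f x) (f m) from hc)) i).eq
    rw [MonoidHom.mem_ker, map_mul, map_mul, map_mul, hci, map_inv, map_inv]
    group
  obtain ⟨c, hc1, hc2⟩ := Cfsg.Agent.Lib.Lead.coprime_fixed_coset (Subgroup.zpowers x) Q hzn hcop
    (Or.inl inferInstance) Nk inf_le_left
    (by
      intro g hg
      rw [Subgroup.mem_normalizer_iff]
      intro y
      have hgn : g ∈ Subgroup.normalizer (Q : Set A) := Subgroup.le_normalizer hg
      constructor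
      · intro hy
        exact hNkn g y hy hgn
      · intro hy
        have := hNkn g⁻¹ _ hy (Subgroup.inv_mem _ hgn)
        have e : g⁻¹ * (g * y * g⁻¹) * g⁻¹⁻¹ = y := by group
        rwa [e] at this)
    (by
      intro g hg
      rw [Subgroup.mem_normalizer_iff]
      intro y
      have hgn : g ∈ Subgroup.normalizer (Q : Set A) := hzn hg
      constructor
      · intro hy
        exact hNkn g y hy hgn
      · intro hy
        have := hNkn g⁻¹ _ hy (Subgroup.inv_mem _ hgn)
        have e : g⁻¹ * (g * y * g⁻¹) * g⁻¹⁻¹ = y := by group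
        rwa [e] at this)
    m hm hpow
  have hc0 : c = 1 := hfpf c hc1.1 (by
    have := (Subgroup.mem_centralizer_iff.1 hc1.2) x (Subgroup.mem_zpowers x)
    exact this)
  rw [hc0, mul_one] at hc2
  have := (MonoidHom.mem_ker).1 hc2.2
  rw [map_inv, inv_eq_one] at this
  exact this

end fpf

theorem mt3_of_faithful (h : MT3FStatement.{u}) : Cfsg.Agent.Lib.Helper3.GR2.MT3Statement.{u} := by
  intro A _ _ M _ _ _ ℓ q s n hℓ hq hs hℓ2 hq2 hs2 hqℓ hqs htor x hxp hx H4 P S hP hS hxP hxS hSP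
    hfP hfS a ha u hu m
  obtain ⟨N, hN⟩ := hxp
  let φ₀ : A →* (AddMonoid.End M)ˣ := (DistribMulAction.toAddMonoidEnd A M).toHomUnits
  let φ : A →* ↥φ₀.range := φ₀.rangeRestrict
  have : Finite ↥φ₀.range := Finite.of_surjective φ φ₀.rangeRestrict_surjective
  have hφ : ∀ (b : A) (m : M), φ b • m = b • m := fun b m => rfl
  have hφ1 : ∀ b : A, (∀ m : M, b • m = m) → φ b = 1 := by
    intro b hb
    apply Subtype.ext
    apply Units.ext
    apply DFunLike.ext
    intro m
    exact hb m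
  have hyp : M3Hyp M ℓ q s n (φ x) (P.map φ) (S.map φ) :=
    { hℓ := hℓ
      hq := hq
      hs := hs
      hℓ2 := hℓ2
      hq2 := hq2
      hs2 := hs2
      hqℓ := hqℓ
      hqs := hqs
      htor := htor
      hfaith := by
        rintro ⟨b', b, rfl⟩ hb
        exact hφ1 b (fun m => hb m)
      hxn := by
        rw [← map_pow]
        exact hφ1 _ hx
      hfM := fun m hm => H4 m hm
      hP := hP.map φ
      hS := hS.map φ
      hxP := by
        rintro _ ⟨v, hv, rfl⟩
        exact ⟨_, hxP v hv, by rw [map_mul, map_mul, map_inv]⟩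
      hxS := by
        rintro _ ⟨v, hv, rfl⟩
        exact ⟨_, hxS v hv, by rw [map_mul, map_mul, map_inv]⟩
      hSP := by
        rintro _ ⟨b, hb, rfl⟩ _ ⟨v, hv, rfl⟩
        exact ⟨_, hSP b hb v hv, by rw [map_mul, map_mul, map_inv]⟩
      hfP := m3f_fpf_map φ x N hN q hq hq2 P hP hxP hfP
      hfS := m3f_fpf_map φ x N hN s hs hs2 S hS hxS hfS }
  have key := h ℓ q s n (φ x) (P.map φ) (S.map φ) hyp (φ a) ⟨a, ha, rfl⟩ (φ u) ⟨u, hu, rfl⟩
  have e : cτ (φ x) n (φ a) = φ (a⁻¹ * x ^ (2 ^ n) * a * (x ^ (2 ^ n))⁻¹) := by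
    unfold cτ
    simp only [map_mul, map_inv, map_pow]
  rw [e, ← map_mul, ← map_mul] at key
  have h2 := congrArg (fun g : ↥φ₀.range => g • m) key
  simp only [hφ, mul_smul] at h2
  simp only [mul_smul]
  exact h2

end Cfsg.Agent.Lib.Helper6.GR2M3F
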