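import Mathlib
import Cfsg.Agent.Lib.Helper4.FM8

set_option autoImplicit false
set_option linter.unusedVariables false
set_option linter.unusedSectionVars false

/-! S3795 (Gross, `p = 2`): two wrapper lemmas for the base change in packages UP / LOW:
faithfulness survives the extension of scalars, and a `(-1)`-eigenvector of an operator of order
dividing `4` descends. -/

namespace Cfsg.Agent.Lib.Helper6.GR2UPW

open Module Cfsg.Agent.Lib.Helper4.FM

universe u

section MF

variable {k : Type*} [Field k] {A : Type u} [Group A] {V : Type*} [AddCommGroup V]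
  [Module k V]

/-- faithfulness survives the extension of scalars. -/
theorem up_bc_faithful (ρ : Representation k A V) (hρ : Function.Injective ρ) :
    ∀ m : A, bc (AlgebraicClosure k) ρ m = 1 → m = 1 := by
  intro m hm
  have h1 : ρ m = 1 := by
    have h2 : (ρ m).baseChange (AlgebraicClosure k) =
        (1 : V →ₗ[k] V).baseChange (AlgebraicClosure k) :=
      hm.trans (LinearMap.baseChange_one k V).symm
    exact LinearMap.baseChangeHom_injective k V (AlgebraicClosure k) h2
  exact hρ (by rw [h1, map_one])

/-- descent of a `(-1)`-eigenvector of an operator of order dividing `4` along an extension of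
scalars. -/
theorem up_descend (K : Type*) [Field K] [Algebra k K] (h2K : (2 : K) ≠ 0) (T : V →ₗ[k] V)
    (hT4 : T * T * T * T = 1)
    (v : TensorProduct k K V) (hv0 : v ≠ 0) (hv : T.baseChange K v = -v) :
    ∃ w : V, w ≠ 0 ∧ T w = -w := by
  set Nm : V →ₗ[k] V := 1 - T + T * T - T * T * T with hNm
  have hTN : T * Nm = -Nm := by
    have e1 : T * Nm = T - T * T + T * T * T - T * T * T * T := by
      rw [hNm]; noncomm_ring
    rw [e1, hT4, hNm]
    abel
  have hNv : Nm.baseChange K v = (4 : K) • v := by
    have e2 : Nm.baseChange K = 1 - T.baseChange K + T.baseChange K * T.baseChange K -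
        T.baseChange K * T.baseChange K * T.baseChange K := by
      rw [hNm, LinearMap.baseChange_sub, LinearMap.baseChange_add, LinearMap.baseChange_sub,
        LinearMap.baseChange_mul, LinearMap.baseChange_mul, LinearMap.baseChange_mul,
        LinearMap.baseChange_one]
    rw [e2]
    simp only [LinearMap.sub_apply, LinearMap.add_apply, Module.End.one_apply,
      Module.End.mul_apply, hv, map_neg, neg_neg]
    have : (4 : K) • v = v + v + v + v := by
      have h4 : (4 : K) = 1 + 1 + 1 + 1 := by norm_num
      rw [h4, add_smul, add_smul, add_smul, one_smul]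
    rw [this]
    abel
  have hN0 : Nm ≠ 0 := by
    intro h0
    rw [h0, LinearMap.baseChange_zero, LinearMap.zero_apply] at hNv
    have h4 : (4 : K) ≠ 0 := by
      have : (4 : K) = 2 * 2 := by norm_num
      rw [this]
      exact mul_ne_zero h2K h2K
    exact hv0 ((smul_eq_zero.1 hNv.symm).resolve_left h4)
  obtain ⟨m, hm⟩ : ∃ m : V, Nm m ≠ 0 := by
    by_contra hcon
    push Not at hcon
    exact hN0 (LinearMap.ext hcon)
  refine ⟨Nm m, hm, ?_⟩
  have := LinearMap.congr_fun hTN m
  rw [Module.End.mul_apply, LinearMap.neg_apply] at this
  exact this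

end MF

end Cfsg.Agent.Lib.Helper6.GR2UPW
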