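import Mathlib
import Cfsg.Agent.Lib.Helper2.GR2MDefs
import Cfsg.Agent.Lib.Helper4.GR2CORE
import Cfsg.Agent.Lib.Helper6.GR2M3F
import Cfsg.Agent.Lib.Helper6.GR2UPW
import Cfsg.Agent.Lib.Lead.PPMF2

set_option autoImplicit false
set_option linter.unusedVariables false
set_option linter.unusedSectionVars false

/-! S3795 (Gross, `p = 2`), package UP: if `τ = x ^ (2 ^ n)` does not commute with the `x`-invariant
`q`-group `Q` on the `ℓ`-torsion module `M`, then `n ≥ 1` and `ι = x ^ (2 ^ (n - 1))` has the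
eigenvalue `-1` on `M` (wrappers around `Helper4.GR2CORE.gr2_core`, frame of `Lead.PPMF2`). -/

namespace Cfsg.Agent.Lib.Helper6.GR2UP

open Module Cfsg.Agent.Lib.Helper4.FM Cfsg.Agent.Lib.Helper4.HH Cfsg.Agent.Lib.Helper4.PP
  Cfsg.Agent.Lib.Helper2.GR2M Cfsg.Agent.Lib.Lead.PPMF2 Cfsg.Agent.Lib.Helper6.GR2UPW

open scoped commutatorElement

universe u

section MF

variable {k : Type*} [Field k] {A : Type u} [Group A] [Finite A] {V : Type*} [AddCommGroup V]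
  [Module k V] [FiniteDimensional k V]

theorem up_min (ρ : Representation k A V) (hρ : Function.Injective ρ)
    (Q : Subgroup A) [hQn : Q.Normal] (x : A) (q n : ℕ)
    (hq : q.Prime) (hq2 : q ≠ 2) (hQ : IsPGroup q Q) (hx : x ^ (2 ^ (n + 1)) = 1)
    (hgen : ∀ S : Subgroup A, Q ≤ S → x ∈ S → S = ⊤)
    (hqk : (q : k) ≠ 0) (h2k : ((2 : ℕ) : k) ≠ 0)
    (hfpf : ∀ m ∈ Q, x * m = m * x → m = 1)
    (hmin : ∀ P : Subgroup A, P ≤ Q → (∀ m ∈ P, x * m * x⁻¹ ∈ P) → P ≠ Q →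
      ∀ m ∈ P, x ^ (2 ^ n) * m = m * x ^ (2 ^ n))
    (hnc : ∃ u ∈ Q, x ^ (2 ^ n) * u ≠ u * x ^ (2 ^ n))
    (H4 : inv ρ (Subgroup.zpowers x) = ⊥) :
    1 ≤ n ∧ ∃ v : V, v ≠ 0 ∧ ρ (x ^ (2 ^ (n - 1))) v = -v := by
  have hqK : ((q : ℕ) : AlgebraicClosure k) ≠ 0 := cast_card_ne_zero_bc (AlgebraicClosure k) q hqk
  have h2K' : ((2 : ℕ) : AlgebraicClosure k) ≠ 0 :=
    cast_card_ne_zero_bc (AlgebraicClosure k) 2 h2k
  have h2K : (2 : AlgebraicClosure k) ≠ 0 := by exact_mod_cast h2K'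
  have hXk : (Nat.card (Subgroup.zpowers x) : k) ≠ 0 :=
    card_zpowers_cast_ne_zero x 2 (n + 1) Nat.prime_two hx h2k
  have H4σ : inv (bc (AlgebraicClosure k) ρ) (Subgroup.zpowers x) = ⊥ := by
    rw [inv_bc (AlgebraicClosure k) ρ _ hXk, H4, Submodule.baseChange_bot]
  have hσ := up_bc_faithful ρ hρ
  obtain ⟨hn, ⟨v, hv0, hv⟩, _⟩ := Cfsg.Agent.Lib.Helper4.GR2CORE.gr2_core
    (bc (AlgebraicClosure k) ρ) Q hσ x q n hq hq2 hQ hx hgen hqK h2K hfpf hmin hnc H4σ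
  refine ⟨hn, ?_⟩
  have hι4 : (x ^ (2 ^ (n - 1))) ^ 4 = 1 := by
    rw [← pow_mul]
    have : 2 ^ (n - 1) * 4 = 2 ^ (n + 1) := by
      obtain ⟨j, rfl⟩ : ∃ j, n = j + 1 := ⟨n - 1, by omega⟩
      rw [Nat.add_sub_cancel, pow_succ, pow_succ]
      ring
    rw [this, hx]
  have hT4 : ρ (x ^ (2 ^ (n - 1))) * ρ (x ^ (2 ^ (n - 1))) * ρ (x ^ (2 ^ (n - 1))) *
      ρ (x ^ (2 ^ (n - 1))) = 1 := by
    rw [← map_mul, ← map_mul, ← map_mul, ← map_one ρ, ← hι4]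
    congr 1
    rw [pow_succ, pow_succ, pow_succ, pow_one]
  exact up_descend (AlgebraicClosure k) h2K (ρ (x ^ (2 ^ (n - 1)))) hT4 v hv0 hv

theorem up_faith (ρ : Representation k A V) (hρ : Function.Injective ρ) (x : A) (q n : ℕ)
    (hq : q.Prime) (hq2 : q ≠ 2) (hx : x ^ (2 ^ (n + 1)) = 1)
    (hqk : (q : k) ≠ 0) (h2k : ((2 : ℕ) : k) ≠ 0) (H4 : ∀ v : V, ρ x v = v → v = 0) :
    ∀ (N : ℕ) (Q : Subgroup A), Nat.card Q = N → IsPGroup q Q → (∀ m ∈ Q, x * m * x⁻¹ ∈ Q) →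
      (∀ m ∈ Q, x * m = m * x → m = 1) →
      (∃ u ∈ Q, x ^ (2 ^ n) * u ≠ u * x ^ (2 ^ n)) →
      1 ≤ n ∧ ∃ v : V, v ≠ 0 ∧ ρ (x ^ (2 ^ (n - 1))) v = -v := by
  intro N
  induction N using Nat.strong_induction_on with
  | _ N ih =>
  intro Q hcard hQ hxQ hfpf hnc
  by_cases hex : ∃ P : Subgroup A, P ≤ Q ∧ (∀ m ∈ P, x * m * x⁻¹ ∈ P) ∧ P ≠ Q ∧
      ∃ m ∈ P, x ^ (2 ^ n) * m ≠ m * x ^ (2 ^ n)
  · obtain ⟨P, hPQ, hxP, hne, hncP⟩ := hex
    have hlt : Nat.card P < N := by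
      rw [← hcard]
      by_contra hle
      push Not at hle
      exact hne (Subgroup.eq_of_le_of_card_ge hPQ hle)
    exact ih _ hlt P rfl (hQ.to_le hPQ) hxP (fun m hm => hfpf m (hPQ hm)) hncP
  push Not at hex
  have hminA : ∀ P : Subgroup A, P ≤ Q → (∀ m ∈ P, x * m * x⁻¹ ∈ P) → P ≠ Q →
      ∀ m ∈ P, x ^ (2 ^ n) * m = m * x ^ (2 ^ n) := fun P h1 h2 h3 m hm => hex P h1 h2 h3 m hm
  obtain ⟨u, hu, hxu⟩ := hnc
  -- pass to the subgroup generated by `Q` and `x`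
  set L : Subgroup A := Q ⊔ Subgroup.zpowers x with hL
  have hxL : x ∈ L := Subgroup.mem_sup_right (Subgroup.mem_zpowers x)
  have hQL : Q ≤ L := le_sup_left
  have hr : 0 < 2 ^ (n + 1) := pow_pos (by norm_num) _
  have hzn : ∀ e ∈ Subgroup.zpowers x, ∀ m ∈ Q, e * m * e⁻¹ ∈ Q := by
    have hnorm : x ∈ Subgroup.normalizer (Q : Set A) := by
      rw [Subgroup.mem_normalizer_iff]
      intro m
      constructor
      · exact hxQ m
      · intro hm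
        have := conj_inv_mem Q x (2 ^ (n + 1)) hr hx hxQ _ hm
        have e : x⁻¹ * (x * m * x⁻¹) * x = m := by group
        rwa [e] at this
    have hle : Subgroup.zpowers x ≤ Subgroup.normalizer (Q : Set A) :=
      (Subgroup.zpowers_le).2 hnorm
    exact (le_norm_iff _ _).1 hle
  haveI hQn : (Q.subgroupOf L).Normal := normal_subgroupOf_sup Q (Subgroup.zpowers x) hzn
  let ρ₁ : Representation k ↥L V := ρ.comp L.subtype
  have hρ₁ : Function.Injective ρ₁ := by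
    intro a b hab
    exact Subtype.ext (hρ hab)
  have hmain := up_min ρ₁ hρ₁ (Q.subgroupOf L) ⟨x, hxL⟩ q n hq hq2 hQ.comap_subtype
    (by apply Subtype.ext; rw [Subgroup.coe_pow]; exact hx)
    (by
      intro S hQS hxS
      rw [eq_top_iff]
      intro g _
      have hle : L ≤ S.map L.subtype := by
        apply sup_le
        · intro m hm
          exact ⟨⟨m, hQL hm⟩, hQS (Subgroup.mem_subgroupOf.2 hm), rfl⟩
        · rw [Subgroup.zpowers_le]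
          exact ⟨⟨x, hxL⟩, hxS, rfl⟩
      obtain ⟨g', hg', hgg'⟩ := hle g.2
      have : g' = g := Subtype.ext hgg'
      rwa [this] at hg')
    hqk h2k
    (by
      intro m hm hc
      have h1 := hfpf (m : A) (Subgroup.mem_subgroupOf.1 hm) (congrArg Subtype.val hc)
      exact Subtype.ext h1)
    (by
      intro P₁ hP₁ hxP₁ hne m hm
      have hP : P₁.map L.subtype ≤ Q := by
        rintro _ ⟨p, hp, rfl⟩
        exact Subgroup.mem_subgroupOf.1 (hP₁ hp)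
      have hxP : ∀ m ∈ P₁.map L.subtype, x * m * x⁻¹ ∈ P₁.map L.subtype := by
        rintro _ ⟨p, hp, rfl⟩
        exact ⟨_, hxP₁ p hp, rfl⟩
      have hne' : P₁.map L.subtype ≠ Q := by
        intro h
        apply hne
        rw [← Subgroup.comap_map_eq_self_of_injective L.subtype_injective P₁, h]
        rfl
      have := hminA _ hP hxP hne' (m : A) ⟨m, hm, rfl⟩
      exact Subtype.ext this)
    ⟨⟨u, hQL hu⟩, Subgroup.mem_subgroupOf.2 hu, by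
      intro h
      exact hxu (congrArg Subtype.val h)⟩
    (by
      rw [Submodule.eq_bot_iff]
      intro v hv
      exact H4 v (hv ⟨x, hxL⟩ (Subgroup.mem_zpowers _)))
  exact hmain

end MF

section rep

variable {k : Type*} [Field k] {A : Type u} [Group A] [Finite A] {V : Type*} [AddCommGroup V]
  [Module k V] [FiniteDimensional k V]

theorem up_rep (ρ : Representation k A V) (x : A) (q n : ℕ)
    (hq : q.Prime) (hq2 : q ≠ 2)
    (hxp : ∃ N : ℕ, x ^ (2 ^ N) = 1) (hx : ρ (x ^ (2 ^ (n + 1))) = 1)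
    (hqk : (q : k) ≠ 0) (h2k : ((2 : ℕ) : k) ≠ 0) (H4 : ∀ v : V, ρ x v = v → v = 0)
    (Q : Subgroup A) (hQ : IsPGroup q Q) (hxQ : ∀ m ∈ Q, x * m * x⁻¹ ∈ Q)
    (hfpf : ∀ m ∈ Q, x * m = m * x → m = 1)
    (hnc : ∃ u ∈ Q, ρ (x ^ (2 ^ n)) * ρ u ≠ ρ u * ρ (x ^ (2 ^ n))) :
    1 ≤ n ∧ ∃ v : V, v ≠ 0 ∧ ρ (x ^ (2 ^ (n - 1))) v = -v := by
  obtain ⟨N, hN⟩ := hxp
  let f : A →* ↥ρ.asGroupHom.range := ρ.asGroupHom.rangeRestrict
  haveI : Finite ↥ρ.asGroupHom.range :=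
    Finite.of_surjective f ρ.asGroupHom.rangeRestrict_surjective
  let ρ' : Representation k ↥ρ.asGroupHom.range V :=
    (Units.coeHom (Module.End k V)).comp ρ.asGroupHom.range.subtype
  have hρ'f : ∀ a : A, ρ' (f a) = ρ a := fun a => rfl
  have hρ' : Function.Injective ρ' := by
    intro a b hab
    apply Subtype.ext
    apply Units.ext
    exact hab
  have hf1 : ∀ a : A, f a = 1 ↔ ρ a = 1 := by
    intro a
    constructor
    · intro h
      rw [← hρ'f, h, map_one]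
    · intro h
      apply hρ'
      rw [hρ'f, h, map_one]
  have hfpf' := Cfsg.Agent.Lib.Helper6.GR2M3F.m3f_fpf_map f x N hN q hq hq2 Q hQ hxQ hfpf
  obtain ⟨u, hu, hxu⟩ := hnc
  have hmain := up_faith ρ' hρ' (f x) q n hq hq2
    (by rw [← map_pow, hf1]; exact hx) hqk h2k
    (fun v hv => H4 v hv) _ (Q.map f) rfl (hQ.map f)
    (by
      rintro _ ⟨m, hm, rfl⟩
      exact ⟨_, hxQ m hm, by rw [map_mul, map_mul, map_inv]⟩)
    hfpf'
    ⟨f u, ⟨u, hu, rfl⟩, by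
      intro h
      apply hxu
      have h2 := congrArg ρ' h
      rw [map_mul, map_mul, ← map_pow, hρ'f, hρ'f] at h2
      exact h2⟩
  obtain ⟨hn, v, hv0, hv⟩ := hmain
  refine ⟨hn, v, hv0, ?_⟩
  rw [← map_pow, hρ'f] at hv
  exact hv

end rep

theorem up_mod_aux {A : Type u} [Group A] [Finite A] {M : Type u} [AddCommGroup M] [Finite M]
    [DistribMulAction A M] (ℓ : ℕ) [hℓ : Fact ℓ.Prime] [Module (ZMod ℓ) M] (q n : ℕ)
    (hℓ2 : ℓ ≠ 2) (hq : q.Prime) (hq2 : q ≠ 2) (hqℓ : q ≠ ℓ)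
    (x : A) (hxp : ∃ N : ℕ, x ^ (2 ^ N) = 1) (hx : ∀ m : M, x ^ (2 ^ (n + 1)) • m = m)
    (H4 : ∀ m : M, x • m = m → m = 0)
    (Q : Subgroup A) (hQ : IsPGroup q Q) (hxQ : ∀ u ∈ Q, x * u * x⁻¹ ∈ Q)
    (hfpf : ∀ u ∈ Q, x * u = u * x → u = 1)
    (hnc : ∃ u ∈ Q, ∃ m : M, x ^ (2 ^ n) • u • m ≠ u • x ^ (2 ^ n) • m) :
    1 ≤ n ∧ ∃ m : M, m ≠ 0 ∧ x ^ (2 ^ (n - 1)) • m = -m := by
  have hqd : ¬ ℓ ∣ q := fun h => hqℓ ((Nat.prime_dvd_prime_iff_eq hℓ.out hq).1 h).symm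
  have h2d : ¬ ℓ ∣ 2 := fun h => hℓ2 ((Nat.prime_dvd_prime_iff_eq hℓ.out Nat.prime_two).1 h)
  obtain ⟨u, hu, m, hum⟩ := hnc
  have hmain := up_rep (addRepA (A := A) (M := M) ℓ) x q n hq hq2 hxp
    (by
      apply LinearMap.ext
      intro m
      rw [addRepA_apply]
      exact hx m)
    (cast_ne_zero_of_not_dvd ℓ q hqd) (cast_ne_zero_of_not_dvd ℓ 2 h2d)
    (by
      intro v hv
      rw [addRepA_apply] at hv
      exact H4 v hv)
    Q hQ hxQ hfpf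
    ⟨u, hu, by
      intro h
      apply hum
      have h2 := LinearMap.congr_fun h m
      rw [Module.End.mul_apply, Module.End.mul_apply, addRepA_apply, addRepA_apply,
        addRepA_apply, addRepA_apply] at h2
      exact h2⟩
  obtain ⟨hn, v, hv0, hv⟩ := hmain
  refine ⟨hn, v, hv0, ?_⟩
  rw [addRepA_apply] at hv
  exact hv

theorem up_mod : UPStatement.{u} := by
  intro A _ _ M _ _ _ ℓ q n hℓ hq hℓ2 hq2 hqℓ htor x hxp hx H4 Q hQ hxQ hfpf hnc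
  have : Fact ℓ.Prime := ⟨hℓ⟩
  let iM : Module (ZMod ℓ) M := AddCommGroup.zmodModule htor
  exact up_mod_aux ℓ q n hℓ2 hq hq2 hqℓ x hxp hx H4 Q hQ hxQ hfpf hnc

end Cfsg.Agent.Lib.Helper6.GR2UP
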