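import Cfsg.Agent.Lib.Helper6.TC1

set_option autoImplicit false

namespace Cfsg.Agent.Lib.Helper6.TC

/-! # Checks over a range of numbers, from the checks over consecutive shorter ranges

The kernel evaluates a check over a long range much more slowly than the checks over the pieces of
the range, one after the other. -/

theorem allB_of_forall {f : ℕ → Bool} {n : ℕ} (h : ∀ i < n, f i = true) : allB f n = true := by
  induction n with
  | zero => rfl
  | succ k ih =>
    rw [allB_succ, h k (Nat.lt_succ_self k)]
    exact ih (fun i hi => h i (Nat.lt_succ_of_lt hi))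

/-- consecutive ranges, given by their first elements and their lengths, from `a` to `N` -/
def chainOk : List (ℕ × ℕ) → ℕ → ℕ → Bool
  | [], a, N => a == N
  | c :: cs, a, N => c.1 == a && chainOk cs (a + c.2) N

theorem forall_of_chain (f : ℕ → Bool) : ∀ (cuts : List (ℕ × ℕ)) (a N : ℕ),
    chainOk cuts a N = true → (∀ c ∈ cuts, allR f c.1 c.2 = true) →
    ∀ i, a ≤ i → i < N → f i = true := by
  intro cuts
  induction cuts with
  | nil =>
    intro a N h _ i h1 h2
    simp only [chainOk, beq_iff_eq] at h
    omega
  | cons c cs ih =>
    intro a N h hall i h1 h2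
    simp only [chainOk, Bool.and_eq_true, beq_iff_eq] at h
    by_cases hi : i < a + c.2
    · exact allR_spec (hall c List.mem_cons_self) i (by omega) (by omega)
    · exact ih (a + c.2) N h.2 (fun c' hc' => hall c' (List.mem_cons_of_mem _ hc')) i (by omega) h2

theorem allB_of_chain (f : ℕ → Bool) (N : ℕ) (cuts : List (ℕ × ℕ))
    (hc : chainOk cuts 0 N = true) (h : ∀ c ∈ cuts, allR f c.1 c.2 = true) : allB f N = true :=
  allB_of_forall (fun i hi => forall_of_chain f cuts 0 N hc h i (Nat.zero_le i) hi)

theorem allR_of_chain (f : ℕ → Bool) (lo len : ℕ) (cuts : List (ℕ × ℕ))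
    (hc : chainOk cuts lo (lo + len) = true) (h : ∀ c ∈ cuts, allR f c.1 c.2 = true) :
    allR f lo len = true := by
  unfold allR
  apply allB_of_forall
  intro k hk
  exact forall_of_chain f cuts lo (lo + len) hc h (Nat.add lo k) (by show lo ≤ lo + k; omega)
    (by show lo + k < lo + len; omega)

end Cfsg.Agent.Lib.Helper6.TC
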