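import Cfsg.Agent.Lib.Helper6.LB2

set_option autoImplicit false

namespace Cfsg.Agent.Lib.Helper6.TC

/-! # Words in a faithful permutation representation of a presented group -/

section words
variable {Gen : Type*} {rels : Set (FreeGroup Gen)} {gc : ℕ → Gen × Bool}
variable {px : ℕ → ℕ → ℕ} {N ncol INV : ℕ}
variable {φ : PresentedGroup rels →* Equiv.Perm (Fin N)}

/-- two words acting in the same way give the same element -/
theorem mk_eq_of_wapp_eq (hinj : Function.Injective φ)
    (hw : ∀ w, (∀ c ∈ w, c < ncol) → ∀ p : Fin N,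
      ((φ (PresentedGroup.mk rels (wordElt gc w)))⁻¹ p).val = wapp px w p.val)
    {w w' : List ℕ} (hwl : ∀ c ∈ w, c < ncol) (hwl' : ∀ c ∈ w', c < ncol)
    (h : ∀ q < N, wapp px w q = wapp px w' q) :
    PresentedGroup.mk rels (wordElt gc w) = PresentedGroup.mk rels (wordElt gc w') := by
  apply hinj
  apply inv_injective
  ext p
  rw [hw w hwl p, hw w' hwl' p, h p.val p.isLt]

/-- a word acting trivially is trivial -/
theorem mk_eq_one_of_fix (hinj : Function.Injective φ)
    (hw : ∀ w, (∀ c ∈ w, c < ncol) → ∀ p : Fin N,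
      ((φ (PresentedGroup.mk rels (wordElt gc w)))⁻¹ p).val = wapp px w p.val)
    {w : List ℕ} (hwl : ∀ c ∈ w, c < ncol) (h : ∀ q < N, wapp px w q = q) :
    PresentedGroup.mk rels (wordElt gc w) = 1 := by
  have := mk_eq_of_wapp_eq (gc := gc) hinj hw hwl (w' := []) (by simp) (by
    intro q hq
    rw [h q hq, wapp_nil])
  rw [this, wordElt_nil, map_one]

/-- the order of a word whose `p`-th power acts trivially -/
theorem orderOf_word (hinj : Function.Injective φ)
    (hw : ∀ w, (∀ c ∈ w, c < ncol) → ∀ p : Fin N,
      ((φ (PresentedGroup.mk rels (wordElt gc w)))⁻¹ p).val = wapp px w p.val)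
    {p : ℕ} [Fact p.Prime] {w : List ℕ} (hwl : ∀ c ∈ w, c < ncol)
    (hpow : ∀ q < N, wapp px (List.replicate p w).flatten q = q)
    {q0 : ℕ} (hq0 : q0 < N) (hmove : wapp px w q0 ≠ q0) :
    orderOf (PresentedGroup.mk rels (wordElt gc w)) = p := by
  apply orderOf_eq_prime
  · rw [← map_pow, ← wordElt_flatten_replicate]
    apply mk_eq_one_of_fix hinj hw _ hpow
    intro c hc
    rw [List.mem_flatten] at hc
    obtain ⟨l, hl, hcl⟩ := hc
    rw [List.eq_of_mem_replicate hl] at hcl
    exact hwl c hcl
  · intro h
    apply hmove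
    have := hw w hwl ⟨q0, hq0⟩
    rw [h, map_one, inv_one] at this
    exact this.symm

/-- the action on the cosets is faithful: no normal subgroup inside the stabiliser -/
theorem core_eq_bot (hinj : Function.Injective φ) {H : Subgroup (PresentedGroup rels)}
    (F : (PresentedGroup rels ⧸ H) ≃ Fin N) (hF : ∀ g q, F (g • q) = φ g (F q)) :
    ∀ K : Subgroup (PresentedGroup rels), K.Normal → K ≤ H → K = ⊥ := by
  intro K hK hKH
  rw [eq_bot_iff]
  intro k hk
  rw [Subgroup.mem_bot]
  apply hinj
  rw [map_one]
  ext p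
  obtain ⟨q, rfl⟩ := F.surjective p
  rw [← hF, Equiv.Perm.one_apply]
  apply congrArg (fun z => (F z).val)
  induction q using QuotientGroup.induction_on with
  | H g =>
    change ((k * g : PresentedGroup rels) : PresentedGroup rels ⧸ H) = (g : PresentedGroup rels ⧸ H)
    rw [QuotientGroup.eq]
    have h1 : g⁻¹ * k⁻¹ * g⁻¹⁻¹ ∈ K := hK.conj_mem _ (K.inv_mem hk) g⁻¹
    have e : (k * g)⁻¹ * g = g⁻¹ * k⁻¹ * g⁻¹⁻¹ := by group
    rw [e]
    exact hKH h1

/-- a conjugate of a power of the product of an element with one of its conjugates -/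
theorem conj_word_mem
    (hinvG : ∀ c < ncol, PresentedGroup.mk rels (ceOf gc (invc INV c)) =
      (PresentedGroup.mk rels (ceOf gc c))⁻¹)
    {K : Subgroup (PresentedGroup rels)} (hK : K.Normal) {w u v : List ℕ} (k : ℕ)
    (hul : ∀ c ∈ u, c < ncol) (hvl : ∀ c ∈ v, c < ncol)
    (hx : PresentedGroup.mk rels (wordElt gc w) ∈ K) :
    PresentedGroup.mk rels (wordElt gc
      (invw INV v ++ (List.replicate k (w ++ invw INV u ++ w ++ u)).flatten ++ v)) ∈ K := by
  rw [wordElt_append, wordElt_append, map_mul, map_mul, mk_wordElt_invw hinvG v hvl,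
    wordElt_flatten_replicate, map_pow, wordElt_append, wordElt_append, wordElt_append, map_mul,
    map_mul, map_mul, mk_wordElt_invw hinvG u hul]
  have h1 : (PresentedGroup.mk rels (wordElt gc u))⁻¹ * PresentedGroup.mk rels (wordElt gc w) *
      (PresentedGroup.mk rels (wordElt gc u))⁻¹⁻¹ ∈ K := hK.conj_mem _ hx _
  rw [inv_inv] at h1
  have h2 : PresentedGroup.mk rels (wordElt gc w) * (PresentedGroup.mk rels (wordElt gc u))⁻¹ *
      PresentedGroup.mk rels (wordElt gc w) * PresentedGroup.mk rels (wordElt gc u) ∈ K := by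
    have := K.mul_mem hx h1
    simpa only [mul_assoc] using this
  have h3 := K.pow_mem h2 k
  have h4 := hK.conj_mem _ h3 (PresentedGroup.mk rels (wordElt gc v))⁻¹
  rw [inv_inv] at h4
  exact h4

end words

section collapse
variable {Gen : Type*} {rels : Set (FreeGroup Gen)} {gc : ℕ → Gen × Bool}

theorem eq_one_of_pow_odd {Q : Type*} [Group Q] {y : Q} {m : ℕ} (hm : Odd m) (h1 : y ^ m = 1)
    (h2 : y * y = 1) : y = 1 := by
  obtain ⟨k, rfl⟩ := hm
  have h3 : y ^ 2 = 1 := by rw [pow_two]; exact h2
  rw [pow_succ, pow_mul, h3, one_pow, one_mul] at h1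
  exact h1

/-- removing the killed columns from a word does not change its image -/
theorem map_wordElt_filter {Q : Type*} [Group Q] (π : PresentedGroup rels →* Q) (killed : List ℕ)
    (hk : ∀ c ∈ killed, π (PresentedGroup.mk rels (ceOf gc c)) = 1) (w : List ℕ) :
    π (PresentedGroup.mk rels (wordElt gc w)) =
      π (PresentedGroup.mk rels (wordElt gc (w.filter (fun c => decide (c ∉ killed))))) := by
  induction w with
  | nil => rfl
  | cons c w ih =>
    by_cases hc : c ∈ killed
    · rw [List.filter_cons_of_neg (by simpa using hc), wordElt_cons, map_mul, map_mul, hk c hc,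
        one_mul, ih]
    · rw [List.filter_cons_of_pos (by simpa using hc), wordElt_cons, wordElt_cons, map_mul, map_mul,
        map_mul, map_mul, ih]

theorem wordElt_replicate (c m : ℕ) : wordElt gc (List.replicate m c) = (ceOf gc c) ^ m := by
  induction m with
  | zero => rfl
  | succ k ih => rw [List.replicate_succ, wordElt_cons, ih, pow_succ']

/-- cancel adjacent equal letters -/
def sqred : List ℕ → List ℕ
  | [] => []
  | c :: w =>
    match sqred w with
    | [] => [c]
    | d :: r => if c = d then r else c :: d :: r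

theorem sqred_cons (c : ℕ) (w : List ℕ) : sqred (c :: w) =
    (match sqred w with
    | [] => [c]
    | d :: r => if c = d then r else c :: d :: r) := rfl

theorem mk_wordElt_sqred
    (hsq : ∀ c, PresentedGroup.mk rels (ceOf gc c) * PresentedGroup.mk rels (ceOf gc c) = 1)
    (w : List ℕ) :
    PresentedGroup.mk rels (wordElt gc (sqred w)) = PresentedGroup.mk rels (wordElt gc w) := by
  induction w with
  | nil => rfl
  | cons c w ih =>
    rw [wordElt_cons, map_mul, ← ih, sqred_cons]
    cases h : sqred w with
    | nil => simp [wordElt_cons, wordElt_nil]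
    | cons d r =>
      by_cases hcd : c = d
      · subst hcd
        simp only [if_true, wordElt_cons, map_mul]
        rw [← mul_assoc, hsq, one_mul]
      · simp only [if_neg hcd, wordElt_cons, map_mul]

/-- one step of a collapse: a relator that becomes an odd power of a column once the killed
columns are removed and the squares cancelled kills that column -/
theorem collapse_step {Q : Type*} [Group Q] (π : PresentedGroup rels →* Q) (killed : List ℕ)
    (hsq : ∀ c, PresentedGroup.mk rels (ceOf gc c) * PresentedGroup.mk rels (ceOf gc c) = 1)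
    (hk : ∀ c ∈ killed, π (PresentedGroup.mk rels (ceOf gc c)) = 1)
    {b : List ℕ} (hb : PresentedGroup.mk rels (wordElt gc b) = 1) {c m : ℕ}
    (hf : sqred (b.filter (fun c => decide (c ∉ killed))) = List.replicate m c) (hm : Odd m) :
    ∀ d ∈ c :: killed, π (PresentedGroup.mk rels (ceOf gc d)) = 1 := by
  intro d hd
  rcases List.mem_cons.mp hd with rfl | hd
  · apply eq_one_of_pow_odd hm
    · rw [← map_pow, ← map_pow, ← wordElt_replicate, ← hf, mk_wordElt_sqred hsq,
        ← map_wordElt_filter π killed hk, hb, map_one]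
    · rw [← map_mul, hsq, map_one]
  · exact hk d hd

/-- a normal subgroup containing the images of all the columns is everything -/
theorem eq_top_of_columns {K : Subgroup (PresentedGroup rels)} [K.Normal] {ncol : ℕ}
    (hgen : ∀ g : Gen, ∃ c < ncol, gc c = (g, false))
    (h : ∀ c < ncol, QuotientGroup.mk' K (PresentedGroup.mk rels (ceOf gc c)) = 1) : K = ⊤ := by
  rw [eq_top_iff]
  intro x _
  apply PresentedGroup.generated_by rels K
  intro g
  obtain ⟨c, hc, e⟩ := hgen g
  have := h c hc
  rw [QuotientGroup.mk'_apply, QuotientGroup.eq_one_iff] at this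
  unfold ceOf at this
  rw [e] at this
  exact this

end collapse

end Cfsg.Agent.Lib.Helper6.TC
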