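import Cfsg.Agent.Lib.Helper6.WP4

set_option autoImplicit false

namespace Cfsg.Agent.Lib.Helper6.TC

/-! # A step of a chain of subgroups with relators that are not in the list of the base words -/

section step
variable {Gen : Type*} {rels : Set (FreeGroup Gen)} {gc : ℕ → Gen × Bool}
variable {k' : ℕ} [NeZero k']

/-- a subgroup of index at most `N` generated by columns between which the relators `base'`
hold (each one for a reason of its own): the order is at most `N` times the order of the group
presented by `base'` -/
theorem top_step' {S : Set (FreeGroup Gen)} {base' : List (List ℕ)} (cm : ℕ → ℕ) {N m : ℕ}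
    (hidx : (subH rels S).index ≤ N ∧ (subH rels S).index ≠ 0)
    (hS : ∀ s ∈ S, ∃ i < k', s = ceOf gc (cm i))
    (hbl' : ∀ b ∈ base', ∀ c ∈ b, c < k')
    (hrel : ∀ b ∈ base', PresentedGroup.mk rels (wordElt gc (b.map cm)) = 1)
    (hfin : Finite (WG k' base') ∧ Nat.card (WG k' base') ≤ m) :
    Finite (PresentedGroup rels) ∧ Nat.card (PresentedGroup rels) ≤ N * m := by
  obtain ⟨h1, h2⟩ := sub_card_le (rels := rels) (gc := gc) (S := S) cm hbl' hrel hS hfin.1
  exact card_le_of_index (subH rels S) hidx.1 hidx.2 h1 (h2.trans hfin.2)

/-- a word that lies in the trivial subgroup generated by no words -/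
theorem wp_eq_one_of_mem_nil {base : List (List ℕ)} {g : PresentedGroup (wrels k' base)}
    (h : g ∈ subH (wrels k' base) (wset k' [])) : g = 1 := by
  rw [subH_wset_nil base] at h
  exact Subgroup.mem_bot.mp h

end step

end Cfsg.Agent.Lib.Helper6.TC
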