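import Cfsg.Agent.Lib.Helper6.Simp1
import Cfsg.Agent.Lib.Helper6.Simp2
import Cfsg.Agent.Lib.Helper6.WP5

set_option autoImplicit false

namespace Cfsg.Agent.Lib.Helper6.Simp

open Cfsg.Agent.Lib.Helper6.TC
open scoped Pointwise

/-! # A criterion of simplicity: a maximal subgroup of any rank, a prime power dividing its index -/

section sylow
variable {G : Type*} [Group G]

/-- a normal subgroup whose order is divisible by the full power of `p` dividing the order of the
group contains every element of order `p` -/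
theorem mem_normal_of_prime_order' [Finite G] {p k : ℕ} [hp : Fact p.Prime] (N : Subgroup G)
    [hN : N.Normal] (hpN : p ^ k ∣ Nat.card N) (hp2 : ¬ p ^ (k + 1) ∣ Nat.card G) {x : G}
    (hx : orderOf x = p) : x ∈ N := by
  have h1 : Nat.card N * N.index = Nat.card G := Subgroup.card_mul_index N
  have hnd : ¬ p ∣ N.index := by
    intro h
    apply hp2
    rw [← h1, pow_succ]
    exact Nat.mul_dvd_mul hpN h
  have h2 : orderOf (QuotientGroup.mk' N x) ∣ p := by
    rw [← hx]
    exact orderOf_map_dvd _ x
  have h3 : orderOf (QuotientGroup.mk' N x) ∣ N.index := by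
    rw [Subgroup.index_eq_card]
    exact orderOf_dvd_natCard _
  have h4 : orderOf (QuotientGroup.mk' N x) = 1 := by
    rcases (Nat.dvd_prime hp.out).mp h2 with h | h
    · exact h
    · rw [h] at h3
      exact absurd h3 hnd
  rw [orderOf_eq_one_iff] at h4
  exact (QuotientGroup.eq_one_iff x).mp h4

/-- the criterion of simplicity, with a prime power -/
theorem simple_of_max' [Finite G] [Nontrivial G] (H : Subgroup G)
    (hmax : ∀ M : Subgroup G, H ≤ M → M = H ∨ M = ⊤)
    (hcore : ∀ N : Subgroup G, N.Normal → N ≤ H → N = ⊥)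
    {p k : ℕ} [Fact p.Prime] (hp : p ^ k ∣ H.index) (hp2 : ¬ p ^ (k + 1) ∣ Nat.card G)
    {x : G} (hx : orderOf x = p)
    (hncl : ∀ N : Subgroup G, N.Normal → x ∈ N → N = ⊤) :
    IsSimpleGroup G := by
  refine ⟨?_⟩
  intro N hN
  by_cases hbot : N = ⊥
  · exact Or.inl hbot
  right
  have hnle : ¬ N ≤ H := fun h => hbot (hcore N hN h)
  have hsup : H ⊔ N = ⊤ := by
    rcases hmax (H ⊔ N) le_sup_left with h | h
    · exact absurd (h ▸ le_sup_right) hnle
    · exact h
  have hdvd : p ^ k ∣ Nat.card N := hp.trans (index_dvd_card_of_sup_eq_top H N hsup)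
  exact hncl N hN (mem_normal_of_prime_order' N hdvd hp2 hx)

end sylow

section orbits
variable {G : Type*} [Group G]

open Classical in
/-- a subgroup such that no proper union of its orbits on its cosets containing the trivial coset
has a size dividing the index is maximal -/
theorem coatom_of_orbits (H : Subgroup G) {n r : ℕ} (hidx : H.index = n)
    (q : Fin r → G ⧸ H) (s : Fin r → ℕ)
    (hs : ∀ i, (MulAction.orbit H (q i)).ncard = s i)
    (hne : ∀ i j, i ≠ j → MulAction.orbit H (q i) ≠ MulAction.orbit H (q j))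
    (hs1 : ∀ i, 1 < s i)
    (hsum : 1 + ∑ i, s i = n)
    (hdvd : ∀ T : Finset (Fin r), (1 + ∑ i ∈ T, s i) ∣ n → T = ∅ ∨ T = Finset.univ) :
    ∀ M : Subgroup G, H ≤ M → M = H ∨ M = ⊤ := by
  intro M hHM
  have hn0 : H.index ≠ 0 := by rw [hidx]; omega
  have hfin : Finite (G ⧸ H) := by
    have : Nat.card (G ⧸ H) ≠ 0 := by rw [← Subgroup.index_eq_card]; exact hn0
    exact Nat.finite_of_card_ne_zero this
  set a : G ⧸ H := ((1 : G) : G ⧸ H) with ha
  have hst : MulAction.stabilizer G a = H := MulAction.stabilizer_quotient H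
  have hO0 : MulAction.orbit H a = {a} := by
    ext x
    constructor
    · rintro ⟨h, rfl⟩
      have : (h : G) ∈ MulAction.stabilizer G a := by rw [hst]; exact h.property
      exact this
    · rintro rfl
      exact MulAction.mem_orbit_self _
  have ha1 : ∀ i, a ∉ MulAction.orbit H (q i) := by
    intro i h
    have := MulAction.orbit_eq_iff.mpr h
    have h1 := hs i
    rw [← this, hO0, Set.ncard_singleton] at h1
    have := hs1 i
    omega
  have hdis : ∀ i j, i ≠ j → Disjoint (MulAction.orbit H (q i)) (MulAction.orbit H (q j)) := by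
    intro i j hij
    rcases MulAction.orbit.eq_or_disjoint (G := H) (q i) (q j) with h | h
    · exact absurd h (hne i j hij)
    · exact h
  -- the orbits as finsets
  let Of : Fin r → Finset (G ⧸ H) := fun i => (Set.toFinite (MulAction.orbit H (q i))).toFinset
  have hOf : ∀ i x, x ∈ Of i ↔ x ∈ MulAction.orbit H (q i) := fun i x => Set.Finite.mem_toFinset _
  have hOfc : ∀ i, (Of i).card = s i := by
    intro i
    rw [← hs i, Set.ncard_eq_toFinset_card _ (Set.toFinite _)]
  have hOfd : ∀ i j, i ≠ j → Disjoint (Of i) (Of j) := by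
    intro i j hij
    rw [Finset.disjoint_left]
    intro x hx hx'
    exact Set.disjoint_left.mp (hdis i j hij) ((hOf i x).mp hx) ((hOf j x).mp hx')
  have haOf : ∀ T : Finset (Fin r), a ∉ T.biUnion Of := by
    intro T h
    rw [Finset.mem_biUnion] at h
    obtain ⟨i, _, hi⟩ := h
    exact ha1 i ((hOf i a).mp hi)
  have hcardT : ∀ T : Finset (Fin r), (insert a (T.biUnion Of)).card = 1 + ∑ i ∈ T, s i := by
    intro T
    rw [Finset.card_insert_of_notMem (haOf T), Finset.card_biUnion (fun i _ j _ hij => hOfd i j hij),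
      add_comm]
    congr 1
    exact Finset.sum_congr rfl (fun i _ => hOfc i)
  -- the orbits cover
  have hcov : ((insert a (Finset.univ.biUnion Of) : Finset (G ⧸ H)) : Set (G ⧸ H)) = Set.univ := by
    apply Set.eq_of_subset_of_ncard_le (Set.subset_univ _)
    rw [Set.ncard_univ, ← Subgroup.index_eq_card, hidx, Set.ncard_coe_finset, hcardT, hsum]
  have hcov' : ∀ x : G ⧸ H, x = a ∨ ∃ i, x ∈ MulAction.orbit H (q i) := by
    intro x
    have : x ∈ ((insert a (Finset.univ.biUnion Of) : Finset (G ⧸ H)) : Set (G ⧸ H)) := by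
      rw [hcov]; trivial
    rw [Finset.mem_coe, Finset.mem_insert, Finset.mem_biUnion] at this
    rcases this with h | ⟨i, _, hi⟩
    · exact Or.inl h
    · exact Or.inr ⟨i, (hOf i x).mp hi⟩
  -- the block
  set X : Set (G ⧸ H) := MulAction.orbit M a with hX
  have hblk : MulAction.IsBlock G X := MulAction.IsBlock.of_orbit (by rw [hst]; exact hHM)
  have haX : a ∈ X := MulAction.mem_orbit_self _
  have hdvdX : X.ncard ∣ n := by
    have := hblk.ncard_dvd_card ⟨a, haX⟩
    rwa [← Subgroup.index_eq_card, hidx] at this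
  have hsub : ∀ x ∈ X, MulAction.orbit H x ⊆ X := by
    rintro _ ⟨m, rfl⟩ _ ⟨h, rfl⟩
    exact ⟨⟨(h : G), hHM h.property⟩ * m, by simp [mul_smul]; rfl⟩
  have hMstab : MulAction.stabilizer G X = M :=
    MulAction.stabilizer_orbit_eq (by rw [hst]; exact hHM)
  set T : Finset (Fin r) := Finset.univ.filter (fun i => q i ∈ X) with hT
  have hXT : X = ((insert a (T.biUnion Of) : Finset (G ⧸ H)) : Set (G ⧸ H)) := by
    ext x
    rw [Finset.mem_coe, Finset.mem_insert, Finset.mem_biUnion]
    constructor
    · intro hx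
      rcases hcov' x with h | ⟨i, hi⟩
      · exact Or.inl h
      · right
        refine ⟨i, ?_, (hOf i x).mpr hi⟩
        rw [hT, Finset.mem_filter]
        refine ⟨Finset.mem_univ _, ?_⟩
        have : q i ∈ MulAction.orbit H x := by
          rw [MulAction.orbit_eq_iff.mpr hi]
          exact MulAction.mem_orbit_self _
        exact hsub x hx this
    · rintro (h | ⟨i, hi, hxi⟩)
      · rw [h]; exact haX
      · rw [hT, Finset.mem_filter] at hi
        exact hsub (q i) hi.2 ((hOf i x).mp hxi)
  have hXc : X.ncard = 1 + ∑ i ∈ T, s i := by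
    rw [hXT, Set.ncard_coe_finset, hcardT]
  rw [hXc] at hdvdX
  rcases hdvd T hdvdX with h | h
  · left
    have : X = {a} := by
      rw [hXT, h, Finset.biUnion_empty]
      simp
    rw [← hMstab, this, MulAction.stabilizer_singleton, hst]
  · right
    have : X = Set.univ := by
      rw [hXT, h, hcov]
    rw [← hMstab, this, MulAction.stabilizer_univ]

end orbits

section collapse
variable {Gen : Type*} {rels : Set (FreeGroup Gen)} {gc : ℕ → Gen × Bool}
variable {k : ℕ} [NeZero k]

/-- a normal subgroup containing words such that the group presented by these words is trivial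
is the whole group -/
theorem eq_top_of_trivial_wp {base' : List (List ℕ)}
    (htriv : Finite (WG k base') ∧ Nat.card (WG k base') ≤ 1)
    (hgen : ∀ g : Gen, ∃ c < k, gc c = (g, false))
    (hbl' : ∀ b ∈ base', ∀ c ∈ b, c < k)
    {K : Subgroup (PresentedGroup rels)} [K.Normal]
    (hrel : ∀ b ∈ base', PresentedGroup.mk rels (wordElt gc b) ∈ K) : K = ⊤ := by
  apply eq_top_of_columns hgen
  intro c hc
  have hcomp : FreeGroup.lift (fun i : Fin k =>
      QuotientGroup.mk' K (PresentedGroup.mk rels (ceOf gc i.val))) =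
      (QuotientGroup.mk' K).comp (FreeGroup.lift (fun i : Fin k =>
        PresentedGroup.mk rels (ceOf gc ((fun j => j) i.val)))) := by
    ext i
    simp
  have hr : ∀ r ∈ wrels k base', FreeGroup.lift (fun i : Fin k =>
      QuotientGroup.mk' K (PresentedGroup.mk rels (ceOf gc i.val))) r = 1 := by
    rintro r ⟨b, hb, rfl⟩
    rw [hcomp, MonoidHom.comp_apply, lift_wordElt_map (fun j => j) b (hbl' b hb), List.map_id']
    exact (QuotientGroup.eq_one_iff _).mpr (hrel b hb)
  haveI := htriv.1
  have hsub : Subsingleton (WG k base') := Finite.card_le_one_iff_subsingleton.mp htriv.2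
  have e1 : PresentedGroup.mk (wrels k base') (FreeGroup.of (Fin.ofNat k c)) = 1 :=
    Subsingleton.elim _ _
  have e2 : FreeGroup.lift (fun i : Fin k =>
      QuotientGroup.mk' K (PresentedGroup.mk rels (ceOf gc i.val)))
      (FreeGroup.of (Fin.ofNat k c)) = 1 :=
    (congrArg (PresentedGroup.toGroup hr) e1).trans (map_one _)
  rw [FreeGroup.lift_apply_of, Fin.val_ofNat, Nat.mod_eq_of_lt hc] at e2
  exact e2

end collapse

end Cfsg.Agent.Lib.Helper6.Simp
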