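import Cfsg.Agent.Lib.Helper6.DC1
import Cfsg.Prelude.Def_SporadicB

set_option autoImplicit false

namespace Cfsg.Agent.Lib.Helper6.DC

open Cfsg.Agent.Lib.Helper6.TC

/-! # Double covers: the preimage of a simple subgroup of index two under a map with a kernel of
order two -/

section abstract3
variable {G A : Type*} [Group G] [Group A]

/-- the elements of a subgroup of order two, one of them being known -/
theorem eq_of_card_two {N : Subgroup G} (h2 : Nat.card N = 2) {a : G} (ha : a ∈ N) (ha1 : a ≠ 1)
    {x : G} (hx : x ∈ N) : x = 1 ∨ x = a := by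
  by_cases h1 : x = 1
  · exact Or.inl h1
  right
  obtain ⟨y, _, hy⟩ := (Nat.card_eq_two_iff' (1 : N)).mp h2
  have e1 : (⟨x, hx⟩ : N) = y := hy _ (fun h => h1 (congrArg Subtype.val h))
  have e2 : (⟨a, ha⟩ : N) = y := hy _ (fun h => ha1 (congrArg Subtype.val h))
  exact congrArg Subtype.val (e1.trans e2.symm)

/-- the data: a map onto `A` with a kernel of order two, a simple subgroup of index two of `A`,
and an element of its preimage whose square is the nontrivial element of the kernel -/
structure DHyp (θ : G →* A) (H0 : Subgroup A) (k0 : G) : Prop where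
  hθ : Function.Surjective θ
  hcard : Nat.card G = 2 * Nat.card A
  hidx : H0.index = 2
  hs : IsSimpleGroup H0
  hnp : ¬ (Nat.card H0).Prime
  hk0 : θ k0 ∈ H0
  hk2 : θ (k0 * k0) = 1
  hk1 : k0 * k0 ≠ 1

variable {θ : G →* A} {H0 : Subgroup A} {k0 : G}

theorem DHyp.finiteA [Finite G] (D : DHyp θ H0 k0) : Finite A := Finite.of_surjective θ D.hθ

theorem DHyp.card_ker [Finite G] (D : DHyp θ H0 k0) : Nat.card θ.ker = 2 := by
  haveI := D.finiteA
  have h1 : Nat.card θ.ker * θ.ker.index = Nat.card G := Subgroup.card_mul_index _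
  rw [Subgroup.index_ker, MonoidHom.range_eq_top.mpr D.hθ, Subgroup.card_top, D.hcard] at h1
  have hApos : 0 < Nat.card A := Nat.card_pos
  exact Nat.eq_of_mul_eq_mul_right hApos h1

theorem DHyp.normalH0 (D : DHyp θ H0 k0) : H0.Normal := Subgroup.normal_of_index_eq_two D.hidx

/-- the restriction of the map to the preimage -/
noncomputable def thK (θ : G →* A) (H0 : Subgroup A) : H0.comap θ →* H0 := θ.subgroupComap H0

theorem thK_apply (x : H0.comap θ) : ((thK θ H0 x : H0) : A) = θ x.val := rfl

theorem DHyp.thK_surj (D : DHyp θ H0 k0) : Function.Surjective (thK θ H0) :=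
  MonoidHom.subgroupComap_surjective_of_surjective θ H0 D.hθ

theorem mem_ker_thK (x : H0.comap θ) : x ∈ (thK θ H0).ker ↔ θ x.val = 1 := by
  rw [MonoidHom.mem_ker]
  constructor
  · intro h
    have := congrArg Subtype.val h
    exact this
  · intro h
    exact Subtype.ext h

theorem DHyp.card_kerK [Finite G] (D : DHyp θ H0 k0) : Nat.card (thK θ H0).ker = 2 := by
  have hle : θ.ker ≤ H0.comap θ := by
    intro x hx
    rw [Subgroup.mem_comap, MonoidHom.mem_ker.mp hx]
    exact H0.one_mem
  have e : (thK θ H0).ker = θ.ker.subgroupOf (H0.comap θ) := by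
    ext x
    rw [mem_ker_thK, Subgroup.mem_subgroupOf, MonoidHom.mem_ker]
  rw [e, Nat.card_congr (Subgroup.subgroupOfEquivOfLe hle).toEquiv]
  exact D.card_ker

theorem DHyp.center_H0 [Finite G] (D : DHyp θ H0 k0) : Subgroup.center H0 = ⊥ := by
  haveI := D.finiteA
  haveI := D.hs
  exact center_eq_bot_of_simple D.hnp

/-- the centre of the preimage is the kernel -/
theorem DHyp.center_eq [Finite G] (D : DHyp θ H0 k0) :
    Subgroup.center (H0.comap θ) = (thK θ H0).ker := by
  apply le_antisymm
  · intro c hc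
    rw [MonoidHom.mem_ker]
    have h1 : thK θ H0 c ∈ Subgroup.center H0 := by
      rw [Subgroup.mem_center_iff]
      intro h
      obtain ⟨k, rfl⟩ := D.thK_surj h
      rw [← map_mul, ← map_mul, Subgroup.mem_center_iff.mp hc k]
    rw [D.center_H0, Subgroup.mem_bot] at h1
    exact h1
  · exact le_center_of_card_two _ D.card_kerK

/-- the element `k0` of the preimage -/
def kk (D : DHyp θ H0 k0) : H0.comap θ := ⟨k0, D.hk0⟩

theorem DHyp.kk_sq_mem (D : DHyp θ H0 k0) : kk D * kk D ∈ (thK θ H0).ker := by
  rw [mem_ker_thK]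
  exact D.hk2

theorem DHyp.kk_sq_ne (D : DHyp θ H0 k0) : kk D * kk D ≠ 1 := by
  intro h
  exact D.hk1 (congrArg Subtype.val h)

/-- the preimage is a non-split double cover -/
theorem DHyp.nonsplit [Finite G] (D : DHyp θ H0 k0) :
    (H0.comap θ).Normal ∧ (H0.comap θ).index = 2 ∧ Cfsg.IsNonsplitDoubleCover (H0.comap θ) H0 := by
  haveI := D.normalH0
  refine ⟨inferInstance, ?_, ?_, ?_, ?_⟩
  · rw [Subgroup.index_comap_of_surjective H0 D.hθ]
    exact D.hidx
  · rw [D.center_eq]
    exact D.card_kerK
  · exact ⟨(QuotientGroup.quotientMulEquivOfEq D.center_eq).trans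
      (QuotientGroup.quotientKerEquivOfSurjective (thK θ H0) D.thK_surj)⟩
  · intro L hL
    have hdis : Disjoint (Subgroup.center (H0.comap θ)) L := hL.disjoint
    obtain ⟨⟨⟨z, hz⟩, ⟨l, hl⟩⟩, hzl, _⟩ := hL.existsUnique (kk D)
    have hzl' : z * l = kk D := hzl
    have hz2 : z * z = 1 := by
      rw [D.center_eq] at hz
      rcases eq_of_card_two D.card_kerK D.kk_sq_mem D.kk_sq_ne hz with h | h
      · rw [h, one_mul]
      · -- z = kk², so z² = kk⁴; but kk² has order two
        have h4 : (⟨kk D * kk D, D.kk_sq_mem⟩ : (thK θ H0).ker) ^ Nat.card (thK θ H0).ker = 1 :=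
          pow_card_eq_one'
        rw [D.card_kerK, pow_two] at h4
        have h5 := congrArg Subtype.val h4
        rw [h]
        exact h5
    have hsq : kk D * kk D = l * l := by
      rw [← hzl']
      have hc := Subgroup.mem_center_iff.mp hz l
      calc z * l * (z * l) = z * (l * z) * l := by group
        _ = z * (z * l) * l := by rw [hc]
        _ = (z * z) * (l * l) := by group
        _ = l * l := by rw [hz2, one_mul]
    have h1 : kk D * kk D ∈ L := by rw [hsq]; exact L.mul_mem hl hl
    have h2 : kk D * kk D ∈ Subgroup.center (H0.comap θ) := by rw [D.center_eq]; exact D.kk_sq_mem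
    have h3 : kk D * kk D ∈ Subgroup.center (H0.comap θ) ⊓ L := ⟨h2, h1⟩
    rw [hdis.eq_bot, Subgroup.mem_bot] at h3
    exact D.kk_sq_ne h3

/-- a normal subgroup which does not contain the square of `k0` is trivial, or there is a central
element which is not in the kernel -/
theorem DHyp.normal_trivial [Finite G] (D : DHyp θ H0 k0) (M : Subgroup G) [hMn : M.Normal]
    (hM : k0 * k0 ∉ M) : M = ⊥ ∨ ∃ m ∈ Subgroup.center G, θ m ≠ 1 := by
  haveI := D.normalH0
  haveI := D.finiteA
  haveI := D.hs
  obtain ⟨hKn, hKi, hc2, _, hns⟩ := D.nonsplit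
  set K := H0.comap θ with hK
  set M' : Subgroup K := M.subgroupOf K with hM'
  haveI : M'.Normal := Subgroup.Normal.subgroupOf hMn K
  -- M' meets the kernel trivially
  have hdis : Disjoint (Subgroup.center K) M' := by
    rw [Subgroup.disjoint_def]
    intro x hx1 hx2
    rw [D.center_eq] at hx1
    rcases eq_of_card_two D.card_kerK D.kk_sq_mem D.kk_sq_ne hx1 with h | h
    · exact h
    · exfalso
      apply hM
      have : (x : G) ∈ M := Subgroup.mem_subgroupOf.mp hx2
      rw [h] at this
      exact this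
  -- the image of M' is trivial or everything
  have hnorm : (M'.map (thK θ H0)).Normal := Subgroup.Normal.map inferInstance _ D.thK_surj
  have hMK : M' = ⊥ := by
    rcases D.hs.eq_bot_or_eq_top_of_normal _ hnorm with h | h
    · rw [Subgroup.map_eq_bot_iff, ← D.center_eq] at h
      rw [eq_bot_iff]
      intro x hx
      exact (Subgroup.disjoint_def.mp hdis) (h hx) hx
    · exfalso
      apply hns M'
      apply Subgroup.isComplement'_of_disjoint_and_mul_eq_univ hdis
      rw [Set.eq_univ_iff_forall]
      intro x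
      have hx : thK θ H0 x ∈ M'.map (thK θ H0) := by rw [h]; trivial
      obtain ⟨y, hy, hxy⟩ := hx
      refine ⟨x * y⁻¹, ?_, y, hy, by group⟩
      rw [SetLike.mem_coe, D.center_eq, MonoidHom.mem_ker, map_mul, map_inv, hxy, mul_inv_cancel]
  by_cases hbot : M = ⊥
  · exact Or.inl hbot
  right
  obtain ⟨⟨m, hm⟩, hm1'⟩ := (Subgroup.ne_bot_iff_exists_ne_one).mp hbot
  have hm1 : m ≠ 1 := fun e => hm1' (Subtype.ext e)
  have hcap : ∀ g : G, g ∈ M → g ∈ K → g = 1 := by
    intro g hg hgK
    have : (⟨g, hgK⟩ : K) ∈ M' := Subgroup.mem_subgroupOf.mpr hg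
    rw [hMK, Subgroup.mem_bot] at this
    exact congrArg Subtype.val this
  have hmK : m ∉ K := fun h => hm1 (hcap m hm h)
  refine ⟨m, ?_, ?_⟩
  · rw [Subgroup.mem_center_iff]
    intro g
    have h1 : g * m * g⁻¹ ∈ M := hMn.conj_mem m hm g
    have h2 : g * m * g⁻¹ ∉ K := by
      intro h
      apply hmK
      have := hKn.conj_mem _ h g⁻¹
      have e : g⁻¹ * (g * m * g⁻¹) * g⁻¹⁻¹ = m := by group
      rw [e] at this
      exact this
    have h3 : g * m * g⁻¹ * m⁻¹ ∈ K := by
      rw [Subgroup.mul_mem_iff_of_index_two hKi, Subgroup.inv_mem_iff]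
      exact ⟨fun h => absurd h h2, fun h => absurd h hmK⟩
    have h4 := hcap _ (M.mul_mem h1 (M.inv_mem hm)) h3
    have h5 : g * m * g⁻¹ = m := by
      have := mul_inv_eq_one.mp h4
      exact this
    calc g * m = g * m * g⁻¹ * g := by group
      _ = m * g := by rw [h5]
  · intro h
    apply hmK
    rw [hK, Subgroup.mem_comap, h]
    exact H0.one_mem

end abstract3

section parity3
variable {k : ℕ} [NeZero k]

theorem ceOf_gcF_lt {c : ℕ} (hc : c < k) : ceOf (gcF k) c = FreeGroup.of (⟨c, hc⟩ : Fin k) := by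
  rw [ceOf_gcF]
  congr 1
  apply Fin.ext
  rw [Fin.val_ofNat, Nat.mod_eq_of_lt hc]

open Classical in
/-- a subgroup of index two of a group presented by words is described by a mask of the columns
which is compatible with the relators -/
theorem index_two_mask {base : List (List ℕ)} (hbl : ∀ b ∈ base, ∀ c ∈ b, c < k)
    (L : Subgroup (WG k base)) (hL : L.index = 2) :
    ∃ m < 2 ^ k, (∀ b ∈ base, par (fun c => m.testBit c) b = false) ∧
      ∀ c < k, (m.testBit c = false → PresentedGroup.mk (wrels k base) (ceOf (gcF k) c) ∈ L) := by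
  let ε : Fin k → Bool := fun i => decide (PresentedGroup.mk (wrels k base) (FreeGroup.of i) ∉ L)
  refine ⟨Nat.ofBits ε, Nat.ofBits_lt_two_pow ε, ?_, ?_⟩
  · intro b hb
    have h := (mem_iff_par L hL b).mp (by rw [wp_hbase b hb]; exact L.one_mem)
    rw [← h]
    apply par_congr
    intro c hc
    have hck : c < k := hbl b hb c hc
    rw [Nat.testBit_ofBits_lt ε c hck, ceOf_gcF_lt hck]
  · intro c hc h
    rw [Nat.testBit_ofBits_lt ε c hc] at h
    have h2 : PresentedGroup.mk (wrels k base) (FreeGroup.of (⟨c, hc⟩ : Fin k)) ∈ L := by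
      simpa [ε] using h
    rw [ceOf_gcF_lt hc]
    exact h2

end parity3

end Cfsg.Agent.Lib.Helper6.DC
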