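import Cfsg.Agent.Lib.Helper6.WP5

set_option autoImplicit false

namespace Cfsg.Agent.Lib.Helper6.TC

/-! # The homomorphism from a group presented by words onto a subgroup generated by columns -/

section hom
variable {Gen : Type*} {rels : Set (FreeGroup Gen)} {gc : ℕ → Gen × Bool}
variable {k : ℕ} [NeZero k]

theorem wpHom_aux {base' : List (List ℕ)} (cm : ℕ → ℕ)
    (hbl' : ∀ b ∈ base', ∀ c ∈ b, c < k)
    (hrel : ∀ b ∈ base', PresentedGroup.mk rels (wordElt gc (b.map cm)) = 1) :
    ∀ r ∈ wrels k base',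
      FreeGroup.lift (fun i : Fin k => PresentedGroup.mk rels (ceOf gc (cm i.val))) r = 1 := by
  intro r hr
  obtain ⟨b, hb, rfl⟩ := hr
  rw [lift_wordElt_map cm b (hbl' b hb)]
  exact hrel b hb

/-- the homomorphism from the group presented by words to a group in which the relators hold -/
noncomputable def wpHom {base' : List (List ℕ)} (cm : ℕ → ℕ)
    (hbl' : ∀ b ∈ base', ∀ c ∈ b, c < k)
    (hrel : ∀ b ∈ base', PresentedGroup.mk rels (wordElt gc (b.map cm)) = 1) :
    WG k base' →* PresentedGroup rels :=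
  PresentedGroup.toGroup (wpHom_aux cm hbl' hrel)

theorem wpHom_of {base' : List (List ℕ)} (cm : ℕ → ℕ)
    (hbl' : ∀ b ∈ base', ∀ c ∈ b, c < k)
    (hrel : ∀ b ∈ base', PresentedGroup.mk rels (wordElt gc (b.map cm)) = 1) (i : Fin k) :
    wpHom cm hbl' hrel (PresentedGroup.mk (wrels k base') (FreeGroup.of i)) =
      PresentedGroup.mk rels (ceOf gc (cm i.val)) := by
  show FreeGroup.lift (fun i : Fin k => PresentedGroup.mk rels (ceOf gc (cm i.val)))
    (FreeGroup.of i) = _
  rw [FreeGroup.lift_apply_of]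

/-- the image of the homomorphism is the subgroup generated by the columns -/
theorem wpHom_range {S : Set (FreeGroup Gen)} {base' : List (List ℕ)} (cm : ℕ → ℕ)
    (hbl' : ∀ b ∈ base', ∀ c ∈ b, c < k)
    (hrel : ∀ b ∈ base', PresentedGroup.mk rels (wordElt gc (b.map cm)) = 1)
    (hS : ∀ s ∈ S, ∃ i < k, s = ceOf gc (cm i)) (hS' : ∀ i < k, ceOf gc (cm i) ∈ S) :
    (wpHom cm hbl' hrel).range = subH rels S := by
  apply le_antisymm
  · rw [MonoidHom.range_eq_map, ← PresentedGroup.closure_range_of, MonoidHom.map_closure,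
      Subgroup.closure_le]
    rintro _ ⟨_, ⟨i, rfl⟩, rfl⟩
    have : wpHom cm hbl' hrel (PresentedGroup.of i) =
        PresentedGroup.mk rels (ceOf gc (cm i.val)) := wpHom_of cm hbl' hrel i
    rw [this]
    exact Subgroup.mem_map_of_mem _ (Subgroup.subset_closure (hS' i.val i.isLt))
  · unfold subH
    rw [MonoidHom.map_closure, Subgroup.closure_le]
    rintro _ ⟨s, hs, rfl⟩
    obtain ⟨i, hi, rfl⟩ := hS s hs
    refine ⟨PresentedGroup.mk (wrels k base') (FreeGroup.of (Fin.ofNat k i)), ?_⟩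
    rw [wpHom_of, Fin.val_ofNat, Nat.mod_eq_of_lt hi]

end hom

end Cfsg.Agent.Lib.Helper6.TC
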