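import Cfsg.Agent.Lib.Helper6.WP9

set_option autoImplicit false

namespace Cfsg.Agent.Lib.Helper6.TC

/-! # Homomorphisms from a group presented by words to any group -/

section homQ
variable {k : ℕ} [NeZero k] {Q : Type*} [Group Q]

theorem lift_wordElt_prod (f : ℕ → Q) (w : List ℕ) (hw : ∀ c ∈ w, c < k) :
    FreeGroup.lift (fun i : Fin k => f i.val) (wordElt (gcF k) w) = (w.map f).prod := by
  induction w with
  | nil => simp [wordElt_nil]
  | cons c w ih =>
    have hc : c < k := hw c List.mem_cons_self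
    rw [List.map_cons, List.prod_cons, wordElt_cons, map_mul,
      ih (fun d hd => hw d (List.mem_cons_of_mem _ hd)), ceOf_gcF, FreeGroup.lift_apply_of,
      Fin.val_ofNat, Nat.mod_eq_of_lt hc]

theorem wgHom_aux {base' : List (List ℕ)} (f : ℕ → Q)
    (hbl' : ∀ b ∈ base', ∀ c ∈ b, c < k)
    (hrel : ∀ b ∈ base', (b.map f).prod = 1) :
    ∀ r ∈ wrels k base', FreeGroup.lift (fun i : Fin k => f i.val) r = 1 := by
  intro r hr
  obtain ⟨b, hb, rfl⟩ := hr
  rw [lift_wordElt_prod f b (hbl' b hb)]
  exact hrel b hb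

/-- the homomorphism from the group presented by words to a group in which the relators hold -/
noncomputable def wgHom {base' : List (List ℕ)} (f : ℕ → Q)
    (hbl' : ∀ b ∈ base', ∀ c ∈ b, c < k)
    (hrel : ∀ b ∈ base', (b.map f).prod = 1) : WG k base' →* Q :=
  PresentedGroup.toGroup (wgHom_aux f hbl' hrel)

theorem wgHom_of {base' : List (List ℕ)} (f : ℕ → Q)
    (hbl' : ∀ b ∈ base', ∀ c ∈ b, c < k)
    (hrel : ∀ b ∈ base', (b.map f).prod = 1) (i : Fin k) :
    wgHom f hbl' hrel (PresentedGroup.mk (wrels k base') (FreeGroup.of i)) = f i.val := by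
  show FreeGroup.lift (fun i : Fin k => f i.val) (FreeGroup.of i) = _
  rw [FreeGroup.lift_apply_of]

end homQ

section memsub
variable {Gen : Type*} {rels : Set (FreeGroup Gen)} {gc : ℕ → Gen × Bool}

/-- a word in columns of elements of `S` lies in the subgroup generated by `S` -/
theorem mk_wordElt_mem_subH {S : Set (FreeGroup Gen)} (w : List ℕ)
    (hS : ∀ c ∈ w, ceOf gc c ∈ S) : PresentedGroup.mk rels (wordElt gc w) ∈ subH rels S := by
  induction w with
  | nil =>
    rw [wordElt_nil, map_one]
    exact Subgroup.one_mem _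
  | cons c w ih =>
    rw [wordElt_cons, map_mul]
    refine Subgroup.mul_mem _ ?_ (ih (fun d hd => hS d (List.mem_cons_of_mem _ hd)))
    exact Subgroup.mem_map_of_mem _ (Subgroup.subset_closure (hS c List.mem_cons_self))

end memsub

end Cfsg.Agent.Lib.Helper6.TC
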