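import Cfsg.Agent.Lib.Helper6.TC10

set_option autoImplicit false

namespace Cfsg.Agent.Lib.Helper6.TC

/-! # Kernel-friendly checks for permutation tables -/

/-- a column maps into range and `finv` undoes it -/
noncomputable def chkCol (f finv : ℕ → ℕ) (N : ℕ) : Bool :=
  allB (fun p => band (Nat.blt (f p) N) (Nat.beq (finv (f p)) p)) N

theorem chkCol_spec {f finv : ℕ → ℕ} {N : ℕ} (h : chkCol f finv N = true) :
    ∀ p < N, f p < N ∧ finv (f p) = p := by
  intro p hp
  have := allB_spec h p hp
  rw [band_eq_true, Nat.blt_eq, Nat.beq_eq] at this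
  exact this

/-- a function fixes all points in a range -/
noncomputable def chkFix (R : ℕ → ℕ) (lo len : ℕ) : Bool :=
  allR (fun p => Nat.beq (R p) p) lo len

theorem chkFix_spec {R : ℕ → ℕ} {lo len : ℕ} (h : chkFix R lo len = true) :
    ∀ p, lo ≤ p → p < lo + len → R p = p := by
  intro p h1 h2
  have := allR_spec h p h1 h2
  rw [Nat.beq_eq] at this
  exact this

/-- the spanning tree: `GT p` packs a column (4 bits) and a smaller point -/
noncomputable def chkTree (px : ℕ → ℕ → ℕ) (GT : ℕ → ℕ) (ncol N : ℕ) : Bool :=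
  allB (fun p => bor (Nat.beq p 0)
    ((fun g => band (Nat.blt (Nat.land g 15) ncol) (band (Nat.blt (Nat.shiftRight g 4) p)
      (Nat.beq (px (Nat.land g 15) (Nat.shiftRight g 4)) p))) (GT p))) N

theorem chkTree_spec {px : ℕ → ℕ → ℕ} {GT : ℕ → ℕ} {ncol N : ℕ}
    (h : chkTree px GT ncol N = true) :
    ∀ p, 0 < p → p < N → ∃ c < ncol, ∃ q < p, px c q = p := by
  intro p h0 hp
  have := allB_spec h p hp
  rw [bor_eq_true, Nat.beq_eq] at this
  rcases this with h1 | h1
  · omega
  · beta_reduce at h1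
    rw [band_eq_true, band_eq_true, Nat.blt_eq, Nat.blt_eq, Nat.beq_eq] at h1
    exact ⟨_, h1.1, _, h1.2.1, h1.2.2⟩

/-- labels are invariant under a function -/
noncomputable def chkLab (lab R : ℕ → ℕ) (N : ℕ) : Bool :=
  allB (fun p => Nat.beq (lab (R p)) (lab p)) N

theorem chkLab_spec {lab R : ℕ → ℕ} {N : ℕ} (h : chkLab lab R N = true) :
    ∀ p < N, lab (R p) = lab p := by
  intro p hp
  have := allB_spec h p hp
  rw [Nat.beq_eq] at this
  exact this

/-- every point that is not a root moves to a point of smaller rank under its chosen word -/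
noncomputable def chkRank (isRoot : ℕ → Bool) (rnk : ℕ → ℕ) (mv : ℕ → ℕ) (N : ℕ) : Bool :=
  allB (fun p => bor (isRoot p) (Nat.blt (rnk (mv p)) (rnk p))) N

theorem chkRank_spec {isRoot : ℕ → Bool} {rnk mv : ℕ → ℕ} {N : ℕ}
    (h : chkRank isRoot rnk mv N = true) :
    ∀ p < N, isRoot p = true ∨ rnk (mv p) < rnk p := by
  intro p hp
  have := allB_spec h p hp
  rw [bor_eq_true, Nat.blt_eq] at this
  exact this

/-- the number of points below `k` with label `l` -/
noncomputable def cntLab (lab : ℕ → ℕ) (l : ℕ) (k : ℕ) : ℕ :=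
  Nat.rec (motive := fun _ => ℕ) 0
    (fun p ih => Bool.rec ih (Nat.succ ih) (Nat.beq (lab p) l)) k

theorem cntLab_succ (lab : ℕ → ℕ) (l k : ℕ) : cntLab lab l (k + 1) =
    if lab k = l then cntLab lab l k + 1 else cntLab lab l k := by
  show Bool.rec (motive := fun _ => ℕ) _ _ _ = _
  rw [brec_beq]
  rfl

theorem cntLab_eq (lab : ℕ → ℕ) (l k : ℕ) : cntLab lab l k =
    ((Finset.range k).filter (fun p => lab p = l)).card := by
  induction k with
  | zero => rfl
  | succ k ih =>
    rw [cntLab_succ, Finset.range_add_one, Finset.filter_insert]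
    by_cases h : lab k = l
    · rw [if_pos h, if_pos h, Finset.card_insert_of_notMem (by simp), ih]
    · rw [if_neg h, if_neg h, ih]

end Cfsg.Agent.Lib.Helper6.TC
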