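import Cfsg.Agent.Lib.Helper6.LB2

set_option autoImplicit false

namespace Cfsg.Agent.Lib.Helper6.TC

/-! # The elements fixing the points of a base are trivial, when the two bounds meet -/

section chain
variable {G : Type*} [Group G] {N : ℕ}

theorem ptFix_eq_bot_of_card [Finite G] {φ : G →* Equiv.Perm (Fin N)} {bs : List (Fin N)} {M : ℕ}
    (h1 : M * Nat.card (ptFix φ bs) ≤ Nat.card G) (h2 : Nat.card G ≤ M) (hM : 0 < M) :
    ptFix φ bs = ⊥ := by
  have hpos : 0 < Nat.card (ptFix φ bs) := Nat.card_pos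
  have h3 : M * Nat.card (ptFix φ bs) ≤ M * 1 := by rw [mul_one]; exact h1.trans h2
  have h4 : Nat.card (ptFix φ bs) ≤ 1 := Nat.le_of_mul_le_mul_left h3 hM
  have h5 : Nat.card (ptFix φ bs) = 1 := le_antisymm h4 hpos
  exact Subgroup.card_eq_one.mp h5

end chain

section words
variable {Gen : Type*} {rels : Set (FreeGroup Gen)} {gc : ℕ → Gen × Bool}
variable {px : ℕ → ℕ → ℕ} {N ncol : ℕ}
variable {φ : PresentedGroup rels →* Equiv.Perm (Fin N)}

/-- a word fixing the points of a base with a trivial stabiliser is trivial -/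
theorem mk_eq_one_of_fix_base
    (hw : ∀ w, (∀ c ∈ w, c < ncol) → ∀ p : Fin N,
      ((φ (PresentedGroup.mk rels (wordElt gc w)))⁻¹ p).val = wapp px w p.val)
    {bs : List (Fin N)} (hbot : ptFix φ bs = ⊥)
    (w : List ℕ) (hwl : ∀ c ∈ w, c < ncol)
    (hfix : ∀ b ∈ bs, wapp px w b.val = b.val) :
    PresentedGroup.mk rels (wordElt gc w) = 1 := by
  have hmem : welt rels gc w ∈ ptFix φ bs := welt_mem_ptFix hw w hwl bs hfix
  rw [hbot, Subgroup.mem_bot] at hmem
  unfold welt at hmem
  exact inv_eq_one.mp hmem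

end words

end Cfsg.Agent.Lib.Helper6.TC
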