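import Cfsg.Agent.Lib.Helper6.Simp7

set_option autoImplicit false

namespace Cfsg.Agent.Lib.Helper6.Simp

/-! # The stabiliser of a point, in a group acting through a homomorphism to permutations -/

section fix
variable {G : Type*} [Group G] {N : ℕ}

/-- a subgroup of index `N` fixing a point of a transitive action on `N` points is the whole
stabiliser of the point -/
theorem mem_of_fix (φ : G →* Equiv.Perm (Fin N)) (H : Subgroup G) (x : Fin N)
    (hfix : ∀ h ∈ H, φ h x = x) (htrans : ∀ p : Fin N, ∃ g, φ g x = p)
    (hidx : H.index = N) (hN : 0 < N) {g : G} (hg : φ g x = x) : g ∈ H := by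
  let St : Subgroup G := (MulAction.stabilizer (Equiv.Perm (Fin N)) x).comap φ
  have hmem : ∀ g, g ∈ St ↔ φ g x = x := by
    intro g
    rw [Subgroup.mem_comap, MulAction.mem_stabilizer_iff]
    rfl
  have hle : H ≤ St := fun h hh => (hmem h).2 (hfix h hh)
  have hdvd : St.index ∣ H.index := Subgroup.index_dvd_of_le hle
  have hne : St.index ≠ 0 := by
    intro h0
    rw [h0, zero_dvd_iff, hidx] at hdvd
    omega
  haveI : Finite (G ⧸ St) := Nat.finite_of_card_ne_zero hne
  let f : G ⧸ St → Fin N := fun q => Quotient.liftOn' q (fun g => φ g x) (by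
    intro a b hab
    rw [QuotientGroup.leftRel_apply, hmem] at hab
    rw [map_mul, map_inv, Equiv.Perm.mul_apply, Equiv.Perm.inv_eq_iff_eq] at hab
    exact hab.symm)
  have hsurj : Function.Surjective f := by
    intro p
    obtain ⟨g, hg⟩ := htrans p
    exact ⟨QuotientGroup.mk g, hg⟩
  have hge : N ≤ St.index := by
    have h := Nat.card_le_card_of_surjective f hsurj
    rwa [Nat.card_fin] at h
  have h1 := Subgroup.relIndex_mul_index hle
  rw [hidx] at h1
  have hleN : St.index ≤ N := by
    rw [← hidx]
    exact Nat.le_of_dvd (by rw [hidx]; exact hN) hdvd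
  have h2 : St.index = N := le_antisymm hleN hge
  rw [h2] at h1
  have h3 : H.relIndex St = 1 := by
    have : H.relIndex St * N = 1 * N := by rw [h1, one_mul]
    exact Nat.eq_of_mul_eq_mul_right hN this
  exact (Subgroup.relIndex_eq_one.mp h3) ((hmem g).2 hg)

end fix

section stab
variable {G : Type*} [Group G] {X : Type*}

/-- the stabiliser of a point in the range of an injective homomorphism to permutations -/
noncomputable def stabEquiv (φ : G →* Equiv.Perm X) (hinj : Function.Injective φ)
    (K : Subgroup G) (x : X) (hK : ∀ g, g ∈ K ↔ φ g x = x) :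
    K ≃* MulAction.stabilizer φ.range x := by
  let f : K →* MulAction.stabilizer φ.range x :=
    { toFun := fun k => ⟨⟨φ k.1, k.1, rfl⟩, by
        rw [MulAction.mem_stabilizer_iff]
        exact (hK k.1).1 k.2⟩
      map_one' := by
        apply Subtype.ext
        apply Subtype.ext
        exact map_one φ
      map_mul' := by
        intro a b
        apply Subtype.ext
        apply Subtype.ext
        exact map_mul φ a.1 b.1 }
  refine MulEquiv.ofBijective f ⟨?_, ?_⟩
  · intro a b hab
    apply Subtype.ext
    apply hinj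
    exact congrArg (fun t : MulAction.stabilizer φ.range x => (t.1.1 : Equiv.Perm X)) hab
  · rintro ⟨⟨_, g, rfl⟩, hg⟩
    rw [MulAction.mem_stabilizer_iff] at hg
    exact ⟨⟨g, (hK g).2 hg⟩, rfl⟩

/-- a subgroup carried along an isomorphism -/
theorem exists_subgroup_of_equiv {K K' Q : Type*} [Group K] [Group K'] [Group Q] (e : K ≃* K')
    (M : Subgroup K) {n : ℕ} (hn : M.index = n) (i : M ≃* Q) :
    ∃ M' : Subgroup K', M'.index = n ∧ Nonempty (M' ≃* Q) := by
  refine ⟨M.map e.toMonoidHom, ?_, ⟨(e.subgroupMap M).symm.trans i⟩⟩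
  rw [← hn]
  exact Subgroup.index_map_equiv M e

end stab

end Cfsg.Agent.Lib.Helper6.Simp
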