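import Cfsg.Agent.Lib.Helper6.WP6

set_option autoImplicit false

namespace Cfsg.Agent.Lib.Helper6.TC

/-! # Homomorphisms from a group presented by words, the columns being sent to words -/

section homW
variable {Gen : Type*} {rels : Set (FreeGroup Gen)} {gc : ℕ → Gen × Bool}
variable {k : ℕ} [NeZero k]

theorem lift_wordElt_flatMap (cw : ℕ → List ℕ) (w : List ℕ) (hw : ∀ c ∈ w, c < k) :
    FreeGroup.lift (fun i : Fin k => PresentedGroup.mk rels (wordElt gc (cw i.val)))
      (wordElt (gcF k) w) = PresentedGroup.mk rels (wordElt gc (w.flatMap cw)) := by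
  induction w with
  | nil => simp [wordElt_nil]
  | cons c w ih =>
    have hc : c < k := hw c List.mem_cons_self
    rw [List.flatMap_cons, wordElt_cons, wordElt_append, map_mul, map_mul,
      ih (fun d hd => hw d (List.mem_cons_of_mem _ hd)), ceOf_gcF, FreeGroup.lift_apply_of,
      Fin.val_ofNat, Nat.mod_eq_of_lt hc]

theorem wpHomW_aux {base' : List (List ℕ)} (cw : ℕ → List ℕ)
    (hbl' : ∀ b ∈ base', ∀ c ∈ b, c < k)
    (hrel : ∀ b ∈ base', PresentedGroup.mk rels (wordElt gc (b.flatMap cw)) = 1) :
    ∀ r ∈ wrels k base',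
      FreeGroup.lift (fun i : Fin k => PresentedGroup.mk rels (wordElt gc (cw i.val))) r = 1 := by
  intro r hr
  obtain ⟨b, hb, rfl⟩ := hr
  rw [lift_wordElt_flatMap cw b (hbl' b hb)]
  exact hrel b hb

/-- the homomorphism from the group presented by words to a group in which the relators hold,
the columns being sent to words -/
noncomputable def wpHomW {base' : List (List ℕ)} (cw : ℕ → List ℕ)
    (hbl' : ∀ b ∈ base', ∀ c ∈ b, c < k)
    (hrel : ∀ b ∈ base', PresentedGroup.mk rels (wordElt gc (b.flatMap cw)) = 1) :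
    WG k base' →* PresentedGroup rels :=
  PresentedGroup.toGroup (wpHomW_aux cw hbl' hrel)

theorem wpHomW_of {base' : List (List ℕ)} (cw : ℕ → List ℕ)
    (hbl' : ∀ b ∈ base', ∀ c ∈ b, c < k)
    (hrel : ∀ b ∈ base', PresentedGroup.mk rels (wordElt gc (b.flatMap cw)) = 1) (i : Fin k) :
    wpHomW cw hbl' hrel (PresentedGroup.mk (wrels k base') (FreeGroup.of i)) =
      PresentedGroup.mk rels (wordElt gc (cw i.val)) := by
  show FreeGroup.lift (fun i : Fin k => PresentedGroup.mk rels (wordElt gc (cw i.val)))
    (FreeGroup.of i) = _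
  rw [FreeGroup.lift_apply_of]

end homW

/-! # Evaluation of long words, the intermediate points being computed at once -/

/-- apply a function to a number after evaluating it -/
noncomputable def strictApp (f : ℕ → ℕ) (n : ℕ) : ℕ :=
  Nat.rec (motive := fun _ => ℕ) (f 0) (fun m _ => f (m + 1)) n

theorem strictApp_eq (f : ℕ → ℕ) (n : ℕ) : strictApp f n = f n := by
  cases n <;> rfl

/-- the action of a word of columns on points, evaluated letter by letter -/
noncomputable def wappS (px : ℕ → ℕ → ℕ) : List ℕ → ℕ → ℕ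
  | [], p => p
  | c :: w, p => strictApp (wappS px w) (px c p)

theorem wappS_eq (px : ℕ → ℕ → ℕ) (w : List ℕ) (p : ℕ) : wappS px w p = wapp px w p := by
  induction w generalizing p with
  | nil => rfl
  | cons c w ih => rw [wappS, strictApp_eq, ih, wapp_cons]

end Cfsg.Agent.Lib.Helper6.TC
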