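import Mathlib

set_option autoImplicit false

namespace Cfsg.Agent.Lib.Helper6.Simp

open scoped Pointwise

/-! # A criterion of simplicity: a maximal subgroup of rank three, a prime dividing its index once -/

section rank3
variable {G : Type*} [Group G]

/-- a subgroup with two further orbits on its cosets whose sizes do not combine to a divisor of the
index is maximal -/
theorem coatom_of_rank3 (H : Subgroup G) {n s₁ s₂ : ℕ} (hidx : H.index = n)
    (q₁ q₂ : G ⧸ H) (h₁ : (MulAction.orbit H q₁).ncard = s₁)
    (h₂ : (MulAction.orbit H q₂).ncard = s₂)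
    (hsum : 1 + s₁ + s₂ = n) (hs₁ : 1 < s₁) (hs₂ : 1 < s₂) (hne : s₁ ≠ s₂)
    (hd₁ : ¬ (1 + s₁ ∣ n)) (hd₂ : ¬ (1 + s₂ ∣ n)) :
    ∀ M : Subgroup G, H ≤ M → M = H ∨ M = ⊤ := by
  intro M hHM
  have hn0 : H.index ≠ 0 := by rw [hidx]; omega
  have hfin : Finite (G ⧸ H) := by
    have : Nat.card (G ⧸ H) ≠ 0 := by rw [← Subgroup.index_eq_card]; exact hn0
    exact Nat.finite_of_card_ne_zero this
  set a : G ⧸ H := ((1 : G) : G ⧸ H) with ha
  have hst : MulAction.stabilizer G a = H := MulAction.stabilizer_quotient H
  -- the orbit of the base point under `H`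
  have hO0 : MulAction.orbit H a = {a} := by
    ext q
    constructor
    · rintro ⟨h, rfl⟩
      have : (h : G) ∈ MulAction.stabilizer G a := by rw [hst]; exact h.property
      exact this
    · rintro rfl
      exact MulAction.mem_orbit_self _
  have ha1 : a ∉ MulAction.orbit H q₁ := by
    intro h
    have := MulAction.orbit_eq_iff.mpr h
    rw [← this, hO0, Set.ncard_singleton] at h₁
    omega
  have ha2 : a ∉ MulAction.orbit H q₂ := by
    intro h
    have := MulAction.orbit_eq_iff.mpr h
    rw [← this, hO0, Set.ncard_singleton] at h₂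
    omega
  have h12 : Disjoint (MulAction.orbit H q₁) (MulAction.orbit H q₂) := by
    rcases MulAction.orbit.eq_or_disjoint (G := H) q₁ q₂ with h | h
    · rw [h, h₂] at h₁
      exact absurd h₁.symm hne
    · exact h
  -- the three orbits cover
  have hcov : ({a} ∪ MulAction.orbit H q₁) ∪ MulAction.orbit H q₂ = Set.univ := by
    apply Set.eq_of_subset_of_ncard_le (Set.subset_univ _)
    rw [Set.ncard_univ, ← Subgroup.index_eq_card, hidx]
    have d1 : Disjoint ({a} : Set (G ⧸ H)) (MulAction.orbit H q₁) :=
      Set.disjoint_singleton_left.mpr ha1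
    have d2 : Disjoint (({a} : Set (G ⧸ H)) ∪ MulAction.orbit H q₁) (MulAction.orbit H q₂) := by
      rw [Set.disjoint_union_left]
      exact ⟨Set.disjoint_singleton_left.mpr ha2, h12⟩
    rw [Set.ncard_union_eq d2 (Set.toFinite _) (Set.toFinite _),
      Set.ncard_union_eq d1 (Set.toFinite _) (Set.toFinite _), Set.ncard_singleton, h₁, h₂, hsum]
  -- the block
  set X : Set (G ⧸ H) := MulAction.orbit M a with hX
  have hblk : MulAction.IsBlock G X := MulAction.IsBlock.of_orbit (by rw [hst]; exact hHM)
  have haX : a ∈ X := MulAction.mem_orbit_self _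
  have hdvd : X.ncard ∣ n := by
    have := hblk.ncard_dvd_card ⟨a, haX⟩
    rwa [← Subgroup.index_eq_card, hidx] at this
  have hstab : ∀ q ∈ X, MulAction.orbit H q ⊆ X := by
    rintro _ ⟨m, rfl⟩ _ ⟨h, rfl⟩
    exact ⟨⟨(h : G), hHM h.property⟩ * m, by simp [mul_smul]; rfl⟩
  have hsub : ∀ q, q ∈ X → MulAction.orbit H q ⊆ X := hstab
  have hdisj : ∀ q, q ∉ X → Disjoint (MulAction.orbit H q) X := by
    intro q hq
    rw [Set.disjoint_left]
    intro r hr hrX
    apply hq
    have : q ∈ MulAction.orbit H r := by
      rw [MulAction.orbit_eq_iff.mpr hr]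
      exact MulAction.mem_orbit_self _
    exact hsub r hrX this
  have hMstab : MulAction.stabilizer G X = M := MulAction.stabilizer_orbit_eq (by rw [hst]; exact hHM)
  by_cases c1 : q₁ ∈ X <;> by_cases c2 : q₂ ∈ X
  · right
    have : X = Set.univ := by
      apply Set.eq_univ_of_univ_subset
      rw [← hcov]
      intro q hq
      rcases hq with (hq | hq) | hq
      · rw [Set.mem_singleton_iff] at hq; rw [hq]; exact haX
      · exact hsub q₁ c1 hq
      · exact hsub q₂ c2 hq
    rw [← hMstab, this, MulAction.stabilizer_univ]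
  · exfalso
    have : X = {a} ∪ MulAction.orbit H q₁ := by
      apply Set.Subset.antisymm
      · intro q hq
        have : q ∈ (({a} ∪ MulAction.orbit H q₁) ∪ MulAction.orbit H q₂ : Set (G ⧸ H)) := by
          rw [hcov]; trivial
        rcases this with hq' | hq'
        · exact hq'
        · exact absurd hq (Set.disjoint_left.mp (hdisj q₂ c2) hq')
      · intro q hq
        rcases hq with hq | hq
        · rw [Set.mem_singleton_iff] at hq; rw [hq]; exact haX
        · exact hsub q₁ c1 hq
    rw [this, Set.ncard_union_eq (Set.disjoint_singleton_left.mpr ha1) (Set.toFinite _)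
      (Set.toFinite _), Set.ncard_singleton, h₁] at hdvd
    exact hd₁ hdvd
  · exfalso
    have : X = {a} ∪ MulAction.orbit H q₂ := by
      apply Set.Subset.antisymm
      · intro q hq
        have : q ∈ (({a} ∪ MulAction.orbit H q₁) ∪ MulAction.orbit H q₂ : Set (G ⧸ H)) := by
          rw [hcov]; trivial
        rcases this with (hq' | hq') | hq'
        · exact Or.inl hq'
        · exact absurd hq (Set.disjoint_left.mp (hdisj q₁ c1) hq')
        · exact Or.inr hq'
      · intro q hq
        rcases hq with hq | hq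
        · rw [Set.mem_singleton_iff] at hq; rw [hq]; exact haX
        · exact hsub q₂ c2 hq
    rw [this, Set.ncard_union_eq (Set.disjoint_singleton_left.mpr ha2) (Set.toFinite _)
      (Set.toFinite _), Set.ncard_singleton, h₂] at hdvd
    exact hd₂ hdvd
  · left
    have : X = {a} := by
      apply Set.Subset.antisymm
      · intro q hq
        have : q ∈ (({a} ∪ MulAction.orbit H q₁) ∪ MulAction.orbit H q₂ : Set (G ⧸ H)) := by
          rw [hcov]; trivial
        rcases this with (hq' | hq') | hq'
        · exact hq'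
        · exact absurd hq (Set.disjoint_left.mp (hdisj q₁ c1) hq')
        · exact absurd hq (Set.disjoint_left.mp (hdisj q₂ c2) hq')
      · intro q hq
        rw [Set.mem_singleton_iff] at hq; rw [hq]; exact haX
    rw [← hMstab, this, MulAction.stabilizer_singleton, hst]

end rank3

section simple
variable {G : Type*} [Group G]

/-- if `H N = G` with `N` normal then the index of `H` divides the order of `N` -/
theorem index_dvd_card_of_sup_eq_top [Finite G] (H N : Subgroup G) [N.Normal] (h : H ⊔ N = ⊤) :
    H.index ∣ Nat.card N := by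
  have h1 : N.relIndex H = N.index := by
    rw [← Subgroup.relIndex_sup_right H N, h, Subgroup.relIndex_top_right]
  -- |G| = |N| * [G:N] = |H| * [G:H],  |H| = |H ⊓ N| * [H : H ⊓ N]
  have h2 : Nat.card N * N.index = Nat.card G := Subgroup.card_mul_index N
  have h3 : Nat.card H * H.index = Nat.card G := Subgroup.card_mul_index H
  have h4 : Nat.card (N.subgroupOf H) * (N.subgroupOf H).index = Nat.card H :=
    Subgroup.card_mul_index _
  have h5 : (N.subgroupOf H).index = N.index := h1
  have hpos : 0 < N.index := Nat.pos_of_ne_zero Subgroup.index_ne_zero_of_finite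
  refine ⟨Nat.card (N.subgroupOf H), ?_⟩
  have h6 : Nat.card N * N.index = (H.index * Nat.card (N.subgroupOf H)) * N.index := by
    rw [h2, ← h3, ← h4, h5]
    ring
  exact Nat.eq_of_mul_eq_mul_right hpos h6

/-- a normal subgroup whose order is divisible by a prime `p` dividing the order of the group
only once contains every element of order `p` -/
theorem mem_normal_of_prime_order [Finite G] {p : ℕ} [hp : Fact p.Prime] (N : Subgroup G)
    [hN : N.Normal] (hpN : p ∣ Nat.card N) (hp2 : ¬ p ^ 2 ∣ Nat.card G) {x : G}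
    (hx : orderOf x = p) : x ∈ N := by
  obtain ⟨y, hy⟩ := exists_prime_orderOf_dvd_card' p hpN
  have hy' : orderOf (y : G) = p := by rw [Subgroup.orderOf_coe]; exact hy
  have hpG : p ∣ Nat.card G := hpN.trans (Subgroup.card_subgroup_dvd_card N)
  have hG0 : Nat.card G ≠ 0 := Nat.card_pos.ne'
  have hfac : (Nat.card G).factorization p = 1 := by
    have h1 : 1 ≤ (Nat.card G).factorization p :=
      (hp.out.dvd_iff_one_le_factorization hG0).mp hpG
    have h2 : ¬ 2 ≤ (Nat.card G).factorization p := by
      intro h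
      exact hp2 ((hp.out.pow_dvd_iff_le_factorization hG0).mpr h)
    omega
  have cP : Nat.card (Subgroup.zpowers (y : G)) = p ^ (Nat.card G).factorization p := by
    rw [Nat.card_zpowers, hy', hfac, pow_one]
  have cQ : Nat.card (Subgroup.zpowers x) = p ^ (Nat.card G).factorization p := by
    rw [Nat.card_zpowers, hx, hfac, pow_one]
  obtain ⟨g, hg⟩ := MulAction.exists_smul_eq G (Sylow.ofCard _ cP) (Sylow.ofCard _ cQ)
  have hxQ : x ∈ ((Sylow.ofCard _ cQ : Sylow p G) : Subgroup G) := Subgroup.mem_zpowers x
  rw [← hg, Sylow.coe_subgroup_smul, Subgroup.mem_pointwise_smul_iff_inv_smul_mem] at hxQ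
  have hmem : (MulAut.conj g)⁻¹ • x ∈ Subgroup.zpowers (y : G) := hxQ
  have hsub : Subgroup.zpowers (y : G) ≤ N := by
    rw [Subgroup.zpowers_le]
    exact y.property
  have h3 := hsub hmem
  have h4 := hN.conj_mem _ h3 g
  have e : g * ((MulAut.conj g)⁻¹ • x) * g⁻¹ = x := by
    rw [MulAut.smul_def, MulAut.inv_apply, MulAut.conj_symm_apply]
    group
  rwa [e] at h4

/-- the criterion of simplicity -/
theorem simple_of_max [Finite G] [Nontrivial G] (H : Subgroup G)
    (hmax : ∀ M : Subgroup G, H ≤ M → M = H ∨ M = ⊤)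
    (hcore : ∀ N : Subgroup G, N.Normal → N ≤ H → N = ⊥)
    {p : ℕ} [Fact p.Prime] (hp : p ∣ H.index) (hp2 : ¬ p ^ 2 ∣ Nat.card G)
    {x : G} (hx : orderOf x = p)
    (hncl : ∀ N : Subgroup G, N.Normal → x ∈ N → N = ⊤) :
    IsSimpleGroup G := by
  refine ⟨?_⟩
  intro N hN
  by_cases hbot : N = ⊥
  · exact Or.inl hbot
  right
  have hnle : ¬ N ≤ H := fun h => hbot (hcore N hN h)
  have hsup : H ⊔ N = ⊤ := by
    rcases hmax (H ⊔ N) le_sup_left with h | h
    · exact absurd (h ▸ le_sup_right) hnle
    · exact h
  have hdvd : p ∣ Nat.card N := hp.trans (index_dvd_card_of_sup_eq_top H N hsup)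
  exact hncl N hN (mem_normal_of_prime_order N hdvd hp2 hx)

end simple

end Cfsg.Agent.Lib.Helper6.Simp
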