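import Cfsg.Agent.Lib.Helper6.TC14

set_option autoImplicit false

namespace Cfsg.Agent.Lib.Helper6.TC

/-! # Words evaluated through tabulated pieces -/

section tab
variable {px : ℕ → ℕ → ℕ} {N ncol INV : ℕ}

/-- the word `x u⁻¹ x u` evaluated through the table of `x` -/
theorem wapp_zform (hP : PHyp px N ncol INV) {wx ui u : List ℕ}
    (hwx : ∀ c ∈ wx, c < ncol) (hui : ∀ c ∈ ui, c < ncol)
    {QX : ℕ → ℕ} (hQX : ∀ q < N, QX q = wapp px wx q) :
    ∀ q < N, wapp px (wx ++ ui ++ wx ++ u) q = wapp px u (QX (wapp px ui (QX q))) := by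
  intro q hq
  rw [wapp_append, wapp_append, wapp_append, ← hQX q hq]
  have h1 : QX q < N := by rw [hQX q hq]; exact wapp_lt hP wx hwx q hq
  have h2 : wapp px ui (QX q) < N := wapp_lt hP ui hui _ h1
  rw [← hQX _ h2]

/-- a conjugate of a power evaluated through the table of the base of the power -/
theorem wapp_rform (hP : PHyp px N ncol INV) {vi v wz : List ℕ}
    (hvi : ∀ c ∈ vi, c < ncol) (hwz : ∀ c ∈ wz, c < ncol)
    {QZ : ℕ → ℕ} (hQZ : ∀ q < N, QZ q = wapp px wz q) (k : ℕ) :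
    ∀ q < N, wapp px (vi ++ (List.replicate k wz).flatten ++ v) q =
      wapp px v (QZ^[k] (wapp px vi q)) := by
  intro q hq
  rw [wapp_append, wapp_append]
  have h1 : wapp px vi q < N := wapp_lt hP vi hvi q hq
  rw [wapp_pow hP hwz hQZ k _ h1]

end tab

end Cfsg.Agent.Lib.Helper6.TC
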