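import Mathlib

set_option autoImplicit false

namespace Cfsg.Agent.Lib.Helper6.Simp

/-! # Simple groups realised as groups of permutations -/

section range
variable {G Q : Type*} [Group G] [Group Q]

/-- the range of an injective homomorphism out of a simple group is simple of the same order -/
theorem range_simple (φ : G →* Q) (hinj : Function.Injective φ) (hs : IsSimpleGroup G) {n : ℕ}
    (hc : Nat.card G = n) : IsSimpleGroup φ.range ∧ Nat.card φ.range = n := by
  have e : G ≃* φ.range := MonoidHom.ofInjective hinj
  refine ⟨e.symm.isSimpleGroup, ?_⟩
  rw [← hc]
  exact (Nat.card_congr e.toEquiv).symm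

end range

end Cfsg.Agent.Lib.Helper6.Simp
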