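import Mathlib
import Cfsg.Agent.Lib.Helper6.NSubF

/-! S5121 package C1: the normal subgroup `H₁ = {g | c_g|_R ∈ E}`. -/

set_option autoImplicit false

namespace Cfsg.Agent.Lib.Helper6.NSubC1

open Cfsg Cfsg.FusionSystem Cfsg.Agent.Lib.Helper2.NSub Cfsg.Agent.Lib.Helper6.NSubF

variable {p : ℕ} [Fact p.Prime] {G : Type*} [Group G] [Finite G]

variable (D : Setting p G) (E : Cfsg.FusionSystem D.T)
  (hE : E.IsNormalIn (Cfsg.groupFusionSystem (D.S : Subgroup G)) p)
include hE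

/-- C1 -/
theorem exists_H₁ : ∃ H₁ : Subgroup G, H₁.Normal ∧ (∀ g : G, g ∈ H₁ ↔ conjHom D.R g ∈ E.Hom D.R) ∧
    D.C ≤ H₁ ∧ D.T ≤ H₁ ∧ (D.S : Subgroup G) ⊓ H₁ ≤ D.T ⊔ D.C := by
  obtain ⟨H₁, hH₁⟩ : ∃ H₁ : Subgroup G, ∀ g : G, g ∈ H₁ ↔ InE E D.R g := by
    refine ⟨{ carrier := {g | InE E D.R g}
              one_mem' := inE_one E (R_le_T D)
              mul_mem' := ?_
              inv_mem' := ?_ }, fun g => Iff.rfl⟩
    · intro g h hg hh
      exact inE_mul E hh hg (fun x hx => R_conj_mem' D h x hx)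
    · intro g hg
      refine inE_inv E hg (fun x hx => ?_)
      have := R_conj_mem' D g⁻¹ x hx
      rwa [inv_inv] at this
  refine ⟨H₁, ⟨?_⟩, hH₁, ?_, ?_, ?_⟩
  · intro g hg k
    rw [hH₁] at hg ⊢
    exact inE_conj_of_normalizes hE (R_conj_mem' D k) (R_conj_mem' D g) hg
  · intro c hc
    rw [hH₁]
    refine inE_congr E ?_ (inE_one E (R_le_T D))
    intro x hx
    have h1 : x * c = c * x := Subgroup.mem_centralizer_iff.mp hc x hx
    rw [← h1]; group
  · intro t ht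
    rw [hH₁]
    exact inE_of_mem E (R_le_T D) ht
  · intro s hs
    have hsS' : s ∈ (D.S : Subgroup G) := (Subgroup.mem_inf.mp hs).1
    have hsH : InE E D.R s := (hH₁ s).mp (Subgroup.mem_inf.mp hs).2
    obtain ⟨k, hk⟩ := D.S.isPGroup' ⟨s, hsS'⟩
    have hk' : s ^ p ^ k = 1 := by
      have := congrArg Subtype.val hk
      simpa using this
    obtain ⟨t, ht, Ht⟩ := exists_mem_of_pElement hE (R_weaklyClosed D E hE) hsH
      (fun t ht => strongly_closed hE s t ht
        ((D.S : Subgroup G).mul_mem ((D.S : Subgroup G).mul_mem hsS' (D.hTS ht))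
          ((D.S : Subgroup G).inv_mem hsS'))) k
      (fun w _ => by rw [hk']; group)
    have hc : t⁻¹ * s ∈ D.C := by
      show t⁻¹ * s ∈ Subgroup.centralizer (D.R : Set G)
      rw [Subgroup.mem_centralizer_iff]
      intro r hr
      have h1 := Ht r hr
      calc r * (t⁻¹ * s) = t⁻¹ * (t * r * t⁻¹) * s := by group
        _ = t⁻¹ * (s * r * s⁻¹) * s := by rw [h1]
        _ = t⁻¹ * s * r := by group
    have : s = t * (t⁻¹ * s) := by group
    rw [this]
    exact Subgroup.mul_mem_sup ht hc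

end Cfsg.Agent.Lib.Helper6.NSubC1
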