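import Mathlib
import Cfsg.Prelude
import Cfsg.Agent.Lib.Helper6.ODec0

set_option autoImplicit false

/-! # S5677 hub, part 2: the subspace `W = D_j ∩ a^⊥` for a nonsingular `a ∈ D_j`, and block
components of vectors. -/

namespace Cfsg.Agent.Lib.Helper6.ODec

open Matrix Module Cfsg.Agent.H9Orth Cfsg.Agent.Lib.Helper2.ReflGen Cfsg.Agent.Lib.Helper2.CDG
  Cfsg.Agent.Lib.Helper2.LongRoot

variable {F : Type*} [Field F] {ι : Type} [Fintype ι] [DecidableEq ι]
variable {Q : QuadraticForm F (ι → F)} {t k : ℕ} {D : Fin t → Submodule F (ι → F)}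
  {M : Subgroup (Matrix.GeneralLinearGroup ι F)}

/-- `W = D_j ∩ a^⊥` -/
def Wsub (Q : QuadraticForm F (ι → F)) (D : Fin t → Submodule F (ι → F)) (j : Fin t)
    (a : ι → F) : Submodule F (ι → F) :=
  D j ⊓ perpS Q (Submodule.span F {a})

theorem mem_Wsub (j : Fin t) (a x : ι → F) :
    x ∈ Wsub Q D j a ↔ x ∈ D j ∧ QuadraticMap.polar (⇑Q) a x = 0 := by
  unfold Wsub
  rw [Submodule.mem_inf, mem_perpS]
  constructor
  · rintro ⟨h1, h2⟩
    exact ⟨h1, h2 a (Submodule.mem_span_singleton_self a)⟩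
  · rintro ⟨h1, h2⟩
    refine ⟨h1, fun w hw => ?_⟩
    obtain ⟨s, rfl⟩ := Submodule.mem_span_singleton.1 hw
    rw [QuadraticMap.polar_smul_left, h2, smul_zero]

theorem Wsub_le (j : Fin t) (a : ι → F) : Wsub Q D j a ≤ D j := inf_le_left

namespace Ctx

variable [Fintype F]

theorem polar_self_ne (c : Ctx Q k D M) {a : ι → F} (hQa : Q a ≠ 0) :
    QuadraticMap.polar (⇑Q) a a ≠ 0 := by
  rw [polar_self]
  exact mul_ne_zero c.h2 hQa

/-- `D_j = <a> ⊕ W` -/
theorem Wsub_decomp (c : Ctx Q k D M) {j : Fin t} {a : ι → F} (ha : a ∈ D j) (hQa : Q a ≠ 0)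
    {x : ι → F} (hx : x ∈ D j) : ∃ s : F, ∃ y ∈ Wsub Q D j a, x = s • a + y := by
  have haa := c.polar_self_ne hQa
  refine ⟨QuadraticMap.polar (⇑Q) a x / QuadraticMap.polar (⇑Q) a a,
    x - (QuadraticMap.polar (⇑Q) a x / QuadraticMap.polar (⇑Q) a a) • a, ?_, by abel⟩
  rw [mem_Wsub]
  refine ⟨(D j).sub_mem hx ((D j).smul_mem _ ha), ?_⟩
  rw [QuadraticMap.polar_sub_right, QuadraticMap.polar_smul_right, smul_eq_mul,
    div_mul_cancel₀ _ haa, sub_self]

/-- `W` is nondegenerate -/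
theorem Wsub_nondeg (c : Ctx Q k D M) {j : Fin t} {a : ι → F} (ha : a ∈ D j) (hQa : Q a ≠ 0) :
    Cfsg.Geo.IsNondegenerateOn (QuadraticMap.polar (⇑Q)) (Wsub Q D j a) := by
  have key : ∀ w ∈ Wsub Q D j a, w ≠ 0 → ∃ x ∈ Wsub Q D j a, QuadraticMap.polar (⇑Q) x w ≠ 0 := by
    intro w hw hw0
    obtain ⟨hwD, haw⟩ := (mem_Wsub j a w).1 hw
    obtain ⟨⟨x, hx, hxw⟩, -⟩ := c.hD.decomp.nondegenerate j w hwD hw0
    obtain ⟨s, y, hy, rfl⟩ := c.Wsub_decomp ha hQa hx
    refine ⟨y, hy, ?_⟩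
    rw [QuadraticMap.polar_add_left, QuadraticMap.polar_smul_left, haw, smul_zero, zero_add] at hxw
    exact hxw
  intro w hw hw0
  obtain ⟨x, hx, hxw⟩ := key w hw hw0
  exact ⟨⟨x, hx, hxw⟩, ⟨x, hx, by rw [QuadraticMap.polar_comm]; exact hxw⟩⟩

/-- `V = W ⊥ W^⊥` -/
theorem Wsub_split (c : Ctx Q k D M) {j : Fin t} {a : ι → F} (ha : a ∈ D j) (hQa : Q a ≠ 0) :
    OrthSplit Q (Wsub Q D j a) (perpS Q (Wsub Q D j a)) :=
  orthSplit_of_nondeg _ (c.Wsub_nondeg ha hQa)

/-- `dim W = k - 1` -/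
theorem Wsub_finrank (c : Ctx Q k D M) {j : Fin t} {a : ι → F} (ha : a ∈ D j) (hQa : Q a ≠ 0) :
    finrank F (Wsub Q D j a) + 1 = k := by
  have ha0 : a ≠ 0 := by
    rintro rfl
    exact hQa (map_zero Q)
  have h1 := Submodule.finrank_sup_add_finrank_inf_eq (Submodule.span F {a}) (Wsub Q D j a)
  have hsup : Submodule.span F {a} ⊔ Wsub Q D j a = D j := by
    apply le_antisymm
    · apply sup_le
      · rw [Submodule.span_singleton_le_iff_mem]; exact ha
      · exact Wsub_le j a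
    · intro x hx
      obtain ⟨s, y, hy, rfl⟩ := c.Wsub_decomp ha hQa hx
      exact Submodule.add_mem_sup (Submodule.smul_mem _ _ (Submodule.mem_span_singleton_self a)) hy
  have hinf : Submodule.span F {a} ⊓ Wsub Q D j a = ⊥ := by
    rw [eq_bot_iff]
    rintro x ⟨hx1, hx2⟩
    obtain ⟨s, rfl⟩ := Submodule.mem_span_singleton.1 hx1
    have h3 := ((mem_Wsub j a _).1 hx2).2
    rw [QuadraticMap.polar_smul_right, smul_eq_mul] at h3
    rcases mul_eq_zero.1 h3 with h | h
    · rw [h, zero_smul]; exact Submodule.zero_mem _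
    · exact absurd h (c.polar_self_ne hQa)
  rw [hsup, hinf, finrank_bot, add_zero, finrank_span_singleton ha0, c.finrank_eq j] at h1
  omega

/-- in case (b) with nonsingular component `a`, the vector `z` is not orthogonal to `W` -/
theorem Wsub_not_perp (c : Ctx Q k D M) {j : Fin t} {a b z : ι → F} (ha : a ∈ D j)
    (hb : b ∈ perpS Q (D j)) (hQa : Q a ≠ 0)
    (hzj : ∀ μ : F, z - μ • (a + b) ∉ perpS Q (D j)) : z ∉ perpS Q (Wsub Q D j a) := by
  intro hz
  have haa := c.polar_self_ne hQa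
  apply hzj (QuadraticMap.polar (⇑Q) a z / QuadraticMap.polar (⇑Q) a a)
  rw [mem_perpS] at hz ⊢
  intro d hd
  obtain ⟨s, y, hy, rfl⟩ := c.Wsub_decomp ha hQa hd
  obtain ⟨hyD, hay⟩ := (mem_Wsub j a y).1 hy
  rw [mem_perpS] at hb
  have hya : QuadraticMap.polar (⇑Q) y a = 0 := by rw [QuadraticMap.polar_comm]; exact hay
  simp only [QuadraticMap.polar_add_left, QuadraticMap.polar_smul_left, QuadraticMap.polar_sub_right,
    QuadraticMap.polar_add_right, QuadraticMap.polar_smul_right, hb a ha, hb y hyD, hz y hy, hya,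
    smul_eq_mul]
  field_simp
  ring

/-- Eichler transformations of `W` fix `w = a + b` -/
theorem Wsub_eich_fix (c : Ctx Q k D M) (hQ : (QuadraticMap.polarBilin Q).Nondegenerate)
    {j : Fin t} {a b p d : ι → F} (hb : b ∈ perpS Q (D j))
    (hp : p ∈ Wsub Q D j a) (hd : d ∈ Wsub Q D j a) (hQp : Q p = 0)
    (hpd : QuadraticMap.polar (⇑Q) p d = 0) :
    ((eich hQ p d hQp hpd : Matrix.GeneralLinearGroup ι F) : Matrix ι ι F) *ᵥ (a + b) = a + b := by
  obtain ⟨hpD, hap⟩ := (mem_Wsub j a p).1 hp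
  obtain ⟨hdD, had⟩ := (mem_Wsub j a d).1 hd
  rw [mem_perpS] at hb
  apply eich_fix
  · rw [QuadraticMap.polar_add_right, QuadraticMap.polar_comm, hap, hb p hpD, add_zero]
  · rw [QuadraticMap.polar_add_right, QuadraticMap.polar_comm, had, hb d hdD, add_zero]

/-- block Eichler transformations of `W` lie in `M` -/
theorem Wsub_eich_mem (c : Ctx Q k D M) (hQ : (QuadraticMap.polarBilin Q).Nondegenerate)
    {j : Fin t} {a p d : ι → F}
    (hp : p ∈ Wsub Q D j a) (hd : d ∈ Wsub Q D j a) (hQp : Q p = 0)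
    (hpd : QuadraticMap.polar (⇑Q) p d = 0) :
    ((eich hQ p d hQp hpd : ↥(Cfsg.isometryGroup F ⇑Q)) : Matrix.GeneralLinearGroup ι F) ∈ M :=
  c.eich_mem hQ (Wsub_le j a hp) (Wsub_le j a hd) hQp hpd

/-- block components of a vector -/
theorem exists_comp (c : Ctx Q k D M) (v : ι → F) :
    ∃ x : Fin t → ι → F, (∀ l, x l ∈ D l) ∧ v = ∑ l, x l := by
  classical
  have hv : v ∈ iSup D := by rw [c.hD.decomp.decomp.iSup_eq_top]; trivial
  refine Submodule.iSup_induction D (motive := fun v => ∃ x : Fin t → ι → F,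
    (∀ l, x l ∈ D l) ∧ v = ∑ l, x l) hv ?_ ?_ ?_
  · intro i v hv
    refine ⟨fun l => if l = i then v else 0, fun l => ?_, ?_⟩
    · by_cases h : l = i
      · subst h; simpa using hv
      · simp [h]
    · simp
  · exact ⟨fun _ => 0, fun l => (D l).zero_mem, by simp⟩
  · rintro v v' ⟨x, hx, rfl⟩ ⟨x', hx', rfl⟩
    exact ⟨fun l => x l + x' l, fun l => (D l).add_mem (hx l) (hx' l),
      by rw [Finset.sum_add_distrib]⟩

/-- the polar form of a block vector against a sum of block components -/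
theorem polar_comp (c : Ctx Q k D M) {x : Fin t → ι → F} (hx : ∀ l, x l ∈ D l) {l : Fin t}
    {d : ι → F} (hd : d ∈ D l) :
    QuadraticMap.polar (⇑Q) d (∑ i, x i) = QuadraticMap.polar (⇑Q) d (x l) := by
  classical
  have h1 : QuadraticMap.polar (⇑Q) d (∑ i, x i) = ∑ i, QuadraticMap.polar (⇑Q) d (x i) := by
    have := map_sum ((QuadraticMap.polarBilin Q) d) x Finset.univ
    exact this
  rw [h1, Finset.sum_eq_single l]
  · intro i _ hil
    exact c.orth (Ne.symm hil) hd (hx i)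
  · intro h; exact absurd (Finset.mem_univ l) h

/-- `Q` is additive over block components -/
theorem Q_sum (c : Ctx Q k D M) {x : Fin t → ι → F} (hx : ∀ l, x l ∈ D l) :
    Q (∑ l, x l) = ∑ l, Q (x l) := by
  classical
  have key : ∀ s : Finset (Fin t), Q (∑ l ∈ s, x l) = ∑ l ∈ s, Q (x l) ∧
      ∀ i, i ∉ s → QuadraticMap.polar (⇑Q) (x i) (∑ l ∈ s, x l) = 0 := by
    intro s
    induction s using Finset.induction_on with
    | empty => simp [QuadraticMap.polar]
    | insert i s his ih =>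
      constructor
      · rw [Finset.sum_insert his, Finset.sum_insert his, QuadraticMap.map_add Q, ih.1,
          ih.2 i his, add_zero]
      · intro i' hi'
        rw [Finset.mem_insert, not_or] at hi'
        rw [Finset.sum_insert his, QuadraticMap.polar_add_right, ih.2 i' hi'.2, add_zero]
        exact c.orth hi'.1 (hx i') (hx i)
  exact (key Finset.univ).1

end Ctx

end Cfsg.Agent.Lib.Helper6.ODec
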