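import Mathlib
import Cfsg.Agent.Lib.Helper4.SUClass.Defs

set_option autoImplicit false
set_option linter.unusedSectionVars false
set_option linter.unusedVariables false

/-!
# S2481 PK-MU : the group `μ_{q+1}` of a field with `q²` elements

* `card_muQ` : `μ_{q+1}` has `q + 1` elements.
* `exists_div_pow_eq` : Hilbert 90 for `K / F_q`: every `u` with `u^(q+1) = 1` is `c / c^q`.
-/

namespace Cfsg.Agent.Lib.Helper4.SUClass

open Polynomial

universe u

variable {K : Type u} [Field K] [Fintype K] {q : ℕ}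

noncomputable instance (K : Type u) [Field K] [Fintype K] (q : ℕ) : Fintype ↥(muQ K q) :=
  Fintype.ofFinite _

namespace PkMU

theorem two_le_q (hK : Fintype.card K = q ^ 2) : 2 ≤ q := by
  have h1 : 1 < Fintype.card K := Fintype.one_lt_card
  rw [hK] at h1
  by_contra h
  have : q = 0 ∨ q = 1 := by omega
  rcases this with rfl | rfl <;> simp at h1

theorem card_units (hK : Fintype.card K = q ^ 2) : Nat.card Kˣ = q ^ 2 - 1 := by
  classical
  rw [Nat.card_eq_fintype_card, Fintype.card_units, hK]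

theorem sq_sub_one (q : ℕ) (hq : 1 ≤ q) : q ^ 2 - 1 = (q - 1) * (q + 1) := by
  obtain ⟨k, rfl⟩ : ∃ k, q = k + 1 := ⟨q - 1, by omega⟩
  have : (k + 1) ^ 2 = (k + 1 - 1) * (k + 1 + 1) + 1 := by
    simp only [Nat.add_sub_cancel]
    ring
  rw [this, Nat.add_sub_cancel]

end PkMU

open PkMU

theorem card_muQ (hK : Fintype.card K = q ^ 2) : Fintype.card ↥(muQ K q) = q + 1 := by
  have hq := two_le_q hK
  rw [← Nat.card_eq_fintype_card]
  unfold muQ
  rw [IsCyclic.card_powMonoidHom_ker, card_units hK, sq_sub_one q (by omega)]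
  exact Nat.gcd_eq_right (Dvd.intro_left _ rfl)

/-- Hilbert 90 for `K / F_q` -/
theorem exists_div_pow_eq (hK : Fintype.card K = q ^ 2) (u : Kˣ) (hu : u ^ (q + 1) = 1) :
    ∃ c : Kˣ, c = u * c ^ q := by
  have hq := two_le_q hK
  obtain ⟨γ, hγ⟩ := IsCyclic.exists_generator (α := Kˣ)
  have hord : orderOf γ = q ^ 2 - 1 := by
    rw [orderOf_eq_card_of_forall_mem_zpowers hγ, card_units hK]
  -- some `a` with `a + u a^q ≠ 0`
  have hex : ∃ a : K, a + (u : K) * a ^ q ≠ 0 := by
    by_contra hall
    push Not at hall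
    have h1 := hall 1
    rw [one_pow, mul_one] at h1
    have hu1 : (u : K) = -1 := by linear_combination h1
    have hγq : (γ : K) ^ q = (γ : K) := by
      have := hall (γ : K)
      rw [hu1] at this
      linear_combination -this
    have hγ1 : γ ^ (q - 1) = 1 := by
      apply Units.ext
      rw [Units.val_pow_eq_pow_val, Units.val_one]
      have hne : (γ : K) ≠ 0 := γ.ne_zero
      have : (γ : K) ^ (q - 1) * (γ : K) = 1 * (γ : K) := by
        rw [← pow_succ, Nat.sub_add_cancel (by omega), hγq, one_mul]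
      exact mul_right_cancel₀ hne this
    have hdvd := orderOf_dvd_of_pow_eq_one hγ1
    rw [hord, sq_sub_one q (by omega)] at hdvd
    have hle := Nat.le_of_dvd (by omega) hdvd
    have : (q - 1) * (q + 1) ≥ (q - 1) * 2 := Nat.mul_le_mul_left _ (by omega)
    have h2 : q - 1 ≥ 1 := by omega
    nlinarith
  obtain ⟨a, ha⟩ := hex
  have huK : (u : K) ^ (q + 1) = 1 := by
    have := congrArg Units.val hu
    simpa using this
  have hfrob : ∀ x y : K, (x + y) ^ q = x ^ q + y ^ q := by
    intro x y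
    obtain ⟨p, hp⟩ := CharP.exists K
    have := hp
    have : Fact p.Prime := ⟨CharP.char_is_prime K p⟩
    obtain ⟨n, hn, hcard⟩ := FiniteField.card K p
    -- q is a power of p
    have hqp : ∃ k, q = p ^ k := by
      have h1 : q ^ 2 = p ^ (n : ℕ) := by rw [← hK, hcard]
      have hp' : Nat.Prime p := Fact.out
      have hdvd : q ∣ p ^ (n : ℕ) := Dvd.intro_left (q ^ 1) (by rw [← h1]; ring)
      exact (Nat.dvd_prime_pow hp').1 hdvd |>.imp fun k hk => hk.2
    obtain ⟨k, rfl⟩ := hqp
    exact add_pow_char_pow x y p k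
  have haq2 : a ^ (q ^ 2) = a := by
    rw [← hK]
    exact FiniteField.pow_card a
  refine ⟨Units.mk0 (a + (u : K) * a ^ q) ha, ?_⟩
  apply Units.ext
  rw [Units.val_mul, Units.val_pow_eq_pow_val, Units.val_mk0, hfrob, mul_pow, ← pow_mul,
    ← pow_two, haq2]
  have : (u : K) * ((u : K) ^ q * a) = (u : K) ^ (q + 1) * a := by ring
  rw [mul_add, this, huK, one_mul, add_comm]

end Cfsg.Agent.Lib.Helper4.SUClass
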