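import Mathlib

/-!
# S3777 (Vaughan-Lee), Step 4: the counting lemma (group form)

`Cfsg.Agent.Lib.Helper6.VL4.step4`.
-/

namespace Cfsg.Agent.Lib.Helper6.VL4

open Subgroup
open scoped commutatorElement

/-! ### Part A: counting homomorphisms to `ZMod p` -/

section HomCount

variable {p : ℕ} [Fact p.Prime]

/-- Additive version: an elementary abelian `p`-group has as many additive characters to
`ZMod p` as elements. -/
theorem card_addHom_zmod (A : Type*) [AddCommGroup A] [Module (ZMod p) A] [Finite A] :
    Nat.card (A →+ ZMod p) = Nat.card A := by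
  classical
  have e1 : (A →+ ZMod p) ≃ (A →ₗ[ZMod p] ZMod p) :=
    (AddMonoidHom.toZModLinearMapEquiv p).toEquiv
  have b := Module.finBasis (ZMod p) A
  have e2 : A ≃ (A →ₗ[ZMod p] ZMod p) := b.toDualEquiv.toEquiv
  exact Nat.card_congr (e1.trans e2.symm)

/-- Multiplicative version. -/
theorem card_hom_zmod (E : Type*) [Group E] [Finite E] (hc : ∀ a b : E, a * b = b * a)
    (hp : ∀ x : E, x ^ p = 1) :
    Nat.card (E →* Multiplicative (ZMod p)) = Nat.card E := by
  classical
  letI : CommGroup E := { (inferInstance : Group E) with mul_comm := hc }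
  have hsm : ∀ x : Additive E, p • x = 0 := fun x => by
    have := hp (Additive.toMul x)
    exact congrArg Additive.ofMul this
  letI : Module (ZMod p) (Additive E) := AddCommGroup.zmodModule hsm
  have h1 := card_addHom_zmod (p := p) (Additive E)
  have e : (E →* Multiplicative (ZMod p)) ≃ (Additive E →+ ZMod p) := MonoidHom.toAdditiveLeft
  rw [Nat.card_congr e, h1]
  exact Nat.card_congr Additive.toMul

/-- A subgroup containing the commutator subgroup is normal. -/
theorem normal_of_commutator_le {G : Type*} [Group G] (Q : Subgroup G)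
    (hQ : commutator G ≤ Q) : Q.Normal := by
  refine ⟨fun q hq g => ?_⟩
  have h1 : ⁅g, q⁆ ∈ commutator G :=
    Subgroup.commutator_mem_commutator (Subgroup.mem_top g) (Subgroup.mem_top q)
  have h2 : g * q * g⁻¹ = ⁅g, q⁆ * q := by
    simp [commutatorElement_def]
  rw [h2]
  exact Q.mul_mem (hQ h1) hq

/-- The number of homomorphisms `G → ZMod p` killing a subgroup `Q` with elementary abelian
quotient is the index of `Q`. -/
theorem card_hom_ker_ge {G : Type*} [Group G] [Finite G] (Q : Subgroup G)
    (hQc : commutator G ≤ Q) (hQp : ∀ g : G, g ^ p ∈ Q) :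
    Nat.card {α : G →* Multiplicative (ZMod p) // Q ≤ α.ker} = Q.index := by
  classical
  haveI : Q.Normal := normal_of_commutator_le Q hQc
  have e : {α : G →* Multiplicative (ZMod p) // Q ≤ α.ker} ≃
      (G ⧸ Q →* Multiplicative (ZMod p)) :=
    { toFun := fun α => QuotientGroup.lift Q α.1 α.2
      invFun := fun β => ⟨β.comp (QuotientGroup.mk' Q), fun q hq => by
        rw [MonoidHom.mem_ker, MonoidHom.comp_apply, QuotientGroup.mk'_apply,
          (QuotientGroup.eq_one_iff q).2 hq, map_one]⟩
      left_inv := fun α => by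
        apply Subtype.ext
        ext g
        rfl
      right_inv := fun β => by
        ext x
        rfl }
  rw [Nat.card_congr e, Subgroup.index_eq_card]
  apply card_hom_zmod
  · intro a b
    induction a using QuotientGroup.induction_on with
    | H a =>
      induction b using QuotientGroup.induction_on with
      | H b =>
        rw [← QuotientGroup.mk_mul, ← QuotientGroup.mk_mul, QuotientGroup.eq]
        apply hQc
        have h1 : ⁅b⁻¹, a⁻¹⁆ ∈ commutator G :=
          Subgroup.commutator_mem_commutator (Subgroup.mem_top _) (Subgroup.mem_top _)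
        have h2 : (a * b)⁻¹ * (b * a) = ⁅b⁻¹, a⁻¹⁆ := by
          simp [commutatorElement_def, mul_assoc]
        rw [h2]
        exact h1
  · intro x
    induction x using QuotientGroup.induction_on with
    | H g =>
      rw [← QuotientGroup.mk_pow]
      exact (QuotientGroup.eq_one_iff _).2 (hQp g)

end HomCount

/-! ### Part B: cardinalities of subgroups and their differences -/

section Cards

open Classical

variable {G : Type*} [Group G] [Fintype G] {p : ℕ} [Fact p.Prime]

theorem card_mul_relIndex_of_le {A B : Subgroup G} (h : A ≤ B) :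
    Nat.card A * A.relIndex B = Nat.card B := by
  rw [← Subgroup.relIndex_bot_left, ← Subgroup.relIndex_bot_left]
  exact Subgroup.relIndex_mul_relIndex _ _ _ bot_le h

theorem card_filter_mem (Q : Subgroup G) :
    (Finset.univ.filter (fun u : G => u ∈ Q)).card = Nat.card Q := by
  rw [Nat.card_eq_fintype_card, Fintype.card_subtype]

/-- Two subgroups of the same prime index, one inside the other, are equal. -/
theorem eq_of_le_of_index_eq {K H : Subgroup G} (hKH : K ≤ H) (hK : K.index = p)
    (hH : H.index = p) : K = H := by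
  have h1 := Subgroup.relIndex_mul_index hKH
  rw [hK, hH] at h1
  have hp : 0 < p := (Fact.out : p.Prime).pos
  have h2 : K.relIndex H = 1 := by
    have : K.relIndex H * p = 1 * p := by rw [h1, one_mul]
    exact Nat.eq_of_mul_eq_mul_right hp this
  exact le_antisymm hKH (Subgroup.relIndex_eq_one.1 h2)

/-- If `M` is normal of prime index and `Q` is not inside `M`, then `M ∩ Q` has index `p`
in `Q`. -/
theorem relIndex_of_not_le (M : Subgroup G) [M.Normal] (hM : M.index = p) (Q : Subgroup G)
    (hQ : ¬ Q ≤ M) : M.relIndex Q = p := by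
  have hpp : p.Prime := Fact.out
  have h1 : M.relIndex Q ∣ p := by
    rw [← hM]
    have := Subgroup.relIndex_dvd_index_of_le (H := M ⊓ Q) (K := Q) inf_le_right
    rw [Subgroup.inf_relIndex_right] at this
    have h3 : M.relIndex (M ⊔ Q) * (M ⊔ Q).index = M.index :=
      Subgroup.relIndex_mul_index le_sup_left
    rw [Subgroup.relIndex_sup_left] at h3
    exact Dvd.intro _ h3
  rcases (Nat.dvd_prime hpp).1 h1 with h | h
  · exact absurd (Subgroup.relIndex_eq_one.1 h) hQ
  · exact h

theorem card_inf_mul (M : Subgroup G) [M.Normal] (hM : M.index = p) (Q : Subgroup G)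
    (hQ : ¬ Q ≤ M) : Nat.card (M ⊓ Q : Subgroup G) * p = Nat.card Q := by
  have h1 := card_mul_relIndex_of_le (inf_le_right : M ⊓ Q ≤ Q)
  rw [Subgroup.inf_relIndex_right, relIndex_of_not_le M hM Q hQ] at h1
  exact h1

/-- `|Q \ M| * p = |Q| * (p - 1)` when `Q` is not inside the maximal subgroup `M`. -/
theorem card_filter_mem_not_mem (M : Subgroup G) [M.Normal] (hM : M.index = p)
    (Q : Subgroup G) (hQ : ¬ Q ≤ M) :
    (Finset.univ.filter (fun u : G => u ∈ Q ∧ u ∉ M)).card * p = Nat.card Q * (p - 1) := by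
  have h1 := Finset.card_filter_add_card_filter_not
    (s := Finset.univ.filter (fun u : G => u ∈ Q)) (fun u => u ∈ M)
  rw [Finset.filter_filter, Finset.filter_filter, card_filter_mem] at h1
  have h2 : (Finset.univ.filter (fun u : G => u ∈ Q ∧ u ∈ M)).card
      = Nat.card (M ⊓ Q : Subgroup G) := by
    rw [← card_filter_mem]
    congr 1
    ext u
    simp [Subgroup.mem_inf, and_comm]
  rw [h2] at h1
  have h3 := card_inf_mul M hM Q hQ
  have hp : 1 ≤ p := (Fact.out : p.Prime).one_lt.le
  set a := (Finset.univ.filter (fun u : G => u ∈ Q ∧ u ∉ M)).card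
  set c := Nat.card (M ⊓ Q : Subgroup G)
  rw [← h3]
  zify [hp] at h1 h3 ⊢
  have : (a : ℤ) = c * p - c := by linarith
  rw [this]; ring

/-- The count behind the lower bound of the double counting. -/
theorem card_filter_three (M : Subgroup G) [M.Normal] (hM : M.index = p)
    (H T : Subgroup G) (hH : H.index = p) (hHM : H ≠ M) (hTH : T ≤ H)
    (hT : T.relIndex H = p) (hTM : T ≠ H ⊓ M) :
    (Finset.univ.filter (fun u : G => u ∈ H ∧ u ∉ T ∧ u ∉ M)).card * p ^ 3
      = Nat.card G * (p - 1) ^ 2 := by
  have hp : 1 ≤ p := (Fact.out : p.Prime).one_lt.le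
  have hHnM : ¬ H ≤ M := fun h => hHM (eq_of_le_of_index_eq h hH hM)
  have hcT : Nat.card T * p = Nat.card H := by
    have := card_mul_relIndex_of_le hTH
    rwa [hT] at this
  have hcH : Nat.card H * p = Nat.card G := by
    have := Subgroup.card_mul_index H
    rwa [hH] at this
  have hTnM : ¬ T ≤ M := by
    intro h
    apply hTM
    have hle : T ≤ H ⊓ M := le_inf hTH h
    apply Subgroup.eq_of_le_of_card_ge hle
    have h1 := card_inf_mul M hM H hHnM
    rw [inf_comm] at h1
    have hpos : 0 < p := hp
    have : Nat.card (H ⊓ M : Subgroup G) * p = Nat.card T * p := by rw [h1, hcT]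
    exact (Nat.eq_of_mul_eq_mul_right hpos this).le
  have hH1 := card_filter_mem_not_mem M hM H hHnM
  have hT1 := card_filter_mem_not_mem M hM T hTnM
  have hsplit : (Finset.univ.filter (fun u : G => u ∈ H ∧ u ∉ M)).card
      = (Finset.univ.filter (fun u : G => u ∈ T ∧ u ∉ M)).card
        + (Finset.univ.filter (fun u : G => u ∈ H ∧ u ∉ T ∧ u ∉ M)).card := by
    have h1 := Finset.card_filter_add_card_filter_not
      (s := Finset.univ.filter (fun u : G => u ∈ H ∧ u ∉ M)) (fun u => u ∈ T)
    rw [Finset.filter_filter, Finset.filter_filter] at h1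
    rw [← h1]
    congr 2
    · ext u
      simp only [Finset.mem_filter, Finset.mem_univ, true_and]
      constructor
      · rintro ⟨⟨_, h2⟩, h3⟩; exact ⟨h3, h2⟩
      · rintro ⟨h3, h2⟩; exact ⟨⟨hTH h3, h2⟩, h3⟩
    · ext u
      simp only [Finset.mem_filter, Finset.mem_univ, true_and]
      tauto
  set aH := (Finset.univ.filter (fun u : G => u ∈ H ∧ u ∉ M)).card
  set aT := (Finset.univ.filter (fun u : G => u ∈ T ∧ u ∉ M)).card
  set A := (Finset.univ.filter (fun u : G => u ∈ H ∧ u ∉ T ∧ u ∉ M)).card
  rw [← hcH, ← hcT] at *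
  zify [hp] at *
  have hA : (A : ℤ) = aH - aT := by linarith
  -- multiply out
  have e1 : (A : ℤ) * p = (Nat.card T : ℤ) * p * (p - 1) - Nat.card T * (p - 1) := by
    rw [hA, sub_mul, hH1, hT1]
  calc (A : ℤ) * p ^ 3 = ((A : ℤ) * p) * p ^ 2 := by ring
    _ = _ := by rw [e1]; ring

end Cards

/-! ### Part C: the double counting -/

section Star

open Classical

variable {G : Type*} [Group G] [Fintype G] {p : ℕ} [Fact p.Prime]

theorem ker_index_eq (α : G →* Multiplicative (ZMod p)) (h : α.ker ≠ ⊤) : α.ker.index = p := by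
  have hpp : p.Prime := Fact.out
  rw [Subgroup.index_ker]
  have h1 : Nat.card α.range ∣ Nat.card (Multiplicative (ZMod p)) :=
    Subgroup.card_subgroup_dvd_card _
  have h2 : Nat.card (Multiplicative (ZMod p)) = p := by
    rw [Nat.card_congr Multiplicative.toAdd, Nat.card_zmod]
  rw [h2] at h1
  rcases (Nat.dvd_prime hpp).1 h1 with h3 | h3
  · exfalso
    apply h
    have : α.range = ⊥ := (Subgroup.card_eq_one).1 h3
    rw [MonoidHom.range_eq_bot_iff] at this
    rw [this]
    exact MonoidHom.ker_one
  · exact h3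

theorem card_filter_ker_ge [Fintype (G →* Multiplicative (ZMod p))] (Q : Subgroup G)
    (hQc : commutator G ≤ Q) (hQp : ∀ g : G, g ^ p ∈ Q) :
    (Finset.univ.filter (fun α : G →* Multiplicative (ZMod p) => Q ≤ α.ker)).card = Q.index := by
  rw [← card_hom_ker_ge Q hQc hQp, Nat.card_eq_fintype_card, Fintype.card_subtype]

theorem star (Φ : Subgroup G) (hcomm : commutator G ≤ Φ) (hpow : ∀ g : G, g ^ p ∈ Φ)
    (M : Subgroup G) (hΦM : Φ ≤ M) (hM : M.index = p)
    (κ : G → Subgroup G) (hk1 : ∀ u, Φ ≤ κ u)
    (hk : ∀ H : Subgroup G, Φ ≤ H → H.index = p → H ≠ M →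
      ∃ T : Subgroup G, Φ ≤ T ∧ T ≤ H ∧ T.relIndex H = p ∧ T ≠ H ⊓ M ∧
        ∀ u ∈ H, u ∉ T → κ u ≤ H)
    (d : ℕ) (hd : Φ.index = p ^ d) :
    (p ^ d - p) * (Nat.card G * (p - 1) ^ 2) ≤
      p ^ 3 * ∑ u ∈ Finset.univ.filter (fun u : G => u ∉ M), ((κ u).index - 1) := by
  have hpp : p.Prime := Fact.out
  haveI : M.Normal := normal_of_commutator_le M (hcomm.trans hΦM)
  haveI : NeZero p := ⟨hpp.ne_zero⟩
  haveI : Finite (G →* Multiplicative (ZMod p)) := DFunLike.finite _
  haveI : Fintype (G →* Multiplicative (ZMod p)) := Fintype.ofFinite _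
  let valid : (G →* Multiplicative (ZMod p)) → Prop := fun α => Φ ≤ α.ker ∧ ¬ M ≤ α.ker
  have hvalid : ∀ α, valid α → α.ker.index = p ∧ α.ker ≠ M := by
    intro α hα
    refine ⟨ker_index_eq α ?_, ?_⟩
    · intro h
      apply hα.2
      rw [h]
      exact le_top
    · intro h
      apply hα.2
      rw [h]
  have hT : ∀ α, valid α → ∃ T : Subgroup G, Φ ≤ T ∧ T ≤ α.ker ∧ T.relIndex α.ker = p ∧
      T ≠ α.ker ⊓ M ∧ ∀ u ∈ α.ker, u ∉ T → κ u ≤ α.ker :=
    fun α hα => hk α.ker hα.1 (hvalid α hα).1 (hvalid α hα).2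
  choose T hT1 hT2 hT3 hT4 hT5 using hT
  let r : G → (G →* Multiplicative (ZMod p)) → Prop :=
    fun u α => ∃ hv : valid α, u ∈ α.ker ∧ u ∉ T α hv ∧ u ∉ M
  have hdc := Finset.sum_card_bipartiteAbove_eq_sum_card_bipartiteBelow
    (s := (Finset.univ : Finset G)) (t := (Finset.univ : Finset (G →* Multiplicative (ZMod p)))) r
  -- the number of valid homs
  have hnv : (Finset.univ.filter valid).card = p ^ d - p := by
    have h1 := Finset.card_filter_add_card_filter_not
      (s := Finset.univ.filter (fun α : G →* Multiplicative (ZMod p) => Φ ≤ α.ker))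
      (fun α => M ≤ α.ker)
    rw [Finset.filter_filter, Finset.filter_filter, card_filter_ker_ge Φ hcomm hpow, hd] at h1
    have h2 : (Finset.univ.filter
        (fun α : G →* Multiplicative (ZMod p) => Φ ≤ α.ker ∧ M ≤ α.ker)).card = p := by
      refine Eq.trans ?_ ((card_filter_ker_ge M (hcomm.trans hΦM) (fun g => hΦM (hpow g))).trans hM)
      congr 1
      ext α
      simp only [Finset.mem_filter, Finset.mem_univ, true_and]
      exact ⟨fun h => h.2, fun h => ⟨hΦM.trans h, h⟩⟩
    rw [h2] at h1
    have : (Finset.univ.filter valid).card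
        = (Finset.univ.filter
          (fun α : G →* Multiplicative (ZMod p) => Φ ≤ α.ker ∧ ¬ M ≤ α.ker)).card := rfl
    omega
  -- right side
  have hright : ∀ α ∈ (Finset.univ : Finset (G →* Multiplicative (ZMod p))),
      ((Finset.univ : Finset G).bipartiteBelow r α).card * p ^ 3
        = if valid α then Nat.card G * (p - 1) ^ 2 else 0 := by
    intro α _
    by_cases hα : valid α
    · rw [if_pos hα]
      rw [← card_filter_three M hM α.ker (T α hα) (hvalid α hα).1 (hvalid α hα).2 (hT2 α hα)
        (hT3 α hα) (hT4 α hα)]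
      congr 2
      ext u
      simp only [Finset.bipartiteBelow, Finset.mem_filter, Finset.mem_univ, true_and]
      constructor
      · rintro ⟨hv, h1, h2, h3⟩
        exact ⟨h1, h2, h3⟩
      · rintro ⟨h1, h2, h3⟩
        exact ⟨hα, h1, h2, h3⟩
    · rw [if_neg hα]
      have : (Finset.univ : Finset G).bipartiteBelow r α = ∅ := by
        apply Finset.eq_empty_of_forall_notMem
        intro u hu
        simp only [Finset.bipartiteBelow, Finset.mem_filter, Finset.mem_univ, true_and] at hu
        exact hα hu.1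
      rw [this]
      simp
  -- left side
  have hleft : ∀ u ∈ (Finset.univ : Finset G),
      ((Finset.univ : Finset (G →* Multiplicative (ZMod p))).bipartiteAbove r u).card
        ≤ if u ∉ M then (κ u).index - 1 else 0 := by
    intro u _
    by_cases hu : u ∉ M
    · rw [if_pos hu]
      have hsub : (Finset.univ : Finset (G →* Multiplicative (ZMod p))).bipartiteAbove r u ⊆
          (Finset.univ.filter (fun α : G →* Multiplicative (ZMod p) => κ u ≤ α.ker)).erase 1 := by
        intro α hα
        simp only [Finset.bipartiteAbove, Finset.mem_filter, Finset.mem_univ, true_and] at hα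
        obtain ⟨hv, h1, h2, h3⟩ := hα
        rw [Finset.mem_erase]
        refine ⟨?_, ?_⟩
        · rintro rfl
          apply hv.2
          rw [MonoidHom.ker_one]
          exact le_top
        · simp only [Finset.mem_filter, Finset.mem_univ, true_and]
          exact hT5 α hv u h1 h2
      refine (Finset.card_le_card hsub).trans ?_
      rw [Finset.card_erase_of_mem, card_filter_ker_ge (κ u) (hcomm.trans (hk1 u))
        (fun g => hk1 u (hpow g))]
      simp only [Finset.mem_filter, Finset.mem_univ, true_and]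
      rw [MonoidHom.ker_one]
      exact le_top
    · rw [if_neg hu]
      have : (Finset.univ : Finset (G →* Multiplicative (ZMod p))).bipartiteAbove r u = ∅ := by
        apply Finset.eq_empty_of_forall_notMem
        intro α hα
        simp only [Finset.bipartiteAbove, Finset.mem_filter, Finset.mem_univ, true_and] at hα
        obtain ⟨hv, h1, h2, h3⟩ := hα
        exact hu h3
      rw [this]
      simp
  calc (p ^ d - p) * (Nat.card G * (p - 1) ^ 2)
      = ∑ α ∈ (Finset.univ : Finset (G →* Multiplicative (ZMod p))),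
          (if valid α then Nat.card G * (p - 1) ^ 2 else 0) := by
        rw [← Finset.sum_filter, Finset.sum_const, hnv, smul_eq_mul]
    _ = ∑ α ∈ (Finset.univ : Finset (G →* Multiplicative (ZMod p))),
          ((Finset.univ : Finset G).bipartiteBelow r α).card * p ^ 3 :=
        (Finset.sum_congr rfl hright).symm
    _ = (∑ α ∈ (Finset.univ : Finset (G →* Multiplicative (ZMod p))),
          ((Finset.univ : Finset G).bipartiteBelow r α).card) * p ^ 3 := by
        rw [Finset.sum_mul]
    _ = (∑ u ∈ (Finset.univ : Finset G),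
          ((Finset.univ : Finset (G →* Multiplicative (ZMod p))).bipartiteAbove r u).card)
            * p ^ 3 := by rw [hdc]
    _ ≤ (∑ u ∈ (Finset.univ : Finset G), if u ∉ M then (κ u).index - 1 else 0) * p ^ 3 :=
        Nat.mul_le_mul_right _ (Finset.sum_le_sum hleft)
    _ = p ^ 3 * ∑ u ∈ Finset.univ.filter (fun u : G => u ∉ M), ((κ u).index - 1) := by
        rw [← Finset.sum_filter, mul_comm]

omit [Fintype G] in
/-- The counting inequality with arbitrary decidability and `Fintype` instances. -/
theorem counting_inequality_group [Fintype G] (Φ : Subgroup G) (hcomm : commutator G ≤ Φ)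
    (hpow : ∀ g : G, g ^ p ∈ Φ)
    (M : Subgroup G) (hΦM : Φ ≤ M) (hM : M.index = p)
    (κ : G → Subgroup G) (hk1 : ∀ u, Φ ≤ κ u)
    (hk : ∀ H : Subgroup G, Φ ≤ H → H.index = p → H ≠ M →
      ∃ T : Subgroup G, Φ ≤ T ∧ T ≤ H ∧ T.relIndex H = p ∧ T ≠ H ⊓ M ∧
        ∀ u ∈ H, u ∉ T → κ u ≤ H)
    (d : ℕ) (hd : Φ.index = p ^ d) [DecidablePred (fun u : G => u ∉ M)] :
    (p ^ d - p) * (Nat.card G * (p - 1) ^ 2) ≤
      p ^ 3 * ∑ u ∈ Finset.univ.filter (fun u : G => u ∉ M), ((κ u).index - 1) := by
  have h := star Φ hcomm hpow M hΦM hM κ hk1 hk d hd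
  convert h using 3
  ext u
  simp only [Finset.mem_filter, Finset.mem_univ, true_and]

end Star

/-! ### Part D: generating chains above `Φ` -/

section Chain

variable {G : Type*} [Group G] [Finite G] {p : ℕ} [Fact p.Prime]

/-- Adding one element outside `Q ⊇ Φ` multiplies the order by `p`. -/
theorem index_sup_zpowers_mul (Q : Subgroup G) (hQc : commutator G ≤ Q)
    (hQp : ∀ g : G, g ^ p ∈ Q) (t : G) (ht : t ∉ Q) :
    (Q ⊔ Subgroup.zpowers t).index * p = Q.index := by
  have hQn : Q.Normal := normal_of_commutator_le Q hQc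
  have h1 : Q ⊔ Subgroup.zpowers t
      = (Subgroup.zpowers (QuotientGroup.mk' Q t)).comap (QuotientGroup.mk' Q) := by
    rw [← MonoidHom.map_zpowers, QuotientGroup.comap_map_mk']
  rw [h1, Subgroup.index_comap_of_surjective _ (QuotientGroup.mk'_surjective Q),
    Subgroup.index_eq_card Q]
  have h2 : orderOf (QuotientGroup.mk' Q t) = p := by
    apply orderOf_eq_prime
    · rw [← map_pow]
      exact (QuotientGroup.eq_one_iff _).2 (hQp t)
    · intro h
      exact ht ((QuotientGroup.eq_one_iff _).1 h)
  have h3 := Subgroup.card_mul_index (Subgroup.zpowers (QuotientGroup.mk' Q t))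
  rw [Nat.card_zpowers, h2] at h3
  rw [← h3, mul_comm]

theorem closure_insert_eq (a : G) (s : Set G) :
    Subgroup.closure (insert a s) = Subgroup.zpowers a ⊔ Subgroup.closure s := by
  rw [Set.insert_eq, Subgroup.closure_union, Subgroup.zpowers_eq_closure]

/-- From a generating set of `R` over `Q` one can extract a generating subset of the right
size. -/
theorem exists_finset_gen (Φ : Subgroup G) (hcomm : commutator G ≤ Φ)
    (hpow : ∀ g : G, g ^ p ∈ Φ) (𝒯 : Set G) (R : Subgroup G) :
    ∀ (k : ℕ) (Q : Subgroup G), Φ ≤ Q → Q ⊔ Subgroup.closure 𝒯 = R →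
      Q.index = R.index * p ^ k →
      ∃ S : Finset G, (∀ s ∈ S, s ∈ 𝒯 ∧ s ∉ Q) ∧ S.card = k ∧
        Q ⊔ Subgroup.closure (S : Set G) = R := by
  classical
  have hpp : p.Prime := Fact.out
  intro k
  induction k with
  | zero =>
    intro Q hQ hsup hidx
    refine ⟨∅, by simp, rfl, ?_⟩
    rw [Finset.coe_empty, Subgroup.closure_empty, sup_bot_eq]
    have hQR : Q ≤ R := hsup ▸ le_sup_left
    have h1 := Subgroup.relIndex_mul_index hQR
    rw [hidx, pow_zero, mul_one] at h1
    have hR0 : R.index ≠ 0 := Subgroup.index_ne_zero_of_finite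
    have h2 : Q.relIndex R = 1 := by
      have : Q.relIndex R * R.index = 1 * R.index := by rw [h1, one_mul]
      exact Nat.eq_of_mul_eq_mul_right (Nat.pos_of_ne_zero hR0) this
    exact le_antisymm hQR (Subgroup.relIndex_eq_one.1 h2)
  | succ k ih =>
    intro Q hQ hsup hidx
    have hQR : Q ≤ R := hsup ▸ le_sup_left
    have hR0 : R.index ≠ 0 := Subgroup.index_ne_zero_of_finite
    have hne : ∃ t ∈ 𝒯, t ∉ Q := by
      by_contra hcon
      push Not at hcon
      have h1 : Subgroup.closure 𝒯 ≤ Q := (Subgroup.closure_le Q).2 hcon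
      have h2 : Q = R := by rw [← hsup]; exact (sup_eq_left.2 h1).symm
      rw [h2] at hidx
      have h3 : R.index * 1 = R.index * p ^ (k + 1) := by rw [mul_one]; exact hidx
      have h4 := Nat.eq_of_mul_eq_mul_left (Nat.pos_of_ne_zero hR0) h3
      have h5 : 1 < p ^ (k + 1) := Nat.one_lt_pow (Nat.succ_ne_zero k) hpp.one_lt
      omega
    obtain ⟨t, ht𝒯, htQ⟩ := hne
    have hstep := index_sup_zpowers_mul Q (hcomm.trans hQ) (fun g => hQ (hpow g)) t htQ
    have hQ1 : Φ ≤ Q ⊔ Subgroup.zpowers t := hQ.trans le_sup_left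
    have htR : t ∈ R := by
      rw [← hsup]
      exact (le_sup_right : Subgroup.closure 𝒯 ≤ Q ⊔ Subgroup.closure 𝒯)
        (Subgroup.subset_closure ht𝒯)
    have hsup1 : (Q ⊔ Subgroup.zpowers t) ⊔ Subgroup.closure 𝒯 = R := by
      rw [sup_assoc, sup_comm (Subgroup.zpowers t), ← sup_assoc, hsup]
      exact sup_eq_left.2 ((Subgroup.zpowers_le).2 htR)
    have hidx1 : (Q ⊔ Subgroup.zpowers t).index = R.index * p ^ k := by
      have : (Q ⊔ Subgroup.zpowers t).index * p = (R.index * p ^ k) * p := by
        rw [hstep, hidx, pow_succ, mul_assoc]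
      exact Nat.eq_of_mul_eq_mul_right hpp.pos this
    obtain ⟨S₁, hS1, hS2, hS3⟩ := ih (Q ⊔ Subgroup.zpowers t) hQ1 hsup1 hidx1
    have htS : t ∉ S₁ := fun h =>
      (hS1 t h).2 ((le_sup_right : Subgroup.zpowers t ≤ Q ⊔ Subgroup.zpowers t)
        (Subgroup.mem_zpowers t))
    refine ⟨insert t S₁, ?_, ?_, ?_⟩
    · intro s hs
      rcases Finset.mem_insert.1 hs with rfl | hs
      · exact ⟨ht𝒯, htQ⟩
      · exact ⟨(hS1 s hs).1, fun h => (hS1 s hs).2 (le_sup_left (a := Q) h)⟩
    · rw [Finset.card_insert_of_notMem htS, hS2]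
    · rw [Finset.coe_insert, closure_insert_eq, ← sup_assoc]
      exact hS3

end Chain

end Cfsg.Agent.Lib.Helper6.VL4
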