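import Mathlib
import Cfsg.Prelude.Def_Characters
import Cfsg.Agent.Lib.Helper2.Commutant2

set_option autoImplicit false

/-!
# S2524 PK-G2: the amalgam inequality

If `G = ⟨φ₁(A₁), φ₂(A₂)⟩` and `A₁₂` maps compatibly to `A₁` and `A₂`, then for characters `χ, χ'` of `G`
`⟨χ,χ'⟩_{A₁} + ⟨χ,χ'⟩_{A₂} ≤ ⟨χ,χ'⟩_G + ⟨χ,χ'⟩_{A₁₂}`:
`Hom_G = Hom_{A₁} ∩ Hom_{A₂}` and `Hom_{A₁} + Hom_{A₂} ⊆ Hom_{A₁₂}`.
-/

namespace Cfsg.Agent.Lib.Helper2.WG

open Cfsg

universe u

namespace PkG2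

variable {G : Type*} [Group G] {V W : Type*} [AddCommGroup V] [Module ℂ V] [FiniteDimensional ℂ V]
  [AddCommGroup W] [Module ℂ W] [FiniteDimensional ℂ W]

/-- pull-back of a representation along a homomorphism -/
noncomputable def pull (ρ : Representation ℂ G V) {A : Type*} [Group A] (f : A →* G) :
    Representation ℂ A V := ρ.comp f

theorem pull_apply (ρ : Representation ℂ G V) {A : Type*} [Group A] (f : A →* G) (a : A) :
    pull ρ f a = ρ (f a) := rfl

theorem pull_character (ρ : Representation ℂ G V) {A : Type*} [Group A] (f : A →* G) :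
    (pull ρ f).character = fun a => ρ.character (f a) := rfl

/-- the intertwiners `V → W` for the pull-backs of `ρ`, `σ` along `f` -/
noncomputable def homSp (ρ : Representation ℂ G V) (σ : Representation ℂ G W) {A : Type*} [Group A]
    (f : A →* G) : Submodule ℂ (V →ₗ[ℂ] W) :=
  ((pull ρ f).linHom (pull σ f)).invariants

theorem mem_homSp (ρ : Representation ℂ G V) (σ : Representation ℂ G W) {A : Type*} [Group A]
    (f : A →* G) (T : V →ₗ[ℂ] W) :
    T ∈ homSp ρ σ f ↔ ∀ a : A, σ (f a) ∘ₗ T = T ∘ₗ ρ (f a) := by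
  unfold homSp
  rw [Representation.mem_invariants]
  constructor
  · intro h a
    have h1 := h a
    rw [Representation.linHom_apply] at h1
    have h2 : (pull σ f) a ∘ₗ T ∘ₗ (pull ρ f) a⁻¹ ∘ₗ (pull ρ f) a = T ∘ₗ (pull ρ f) a := by
      rw [← LinearMap.comp_assoc, ← LinearMap.comp_assoc, LinearMap.comp_assoc _ T, h1]
    have h3 : (pull ρ f) a⁻¹ ∘ₗ (pull ρ f) a = LinearMap.id := by
      rw [← Module.End.mul_eq_comp, ← map_mul, inv_mul_cancel, map_one]
      rfl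
    rw [h3, LinearMap.comp_id] at h2
    exact h2
  · intro h a
    rw [Representation.linHom_apply]
    have h1 : (pull σ f) a ∘ₗ T = T ∘ₗ (pull ρ f) a := h a
    rw [← LinearMap.comp_assoc, h1, LinearMap.comp_assoc]
    have h3 : (pull ρ f) a ∘ₗ (pull ρ f) a⁻¹ = LinearMap.id := by
      rw [← Module.End.mul_eq_comp, ← map_mul, mul_inv_cancel, map_one]
      rfl
    rw [h3, LinearMap.comp_id]

theorem finrank_homSp (ρ : Representation ℂ G V) (σ : Representation ℂ G W) {A : Type*} [Group A]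
    [Fintype A] (f : A →* G) :
    (Module.finrank ℂ (homSp ρ σ f) : ℂ) =
      classInner (fun a => σ.character (f a)) (fun a => ρ.character (f a)) := by
  unfold homSp
  rw [Cfsg.Agent.Lib.Helper2.Commutant.finrank_invariants_linHom, pull_character, pull_character]

end PkG2

open PkG2

theorem amalgam_ineq {G : Type u} {A₁ A₂ A₁₂ : Type*} [Group G] [Fintype G] [Group A₁] [Fintype A₁]
    [Group A₂] [Fintype A₂] [Group A₁₂] [Fintype A₁₂]
    (φ₁ : A₁ →* G) (φ₂ : A₂ →* G) (j₁ : A₁₂ →* A₁) (j₂ : A₁₂ →* A₂)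
    (hcomp : ∀ x, φ₁ (j₁ x) = φ₂ (j₂ x))
    (hgen : Subgroup.closure (Set.range φ₁ ∪ Set.range φ₂) = ⊤)
    {χ χ' : G → ℂ} (hχ : IsCharacter G χ) (hχ' : IsCharacter G χ') :
    (classInner (fun a => χ (φ₁ a)) (fun a => χ' (φ₁ a))).re +
      (classInner (fun a => χ (φ₂ a)) (fun a => χ' (φ₂ a))).re ≤
    (classInner χ χ').re +
      (classInner (fun a => χ (φ₁ (j₁ a))) (fun a => χ' (φ₁ (j₁ a)))).re := by
  obtain ⟨n, σ, rfl⟩ := hχ
  obtain ⟨n', ρ, rfl⟩ := hχ'
  -- the four Hom spaces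
  set W₁ := homSp ρ σ φ₁ with hW₁
  set W₂ := homSp ρ σ φ₂ with hW₂
  set W₁₂ := homSp ρ σ (φ₁.comp j₁) with hW₁₂
  set WG := homSp ρ σ (MonoidHom.id G) with hWG
  have e₁ := finrank_homSp ρ σ φ₁
  have e₂ := finrank_homSp ρ σ φ₂
  have e₁₂ := finrank_homSp ρ σ (φ₁.comp j₁)
  have eG := finrank_homSp ρ σ (MonoidHom.id G)
  simp only [MonoidHom.id_apply, MonoidHom.comp_apply] at e₁₂ eG
  rw [← e₁, ← e₂, ← e₁₂, ← eG]
  simp only [Complex.natCast_re]
  -- W₁ ⊓ W₂ ≤ WG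
  have hinf : W₁ ⊓ W₂ ≤ WG := by
    intro T hT
    obtain ⟨h1, h2⟩ := Submodule.mem_inf.1 hT
    rw [hW₁, mem_homSp] at h1
    rw [hW₂, mem_homSp] at h2
    rw [hWG, mem_homSp]
    -- the set of g commuting with T is a subgroup
    let St : Subgroup G :=
      { carrier := {g | σ g ∘ₗ T = T ∘ₗ ρ g}
        mul_mem' := by
          intro a b ha hb
          simp only [Set.mem_ofPred_eq] at ha hb ⊢
          rw [map_mul, map_mul, Module.End.mul_eq_comp, Module.End.mul_eq_comp,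
            LinearMap.comp_assoc, hb, ← LinearMap.comp_assoc, ha, LinearMap.comp_assoc]
        one_mem' := by
          simp only [Set.mem_ofPred_eq, map_one]
          rfl
        inv_mem' := by
          intro a ha
          simp only [Set.mem_ofPred_eq] at ha ⊢
          have h3 : σ a⁻¹ ∘ₗ σ a = LinearMap.id := by
            rw [← Module.End.mul_eq_comp, ← map_mul, inv_mul_cancel, map_one]; rfl
          have h4 : ρ a ∘ₗ ρ a⁻¹ = LinearMap.id := by
            rw [← Module.End.mul_eq_comp, ← map_mul, mul_inv_cancel, map_one]; rfl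
          calc σ a⁻¹ ∘ₗ T = σ a⁻¹ ∘ₗ T ∘ₗ (ρ a ∘ₗ ρ a⁻¹) := by rw [h4, LinearMap.comp_id]
            _ = σ a⁻¹ ∘ₗ (T ∘ₗ ρ a) ∘ₗ ρ a⁻¹ := by simp only [LinearMap.comp_assoc]
            _ = σ a⁻¹ ∘ₗ (σ a ∘ₗ T) ∘ₗ ρ a⁻¹ := by rw [ha]
            _ = (σ a⁻¹ ∘ₗ σ a) ∘ₗ T ∘ₗ ρ a⁻¹ := by simp only [LinearMap.comp_assoc]
            _ = T ∘ₗ ρ a⁻¹ := by rw [h3, LinearMap.id_comp] }
    have hle : Subgroup.closure (Set.range φ₁ ∪ Set.range φ₂) ≤ St := by
      rw [Subgroup.closure_le]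
      rintro g (⟨a, rfl⟩ | ⟨a, rfl⟩)
      · exact h1 a
      · exact h2 a
    intro g
    have : g ∈ St := hle (by rw [hgen]; trivial)
    exact this
  -- W₁ ⊔ W₂ ≤ W₁₂
  have hsup : W₁ ⊔ W₂ ≤ W₁₂ := by
    apply sup_le
    · intro T hT
      rw [hW₁, mem_homSp] at hT
      rw [hW₁₂, mem_homSp]
      intro a
      exact hT (j₁ a)
    · intro T hT
      rw [hW₂, mem_homSp] at hT
      rw [hW₁₂, mem_homSp]
      intro a
      simp only [MonoidHom.comp_apply]
      rw [hcomp a]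
      exact hT (j₂ a)
  have h1 := Submodule.finrank_sup_add_finrank_inf_eq W₁ W₂
  have h2 := Submodule.finrank_mono hinf
  have h3 := Submodule.finrank_mono hsup
  have : Module.finrank ℂ W₁ + Module.finrank ℂ W₂ ≤ Module.finrank ℂ WG + Module.finrank ℂ W₁₂ := by
    omega
  exact_mod_cast this

end Cfsg.Agent.Lib.Helper2.WG
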