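import Mathlib
import Cfsg.Agent.Lib.Helper3.FEO0
import Cfsg.Agent.Lib.Helper5.OCf_R2O
import Cfsg.Agent.Lib.Helper2.OrthNdD
import Cfsg.Agent.Lib.Helper2.OrthNdJ

set_option autoImplicit false
set_option linter.unusedSectionVars false
set_option linter.unusedVariables false

/-!
# S5977/S5978 package FO-A: an `x`-adapted structure `S ∈ 𝒥_ε(Q)` for isometries with `x² = ±1`
-/

namespace Cfsg.Agent.Lib.Helper3.FEO

open Module QuadraticMap
open Cfsg.Agent.Lib.Helper2.MaxTS2 Cfsg.Agent.Lib.Helper2.OrthEl Cfsg.Agent.Lib.Helper2.OrthNd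
open Cfsg.Agent.H9SemiInv

section foA_planeJ
variable {F : Type*} [Field F] {V : Type*} [AddCommGroup V] [Module F V]

/-- the map `[[s, t], [(a/c) t, -s]]` on the plane `⟨u, u'⟩`, extended by zero on its orthogonal
complement -/
noncomputable def foA_planeJ (Q : QuadraticForm F V) (u u' : V) (s t : F) : V →ₗ[F] V :=
  ((2 * Q u)⁻¹ • (polarBilin Q u)).smulRight (s • u + (Q u / Q u' * t) • u') +
  ((2 * Q u')⁻¹ • (polarBilin Q u')).smulRight (t • u - s • u')

variable {Q : QuadraticForm F V}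

theorem foA_planeJ_apply (u u' : V) (s t : F) (v : V) :
    foA_planeJ Q u u' s t v = ((2 * Q u)⁻¹ * polar (⇑Q) u v) • (s • u + (Q u / Q u' * t) • u') +
      ((2 * Q u')⁻¹ * polar (⇑Q) u' v) • (t • u - s • u') := rfl

theorem foA_planeJ_left (h2 : (2 : F) ≠ 0) (u u' : V) (s t : F) (hu : Q u ≠ 0)
    (horth : polar (⇑Q) u u' = 0) :
    foA_planeJ Q u u' s t u = s • u + (Q u / Q u' * t) • u' := by
  have hps : polar (⇑Q) u u = 2 * Q u := by rw [polar_self, two_smul, two_mul]
  rw [foA_planeJ_apply, hps, polar_comm, horth, mul_zero, zero_smul, add_zero]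
  have : (2 * Q u)⁻¹ * (2 * Q u) = 1 := inv_mul_cancel₀ (mul_ne_zero h2 hu)
  rw [this, one_smul]

theorem foA_planeJ_right (h2 : (2 : F) ≠ 0) (u u' : V) (s t : F) (hu' : Q u' ≠ 0)
    (horth : polar (⇑Q) u u' = 0) :
    foA_planeJ Q u u' s t u' = t • u - s • u' := by
  have hps : polar (⇑Q) u' u' = 2 * Q u' := by rw [polar_self, two_smul, two_mul]
  rw [foA_planeJ_apply, hps, horth, mul_zero, zero_smul, zero_add]
  have : (2 * Q u')⁻¹ * (2 * Q u') = 1 := inv_mul_cancel₀ (mul_ne_zero h2 hu')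
  rw [this, one_smul]

/-- `S` is a `𝒥_ε`-structure supported on `W` -/
structure FoAJOn (Q : QuadraticForm F V) (ε : F) (W : Submodule F V) (S : V →ₗ[F] V) : Prop where
  range : ∀ v, S v ∈ W
  ker : ∀ v, (∀ w ∈ W, polar (⇑Q) w v = 0) → S v = 0
  sq : ∀ v ∈ W, S (S v) = ε • v
  adj : ∀ u v, polar (⇑Q) (S u) v = polar (⇑Q) u (S v)

theorem foA_jOn_bot (ε : F) : FoAJOn Q ε ⊥ (0 : V →ₗ[F] V) where
  range := fun v => by simp
  ker := fun v _ => rfl
  sq := fun v hv => by
    rw [Submodule.mem_bot] at hv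
    rw [hv]
    simp
  adj := fun u v => by simp [polar]

theorem FoAJOn.sup {ε : F} {W₁ W₂ : Submodule F V} {S₁ S₂ : V →ₗ[F] V} (h₁ : FoAJOn Q ε W₁ S₁)
    (h₂ : FoAJOn Q ε W₂ S₂) (horth : ∀ a ∈ W₁, ∀ b ∈ W₂, polar (⇑Q) a b = 0) :
    FoAJOn Q ε (W₁ ⊔ W₂) (S₁ + S₂) where
  range := fun v => by
    rw [LinearMap.add_apply]
    exact Submodule.add_mem_sup (h₁.range v) (h₂.range v)
  ker := fun v hv => by
    rw [LinearMap.add_apply, h₁.ker v (fun w hw => hv w (Submodule.mem_sup_left hw)),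
      h₂.ker v (fun w hw => hv w (Submodule.mem_sup_right hw)), add_zero]
  sq := fun v hv => by
    obtain ⟨a, ha, b, hb, rfl⟩ := Submodule.mem_sup.1 hv
    have e1 : S₁ b = 0 := h₁.ker b (fun w hw => horth w hw b hb)
    have e2 : S₂ a = 0 := h₂.ker a (fun w hw => by rw [polar_comm]; exact horth a ha w hw)
    have e3 : S₂ (S₁ a) = 0 :=
      h₂.ker _ (fun w hw => by rw [polar_comm]; exact horth _ (h₁.range a) w hw)
    have e4 : S₁ (S₂ b) = 0 := h₁.ker _ (fun w hw => horth w hw _ (h₂.range b))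
    simp only [LinearMap.add_apply, map_add, e1, e2, e3, e4, add_zero, zero_add, h₁.sq a ha,
      h₂.sq b hb, smul_add]
  adj := fun u v => by
    rw [LinearMap.add_apply, LinearMap.add_apply, polar_add_left, polar_add_right, h₁.adj, h₂.adj]

theorem FoAJOn.isJ {ε : F} {S : V →ₗ[F] V} (h : FoAJOn Q ε ⊤ S) : IsJ Q ε S where
  sq := fun v => h.sq v Submodule.mem_top
  adj := h.adj

theorem foA_planeJ_jOn (h2 : (2 : F) ≠ 0) {ε : F} (u u' : V) (s t : F) (hu : Q u ≠ 0) (hu' : Q u' ≠ 0)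
    (horth : polar (⇑Q) u u' = 0) (hst : s * s + Q u / Q u' * (t * t) = ε) :
    FoAJOn Q ε (Submodule.span F {u, u'}) (foA_planeJ Q u u' s t) where
  range := fun v => by
    rw [foA_planeJ_apply]
    have hu1 : u ∈ Submodule.span F ({u, u'} : Set V) := Submodule.subset_span (by simp)
    have hu2 : u' ∈ Submodule.span F ({u, u'} : Set V) := Submodule.subset_span (by simp)
    exact Submodule.add_mem _
      (Submodule.smul_mem _ _ (Submodule.add_mem _ (Submodule.smul_mem _ _ hu1)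
        (Submodule.smul_mem _ _ hu2)))
      (Submodule.smul_mem _ _ (Submodule.sub_mem _ (Submodule.smul_mem _ _ hu1)
        (Submodule.smul_mem _ _ hu2)))
  ker := fun v hv => by
    have hu1 : u ∈ Submodule.span F ({u, u'} : Set V) := Submodule.subset_span (by simp)
    have hu2 : u' ∈ Submodule.span F ({u, u'} : Set V) := Submodule.subset_span (by simp)
    rw [foA_planeJ_apply, hv u hu1, hv u' hu2]
    simp only [mul_zero, zero_smul, add_zero]
  sq := fun v hv => by
    obtain ⟨α, γ, rfl⟩ := Submodule.mem_span_pair.1 hv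
    simp only [map_add, map_smul, map_sub, foA_planeJ_left h2 u u' s t hu horth,
      foA_planeJ_right h2 u u' s t hu' horth]
    rw [← hst]
    module
  adj := fun v w => by
    rw [foA_planeJ_apply, foA_planeJ_apply]
    simp only [polar_add_left, polar_add_right, polar_smul_left, polar_smul_right, polar_sub_left,
      polar_sub_right, smul_eq_mul]
    rw [polar_comm (⇑Q) v u, polar_comm (⇑Q) v u']
    field_simp
    ring

end foA_planeJ

section fin
variable {F : Type*} [Field F] [Fintype F] {V : Type*} [AddCommGroup V] [Module F V]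
  [FiniteDimensional F V] {Q : QuadraticForm F V}

/-- binary forms over finite fields of odd order are universal -/
theorem foA_exists_sq_add_mul_sq (hodd : Odd (Fintype.card F)) (κ ε : F) (hκ : κ ≠ 0) :
    ∃ s t : F, s * s + κ * (t * t) = ε := by
  classical
  have hf : (Polynomial.X ^ 2 - Polynomial.C ε : Polynomial F).degree = 2 :=
    Polynomial.degree_X_pow_sub_C (by norm_num) ε
  have hg : (Polynomial.C κ * Polynomial.X ^ 2 : Polynomial F).degree = 2 :=
    Polynomial.degree_C_mul_X_pow 2 hκ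
  obtain ⟨a, b, hab⟩ := FiniteField.exists_root_sum_quadratic hf hg (Nat.odd_iff.1 hodd)
  refine ⟨a, b, ?_⟩
  simp only [Polynomial.eval_sub, Polynomial.eval_pow, Polynomial.eval_X, Polynomial.eval_C,
    Polynomial.eval_mul] at hab
  linear_combination hab

omit [AddCommGroup V] [Module F V] [FiniteDimensional F V] in
theorem foA_two_ne_zero (hodd : Odd (Fintype.card F)) : (2 : F) ≠ 0 := by
  intro h0
  have hch : ringChar F = 2 := by
    have : ringChar F ∣ 2 := by
      apply ringChar.dvd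
      exact_mod_cast h0
    rcases (Nat.dvd_prime Nat.prime_two).mp this with h1 | h1
    · exfalso
      have := ringChar.charP F
      rw [h1] at this
      exact CharP.char_ne_one F 1 rfl
    · exact h1
  have := FiniteField.even_card_of_char_two hch
  rw [Nat.odd_iff] at hodd
  omega

/-- a `𝒥_ε`-structure on a nondegenerate plane -/
theorem foA_exists_jOn_plane (hodd : Odd (Fintype.card F)) (ε : F) {P : Submodule F V}
    (hP : NDeg Q P) (hP2 : finrank F P = 2) : ∃ S, FoAJOn Q ε P S := by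
  classical
  have h2 := foA_two_ne_zero hodd
  have hfr : ∃ v : Fin 2 → V, IsFrame Q v ∧ Submodule.span F (Set.range v) = P := by
    have := exists_frame h2 hP
    rw [hP2] at this
    exact this
  obtain ⟨v, hv, hsp⟩ := hfr
  have hrange : Set.range v = {v 0, v 1} := by
    ext z
    constructor
    · rintro ⟨i, rfl⟩
      fin_cases i
      · left; rfl
      · right; rfl
    · rintro (rfl | rfl)
      · exact ⟨0, rfl⟩
      · exact ⟨1, rfl⟩
  have h0 : Q (v 0) ≠ 0 := hv.2 0
  have h1 : Q (v 1) ≠ 0 := hv.2 1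
  have horth : polar (⇑Q) (v 0) (v 1) = 0 := hv.1 0 1 (by decide)
  obtain ⟨s, t, hst⟩ := foA_exists_sq_add_mul_sq hodd (Q (v 0) / Q (v 1)) ε (div_ne_zero h0 h1)
  refine ⟨foA_planeJ Q (v 0) (v 1) s t, ?_⟩
  rw [← hsp, hrange]
  exact foA_planeJ_jOn h2 _ _ s t h0 h1 horth hst

/-- the induction principle: peeling off planes -/
theorem foA_exists_jOn_of_step (hQ : (polarBilin Q).Nondegenerate) (ε : F)
    (Adm : Submodule F V → Prop) (C : (V →ₗ[F] V) → Prop) (hC0 : C 0)
    (hCadd : ∀ S₁ S₂, C S₁ → C S₂ → C (S₁ + S₂))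
    (hstep : ∀ W, NDeg Q W → Adm W → W ≠ ⊥ → ∃ P S, P ≤ W ∧ NDeg Q P ∧ P ≠ ⊥ ∧ FoAJOn Q ε P S ∧ C S ∧
      Adm (W ⊓ perp Q P)) :
    ∀ n : ℕ, ∀ W : Submodule F V, finrank F W = n → NDeg Q W → Adm W → ∃ S, FoAJOn Q ε W S ∧ C S := by
  intro n
  induction n using Nat.strong_induction_on with
  | _ n ih =>
    intro W hWn hW hWP
    by_cases hW0 : W = ⊥
    · refine ⟨0, ?_, hC0⟩
      rw [hW0]
      exact foA_jOn_bot ε
    · obtain ⟨P, SP, hPW, hPn, hP0, hSP, hCP, hP'⟩ := hstep W hW hWP hW0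
      have hfr := finrank_inf_perp hQ hW hPW
      have hPpos : 0 < finrank F P := by
        rcases Nat.eq_zero_or_pos (finrank F P) with h | h
        · exact absurd (Submodule.finrank_eq_zero.1 h) hP0
        · exact h
      obtain ⟨S', hS', hCS'⟩ := ih (finrank F ↥(W ⊓ perp Q P)) (by omega) (W ⊓ perp Q P) rfl
        (ndeg_inf_perp hW hPW hPn) hP'
      refine ⟨SP + S', ?_, hCadd _ _ hCP hCS'⟩
      have hsup : P ⊔ (W ⊓ perp Q P) = W := by
        have h3 : (P ⊔ perp Q P) ⊓ W = P ⊔ perp Q P ⊓ W := sup_inf_assoc_of_le (perp Q P) hPW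
        rw [inf_comm W, ← h3, hPn.isCompl.sup_eq_top, top_inf_eq]
      have := hSP.sup hS' (fun a ha b hb => hb.2 a ha)
      rw [hsup] at this
      exact this

/-- `𝒥_ε`-structures on nondegenerate subspaces of even dimension -/
theorem foA_exists_jOn_even (hodd : Odd (Fintype.card F)) (hQ : (polarBilin Q).Nondegenerate) (ε : F)
    {W : Submodule F V} (hW : NDeg Q W) (hev : Even (finrank F W)) : ∃ S, FoAJOn Q ε W S := by
  classical
  have h2 := foA_two_ne_zero hodd
  obtain ⟨S, hS, -⟩ := foA_exists_jOn_of_step hQ ε (fun W => Even (finrank F W)) (fun _ => True)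
    trivial (fun _ _ _ _ => trivial)
    (by
      intro W hW hWe hW0
      have hpos : 2 ≤ finrank F W := by
        have h0 : finrank F W ≠ 0 := fun h => hW0 (Submodule.finrank_eq_zero.1 h)
        obtain ⟨k, hk⟩ := hWe
        omega
      obtain ⟨P, hPW, hPn, hP2⟩ := exists_ndeg_of_le h2 hW 2 hpos
      obtain ⟨S, hS⟩ := foA_exists_jOn_plane hodd ε hPn hP2
      refine ⟨P, S, hPW, hPn, ?_, hS, trivial, ?_⟩
      · intro h
        rw [h, finrank_bot] at hP2
        omega
      · have hfr := finrank_inf_perp hQ hW hPW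
        show Even (finrank F ↥(W ⊓ perp Q P))
        obtain ⟨k, hk⟩ := hWe
        exact ⟨k - 1, by omega⟩)
    (finrank F W) W rfl hW hev
  exact ⟨S, hS⟩

variable {x : V →ₗ[F] V}

omit [Fintype F] [FiniteDimensional F V] in
/-- on the planes `⟨u, x u⟩` the structure anticommutes with `x` -/
theorem foA_planeJ_anti (hiso : ∀ v, Q (x v) = Q v) (hxx : ∀ v, x (x v) = -v) (u : V) (hu : Q u ≠ 0)
    (s t : F) (v : V) :
    x (foA_planeJ Q u (x u) s t v) = -foA_planeJ Q u (x u) s t (x v) := by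
  have e1 : polar (⇑Q) u (x v) = -polar (⇑Q) (x u) v := by
    have := iso_polar hiso u (x v)
    rw [hxx, polar_neg_right] at this
    rw [← this]
  have e2 : polar (⇑Q) (x u) (x v) = polar (⇑Q) u v := iso_polar hiso u v
  rw [foA_planeJ_apply, foA_planeJ_apply, e1, e2, hiso, div_self hu]
  simp only [map_add, map_smul, map_sub, hxx]
  module

/-- the case `x² = -1`: structures anticommuting with `x` on invariant nondegenerate subspaces -/
theorem foA_exists_jOn_anti (hodd : Odd (Fintype.card F)) (hQ : (polarBilin Q).Nondegenerate) (ε : F)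
    (hiso : ∀ v, Q (x v) = Q v) (hxx : ∀ v, x (x v) = -v) {W : Submodule F V} (hW : NDeg Q W)
    (hWi : Inv x W) : ∃ S, FoAJOn Q ε W S ∧ ∀ v, x (S v) = -S (x v) := by
  have h2 := foA_two_ne_zero hodd
  exact foA_exists_jOn_of_step hQ ε (fun W => Inv x W) (fun S => ∀ v, x (S v) = -S (x v))
    (by intro v; simp)
    (by
      intro S₁ S₂ h₁ h₂ v
      rw [LinearMap.add_apply, LinearMap.add_apply, map_add, h₁, h₂, neg_add])
    (by
      intro W hW hWi hW0
      obtain ⟨u, huW, hu, hPn, hP2, hPW, hPi, -, hWi', -⟩ :=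
        Cfsg.Agent.Lib.Helper2.OrthCf.r2o_step h2 hQ hiso hxx hW hWi hW0
      have hu' : Q (x u) ≠ 0 := by rw [hiso]; exact hu
      obtain ⟨s, t, hst⟩ := foA_exists_sq_add_mul_sq hodd (Q u / Q (x u)) ε (div_ne_zero hu hu')
      refine ⟨Submodule.span F {u, x u}, foA_planeJ Q u (x u) s t, hPW, hPn, ?_,
        foA_planeJ_jOn h2 u (x u) s t hu hu' (Cfsg.Agent.Lib.Helper5.OPar.sqm_polar_self h2 hiso hxx u)
          hst, foA_planeJ_anti hiso hxx u hu s t, hWi'⟩
      intro h
      rw [h, finrank_bot] at hP2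
      omega)
    (finrank F W) W rfl hW hWi

omit [Fintype F] [FiniteDimensional F V] in
/-- KEY FACT: a `𝒥_ε`-structure (`ε` a nonsquare) preserving the plane `⟨u, x u⟩` anticommutes with
`x` on it -/
theorem foA_anti_on_plane (h2 : (2 : F) ≠ 0) {ε : F} (hε : ¬ IsSquare ε)
    (hiso : ∀ v, Q (x v) = Q v) (hxx : ∀ v, x (x v) = -v) (u : V) (hu : Q u ≠ 0)
    (T : V →ₗ[F] V) (hT : IsJ Q ε T)
    (hTP : ∀ v ∈ Submodule.span F ({u, x u} : Set V), T v ∈ Submodule.span F ({u, x u} : Set V)) :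
    ∀ v ∈ Submodule.span F ({u, x u} : Set V), x (T v) = -T (x v) := by
  have hu1 : u ∈ Submodule.span F ({u, x u} : Set V) := Submodule.subset_span (by simp)
  have hu2 : x u ∈ Submodule.span F ({u, x u} : Set V) := Submodule.subset_span (by simp)
  obtain ⟨a, b, hab⟩ := Submodule.mem_span_pair.1 (hTP u hu1)
  obtain ⟨c, d, hcd⟩ := Submodule.mem_span_pair.1 (hTP (x u) hu2)
  have hβ : polar (⇑Q) u u = 2 * Q u := by rw [polar_self, two_smul, two_mul]
  have hβ' : polar (⇑Q) (x u) (x u) = 2 * Q u := by rw [iso_polar hiso, hβ]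
  have h0 : polar (⇑Q) u (x u) = 0 := Cfsg.Agent.Lib.Helper5.OPar.sqm_polar_self h2 hiso hxx u
  have h0' : polar (⇑Q) (x u) u = 0 := by rw [polar_comm]; exact h0
  have hβne : 2 * Q u ≠ 0 := mul_ne_zero h2 hu
  have hbc : b = c := by
    have := hT.adj u (x u)
    rw [← hab, ← hcd] at this
    simp only [polar_add_left, polar_add_right, polar_smul_left, polar_smul_right, hβ, hβ', h0,
      h0', smul_eq_mul] at this
    apply mul_right_cancel₀ hβne
    linear_combination this
  have hsq := hT.sq u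
  rw [← hab, map_add, map_smul, map_smul, ← hab, ← hcd] at hsq
  have e1 := congrArg (fun z => polar (⇑Q) z u) hsq
  have e2 := congrArg (fun z => polar (⇑Q) z (x u)) hsq
  simp only [polar_add_left, polar_smul_left, hβ, hβ', h0, h0', smul_eq_mul] at e1 e2
  have e1' : a * a + b * c = ε := by
    apply mul_right_cancel₀ hβne
    linear_combination e1
  have e2' : b * (a + d) = 0 := by
    apply mul_right_cancel₀ hβne
    linear_combination e2
  have had : d = -a := by
    rcases mul_eq_zero.1 e2' with hb | hb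
    · exfalso
      apply hε
      refine ⟨a, ?_⟩
      rw [hb, zero_mul, add_zero] at e1'
      exact e1'.symm
    · linear_combination hb
  subst hbc had
  intro v hv
  obtain ⟨α, γ, rfl⟩ := Submodule.mem_span_pair.1 hv
  simp only [map_add, map_smul, hxx, map_neg]
  rw [← hab, ← hcd]
  simp only [map_add, map_smul, hxx]
  module

omit [Fintype F] [FiniteDimensional F V] in
/-- conjugating a `𝒥_ε`-structure by an isometry -/
theorem foA_isJ_conjL {ε : F} {S : V →ₗ[F] V} (hS : IsJ Q ε S) (ρ : V ≃ₗ[F] V)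
    (hρ : ∀ v, Q (ρ v) = Q v) : IsJ Q ε (conjL ρ S) := by
  have hρp : ∀ a b, polar (⇑Q) (ρ a) (ρ b) = polar (⇑Q) a b := by
    intro a b
    unfold polar
    rw [← map_add, hρ, hρ, hρ]
  constructor
  · intro v
    rw [conjL_apply, conjL_apply, LinearEquiv.symm_apply_apply, hS.sq, map_smul,
      LinearEquiv.apply_symm_apply]
  · intro u v
    rw [conjL_apply, conjL_apply]
    have h1 : polar (⇑Q) (ρ (S (ρ.symm u))) v = polar (⇑Q) (S (ρ.symm u)) (ρ.symm v) := by
      conv_lhs => rw [← ρ.apply_symm_apply v]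
      exact hρp _ _
    have h2 : polar (⇑Q) u (ρ (S (ρ.symm v))) = polar (⇑Q) (ρ.symm u) (S (ρ.symm v)) := by
      conv_lhs => rw [← ρ.apply_symm_apply u]
      exact hρp _ _
    rw [h1, h2, hS.adj]

omit [Fintype F] [FiniteDimensional F V] in
/-- an isometry preserving a nondegenerate `P` and fixing `P^⊥` pointwise: the inverse preserves `P` -/
theorem foA_symm_mem_of_fix {P : Submodule F V} (hP : NDeg Q P) (hc : P ⊔ perp Q P = ⊤)
    (ρ : V ≃ₗ[F] V) (hρP : ∀ v ∈ P, ρ v ∈ P)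
    (hρfix : ∀ v, (∀ w ∈ P, polar (⇑Q) w v = 0) → ρ v = v) : ∀ v ∈ P, ρ.symm v ∈ P := by
  intro v hv
  have hz : ρ.symm v ∈ P ⊔ perp Q P := by rw [hc]; exact Submodule.mem_top
  obtain ⟨p, hp, p', hp', hpp⟩ := Submodule.mem_sup.1 hz
  have h1 : ρ p + p' = v := by
    have := congrArg ρ hpp
    rw [map_add, LinearEquiv.apply_symm_apply, hρfix p' hp'] at this
    exact this
  have h2 : p' ∈ P := by
    have : p' = v - ρ p := by rw [← h1]; abel
    rw [this]
    exact P.sub_mem hv (hρP p hp)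
  have h3 : p' = 0 := Submodule.disjoint_def.1 hP p' h2 hp'
  rw [← hpp, h3, add_zero]
  exact hp

/-- the case `x² = -1` -/
theorem foA_exists_adapted_neg (hodd : Odd (Fintype.card F)) (hQ : (polarBilin Q).Nondegenerate)
    (hdim : 2 ≤ finrank F V) (ε : F) (hε : ¬ IsSquare ε) (hiso : ∀ v, Q (x v) = Q v)
    (hxx : ∀ v, x (x v) = -v) :
    ∃ (S : V →ₗ[F] V) (P : Submodule F V), IsJ Q ε S ∧ finrank F P = 2 ∧ NDeg Q P ∧
      ∀ ρ : V ≃ₗ[F] V, (∀ v, Q (ρ v) = Q v) → (∀ v ∈ P, ρ v ∈ P) →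
        (∀ v, (∀ w ∈ P, polar (⇑Q) w v = 0) → ρ v = v) →
        ∀ v, x (conjL ρ S v) = -conjL ρ S (x v) := by
  have h2 := foA_two_ne_zero hodd
  have htop0 : (⊤ : Submodule F V) ≠ ⊥ := by
    intro h
    have := finrank_top F V
    rw [h, finrank_bot] at this
    omega
  obtain ⟨u, -, hu, hPn, hP2, -, hPi, hWn, hWi, -⟩ :=
    Cfsg.Agent.Lib.Helper2.OrthCf.r2o_step h2 hQ hiso hxx (ndeg_top hQ)
      (fun v _ => Submodule.mem_top) htop0
  have hu' : Q (x u) ≠ 0 := by rw [hiso]; exact hu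
  obtain ⟨s, t, hst⟩ := foA_exists_sq_add_mul_sq hodd (Q u / Q (x u)) ε (div_ne_zero hu hu')
  have hSP := foA_planeJ_jOn h2 u (x u) s t hu hu'
    (Cfsg.Agent.Lib.Helper5.OPar.sqm_polar_self h2 hiso hxx u) hst
  have hSPa := foA_planeJ_anti hiso hxx u hu s t
  obtain ⟨S', hS', hS'a⟩ := foA_exists_jOn_anti hodd hQ ε hiso hxx hWn hWi
  set P := Submodule.span F ({u, x u} : Set V) with hP
  set SP := foA_planeJ Q u (x u) s t with hSPdef
  have hc : P ⊔ perp Q P = ⊤ := hPn.isCompl.sup_eq_top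
  have hW' : (⊤ : Submodule F V) ⊓ perp Q P = perp Q P := top_inf_eq _
  rw [hW'] at hS'
  have hS := hSP.sup hS' (fun a ha b hb => hb a ha)
  rw [hc] at hS
  have hSa : ∀ v, x ((SP + S') v) = -(SP + S') (x v) := by
    intro v
    rw [LinearMap.add_apply, LinearMap.add_apply, map_add, hSPa, hS'a, neg_add]
  refine ⟨SP + S', P, hS.isJ, hP2, hPn, ?_⟩
  intro ρ hρQ hρP hρfix
  have hT : IsJ Q ε (conjL ρ (SP + S')) := foA_isJ_conjL hS.isJ ρ hρQ
  have hsymm := foA_symm_mem_of_fix hPn hc ρ hρP hρfix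
  -- `S` preserves `P` and `perp P`
  have hSP_P : ∀ v ∈ P, (SP + S') v ∈ P := by
    intro v hv
    rw [LinearMap.add_apply, hS'.ker v (fun w hw => by rw [polar_comm]; exact hw v hv), add_zero]
    exact hSP.range v
  have hSP_perp : ∀ v, (∀ w ∈ P, polar (⇑Q) w v = 0) → ∀ w ∈ P, polar (⇑Q) w ((SP + S') v) = 0 := by
    intro v hv
    rw [LinearMap.add_apply, hSP.ker v hv, zero_add]
    exact hS'.range v
  -- on `perp P` the conjugate agrees with `S`
  have hTperp : ∀ v, (∀ w ∈ P, polar (⇑Q) w v = 0) → conjL ρ (SP + S') v = (SP + S') v := by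
    intro v hv
    have h1 : ρ.symm v = v := by
      rw [LinearEquiv.symm_apply_eq, hρfix v hv]
    rw [conjL_apply, h1, hρfix _ (hSP_perp v hv)]
  have hTP : ∀ v ∈ P, conjL ρ (SP + S') v ∈ P := by
    intro v hv
    rw [conjL_apply]
    exact hρP _ (hSP_P _ (hsymm v hv))
  have hplane := foA_anti_on_plane h2 hε hiso hxx u hu _ hT hTP
  have hxperp : ∀ v, (∀ w ∈ P, polar (⇑Q) w v = 0) → ∀ w ∈ P, polar (⇑Q) w (x v) = 0 :=
    fun v hv => Cfsg.Agent.Lib.Helper5.OPar.sqm_inv_perp hiso hxx hPi v hv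
  intro v
  have hv : v ∈ P ⊔ perp Q P := by rw [hc]; exact Submodule.mem_top
  obtain ⟨p, hp, p', hp', rfl⟩ := Submodule.mem_sup.1 hv
  rw [map_add, map_add, map_add, map_add, hplane p hp, hTperp p' hp', hTperp (x p') (hxperp p' hp'),
    hSa, neg_add]

/-- the case `x² = 1` with eigenspaces of even dimension -/
theorem foA_exists_adapted_pos (hodd : Odd (Fintype.card F)) (hQ : (polarBilin Q).Nondegenerate)
    (hdim : 2 ≤ finrank F V) (hev : Even (finrank F V)) (ε : F) (hiso : ∀ v, Q (x v) = Q v)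
    (hxx : ∀ v, x (x v) = v) (hm : Even (finrank F (LinearMap.ker (x + 1)))) :
    ∃ (S : V →ₗ[F] V) (P : Submodule F V), IsJ Q ε S ∧ finrank F P = 2 ∧ NDeg Q P ∧
      ∀ ρ : V ≃ₗ[F] V, (∀ v, Q (ρ v) = Q v) → (∀ v ∈ P, ρ v ∈ P) →
        (∀ v, (∀ w ∈ P, polar (⇑Q) w v = 0) → ρ v = v) →
        ∀ v, x (conjL ρ S v) = conjL ρ S (x v) := by
  classical
  have h2 := foA_two_ne_zero hodd
  set Vp : Submodule F V := LinearMap.ker (x - 1) with hVp
  set Vm : Submodule F V := LinearMap.ker (x + 1) with hVm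
  have memp : ∀ v, v ∈ Vp ↔ x v = v := by
    intro v
    rw [hVp, LinearMap.mem_ker, LinearMap.sub_apply, Module.End.one_apply, sub_eq_zero]
  have memm : ∀ v, v ∈ Vm ↔ x v = -v := by
    intro v
    rw [hVm, LinearMap.mem_ker, LinearMap.add_apply, Module.End.one_apply, add_eq_zero_iff_eq_neg]
  have horth : ∀ a ∈ Vp, ∀ b ∈ Vm, polar (⇑Q) a b = 0 := by
    intro a ha b hb
    have h1 := iso_polar hiso a b
    rw [(memp a).1 ha, (memm b).1 hb, polar_neg_right] at h1
    have h3 : (2 : F) * polar (⇑Q) a b = 0 := by linear_combination -h1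
    rcases mul_eq_zero.1 h3 with h | h
    · exact absurd h h2
    · exact h
  have hsup : Vp ⊔ Vm = ⊤ := by
    rw [eq_top_iff]
    intro v _
    have e : v = (2 : F)⁻¹ • (v + x v) + (2 : F)⁻¹ • (v - x v) := by
      rw [← smul_add]
      have : v + x v + (v - x v) = (2 : F) • v := by rw [two_smul]; abel
      rw [this, smul_smul, inv_mul_cancel₀ h2, one_smul]
    rw [e]
    apply Submodule.add_mem_sup
    · apply Submodule.smul_mem
      rw [memp, map_add, hxx]
      abel
    · apply Submodule.smul_mem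
      rw [memm, map_sub, hxx]
      abel
  have hdisj : Disjoint Vp Vm := by
    rw [Submodule.disjoint_def]
    intro v hp hm
    have h1 := (memp v).1 hp
    rw [(memm v).1 hm] at h1
    have h3 : (2 : F) • v = 0 := by
      rw [two_smul]
      nth_rewrite 1 [← h1]
      abel
    rcases smul_eq_zero.1 h3 with h | h
    · exact absurd h h2
    · exact h
  have hnd : ∀ (A B : Submodule F V), (∀ a ∈ A, ∀ b ∈ B, polar (⇑Q) a b = 0) → A ⊔ B = ⊤ →
      NDeg Q A := by
    intro A B hAB hsup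
    unfold NDeg
    rw [Submodule.disjoint_def]
    intro v hvA hv'
    apply hQ.2 v
    intro w
    have hw : w ∈ A ⊔ B := by rw [hsup]; exact Submodule.mem_top
    obtain ⟨a, ha, b, hb, rfl⟩ := Submodule.mem_sup.1 hw
    show polar (⇑Q) (a + b) v = 0
    have e1 : polar (⇑Q) a v = 0 := hv' a ha
    rw [polar_add_left, e1, polar_comm, hAB v hvA b hb, add_zero]
  have hVpn : NDeg Q Vp := hnd Vp Vm horth hsup
  have hVmn : NDeg Q Vm :=
    hnd Vm Vp (fun a ha b hb => by rw [polar_comm]; exact horth b hb a ha) (by rw [sup_comm]; exact hsup)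
  have hfr : finrank F Vp + finrank F Vm = finrank F V := by
    have := Submodule.finrank_sup_add_finrank_inf_eq Vp Vm
    rw [hsup, hdisj.eq_bot, finrank_bot, finrank_top] at this
    omega
  have hpe : Even (finrank F Vp) := by
    obtain ⟨a, ha⟩ := hev
    obtain ⟨b, hb⟩ := hm
    exact ⟨a - b, by omega⟩
  obtain ⟨Sp, hSp⟩ := foA_exists_jOn_even hodd hQ ε hVpn hpe
  obtain ⟨Sm, hSm⟩ := foA_exists_jOn_even hodd hQ ε hVmn hm
  have hS := hSp.sup hSm horth
  rw [hsup] at hS
  have hSc : ∀ v, x ((Sp + Sm) v) = (Sp + Sm) (x v) := by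
    intro v
    have h1 : x (Sp v) = Sp v := (memp _).1 (hSp.range v)
    have h2' : x (Sm v) = -Sm v := (memm _).1 (hSm.range v)
    have h3 : Sp (x v - v) = 0 := by
      apply hSp.ker
      intro w hw
      apply horth w hw
      rw [memm, map_sub, hxx]
      abel
    have h4 : Sm (x v + v) = 0 := by
      apply hSm.ker
      intro w hw
      rw [polar_comm]
      apply horth _ _ w hw
      rw [memp, map_add, hxx]
      abel
    rw [map_sub, sub_eq_zero] at h3
    rw [map_add, add_eq_zero_iff_eq_neg] at h4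
    rw [LinearMap.add_apply, LinearMap.add_apply, map_add, h1, h2', h3, h4]
  -- the plane
  have hplane : ∃ (P : Submodule F V) (δ : F), NDeg Q P ∧ finrank F P = 2 ∧ δ * δ = 1 ∧
      ∀ v ∈ P, x v = δ • v := by
    by_cases hp2 : 2 ≤ finrank F Vp
    · obtain ⟨P, hPV, hPn, hP2⟩ := exists_ndeg_of_le h2 hVpn 2 hp2
      refine ⟨P, 1, hPn, hP2, one_mul 1, ?_⟩
      intro v hv
      rw [one_smul]
      exact (memp v).1 (hPV hv)
    · have hm2 : 2 ≤ finrank F Vm := by
        obtain ⟨a, ha⟩ := hpe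
        omega
      obtain ⟨P, hPV, hPn, hP2⟩ := exists_ndeg_of_le h2 hVmn 2 hm2
      refine ⟨P, -1, hPn, hP2, by ring, ?_⟩
      intro v hv
      rw [neg_smul, one_smul]
      exact (memm v).1 (hPV hv)
  obtain ⟨P, δ, hPn, hP2, hδ, hPx⟩ := hplane
  refine ⟨Sp + Sm, P, hS.isJ, hP2, hPn, ?_⟩
  intro ρ hρQ hρP hρfix
  have hc : P ⊔ perp Q P = ⊤ := hPn.isCompl.sup_eq_top
  have hxperp : ∀ v, (∀ w ∈ P, polar (⇑Q) w v = 0) → ∀ w ∈ P, polar (⇑Q) w (x v) = 0 := by
    intro v hv w hw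
    have h1 : w = x (δ • w) := by
      rw [map_smul, hPx w hw, smul_smul, hδ, one_smul]
    rw [h1, iso_polar hiso]
    exact hv _ (P.smul_mem δ hw)
  have hcomm : ∀ v, x (ρ v) = ρ (x v) := by
    intro v
    have hv : v ∈ P ⊔ perp Q P := by rw [hc]; exact Submodule.mem_top
    obtain ⟨p, hp, p', hp', rfl⟩ := Submodule.mem_sup.1 hv
    rw [map_add, map_add, map_add, map_add, hPx _ (hρP p hp), hPx p hp, map_smul, hρfix p' hp',
      hρfix _ (hxperp p' hp')]
  have hcomm' : ∀ v, x (ρ.symm v) = ρ.symm (x v) := by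
    intro v
    rw [LinearEquiv.eq_symm_apply, ← hcomm, LinearEquiv.apply_symm_apply]
  intro v
  rw [conjL_apply, conjL_apply, hcomm, hSc, hcomm']

end fin

/-- **FO-A** -/
theorem exists_adapted {F : Type*} [Field F] [Fintype F] (hodd : Odd (Fintype.card F))
    {V : Type*} [AddCommGroup V] [Module F V] [FiniteDimensional F V]
    (Q : QuadraticForm F V) (hQ : (polarBilin Q).Nondegenerate) (hdim : 2 ≤ finrank F V)
    (hev : Even (finrank F V)) (ε : F) (hε : ¬ IsSquare ε)
    (x : V →ₗ[F] V) (hiso : ∀ v, Q (x v) = Q v)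
    (hx : (x * x = 1 ∧ Even (finrank F (LinearMap.ker (x + 1)))) ∨ x * x = -1) :
    ∃ (S : V →ₗ[F] V) (P : Submodule F V), IsJ Q ε S ∧ finrank F P = 2 ∧ NDeg Q P ∧
      ∀ ρ : V ≃ₗ[F] V, (∀ v, Q (ρ v) = Q v) → (∀ v ∈ P, ρ v ∈ P) →
        (∀ v, (∀ w ∈ P, polar (⇑Q) w v = 0) → ρ v = v) →
        (x * conjL ρ S = conjL ρ S * x ∨ x * conjL ρ S = -(conjL ρ S * x)) := by
  rcases hx with ⟨hx1, hm⟩ | hx1
  · have hxx : ∀ v, x (x v) = v := by
      intro v
      have := congrArg (fun f : V →ₗ[F] V => f v) hx1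
      simpa [Module.End.mul_apply] using this
    obtain ⟨S, P, hS, hP2, hPn, h⟩ := foA_exists_adapted_pos hodd hQ hdim hev ε hiso hxx hm
    refine ⟨S, P, hS, hP2, hPn, ?_⟩
    intro ρ h1 h2 h3
    left
    apply LinearMap.ext
    intro v
    rw [Module.End.mul_apply, Module.End.mul_apply]
    exact h ρ h1 h2 h3 v
  · have hxx : ∀ v, x (x v) = -v := by
      intro v
      have := congrArg (fun f : V →ₗ[F] V => f v) hx1
      simpa [Module.End.mul_apply] using this
    obtain ⟨S, P, hS, hP2, hPn, h⟩ := foA_exists_adapted_neg hodd hQ hdim ε hε hiso hxx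
    refine ⟨S, P, hS, hP2, hPn, ?_⟩
    intro ρ h1 h2 h3
    right
    apply LinearMap.ext
    intro v
    rw [LinearMap.neg_apply, Module.End.mul_apply, Module.End.mul_apply]
    exact h ρ h1 h2 h3 v

end Cfsg.Agent.Lib.Helper3.FEO
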