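import Mathlib
import Cfsg.Prelude.Def_G2
import Cfsg.Agent.Lib.Helper6.G2O_Defs
set_option autoImplicit false

/-!
# S4632 swarm, package SL3: the embedding `iota : SL₃(F) →* G₂(F)`,
`[[α, a], [b, β]] ↦ [[α, A a], [A⁻ᵀ b, β]]`
-/

namespace Cfsg.Agent.Lib.Helper6.G2O

open Cfsg Cfsg.Lie Matrix

variable {F : Type*} [Field F]

theorem dot3_mulVec (M N : Matrix (Fin 3) (Fin 3) F) (h : Mᵀ * N = 1) (a d : Fin 3 → F) :
    dot3 (M *ᵥ a) (N *ᵥ d) = dot3 a d := by
  rw [dot3_eq_dotProduct, dot3_eq_dotProduct, dotProduct_comm, Matrix.dotProduct_mulVec,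
    ← Matrix.mulVec_transpose, dotProduct_comm, Matrix.mulVec_mulVec, h, Matrix.one_mulVec]

theorem cross3_mulVec (M : Matrix (Fin 3) (Fin 3) F) (a c : Fin 3 → F) :
    cross3 (M *ᵥ a) (M *ᵥ c) = (adjugate M)ᵀ *ᵥ cross3 a c := by
  ext i
  fin_cases i <;>
    simp [cross3, Matrix.mulVec, dotProduct, Fin.sum_univ_three, Matrix.adjugate_fin_three] <;> ring

/-- the block map `[[α, a], [b, β]] ↦ [[α, M a], [N b, β]]` -/
def blockFun (M N : Matrix (Fin 3) (Fin 3) F) (x : Fin 8 → F) : Fin 8 → F :=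
  mk8 (x 0) (M *ᵥ zA F x) (N *ᵥ zB F x) (x 7)

theorem blockFun_mk8 (M N : Matrix (Fin 3) (Fin 3) F) (α β : F) (a b : Fin 3 → F) :
    blockFun M N (mk8 α a b β) = mk8 α (M *ᵥ a) (N *ᵥ b) β := by
  unfold blockFun
  rw [zA_mk8, zB_mk8]
  rfl

/-- the block map as a linear map -/
def blockL (M N : Matrix (Fin 3) (Fin 3) F) : (Fin 8 → F) →ₗ[F] (Fin 8 → F) where
  toFun := blockFun M N
  map_add' x y := by
    rw [← mk8_eta x, ← mk8_eta y, mk8_add, blockFun_mk8, blockFun_mk8, blockFun_mk8, mk8_add,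
      Matrix.mulVec_add, Matrix.mulVec_add]
  map_smul' r x := by
    rw [← mk8_eta x, mk8_smul, blockFun_mk8, blockFun_mk8, RingHom.id_apply, mk8_smul,
      Matrix.mulVec_smul, Matrix.mulVec_smul]

theorem blockL_mk8 (M N : Matrix (Fin 3) (Fin 3) F) (α β : F) (a b : Fin 3 → F) :
    blockL M N (mk8 α a b β) = mk8 α (M *ᵥ a) (N *ᵥ b) β := blockFun_mk8 M N α β a b

theorem blockL_comp (M N M' N' : Matrix (Fin 3) (Fin 3) F) (x : Fin 8 → F) :
    blockL M N (blockL M' N' x) = blockL (M * M') (N * N') x := by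
  rw [← mk8_eta x, blockL_mk8, blockL_mk8, blockL_mk8, Matrix.mulVec_mulVec, Matrix.mulVec_mulVec]

theorem blockL_one (x : Fin 8 → F) : blockL (1 : Matrix (Fin 3) (Fin 3) F) 1 x = x := by
  rw [← mk8_eta x, blockL_mk8, Matrix.one_mulVec, Matrix.one_mulVec]

theorem blockL_zornMul (M N : Matrix (Fin 3) (Fin 3) F) (h1 : Mᵀ * N = 1) (h2 : (adjugate M)ᵀ = N)
    (h3 : (adjugate N)ᵀ = M) (x y : Fin 8 → F) :
    blockL M N (zornMul x y) = zornMul (blockL M N x) (blockL M N y) := by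
  have h1' : Nᵀ * M = 1 := by
    have := congrArg Matrix.transpose h1
    rwa [Matrix.transpose_mul, Matrix.transpose_transpose, Matrix.transpose_one] at this
  rw [← mk8_eta x, ← mk8_eta y, zornMul_mk8, blockL_mk8, blockL_mk8, blockL_mk8, zornMul_mk8]
  congr 1
  · rw [dot3_mulVec M N h1]
  · rw [cross3_mulVec N, h3, Matrix.mulVec_sub, Matrix.mulVec_add, Matrix.mulVec_smul, Matrix.mulVec_smul]
  · rw [cross3_mulVec M, h2, Matrix.mulVec_add, Matrix.mulVec_add, Matrix.mulVec_smul, Matrix.mulVec_smul]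
  · rw [dot3_mulVec N M h1']

/-- the inverse transpose of an element of `SL₃(F)` -/
def invT (A : SpecialLinearGroup (Fin 3) F) : Matrix (Fin 3) (Fin 3) F :=
  ((A⁻¹ : SpecialLinearGroup (Fin 3) F) : Matrix (Fin 3) (Fin 3) F)ᵀ

theorem invT_mul (A B : SpecialLinearGroup (Fin 3) F) : invT (A * B) = invT A * invT B := by
  unfold invT
  rw [_root_.mul_inv_rev, Matrix.SpecialLinearGroup.coe_mul, Matrix.transpose_mul]

theorem invT_one : invT (1 : SpecialLinearGroup (Fin 3) F) = 1 := by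
  unfold invT
  rw [inv_one, Matrix.SpecialLinearGroup.coe_one, Matrix.transpose_one]

theorem transpose_mul_invT (A : SpecialLinearGroup (Fin 3) F) :
    (A : Matrix (Fin 3) (Fin 3) F)ᵀ * invT A = 1 := by
  unfold invT
  rw [← Matrix.transpose_mul, ← Matrix.SpecialLinearGroup.coe_mul, inv_mul_cancel, Matrix.SpecialLinearGroup.coe_one,
    Matrix.transpose_one]

theorem adjugate_transpose_eq_invT (A : SpecialLinearGroup (Fin 3) F) :
    (adjugate (A : Matrix (Fin 3) (Fin 3) F))ᵀ = invT A := by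
  unfold invT
  rw [Matrix.SpecialLinearGroup.coe_inv]

theorem adjugate_invT_transpose (A : SpecialLinearGroup (Fin 3) F) :
    (adjugate (invT A))ᵀ = (A : Matrix (Fin 3) (Fin 3) F) := by
  unfold invT
  rw [Matrix.adjugate_transpose, Matrix.transpose_transpose, ← Matrix.SpecialLinearGroup.coe_inv, inv_inv]

/-- the linear map of `iota A` -/
def iotaL (A : SpecialLinearGroup (Fin 3) F) : (Fin 8 → F) →ₗ[F] (Fin 8 → F) :=
  blockL (A : Matrix (Fin 3) (Fin 3) F) (invT A)

theorem iotaL_inv_iotaL (A : SpecialLinearGroup (Fin 3) F) (x : Fin 8 → F) : iotaL A⁻¹ (iotaL A x) = x := by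
  unfold iotaL
  rw [blockL_comp, ← Matrix.SpecialLinearGroup.coe_mul, ← invT_mul, inv_mul_cancel, Matrix.SpecialLinearGroup.coe_one, invT_one,
    blockL_one]

theorem iotaL_zornMul (A : SpecialLinearGroup (Fin 3) F) (x y : Fin 8 → F) :
    iotaL A (zornMul x y) = zornMul (iotaL A x) (iotaL A y) :=
  blockL_zornMul _ _ (transpose_mul_invT A) (adjugate_transpose_eq_invT A) (adjugate_invT_transpose A) x y

/-- the embedding of `SL₃(F)` in `G₂(F)` -/
def iota : SpecialLinearGroup (Fin 3) F →* G2 F where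
  toFun A := ofLinear (iotaL A) (iotaL A⁻¹) (iotaL_inv_iotaL A) (iotaL_zornMul A)
  map_one' := by
    apply ext_act
    intro x
    rw [act_ofLinear, act_one]
    unfold iotaL
    rw [Matrix.SpecialLinearGroup.coe_one, invT_one, blockL_one]
  map_mul' A B := by
    apply ext_act
    intro x
    rw [act_mul, act_ofLinear, act_ofLinear, act_ofLinear]
    unfold iotaL
    rw [blockL_comp, Matrix.SpecialLinearGroup.coe_mul, invT_mul]

theorem act_iota (A : SpecialLinearGroup (Fin 3) F) (α β : F) (a b : Fin 3 → F) :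
    act (iota A) (mk8 α a b β) = mk8 α ((A : Matrix (Fin 3) (Fin 3) F) *ᵥ a) (invT A *ᵥ b) β := by
  show act (ofLinear (iotaL A) (iotaL A⁻¹) (iotaL_inv_iotaL A) (iotaL_zornMul A)) _ = _
  rw [act_ofLinear]
  exact blockL_mk8 _ _ α β a b

theorem act_iota_e1 (A : SpecialLinearGroup (Fin 3) F) : act (iota A) (e1 : Fin 8 → F) = e1 := by
  unfold e1
  rw [act_iota, Matrix.mulVec_zero, Matrix.mulVec_zero]

theorem iota_injective : Function.Injective (iota : SpecialLinearGroup (Fin 3) F →* G2 F) := by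
  intro A B h
  apply Subtype.ext
  apply Matrix.toLin'.injective
  apply LinearMap.ext
  intro a
  rw [Matrix.toLin'_apply, Matrix.toLin'_apply]
  have h1 : act (iota A) (mk8 0 a 0 0) = act (iota B) (mk8 0 a 0 0) := by rw [h]
  rw [act_iota, act_iota] at h1
  exact (mk8_inj h1).2.1

end Cfsg.Agent.Lib.Helper6.G2O
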