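import Mathlib
import Cfsg.Prelude

/-!
# Isolated p-minimal subgroups (Meierfrankenfeld–Parker–Rowley): the abstract situation

`AbsIso p N T A Λ D` is the situation obtained from an isolated `p`-minimal subgroup `P` of `G`
after passing to `X = G / O_p(Y)`:
`N` = image of `Y = ⟨O^p(P)^G⟩`, `T` = image of the Sylow subgroup `S`, `A` = image of `O_p(L)`,
`Λ` = image of `L`, `D` = image of `O^p(P)`.
-/

set_option autoImplicit false

namespace Cfsg.Agent.Lib.Helper6.IsoMin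

/-- the abstract isolated situation (see the module doc) -/
structure AbsIso {X : Type*} [Group X] (p : ℕ) (N T A Λ D : Subgroup X) : Prop where
  nN : N.Normal
  hT : IsPGroup p T
  hAT : A ≤ T
  hTΛ : T ≤ Λ
  hΛA : Λ ≤ Subgroup.normalizer (A : Set X)
  hNΛ : N ⊔ Λ = ⊤
  hDN : D ≤ N
  hTD : T ≤ Subgroup.normalizer (D : Set X)
  hDA : D ≤ ⁅D, A⁆ ⊔ A
  hDp : ¬ IsPGroup p D
  hcl : N = Subgroup.normalClosure (D : Set X)
  hss : ∀ U : Subgroup X, U ≤ N → T ≤ Subgroup.normalizer (U : Set X) →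
    U ≤ Subgroup.normalizer (A : Set X) ∨ D ≤ U
  hF5 : ∀ M : Subgroup X, M.Normal → M < N → ⁅M, N⁆ = ⊥
  hOp : ∀ M : Subgroup X, M.Normal → M ≤ N → IsPGroup p M → M = ⊥

end Cfsg.Agent.Lib.Helper6.IsoMin
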