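import Mathlib
import Cfsg.Agent.Lib.Lead.Coprime

set_option autoImplicit false
open scoped IsMulCommutative

namespace Cfsg.Agent.Lib.Helper6

open Cfsg.Agent.Lib.Lead

section orbit
variable {G : Type*} [Group G] [Finite G] (M D : Subgroup G) [hMc : IsMulCommutative M]
  (hDM : D ≤ Subgroup.normalizer (M : Set G))

/-- the `D`-orbit of `w ∈ M` under conjugation -/
def orbSet (w : M) : Set M := {v | ∃ d ∈ D, (v : G) = d * w * d⁻¹}

noncomputable def orbFin (w : M) : Finset M := (Set.toFinite (orbSet M D w)).toFinset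

omit hMc in
theorem mem_orbFin {w v : M} : v ∈ orbFin M D w ↔ ∃ d ∈ D, (v : G) = d * w * d⁻¹ := by
  unfold orbFin
  rw [Set.Finite.mem_toFinset]
  rfl

/-- the product over the orbit -/
noncomputable def orbProd (w : M) : M := ∏ v ∈ orbFin M D w, v

omit [Finite G] hMc in
theorem conjHom_injective (s : G) (hs : s ∈ Subgroup.normalizer (M : Set G)) :
    Function.Injective (conjHom M s hs) := by
  intro a b hab
  have := congrArg Subtype.val hab
  simp only [conjHom_coe] at this
  apply Subtype.ext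
  have h2 : s⁻¹ * (s * a * s⁻¹) * s = s⁻¹ * (s * b * s⁻¹) * s := by rw [this]
  have e1 : s⁻¹ * (s * (a : G) * s⁻¹) * s = a := by group
  have e2 : s⁻¹ * (s * (b : G) * s⁻¹) * s = b := by group
  rwa [e1, e2] at h2

include hDM in
/-- conjugating the orbit product by an element normalising `M` and `D` -/
theorem conjHom_orbProd (s : G) (hs : s ∈ Subgroup.normalizer (M : Set G))
    (hsD : s ∈ Subgroup.normalizer (D : Set G)) (w : M) :
    conjHom M s hs (orbProd M D w) = orbProd M D (conjHom M s hs w) := by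
  classical
  unfold orbProd
  rw [map_prod]
  have himg : (orbFin M D w).image (conjHom M s hs) = orbFin M D (conjHom M s hs w) := by
    ext v
    rw [Finset.mem_image, mem_orbFin]
    constructor
    · rintro ⟨u, hu, rfl⟩
      obtain ⟨d, hd, hud⟩ := (mem_orbFin M D).mp hu
      refine ⟨s * d * s⁻¹, (Subgroup.mem_normalizer_iff.mp hsD d).mp hd, ?_⟩
      simp only [conjHom_coe, hud]
      group
    · rintro ⟨d, hd, hvd⟩
      have hd' : s⁻¹ * d * s ∈ D := by
        have := (Subgroup.mem_normalizer_iff.mp (Subgroup.inv_mem _ hsD) d).mp hd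
        simpa using this
      have hu : (s⁻¹ * d * s) * (w : G) * (s⁻¹ * d * s)⁻¹ ∈ M := by
        have := (Subgroup.mem_normalizer_iff.mp (hDM hd') (w : G)).mp w.2
        exact this
      refine ⟨⟨_, hu⟩, (mem_orbFin M D).mpr ⟨s⁻¹ * d * s, hd', rfl⟩, ?_⟩
      apply Subtype.ext
      simp only [conjHom_coe] at hvd ⊢
      rw [hvd]; group
  rw [← himg, Finset.prod_image]
  intro a _ b _ hab
  exact conjHom_injective M s hs hab

include hDM in
omit hMc in
theorem orbFin_conjHom_of_mem (g : G) (hg : g ∈ D) (w : M) :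
    orbFin M D (conjHom M g (hDM hg) w) = orbFin M D w := by
  ext v
  rw [mem_orbFin, mem_orbFin]
  constructor
  · rintro ⟨d, hd, hvd⟩
    refine ⟨d * g, D.mul_mem hd hg, ?_⟩
    rw [hvd]; simp only [conjHom_coe]; group
  · rintro ⟨d, hd, hvd⟩
    refine ⟨d * g⁻¹, D.mul_mem hd (D.inv_mem hg), ?_⟩
    rw [hvd]; simp only [conjHom_coe]; group

include hDM in
/-- the orbit product is centralised by `D` -/
theorem orbProd_mem_centralizer (w : M) :
    ((orbProd M D w : M) : G) ∈ Subgroup.centralizer (D : Set G) := by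
  rw [Subgroup.mem_centralizer_iff]
  intro g hg
  have h1 := conjHom_orbProd M D hDM g (hDM hg) (Subgroup.le_normalizer hg) w
  unfold orbProd at h1 ⊢
  rw [orbFin_conjHom_of_mem M D hDM g hg w] at h1
  have h2 := congrArg Subtype.val h1
  simp only [conjHom_coe] at h2
  set x : G := ((∏ v ∈ orbFin M D w, v : M) : G) with hx
  calc g * x = (g * x * g⁻¹) * g := by group
    _ = x * g := by rw [h2]

include hDM in
omit hMc in
/-- multiplying by a `D`-fixed element translates the orbit -/
theorem orbFin_mul_fixed (w c : M) (hc : (c : G) ∈ Subgroup.centralizer (D : Set G)) :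
    orbFin M D (w * c) = (orbFin M D w).map ⟨(· * c), mul_left_injective c⟩ := by
  ext v
  rw [Finset.mem_map, mem_orbFin]
  have hconj : ∀ d ∈ D, d * (c : G) * d⁻¹ = c := by
    intro d hd
    rw [Subgroup.mem_centralizer_iff.mp hc d hd]; group
  constructor
  · rintro ⟨d, hd, hvd⟩
    have hu : d * (w : G) * d⁻¹ ∈ M := (Subgroup.mem_normalizer_iff.mp (hDM hd) (w : G)).mp w.2
    refine ⟨⟨_, hu⟩, (mem_orbFin M D).mpr ⟨d, hd, rfl⟩, ?_⟩
    apply Subtype.ext
    show d * (w : G) * d⁻¹ * c = v
    rw [hvd, Subgroup.coe_mul]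
    calc d * (w : G) * d⁻¹ * c = d * w * d⁻¹ * (d * c * d⁻¹) := by rw [hconj d hd]
      _ = d * (w * c) * d⁻¹ := by group
  · rintro ⟨u, hu, rfl⟩
    obtain ⟨d, hd, hud⟩ := (mem_orbFin M D).mp hu
    refine ⟨d, hd, ?_⟩
    show ((u * c : M) : G) = d * ((w * c : M) : G) * d⁻¹
    rw [Subgroup.coe_mul, Subgroup.coe_mul, hud]
    calc d * (w : G) * d⁻¹ * c = d * w * d⁻¹ * (d * c * d⁻¹) := by rw [hconj d hd]
      _ = d * (w * c) * d⁻¹ := by group

include hDM in
theorem card_orbFin_mul_fixed (w c : M) (hc : (c : G) ∈ Subgroup.centralizer (D : Set G)) :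
    (orbFin M D (w * c)).card = (orbFin M D w).card := by
  rw [orbFin_mul_fixed M D hDM w c hc, Finset.card_map]

include hDM in
theorem orbProd_mul_fixed (w c : M) (hc : (c : G) ∈ Subgroup.centralizer (D : Set G)) :
    orbProd M D (w * c) = orbProd M D w * c ^ (orbFin M D w).card := by
  unfold orbProd
  rw [orbFin_mul_fixed M D hDM w c hc, Finset.prod_map]
  simp only [Function.Embedding.coeFn_mk]
  rw [Finset.prod_mul_distrib, Finset.prod_const]

/-- `w ^ m * (orbit product)⁻¹` is a product of commutators -/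
theorem pow_card_mul_inv_orbProd_mem (w : M) (X : Subgroup G)
    (hX : ∀ d ∈ D, (w : G) * (d * w * d⁻¹)⁻¹ ∈ X) :
    ((w ^ (orbFin M D w).card * (orbProd M D w)⁻¹ : M) : G) ∈ X := by
  have h1 : w ^ (orbFin M D w).card * (orbProd M D w)⁻¹ = ∏ v ∈ orbFin M D w, (w * v⁻¹) := by
    unfold orbProd
    rw [Finset.prod_mul_distrib, Finset.prod_const, Finset.prod_inv_distrib]
  rw [h1]
  have h3 : (∏ v ∈ orbFin M D w, (w * v⁻¹)) ∈ X.subgroupOf M := by
    apply Subgroup.prod_mem
    intro v hv
    obtain ⟨d, hd, hvd⟩ := (mem_orbFin M D).mp hv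
    rw [Subgroup.mem_subgroupOf, Subgroup.coe_mul, Subgroup.coe_inv, hvd]
    exact hX d hd
  exact h3

include hDM in
/-- the orbit has length dividing the index of any subgroup of `D` fixing `w` -/
theorem card_orbFin_dvd (w : M) (R : Subgroup G) (hRD : R ≤ D)
    (hRw : R ≤ Subgroup.centralizer ({(w : G)} : Set G)) :
    (orbFin M D w).card ∣ R.relIndex D := by
  classical
  letI act : MulAction D M :=
    { smul := fun d v => conjHom M d (hDM d.2) v
      one_smul := fun v => Subtype.ext (by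
        show ((1 : D) : G) * v * ((1 : D) : G)⁻¹ = v
        simp)
      mul_smul := fun a b v => Subtype.ext (by
        show ((a * b : D) : G) * v * ((a * b : D) : G)⁻¹ =
          (a : G) * ((b : G) * v * (b : G)⁻¹) * (a : G)⁻¹
        simp [mul_assoc]) }
  have hsmul : ∀ (d : D) (v : M), ((d • v : M) : G) = d * v * (d : G)⁻¹ := fun d v => rfl
  have horb : MulAction.orbit D w = orbSet M D w := by
    ext v
    constructor
    · rintro ⟨d, rfl⟩
      exact ⟨d, d.2, hsmul d w⟩
    · rintro ⟨d, hd, hvd⟩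
      refine ⟨⟨d, hd⟩, ?_⟩
      apply Subtype.ext
      rw [hvd]; exact hsmul ⟨d, hd⟩ w
  have h1 : (orbFin M D w).card = (MulAction.stabilizer D w).index := by
    rw [MulAction.index_stabilizer, horb, Set.ncard_eq_toFinset_card (orbSet M D w)]
    rfl
  rw [h1, Subgroup.relIndex]
  apply Subgroup.index_dvd_of_le
  intro d hd
  rw [MulAction.mem_stabilizer_iff]
  apply Subtype.ext
  rw [hsmul]
  have := Subgroup.mem_centralizer_iff.mp (hRw (Subgroup.mem_subgroupOf.mp hd)) (w : G) rfl
  calc (d : G) * w * (d : G)⁻¹ = (w * d) * (d : G)⁻¹ := by rw [this]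
    _ = w := by group

end orbit

end Cfsg.Agent.Lib.Helper6
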