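import Mathlib
import Cfsg.Prelude.Def_LocalStructure
import Cfsg.Agent.Lib.Helper6.PCore

set_option autoImplicit false

namespace Cfsg.Agent.Lib.Helper6

open Cfsg

variable {L : Type*} [Group L]

theorem pCore_quotient_eq_bot_iff {p : ℕ} (N : Subgroup L) [N.Normal] :
    pCore p (L ⧸ N) = ⊥ ↔
      ∀ D : Subgroup L, D.Normal → (∀ d ∈ D, ∃ k : ℕ, d ^ p ^ k ∈ N) → D ≤ N := by
  have hsurj : Function.Surjective (QuotientGroup.mk' N) := QuotientGroup.mk'_surjective N
  constructor
  · intro h D hD hDp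
    have hn : (D.map (QuotientGroup.mk' N)).Normal := Subgroup.Normal.map hD _ hsurj
    have hpg : IsPGroup p (D.map (QuotientGroup.mk' N)) := by
      rintro ⟨_, ⟨d, hd, rfl⟩⟩
      obtain ⟨k, hk⟩ := hDp d hd
      refine ⟨k, Subtype.ext ?_⟩
      simp only [Subgroup.coe_pow, Subgroup.coe_one]
      rw [← map_pow]
      exact (QuotientGroup.eq_one_iff _).mpr hk
    have hle := le_pCore hn hpg
    rw [h, le_bot_iff] at hle
    intro d hd
    have : (QuotientGroup.mk' N) d ∈ D.map (QuotientGroup.mk' N) := ⟨d, hd, rfl⟩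
    rw [hle, Subgroup.mem_bot] at this
    exact (QuotientGroup.eq_one_iff d).mp this
  · intro h
    set Q := pCore p (L ⧸ N) with hQ
    have hQn : Q.Normal := inferInstance
    have hQp : IsPGroup p Q := pCore_isPGroup p
    have hD := h (Q.comap (QuotientGroup.mk' N)) (Subgroup.Normal.comap hQn _) (by
      intro d hd
      obtain ⟨k, hk⟩ := hQp ⟨_, hd⟩
      refine ⟨k, ?_⟩
      have := congrArg Subtype.val hk
      simp only [Subgroup.coe_pow, Subgroup.coe_one] at this
      rw [← map_pow] at this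
      exact (QuotientGroup.eq_one_iff _).mp this)
    rw [Subgroup.eq_bot_iff_forall]
    intro q hq
    obtain ⟨d, rfl⟩ := hsurj q
    exact (QuotientGroup.eq_one_iff d).mpr (hD hq)

theorem isPReducedNormal_iff {p : ℕ} (V : Subgroup L) :
    IsPReducedNormal p V ↔ V.Normal ∧ IsElementaryAbelian p V ∧
      ∀ D : Subgroup L, D.Normal →
        (∀ d ∈ D, ∃ k : ℕ, d ^ p ^ k ∈ Subgroup.centralizer (V : Set L)) →
          D ≤ Subgroup.centralizer (V : Set L) := by
  constructor
  · rintro ⟨hn, he, hcn, hc⟩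
    exact ⟨hn, he, (pCore_quotient_eq_bot_iff _).mp hc⟩
  · rintro ⟨hn, he, hc⟩
    haveI := hn
    exact ⟨hn, he, inferInstance, (pCore_quotient_eq_bot_iff _).mpr hc⟩

theorem pReduced_pCore_le_centralizer {p : ℕ} {V : Subgroup L}
    (h : IsPReducedNormal p V) : pCore p L ≤ Subgroup.centralizer (V : Set L) := by
  rw [isPReducedNormal_iff] at h
  apply h.2.2 _ inferInstance
  intro d hd
  obtain ⟨k, hk⟩ := (pCore_isPGroup (G := L) p) ⟨d, hd⟩
  refine ⟨k, ?_⟩
  have := congrArg Subtype.val hk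
  simp only [Subgroup.coe_pow, Subgroup.coe_one] at this
  rw [this]
  exact Subgroup.one_mem _

theorem pReduced_le_pCore {p : ℕ} {V : Subgroup L}
    (hchar : Subgroup.centralizer (pCore p L : Set L) ≤ pCore p L)
    (h : IsPReducedNormal p V) : V ≤ pCore p L :=
  (Subgroup.le_centralizer_iff.mp (pReduced_pCore_le_centralizer h)).trans hchar

theorem isPReducedNormal_bot (p : ℕ) : IsPReducedNormal p (⊥ : Subgroup L) := by
  rw [isPReducedNormal_iff]
  refine ⟨inferInstance, ⟨⟨⟨fun a b => Subsingleton.elim _ _⟩⟩, fun a ha => ?_⟩, ?_⟩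
  · rw [Subgroup.mem_bot] at ha; rw [ha, one_pow]
  · intro D _ _ d _
    rw [Subgroup.mem_centralizer_iff]
    intro h hh
    have : h = 1 := hh
    rw [this]; simp

theorem pReduced_sup {p : ℕ} {V W : Subgroup L}
    (hchar : Subgroup.centralizer (pCore p L : Set L) ≤ pCore p L)
    (hV : IsPReducedNormal p V) (hW : IsPReducedNormal p W) : IsPReducedNormal p (V ⊔ W) := by
  have hVQ := pReduced_le_pCore hchar hV
  have hWQ := pReduced_le_pCore hchar hW
  have hQV := pReduced_pCore_le_centralizer hV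
  have hQW := pReduced_pCore_le_centralizer hW
  rw [isPReducedNormal_iff] at hV hW ⊢
  obtain ⟨hVn, ⟨hVc, hVp⟩, hVr⟩ := hV
  obtain ⟨hWn, ⟨hWc, hWp⟩, hWr⟩ := hW
  have hVV : V ≤ Subgroup.centralizer (V : Set L) := Subgroup.le_centralizer_iff_isMulCommutative.mpr hVc
  have hWW : W ≤ Subgroup.centralizer (W : Set L) := Subgroup.le_centralizer_iff_isMulCommutative.mpr hWc
  have hVW : V ≤ Subgroup.centralizer (W : Set L) := hVQ.trans hQW
  have hWV : W ≤ Subgroup.centralizer (V : Set L) := hWQ.trans hQV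
  have hsupV : V ⊔ W ≤ Subgroup.centralizer (V : Set L) := sup_le hVV hWV
  have hsupW : V ⊔ W ≤ Subgroup.centralizer (W : Set L) := sup_le hVW hWW
  have hcomm : V ⊔ W ≤ Subgroup.centralizer ((V ⊔ W : Subgroup L) : Set L) := by
    rw [Subgroup.le_centralizer_iff]
    exact sup_le (Subgroup.le_centralizer_iff.mp hsupV) (Subgroup.le_centralizer_iff.mp hsupW)
  refine ⟨inferInstance, ⟨Subgroup.le_centralizer_iff_isMulCommutative.mp hcomm, ?_⟩, ?_⟩
  · intro a ha
    haveI := hWn
    obtain ⟨v, hv, w, hw, rfl⟩ := Subgroup.mem_sup_of_normal_right.mp ha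
    have hc : Commute v w := (Subgroup.mem_centralizer_iff.mp (hVW hv) w hw).symm
    rw [hc.mul_pow, hVp v hv, hWp w hw, one_mul]
  · intro D hD hDp
    have h1 : D ≤ Subgroup.centralizer (V : Set L) := by
      apply hVr D hD
      intro d hd
      obtain ⟨k, hk⟩ := hDp d hd
      exact ⟨k, Subgroup.centralizer_le (by exact_mod_cast (le_sup_left : V ≤ V ⊔ W)) hk⟩
    have h2 : D ≤ Subgroup.centralizer (W : Set L) := by
      apply hWr D hD
      intro d hd
      obtain ⟨k, hk⟩ := hDp d hd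
      exact ⟨k, Subgroup.centralizer_le (by exact_mod_cast (le_sup_right : W ≤ V ⊔ W)) hk⟩
    rw [Subgroup.le_centralizer_iff]
    exact sup_le (Subgroup.le_centralizer_iff.mp h1) (Subgroup.le_centralizer_iff.mp h2)

theorem exists_largest_pReduced {p : ℕ} [Finite L]
    (hchar : Subgroup.centralizer (pCore p L : Set L) ≤ pCore p L) :
    ∃ Y : Subgroup L, IsPReducedNormal p Y ∧ ∀ V : Subgroup L, IsPReducedNormal p V → V ≤ Y := by
  obtain ⟨Y, hY⟩ := (Set.toFinite {V : Subgroup L | IsPReducedNormal p V}).exists_maximal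
    ⟨⊥, isPReducedNormal_bot p⟩
  refine ⟨Y, hY.prop, fun V hV => ?_⟩
  have h1 : IsPReducedNormal p (Y ⊔ V) := pReduced_sup hchar hY.prop hV
  exact le_sup_right.trans (hY.le_of_ge h1 le_sup_left)

theorem largestPReduced_spec {p : ℕ} [Finite L]
    (hchar : Subgroup.centralizer (pCore p L : Set L) ≤ pCore p L) :
    IsPReducedNormal p (largestPReduced p L) ∧
      ∀ V : Subgroup L, IsPReducedNormal p V → V ≤ largestPReduced p L := by
  obtain ⟨Y, hY, hle⟩ := exists_largest_pReduced (p := p) hchar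
  have : largestPReduced p L = Y := by
    unfold largestPReduced
    exact le_antisymm (sSup_le hle) (le_sSup hY)
  rw [this]
  exact ⟨hY, hle⟩

end Cfsg.Agent.Lib.Helper6
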