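import Mathlib
import Cfsg.Prelude.Def_EvenType
import Cfsg.Agent.Lib.Helper6.Amalgam4
import Cfsg.Agent.Lib.Helper6.SylowIdx

set_option autoImplicit false

namespace Cfsg.Agent.Lib.Helper6

open Cfsg

variable {G : Type*} [Group G]

theorem exists_orderOf_eq_prime_of_ne_bot {p : ℕ} [Fact p.Prime] [Finite G] {Q : Subgroup G}
    (hQ : IsPGroup p Q) (hne : Q ≠ ⊥) : ∃ x ∈ Q, orderOf x = p := by
  have hcard : p ∣ Nat.card Q := by
    rcases hQ.card_eq_or_dvd with h1 | h1
    · exact absurd (Subgroup.card_eq_one.mp h1) hne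
    · exact h1
  obtain ⟨x, hx⟩ := exists_prime_orderOf_dvd_card' p hcard
  exact ⟨x, x.2, by rwa [← Subgroup.orderOf_coe] at hx⟩

theorem dvd_card_of_isPGroup_ne_bot {p : ℕ} [Fact p.Prime] [Finite G] {Q : Subgroup G}
    (hQ : IsPGroup p Q) (hne : Q ≠ ⊥) : p ∣ Nat.card Q := by
  rcases hQ.card_eq_or_dvd with h1 | h1
  · exact absurd (Subgroup.card_eq_one.mp h1) hne
  · exact h1

theorem not_pRankLE_zero_iff {p : ℕ} [Fact p.Prime] [Finite G] {Q : Subgroup G}
    (hQ : IsPGroup p Q) : ¬ PRankLE p 0 Q ↔ Q ≠ ⊥ := by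
  have hp : p.Prime := Fact.out
  constructor
  · intro h hb
    apply h
    intro A _ _
    subst hb
    rw [pow_zero]
    have : Nat.card (⊥ : Subgroup G) = 1 := Subgroup.card_bot
    have h2 := Subgroup.card_le_card_group A
    omega
  · intro hne h
    obtain ⟨x, hxQ, hx⟩ := exists_orderOf_eq_prime_of_ne_bot hQ hne
    have := h (Subgroup.zpowers (⟨x, hxQ⟩ : Q)) inferInstance (by
      intro a ha
      obtain ⟨k, rfl⟩ := Subgroup.mem_zpowers_iff.mp ha
      rw [← zpow_natCast, ← zpow_mul, mul_comm, zpow_mul, zpow_natCast]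
      have : (⟨x, hxQ⟩ : Q) ^ p = 1 := by
        apply Subtype.ext
        simp only [Subgroup.coe_pow, Subgroup.coe_one]
        rw [← hx, pow_orderOf_eq_one]
      rw [this, one_zpow])
    rw [Nat.card_zpowers, Subgroup.orderOf_mk, hx, pow_zero] at this
    exact absurd this (by have := hp.one_lt; omega)

theorem kGeneratedCore_one_le_iff {p : ℕ} [Fact p.Prime] [Finite G] {P Y : Subgroup G}
    (hP : IsPGroup p P) :
    kGeneratedCore p 1 P ≤ Y ↔
      ∀ Q : Subgroup G, Q ≤ P → Q ≠ ⊥ → Subgroup.normalizer (Q : Set G) ≤ Y := by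
  unfold kGeneratedCore
  rw [iSup_le_iff]
  constructor
  · intro h Q hQP hne
    exact h ⟨Q, hQP, (not_pRankLE_zero_iff (hP.to_le hQP)).mpr hne⟩
  · rintro h ⟨Q, hQP, hQ⟩
    exact h Q hQP ((not_pRankLE_zero_iff (hP.to_le hQP)).mp hQ)

/-- classical form: meets its other conjugates in `p'`-groups -/
def SEConj (p : ℕ) (M : Subgroup G) : Prop :=
  ∀ g : G, g ∉ M → ¬ p ∣ Nat.card ↥(M ⊓ M.map (MulAut.conj g).toMonoidHom)

/-- contains the normalizers of its nontrivial `p`-subgroups -/
def SENorm (p : ℕ) (M : Subgroup G) : Prop :=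
  ∀ A : Subgroup G, A ≤ M → IsPGroup p A → A ≠ ⊥ → Subgroup.normalizer (A : Set G) ≤ M

theorem exists_isSylowOf_ge {p : ℕ} [Fact p.Prime] {M A : Subgroup G} (hAM : A ≤ M)
    (hA : IsPGroup p A) : ∃ T, IsSylowOf p M T ∧ A ≤ T := by
  have h1 : IsPGroup p (A.subgroupOf M) := hA.comap_subtype
  obtain ⟨S, hS⟩ := h1.exists_le_sylow
  refine ⟨_, isSylowOf_of_sylow S, ?_⟩
  intro a ha
  exact ⟨⟨a, hAM ha⟩, hS (by rw [Subgroup.mem_subgroupOf]; exact ha), rfl⟩

theorem SENorm.exists_sylow_le {p : ℕ} [Fact p.Prime] [Finite G] {M : Subgroup G}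
    (h : SENorm p M) (hpM : p ∣ Nat.card M) : ∃ P : Sylow p G, (P : Subgroup G) ≤ M := by
  obtain ⟨T, hT⟩ := exists_isSylowOf p M
  have hTne : T ≠ ⊥ := by
    intro hb
    have hc := hT.card_eq
    rw [hb, Subgroup.card_bot] at hc
    have hp : p.Prime := Fact.out
    have : (Nat.card M).factorization p = 0 := by
      by_contra hne
      have : 1 < p ^ (Nat.card M).factorization p := Nat.one_lt_pow hne hp.one_lt
      omega
    have h2 := (hp.dvd_iff_one_le_factorization Nat.card_pos.ne').mp hpM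
    omega
  obtain ⟨P, hP⟩ := hT.2.1.exists_le_sylow
  refine ⟨P, ?_⟩
  by_cases hEq : T = P
  · rw [← hEq]; exact hT.1
  · exfalso
    have hlt : T < (P : Subgroup G) := lt_of_le_of_ne hP hEq
    obtain ⟨n, hnP, hnT, hnN⟩ := exists_mem_normalizer_not_mem hlt P.isPGroup'
    have hnM : n ∈ M := h T hT.1 hT.2.1 hTne hnN
    -- T ⊔ zpowers n is a p-subgroup of M containing T
    have hsup : IsPGroup p (T ⊔ Subgroup.zpowers n : Subgroup G) :=
      P.isPGroup'.to_le (sup_le hP (Subgroup.zpowers_le.mpr hnP))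
    have := hT.2.2 _ hsup (sup_le hT.1 (Subgroup.zpowers_le.mpr hnM)) le_sup_left
    apply hnT
    rw [← this]
    exact Subgroup.mem_sup_right (Subgroup.mem_zpowers n)

theorem sylow_ne_bot {p : ℕ} [Fact p.Prime] [Finite G] (hp : p ∣ Nat.card G) (P : Sylow p G) :
    (P : Subgroup G) ≠ ⊥ := by
  intro hb
  have := P.card_eq_multiplicity
  rw [hb, Subgroup.card_bot] at this
  have hpr : p.Prime := Fact.out
  have h2 := (hpr.dvd_iff_one_le_factorization Nat.card_pos.ne').mp hp
  have : 1 < p ^ (Nat.card G).factorization p := Nat.one_lt_pow (by omega) hpr.one_lt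
  omega

theorem isSylowOf_of_sylow_le {p : ℕ} {M : Subgroup G} (P : Sylow p G)
    (hPM : (P : Subgroup G) ≤ M) : IsSylowOf p M P :=
  ⟨hPM, P.isPGroup', fun Q hQ _ hPQ => (P.is_maximal' hQ hPQ)⟩

/-- `Γ_{P,1} ≤ M` gives `SENorm`. -/
theorem SENorm.of_core_le {p : ℕ} [Fact p.Prime] [Finite G] {M : Subgroup G} (hpG : p ∣ Nat.card G)
    (P : Sylow p G) (hP : kGeneratedCore p 1 (P : Subgroup G) ≤ M) : SENorm p M := by
  rw [kGeneratedCore_one_le_iff P.isPGroup'] at hP
  have hPne := sylow_ne_bot hpG P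
  have hPM : (P : Subgroup G) ≤ M := Subgroup.le_normalizer.trans (hP P le_rfl hPne)
  intro A hAM hA hAne
  obtain ⟨c, hcM, R, _, hRp, hPR, hcR⟩ := exists_common_pGroup M (P : Subgroup G) A hPM hAM
    P.isPGroup' hA
  have hRP : R = P := P.is_maximal' hRp hPR
  rw [hRP] at hcR
  have hne' : A.map (MulAut.conj c).toMonoidHom ≠ ⊥ := by
    rw [Ne, Subgroup.map_eq_bot_iff_of_injective A (MulAut.conj c).injective]
    exact hAne
  have h1 := hP _ hcR hne'
  rw [← normalizer_map_conj] at h1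
  intro n hn
  have h2 : c * n * c⁻¹ ∈ M := h1 ⟨n, hn, by simp [MulAut.conj_apply]⟩
  have : n = c⁻¹ * (c * n * c⁻¹) * c := by group
  rw [this]
  exact M.mul_mem (M.mul_mem (M.inv_mem hcM) h2) hcM

theorem SENorm.stronglyPEmbedded {p : ℕ} [Fact p.Prime] [Finite G] {M : Subgroup G}
    (h : SENorm p M) (hM : M ≠ ⊤) (hpM : p ∣ Nat.card M) : IsStronglyPEmbedded p M := by
  obtain ⟨P, hP⟩ := h.exists_sylow_le hpM
  refine ⟨hpM.trans (Subgroup.card_subgroup_dvd_card M), hM, P, ?_⟩
  rw [kGeneratedCore_one_le_iff P.isPGroup']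
  intro Q hQP hQne
  exact h Q (hQP.trans hP) (P.isPGroup'.to_le hQP) hQne

theorem senorm_of_stronglyPEmbedded {p : ℕ} [Fact p.Prime] [Finite G] {M : Subgroup G}
    (h : IsStronglyPEmbedded p M) : SENorm p M := by
  obtain ⟨hpG, _, P, hP⟩ := h
  exact SENorm.of_core_le hpG P hP

theorem dvd_card_of_stronglyPEmbedded {p : ℕ} [Fact p.Prime] [Finite G] {M : Subgroup G}
    (h : IsStronglyPEmbedded p M) : p ∣ Nat.card M := by
  obtain ⟨hpG, _, P, hP⟩ := h
  rw [kGeneratedCore_one_le_iff P.isPGroup'] at hP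
  have hPne := sylow_ne_bot hpG P
  have hPM : (P : Subgroup G) ≤ M := Subgroup.le_normalizer.trans (hP P le_rfl hPne)
  exact (dvd_card_of_isPGroup_ne_bot P.isPGroup' hPne).trans (Subgroup.card_dvd_of_le hPM)

/-- control of fusion of `p`-subgroups -/
theorem SENorm.mem_of_map_conj_le {p : ℕ} [Fact p.Prime] [Finite G] {M : Subgroup G}
    (h : SENorm p M) : ∀ (n : ℕ) (A : Subgroup G) (g : G), Nat.card A + n = Nat.card G → A ≤ M →
      IsPGroup p A → A ≠ ⊥ → A.map (MulAut.conj g).toMonoidHom ≤ M → g ∈ M := by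
  intro n
  induction n using Nat.strong_induction_on with
  | _ n ih =>
    intro A g hn hAM hA hAne hAg
    set A' := A.map (MulAut.conj g).toMonoidHom with hA'
    have hA'p : IsPGroup p A' := hA.map _
    have hA'ne : A' ≠ ⊥ := by
      rw [Ne, hA', Subgroup.map_eq_bot_iff_of_injective A (MulAut.conj g).injective]
      exact hAne
    obtain ⟨T', hT', hA'T'⟩ := exists_isSylowOf_ge hAg hA'p
    by_cases hEq : A' = T'
    · -- A' is Sylow in M, hence so is A
      have hA'S : IsSylowOf p M A' := hEq ▸ hT'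
      have hAS : IsSylowOf p M A := by
        refine ⟨hAM, hA, ?_⟩
        intro Q hQ hQM hAQ
        obtain ⟨T, hT, hQT⟩ := exists_isSylowOf_ge hQM hQ
        have hc1 := hT.card_eq
        have hc2 := hA'S.card_eq
        rw [hA', card_map_conj] at hc2
        have hAT : A = T := Subgroup.eq_of_le_of_card_ge (hAQ.trans hQT) (by rw [hc1, hc2])
        exact le_antisymm (hAT ▸ hQT) hAQ
      obtain ⟨m, hm, hmA⟩ := hAS.exists_conj hA'S
      have h1 : A.map (MulAut.conj (m⁻¹ * g)).toMonoidHom = A := by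
        rw [← map_conj_map_conj, ← hA', hmA, map_conj_map_conj, inv_mul_cancel, map_conj_one]
      have h2 : m⁻¹ * g ∈ M := h A hAM hA hAne (mem_normalizer_of_map_conj_eq_self h1)
      have : g = m * (m⁻¹ * g) := by group
      rw [this]
      exact M.mul_mem hm h2
    · have hlt : A' < T' := lt_of_le_of_ne hA'T' hEq
      obtain ⟨x, hxT', hxA', hxN⟩ := exists_mem_normalizer_not_mem hlt hT'.2.1
      set B' : Subgroup G := A' ⊔ Subgroup.zpowers x with hB'
      have hB'T' : B' ≤ T' := sup_le hA'T' (Subgroup.zpowers_le.mpr hxT')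
      have hB'p : IsPGroup p B' := hT'.2.1.to_le hB'T'
      have hB'N : B' ≤ Subgroup.normalizer (A' : Set G) :=
        sup_le Subgroup.le_normalizer (Subgroup.zpowers_le.mpr hxN)
      set B : Subgroup G := B'.map (MulAut.conj g⁻¹).toMonoidHom with hB
      have hBB' : B.map (MulAut.conj g).toMonoidHom = B' := by
        rw [hB, map_conj_map_conj, mul_inv_cancel, map_conj_one]
      have hAA' : A'.map (MulAut.conj g⁻¹).toMonoidHom = A := by
        rw [hA', map_conj_map_conj, inv_mul_cancel, map_conj_one]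
      have hBN : B ≤ Subgroup.normalizer (A : Set G) := by
        have := Subgroup.map_mono (f := (MulAut.conj g⁻¹).toMonoidHom) hB'N
        rwa [normalizer_map_conj, hAA'] at this
      have hBM : B ≤ M := hBN.trans (h A hAM hA hAne)
      have hAB : A ≤ B := by
        rw [← hAA', hB]
        exact Subgroup.map_mono le_sup_left
      have hBne : B ≠ ⊥ := fun hb => hAne (le_bot_iff.mp (hb ▸ hAB))
      have hAltB : Nat.card A < Nat.card B := by
        have h1 : Nat.card A = Nat.card A' := by rw [hA', card_map_conj]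
        have h2 : Nat.card B = Nat.card B' := by rw [hB, card_map_conj]
        rw [h1, h2]
        have hlt' : A' < B' := by
          refine lt_of_le_of_ne le_sup_left ?_
          intro he
          apply hxA'
          rw [he]
          exact Subgroup.mem_sup_right (Subgroup.mem_zpowers x)
        exact Set.ncard_lt_ncard hlt' (Set.toFinite _)
      have hBle : Nat.card B ≤ Nat.card G := Subgroup.card_le_card_group B
      exact ih (Nat.card G - Nat.card B) (by omega) B g (by omega) hBM (hB'p.map _) hBne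
        (hBB'.symm ▸ hB'T'.trans hT'.1)

theorem SENorm.mem_of_map_conj_le' {p : ℕ} [Fact p.Prime] [Finite G] {M : Subgroup G}
    (h : SENorm p M) {A : Subgroup G} {g : G} (hAM : A ≤ M) (hA : IsPGroup p A) (hAne : A ≠ ⊥)
    (hAg : A.map (MulAut.conj g).toMonoidHom ≤ M) : g ∈ M :=
  h.mem_of_map_conj_le (Nat.card G - Nat.card A) A g
    (by have := Subgroup.card_le_card_group A; omega) hAM hA hAne hAg

theorem SENorm.seconj {p : ℕ} [Fact p.Prime] [Finite G] {M : Subgroup G}
    (h : SENorm p M) : SEConj p M := by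
  intro g hg hdvd
  obtain ⟨x, hx⟩ := exists_prime_orderOf_dvd_card' p hdvd
  have hxo : orderOf (x : G) = p := by rwa [Subgroup.orderOf_coe]
  have hxM := (Subgroup.mem_inf.mp x.2).1
  have hxMg := (Subgroup.mem_inf.mp x.2).2
  have hA : IsPGroup p (Subgroup.zpowers (x : G)) :=
    isPGroup_zpowers_of_orderOf ⟨1, by rw [hxo, pow_one]⟩
  have hne : Subgroup.zpowers (x : G) ≠ ⊥ := by
    rw [Ne, Subgroup.zpowers_eq_bot]
    intro h1
    rw [h1, orderOf_one] at hxo
    exact (Fact.out : p.Prime).one_lt.ne hxo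
  have h2 : (Subgroup.zpowers (x : G)).map (MulAut.conj g⁻¹).toMonoidHom ≤ M := by
    rw [map_conj_le_iff, inv_inv, Subgroup.zpowers_le]
    exact hxMg
  have := h.mem_of_map_conj_le' (Subgroup.zpowers_le.mpr hxM) hA hne h2
  exact hg (by simpa using M.inv_mem this)

theorem SEConj.senorm {p : ℕ} [Fact p.Prime] [Finite G] {M : Subgroup G}
    (h : SEConj p M) : SENorm p M := by
  intro A hAM hA hAne g hg
  by_contra hgM
  apply h g hgM
  have hle : A ≤ M ⊓ M.map (MulAut.conj g).toMonoidHom := by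
    refine le_inf hAM ?_
    have := map_conj_eq_self_of_mem_normalizer hg
    rw [← this]
    exact Subgroup.map_mono hAM
  exact (dvd_card_of_isPGroup_ne_bot hA hAne).trans (Subgroup.card_dvd_of_le hle)

end Cfsg.Agent.Lib.Helper6
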