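import Mathlib
import Cfsg.Agent.Lib.Helper6.StrEmb

set_option autoImplicit false

namespace Cfsg.Agent.Lib.Helper6

open Cfsg

variable {G : Type*} [Group G]

theorem IsSylowOf.ne_bot {p : ℕ} [Fact p.Prime] {N T : Subgroup G} [Finite N]
    (hT : IsSylowOf p N T) (hpN : p ∣ Nat.card N) : T ≠ ⊥ := by
  intro hb
  have hc := hT.card_eq
  rw [hb, Subgroup.card_bot] at hc
  have hp : p.Prime := Fact.out
  have h2 := (hp.dvd_iff_one_le_factorization Nat.card_pos.ne').mp hpN
  have : 1 < p ^ (Nat.card N).factorization p := Nat.one_lt_pow (by omega) hp.one_lt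
  omega

theorem map_conj_eq_self_of_normal (N : Subgroup G) [N.Normal] (g : G) :
    N.map (MulAut.conj g).toMonoidHom = N :=
  map_conj_eq_self_of_mem_normalizer (by rw [Subgroup.normalizer_eq_top]; trivial)

/-- the subgroup generated by the `p'`-elements of a normal subgroup is normal -/
theorem closure_pPrime_normal (p : ℕ) (N : Subgroup G) [hN : N.Normal] :
    (Subgroup.closure {g : G | g ∈ N ∧ (orderOf g).Coprime p}).Normal := by
  rw [← Subgroup.normalizer_eq_top_iff, eq_top_iff]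
  refine le_trans ?_ (Subgroup.normalizer_le_normalizer_closure _)
  rw [Subgroup.le_set_normalizer_iff]
  rintro g _ x ⟨hxN, hx⟩
  refine ⟨hN.conj_mem x hxN g, ?_⟩
  have : g * x * g⁻¹ = MulAut.conj g x := by simp [MulAut.conj_apply]
  rw [this, MulEquiv.orderOf_eq]
  exact hx

theorem exists_pow_mem_closure_pPrime {p : ℕ} [Fact p.Prime] [Finite G] (N : Subgroup G) {n : G}
    (hn : n ∈ N) : ∃ k : ℕ, n ^ p ^ k ∈ Subgroup.closure {g : G | g ∈ N ∧ (orderOf g).Coprime p} := by
  have hp : p.Prime := Fact.out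
  have hx0 : orderOf n ≠ 0 := (orderOf_pos n).ne'
  obtain ⟨a, m, hm, hxm⟩ := Nat.exists_eq_pow_mul_and_not_dvd hx0 p hp.ne_one
  refine ⟨a, Subgroup.subset_closure ⟨N.pow_mem hn _, ?_⟩⟩
  have hy : orderOf (n ^ p ^ a) = m := by
    rw [orderOf_pow' n (pow_ne_zero a hp.ne_zero), hxm, Nat.gcd_eq_right (Dvd.intro _ rfl)]
    exact Nat.mul_div_cancel_left m (pow_pos hp.pos a)
  rw [hy]
  exact ((Nat.Prime.coprime_iff_not_dvd hp).mpr hm).symm

theorem le_sylow_sup_closure_pPrime {p : ℕ} [Fact p.Prime] [Finite G] (N : Subgroup G) [N.Normal]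
    (P : Sylow p G) :
    N ≤ (P : Subgroup G) ⊔ Subgroup.closure {g : G | g ∈ N ∧ (orderOf g).Coprime p} := by
  set R := Subgroup.closure {g : G | g ∈ N ∧ (orderOf g).Coprime p} with hR
  haveI : R.Normal := closure_pPrime_normal p N
  have hsurj : Function.Surjective (QuotientGroup.mk' R) := QuotientGroup.mk'_surjective R
  have hNb : IsPGroup p (N.map (QuotientGroup.mk' R)) := by
    rintro ⟨_, ⟨n, hn, rfl⟩⟩
    obtain ⟨k, hk⟩ := exists_pow_mem_closure_pPrime (p := p) N hn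
    refine ⟨k, ?_⟩
    apply Subtype.ext
    simp only [Subgroup.coe_pow, Subgroup.coe_one]
    rw [← map_pow]
    exact (QuotientGroup.eq_one_iff _).mpr hk
  haveI : (N.map (QuotientGroup.mk' R)).Normal := Subgroup.Normal.map inferInstance _ hsurj
  have hle := hNb.le_sylow_of_normal (P.mapSurjective hsurj)
  intro n hn
  obtain ⟨u, hu, hun⟩ := hle ⟨n, hn, rfl⟩
  have hr : u⁻¹ * n ∈ R := by
    rw [← QuotientGroup.eq_one_iff, QuotientGroup.mk_mul, QuotientGroup.mk_inv]
    have : (QuotientGroup.mk u : G ⧸ R) = QuotientGroup.mk n := hun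
    rw [this, inv_mul_cancel]
  have : n = u * (u⁻¹ * n) := by group
  rw [this]
  exact Subgroup.mul_mem _ (Subgroup.mem_sup_left hu) (Subgroup.mem_sup_right hr)

/-- A subgroup `C` whose intersection with `M` has order divisible by `p` has a Sylow
`p`-subgroup inside `M`. -/
theorem SENorm.exists_isSylowOf_le {p : ℕ} [Fact p.Prime] [Finite G] {M : Subgroup G}
    (h : SENorm p M) (C : Subgroup G) (hpC : p ∣ Nat.card ↥(M ⊓ C)) :
    ∃ S, IsSylowOf p C S ∧ S ≤ M := by
  obtain ⟨T, hT⟩ := exists_isSylowOf p (M ⊓ C)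
  have hTne : T ≠ ⊥ := hT.ne_bot hpC
  obtain ⟨S, hS, hTS⟩ := exists_isSylowOf_ge (hT.1.trans inf_le_right) hT.2.1
  refine ⟨S, hS, ?_⟩
  by_cases hEq : T = S
  · rw [← hEq]; exact hT.1.trans inf_le_left
  · exfalso
    have hlt : T < S := lt_of_le_of_ne hTS hEq
    obtain ⟨n, hnS, hnT, hnN⟩ := exists_mem_normalizer_not_mem hlt hS.2.1
    have hnM : n ∈ M := h T (hT.1.trans inf_le_left) hT.2.1 hTne hnN
    have hsup : IsPGroup p (T ⊔ Subgroup.zpowers n : Subgroup G) :=
      hS.2.1.to_le (sup_le hTS (Subgroup.zpowers_le.mpr hnS))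
    have := hT.2.2 _ hsup (sup_le hT.1 (Subgroup.zpowers_le.mpr
      (Subgroup.mem_inf.mpr ⟨hnM, hS.1 hnS⟩))) le_sup_left
    apply hnT
    rw [← this]
    exact Subgroup.mem_sup_right (Subgroup.mem_zpowers n)

end Cfsg.Agent.Lib.Helper6
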