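import Mathlib
import Cfsg.Agent.Lib.Helper6.StrEmb2
import Cfsg.Agent.Lib.Helper6.PPrimeCore

set_option autoImplicit false

namespace Cfsg.Agent.Lib.Helper6

open Cfsg
open scoped Pointwise

variable {G : Type*} [Group G]

theorem SENorm.subgroupOf {p : ℕ} {M : Subgroup G} (h : SENorm p M) (H : Subgroup G) :
    SENorm p (M.subgroupOf H) := by
  intro A hAM hA hAne n hn
  rw [Subgroup.mem_subgroupOf]
  have hA'M : A.map H.subtype ≤ M := by
    rintro _ ⟨a, ha, rfl⟩
    exact Subgroup.mem_subgroupOf.mp (hAM ha)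
  have hA'ne : A.map H.subtype ≠ ⊥ := by
    rw [Ne, Subgroup.map_eq_bot_iff_of_injective A H.subtype_injective]
    exact hAne
  have h1 := h _ hA'M (hA.map _) hA'ne
  exact h1 (Subgroup.le_normalizer_map H.subtype ⟨n, hn, rfl⟩)

theorem card_subgroupOf_eq (M H : Subgroup G) : Nat.card (M.subgroupOf H) = Nat.card ↥(M ⊓ H) := by
  rw [← Subgroup.subgroupOf_map_subtype, Subgroup.card_map_of_injective H.subtype_injective]

theorem stronglyPEmbedded_subgroupOf {p : ℕ} [Fact p.Prime] [Finite G] {X : Subgroup G}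
    (hX : IsStronglyPEmbedded p X) (H : Subgroup G) (hHX : ¬ H ≤ X)
    (hp : p ∣ Nat.card ↥(H ⊓ X)) : IsStronglyPEmbedded p (X.subgroupOf H) := by
  have h1 := (senorm_of_stronglyPEmbedded hX).subgroupOf H
  apply h1.stronglyPEmbedded
  · rw [Ne, Subgroup.subgroupOf_eq_top]; exact hHX
  · rw [card_subgroupOf_eq, inf_comm]; exact hp

/-- a `p`-subgroup of `Q ⊔ K` containing the `p`-group `Q`, with `K` a normal `p'`-group, is `Q` -/
theorem eq_of_le_sup_coprime {p : ℕ} [Fact p.Prime] [Finite G] {Q R K : Subgroup G} [K.Normal]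
    (hK : (Nat.card K).Coprime p) (hR : IsPGroup p R) (hQR : Q ≤ R) (hRQK : R ≤ Q ⊔ K) :
    R = Q := by
  apply le_antisymm _ hQR
  intro r hr
  have hmem : r ∈ (Q : Set G) * (K : Set G) := by
    rw [← Subgroup.mul_normal]; exact hRQK hr
  obtain ⟨q, hq, k, hk, rfl⟩ := Set.mem_mul.mp hmem
  have hkR : k ∈ R := by
    have : k = q⁻¹ * (q * k) := by group
    rw [this]
    exact R.mul_mem (R.inv_mem (hQR hq)) hr
  have hbot := isPGroup_inf_coprime_eq_bot hK hR
  have : k ∈ R ⊓ K := Subgroup.mem_inf.mpr ⟨hkR, hk⟩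
  rw [hbot, Subgroup.mem_bot] at this
  rw [this, mul_one]
  exact hq

end Cfsg.Agent.Lib.Helper6
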