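import Mathlib
import Cfsg.Prelude.Def_LocalStructure
import Cfsg.Agent.Lib.Helper6.PReduced
import Cfsg.Agent.Lib.Helper6.StrEmb3

set_option autoImplicit false

namespace Cfsg.Agent.Lib.Helper6

open Cfsg
open scoped Pointwise

variable {H : Type*} [Group H]

/-- elements of `Ω₁(Z(P))` are central in `P` and killed by `p` -/
theorem omegaZ_spec {p : ℕ} (P : Subgroup H) :
    ∀ w ∈ omegaZ p P, w ∈ P ∧ (∀ y ∈ P, Commute w y) ∧ w ^ p = 1 := by
  intro w hw
  refine ⟨omegaZ_le p P hw, ?_⟩
  unfold omegaZ omegaOne at hw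
  induction hw using Subgroup.closure_induction with
  | mem x hx =>
    exact ⟨fun y hy => (Subgroup.mem_centralizer_iff.mp (Subgroup.mem_inf.mp hx.1).2 y hy).symm,
      hx.2⟩
  | one => exact ⟨fun y _ => Commute.one_left y, one_pow p⟩
  | mul x y hx' hy' hx hy =>
    have hyP : y ∈ P := omegaZ_le p P hy'
    obtain ⟨cx, px⟩ := hx
    obtain ⟨cy, py⟩ := hy
    refine ⟨fun z hz => (cx z hz).mul_left (cy z hz), ?_⟩
    have hc : Commute x y := cx y hyP
    rw [hc.mul_pow, px, py, one_mul]
  | inv x hx' hx =>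
    obtain ⟨cx, px⟩ := hx
    exact ⟨fun z hz => (cx z hz).inv_left, by rw [inv_pow, px, inv_one]⟩

theorem mem_omegaZ_of {p : ℕ} {P : Subgroup H} {w : H} (hwP : w ∈ P)
    (hc : ∀ y ∈ P, Commute w y) (hp : w ^ p = 1) : w ∈ omegaZ p P := by
  unfold omegaZ omegaOne
  apply Subgroup.subset_closure
  refine ⟨Subgroup.mem_inf.mpr ⟨hwP, ?_⟩, hp⟩
  rw [Subgroup.mem_centralizer_iff]
  intro y hy
  exact (hc y hy).symm.eq

/-- `P ⊓ N` is a Sylow `p`-subgroup of `N` when the Sylow `p`-subgroup `P` normalizes `N`. -/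
theorem isSylowOf_inf_of_le_normalizer {p : ℕ} [Fact p.Prime] [Finite H] (P : Sylow p H)
    (N : Subgroup H) (hPN : (P : Subgroup H) ≤ Subgroup.normalizer (N : Set H)) :
    IsSylowOf p N ((P : Subgroup H) ⊓ N) := by
  refine ⟨inf_le_right, P.isPGroup'.to_le inf_le_left, ?_⟩
  intro R hR hRN hle
  obtain ⟨c, hcK, R', _, hR'p, hPR', hcR'⟩ := exists_common_pGroup ((P : Subgroup H) ⊔ N)
    (P : Subgroup H) R le_sup_left (hRN.trans le_sup_right) P.isPGroup' hR
  have hR'P : R' = P := P.is_maximal' hR'p hPR'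
  rw [hR'P] at hcR'
  have hcmem : c ∈ ((P : Subgroup H) : Set H) * (N : Set H) := by
    rw [← Subgroup.coe_mul_of_left_le_normalizer_right _ _ hPN]; exact hcK
  obtain ⟨u, hu, n, hn, rfl⟩ := Set.mem_mul.mp hcmem
  have h1 : R.map (MulAut.conj n).toMonoidHom ≤ (P : Subgroup H) ⊓ N := by
    rintro _ ⟨r, hr, rfl⟩
    refine Subgroup.mem_inf.mpr ⟨?_, ?_⟩
    · have h2 : (u * n) * r * (u * n)⁻¹ ∈ (P : Subgroup H) :=
        hcR' ⟨r, hr, by simp only [MulEquiv.coe_toMonoidHom, MulAut.conj_apply]⟩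
      have h3 : n * r * n⁻¹ = u⁻¹ * ((u * n) * r * (u * n)⁻¹) * u := by group
      simp only [MulEquiv.coe_toMonoidHom, MulAut.conj_apply]
      rw [h3]
      exact Subgroup.mul_mem _ (Subgroup.mul_mem _ (Subgroup.inv_mem _ hu) h2) hu
    · simp only [MulEquiv.coe_toMonoidHom, MulAut.conj_apply]
      exact N.mul_mem (N.mul_mem hn (hRN hr)) (N.inv_mem hn)
  symm
  apply Subgroup.eq_of_le_of_card_ge hle
  rw [← card_map_conj R n]
  exact Subgroup.card_le_of_le h1

/-- the subgroup `sylowCenterClosure p L` is normalized by `L` -/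
theorem le_normalizer_sylowCenterClosure (p : ℕ) (L : Subgroup H) :
    L ≤ Subgroup.normalizer (sylowCenterClosure p L : Set H) := by
  intro g hg
  apply mem_normalizer_of_map_conj_eq_self
  rw [sylowCenterClosure_map_conj, map_conj_eq_self_of_mem_normalizer (Subgroup.le_normalizer hg)]

theorem sylowCenterClosure_le_omegaZ_pCoreOf {p : ℕ} [Fact p.Prime] (L : Subgroup H)
    (hL : Subgroup.centralizer (pCore p L : Set L) ≤ pCore p L) :
    sylowCenterClosure p L ≤ omegaZ p (pCoreOf p L) := by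
  rw [sylowCenterClosure_le_iff]
  intro S hS w hw
  obtain ⟨hwS, hwc, hwp⟩ := omegaZ_spec S w hw
  have hQS : pCoreOf p L ≤ S := pCoreOf_le_of_isSylowOf hS
  apply mem_omegaZ_of _ (fun y hy => hwc y (hQS hy)) hwp
  apply charP_base L hL
  refine Subgroup.mem_inf.mpr ⟨hS.1 hwS, ?_⟩
  rw [Subgroup.mem_centralizer_iff]
  intro y hy
  exact (hwc y (hQS hy)).symm.eq

theorem sylowCenterClosure_subgroupOf_isPReduced {p : ℕ} [Fact p.Prime] [Finite H] (L : Subgroup H)
    (hL : Subgroup.centralizer (pCore p L : Set L) ≤ pCore p L) :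
    IsPReducedNormal p ((sylowCenterClosure p L).subgroupOf L) := by
  set Z := sylowCenterClosure p L with hZ
  have hZL : Z ≤ L := sylowCenterClosure_le p L
  have hZQ := sylowCenterClosure_le_omegaZ_pCoreOf L hL
  have hnormal : (Z.subgroupOf L).Normal :=
    (Subgroup.normal_subgroupOf_iff_le_normalizer hZL).mpr (le_normalizer_sylowCenterClosure p L)
  rw [isPReducedNormal_iff]
  refine ⟨hnormal, ⟨⟨⟨?_⟩⟩, ?_⟩, ?_⟩
  · rintro ⟨a, ha⟩ ⟨b, hb⟩
    rw [Subgroup.mem_subgroupOf] at ha hb
    obtain ⟨_, hac, _⟩ := omegaZ_spec _ _ (hZQ ha)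
    obtain ⟨hbQ, _, _⟩ := omegaZ_spec _ _ (hZQ hb)
    apply Subtype.ext
    apply Subtype.ext
    exact (hac _ hbQ).eq
  · intro a ha
    rw [Subgroup.mem_subgroupOf] at ha
    obtain ⟨_, _, hap⟩ := omegaZ_spec _ _ (hZQ ha)
    apply Subtype.ext
    simpa using hap
  · intro D hD hDp d hd
    haveI := hnormal
    set C' := Subgroup.centralizer ((Z.subgroupOf L : Subgroup L) : Set L) with hC'
    have hsurj : Function.Surjective (QuotientGroup.mk' C') := QuotientGroup.mk'_surjective C'
    have hDn : (D.map (QuotientGroup.mk' C')).Normal := Subgroup.Normal.map hD _ hsurj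
    have hDpg : IsPGroup p (D.map (QuotientGroup.mk' C')) := by
      rintro ⟨_, ⟨d', hd', rfl⟩⟩
      obtain ⟨k, hk⟩ := hDp d' hd'
      refine ⟨k, Subtype.ext ?_⟩
      simp only [Subgroup.coe_pow, Subgroup.coe_one]
      rw [← map_pow]
      exact (QuotientGroup.eq_one_iff _).mpr hk
    -- it suffices to centralize each Ω₁Z(S)
    have key : Z ≤ Subgroup.centralizer ({(d : H)} : Set H) := by
      rw [hZ, sylowCenterClosure_le_iff]
      intro S hS w hw
      obtain ⟨S', rfl⟩ := hS.exists_sylow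
      have hle := hDpg.le_sylow_of_normal (S'.mapSurjective hsurj)
      obtain ⟨s, hs, hsd⟩ := hle ⟨d, hd, rfl⟩
      have hc : s⁻¹ * d ∈ C' := by
        rw [← QuotientGroup.eq_one_iff, QuotientGroup.mk_mul, QuotientGroup.mk_inv]
        have : (QuotientGroup.mk s : L ⧸ C') = QuotientGroup.mk d := hsd
        rw [this, inv_mul_cancel]
      obtain ⟨hwS, hwc, _⟩ := omegaZ_spec _ w hw
      have hwZ : w ∈ Z := omegaZ_le_sylowCenterClosure hS hw
      have h1 : Commute w (s : H) := hwc _ ⟨s, hs, rfl⟩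
      have h2 : Commute w ((s⁻¹ * d : L) : H) := by
        have := Subgroup.mem_centralizer_iff.mp hc ⟨w, hZL hwZ⟩
          (by rw [SetLike.mem_coe, Subgroup.mem_subgroupOf]; exact hwZ)
        have := congrArg Subtype.val this
        exact this
      rw [Subgroup.mem_centralizer_singleton_iff]
      have hd' : (d : H) = (s : H) * ((s⁻¹ * d : L) : H) := by
        simp
      rw [hd']
      exact (h1.mul_right h2).eq
    rw [Subgroup.mem_centralizer_iff]
    rintro ⟨z, hzL⟩ hz
    rw [SetLike.mem_coe, Subgroup.mem_subgroupOf] at hz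
    have := Subgroup.mem_centralizer_singleton_iff.mp (key hz)
    apply Subtype.ext
    exact this

theorem sylowCenterClosure_le_largestPReducedOf {p : ℕ} [Fact p.Prime] [Finite H] (L : Subgroup H)
    (hL : Subgroup.centralizer (pCore p L : Set L) ≤ pCore p L) :
    sylowCenterClosure p L ≤ largestPReducedOf p L := by
  have h1 := (largestPReduced_spec hL).2 _ (sylowCenterClosure_subgroupOf_isPReduced L hL)
  intro z hz
  exact ⟨⟨z, sylowCenterClosure_le p L hz⟩, h1 (by rw [Subgroup.mem_subgroupOf]; exact hz), rfl⟩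

theorem largestPReducedOf_le_omegaZ_pCoreOf {p : ℕ} [Finite H] (L : Subgroup H)
    (hL : Subgroup.centralizer (pCore p L : Set L) ≤ pCore p L) :
    largestPReducedOf p L ≤ omegaZ p (pCoreOf p L) := by
  have hY := (largestPReduced_spec hL).1
  have h1 := pReduced_le_pCore hL hY
  have h2 := pReduced_pCore_le_centralizer hY
  rintro _ ⟨y, hy, rfl⟩
  apply mem_omegaZ_of
  · exact ⟨y, h1 hy, rfl⟩
  · rintro _ ⟨q, hq, rfl⟩
    have := Subgroup.mem_centralizer_iff.mp (h2 hq) y hy
    have := congrArg Subtype.val this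
    exact this
  · have := hY.2.1.2 y hy
    have := congrArg Subtype.val this
    simpa using this

theorem pCoreOf_le_centralizer_largestPReducedOf {p : ℕ} [Finite H] (L : Subgroup H)
    (hL : Subgroup.centralizer (pCore p L : Set L) ≤ pCore p L) :
    pCoreOf p L ≤ Subgroup.centralizer (largestPReducedOf p L : Set H) := by
  have hY := (largestPReduced_spec hL).1
  have h2 := pReduced_pCore_le_centralizer hY
  rintro _ ⟨q, hq, rfl⟩
  rw [Subgroup.mem_centralizer_iff]
  rintro _ ⟨y, hy, rfl⟩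
  have := Subgroup.mem_centralizer_iff.mp (h2 hq) y hy
  have := congrArg Subtype.val this
  exact this

theorem le_normalizer_largestPReducedOf {p : ℕ} [Finite H] (L : Subgroup H)
    (hL : Subgroup.centralizer (pCore p L : Set L) ≤ pCore p L) :
    L ≤ Subgroup.normalizer (largestPReducedOf p L : Set H) := by
  have hY := (largestPReduced_spec hL).1.1
  have hle : largestPReducedOf p L ≤ L := by
    rintro _ ⟨y, _, rfl⟩; exact y.2
  rw [← Subgroup.normal_subgroupOf_iff_le_normalizer hle]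
  have : (largestPReducedOf p L).subgroupOf L = largestPReduced p L := by
    unfold largestPReducedOf
    exact Subgroup.comap_map_eq_self_of_injective L.subtype_injective _
  rw [this]
  exact hY

end Cfsg.Agent.Lib.Helper6
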