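import Mathlib
import Cfsg.Agent.Lib.Helper6.ParChar
import Cfsg.Agent.Lib.Helper6.Conj
import Cfsg.Agent.Lib.Helper6.YL

set_option autoImplicit false

/-! Parabolic characteristic `p`: the criterion through `Ω₁(Z(S))`, and subnormal subgroups. -/

namespace Cfsg.Agent.Lib.Helper6

open Cfsg Cfsg.Agent.Lib.Helper3

variable {G : Type*} [Group G]

/-- an element central in the Sylow subgroup `T` is conjugate to an element central in `S` -/
theorem exists_conj_central_sylow [Finite G] {p : ℕ} [Fact p.Prime] (S T : Sylow p G)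
    (z' : G) (hzT : z' ∈ (T : Subgroup G)) (hzc : ∀ t ∈ (T : Subgroup G), t * z' = z' * t) :
    ∃ g z : G, z' = g * z * g⁻¹ ∧ z ∈ (S : Subgroup G) ∧
      z ∈ Subgroup.centralizer ((S : Subgroup G) : Set G) ∧ orderOf z = orderOf z' := by
  obtain ⟨g, hg⟩ := MulAction.exists_smul_eq G S T
  have hT : (T : Subgroup G) = (S : Subgroup G).map (MulAut.conj g).toMonoidHom := by
    rw [← hg, sylow_smul_eq_map_conj]
  refine ⟨g, g⁻¹ * z' * g, by group, ?_, ?_, ?_⟩
  · rw [hT, mem_map_conj] at hzT
    exact hzT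
  · rw [Subgroup.mem_centralizer_iff]
    intro s hs
    have hsT : g * s * g⁻¹ ∈ (T : Subgroup G) := by
      rw [hT, mem_map_conj]
      have : g⁻¹ * (g * s * g⁻¹) * g = s := by group
      rw [this]; exact hs
    have h := hzc _ hsT
    calc s * (g⁻¹ * z' * g) = g⁻¹ * (g * s * g⁻¹ * z') * g := by group
      _ = g⁻¹ * (z' * (g * s * g⁻¹)) * g := by rw [h]
      _ = _ := by group
  · have := MulEquiv.orderOf_eq (MulAut.conj g⁻¹) z'
    rw [MulAut.conj_apply, inv_inv] at this
    exact this

/-- `G` has parabolic characteristic `p` iff the centralizers of the nontrivial elements of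
`Ω₁(Z(S))` have characteristic `p`. -/
theorem isOfParabolicCharacteristic_iff [Finite G] {p : ℕ} [Fact p.Prime] (S : Sylow p G) :
    Cfsg.IsOfParabolicCharacteristic p G ↔ ∀ z : G, z ≠ 1 →
      z ∈ Cfsg.omegaOne p ((S : Subgroup G) ⊓ Subgroup.centralizer ((S : Subgroup G) : Set G)) →
      IsPGroup p (Cfsg.generalizedFittingSubgroup ↥(Subgroup.centralizer ({z} : Set G))) := by
  classical
  have hSp : IsPGroup p (S : Subgroup G) := S.isPGroup'
  constructor
  · intro hpar z hz1 hzΩ
    have hzZ : z ∈ (S : Subgroup G) ⊓ Subgroup.centralizer ((S : Subgroup G) : Set G) := by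
      have hle : Cfsg.omegaOne p ((S : Subgroup G) ⊓ Subgroup.centralizer ((S : Subgroup G) : Set G)) ≤
          (S : Subgroup G) ⊓ Subgroup.centralizer ((S : Subgroup G) : Set G) := by
        unfold Cfsg.omegaOne
        rw [Subgroup.closure_le]
        rintro x ⟨hx, _⟩
        exact hx
      exact hle hzΩ
    have hRp : IsPGroup p (Subgroup.zpowers z) := hSp.to_le (Subgroup.zpowers_le.mpr hzZ.1)
    have hRne : Subgroup.zpowers z ≠ ⊥ := by
      rw [Ne, Subgroup.zpowers_eq_bot]; exact hz1
    have hpara : Cfsg.IsParabolic p (Subgroup.normalizer ((Subgroup.zpowers z : Subgroup G) : Set G)) := by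
      refine ⟨S, ?_⟩
      refine le_trans ?_ (Subgroup.centralizer_le_normalizer _)
      rw [centralizer_zpowers_eq]
      intro s hs
      rw [Subgroup.mem_centralizer_iff]
      intro y hy
      rw [Set.mem_singleton_iff] at hy
      subst hy
      exact (Subgroup.mem_centralizer_iff.mp hzZ.2 s hs).symm
    have h1 := hpar _ hRp hRne hpara
    have h2 := (fstar_eq_pCore_iff_centralizer_le _).mpr h1
    exact isPGroup_fstar_centralizer_of_normalizer_zpowers z
      (by rw [h2]; exact pCore_isPGroup p)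
  · intro hz R hRp hRne hpara
    obtain ⟨T, hT⟩ := hpara
    rw [← fstar_eq_pCore_iff_centralizer_le]
    have hsup : IsPGroup p ↥(R ⊔ (T : Subgroup G)) := hRp.to_sup_of_normal_left' T.isPGroup' hT
    have hRT : R ≤ (T : Subgroup G) := by
      have := T.is_maximal' hsup le_sup_right
      rw [← this]; exact le_sup_left
    have : Group.IsNilpotent (T : Subgroup G) := T.isPGroup'.isNilpotent
    have hRn : (R.subgroupOf (T : Subgroup G)).Normal :=
      (Subgroup.normal_subgroupOf_iff_le_normalizer hRT).mpr hT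
    have hne : R.subgroupOf (T : Subgroup G) ≠ ⊥ := by
      intro h
      rw [Subgroup.subgroupOf_eq_bot] at h
      have := h.eq_bot
      rw [inf_of_le_left hRT] at this
      exact hRne this
    have hne2 := Cfsg.Agent.Lib.Lead.inf_center_ne_bot (R.subgroupOf (T : Subgroup G)) hne
    have hp2 : IsPGroup p ↥(R.subgroupOf (T : Subgroup G) ⊓ Subgroup.center (T : Subgroup G)) :=
      T.isPGroup'.to_subgroup _
    obtain ⟨x, hx, hxo⟩ := exists_orderOf_eq_prime_of_ne_bot hp2 hne2
    have hxR : (x : G) ∈ R := Subgroup.mem_subgroupOf.mp hx.1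
    have hxc : ∀ t ∈ (T : Subgroup G), t * (x : G) = (x : G) * t := by
      intro t ht
      have := Subgroup.mem_center_iff.mp hx.2 ⟨t, ht⟩
      exact congrArg Subtype.val this
    obtain ⟨g, z, hxz, hzS, hzC, hzo⟩ := exists_conj_central_sylow S T (x : G) x.2 hxc
    have hzo' : orderOf z = p := by rw [hzo, Subgroup.orderOf_coe, hxo]
    have hz1 : z ≠ 1 := by
      intro h
      rw [h, orderOf_one] at hzo'
      exact (Fact.out : p.Prime).one_lt.ne hzo'
    have hzΩ : z ∈ Cfsg.omegaOne p ((S : Subgroup G) ⊓ Subgroup.centralizer ((S : Subgroup G) : Set G)) :=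
      Subgroup.subset_closure ⟨⟨hzS, hzC⟩, by rw [← hzo']; exact pow_orderOf_eq_one z⟩
    have hF := hz z hz1 hzΩ
    have hF' : IsPGroup p (Cfsg.generalizedFittingSubgroup ↥(Subgroup.centralizer ({(x : G)} : Set G))) := by
      rw [hxz]
      exact isPGroup_fstar_centralizer_conj _ _ hF
    exact fstar_normalizer_eq_pCore_of_central hRp hxR (fun r hr => hxc r (hRT hr)) hF'

/-- `IsSylowOf` transported from a subgroup to the ambient group -/
theorem IsSylowOf.map_subtype {p : ℕ} {K : Subgroup G} {N T : Subgroup K} (h : IsSylowOf p N T) :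
    IsSylowOf p (N.map K.subtype) (T.map K.subtype) := by
  obtain ⟨hTN, hTp, hmax⟩ := h
  refine ⟨Subgroup.map_mono hTN, hTp.map _, ?_⟩
  intro Q hQ hQN hTQ
  have hQK : Q ≤ K := fun q hq => by
    obtain ⟨y, _, rfl⟩ := hQN hq
    exact y.2
  have h1 : Q.subgroupOf K = T := by
    apply hmax _ hQ.comap_subtype
    · intro y hy
      have hy' : (y : G) ∈ Q := hy
      obtain ⟨w, hw, hwy⟩ := hQN hy'
      have : w = y := Subtype.ext hwy
      rwa [← this]
    · intro t ht
      show (t : G) ∈ Q
      exact hTQ ⟨t, ht, rfl⟩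
  rw [← h1, Subgroup.subgroupOf_map_subtype]
  exact (inf_eq_left.mpr hQK).symm

/-- a Sylow subgroup meets a subnormal subgroup in a Sylow subgroup -/
theorem isSylowOf_inf_of_isSubnormal [Finite G] {p : ℕ} [Fact p.Prime] (S : Sylow p G)
    {H : Subgroup G} (hH : H.IsSubnormal) : IsSylowOf p H ((S : Subgroup G) ⊓ H) := by
  induction hH with
  | top =>
    refine ⟨inf_le_right, S.isPGroup'.to_le inf_le_left, ?_⟩
    intro Q hQ _ hle
    rw [inf_top_eq] at hle ⊢
    exact S.is_maximal' hQ hle
  | step H K hle _ hN ih =>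
    obtain ⟨PK, hPK⟩ := ih.exists_sylow
    have h1 := isSylowOf_inf_of_le_normalizer PK (H.subgroupOf K)
      (by rw [Subgroup.normalizer_eq_top_iff.mpr hN]; exact le_top)
    have h2 := IsSylowOf.map_subtype h1
    have e1 : (H.subgroupOf K).map K.subtype = H := by
      rw [Subgroup.subgroupOf_map_subtype]; exact inf_eq_left.mpr hle
    have e2 : ((PK : Subgroup K) ⊓ H.subgroupOf K).map K.subtype = (S : Subgroup G) ⊓ H := by
      rw [Subgroup.map_inf_eq _ _ _ K.subtype_injective, hPK, e1, inf_assoc, inf_eq_right.mpr hle]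
    rw [e1, e2] at h2
    exact h2

/-- the centralizer of an element of a subgroup `H`, computed in `H` -/
theorem centralizer_singleton_subgroupOf (H : Subgroup G) (z : H) :
    (Subgroup.centralizer ({(z : G)} : Set G)).subgroupOf H = Subgroup.centralizer ({z} : Set H) := by
  ext x
  rw [Subgroup.mem_subgroupOf, Subgroup.mem_centralizer_iff, Subgroup.mem_centralizer_iff]
  constructor
  · intro h y hy
    rw [Set.mem_singleton_iff] at hy
    subst hy
    exact Subtype.ext (h (y : G) rfl)
  · intro h y hy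
    rw [Set.mem_singleton_iff] at hy
    subst hy
    exact congrArg Subtype.val (h z rfl)

/-- parabolic characteristic `p` passes to a subnormal subgroup `H` with
`Ω₁(Z(S ∩ H)) ≤ Ω₁(Z(S))` -/
theorem isOfParabolicCharacteristic_of_isSubnormal [Finite G] {p : ℕ} [Fact p.Prime]
    (hG : Cfsg.IsOfParabolicCharacteristic p G) (S : Sylow p G) {H : Subgroup G}
    (hH : H.IsSubnormal)
    (hle : Cfsg.omegaOne p (((S : Subgroup G) ⊓ H) ⊓
        Subgroup.centralizer (((S : Subgroup G) ⊓ H : Subgroup G) : Set G)) ≤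
      Cfsg.omegaOne p ((S : Subgroup G) ⊓ Subgroup.centralizer ((S : Subgroup G) : Set G))) :
    Cfsg.IsOfParabolicCharacteristic p ↥H := by
  obtain ⟨SH, hSH⟩ := (isSylowOf_inf_of_isSubnormal S hH).exists_sylow
  rw [isOfParabolicCharacteristic_iff SH]
  intro z hz1 hzΩ
  have h1 : (z : G) ∈ Cfsg.omegaOne p (((S : Subgroup G) ⊓ H) ⊓
      Subgroup.centralizer (((S : Subgroup G) ⊓ H : Subgroup G) : Set G)) := by
    have hcomap : Cfsg.omegaOne p ((SH : Subgroup H) ⊓ Subgroup.centralizer ((SH : Subgroup H) : Set H)) ≤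
        (Cfsg.omegaOne p (((S : Subgroup G) ⊓ H) ⊓
          Subgroup.centralizer (((S : Subgroup G) ⊓ H : Subgroup G) : Set G))).comap H.subtype := by
      unfold Cfsg.omegaOne
      rw [Subgroup.closure_le]
      rintro x ⟨hx12, hx3⟩
      obtain ⟨hx1, hx2⟩ := Subgroup.mem_inf.mp hx12
      apply Subgroup.subset_closure
      refine ⟨Subgroup.mem_inf.mpr ⟨?_, ?_⟩, ?_⟩
      · rw [← hSH]; exact ⟨x, hx1, rfl⟩
      · rw [Subgroup.mem_centralizer_iff]
        intro y hy
        rw [SetLike.mem_coe, ← hSH] at hy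
        obtain ⟨w, hw, rfl⟩ := hy
        exact congrArg Subtype.val (Subgroup.mem_centralizer_iff.mp hx2 w hw)
      · show (x : G) ^ p = 1
        have := congrArg Subtype.val hx3
        simpa using this
    exact hcomap hzΩ
  have h2 := hle h1
  have hz1' : (z : G) ≠ 1 := fun h => hz1 (Subtype.ext h)
  have h3 := (isOfParabolicCharacteristic_iff S).mp hG (z : G) hz1' h2
  have hsn : (H.subgroupOf (Subgroup.centralizer ({(z : G)} : Set G))).IsSubnormal := hH.subgroupOf
  have h4 := isPGroup_generalizedFittingSubgroup_of_isSubnormal hsn h3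
  have e : ↥(H.subgroupOf (Subgroup.centralizer ({(z : G)} : Set G))) ≃*
      ↥(Subgroup.centralizer ({z} : Set H)) :=
    (subgroupOfSwap _ _).trans (MulEquiv.subgroupCongr (centralizer_singleton_subgroupOf H z))
  exact isPGroup_generalizedFittingSubgroup_of_mulEquiv e h4

end Cfsg.Agent.Lib.Helper6
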