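import Mathlib
import Cfsg.Prelude.Def_LocalEven
import Cfsg.Agent.Lib.Helper6.OrbitProd
import Cfsg.Agent.Lib.Helper6.ParChar2
import Cfsg.Agent.Lib.Helper6.YL
import Cfsg.Agent.Lib.Lead.CoprimeAction3

set_option autoImplicit false
open scoped IsMulCommutative

namespace Cfsg.Agent.Lib.Helper6

open Cfsg Cfsg.Agent.Lib.Lead

section
variable {H : Type*} [Group H]

theorem mem_omegaZ {p : ℕ} {T : Subgroup H} {x : H} :
    x ∈ omegaZ p T ↔ x ∈ T ∧ x ∈ Subgroup.centralizer (T : Set H) ∧ x ^ p = 1 := by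
  constructor
  · intro hx
    refine ⟨omegaZ_le p T hx, omegaZ_le_centralizer p T hx, ?_⟩
    unfold omegaZ omegaOne at hx
    induction hx using Subgroup.closure_induction with
    | mem y hy => exact hy.2
    | one => exact one_pow p
    | mul a b ha hb iha ihb =>
      have hcomm : Commute a b := by
        have h1 := (omegaOne_le p _ ha : a ∈ T ⊓ Subgroup.centralizer (T : Set H))
        have h2 := (omegaOne_le p _ hb : b ∈ T ⊓ Subgroup.centralizer (T : Set H))
        exact (Subgroup.mem_centralizer_iff.mp h2.2 a h1.1)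
      rw [hcomm.mul_pow, iha, ihb, one_mul]
    | inv a ha iha => rw [inv_pow, iha, inv_one]
  · rintro ⟨h1, h2, h3⟩
    exact Subgroup.subset_closure ⟨⟨h1, h2⟩, h3⟩

instance omegaZ_isMulCommutative (p : ℕ) (T : Subgroup H) : IsMulCommutative (omegaZ p T) := by
  refine ⟨⟨fun a b => ?_⟩⟩
  apply Subtype.ext
  have ha := mem_omegaZ.mp a.2
  have hb := mem_omegaZ.mp b.2
  exact (Subgroup.mem_centralizer_iff.mp hb.2.1 a ha.1)

theorem le_normalizer_omegaZ (p : ℕ) (T : Subgroup H) :
    Subgroup.normalizer (T : Set H) ≤ Subgroup.normalizer ((omegaZ p T : Subgroup H) : Set H) := by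
  intro g hg
  have h1 : T.map (MulAut.conj g).toMonoidHom = T := by
    ext x
    rw [mem_map_conj]
    have := Subgroup.mem_normalizer_iff.mp (Subgroup.inv_mem _ hg) x
    simp only [inv_inv] at this
    exact this.symm
  have h2 := omegaZ_map_conj p T g
  rw [h1] at h2
  rw [Subgroup.mem_normalizer_iff]
  intro x
  constructor
  · intro hx
    rw [← h2]
    exact ⟨x, hx, rfl⟩
  · intro hx
    rw [← h2] at hx
    obtain ⟨y, hy, hyx⟩ := hx
    have : y = x := by
      simp only [MulEquiv.coe_toMonoidHom, MulAut.conj_apply] at hyx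
      have h3 : g⁻¹ * (g * y * g⁻¹) * g = g⁻¹ * (g * x * g⁻¹) * g := by rw [hyx]
      have e1 : g⁻¹ * (g * y * g⁻¹) * g = y := by group
      have e2 : g⁻¹ * (g * x * g⁻¹) * g = x := by group
      rwa [e1, e2] at h3
    rwa [← this]

variable [Finite H] {p : ℕ} [hp : Fact p.Prime]

theorem IsSylowOf.not_dvd_relIndex {K S : Subgroup H} (h : IsSylowOf p K S) :
    ¬ p ∣ S.relIndex K := by
  obtain ⟨P, hP⟩ := h.exists_sylow
  have h1 : S.subgroupOf K = P := by
    rw [← hP]
    exact Subgroup.comap_map_eq_self_of_injective K.subtype_injective _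
  rw [Subgroup.relIndex, h1]
  exact P.not_dvd_index

/-- a `p`-subgroup normalised by `K` lies in every Sylow `p`-subgroup of `K` -/
theorem IsSylowOf.normal_le {K S P : Subgroup H} (h : IsSylowOf p K S) (hP : IsPGroup p P)
    (hPK : P ≤ K) (hKP : K ≤ Subgroup.normalizer (P : Set H)) : P ≤ S := by
  have h1 : IsPGroup p (S ⊔ P : Subgroup H) :=
    IsPGroup.to_sup_of_normal_right' h.2.1 hP (h.1.trans hKP)
  have h2 := h.2.2 _ h1 (sup_le h.1 hPK) le_sup_left
  rw [← h2]; exact le_sup_right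

theorem IsSylowOf.inf_of_normal {K S E : Subgroup H} (h : IsSylowOf p K S) (hEK : E ≤ K)
    (hKE : K ≤ Subgroup.normalizer (E : Set H)) : IsSylowOf p E (S ⊓ E) := by
  obtain ⟨PK, hPK⟩ := h.exists_sylow
  haveI hN : (E.subgroupOf K).Normal := (Subgroup.normal_subgroupOf_iff_le_normalizer hEK).mpr hKE
  have h1 := isSylowOf_inf_of_le_normalizer PK (E.subgroupOf K)
    (by rw [Subgroup.normalizer_eq_top_iff.mpr hN]; exact le_top)
  have h2 := IsSylowOf.map_subtype h1
  have e1 : (E.subgroupOf K).map K.subtype = E := by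
    rw [Subgroup.subgroupOf_map_subtype]; exact inf_eq_left.mpr hEK
  have e2 : ((PK : Subgroup K) ⊓ E.subgroupOf K).map K.subtype = S ⊓ E := by
    rw [Subgroup.map_inf_eq _ _ _ K.subtype_injective, hPK, e1]
  rw [e1, e2] at h2
  exact h2

omit [Finite H] in
/-- an element commuting with a coprime power of an element of order dividing `p` commutes with it -/
theorem commute_of_pow_coprime {x g : H} {m : ℕ} (hx : x ^ p = 1) (hm : m.Coprime p)
    (h : g * x ^ m = x ^ m * g) : g * x = x * g := by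
  have h1 : m.Coprime (orderOf x) :=
    Nat.Coprime.coprime_dvd_right (orderOf_dvd_of_pow_eq_one hx) hm
  obtain ⟨k, hk⟩ := exists_pow_eq_self_of_coprime h1
  have h2 : Commute g (x ^ m) := h
  have h3 : Commute g ((x ^ m) ^ k) := h2.pow_right k
  rw [hk] at h3
  exact h3

omit [Finite H] hp in
theorem normalizer_le_normalizer_centralizer' (A : Subgroup H) :
    Subgroup.normalizer (A : Set H) ≤
      Subgroup.normalizer ((Subgroup.centralizer (A : Set H) : Subgroup H) : Set H) := by
  have key : ∀ g ∈ Subgroup.normalizer (A : Set H), ∀ c ∈ Subgroup.centralizer (A : Set H),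
      g * c * g⁻¹ ∈ Subgroup.centralizer (A : Set H) := by
    intro g hg c hc
    rw [Subgroup.mem_centralizer_iff]
    intro a ha
    have ha' : g⁻¹ * a * g ∈ A := by
      have := (Subgroup.mem_normalizer_iff.mp (Subgroup.inv_mem _ hg) a).mp ha
      simpa using this
    have h1 := Subgroup.mem_centralizer_iff.mp hc _ ha'
    calc a * (g * c * g⁻¹) = g * ((g⁻¹ * a * g) * c) * g⁻¹ := by group
      _ = g * (c * (g⁻¹ * a * g)) * g⁻¹ := by rw [h1]
      _ = g * c * g⁻¹ * a := by group
  intro g hg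
  rw [Subgroup.mem_normalizer_iff]
  intro c
  constructor
  · exact key g hg c
  · intro h
    have := key g⁻¹ (Subgroup.inv_mem _ hg) _ h
    have e1 : g⁻¹ * (g * c * g⁻¹) * g⁻¹⁻¹ = c := by group
    rwa [e1] at this

omit [Finite H] hp in
theorem normalizer_inf_le' (A B : Subgroup H) :
    Subgroup.normalizer (A : Set H) ⊓ Subgroup.normalizer (B : Set H) ≤
      Subgroup.normalizer ((A ⊓ B : Subgroup H) : Set H) := by
  intro y hy
  rw [Subgroup.mem_normalizer_iff]
  intro x
  rw [Subgroup.mem_inf, Subgroup.mem_inf, ← (Subgroup.mem_normalizer_iff.mp hy.1) x,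
    ← (Subgroup.mem_normalizer_iff.mp hy.2) x]

/-- **Kieler Lemma**, normal case, first inclusion. -/
theorem kieler_normal_aux1 (K E S Q : Subgroup H)
    (hQK : Q ≤ K) (hKQ : K ≤ Subgroup.normalizer (Q : Set H))
    (hCQ : Subgroup.centralizer (Q : Set H) ⊓ K ≤ Q) (hQS : Q ≤ S)
    (hS : IsSylowOf p K S) (hEK : E ≤ K) (hKE : K ≤ Subgroup.normalizer (E : Set H)) :
    E ⊓ Subgroup.centralizer ((omegaZ p (S ⊓ E) : Subgroup H) : Set H) ≤
      Subgroup.centralizer ((omegaZ p S : Subgroup H) : Set H) := by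
  classical
  set T₀ := S ⊓ E with hT₀
  have hT₀S : IsSylowOf p E T₀ := hS.inf_of_normal hEK hKE
  set D := E ⊓ Subgroup.centralizer ((omegaZ p T₀ : Subgroup H) : Set H) with hD
  set M := omegaZ p Q with hM
  have hKM : K ≤ Subgroup.normalizer (M : Set H) := hKQ.trans (le_normalizer_omegaZ p Q)
  have hDM : D ≤ Subgroup.normalizer (M : Set H) := (inf_le_left.trans hEK).trans hKM
  have hT₀D : T₀ ≤ D := by
    refine le_inf inf_le_right ?_
    intro t ht
    rw [Subgroup.mem_centralizer_iff]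
    intro y hy
    exact (Subgroup.mem_centralizer_iff.mp (omegaZ_le_centralizer p T₀ hy) t ht).symm
  intro g hg
  rw [Subgroup.mem_centralizer_iff]
  intro z hz
  obtain ⟨hzS, hzC, hzp⟩ := mem_omegaZ.mp hz
  have hzK : z ∈ K := hS.1 hzS
  have hzQ : z ∈ Q := hCQ ⟨Subgroup.centralizer_le (fun y hy => hQS hy) hzC, hzK⟩
  have hzM : z ∈ M := mem_omegaZ.mpr
    ⟨hzQ, Subgroup.centralizer_le (fun y hy => hQS hy) hzC, hzp⟩
  set w : M := ⟨z, hzM⟩ with hw
  have hRw : T₀ ≤ Subgroup.centralizer ({(w : H)} : Set H) := by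
    intro t ht
    rw [Subgroup.mem_centralizer_singleton_iff]
    exact (Subgroup.mem_centralizer_iff.mp hzC t ht.1)
  set m := (orbFin M D w).card with hm
  have hmdvd : m ∣ T₀.relIndex D := card_orbFin_dvd M D hDM w T₀ hT₀D hRw
  have hmcop : m.Coprime p := by
    rw [Nat.coprime_comm, Nat.Prime.coprime_iff_not_dvd hp.out]
    intro hpm
    apply hT₀S.not_dvd_relIndex
    rw [← Subgroup.relIndex_mul_relIndex T₀ D E hT₀D inf_le_left]
    exact (hpm.trans hmdvd).mul_right _
  set σ := orbProd M D w with hσ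
  have hσC : (σ : H) ∈ Subgroup.centralizer (D : Set H) := orbProd_mem_centralizer M D hDM w
  set u : M := w ^ m * σ⁻¹ with hu
  have huE : (u : H) ∈ E := by
    apply pow_card_mul_inv_orbProd_mem M D w E
    intro d hd
    have hdE : d ∈ E := hd.1
    have h1 : z * d * z⁻¹ ∈ E := (Subgroup.mem_normalizer_iff.mp (hKE hzK) d).mp hdE
    have : (w : H) * (d * w * d⁻¹)⁻¹ = (z * d * z⁻¹) * d⁻¹ := by
      show z * (d * z * d⁻¹)⁻¹ = _
      group
    rw [this]
    exact E.mul_mem h1 (E.inv_mem hdE)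
  have huZ : (u : H) ∈ omegaZ p T₀ := by
    rw [mem_omegaZ]
    refine ⟨⟨hQS (omegaZ_le p Q u.2), huE⟩, ?_, (mem_omegaZ.mp u.2).2.2⟩
    have h1 : (w : H) ∈ Subgroup.centralizer (T₀ : Set H) :=
      Subgroup.centralizer_le (fun y hy => hy.1) hzC
    have h2 : (σ : H) ∈ Subgroup.centralizer (T₀ : Set H) :=
      Subgroup.centralizer_le (fun y hy => hT₀D hy) hσC
    have : (u : H) = (w : H) ^ m * (σ : H)⁻¹ := by
      rw [hu, Subgroup.coe_mul, Subgroup.coe_pow, Subgroup.coe_inv]
    rw [this]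
    exact Subgroup.mul_mem _ (Subgroup.pow_mem _ h1 m) (Subgroup.inv_mem _ h2)
  have h1 : (u : H) * g = g * u := Subgroup.mem_centralizer_iff.mp hg.2 u huZ
  have h2 : g * (σ : H) = σ * g := Subgroup.mem_centralizer_iff.mp hσC g hg
  have h3 : z ^ m = (u : H) * σ := by
    have : w ^ m = u * σ := by rw [hu]; group
    have := congrArg Subtype.val this
    rwa [Subgroup.coe_pow, Subgroup.coe_mul] at this
  have h4 : g * z ^ m = z ^ m * g := by
    rw [h3, ← mul_assoc, ← h1, mul_assoc, h2, mul_assoc]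
  exact (commute_of_pow_coprime hzp hmcop h4).symm

/-- **Kieler Lemma**, normal case, second inclusion. -/
theorem kieler_normal_aux2 (K E S QE : Subgroup H)
    (hQEE : QE ≤ E) (hKQE : K ≤ Subgroup.normalizer (QE : Set H))
    (hCQE : Subgroup.centralizer (QE : Set H) ⊓ E ≤ QE) (hQES : QE ≤ S)
    (hS : IsSylowOf p K S) (hEK : E ≤ K) (hKE : K ≤ Subgroup.normalizer (E : Set H)) :
    E ⊓ Subgroup.centralizer ((omegaZ p S : Subgroup H) : Set H) ≤
      Subgroup.centralizer ((omegaZ p (S ⊓ E) : Subgroup H) : Set H) := by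
  classical
  set T₀ := S ⊓ E with hT₀
  have hT₀S : IsSylowOf p E T₀ := hS.inf_of_normal hEK hKE
  have hQET₀ : QE ≤ T₀ := le_inf hQES hQEE
  set D := E ⊓ Subgroup.centralizer ((omegaZ p S : Subgroup H) : Set H) with hD
  set M := omegaZ p QE with hM
  have hKM : K ≤ Subgroup.normalizer (M : Set H) := hKQE.trans (le_normalizer_omegaZ p QE)
  have hDM : D ≤ Subgroup.normalizer (M : Set H) := (inf_le_left.trans hEK).trans hKM
  have hMS : M ≤ S := (omegaZ_le p QE).trans hQES
  have hSK : S ≤ K := hS.1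
  have hScent : S ≤ Subgroup.centralizer ((omegaZ p S : Subgroup H) : Set H) := by
    intro t ht
    rw [Subgroup.mem_centralizer_iff]
    intro y hy
    exact (Subgroup.mem_centralizer_iff.mp (omegaZ_le_centralizer p S hy) t ht).symm
  have hT₀D : T₀ ≤ D := le_inf inf_le_right (inf_le_left.trans hScent)
  have hSD : S ≤ Subgroup.normalizer (D : Set H) := by
    refine le_trans (le_inf (hSK.trans hKE) ?_) (normalizer_inf_le' _ _)
    exact (Subgroup.le_normalizer.trans (le_normalizer_omegaZ p S)).trans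
      (normalizer_le_normalizer_centralizer' _)
  have hST₀ : S ≤ Subgroup.normalizer (T₀ : Set H) :=
    le_trans (le_inf Subgroup.le_normalizer (hSK.trans hKE)) (normalizer_inf_le' _ _)
  set W := M ⊓ Subgroup.centralizer (T₀ : Set H) with hW
  set W₀ := M ⊓ Subgroup.centralizer (D : Set H) with hW₀
  have hSW : S ≤ Subgroup.normalizer (W : Set H) :=
    le_trans (le_inf (hSK.trans hKM) (hST₀.trans (normalizer_le_normalizer_centralizer' _)))
      (normalizer_inf_le' _ _)
  -- key claim
  have hWW₀ : W ≤ W₀ := by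
    by_contra hne
    obtain ⟨A, hAmin⟩ := exists_minimal_of_wellFoundedLT
      (fun A : Subgroup H => A ≤ W ∧ S ≤ Subgroup.normalizer (A : Set H) ∧ ¬ A ≤ W₀)
      ⟨W, le_rfl, hSW, hne⟩
    obtain ⟨hAW, hSA, hAW₀⟩ := hAmin.prop
    haveI : Group.IsNilpotent S := hS.2.1.isNilpotent
    have hB : ⁅A, S⁆ ≤ W₀ := by
      by_contra hBn
      have hBA : ⁅A, S⁆ ≤ A := commutator_le_left_of_le_normalizer A S hSA
      have h1 : A ≤ ⁅A, S⁆ := hAmin.le_of_le
        ⟨hBA.trans hAW, le_normalizer_commutator_right A S hSA, hBn⟩ hBA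
      have h2 := eq_bot_of_le_commutator_nilpotent S A ((hAW.trans inf_le_left).trans hMS) h1
      exact hAW₀ (h2 ▸ bot_le)
    obtain ⟨w, hwA, hwW₀⟩ := SetLike.not_le_iff_exists.mp hAW₀
    have hwW : w ∈ W := hAW hwA
    have hwM : w ∈ M := hwW.1
    have hwp : w ^ p = 1 := (mem_omegaZ.mp hwM).2.2
    set w' : M := ⟨w, hwM⟩ with hw'
    have hRw : T₀ ≤ Subgroup.centralizer ({(w' : H)} : Set H) := by
      intro t ht
      rw [Subgroup.mem_centralizer_singleton_iff]
      exact (Subgroup.mem_centralizer_iff.mp hwW.2 t ht)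
    set m := (orbFin M D w').card with hm
    have hmdvd : m ∣ T₀.relIndex D := card_orbFin_dvd M D hDM w' T₀ hT₀D hRw
    have hmcop : m.Coprime p := by
      rw [Nat.coprime_comm, Nat.Prime.coprime_iff_not_dvd hp.out]
      intro hpm
      apply hT₀S.not_dvd_relIndex
      rw [← Subgroup.relIndex_mul_relIndex T₀ D E hT₀D inf_le_left]
      exact (hpm.trans hmdvd).mul_right _
    set σ := orbProd M D w' with hσ
    have hσC : (σ : H) ∈ Subgroup.centralizer (D : Set H) := orbProd_mem_centralizer M D hDM w'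
    set v : M := w' ^ m * σ⁻¹ with hv
    -- `v` is centralised by `S`
    have hvS : (v : H) ∈ Subgroup.centralizer (S : Set H) := by
      rw [Subgroup.mem_centralizer_iff]
      intro s hs
      have hsM : s ∈ Subgroup.normalizer (M : Set H) := hKM (hSK hs)
      have hsD : s ∈ Subgroup.normalizer (D : Set H) := hSD hs
      have hc : s * w * s⁻¹ * w⁻¹ ∈ W₀ := by
        apply hB
        rw [Subgroup.commutator_comm]
        exact Subgroup.commutator_mem_commutator hs hwA
      set c' : M := ⟨s * w * s⁻¹ * w⁻¹, hc.1⟩ with hc'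
      have h1 : conjHom M s hsM w' = w' * c' := by
        apply Subtype.ext
        show s * w * s⁻¹ = w * (s * w * s⁻¹ * w⁻¹)
        have hsw : s * w * s⁻¹ ∈ M := (Subgroup.mem_normalizer_iff.mp hsM w).mp hwM
        have hcomm : w * (s * w * s⁻¹) = (s * w * s⁻¹) * w := by
          have := mul_comm (⟨w, hwM⟩ : M) ⟨s * w * s⁻¹, hsw⟩
          exact congrArg Subtype.val this
        calc s * w * s⁻¹ = (s * w * s⁻¹) * w * w⁻¹ := by group
          _ = w * (s * w * s⁻¹) * w⁻¹ := by rw [hcomm]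
          _ = w * (s * w * s⁻¹ * w⁻¹) := by group
      have h2 : conjHom M s hsM σ = σ * c' ^ m := by
        rw [hσ, conjHom_orbProd M D hDM s hsM hsD w', h1, orbProd_mul_fixed M D hDM w' c' hc.2]
      have h3 : conjHom M s hsM v = v := by
        rw [hv, map_mul, map_pow, map_inv, h1, h2, mul_pow, mul_inv, mul_mul_mul_comm,
          mul_inv_cancel, mul_one]
      have h4 := congrArg Subtype.val h3
      simp only [conjHom_coe] at h4
      calc s * (v : H) = (s * v * s⁻¹) * s := by group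
        _ = v * s := by rw [h4]
    have hvZ : (v : H) ∈ omegaZ p S :=
      mem_omegaZ.mpr ⟨hMS v.2, hvS, (mem_omegaZ.mp v.2).2.2⟩
    have hvD : (v : H) ∈ Subgroup.centralizer (D : Set H) := by
      rw [Subgroup.mem_centralizer_iff]
      intro d hd
      exact (Subgroup.mem_centralizer_iff.mp hd.2 v hvZ).symm
    have h5 : w ^ m = (v : H) * σ := by
      have : w' ^ m = v * σ := by rw [hv]; group
      have := congrArg Subtype.val this
      rwa [Subgroup.coe_pow, Subgroup.coe_mul] at this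
    have h6 : w ^ m ∈ Subgroup.centralizer (D : Set H) := by
      rw [h5]; exact Subgroup.mul_mem _ hvD hσC
    apply hwW₀
    refine ⟨hwM, ?_⟩
    show w ∈ Subgroup.centralizer (D : Set H)
    rw [Subgroup.mem_centralizer_iff]
    intro d hd
    have h7 := Subgroup.mem_centralizer_iff.mp h6 d hd
    exact commute_of_pow_coprime hwp hmcop h7
  intro g hg
  rw [Subgroup.mem_centralizer_iff]
  intro y hy
  obtain ⟨hyT, hyC, hyp⟩ := mem_omegaZ.mp hy
  have hyQE : y ∈ QE := hCQE ⟨Subgroup.centralizer_le (fun x hx => hQET₀ hx) hyC, hyT.2⟩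
  have hyM : y ∈ M := mem_omegaZ.mpr
    ⟨hyQE, Subgroup.centralizer_le (fun x hx => hQET₀ hx) hyC, hyp⟩
  have := hWW₀ ⟨hyM, hyC⟩
  exact (Subgroup.mem_centralizer_iff.mp this.2 g hg).symm

end

end Cfsg.Agent.Lib.Helper6
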