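import Mathlib
import Cfsg.Agent.Lib.Helper6.ParChar2
import Cfsg.Agent.Lib.Helper6.Kieler
import Cfsg.Agent.Lib.Helper7.Wielandt3
import Cfsg.Agent.Lib.Lead.CoprimeAction2
import Cfsg.Agent.S0051

set_option autoImplicit false

/-!
# Sylow subgroups of a join of subnormal subgroups

If `A`, `B` are subnormal in the finite group `G` and `S` is a Sylow `p`-subgroup of `G`, then
`S ⊓ (A ⊔ B) = (S ⊓ A) ⊔ (S ⊓ B)`  (Wielandt).
-/

namespace Cfsg.Agent.Lib.Helper6

open Cfsg.Agent.Lib.Helper7 Cfsg.Agent.Lib.Lead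
open scoped commutatorElement

universe u

section basic
variable {G : Type u} [Group G]

/-- If `A` is normal, `A ⊔ B = ⊤` and `S ⊓ B` is a Sylow subgroup of `B`, then
`S = (S ⊓ A)(S ⊓ B)`. -/
theorem sylow_le_sup_of_normal [Finite G] {p : ℕ} [Fact p.Prime] (S : Sylow p G)
    {A B : Subgroup G} [hAn : A.Normal] (hAB : A ⊔ B = ⊤)
    (hB : IsSylowOf p B ((S : Subgroup G) ⊓ B)) :
    (S : Subgroup G) ≤ ((S : Subgroup G) ⊓ A) ⊔ ((S : Subgroup G) ⊓ B) := by
  obtain ⟨P, hP⟩ := hB.exists_sylow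
  set f : B →* G ⧸ A := (QuotientGroup.mk' A).comp B.subtype with hf
  have hfs : Function.Surjective f := by
    intro x
    obtain ⟨g, rfl⟩ := QuotientGroup.mk'_surjective A x
    have hg : g ∈ A ⊔ B := by rw [hAB]; exact Subgroup.mem_top g
    rw [← SetLike.mem_coe, Subgroup.normal_mul, Set.mem_mul] at hg
    obtain ⟨a, ha, b, hb, rfl⟩ := hg
    refine ⟨⟨b, hb⟩, ?_⟩
    show (QuotientGroup.mk' A) b = (QuotientGroup.mk' A) (a * b)
    have ha1 : (QuotientGroup.mk' A) a = 1 := (QuotientGroup.eq_one_iff a).mpr ha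
    rw [map_mul, ha1, one_mul]
  set P' : Sylow p (G ⧸ A) := P.mapSurjective hfs with hP'
  set S' : Sylow p (G ⧸ A) := S.mapSurjective (QuotientGroup.mk'_surjective A) with hS'
  have hle : (P' : Subgroup (G ⧸ A)) ≤ S' := by
    rw [hP', hS', Sylow.coe_mapSurjective, Sylow.coe_mapSurjective]
    rintro _ ⟨b, hb, rfl⟩
    have hbS : (b : G) ∈ (S : Subgroup G) ⊓ B := by rw [← hP]; exact ⟨b, hb, rfl⟩
    exact ⟨(b : G), hbS.1, rfl⟩
  have heq : (S' : Subgroup (G ⧸ A)) = P' := P'.is_maximal' S'.isPGroup' hle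
  intro s hs
  have h1 : (QuotientGroup.mk' A) s ∈ (S' : Subgroup (G ⧸ A)) := by
    rw [hS', Sylow.coe_mapSurjective]; exact ⟨s, hs, rfl⟩
  rw [heq, hP', Sylow.coe_mapSurjective] at h1
  obtain ⟨b, hb, hbs⟩ := h1
  have hbS : (b : G) ∈ (S : Subgroup G) ⊓ B := by rw [← hP]; exact ⟨b, hb, rfl⟩
  have hbs' : (QuotientGroup.mk' A) (b : G) = (QuotientGroup.mk' A) s := hbs
  have h2 : (b : G)⁻¹ * s ∈ A := by
    rw [← QuotientGroup.eq_one_iff, ← QuotientGroup.mk'_apply, map_mul, map_inv, hbs']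
    simp
  have h3 : (b : G)⁻¹ * s ∈ (S : Subgroup G) ⊓ A :=
    ⟨Subgroup.mul_mem _ (Subgroup.inv_mem _ hbS.1) hs, h2⟩
  have : s = (b : G) * ((b : G)⁻¹ * s) := by group
  rw [this]
  exact Subgroup.mul_mem _ (Subgroup.mem_sup_right hbS) (Subgroup.mem_sup_left h3)

/-- descent of the Sylow-join property from a quotient -/
theorem sylow_join_of_quotient (S K A B : Subgroup G) [K.Normal]
    (h : S.map (QuotientGroup.mk' K) ≤
      (S.map (QuotientGroup.mk' K) ⊓ A.map (QuotientGroup.mk' K)) ⊔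
        (S.map (QuotientGroup.mk' K) ⊓ B.map (QuotientGroup.mk' K)))
    (hA : ∀ s ∈ S, ∀ a ∈ A, a⁻¹ * s ∈ K → ∃ s' ∈ S ⊓ A, s'⁻¹ * s ∈ K)
    (hB : ∀ s ∈ S, ∀ b ∈ B, b⁻¹ * s ∈ K → ∃ s' ∈ S ⊓ B, s'⁻¹ * s ∈ K) :
    S ≤ ((S ⊓ A) ⊔ (S ⊓ B)) ⊔ (S ⊓ K) := by
  have key : ∀ (X : Subgroup G), (∀ s ∈ S, ∀ a ∈ X, a⁻¹ * s ∈ K → ∃ s' ∈ S ⊓ X, s'⁻¹ * s ∈ K) →
      S.map (QuotientGroup.mk' K) ⊓ X.map (QuotientGroup.mk' K) ≤
        (S ⊓ X).map (QuotientGroup.mk' K) := by
    intro X hX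
    rintro _ ⟨⟨s, hs, rfl⟩, ⟨a, ha, hsa⟩⟩
    have h1 : a⁻¹ * s ∈ K := by
      rw [← QuotientGroup.eq_one_iff, ← QuotientGroup.mk'_apply, map_mul, map_inv, hsa]
      simp
    obtain ⟨s', hs', h2⟩ := hX s hs a ha h1
    refine ⟨s', hs', ?_⟩
    have h3 : (QuotientGroup.mk' K) (s'⁻¹ * s) = 1 := (QuotientGroup.eq_one_iff _).mpr h2
    rw [map_mul, map_inv] at h3
    exact (inv_mul_eq_one.mp h3)
  have h2 : S.map (QuotientGroup.mk' K) ≤ ((S ⊓ A) ⊔ (S ⊓ B)).map (QuotientGroup.mk' K) := by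
    rw [Subgroup.map_sup]
    exact h.trans (sup_le_sup (key A hA) (key B hB))
  intro s hs
  obtain ⟨t, ht, hts⟩ := h2 ⟨s, hs, rfl⟩
  have htS : t ∈ S := (sup_le inf_le_left inf_le_left : (S ⊓ A) ⊔ (S ⊓ B) ≤ S) ht
  have h3 : t⁻¹ * s ∈ K := by
    rw [← QuotientGroup.eq_one_iff, ← QuotientGroup.mk'_apply, map_mul, map_inv, hts]
    simp
  have : s = t * (t⁻¹ * s) := by group
  rw [this]
  exact Subgroup.mul_mem _ (Subgroup.mem_sup_left ht)
    (Subgroup.mem_sup_right ⟨Subgroup.mul_mem _ (Subgroup.inv_mem _ htS) hs, h3⟩)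

theorem card_quotient_lt [Finite G] (K : Subgroup G) [K.Normal] (hK : K ≠ ⊥) :
    Nat.card (G ⧸ K) < Nat.card G := by
  have h1 := Subgroup.card_eq_card_quotient_mul_card_subgroup K
  have h2 : 1 < Nat.card K := K.one_lt_card_iff_ne_bot.mpr hK
  have h3 : 0 < Nat.card (G ⧸ K) := Nat.card_pos
  nlinarith

theorem card_subgroup_lt [Finite G] (K : Subgroup G) (hK : K ≠ ⊤) :
    Nat.card K < Nat.card G := by
  have := card_lt_of_lt (lt_top_iff_ne_top.mpr hK)
  rwa [Subgroup.card_top] at this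

theorem commutatorElement_central_mul_left {z : G} (hz : ∀ x : G, z * x = x * z) (x y : G) :
    ⁅z * x, y⁆ = ⁅x, y⁆ := by
  rw [commutatorElement_def, commutatorElement_def]
  have h1 : z * x * y * (z * x)⁻¹ * y⁻¹ = z * (x * y * x⁻¹) * z⁻¹ * y⁻¹ := by group
  rw [h1, hz (x * y * x⁻¹)]
  group

theorem commutatorElement_central_mul_right {z : G} (hz : ∀ x : G, z * x = x * z) (x y : G) :
    ⁅x, z * y⁆ = ⁅x, y⁆ := by
  rw [commutatorElement_def, commutatorElement_def]
  have h1 : x * (z * y) * x⁻¹ * (z * y)⁻¹ = x * z * (y * x⁻¹ * y⁻¹) * z⁻¹ := by group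
  rw [h1, ← hz x, mul_assoc z, hz (x * (y * x⁻¹ * y⁻¹))]
  group

/-- a central subgroup with a complement contains no commutators -/
theorem commutator_le_of_isComplement'_central {E J : Subgroup G}
    (hE : ∀ e ∈ E, ∀ x : G, e * x = x * e) (hc : Subgroup.IsComplement' E J) :
    ⁅(⊤ : Subgroup G), (⊤ : Subgroup G)⁆ ≤ J := by
  rw [Subgroup.commutator_le]
  intro g₁ _ g₂ _
  obtain ⟨⟨e₁, j₁⟩, h1, -⟩ := (Subgroup.isComplement_iff_existsUnique.mp hc) g₁
  obtain ⟨⟨e₂, j₂⟩, h2, -⟩ := (Subgroup.isComplement_iff_existsUnique.mp hc) g₂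
  simp only at h1 h2
  rw [← h1, ← h2, commutatorElement_central_mul_left (hE e₁ e₁.2),
    commutatorElement_central_mul_right (hE e₂ e₂.2)]
  rw [commutatorElement_def]
  exact J.mul_mem (J.mul_mem (J.mul_mem j₁.2 j₂.2) (J.inv_mem j₁.2)) (J.inv_mem j₂.2)

end basic

/-- the reduction step: enlarge `A` by `M ⊓ B` -/
theorem sylow_join_step {G : Type u} [Group G] [Finite G] {p : ℕ} [Fact p.Prime]
    (IHn : ∀ (K : Type u) [Group K] [Finite K], Nat.card K < Nat.card G →
      ∀ (A B : Subgroup K), A.IsSubnormal → B.IsSubnormal → A ⊔ B = ⊤ →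
      ∀ S : Sylow p K, (S : Subgroup K) ≤ ((S : Subgroup K) ⊓ A) ⊔ ((S : Subgroup K) ⊓ B))
    (A B : Subgroup G) (hA : A.IsSubnormal) (hB : B.IsSubnormal) (hAB : A ⊔ B = ⊤)
    (IHk : ∀ A' : Subgroup G, A < A' → A'.IsSubnormal → A' ⊔ B = ⊤ →
      ∀ S : Sylow p G, (S : Subgroup G) ≤ ((S : Subgroup G) ⊓ A') ⊔ ((S : Subgroup G) ⊓ B))
    (S : Sylow p G) (hAtop : A ≠ ⊤)
    (hcon : ¬ (S : Subgroup G) ≤ ((S : Subgroup G) ⊓ A) ⊔ ((S : Subgroup G) ⊓ B)) :
    Subgroup.normalClosure (A : Set G) ⊓ B ≤ A := by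
  by_contra hMB
  apply hcon
  set M := Subgroup.normalClosure (A : Set G) with hM
  have hAM : A ≤ M := Subgroup.le_normalClosure
  have hMtop : M ≠ ⊤ := by
    obtain ⟨K, hKn, hAK, hKtop⟩ := hA.exists_normal_and_le_and_lt_top_of_ne hAtop
    intro h
    have h1 : M ≤ K := Subgroup.normalClosure_le_normal hAK
    rw [h] at h1
    exact (lt_of_lt_of_le hKtop h1).false
  set A' := A ⊔ (M ⊓ B) with hA'
  have hMBsn : (M ⊓ B).IsSubnormal :=
    (Subgroup.Normal.isSubnormal (Subgroup.normalClosure_normal)).inf hB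
  have hA'sn : A'.IsSubnormal := isSubnormal_sup hA hMBsn
  have hA'M : A' ≤ M := sup_le hAM inf_le_left
  have hA'top : A' ≠ ⊤ := fun h => hMtop (top_le_iff.mp (h ▸ hA'M))
  have hAA' : A < A' := by
    refine lt_of_le_of_ne le_sup_left ?_
    intro h
    apply hMB
    rw [h]
    exact le_sup_right
  have h1 : (S : Subgroup G) ⊓ A' ≤ ((S : Subgroup G) ⊓ A) ⊔ ((S : Subgroup G) ⊓ B) := by
    have hSyl : IsSylowOf p A' ((S : Subgroup G) ⊓ A') := isSylowOf_inf_of_isSubnormal S hA'sn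
    obtain ⟨P, hP⟩ := hSyl.exists_sylow
    have hsup : A.subgroupOf A' ⊔ (M ⊓ B).subgroupOf A' = ⊤ := by
      rw [← Subgroup.subgroupOf_sup le_sup_left le_sup_right]
      exact Subgroup.subgroupOf_self _
    have := IHn (↥A') (card_subgroup_lt A' hA'top) (A.subgroupOf A') ((M ⊓ B).subgroupOf A')
      hA.subgroupOf hMBsn.subgroupOf hsup P
    have h2 := Subgroup.map_mono (f := A'.subtype) this
    rw [hP, Subgroup.map_sup, Subgroup.map_inf_eq _ _ _ A'.subtype_injective,
      Subgroup.map_inf_eq _ _ _ A'.subtype_injective, hP, Subgroup.subgroupOf_map_subtype,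
      Subgroup.subgroupOf_map_subtype] at h2
    refine h2.trans (sup_le ?_ ?_)
    · exact le_sup_of_le_left (le_inf (inf_le_left.trans inf_le_left) (inf_le_right.trans inf_le_left))
    · exact le_sup_of_le_right (le_inf (inf_le_left.trans inf_le_left)
        (inf_le_right.trans (inf_le_left.trans inf_le_right)))
  have h2 := IHk A' hAA' hA'sn (top_le_iff.mp (hAB ▸ sup_le_sup_right le_sup_left B)) S
  exact h2.trans (sup_le h1 le_sup_right)

/-- the core case of the Sylow join theorem -/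
theorem sylow_join_core {G : Type u} [Group G] [Finite G] {p : ℕ} [Fact p.Prime]
    (IHn : ∀ (K : Type u) [Group K] [Finite K], Nat.card K < Nat.card G →
      ∀ (A B : Subgroup K), A.IsSubnormal → B.IsSubnormal → A ⊔ B = ⊤ →
      ∀ S : Sylow p K, (S : Subgroup K) ≤ ((S : Subgroup K) ⊓ A) ⊔ ((S : Subgroup K) ⊓ B))
    (A B : Subgroup G) (hA : A.IsSubnormal) (hB : B.IsSubnormal) (hAB : A ⊔ B = ⊤)
    (hMB : Subgroup.normalClosure (A : Set G) ⊓ B ≤ A)
    (hNA : Subgroup.normalClosure (B : Set G) ⊓ A ≤ B)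
    (S : Sylow p G) :
    (S : Subgroup G) ≤ ((S : Subgroup G) ⊓ A) ⊔ ((S : Subgroup G) ⊓ B) := by
  set M := Subgroup.normalClosure (A : Set G) with hM
  set N := Subgroup.normalClosure (B : Set G) with hN
  have hAM : A ≤ M := Subgroup.le_normalClosure
  have hBN : B ≤ N := Subgroup.le_normalClosure
  haveI hMn : M.Normal := Subgroup.normalClosure_normal
  haveI hNn : N.Normal := Subgroup.normalClosure_normal
  set T₀ := ((S : Subgroup G) ⊓ A) ⊔ ((S : Subgroup G) ⊓ B) with hT₀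
  have hT₀S : T₀ ≤ (S : Subgroup G) := sup_le inf_le_left inf_le_left
  have hD1 : A ⊓ B = M ⊓ B := le_antisymm (inf_le_inf_right B hAM) (le_inf hMB inf_le_right)
  have hD2 : A ⊓ B = N ⊓ A := le_antisymm (le_inf (inf_le_right.trans hBN) inf_le_left)
    (le_inf inf_le_right hNA)
  have hDn : (A ⊓ B).Normal := by
    rw [← Subgroup.normalizer_eq_top_iff, eq_top_iff, ← hAB]
    apply sup_le
    · rw [hD2]
      refine le_trans ?_ (normalizer_inf_le' N A)
      rw [Subgroup.normalizer_eq_top_iff.mpr hNn]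
      exact le_inf le_top Subgroup.le_normalizer
    · rw [hD1]
      refine le_trans ?_ (normalizer_inf_le' M B)
      rw [Subgroup.normalizer_eq_top_iff.mpr hMn]
      exact le_inf le_top Subgroup.le_normalizer
  by_cases hD : A ⊓ B = ⊥
  swap
  · -- quotient by `D`
    have hq := IHn (G ⧸ (A ⊓ B)) (card_quotient_lt _ hD) (A.map (QuotientGroup.mk' (A ⊓ B)))
      (B.map (QuotientGroup.mk' (A ⊓ B)))
      (hA.map (QuotientGroup.mk'_surjective _)) (hB.map (QuotientGroup.mk'_surjective _))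
      (by rw [← Subgroup.map_sup, hAB, ← MonoidHom.range_eq_map, MonoidHom.range_eq_top]
          exact QuotientGroup.mk'_surjective _)
      (S.mapSurjective (QuotientGroup.mk'_surjective _))
    rw [Sylow.coe_mapSurjective] at hq
    have h1 := sylow_join_of_quotient (S : Subgroup G) (A ⊓ B) A B hq
      (fun s hs a ha h => ⟨s, ⟨hs, by
        have : s = a * (a⁻¹ * s) := by group
        rw [this]; exact A.mul_mem ha h.1⟩, by simp⟩)
      (fun s hs b hb h => ⟨s, ⟨hs, by
        have : s = b * (b⁻¹ * s) := by group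
        rw [this]; exact B.mul_mem hb h.2⟩, by simp⟩)
    refine h1.trans (sup_le le_rfl ?_)
    exact le_sup_of_le_left (inf_le_inf_left _ inf_le_left)
  by_cases hF : ⁅A, B⁆ = ⊥
  · -- `A` is normal
    have hBc : B ≤ Subgroup.centralizer (A : Set G) := by
      rw [← Subgroup.commutator_eq_bot_iff_le_centralizer, Subgroup.commutator_comm]; exact hF
    haveI hAn : A.Normal := by
      rw [← Subgroup.normalizer_eq_top_iff, eq_top_iff, ← hAB]
      exact sup_le Subgroup.le_normalizer (hBc.trans (Subgroup.centralizer_le_normalizer _))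
    exact sylow_le_sup_of_normal S hAB (isSylowOf_inf_of_isSubnormal S hB)
  -- the main case
  set F := Subgroup.normalClosure ((⁅A, B⁆ : Subgroup G) : Set G) with hFdef
  haveI hFn : F.Normal := Subgroup.normalClosure_normal
  have hFne : F ≠ ⊥ := fun h => hF (le_bot_iff.mp (h ▸ Subgroup.le_normalClosure))
  have hFMN : F ≤ M ⊓ N := Subgroup.normalClosure_le_normal
    ((Subgroup.commutator_mono hAM hBN).trans (Subgroup.commutator_le_inf M N))
  obtain ⟨E, hEF, -, hEnorm, hEne, hEmin⟩ := exists_isMinNormalIn_le F ⊤ le_top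
    (by rw [Subgroup.normalizer_eq_top_iff.mpr hFn]) hFne
  haveI hEn : E.Normal := Subgroup.normalizer_eq_top_iff.mp (top_le_iff.mp hEnorm)
  have hEmin' : ∀ X : Subgroup G, X.Normal → X ≤ E → X = ⊥ ∨ X = E := fun X hX hXE =>
    hEmin X hXE (by rw [Subgroup.normalizer_eq_top_iff.mpr hX])
  have hENA : E ≤ Subgroup.normalizer (A : Set G) :=
    minNormal_le_normalizer_of_isSubnormal hEn hEne hEmin' hA
  have hENB : E ≤ Subgroup.normalizer (B : Set G) :=
    minNormal_le_normalizer_of_isSubnormal hEn hEne hEmin' hB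
  have hEA : E ⊓ A = ⊥ := by
    rw [eq_bot_iff, ← hD]
    exact le_inf inf_le_right
      ((inf_le_inf_right A (hEF.trans (hFMN.trans inf_le_right))).trans hNA)
  have hEB : E ⊓ B = ⊥ := by
    rw [eq_bot_iff, ← hD]
    exact le_inf ((inf_le_inf_right B (hEF.trans (hFMN.trans inf_le_left))).trans hMB)
      inf_le_right
  have hAcE : A ≤ Subgroup.centralizer (E : Set G) := by
    rw [← Subgroup.commutator_eq_bot_iff_le_centralizer, eq_bot_iff, ← hEA]
    exact le_inf (Subgroup.commutator_le_right A E)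
      (commutator_le_left_of_le_normalizer A E hENA)
  have hBcE : B ≤ Subgroup.centralizer (E : Set G) := by
    rw [← Subgroup.commutator_eq_bot_iff_le_centralizer, eq_bot_iff, ← hEB]
    exact le_inf (Subgroup.commutator_le_right B E)
      (commutator_le_left_of_le_normalizer B E hENB)
  have hEcent : ∀ e ∈ E, ∀ x : G, e * x = x * e := by
    intro e he x
    have hx : x ∈ Subgroup.centralizer (E : Set G) := by
      have : x ∈ A ⊔ B := by rw [hAB]; exact Subgroup.mem_top x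
      exact (sup_le hAcE hBcE) this
    exact Subgroup.mem_centralizer_iff.mp hx e he
  have hsub : ∀ X : Subgroup G, X ≤ E → X = ⊥ ∨ X = E := by
    intro X hXE
    apply hEmin' X _ hXE
    constructor
    intro n hn g
    have : g * n * g⁻¹ = n := by
      rw [← hEcent n (hXE hn) g]; group
    rw [this]; exact hn
  have hSE : (S : Subgroup G) ⊓ E = ⊥ ∨ E ≤ (S : Subgroup G) := by
    rcases hsub _ (inf_le_right : (S : Subgroup G) ⊓ E ≤ E) with h | h
    · exact Or.inl h
    · exact Or.inr (inf_eq_right.mp h)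
  have hq := IHn (G ⧸ E) (card_quotient_lt _ hEne) (A.map (QuotientGroup.mk' E))
      (B.map (QuotientGroup.mk' E))
      (hA.map (QuotientGroup.mk'_surjective _)) (hB.map (QuotientGroup.mk'_surjective _))
      (by rw [← Subgroup.map_sup, hAB, ← MonoidHom.range_eq_map, MonoidHom.range_eq_top]
          exact QuotientGroup.mk'_surjective _)
      (S.mapSurjective (QuotientGroup.mk'_surjective _))
  rw [Sylow.coe_mapSurjective] at hq
  -- the key lifting property
  have hlift : ∀ X : Subgroup G, X ≤ Subgroup.centralizer (E : Set G) → E ⊓ X = ⊥ →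
      ∀ s ∈ (S : Subgroup G), ∀ a ∈ X, a⁻¹ * s ∈ E → a ∈ (S : Subgroup G) := by
    intro X hXc hEX s hs a ha hE
    rcases hSE with h | h
    · -- `e := a⁻¹ s` is a `p`-element of `E`, so trivial
      set e := a⁻¹ * s with he
      have hae : Commute a e := (Subgroup.mem_centralizer_iff.mp (hXc ha) e hE).symm
      obtain ⟨k, hk⟩ := (S.isPGroup' ⟨s, hs⟩)
      have hsk : s ^ (p ^ k) = 1 := by
        have := congrArg Subtype.val hk
        simpa using this
      have hs_eq : s = a * e := by rw [he]; group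
      have h1 : a ^ (p ^ k) * e ^ (p ^ k) = 1 := by
        rw [← hae.mul_pow, ← hs_eq, hsk]
      have h2 : e ^ (p ^ k) ∈ E ⊓ X := by
        refine ⟨E.pow_mem hE _, ?_⟩
        have : e ^ (p ^ k) = (a ^ (p ^ k))⁻¹ := eq_inv_of_mul_eq_one_right h1
        rw [this]; exact X.inv_mem (X.pow_mem ha _)
      rw [hEX, Subgroup.mem_bot] at h2
      -- `zpowers e` is a normal `p`-subgroup
      have hZp : IsPGroup p (Subgroup.zpowers e) := by
        rintro ⟨g, hg⟩
        obtain ⟨n, rfl⟩ := Subgroup.mem_zpowers_iff.mp hg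
        refine ⟨k, Subtype.ext ?_⟩
        show (e ^ n) ^ (p ^ k) = 1
        rw [← zpow_natCast, ← zpow_mul, mul_comm, zpow_mul, zpow_natCast, h2, one_zpow]
      haveI hZn : (Subgroup.zpowers e).Normal := by
        constructor
        intro n hn g
        have : g * n * g⁻¹ = n := by
          rw [← hEcent n ((Subgroup.zpowers_le.mpr hE) hn) g]; group
        rw [this]; exact hn
      have hZS : Subgroup.zpowers e ≤ (S : Subgroup G) := hZp.le_sylow_of_normal S
      have heS : e ∈ (S : Subgroup G) ⊓ E := ⟨hZS (Subgroup.mem_zpowers e), hE⟩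
      rw [h, Subgroup.mem_bot] at heS
      rw [hs_eq, heS, mul_one] at hs
      exact hs
    · have : a = s * (a⁻¹ * s)⁻¹ := by group
      rw [this]
      exact Subgroup.mul_mem _ hs (Subgroup.inv_mem _ (h hE))
  have h1 := sylow_join_of_quotient (S : Subgroup G) E A B hq
    (fun s hs a ha h => ⟨a, ⟨hlift A hAcE hEA s hs a ha h, ha⟩, h⟩)
    (fun s hs b hb h => ⟨b, ⟨hlift B hBcE hEB s hs b hb h, hb⟩, h⟩)
  rcases hSE with h | h
  · rw [h, sup_bot_eq] at h1
    exact h1
  rw [inf_eq_right.mpr h] at h1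
  rcases hsub _ (inf_le_right : T₀ ⊓ E ≤ E) with h2 | h2
  swap
  · exact h1.trans (sup_le le_rfl (inf_eq_right.mp h2))
  exfalso
  -- Gaschütz
  haveI : IsMulCommutative E := ⟨⟨fun a b => Subtype.ext (hEcent a a.2 b)⟩⟩
  have hEp : IsPGroup p E := S.isPGroup'.to_le h
  have hcop : (Nat.card E).Coprime (S : Subgroup G).index := by
    obtain ⟨k, hk⟩ := IsPGroup.iff_card.mp hEp
    rw [hk]
    exact Nat.Coprime.pow_left _ ((Nat.Prime.coprime_iff_not_dvd Fact.out).mpr S.not_dvd_index)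
  obtain ⟨J, hJ⟩ := Cfsg.Agent.S0051.result E (S : Subgroup G) h hcop T₀ hT₀S h2
    (le_antisymm (sup_le h hT₀S) (by rw [sup_comm]; exact h1))
  have h3 : F ≤ J := by
    refine le_trans ?_ (commutator_le_of_isComplement'_central hEcent hJ)
    exact Subgroup.normalClosure_le_normal (Subgroup.commutator_mono le_top le_top)
  have h4 : E ≤ E ⊓ J := le_inf le_rfl (hEF.trans h3)
  rw [hJ.disjoint.eq_bot] at h4
  exact hEne (le_bot_iff.mp h4)


theorem sylow_join_aux {p : ℕ} [Fact p.Prime] (n : ℕ) :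
    ∀ (G : Type u) [Group G] [Finite G], Nat.card G = n →
      ∀ (k : ℕ) (A B : Subgroup G), A.IsSubnormal → B.IsSubnormal → A ⊔ B = ⊤ →
      (n - Nat.card A) + (n - Nat.card B) = k →
      ∀ S : Sylow p G, (S : Subgroup G) ≤ ((S : Subgroup G) ⊓ A) ⊔ ((S : Subgroup G) ⊓ B) := by
  induction n using Nat.strong_induction_on with
  | _ n IHn =>
  intro G _ _ hn k
  induction k using Nat.strong_induction_on with
  | _ k IHk =>
  intro A B hA hB hAB hk S
  have IHn' : ∀ (K : Type u) [Group K] [Finite K], Nat.card K < Nat.card G →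
      ∀ (A B : Subgroup K), A.IsSubnormal → B.IsSubnormal → A ⊔ B = ⊤ →
      ∀ S : Sylow p K, (S : Subgroup K) ≤ ((S : Subgroup K) ⊓ A) ⊔ ((S : Subgroup K) ⊓ B) := by
    intro K _ _ hK A' B' hA' hB' hAB' S'
    exact IHn (Nat.card K) (hn ▸ hK) K rfl _ A' B' hA' hB' hAB' rfl S'
  by_cases hAtop : A = ⊤
  · subst hAtop; rw [inf_top_eq]; exact le_sup_left
  by_cases hBtop : B = ⊤
  · subst hBtop; rw [inf_top_eq]; exact le_sup_right
  by_contra hcon
  have hcardA : ∀ X : Subgroup G, Nat.card X ≤ n := fun X => hn ▸ Subgroup.card_le_card_group X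
  have hMB : Subgroup.normalClosure (A : Set G) ⊓ B ≤ A := by
    apply sylow_join_step IHn' A B hA hB hAB _ S hAtop hcon
    intro A' hAA' hA'sn hA'B S'
    have h1 : Nat.card A < Nat.card A' := card_lt_of_lt hAA'
    have h2 := hcardA A'
    have h3 := hcardA B
    exact IHk _ (by omega) A' B hA'sn hB hA'B rfl S'
  have hNA : Subgroup.normalClosure (B : Set G) ⊓ A ≤ B := by
    apply sylow_join_step IHn' B A hB hA (by rw [sup_comm]; exact hAB) _ S hBtop
      (by rw [sup_comm]; exact hcon)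
    intro B' hBB' hB'sn hB'A S'
    have h1 : Nat.card B < Nat.card B' := card_lt_of_lt hBB'
    have h2 := hcardA B'
    have h3 := hcardA A
    have := IHk _ (by omega) A B' hA hB'sn (by rw [sup_comm]; exact hB'A) rfl S'
    rw [sup_comm]; exact this
  exact hcon (sylow_join_core IHn' A B hA hB hAB hMB hNA S)

/-- **Wielandt.** If the finite group `G` is generated by two subnormal subgroups `A`, `B`,
then each Sylow subgroup `S` of `G` is generated by `S ⊓ A` and `S ⊓ B`. -/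
theorem sylow_le_sup_of_isSubnormal {G : Type u} [Group G] [Finite G] {p : ℕ} [Fact p.Prime]
    {A B : Subgroup G} (hA : A.IsSubnormal) (hB : B.IsSubnormal) (hAB : A ⊔ B = ⊤)
    (S : Sylow p G) :
    (S : Subgroup G) ≤ ((S : Subgroup G) ⊓ A) ⊔ ((S : Subgroup G) ⊓ B) :=
  sylow_join_aux _ G rfl _ A B hA hB hAB rfl S

/-- relative form: `A`, `B` subnormal in `A ⊔ B`, `S` a Sylow subgroup of `A ⊔ B` -/
theorem IsSylowOf.le_sup_of_subnIn {G : Type u} [Group G] [Finite G] {p : ℕ} [Fact p.Prime]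
    {A B S : Subgroup G} (hA : SubnIn A (A ⊔ B)) (hB : SubnIn B (A ⊔ B))
    (hS : IsSylowOf p (A ⊔ B) S) : S ≤ (S ⊓ A) ⊔ (S ⊓ B) := by
  obtain ⟨P, hP⟩ := hS.exists_sylow
  have hsup : A.subgroupOf (A ⊔ B) ⊔ B.subgroupOf (A ⊔ B) = ⊤ := by
    rw [← Subgroup.subgroupOf_sup le_sup_left le_sup_right]
    exact Subgroup.subgroupOf_self _
  have h1 := sylow_le_sup_of_isSubnormal hA.isSubnormal_subgroupOf hB.isSubnormal_subgroupOf hsup P
  have h2 := Subgroup.map_mono (f := (A ⊔ B).subtype) h1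
  rw [hP, Subgroup.map_sup, Subgroup.map_inf_eq _ _ _ (A ⊔ B).subtype_injective,
    Subgroup.map_inf_eq _ _ _ (A ⊔ B).subtype_injective, hP, Subgroup.subgroupOf_map_subtype,
    Subgroup.subgroupOf_map_subtype] at h2
  exact h2.trans (sup_le_sup (inf_le_inf_left _ inf_le_left) (inf_le_inf_left _ inf_le_left))

/-- absolute form for two subnormal subgroups of `G` and a Sylow subgroup of `G` -/
theorem sylow_inf_sup_of_isSubnormal {G : Type u} [Group G] [Finite G] {p : ℕ} [Fact p.Prime]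
    {A B : Subgroup G} (hA : A.IsSubnormal) (hB : B.IsSubnormal) (S : Sylow p G) :
    (S : Subgroup G) ⊓ (A ⊔ B) = ((S : Subgroup G) ⊓ A) ⊔ ((S : Subgroup G) ⊓ B) := by
  apply le_antisymm _ (sup_le (inf_le_inf_left _ le_sup_left) (inf_le_inf_left _ le_sup_right))
  have hS := isSylowOf_inf_of_isSubnormal S (isSubnormal_sup hA hB)
  have h1 := IsSylowOf.le_sup_of_subnIn
    ((subnIn_top_iff.mpr hA).of_le le_sup_left le_top)
    ((subnIn_top_iff.mpr hB).of_le le_sup_right le_top) hS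
  refine h1.trans (sup_le_sup ?_ ?_)
  · rw [inf_assoc, inf_eq_right.mpr (le_sup_left : A ≤ A ⊔ B)]
  · rw [inf_assoc, inf_eq_right.mpr (le_sup_right : B ≤ A ⊔ B)]

end Cfsg.Agent.Lib.Helper6
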