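import Mathlib
import Cfsg.Agent.S2805
import Cfsg.Agent.Lib.Helper6.SylowJoin
import Cfsg.Agent.Lib.Helper6.Amalgam4
import Cfsg.Agent.Lib.Helper6.PCore

set_option autoImplicit false
open Cfsg

/-!
# The Kieler lemma for groups of local characteristic `p`
-/

namespace Cfsg.Agent.Lib.Helper6

open Cfsg.Agent.Lib.Helper3 Cfsg.Agent.Lib.Helper7 Cfsg.Agent.S2805

section helpers
variable {H : Type*} [Group H]

theorem charp_of_mulEquiv {G G' : Type*} [Group G] [Group G'] (p : ℕ) (φ : G ≃* G')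
    (h : Subgroup.centralizer (Cfsg.pCore p G : Set G) ≤ Cfsg.pCore p G) :
    Subgroup.centralizer (Cfsg.pCore p G' : Set G') ≤ Cfsg.pCore p G' := by
  intro x hx
  have h1 : φ.symm x ∈ Subgroup.centralizer (Cfsg.pCore p G : Set G) := by
    rw [Subgroup.mem_centralizer_iff]
    intro y hy
    have hy' : φ y ∈ Cfsg.pCore p G' := by
      rw [← pCore_map_equiv p φ]; exact ⟨y, hy, rfl⟩
    have := Subgroup.mem_centralizer_iff.mp hx (φ y) hy'
    apply φ.injective
    rw [map_mul, map_mul, MulEquiv.apply_symm_apply]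
    exact this
  have h2 := h h1
  rw [← pCore_map_equiv p φ]
  exact ⟨φ.symm x, h2, by simp⟩

variable [Finite H] {p : ℕ} [hp : Fact p.Prime]

/-- the `p`-local subgroups of a subnormal subgroup of a group of local characteristic `p`
have characteristic `p` (ambient form) -/
theorem local_charp (hH : Cfsg.IsOfLocalCharacteristic p H) {K : Subgroup H} (hK : K.IsSubnormal)
    {W : Subgroup H} (hWp : IsPGroup p W) (hW : W ≠ ⊥) :
    Subgroup.centralizer (((Cfsg.pCore p ↥(K ⊓ Subgroup.normalizer (W : Set H))).map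
      (K ⊓ Subgroup.normalizer (W : Set H)).subtype : Subgroup H) : Set H) ⊓
        (K ⊓ Subgroup.normalizer (W : Set H)) ≤
      (Cfsg.pCore p ↥(K ⊓ Subgroup.normalizer (W : Set H))).map
        (K ⊓ Subgroup.normalizer (W : Set H)).subtype := by
  set NW := Subgroup.normalizer (W : Set H) with hNW
  have h1 := hH.2 W hWp hW
  have h2 : ((K ⊓ NW).subgroupOf NW).IsSubnormal := by
    rw [Subgroup.inf_subgroupOf_right]; exact hK.subgroupOf
  have h3 := charp_of_isSubnormal h1 h2
  have h4 := charp_of_mulEquiv p (Subgroup.subgroupOfEquivOfLe (inf_le_right : K ⊓ NW ≤ NW)) h3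
  exact charp_ambient _ h4


theorem omegaZ_ne_bot {S : Subgroup H} (hSp : IsPGroup p S) (hS : S ≠ ⊥) : omegaZ p S ≠ ⊥ := by
  haveI : Nontrivial S := (Subgroup.nontrivial_iff_ne_bot S).mpr hS
  haveI : Nontrivial (Subgroup.center S) := hSp.center_nontrivial
  have hZp : IsPGroup p (Subgroup.center S) := hSp.to_subgroup _
  obtain ⟨k, hk⟩ := IsPGroup.iff_card.mp hZp
  have hk0 : k ≠ 0 := by
    rintro rfl
    rw [pow_zero] at hk
    have := Finite.one_lt_card (α := Subgroup.center S)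
    omega
  have hdvd : p ∣ Nat.card (Subgroup.center S) := by
    rw [hk]; exact dvd_pow_self p hk0
  obtain ⟨z, hz⟩ := exists_prime_orderOf_dvd_card' p hdvd
  have hz1 : ((z : S) : H) ^ p = 1 := by
    have : z ^ p = 1 := by rw [← hz]; exact pow_orderOf_eq_one z
    have := congrArg (fun w : Subgroup.center S => ((w : S) : H)) this
    simpa using this
  have hzne : ((z : S) : H) ≠ 1 := by
    intro h
    have : z = 1 := by
      apply Subtype.ext; apply Subtype.ext; exact h
    rw [this, orderOf_one] at hz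
    exact hp.out.one_lt.ne hz
  have hzmem : ((z : S) : H) ∈ omegaZ p S := by
    refine mem_omegaZ.mpr ⟨(z : S).2, ?_, hz1⟩
    rw [Subgroup.mem_centralizer_iff]
    intro y hy
    have := Subgroup.mem_center_iff.mp z.2 ⟨y, hy⟩
    exact congrArg Subtype.val this
  intro h
  rw [h, Subgroup.mem_bot] at hzmem
  exact hzne hzmem

/-- local Kieler, normal step, first inclusion -/
theorem local_kieler_aux1 (hH : Cfsg.IsOfLocalCharacteristic p H) {K L S : Subgroup H}
    (hK : K.IsSubnormal) (hLK : L ≤ K) (hKL : K ≤ Subgroup.normalizer (L : Set H))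
    (hS : IsSylowOf p K S) (hSL : S ⊓ L ≠ ⊥) :
    L ⊓ Subgroup.centralizer ((omegaZ p (S ⊓ L) : Subgroup H) : Set H) ≤
      Subgroup.centralizer ((omegaZ p S : Subgroup H) : Set H) := by
  set W := omegaZ p (S ⊓ L) with hW
  have hSLp : IsPGroup p (S ⊓ L : Subgroup H) := hS.2.1.to_le inf_le_left
  have hWp : IsPGroup p W := hSLp.to_le (omegaZ_le p _)
  have hWne : W ≠ ⊥ := omegaZ_ne_bot hSLp hSL
  set NW := Subgroup.normalizer (W : Set H) with hNW
  have hSNW : S ≤ NW := by
    refine le_trans ?_ (le_normalizer_omegaZ p (S ⊓ L))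
    refine le_trans ?_ (normalizer_inf_le' S L)
    exact le_inf Subgroup.le_normalizer (hS.1.trans hKL)
  set K₁ := K ⊓ NW with hK₁
  set L₁ := L ⊓ NW with hL₁
  set Q := (Cfsg.pCore p ↥K₁).map K₁.subtype with hQ
  have hQK : Q ≤ K₁ := Subgroup.map_subtype_le _
  have hKQ : K₁ ≤ Subgroup.normalizer (Q : Set H) := le_normalizer_map_subtype_of_normal K₁ _
  have hCQ := local_charp hH hK hWp hWne
  have hS₁ : IsSylowOf p K₁ S := hS.of_le (le_inf hS.1 hSNW) inf_le_left
  have hQp : IsPGroup p Q := (Cfsg.Agent.Lib.Helper6.pCore_isPGroup p).map _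
  have hQS : Q ≤ S := hS₁.normal_le hQp hQK hKQ
  have hK₁L₁ : K₁ ≤ Subgroup.normalizer (L₁ : Set H) := by
    refine le_trans ?_ (normalizer_inf_le' L NW)
    exact le_inf (inf_le_left.trans hKL) (inf_le_right.trans Subgroup.le_normalizer)
  have h1 := kieler_normal_aux1 K₁ L₁ S Q hQK hKQ hCQ hQS hS₁ (inf_le_inf_right NW hLK) hK₁L₁
  have e1 : S ⊓ L₁ = S ⊓ L := by
    rw [hL₁, ← inf_assoc, inf_comm S L, inf_assoc, inf_eq_left.mpr hSNW, inf_comm]
  rw [e1] at h1
  intro x hx
  apply h1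
  exact ⟨⟨hx.1, Subgroup.centralizer_le_normalizer _ hx.2⟩, hx.2⟩

/-- local Kieler, normal step, second inclusion -/
theorem local_kieler_aux2 (hH : Cfsg.IsOfLocalCharacteristic p H) {K L S : Subgroup H}
    (hL : L.IsSubnormal) (hLK : L ≤ K) (hKL : K ≤ Subgroup.normalizer (L : Set H))
    (hS : IsSylowOf p K S) (hSne : S ≠ ⊥) :
    L ⊓ Subgroup.centralizer ((omegaZ p S : Subgroup H) : Set H) ≤
      Subgroup.centralizer ((omegaZ p (S ⊓ L) : Subgroup H) : Set H) := by
  set W := omegaZ p S with hW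
  have hWp : IsPGroup p W := hS.2.1.to_le (omegaZ_le p _)
  have hWne : W ≠ ⊥ := omegaZ_ne_bot hS.2.1 hSne
  set NW := Subgroup.normalizer (W : Set H) with hNW
  have hSNW : S ≤ NW := Subgroup.le_normalizer.trans (le_normalizer_omegaZ p S)
  set K₁ := K ⊓ NW with hK₁
  set L₁ := L ⊓ NW with hL₁
  set Q := (Cfsg.pCore p ↥L₁).map L₁.subtype with hQ
  have hQL : Q ≤ L₁ := Subgroup.map_subtype_le _
  have hK₁L₁ : K₁ ≤ Subgroup.normalizer (L₁ : Set H) := by
    refine le_trans ?_ (normalizer_inf_le' L NW)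
    exact le_inf (inf_le_left.trans hKL) (inf_le_right.trans Subgroup.le_normalizer)
  have hKQ : K₁ ≤ Subgroup.normalizer (Q : Set H) :=
    hK₁L₁.trans (Cfsg.Agent.Lib.Lead.le_normalizer_map_characteristic L₁ (Cfsg.pCore p L₁))
  have hCQ := local_charp hH hL hWp hWne
  have hS₁ : IsSylowOf p K₁ S := hS.of_le (le_inf hS.1 hSNW) inf_le_left
  have hQp : IsPGroup p Q := (Cfsg.Agent.Lib.Helper6.pCore_isPGroup p).map _
  have hL₁K₁ : L₁ ≤ K₁ := inf_le_inf_right NW hLK
  have hQS : Q ≤ S := hS₁.normal_le hQp (hQL.trans hL₁K₁) hKQ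
  have h1 := kieler_normal_aux2 K₁ L₁ S Q hQL hKQ hCQ hQS hS₁ hL₁K₁ hK₁L₁
  have e1 : S ⊓ L₁ = S ⊓ L := by
    rw [hL₁, ← inf_assoc, inf_comm S L, inf_assoc, inf_eq_left.mpr hSNW, inf_comm]
  rw [e1] at h1
  intro x hx
  apply h1
  exact ⟨⟨hx.1, Subgroup.centralizer_le_normalizer _ hx.2⟩, hx.2⟩

/-- **Kieler lemma** for groups of local characteristic `p`. -/
theorem local_kieler (hH : Cfsg.IsOfLocalCharacteristic p H) (T : Sylow p H) {L : Subgroup H}
    (hL : L.IsSubnormal) (hTL : (T : Subgroup H) ⊓ L ≠ ⊥) :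
    L ⊓ Subgroup.centralizer ((omegaZ p (T : Subgroup H) : Subgroup H) : Set H) =
      L ⊓ Subgroup.centralizer ((omegaZ p ((T : Subgroup H) ⊓ L) : Subgroup H) : Set H) := by
  induction hL with
  | top => rw [inf_top_eq]
  | step L K hle hK hN ih =>
    have hS : IsSylowOf p K ((T : Subgroup H) ⊓ K) := isSylowOf_inf_of_isSubnormal T hK
    have hKL : K ≤ Subgroup.normalizer (L : Set H) :=
      (Subgroup.normal_subgroupOf_iff_le_normalizer hle).mp hN
    have hLsn : L.IsSubnormal := Subgroup.IsSubnormal.step L K hle hK hN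
    have e1 : ((T : Subgroup H) ⊓ K) ⊓ L = (T : Subgroup H) ⊓ L := by
      rw [inf_assoc, inf_eq_right.mpr hle]
    have hTK : (T : Subgroup H) ⊓ K ≠ ⊥ := by
      intro h
      apply hTL
      rw [← e1, h, bot_inf_eq]
    have key : L ⊓ Subgroup.centralizer ((omegaZ p ((T : Subgroup H) ⊓ K) : Subgroup H) : Set H) =
        L ⊓ Subgroup.centralizer ((omegaZ p (((T : Subgroup H) ⊓ K) ⊓ L) : Subgroup H) : Set H) := by
      apply le_antisymm
      · exact le_inf inf_le_left (local_kieler_aux2 hH hLsn hle hKL hS hTK)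
      · exact le_inf inf_le_left (local_kieler_aux1 hH hK hle hKL hS (by rw [e1]; exact hTL))
    rw [e1] at key
    calc L ⊓ Subgroup.centralizer ((omegaZ p (T : Subgroup H) : Subgroup H) : Set H)
        = L ⊓ (K ⊓ Subgroup.centralizer ((omegaZ p (T : Subgroup H) : Subgroup H) : Set H)) := by
          rw [← inf_assoc, inf_eq_left.mpr hle]
      _ = L ⊓ (K ⊓ Subgroup.centralizer ((omegaZ p ((T : Subgroup H) ⊓ K) : Subgroup H) : Set H)) := by
          rw [ih hTK]
      _ = L ⊓ Subgroup.centralizer ((omegaZ p ((T : Subgroup H) ⊓ K) : Subgroup H) : Set H) := by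
          rw [← inf_assoc, inf_eq_left.mpr hle]
      _ = _ := key


omit [Finite H] in
/-- a `p`-subgroup of `K` lies in a `K`-conjugate of a given Sylow subgroup of `K` -/
theorem IsSylowOf.exists_conj_ge [Finite H] {K S P : Subgroup H} (hS : IsSylowOf p K S) (hP : IsPGroup p P)
    (hPK : P ≤ K) : ∃ k ∈ K, P ≤ S.map (MulAut.conj k).toMonoidHom := by
  obtain ⟨S', hS'⟩ := hS.exists_sylow
  have hP' : IsPGroup p (P.subgroupOf K) := hP.comap_subtype
  obtain ⟨Q, hQ⟩ := hP'.exists_le_sylow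
  obtain ⟨g, hg⟩ := MulAction.exists_smul_eq K S' Q
  refine ⟨g, g.2, ?_⟩
  intro x hx
  have h1 : (⟨x, hPK hx⟩ : K) ∈ (Q : Subgroup K) := hQ (by rw [Subgroup.mem_subgroupOf]; exact hx)
  rw [← hg, sylow_smul_eq_map_conj] at h1
  obtain ⟨y, hy, hyx⟩ := h1
  refine ⟨(y : H), ?_, ?_⟩
  · rw [← hS']; exact ⟨y, hy, rfl⟩
  · have := congrArg Subtype.val hyx
    simpa using this

/-- a subnormal subgroup containing a Sylow `p`-subgroup contains all `p`-subgroups -/
theorem le_of_subnIn_of_sylow_le {C D S P : Subgroup H} (hD : SubnIn D C) (hS : IsSylowOf p C S)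
    (hSD : S ≤ D) (hP : IsPGroup p P) (hPC : P ≤ C) : P ≤ D := by
  induction hD with
  | refl C => exact hPC
  | step D K C hDK hKN hKC ih =>
    have hPK : P ≤ K := ih hS (hSD.trans hDK) hPC
    have hSK : IsSylowOf p K S := hS.of_le (hSD.trans hDK) hKC.le
    obtain ⟨k, hk, hPk⟩ := hSK.exists_conj_ge hP hPK
    refine hPk.trans ?_
    have h1 : D.map (MulAut.conj k).toMonoidHom = D := mem_normalizer_iff_cj.mp (hKN hk)
    rw [← h1]
    exact Subgroup.map_mono hSD

end helpers
end Cfsg.Agent.Lib.Helper6
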