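import Mathlib
import Cfsg.Prelude
import Cfsg.Agent.S2790
import Cfsg.Agent.S2905
import Cfsg.Agent.Lib.Helper6.PRes
import Cfsg.Agent.Lib.Helper6.Amalgam3
import Cfsg.Agent.Lib.Helper6.IsoMin0

/-!
# Isolated p-minimal subgroups: basic facts in `G` (package A, part 1)
-/

set_option autoImplicit false

namespace Cfsg.Agent.Lib.Helper6.IsoMin

open Cfsg Cfsg.Agent.Lib.Helper6

variable {G : Type*} [Group G] [Finite G] {p : ℕ} [Fact p.Prime]

/-- the hypotheses of S3044 / S3045: `P` is an isolated `p`-minimal subgroup, `L = L_G(P,S)` -/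
structure IsoHyp (S : Sylow p G) (P L : Subgroup G) : Prop where
  hSP : (S : Subgroup G) ≤ P
  hPmin : Cfsg.IsPMinimal p ↥P
  hL : L = Subgroup.normalizer ((S : Subgroup G) : Set G) ⊔
    ⨆ P' : {P' : Subgroup G // (S : Subgroup G) ≤ P' ∧ Cfsg.IsPMinimal p ↥P' ∧ P' ≠ P}, (P' : Subgroup G)
  hiso : ¬ (Cfsg.pCore p ↥L).map L.subtype ≤ (Cfsg.pCore p ↥P).map P.subtype

variable {S : Sylow p G} {P L : Subgroup G}

/-- every `p`-minimal subgroup containing `S` other than `P` lies in `L` -/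
theorem IsoHyp.pmin_le (h : IsoHyp S P L) {P' : Subgroup G} (hSP' : (S : Subgroup G) ≤ P')
    (hP' : Cfsg.IsPMinimal p ↥P') (hne : P' ≠ P) : P' ≤ L := by
  rw [h.hL]
  exact le_sup_of_le_right (le_iSup (fun P' : {P' : Subgroup G // (S : Subgroup G) ≤ P' ∧
    Cfsg.IsPMinimal p ↥P' ∧ P' ≠ P} => (P' : Subgroup G)) ⟨P', hSP', hP', hne⟩)

theorem IsoHyp.normalizer_le (h : IsoHyp S P L) :
    Subgroup.normalizer ((S : Subgroup G) : Set G) ≤ L := by
  rw [h.hL]; exact le_sup_left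

theorem IsoHyp.S_le_L (h : IsoHyp S P L) : (S : Subgroup G) ≤ L :=
  Subgroup.le_normalizer.trans h.normalizer_le

/-- (F1) a subgroup containing `S` lies in `L` or contains `P` -/
theorem IsoHyp.le_or_le (h : IsoHyp S P L) (H : Subgroup G) (hSH : (S : Subgroup G) ≤ H) :
    H ≤ L ∨ P ≤ H := by
  by_cases hPH : P ≤ H
  · exact Or.inr hPH
  left
  have h1 := Cfsg.Agent.S2790.mcbride_aux (S : Subgroup G) _ H rfl hSH
  refine h1.trans (sup_le h.normalizer_le ?_)
  apply sSup_le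
  rintro P' ⟨hP'H, hP'⟩
  have hne : P' ≠ P := by rintro rfl; exact hPH hP'H
  exact h.pmin_le hP'.1 (Cfsg.Agent.S2790.isPMinimal_of_pMin S hP') hne

/-- `G = ⟨L, P⟩` -/
theorem IsoHyp.L_sup_P (h : IsoHyp S P L) : L ⊔ P = ⊤ := by
  rw [eq_top_iff]
  have h1 := Cfsg.Agent.S2790.mcbride_aux (S : Subgroup G) _ ⊤ rfl le_top
  refine h1.trans (sup_le (h.normalizer_le.trans le_sup_left) ?_)
  apply sSup_le
  rintro P' ⟨-, hP'⟩
  by_cases hne : P' = P
  · rw [hne]; exact le_sup_right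
  · exact (h.pmin_le hP'.1 (Cfsg.Agent.S2790.isPMinimal_of_pMin S hP') hne).trans le_sup_left

/-- `Q = O_p(L) ≤ S` -/
theorem IsoHyp.Q_le_S (h : IsoHyp S P L) : Cfsg.pCoreOf p L ≤ (S : Subgroup G) :=
  pCoreOf_le_of_isSylowOf (isSylowOf_of_sylow_le S h.S_le_L)

/-- `L` normalizes `Q = O_p(L)` -/
theorem IsoHyp.L_le_normalizer_Q (h : IsoHyp S P L) :
    L ≤ Subgroup.normalizer (Cfsg.pCoreOf p L : Set G) := by
  haveI : (Cfsg.pCore p ↥L).Normal := inferInstance
  exact Cfsg.Agent.S2805.le_normalizer_map_subtype_of_normal L (Cfsg.pCore p ↥L)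

/-- `S` normalizes `Q` -/
theorem IsoHyp.S_le_normalizer_Q (h : IsoHyp S P L) :
    (S : Subgroup G) ≤ Subgroup.normalizer (Cfsg.pCoreOf p L : Set G) :=
  h.S_le_L.trans h.L_le_normalizer_Q

theorem IsoHyp.Q_le_P (h : IsoHyp S P L) : Cfsg.pCoreOf p L ≤ P := h.Q_le_S.trans h.hSP

/-- `D = O^p(P)` is normalized by `P` -/
theorem le_normalizer_pResidualOf (P : Subgroup G) :
    P ≤ Subgroup.normalizer (Cfsg.pResidualOf p P : Set G) := by
  haveI : (Cfsg.pResidual p ↥P).Normal := inferInstance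
  exact Cfsg.Agent.S2805.le_normalizer_map_subtype_of_normal P (Cfsg.pResidual p ↥P)

theorem pResidualOf_le (P : Subgroup G) : Cfsg.pResidualOf p P ≤ P := by
  unfold Cfsg.pResidualOf
  exact Subgroup.map_subtype_le _

/-- `P = D S` -/
theorem IsoHyp.P_eq (h : IsoHyp S P L) : Cfsg.pResidualOf p P ⊔ (S : Subgroup G) = P := by
  have h1 := pResidual_sup_sylow (S.subtype h.hSP)
  have h2 := congrArg (Subgroup.map P.subtype) h1
  rw [Subgroup.map_sup, ← MonoidHom.range_eq_map, Subgroup.range_subtype, Sylow.coe_subtype,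
    Subgroup.subgroupOf_map_subtype, inf_eq_left.mpr h.hSP] at h2
  exact h2

/-- a `p'`-element of `U S` lies in `U` when `S` normalizes `U` -/
theorem mem_of_coprime_of_mem_sup_normalizer {U T : Subgroup G} (hT : IsPGroup p T)
    (hTU : T ≤ Subgroup.normalizer (U : Set G)) {g : G} (hg : Nat.Coprime (orderOf g) p)
    (hgU : g ∈ U ⊔ T) : g ∈ U := by
  set K : Subgroup G := U ⊔ T with hK
  have hUK : U ≤ K := le_sup_left
  have hTK : T ≤ K := le_sup_right
  haveI : (U.subgroupOf K).Normal :=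
    (Subgroup.normal_subgroupOf_iff_le_normalizer hUK).mpr (sup_le Subgroup.le_normalizer hTU)
  have hT' : IsPGroup p (T.subgroupOf K) := hT.comap_subtype
  have hg' : Nat.Coprime (orderOf (⟨g, hgU⟩ : K)) p := by
    rwa [← Subgroup.orderOf_coe]
  have htop : (⟨g, hgU⟩ : K) ∈ U.subgroupOf K ⊔ T.subgroupOf K := by
    rw [← Subgroup.subgroupOf_sup hUK hTK, Subgroup.subgroupOf_self]
    exact Subgroup.mem_top _
  exact mem_of_coprime_of_mem_sup (U.subgroupOf K) hT' hg' htop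

/-- if `P ≤ U S` with `S` normalizing `U`, then `O^p(P) ≤ U` -/
theorem pResidualOf_le_of_le_sup {P U T : Subgroup G} (hT : IsPGroup p T)
    (hTU : T ≤ Subgroup.normalizer (U : Set G)) (hP : P ≤ U ⊔ T) : Cfsg.pResidualOf p P ≤ U := by
  unfold Cfsg.pResidualOf Cfsg.pResidual
  rw [Subgroup.map_le_iff_le_comap, Subgroup.closure_le]
  intro g hg
  have hg' : Nat.Coprime (orderOf (g : G)) p := by rw [Subgroup.orderOf_coe]; exact hg
  exact mem_of_coprime_of_mem_sup_normalizer hT hTU hg' (hP g.2)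

/-- (A9) an `S`-invariant subgroup lies in `L` or contains `D` -/
theorem IsoHyp.le_or_D_le (h : IsoHyp S P L) (U : Subgroup G)
    (hSU : (S : Subgroup G) ≤ Subgroup.normalizer (U : Set G)) :
    U ≤ L ∨ Cfsg.pResidualOf p P ≤ U := by
  rcases h.le_or_le (U ⊔ (S : Subgroup G)) le_sup_right with h1 | h1
  · exact Or.inl (le_sup_left.trans h1)
  · exact Or.inr (pResidualOf_le_of_le_sup S.isPGroup' hSU h1)

end Cfsg.Agent.Lib.Helper6.IsoMin
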