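import Mathlib
import Cfsg.Prelude
import Cfsg.Agent.Lib.Helper6.IsoMin1

/-!
# Isolated p-minimal subgroups: basic facts in `G` (package A, part 2)
-/

set_option autoImplicit false

namespace Cfsg.Agent.Lib.Helper6.IsoMin

open Cfsg Cfsg.Agent.Lib.Helper6
open scoped commutatorElement

variable {G : Type*} [Group G] [Finite G] {p : ℕ} [Fact p.Prime]
variable {S : Sylow p G} {P L : Subgroup G}

/-- (A3) `D ≤ [D,Q] Q` -/
theorem IsoHyp.D_le (h : IsoHyp S P L) :
    Cfsg.pResidualOf p P ≤ ⁅Cfsg.pResidualOf p P, Cfsg.pCoreOf p L⁆ ⊔ Cfsg.pCoreOf p L := by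
  set Q := Cfsg.pCoreOf p L with hQ
  set D := Cfsg.pResidualOf p P with hD
  set SP : Sylow p ↥P := S.subtype h.hSP with hSPdef
  obtain ⟨-, M, ⟨hM, hSM⟩, -⟩ := h.hPmin SP
  obtain ⟨r1, -, r3, -⟩ := Cfsg.Agent.S2905.result h.hPmin SP M hM hSM
  set Nc : Subgroup ↥P := Subgroup.normalClosure ((Q.subgroupOf P : Subgroup ↥P) : Set ↥P) with hNc
  have hQNc : Q.subgroupOf P ≤ Nc := Subgroup.le_normalClosure
  have hQSP : Q.subgroupOf P ≤ (SP : Subgroup ↥P) := by
    rw [hSPdef, Sylow.coe_subtype]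
    intro x hx
    rw [Subgroup.mem_subgroupOf] at hx ⊢
    exact h.Q_le_S hx
  rcases r3 Nc inferInstance with hres | hcore
  · -- main case
    have hNcle : Nc ≤ (⁅D, Q⁆ ⊔ Q).subgroupOf P := by
      rw [hNc, Subgroup.normalClosure, Subgroup.closure_le]
      intro y hy
      rw [Group.mem_conjugatesOfSet_iff] at hy
      obtain ⟨q, hq, hqy⟩ := hy
      rw [isConj_iff] at hqy
      obtain ⟨x, rfl⟩ := hqy
      have hx : x ∈ Cfsg.pResidual p ↥P ⊔ (SP : Subgroup ↥P) := by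
        rw [pResidual_sup_sylow SP]; exact Subgroup.mem_top _
      obtain ⟨d, hd, s, hs, rfl⟩ := Subgroup.mem_sup_of_normal_left.mp hx
      show ((d * s * q * (d * s)⁻¹ : ↥P) : G) ∈ ⁅D, Q⁆ ⊔ Q
      have hdD : (d : G) ∈ D := ⟨d, hd, rfl⟩
      have hsS : (s : G) ∈ (S : Subgroup G) := by
        rw [hSPdef, Sylow.coe_subtype] at hs
        exact hs
      have hqQ : (q : G) ∈ Q := hq
      have hq' : (s : G) * q * (s : G)⁻¹ ∈ Q := by
        have := h.S_le_normalizer_Q hsS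
        rw [Subgroup.mem_normalizer_iff] at this
        exact (this _).mp hqQ
      have e : ((d * s * q * (d * s)⁻¹ : ↥P) : G) =
          ⁅(d : G), (s : G) * q * (s : G)⁻¹⁆ * ((s : G) * q * (s : G)⁻¹) := by
        simp only [Subgroup.coe_mul, Subgroup.coe_inv, commutatorElement_def]
        group
      rw [e]
      exact Subgroup.mul_mem _ (Subgroup.mem_sup_left (Subgroup.commutator_mem_commutator hdD hq'))
        (Subgroup.mem_sup_right hq')
    have h1 : Cfsg.pResidual p ↥P ≤ (⁅D, Q⁆ ⊔ Q).subgroupOf P := hres.trans hNcle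
    intro x hx
    obtain ⟨y, hy, rfl⟩ := hx
    exact h1 hy
  · exfalso
    apply h.hiso
    have h2 : Nc ⊓ (SP : Subgroup ↥P) ≤ Cfsg.pCore p ↥P :=
      r1 Nc (Subgroup.Normal.isSubnormal inferInstance) (hcore.trans (Subgroup.normalCore_le M))
    have h3 : Q.subgroupOf P ≤ Cfsg.pCore p ↥P := (le_inf hQNc hQSP).trans h2
    show Q ≤ Cfsg.pCoreOf p P
    intro x hx
    have hxP : x ∈ P := h.Q_le_P hx
    have hx3 : (⟨x, hxP⟩ : ↥P) ∈ Cfsg.pCore p ↥P := h3 (by rw [Subgroup.mem_subgroupOf]; exact hx)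
    exact Subgroup.mem_map.mpr ⟨⟨x, hxP⟩, hx3, rfl⟩

/-- `D ≤ Y` -/
theorem D_le_Y (P : Subgroup G) :
    Cfsg.pResidualOf p P ≤ Subgroup.normalClosure (Cfsg.pResidualOf p P : Set G) :=
  Subgroup.le_normalClosure

/-- (A4) `G = Y L` -/
theorem IsoHyp.Y_sup_L (h : IsoHyp S P L) :
    Subgroup.normalClosure (Cfsg.pResidualOf p P : Set G) ⊔ L = ⊤ := by
  rw [eq_top_iff, ← h.L_sup_P]
  refine sup_le le_sup_right ?_
  have hP := h.P_eq
  calc P = Cfsg.pResidualOf p P ⊔ (S : Subgroup G) := hP.symm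
    _ ≤ _ := sup_le ((D_le_Y P).trans le_sup_left) (h.S_le_L.trans le_sup_right)

/-- (A5) a normal subgroup lies in `L` or contains `Y` -/
theorem IsoHyp.normal_le_or (h : IsoHyp S P L) (N : Subgroup G) [hN : N.Normal] :
    N ≤ L ∨ Subgroup.normalClosure (Cfsg.pResidualOf p P : Set G) ≤ N := by
  have hSN : (S : Subgroup G) ≤ Subgroup.normalizer (N : Set G) := by
    rw [Subgroup.normalizer_eq_top_iff.mpr hN]; exact le_top
  rcases h.le_or_D_le N hSN with h1 | h1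
  · exact Or.inl h1
  · exact Or.inr (Subgroup.normalClosure_le_normal h1)

/-- `D ≤ ⟨Q^G⟩` -/
theorem IsoHyp.D_le_normalClosure_Q (h : IsoHyp S P L) :
    Cfsg.pResidualOf p P ≤ Subgroup.normalClosure (Cfsg.pCoreOf p L : Set G) := by
  refine h.D_le.trans (sup_le ?_ Subgroup.le_normalClosure)
  exact (Subgroup.commutator_mono le_top Subgroup.le_normalClosure).trans
    (Subgroup.commutator_le_right _ _)

/-- `Y ≤ ⟨Q^G⟩` -/
theorem IsoHyp.Y_le_normalClosure_Q (h : IsoHyp S P L) :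
    Subgroup.normalClosure (Cfsg.pResidualOf p P : Set G) ≤
      Subgroup.normalClosure (Cfsg.pCoreOf p L : Set G) :=
  Subgroup.normalClosure_le_normal h.D_le_normalClosure_Q

/-- `N ∩ Q ≤ O_p(N)` for `N ≤ L` normal in `G` -/
theorem IsoHyp.inf_Q_le_pCoreOf (h : IsoHyp S P L) (N : Subgroup G) [hN : N.Normal] (hNL : N ≤ L) :
    N ⊓ Cfsg.pCoreOf p L ≤ Cfsg.pCoreOf p N := by
  set Q := Cfsg.pCoreOf p L with hQ
  have hnorm : N ≤ Subgroup.normalizer ((N ⊓ Q : Subgroup G) : Set G) := by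
    intro n hn
    have hnQ := h.L_le_normalizer_Q (hNL hn)
    rw [Subgroup.mem_normalizer_iff] at hnQ ⊢
    intro x
    rw [Subgroup.mem_inf, Subgroup.mem_inf, ← hnQ x]
    constructor
    · rintro ⟨h1, h2⟩
      exact ⟨N.mul_mem (N.mul_mem hn h1) (N.inv_mem hn), h2⟩
    · rintro ⟨h1, h2⟩
      refine ⟨?_, h2⟩
      have := N.mul_mem (N.mul_mem (N.inv_mem hn) h1) hn
      simpa [mul_assoc] using this
  haveI : ((N ⊓ Q).subgroupOf N).Normal :=
    (Subgroup.normal_subgroupOf_iff_le_normalizer inf_le_left).mpr hnorm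
  have hp : IsPGroup p ((N ⊓ Q).subgroupOf N) :=
    ((pCoreOf_isPGroup p L).to_le inf_le_right).comap_subtype
  have h1 : (N ⊓ Q).subgroupOf N ≤ Cfsg.pCore p ↥N := le_pCore inferInstance hp
  intro x hx
  exact ⟨⟨x, hx.1⟩, h1 (by rw [Subgroup.mem_subgroupOf]; exact hx), rfl⟩

/-- (A6) for `N ≤ L` normal in `G`: `[N, Y] ≤ O_p(N)` -/
theorem IsoHyp.commutator_le_pCoreOf (h : IsoHyp S P L) (N : Subgroup G) [hN : N.Normal]
    (hNL : N ≤ L) :
    ⁅N, Subgroup.normalClosure (Cfsg.pResidualOf p P : Set G)⁆ ≤ Cfsg.pCoreOf p N := by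
  set Q := Cfsg.pCoreOf p L with hQ
  set K := Cfsg.pCoreOf p N with hK
  haveI hKn : K.Normal := pCoreOf_normal_of_normal p N
  haveI : (N.map (QuotientGroup.mk' K)).Normal :=
    Subgroup.Normal.map hN _ (QuotientGroup.mk'_surjective K)
  set C : Subgroup G :=
    (Subgroup.centralizer ((N.map (QuotientGroup.mk' K) : Subgroup (G ⧸ K)) : Set (G ⧸ K))).comap
      (QuotientGroup.mk' K) with hC
  haveI : C.Normal := Subgroup.Normal.comap inferInstance _
  have hcomm : ∀ a b : G, ((a : G ⧸ K) * (b : G ⧸ K) = (b : G ⧸ K) * (a : G ⧸ K)) ↔ ⁅a, b⁆ ∈ K := by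
    intro a b
    rw [← QuotientGroup.eq_one_iff, commutatorElement_def, ← mul_inv_eq_one]
    simp only [QuotientGroup.mk_mul, QuotientGroup.mk_inv, mul_inv_rev, mul_assoc]
  have hmemC : ∀ g : G, g ∈ C ↔ ∀ n ∈ N, ⁅n, g⁆ ∈ K := by
    intro g
    rw [hC, Subgroup.mem_comap, Subgroup.mem_centralizer_iff]
    constructor
    · intro hg n hn
      have h1 := hg (QuotientGroup.mk' K n) ⟨n, hn, rfl⟩
      exact (hcomm n g).mp h1
    · rintro hg _ ⟨n, hn, rfl⟩
      exact (hcomm n g).mpr (hg n hn)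
  have hQC : Q ≤ C := by
    intro q hq
    rw [hmemC]
    intro n hn
    apply h.inf_Q_le_pCoreOf N hNL
    refine ⟨?_, ?_⟩
    · have e : ⁅n, q⁆ = n * (q * n⁻¹ * q⁻¹) := by rw [commutatorElement_def]; group
      rw [e]
      exact N.mul_mem hn (hN.conj_mem _ (N.inv_mem hn) _)
    · have hnQ := h.L_le_normalizer_Q (hNL hn)
      rw [Subgroup.mem_normalizer_iff] at hnQ
      rw [commutatorElement_def]
      exact Q.mul_mem ((hnQ q).mp hq) (Q.inv_mem hq)
  have hYC : Subgroup.normalClosure (Cfsg.pResidualOf p P : Set G) ≤ C :=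
    h.Y_le_normalClosure_Q.trans (Subgroup.normalClosure_le_normal hQC)
  rw [Subgroup.commutator_le]
  intro n hn y hy
  exact (hmemC y).mp (hYC hy) n hn

end Cfsg.Agent.Lib.Helper6.IsoMin
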