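import Mathlib
import Cfsg.Prelude.Def_LieTypeChar
import Cfsg.Agent.Lib.Helper3.SylAbGen
import Cfsg.Agent.Lib.Helper9.SpFus3
import Cfsg.Agent.Lib.Helper9.PSLFus2
set_option autoImplicit false
open Cfsg Cfsg.Agent.Lib.Helper3.SylAb

/-!
S4625 swarm, package PK-SP: the Sylow 2-subgroups of `PSp_{2m}(F)`, `F` of characteristic 2, have an elementary
abelian abelianisation.  The unitriangular subgroup `Usp m F` (a Sylow subgroup, helper9 `SpFus3`) is generated by
the Levi images of the positive transvections and by the Siegel elements, which are involutions in characteristic 2.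
-/

namespace Cfsg.Agent.Lib.Helper3.SylAb

open Matrix Cfsg.Agent.H9SpF Cfsg.Agent.H9PF Cfsg.Agent.Lib.Helper5.SLnBN

section
variable {F : Type*} [Field F] {m : ℕ}

/-- the involutions generating the unitriangular subgroup of the symplectic group -/
def spInvGens (m : ℕ) (F : Type*) [Field F] : Set (symplecticGroup (Fin m) F) :=
  {g | (∃ t ∈ posRoots m F, g = levS t) ∨ ∃ (S : Matrix (Fin m) (Fin m) F) (hS : S.IsSymm), g = sieg S hS}

theorem Usp_eq_closure_spInvGens : Usp m F = Subgroup.closure (spInvGens m F) := by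
  apply le_antisymm
  · intro g hg
    obtain ⟨P, hP, S, hS, rfl⟩ := exists_levS_sieg hg
    apply Subgroup.mul_mem
    · have h1 : unip m F ≤ (Subgroup.closure (spInvGens m F)).comap levS := by
        refine le_trans unip_le_closure ?_
        rw [Subgroup.closure_le]
        intro t ht
        exact Subgroup.subset_closure (Or.inl ⟨t, ht, rfl⟩)
      exact h1 hP
    · exact Subgroup.subset_closure (Or.inr ⟨S, hS, rfl⟩)
  · rw [Subgroup.closure_le]
    rintro g (⟨t, ⟨a, b, hab, c, rfl⟩, rfl⟩ | ⟨S, hS, rfl⟩)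
    · exact levS_mem_Usp (transvection_mem_unip hab c)
    · exact sieg_mem_Usp S hS

theorem spInvGens_sq [CharP F 2] (g : symplecticGroup (Fin m) F) (hg : g ∈ spInvGens m F) : g ^ 2 = 1 := by
  rcases hg with ⟨t, ⟨a, b, hab, c, rfl⟩, rfl⟩ | ⟨S, hS, rfl⟩
  · rw [← map_pow, pow_two, ← Matrix.SpecialLinearGroup.transvection_add, CharTwo.add_self_eq_zero,
      Matrix.SpecialLinearGroup.transvection_coeff_zero, map_one]
  · rw [pow_two, sieg_mul]
    have e : S + S = 0 := by
      ext i j
      rw [Matrix.add_apply, CharTwo.add_self_eq_zero, Matrix.zero_apply]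
    rw [sieg_congr _ e]
    exact sieg_zero

theorem genSq_Usp [CharP F 2] : GenSq (Usp m F) :=
  genSq_of_involutions (Usp m F) (spInvGens m F) Usp_eq_closure_spInvGens spInvGens_sq

end

theorem sqComm_symplecticGroup {F : Type*} [Field F] [Fintype F] [CharP F 2] (m : ℕ) (hm : 1 ≤ m) :
    SqComm (Matrix.symplecticGroup (Fin m) F) := by
  have : Fact (Nat.Prime 2) := ⟨Nat.prime_two⟩
  exact sqComm_of_subgroup (Usp m F) (isPGroup_Usp 2 hm) (not_dvd_index_Usp 2 hm) genSq_Usp

/-- PK-SP -/
theorem sqComm_PSp {F : Type*} [Field F] [Fintype F] [CharP F 2] (m : ℕ) (hm : 2 ≤ m)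
    (_hex : m = 2 → 3 ≤ Fintype.card F) :
    SqComm (Cfsg.PSp m F) :=
  (sqComm_symplecticGroup (F := F) m (by omega)).quotient _

end Cfsg.Agent.Lib.Helper3.SylAb
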