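import Cfsg.Agent.Lib.Helper6.WP6

set_option autoImplicit false

namespace Cfsg.Agent.Lib.Helper6.DC

open Cfsg.Agent.Lib.Helper6.TC

/-! # Double covers: a subgroup generated by columns as a double cover of a presented group -/

section abstract
variable {W H K : Type*} [Group W] [Group H] [Group K]

/-- a normal subgroup of order two is central -/
theorem le_center_of_card_two (N : Subgroup H) [hN : N.Normal] (h2 : Nat.card N = 2) :
    N ≤ Subgroup.center H := by
  intro x hx
  rw [Subgroup.mem_center_iff]
  intro g
  by_cases h1 : x = 1
  · rw [h1, mul_one, one_mul]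
  obtain ⟨y, _, hy⟩ := (Nat.card_eq_two_iff' (1 : N)).mp h2
  have e1 : (⟨x, hx⟩ : N) = y := hy _ (by
    intro h
    exact h1 (congrArg Subtype.val h))
  have hc : g * x * g⁻¹ ∈ N := hN.conj_mem x hx g
  have e2 : (⟨g * x * g⁻¹, hc⟩ : N) = y := hy _ (by
    intro h
    have : g * x * g⁻¹ = 1 := congrArg Subtype.val h
    apply h1
    have h3 : x = g⁻¹ * (g * x * g⁻¹) * g := by group
    rw [h3, this]
    group)
  have e3 : g * x * g⁻¹ = x := congrArg Subtype.val (e2.trans e1.symm)
  calc g * x = g * x * g⁻¹ * g := by group
    _ = x * g := by rw [e3]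

/-- the criterion: a group `H` of order `2 |K|` that is the image of a group `W` of order at
most `2 |K|` mapping onto the centreless group `K` has a centre of order two with quotient `K` -/
theorem center_of_homs [Finite W] [Finite K] (f : W →* H) (hf : Function.Surjective f)
    (g : W →* K) (hg : Function.Surjective g)
    (hW : Nat.card W ≤ 2 * Nat.card K) (hH : Nat.card H = 2 * Nat.card K)
    (hZK : Subgroup.center K = ⊥) :
    Function.Injective f ∧ Nat.card (Subgroup.center H) = 2 ∧
      Nonempty (H ⧸ Subgroup.center H ≃* K) := by
  have hfinH : Finite H := Finite.of_surjective f hf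
  have hfi : Function.Injective f := by
    have : Function.Bijective f :=
      Function.Surjective.bijective_of_nat_card_le hf (by rw [hH]; exact hW)
    exact this.1
  let e : W ≃* H := MulEquiv.ofBijective f ⟨hfi, hf⟩
  let θ : H →* K := g.comp e.symm.toMonoidHom
  have hθ : Function.Surjective θ := by
    intro y
    obtain ⟨w, rfl⟩ := hg y
    exact ⟨e w, by simp [θ]⟩
  have hk : Nat.card θ.ker = 2 := by
    have h1 : Nat.card θ.ker * θ.ker.index = Nat.card H := Subgroup.card_mul_index _
    rw [Subgroup.index_ker, MonoidHom.range_eq_top.mpr hθ, Subgroup.card_top, hH] at h1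
    have hKpos : 0 < Nat.card K := Nat.card_pos
    exact Nat.eq_of_mul_eq_mul_right hKpos h1
  have hle : θ.ker ≤ Subgroup.center H := le_center_of_card_two θ.ker hk
  have hge : Subgroup.center H ≤ θ.ker := by
    intro x hx
    rw [MonoidHom.mem_ker]
    have : θ x ∈ Subgroup.center K := by
      rw [Subgroup.mem_center_iff]
      intro y
      obtain ⟨h, rfl⟩ := hθ y
      rw [← map_mul, ← map_mul, (Subgroup.mem_center_iff.mp hx) h]
    rw [hZK] at this
    exact Subgroup.mem_bot.mp this
  have heq : Subgroup.center H = θ.ker := le_antisymm hge hle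
  refine ⟨hfi, by rw [heq]; exact hk, ⟨?_⟩⟩
  exact (QuotientGroup.quotientMulEquivOfEq heq).trans
    (QuotientGroup.quotientKerEquivOfSurjective θ hθ)

/-- the centre of a simple group whose order is not a prime is trivial -/
theorem center_eq_bot_of_simple [Finite K] [hs : IsSimpleGroup K] (hp : ¬ (Nat.card K).Prime) :
    Subgroup.center K = ⊥ := by
  rcases hs.eq_bot_or_eq_top_of_normal (Subgroup.center K) inferInstance with h | h
  · exact h
  · exfalso
    apply hp
    letI : CommGroup K := { (inferInstance : Group K) with
      mul_comm := fun a b => by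
        have : b ∈ Subgroup.center K := by rw [h]; trivial
        exact (Subgroup.mem_center_iff.mp this a) }
    exact IsSimpleGroup.prime_card

/-- a group with a complement of a subgroup of order two has a subgroup of index two -/
theorem index_two_of_complement {Z L : Subgroup H} (hZ : Nat.card Z = 2)
    (h : Z.IsComplement' L) : L.index = 2 := by
  rw [← hZ]
  exact h.index_eq_card

end abstract

section parity
variable {k : ℕ} [NeZero k]

/-- the parity of the number of the letters of a word that are marked -/
def par (ε : ℕ → Bool) : List ℕ → Bool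
  | [] => false
  | c :: w => xor (ε c) (par ε w)

theorem par_cons (ε : ℕ → Bool) (c : ℕ) (w : List ℕ) : par ε (c :: w) = xor (ε c) (par ε w) := rfl

open Classical in
theorem mem_iff_par {base : List (List ℕ)} (L : Subgroup (WG k base)) (hL : L.index = 2)
    (w : List ℕ) :
    PresentedGroup.mk (wrels k base) (wordElt (gcF k) w) ∈ L ↔
      par (fun c => decide (PresentedGroup.mk (wrels k base) (ceOf (gcF k) c) ∉ L)) w = false := by
  induction w with
  | nil =>
    rw [wordElt_nil, map_one]
    exact ⟨fun _ => rfl, fun _ => L.one_mem⟩
  | cons c w ih =>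
    rw [wordElt_cons, map_mul, Subgroup.mul_mem_iff_of_index_two hL, ih, par_cons]
    by_cases hc : PresentedGroup.mk (wrels k base) (ceOf (gcF k) c) ∈ L
    · simp [hc]
    · simp [hc]

open Classical in
/-- a group presented by words in involutions such that the letter counts of the relators modulo
two have no common nontrivial solution has no subgroup of index two -/
theorem no_index_two {base : List (List ℕ)}
    (hchk : ∀ ε : Fin k → Bool, (∀ b ∈ base, par (fun c => ε (Fin.ofNat k c)) b = false) →
      ∀ i, ε i = false)
    (L : Subgroup (WG k base)) : L.index ≠ 2 := by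
  intro hL
  have h1 := hchk (fun i => decide (PresentedGroup.mk (wrels k base) (FreeGroup.of i) ∉ L)) (by
    intro b hb
    have := (mem_iff_par L hL b).mp (by rw [wp_hbase b hb]; exact L.one_mem)
    exact this)
  have htop : L = ⊤ := by
    rw [eq_top_iff]
    intro x _
    apply PresentedGroup.generated_by (wrels k base) L
    intro i
    have h2 := h1 i
    have h3 : PresentedGroup.mk (wrels k base) (FreeGroup.of i) ∈ L := by simpa using h2
    exact h3
  rw [htop, Subgroup.index_top] at hL
  omega

theorem par_congr {ε ε' : ℕ → Bool} {w : List ℕ} (h : ∀ c ∈ w, ε c = ε' c) :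
    par ε w = par ε' w := by
  induction w with
  | nil => rfl
  | cons c w ih =>
    rw [par_cons, par_cons, h c List.mem_cons_self,
      ih (fun d hd => h d (List.mem_cons_of_mem _ hd))]

/-- the same, with the solutions given by the bits of a number -/
theorem no_index_two' {base : List (List ℕ)} (hbl : ∀ b ∈ base, ∀ c ∈ b, c < k)
    (hchk : ∀ m < 2 ^ k, (∀ b ∈ base, par (fun c => m.testBit c) b = false) → m = 0)
    (L : Subgroup (WG k base)) : L.index ≠ 2 := by
  apply no_index_two
  intro ε h i
  have hm := hchk (Nat.ofBits ε) (Nat.ofBits_lt_two_pow ε) (by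
    intro b hb
    rw [← h b hb]
    apply par_congr
    intro c hc
    have hck : c < k := hbl b hb c hc
    rw [Nat.testBit_ofBits_lt ε c hck]
    congr 1
    apply Fin.ext
    rw [Fin.val_ofNat, Nat.mod_eq_of_lt hck])
  have := Nat.testBit_ofBits_lt ε i.val i.isLt
  rw [hm, Nat.zero_testBit] at this
  exact this.symm

end parity

end Cfsg.Agent.Lib.Helper6.DC
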