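import Cfsg.Agent.Lib.Helper6.TT1
import Cfsg.Agent.Lib.Helper6.DC1

set_option autoImplicit false

namespace Cfsg.Agent.Lib.Helper6.TT

open Cfsg

/-! # Classes of 3-transpositions from actions of rank three -/

section rank3
variable {G : Type*} [Group G]

/-- the three orbits of a subgroup of rank three cover its cosets -/
theorem rank3_cover (H : Subgroup G) {n s₁ s₂ : ℕ} (hidx : H.index = n)
    (q₁ q₂ : G ⧸ H) (h₁ : (MulAction.orbit H q₁).ncard = s₁)
    (h₂ : (MulAction.orbit H q₂).ncard = s₂)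
    (hsum : 1 + s₁ + s₂ = n) (hs₁ : 1 < s₁) (hs₂ : 1 < s₂) (hne : s₁ ≠ s₂) :
    ∀ q : G ⧸ H, q = ((1 : G) : G ⧸ H) ∨ q ∈ MulAction.orbit H q₁ ∨ q ∈ MulAction.orbit H q₂ := by
  have hn0 : H.index ≠ 0 := by rw [hidx]; omega
  have hfin : Finite (G ⧸ H) := by
    have : Nat.card (G ⧸ H) ≠ 0 := by rw [← Subgroup.index_eq_card]; exact hn0
    exact Nat.finite_of_card_ne_zero this
  set a : G ⧸ H := ((1 : G) : G ⧸ H) with ha
  have hst : MulAction.stabilizer G a = H := MulAction.stabilizer_quotient H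
  have hO0 : MulAction.orbit H a = {a} := by
    ext q
    constructor
    · rintro ⟨h, rfl⟩
      have : (h : G) ∈ MulAction.stabilizer G a := by rw [hst]; exact h.property
      exact this
    · rintro rfl
      exact MulAction.mem_orbit_self _
  have ha1 : a ∉ MulAction.orbit H q₁ := by
    intro h
    have := MulAction.orbit_eq_iff.mpr h
    rw [← this, hO0, Set.ncard_singleton] at h₁
    omega
  have ha2 : a ∉ MulAction.orbit H q₂ := by
    intro h
    have := MulAction.orbit_eq_iff.mpr h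
    rw [← this, hO0, Set.ncard_singleton] at h₂
    omega
  have h12 : Disjoint (MulAction.orbit H q₁) (MulAction.orbit H q₂) := by
    rcases MulAction.orbit.eq_or_disjoint (G := H) q₁ q₂ with h | h
    · rw [h, h₂] at h₁
      exact absurd h₁.symm hne
    · exact h
  have hcov : ({a} ∪ MulAction.orbit H q₁) ∪ MulAction.orbit H q₂ = Set.univ := by
    apply Set.eq_of_subset_of_ncard_le (Set.subset_univ _)
    rw [Set.ncard_univ, ← Subgroup.index_eq_card, hidx]
    have d1 : Disjoint ({a} : Set (G ⧸ H)) (MulAction.orbit H q₁) :=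
      Set.disjoint_singleton_left.mpr ha1
    have d2 : Disjoint (({a} : Set (G ⧸ H)) ∪ MulAction.orbit H q₁) (MulAction.orbit H q₂) := by
      rw [Set.disjoint_union_left]
      exact ⟨Set.disjoint_singleton_left.mpr ha2, h12⟩
    rw [Set.ncard_union_eq d2 (Set.toFinite _) (Set.toFinite _),
      Set.ncard_union_eq d1 (Set.toFinite _) (Set.toFinite _), Set.ncard_singleton, h₁, h₂, hsum]
  intro q
  have : q ∈ (({a} ∪ MulAction.orbit H q₁) ∪ MulAction.orbit H q₂ : Set (G ⧸ H)) := by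
    rw [hcov]; trivial
  rcases this with (hq | hq) | hq
  · left; exact hq
  · right; left; exact hq
  · right; right; exact hq

/-- two cosets in the same orbit of `H` come from elements of the same double coset -/
theorem exists_of_same_orbit (H : Subgroup G) (q : G ⧸ H) (g g' : G)
    (hg : (g : G ⧸ H) ∈ MulAction.orbit H q) (hg' : (g' : G ⧸ H) ∈ MulAction.orbit H q) :
    ∃ h ∈ H, ∃ h' ∈ H, g = h * g' * h' := by
  have h1 : (g : G ⧸ H) ∈ MulAction.orbit H (g' : G ⧸ H) := by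
    rw [MulAction.orbit_eq_iff.mpr hg']
    exact hg
  obtain ⟨h, hh⟩ := h1
  have hh' : (((h : G) * g' : G) : G ⧸ H) = (g : G ⧸ H) := hh
  rw [QuotientGroup.eq] at hh'
  refine ⟨h, h.property, _, hh', ?_⟩
  group

/-- a property of the elements invariant under `H` on both sides holds everywhere once it holds at
the representatives of the three double cosets -/
theorem rank3_induction (H : Subgroup G) {n s₁ s₂ : ℕ} (hidx : H.index = n)
    (q₁ q₂ : G ⧸ H) (h₁ : (MulAction.orbit H q₁).ncard = s₁)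
    (h₂ : (MulAction.orbit H q₂).ncard = s₂)
    (hsum : 1 + s₁ + s₂ = n) (hs₁ : 1 < s₁) (hs₂ : 1 < s₂) (hne : s₁ ≠ s₂)
    (P Q : G → Prop)
    (hP : ∀ h ∈ H, ∀ h' ∈ H, ∀ g, P g → P (h * g * h'))
    (hQ : ∀ h ∈ H, ∀ h' ∈ H, ∀ g, Q g → Q (h * g * h'))
    (t₁ t₂ : G) (ht₁ : t₁ ∉ H) (hQ0 : Q 1) (hQ1 : Q t₁) (hQ2 : ¬ Q t₂)
    (hP0 : P 1) (hP1 : P t₁) (hP2 : P t₂) : ∀ g, P g := by
  have hcov := rank3_cover H hidx q₁ q₂ h₁ h₂ hsum hs₁ hs₂ hne
  have ht₂ : t₂ ∉ H := by
    intro h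
    apply hQ2
    have := hQ 1 H.one_mem t₂ h 1 hQ0
    rwa [one_mul, one_mul] at this
  have hin : ∀ t : G, t ∉ H → (t : G ⧸ H) ∈ MulAction.orbit H q₁ ∨
      (t : G ⧸ H) ∈ MulAction.orbit H q₂ := by
    intro t ht
    rcases hcov (t : G ⧸ H) with h | h
    · exfalso
      apply ht
      rw [QuotientGroup.eq, mul_one] at h
      exact (Subgroup.inv_mem_iff H).mp h
    · exact h
  have hdiff : ∀ q : G ⧸ H, (t₁ : G ⧸ H) ∈ MulAction.orbit H q →
      (t₂ : G ⧸ H) ∈ MulAction.orbit H q → False := by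
    intro q a1 a2
    obtain ⟨h, hh, h', hh', e⟩ := exists_of_same_orbit H q t₂ t₁ a2 a1
    apply hQ2
    rw [e]
    exact hQ h hh h' hh' t₁ hQ1
  have key : ∀ (q : G ⧸ H) (t g : G), P t → (t : G ⧸ H) ∈ MulAction.orbit H q →
      (g : G ⧸ H) ∈ MulAction.orbit H q → P g := by
    intro q t g ht a1 a2
    obtain ⟨h, hh, h', hh', e⟩ := exists_of_same_orbit H q g t a2 a1
    rw [e]
    exact hP h hh h' hh' t ht
  intro g
  by_cases hg : g ∈ H
  · have := hP 1 H.one_mem g hg 1 hP0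
    rwa [one_mul, one_mul] at this
  · rcases hin g hg with c | c
    · rcases hin t₁ ht₁ with c1 | c1
      · exact key q₁ t₁ g hP1 c1 c
      · rcases hin t₂ ht₂ with c2 | c2
        · exact key q₁ t₂ g hP2 c2 c
        · exact absurd c2 (fun c2 => hdiff q₂ c1 c2)
    · rcases hin t₁ ht₁ with c1 | c1
      · rcases hin t₂ ht₂ with c2 | c2
        · exact absurd c2 (fun c2 => hdiff q₁ c1 c2)
        · exact key q₂ t₂ g hP2 c2 c
      · exact key q₂ t₁ g hP1 c1 c

/-- the products of an involution with its conjugates have order at most three, when this holds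
for representatives of the suborbits of its centralizer -/
theorem three_transp_of_rank3 (H : Subgroup G) (z : G)
    (hHz : ∀ h ∈ H, h * z = z * h) (hz2 : z * z = 1)
    {n s₁ s₂ : ℕ} (hidx : H.index = n)
    (q₁ q₂ : G ⧸ H) (h₁ : (MulAction.orbit H q₁).ncard = s₁)
    (h₂ : (MulAction.orbit H q₂).ncard = s₂)
    (hsum : 1 + s₁ + s₂ = n) (hs₁ : 1 < s₁) (hs₂ : 1 < s₂) (hne : s₁ ≠ s₂)
    (t₁ t₂ : G) (ht₁ : t₁ ∉ H)
    (hc₁ : (z * (t₁ * z * t₁⁻¹)) ^ 2 = 1)
    (hc₂ : (z * (t₂ * z * t₂⁻¹)) ^ 2 ≠ 1) (h3 : (z * (t₂ * z * t₂⁻¹)) ^ 3 = 1) :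
    ∀ g : G, (z * (g * z * g⁻¹)) ^ 2 = 1 ∨ (z * (g * z * g⁻¹)) ^ 3 = 1 := by
  have hconj : ∀ h ∈ H, ∀ h' ∈ H, ∀ g : G,
      z * ((h * g * h') * z * (h * g * h')⁻¹) = h * (z * (g * z * g⁻¹)) * h⁻¹ := by
    intro h hh h' hh' g
    have e1 : h' * z * h'⁻¹ = z := by rw [hHz h' hh']; group
    have e2 : z * h = h * z := (hHz h hh).symm
    calc z * ((h * g * h') * z * (h * g * h')⁻¹)
        = z * (h * g * (h' * z * h'⁻¹) * g⁻¹ * h⁻¹) := by group
      _ = (z * h) * (g * z * g⁻¹) * h⁻¹ := by rw [e1]; group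
      _ = h * (z * (g * z * g⁻¹)) * h⁻¹ := by rw [e2]; group
  have hpow : ∀ (h y : G) (k : ℕ), (h * y * h⁻¹) ^ k = 1 ↔ y ^ k = 1 := by
    intro h y k
    rw [conj_pow]
    constructor
    · intro e
      have : y ^ k = h⁻¹ * (h * y ^ k * h⁻¹) * h := by group
      rw [this, e]; group
    · intro e
      rw [e]; group
  refine rank3_induction H hidx q₁ q₂ h₁ h₂ hsum hs₁ hs₂ hne
    (fun g => (z * (g * z * g⁻¹)) ^ 2 = 1 ∨ (z * (g * z * g⁻¹)) ^ 3 = 1)
    (fun g => (z * (g * z * g⁻¹)) ^ 2 = 1) ?_ ?_ t₁ t₂ ht₁ ?_ hc₁ hc₂ ?_ (Or.inl hc₁) (Or.inr h3)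
  · intro h hh h' hh' g hg
    show (z * ((h * g * h') * z * (h * g * h')⁻¹)) ^ 2 = 1 ∨
      (z * ((h * g * h') * z * (h * g * h')⁻¹)) ^ 3 = 1
    rw [hconj h hh h' hh' g, hpow, hpow]
    exact hg
  · intro h hh h' hh' g hg
    show (z * ((h * g * h') * z * (h * g * h')⁻¹)) ^ 2 = 1
    rw [hconj h hh h' hh' g, hpow]
    exact hg
  · show (z * (1 * z * 1⁻¹)) ^ 2 = 1
    rw [one_mul, inv_one, mul_one, hz2, one_pow]
  · left
    show (z * (1 * z * 1⁻¹)) ^ 2 = 1
    rw [one_mul, inv_one, mul_one, hz2, one_pow]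

/-- the conjugates of an involution form a set of 3-transpositions when the products of the
involution with its conjugates have order at most three -/
theorem isThreeTranspositionSet_conjugatesOf (z : G) (hz : orderOf z = 2)
    (h : ∀ g : G, (z * (g * z * g⁻¹)) ^ 2 = 1 ∨ (z * (g * z * g⁻¹)) ^ 3 = 1) :
    IsThreeTranspositionSet (conjugatesOf z) := by
  have hpow : ∀ (h y : G) (k : ℕ), y ^ k = 1 → (h * y * h⁻¹) ^ k = 1 := by
    intro h y k e
    rw [conj_pow, e]; group
  constructor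
  · intro d hd
    obtain ⟨c, rfl⟩ := isConj_iff.mp hd
    have hsc : SemiconjBy c z (c * z * c⁻¹) := by
      show c * z = c * z * c⁻¹ * c
      group
    rw [← hsc.orderOf_eq]
    exact hz
  · intro d hd e he
    obtain ⟨a, rfl⟩ := isConj_iff.mp hd
    obtain ⟨b, rfl⟩ := isConj_iff.mp he
    have e1 : a * z * a⁻¹ * (b * z * b⁻¹) =
        a * (z * ((a⁻¹ * b) * z * (a⁻¹ * b)⁻¹)) * a⁻¹ := by group
    rw [e1]
    rcases h (a⁻¹ * b) with h2 | h3
    · left; exact hpow _ _ _ h2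
    · right; exact hpow _ _ _ h3

end rank3

section final
variable {G : Type*} [Group G] [Finite G]

/-- the class of 3-transpositions of a simple group with a maximal subgroup of rank three that
centralizes an involution -/
theorem realization (hs : IsSimpleGroup G) (hnp : ¬ (Nat.card G).Prime)
    (H : Subgroup G) (hmax : ∀ M : Subgroup G, H ≤ M → M = H ∨ M = ⊤)
    (z : G) (hz1 : z ≠ 1) (hz2 : z * z = 1) (hHz : ∀ h ∈ H, h * z = z * h)
    {n s₁ s₂ : ℕ} (hidx : H.index = n)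
    (q₁ q₂ : G ⧸ H) (h₁ : (MulAction.orbit H q₁).ncard = s₁)
    (h₂ : (MulAction.orbit H q₂).ncard = s₂)
    (hsum : 1 + s₁ + s₂ = n) (hs₁ : 1 < s₁) (hs₂ : 1 < s₂) (hne : s₁ ≠ s₂)
    (t₁ t₂ : G) (ht₁ : t₁ ∉ H)
    (hc₁ : (z * (t₁ * z * t₁⁻¹)) ^ 2 = 1)
    (hc₂ : (z * (t₂ * z * t₂⁻¹)) ^ 2 ≠ 1) (h3 : (z * (t₂ * z * t₂⁻¹)) ^ 3 = 1)
    {K : Type*} [Group K] (hK : IsNonsplitDoubleCover H K) :
    ∃ D : Set G, IsThreeTranspositionClass D ∧ Nat.card D = n ∧
      ∀ d ∈ D, IsNonsplitDoubleCover (Subgroup.centralizer ({d} : Set G)) K := by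
  have hord : orderOf z = 2 := by
    have : Fact (Nat.Prime 2) := ⟨Nat.prime_two⟩
    apply orderOf_eq_prime
    · rw [pow_two]; exact hz2
    · exact hz1
  -- the centralizer of z is H
  have hle : H ≤ Subgroup.centralizer {z} := by
    intro h hh
    rw [Subgroup.mem_centralizer_iff]
    intro y hy
    rw [Set.mem_singleton_iff] at hy
    subst hy
    exact (hHz h hh).symm
  have hcen : Subgroup.centralizer {z} = H := by
    rcases hmax _ hle with h | h
    · exact h
    · exfalso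
      have hc := Cfsg.Agent.Lib.Helper6.DC.center_eq_bot_of_simple (K := G) hnp
      have : z ∈ Subgroup.center G := by
        rw [Subgroup.mem_center_iff]
        intro g
        have hg : g ∈ Subgroup.centralizer {z} := by rw [h]; trivial
        rw [Subgroup.mem_centralizer_iff] at hg
        exact (hg z rfl).symm
      rw [hc, Subgroup.mem_bot] at this
      exact hz1 this
  refine ⟨conjugatesOf z, ⟨?_, ⟨z, mem_conjugatesOf_self, rfl⟩, ?_⟩, ?_, ?_⟩
  · exact isThreeTranspositionSet_conjugatesOf z hord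
      (three_transp_of_rank3 H z hHz hz2 hidx q₁ q₂ h₁ h₂ hsum hs₁ hs₂ hne t₁ t₂ ht₁ hc₁ hc₂ h3)
  · have hn : Subgroup.normalClosure ({z} : Set G) = ⊤ := by
      rcases hs.eq_bot_or_eq_top_of_normal (Subgroup.normalClosure ({z} : Set G))
        Subgroup.normalClosure_normal with h | h
      · exfalso
        have : z ∈ Subgroup.normalClosure ({z} : Set G) :=
          Subgroup.subset_normalClosure (Set.mem_singleton z)
        rw [h, Subgroup.mem_bot] at this
        exact hz1 this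
      · exact h
    rw [← hn, Subgroup.normalClosure]
    congr 1
    ext x
    rw [Group.mem_conjugatesOfSet_iff]
    constructor
    · intro hx
      exact ⟨z, rfl, hx⟩
    · rintro ⟨a, ha, hx⟩
      rw [Set.mem_singleton_iff] at ha
      subst ha
      exact hx
  · rw [card_conjugatesOf, hcen, hidx]
  · intro d hd
    obtain ⟨c, rfl⟩ := isConj_iff.mp hd
    have e1 : H ≃* Subgroup.centralizer ({z} : Set G) := MulEquiv.subgroupCongr hcen.symm
    exact nonsplit_of_equiv (e1.trans (centralizerConjEquiv c z)) hK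

end final

end Cfsg.Agent.Lib.Helper6.TT
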