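import Cfsg.Agent.Lib.Helper6.TC7

set_option autoImplicit false

namespace Cfsg.Agent.Lib.Helper6.TC

/-! # Permutation representations of presented groups from coset tables -/

/-- the action of a word of columns on points (first letter first) -/
def wapp (px : ℕ → ℕ → ℕ) (w : List ℕ) (p : ℕ) : ℕ := w.foldl (fun p c => px c p) p

theorem wapp_nil (px : ℕ → ℕ → ℕ) (p : ℕ) : wapp px [] p = p := rfl
theorem wapp_cons (px : ℕ → ℕ → ℕ) (c : ℕ) (w : List ℕ) (p : ℕ) :
    wapp px (c :: w) p = wapp px w (px c p) := rfl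

/-- the hypotheses on a table of permutations -/
structure PHyp (px : ℕ → ℕ → ℕ) (N ncol INV : ℕ) : Prop where
  Npos : 0 < N
  hinv1 : ∀ c < ncol, invc INV c < ncol
  hinvinv : ∀ c < ncol, invc INV (invc INV c) = c
  hlt : ∀ c < ncol, ∀ p < N, px c p < N
  hpx : ∀ c < ncol, ∀ p < N, px (invc INV c) (px c p) = p

section perm
variable {px : ℕ → ℕ → ℕ} {N ncol INV : ℕ}

/-- the permutation of a column -/
noncomputable def colPerm (hP : PHyp px N ncol INV) (c : ℕ) : Equiv.Perm (Fin N) :=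
  if hc : c < ncol then
    { toFun := fun p => ⟨px c p.val, hP.hlt c hc p.val p.isLt⟩
      invFun := fun p => ⟨px (invc INV c) p.val, hP.hlt _ (hP.hinv1 c hc) p.val p.isLt⟩
      left_inv := fun p => Fin.ext (hP.hpx c hc p.val p.isLt)
      right_inv := fun p => Fin.ext (by
        have := hP.hpx _ (hP.hinv1 c hc) p.val p.isLt
        rw [hP.hinvinv c hc] at this
        exact this) }
  else 1

theorem colPerm_apply (hP : PHyp px N ncol INV) {c : ℕ} (hc : c < ncol) (p : Fin N) :
    (colPerm hP c p).val = px c p.val := by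
  unfold colPerm
  rw [dif_pos hc]
  rfl

theorem colPerm_inv (hP : PHyp px N ncol INV) {c : ℕ} (hc : c < ncol) :
    colPerm hP (invc INV c) = (colPerm hP c)⁻¹ := by
  ext p
  rw [colPerm_apply hP (hP.hinv1 c hc)]
  have : (colPerm hP c)⁻¹ p = ⟨px (invc INV c) p.val, hP.hlt _ (hP.hinv1 c hc) p.val p.isLt⟩ := by
    rw [Equiv.Perm.inv_eq_iff_eq]
    apply Fin.ext
    rw [colPerm_apply hP hc]
    have := hP.hpx _ (hP.hinv1 c hc) p.val p.isLt
    rw [hP.hinvinv c hc] at this
    exact this.symm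
  rw [this]

variable {Gen : Type*} {rels : Set (FreeGroup Gen)} {S : Set (FreeGroup Gen)} {gc : ℕ → Gen × Bool}

/-- the hypotheses linking columns and generators -/
structure CHyp (gc : ℕ → Gen × Bool) (col : Gen → ℕ) (ncol INV : ℕ) : Prop where
  hcol : ∀ g, col g < ncol ∧ gc (col g) = (g, false)
  hgc : ∀ c < ncol, (gc c).2 = false → col (gc c).1 = c
  hgc' : ∀ c < ncol, (gc c).2 = true → invc INV (col (gc c).1) = c

theorem lift_ceOf (hP : PHyp px N ncol INV) {col : Gen → ℕ} (hC : CHyp gc col ncol INV)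
    {c : ℕ} (hc : c < ncol) :
    FreeGroup.lift (fun g => (colPerm hP (col g))⁻¹) (ceOf gc c) = (colPerm hP c)⁻¹ := by
  unfold ceOf
  cases hb : (gc c).2 with
  | false =>
    rw [cond_false, FreeGroup.lift_apply_of, hC.hgc c hc hb]
  | true =>
    rw [cond_true, map_inv, FreeGroup.lift_apply_of, inv_inv]
    have h1 := hC.hgc' c hc hb
    have h2 := colPerm_inv hP (hC.hcol (gc c).1).1
    rw [h1] at h2
    rw [h2, inv_inv]

theorem lift_wordElt (hP : PHyp px N ncol INV) {col : Gen → ℕ} (hC : CHyp gc col ncol INV) :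
    ∀ (w : List ℕ), (∀ c ∈ w, c < ncol) → ∀ p : Fin N,
      ((FreeGroup.lift (fun g => (colPerm hP (col g))⁻¹) (wordElt gc w))⁻¹ p).val =
        wapp px w p.val := by
  intro w
  induction w with
  | nil => intro _ p; rw [wordElt_nil, map_one, inv_one, wapp_nil]; rfl
  | cons c w ih =>
    intro hw p
    have hc : c < ncol := hw c List.mem_cons_self
    rw [wordElt_cons, map_mul, mul_inv_rev, lift_ceOf hP hC hc, inv_inv, Equiv.Perm.mul_apply,
      ih (fun d hd => hw d (List.mem_cons_of_mem _ hd)), colPerm_apply hP hc, wapp_cons]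

/-- the permutation representation attached to a coset table -/
theorem perm_rep (hP : PHyp px N ncol INV) {col : Gen → ℕ} (hC : CHyp gc col ncol INV)
    (hrelP : ∀ r ∈ rels, ∀ ψ : FreeGroup Gen →* Equiv.Perm (Fin N),
      (∀ c < ncol, ψ (ceOf gc (invc INV c)) = (ψ (ceOf gc c))⁻¹) →
      ∃ w, (∀ c ∈ w, c < ncol) ∧ ψ r = ψ (wordElt gc w) ∧ ∀ p < N, wapp px w p = p)
    (hsubP : ∀ s ∈ S, ∃ w, (∀ c ∈ w, c < ncol) ∧ s = wordElt gc w ∧ wapp px w 0 = 0)
    (htree : ∀ p, 0 < p → p < N → ∃ c < ncol, ∃ q < p, px c q = p) :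
    ∃ φ : PresentedGroup rels →* Equiv.Perm (Fin N),
      (∀ w, (∀ c ∈ w, c < ncol) → ∀ p : Fin N,
        ((φ (PresentedGroup.mk rels (wordElt gc w)))⁻¹ p).val = wapp px w p.val) ∧
      (∀ h ∈ subH rels S, φ h ⟨0, hP.Npos⟩ = ⟨0, hP.Npos⟩) ∧
      (∀ p : Fin N, ∃ g, φ g ⟨0, hP.Npos⟩ = p) := by
  have hrels : ∀ r ∈ rels, FreeGroup.lift (fun g => (colPerm hP (col g))⁻¹) r = 1 := by
    intro r hr
    obtain ⟨w, hw, hrw, hfix⟩ := hrelP r hr (FreeGroup.lift (fun g => (colPerm hP (col g))⁻¹)) (by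
      intro c hc
      rw [lift_ceOf hP hC (hP.hinv1 c hc), lift_ceOf hP hC hc, colPerm_inv hP hc])
    rw [hrw, ← inv_eq_one]
    ext p
    rw [lift_wordElt hP hC w hw p, hfix p.val p.isLt]
    rfl
  refine ⟨PresentedGroup.toGroup hrels, ?_, ?_, ?_⟩
  · intro w hw p
    have : PresentedGroup.toGroup hrels (PresentedGroup.mk rels (wordElt gc w)) =
        FreeGroup.lift (fun g => (colPerm hP (col g))⁻¹) (wordElt gc w) := rfl
    rw [this]
    exact lift_wordElt hP hC w hw p
  · intro h hh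
    obtain ⟨x, hx, rfl⟩ := Subgroup.mem_map.mp hh
    clear hh
    induction hx using Subgroup.closure_induction with
    | mem s hs =>
      obtain ⟨w, hw, rfl, hfix⟩ := hsubP s hs
      have h1 : PresentedGroup.toGroup hrels (PresentedGroup.mk rels (wordElt gc w)) =
          FreeGroup.lift (fun g => (colPerm hP (col g))⁻¹) (wordElt gc w) := rfl
      have h2 := lift_wordElt hP hC w hw ⟨0, hP.Npos⟩
      rw [hfix] at h2
      have h3 : (FreeGroup.lift (fun g => (colPerm hP (col g))⁻¹) (wordElt gc w))⁻¹ ⟨0, hP.Npos⟩ =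
          ⟨0, hP.Npos⟩ := Fin.ext h2
      rw [h1]
      rw [Equiv.Perm.inv_eq_iff_eq] at h3
      exact h3.symm
    | one => rw [map_one, map_one]; rfl
    | mul x y _ _ hx hy =>
      rw [map_mul, map_mul, Equiv.Perm.mul_apply, hy, hx]
    | inv x _ hx =>
      rw [map_inv, map_inv, Equiv.Perm.inv_eq_iff_eq]
      exact hx.symm
  · intro p
    obtain ⟨p, hp⟩ := p
    induction p using Nat.strong_induction_on with
    | _ p ih =>
      rcases Nat.eq_zero_or_pos p with h0 | h0
      · subst h0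
        exact ⟨1, by rw [map_one]; rfl⟩
      · obtain ⟨c, hc, q, hq, hpq⟩ := htree p h0 hp
        obtain ⟨g, hg⟩ := ih q hq (by omega)
        refine ⟨(PresentedGroup.mk rels (wordElt gc [c]))⁻¹ * g, ?_⟩
        rw [map_mul, Equiv.Perm.mul_apply, hg, map_inv]
        have h1 : PresentedGroup.toGroup hrels (PresentedGroup.mk rels (wordElt gc [c])) =
            FreeGroup.lift (fun g => (colPerm hP (col g))⁻¹) (wordElt gc [c]) := rfl
        rw [h1]
        apply Fin.ext
        rw [lift_wordElt hP hC [c] (by simpa using hc)]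
        exact hpq

end perm

end Cfsg.Agent.Lib.Helper6.TC
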