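import Cfsg.Agent.Lib.Helper6.Simp5

set_option autoImplicit false

namespace Cfsg.Agent.Lib.Helper6.Simp

/-! # Realisations as transitive groups of permutations, and simple subgroups -/

section real
variable {G : Type*} [Group G] {N : ℕ}

/-- the range of a homomorphism to permutations which is the action on the cosets of a subgroup
is transitive -/
theorem range_pretransitive (φ : G →* Equiv.Perm (Fin N)) (H : Subgroup G)
    (F : G ⧸ H ≃ Fin N) (hF : ∀ g q, F (g • q) = φ g (F q)) :
    MulAction.IsPretransitive φ.range (Fin N) := by
  refine ⟨?_⟩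
  intro p q
  obtain ⟨g, hg⟩ := MulAction.exists_smul_eq G (F.symm p) (F.symm q)
  refine ⟨⟨φ g, g, rfl⟩, ?_⟩
  show φ g p = q
  have h1 := hF g (F.symm p)
  rw [hg, Equiv.apply_symm_apply, Equiv.apply_symm_apply] at h1
  exact h1.symm

/-- the order of a point stabiliser in a transitive group of permutations -/
theorem card_stabilizer_of_pretransitive (K : Subgroup (Equiv.Perm (Fin N)))
    (htr : MulAction.IsPretransitive K (Fin N)) {n m : ℕ} (hK : Nat.card K = n)
    (hnm : N * m = n) (hN : 0 < N) (p : Fin N) :
    Nat.card (MulAction.stabilizer K p) = m := by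
  have h1 : (MulAction.stabilizer K p).index = Nat.card (Fin N) :=
    MulAction.index_stabilizer_of_transitive K p
  have h2 := Subgroup.card_mul_index (MulAction.stabilizer K p)
  rw [h1, Nat.card_fin, hK, ← hnm, mul_comm] at h2
  exact Nat.eq_of_mul_eq_mul_left hN h2

end real

section sub
variable {G Q : Type*} [Group G] [Group Q]

/-- a homomorphism out of a simple group which is not trivial is injective -/
theorem injective_of_simple (ψ : G →* Q) (hs : IsSimpleGroup G) {x : G} (hx : ψ x ≠ 1) :
    Function.Injective ψ := by
  rw [← MonoidHom.ker_eq_bot_iff]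
  rcases ψ.normal_ker.eq_bot_or_eq_top with h | h
  · exact h
  · exfalso
    apply hx
    rw [← MonoidHom.mem_ker, h]
    exact Subgroup.mem_top x

/-- a simple group mapping injectively to `Q` through a homomorphism to `G'`, the latter being
mapped injectively to `Q`: a simple subgroup of the range -/
theorem exists_simple_subgroup {G' : Type*} [Group G'] (φ : G' →* Q)
    (hinj : Function.Injective φ) (ψ : G →* G') (hψ : Function.Injective ψ)
    (hs : IsSimpleGroup G) {n : ℕ} (hc : Nat.card G = n) :
    ∃ K : Subgroup φ.range, IsSimpleGroup K ∧ Nat.card K = n := by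
  let θ : G →* φ.range := φ.rangeRestrict.comp ψ
  have hθ : Function.Injective θ := by
    intro a b hab
    apply hψ
    apply hinj
    have := congrArg Subtype.val hab
    exact this
  exact ⟨θ.range, range_simple θ hθ hs hc⟩

end sub

end Cfsg.Agent.Lib.Helper6.Simp
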