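import Mathlib

set_option autoImplicit false

namespace Cfsg.Agent.Lib.Helper6.TC

/-! # A verified checker for Todd–Coxeter certificates (definitions)

Names `0, …, n-1` form a tree (`par`, `lt`); every name `ν` has a value `val ν` in a set `X`
acted on by letters.  Slot facts say `act x (val α) = val β`, merge facts say `val ν = val μ`.
All facts carry a time and a justification that only refers to earlier facts.  Everything is
written with raw kernel-accelerated operations so that the kernel can evaluate the checks. -/

/-- iterate a Boolean test over `0, …, n-1` -/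
noncomputable def allB (f : ℕ → Bool) (n : ℕ) : Bool :=
  Nat.rec (motive := fun _ => Bool) true (fun k ih => Bool.rec false ih (f k)) n

theorem allB_zero (f : ℕ → Bool) : allB f 0 = true := rfl
theorem allB_succ (f : ℕ → Bool) (k : ℕ) :
    allB f (k + 1) = Bool.rec false (allB f k) (f k) := rfl

theorem allB_spec {f : ℕ → Bool} {n : ℕ} (h : allB f n = true) : ∀ i < n, f i = true := by
  induction n with
  | zero => intro i hi; omega
  | succ k ih =>
    rw [allB_succ] at h
    intro i hi
    cases hf : f k with
    | false => rw [hf] at h; exact absurd h (by simp)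
    | true =>
      rw [hf] at h
      rcases Nat.lt_succ_iff_lt_or_eq.mp hi with h1 | rfl
      · exact ih h i h1
      · exact hf

/-- iterate a Boolean test over `lo, …, lo+len-1` -/
noncomputable def allR (f : ℕ → Bool) (lo len : ℕ) : Bool := allB (fun k => f (Nat.add lo k)) len

theorem allR_spec {f : ℕ → Bool} {lo len : ℕ} (h : allR f lo len = true) :
    ∀ i, lo ≤ i → i < lo + len → f i = true := by
  intro i h1 h2
  have h3 := allB_spec h (i - lo) (by omega)
  have e : Nat.add lo (i - lo) = i := by change lo + (i - lo) = i; omega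
  simp only [e] at h3
  exact h3

/-- conjunction, evaluating the second argument only if needed -/
noncomputable def band (a b : Bool) : Bool := Bool.rec false b a

@[simp] theorem band_eq_true (a b : Bool) : band a b = true ↔ a = true ∧ b = true := by
  cases a <;> simp [band]

/-- disjunction -/
noncomputable def bor (a b : Bool) : Bool := Bool.rec b true a

@[simp] theorem bor_eq_true (a b : Bool) : bor a b = true ↔ a = true ∨ b = true := by
  cases a <;> simp [bor]

/-- selection among five alternatives -/
noncomputable def sel5 (k : ℕ) (a0 a1 a2 a3 a4 : Bool) : Bool :=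
  Nat.rec (motive := fun _ => Bool) a0 (fun k1 _ =>
    Nat.rec (motive := fun _ => Bool) a1 (fun k2 _ =>
      Nat.rec (motive := fun _ => Bool) a2 (fun k3 _ =>
        Nat.rec (motive := fun _ => Bool) a3 (fun k4 _ =>
          Nat.rec (motive := fun _ => Bool) a4 (fun _ _ => false) k4) k3) k2) k1) k

theorem sel5_true {k : ℕ} {a0 a1 a2 a3 a4 : Bool} (h : sel5 k a0 a1 a2 a3 a4 = true) :
    (k = 0 ∧ a0 = true) ∨ (k = 1 ∧ a1 = true) ∨ (k = 2 ∧ a2 = true) ∨ (k = 3 ∧ a3 = true) ∨
      (k = 4 ∧ a4 = true) := by
  match k, h with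
  | 0, h => exact Or.inl ⟨rfl, h⟩
  | 1, h => exact Or.inr (Or.inl ⟨rfl, h⟩)
  | 2, h => exact Or.inr (Or.inr (Or.inl ⟨rfl, h⟩))
  | 3, h => exact Or.inr (Or.inr (Or.inr (Or.inl ⟨rfl, h⟩)))
  | 4, h => exact Or.inr (Or.inr (Or.inr (Or.inr ⟨rfl, h⟩)))
  | (k + 5), h => exact absurd h (by simp [sel5])

section checker

-- the tables: hot and cold slot records, hot and cold name records, words; the parameters
variable (SH SC NH NC WD : ℕ → ℕ) (n ncol nrw nw tmax INV : ℕ)

/-- guarded slot table -/
noncomputable def SHg (i : ℕ) : ℕ :=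
  Bool.rec (SH i) (Nat.shiftLeft tmax 20) (Nat.ble (Nat.mul n ncol) i)

/-- guarded name table -/
noncomputable def NHg (ν : ℕ) : ℕ :=
  Bool.rec (NH ν) (Nat.shiftLeft tmax 20) (Nat.ble n ν)

/-- inverse column -/
noncomputable def invc (c : ℕ) : ℕ := Nat.land (Nat.shiftRight INV (Nat.mul 4 c)) 15

/-- one step of a walk at time `t`, from name `cur` along letter `y`; the result `n` means failure -/
noncomputable def stp (t : ℕ) (fuel : ℕ) : ℕ → ℕ → ℕ :=
  Nat.rec (motive := fun _ => ℕ → ℕ → ℕ) (fun _ _ => n)
    (fun _ ih cur y =>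
      (fun e => Bool.rec (Nat.land e 1048575)
        ((fun h => Bool.rec (ih (Nat.land h 1048575) y) n (Nat.ble t (Nat.shiftRight h 20)))
          (NHg NH n tmax cur))
        (Nat.ble t (Nat.shiftRight e 20))) (SHg SH n ncol tmax (Nat.add (Nat.mul cur ncol) y)))
    fuel

/-- `d` is linked to `τ` by merges before time `t` -/
noncomputable def reach (t : ℕ) (fuel : ℕ) : ℕ → ℕ → Bool :=
  Nat.rec (motive := fun _ => ℕ → ℕ → Bool) (fun d τ => Nat.beq d τ)
    (fun _ ih d τ => Bool.rec
      ((fun h => Bool.rec (ih (Nat.land h 1048575) τ) false (Nat.ble t (Nat.shiftRight h 20)))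
        (NHg NH n tmax d))
      true (Nat.beq d τ))
    fuel

/-- walk along the first `cnt` letters of the packed word `w` -/
noncomputable def walk (t : ℕ) (cnt : ℕ) : ℕ → ℕ → ℕ :=
  Nat.rec (motive := fun _ => ℕ → ℕ → ℕ) (fun cur _ => cur)
    (fun _ ih cur w => ih (stp SH NH n ncol tmax t 6 cur (Nat.land w 15)) (Nat.shiftRight w 4)) cnt

/-- the two-walk test: from `a0` along the first `i` letters one reaches `tgt`; from `b0` along the
letters after position `i + skip` one reaches `a0` -/
noncomputable def twoWalk (t j i skip b0 alt tgt : ℕ) : Bool :=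
  (fun wr =>
    (fun r w a0 =>
      band (Nat.blt j nw) (band (Nat.ble (Nat.add i skip) r)
        (band (reach NH n tmax t 6 (walk SH NH n ncol tmax t i a0 w) tgt)
          (reach NH n tmax t 6
            (walk SH NH n ncol tmax t (Nat.sub r (Nat.add i skip)) b0
              (Nat.shiftRight w (Nat.mul 4 (Nat.add i skip)))) a0))))
      (Nat.land wr 255) (Nat.shiftRight wr 8) (Bool.rec 0 alt (Nat.blt j nrw)))
    (WD j)

/-- parent of a name -/
noncomputable def par (ν : ℕ) : ℕ := Nat.land (NC ν) 1048575
/-- letter of a name -/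
noncomputable def lt (ν : ℕ) : ℕ := Nat.land (Nat.shiftRight (NC ν) 20) 15

/-- the check of a slot fact -/
noncomputable def chkSlot (s : ℕ) : Bool :=
  (fun e =>
    Bool.rec
      ((fun t β α x c =>
        band (Nat.blt β n)
          (sel5 (Nat.land c 7)
            (band (Nat.blt α β) (band (Nat.beq (par NC β) α) (Nat.beq (lt NC β) x)))
            (band (Nat.blt β α) (band (Nat.beq (par NC α) β) (Nat.beq (lt NC α) (invc INV x))))
            (band (Nat.beq (Nat.land (Nat.shiftRight (Nat.shiftRight (WD (Nat.shiftRight c 10)) 8)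
                (Nat.mul 4 (Nat.land (Nat.shiftRight c 3) 127))) 15) x)
              (twoWalk SH NH WD n ncol nrw nw tmax t (Nat.shiftRight c 10)
                (Nat.land (Nat.shiftRight c 3) 127) 1 β α α))
            (band (reach NH n tmax t 6 (Nat.shiftRight c 10) α)
              (reach NH n tmax t 6 (stp SH NH n ncol tmax t 6 (Nat.shiftRight c 10) x) β))
            (reach NH n tmax t 6 (stp SH NH n ncol tmax t 6 β (invc INV x)) α)))
        (Nat.shiftRight e 20) (Nat.land e 1048575) (Nat.div s ncol) (Nat.mod s ncol) (SC s))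
      true
      (Nat.ble tmax (Nat.shiftRight e 20)))
    (SHg SH n ncol tmax s)

/-- the check of a name: tree structure and merge fact -/
noncomputable def chkName (ν : ℕ) : Bool :=
  band (bor (Nat.beq ν 0) (band (Nat.blt (par NC ν) ν) (Nat.blt (lt NC ν) ncol)))
  ((fun h =>
    Bool.rec
      ((fun t μ c =>
        band (Nat.blt μ ν)
          ((fun mk m1 m2 m3 =>
            sel5 mk false
              (band (bor (Nat.beq m3 ν) (Nat.beq m3 μ))
                (twoWalk SH NH WD n ncol nrw nw tmax t m1 m2 0 m3 m3 (Nat.sub (Nat.add ν μ) m3)))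
              (band (Nat.blt m3 ncol) (band (reach NH n tmax t 6 m2 m1)
                (band (reach NH n tmax t 6 (stp SH NH n ncol tmax t 6 m1 m3) ν)
                  (reach NH n tmax t 6 (stp SH NH n ncol tmax t 6 m2 m3) μ))))
              (band (Nat.blt m3 ncol) (band (reach NH n tmax t 6 m2 m1)
                (band (reach NH n tmax t 6 (stp SH NH n ncol tmax t 6 m1 m3) μ)
                  (reach NH n tmax t 6 (stp SH NH n ncol tmax t 6 m2 m3) ν))))
              false)
            (Nat.land (Nat.shiftRight c 24) 3) (Nat.land (Nat.shiftRight c 26) 1048575)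
            (Nat.land (Nat.shiftRight c 46) 1048575) (Nat.shiftRight c 66)))
        (Nat.shiftRight h 20) (Nat.land h 1048575) (NC ν))
      true
      (Nat.ble tmax (Nat.shiftRight h 20)))
    (NHg NH n tmax ν))

/-- the check that a live name has all its slots filled -/
noncomputable def chkLive (ν : ℕ) : Bool :=
  Bool.rec true
    (allB (fun x => Nat.blt (Nat.shiftRight (SHg SH n ncol tmax (Nat.add (Nat.mul ν ncol) x)) 20) tmax) ncol)
    (Nat.ble tmax (Nat.shiftRight (NHg NH n tmax ν) 20))

/-- the number of live names below `k` -/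
noncomputable def cntLive (k : ℕ) : ℕ :=
  Nat.rec (motive := fun _ => ℕ) 0
    (fun ν ih => Bool.rec ih (Nat.succ ih) (Nat.ble tmax (Nat.shiftRight (NHg NH n tmax ν) 20))) k

end checker

end Cfsg.Agent.Lib.Helper6.TC
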