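import Mathlib
import Cfsg.Prelude.Def_Transfer
import Cfsg.Agent.Lib.Helper8.SmTwoDefs
import Cfsg.Agent.Lib.Helper8.SmTwoB
import Cfsg.Agent.Lib.Helper6.Frattini
import Cfsg.Agent.Lib.Lead.Frattini
import Cfsg.Agent.S0095

/-!
# S4409, package PB: bridge from the internal data (`IsAb`, `SpecialData`) to the Prelude
predicates (`IsMulCommutative`, `IsSpecial`, `IsExtraspecial`)
-/

set_option autoImplicit false

namespace Cfsg.Agent.Lib.Helper8.SmTwo

universe u

variable {G : Type u} [Group G]

theorem isMulCommutative_of_isAb (X : Subgroup G) (h : IsAb X) : IsMulCommutative ↥X :=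
  ⟨⟨fun a b => Subtype.ext (h a a.2 b b.2)⟩⟩

/-- the centre of `↥X`, pushed to `G` -/
theorem pb_map_center (X : Subgroup G) :
    (Subgroup.center ↥X).map X.subtype = X ⊓ Subgroup.centralizer (X : Set G) := by
  apply le_antisymm
  · intro g hg
    obtain ⟨z, hz, rfl⟩ := Subgroup.mem_map.mp hg
    refine Subgroup.mem_inf.mpr ⟨z.2, ?_⟩
    refine Subgroup.mem_centralizer_iff.mpr ?_
    intro x hx
    have := Subgroup.mem_center_iff.mp hz ⟨x, hx⟩
    exact congrArg Subtype.val this
  · intro g hg
    obtain ⟨hgX, hgC⟩ := Subgroup.mem_inf.mp hg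
    refine Subgroup.mem_map.mpr ⟨⟨g, hgX⟩, ?_, rfl⟩
    refine Subgroup.mem_center_iff.mpr ?_
    intro x
    apply Subtype.ext
    exact Subgroup.mem_centralizer_iff.mp hgC x.1 x.2

theorem card_center_subtype (X : Subgroup G) :
    Nat.card ↥(Subgroup.center ↥X) =
      Nat.card (X ⊓ Subgroup.centralizer (X : Set G) : Subgroup G) := by
  rw [← pb_map_center, Subgroup.card_map_of_injective X.subtype_injective]

theorem isSpecial_of_specialData [Finite G] (X : Subgroup G) (hX : IsPGroup 2 X) (n : ℕ)
    (h : SpecialData X n) : Cfsg.IsSpecial 2 ↥X ∧ Nat.card ↥(Subgroup.center ↥X) = n := by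
  have : Fact (Nat.Prime 2) := ⟨Nat.prime_two⟩
  obtain ⟨h1, h2, h3⟩ := h
  have hcz : commutator ↥X = Subgroup.center ↥X := by
    apply Subgroup.map_injective X.subtype_injective
    rw [pb_map_center, ← h1, Subgroup.map_subtype_commutator]
  have hfc : frattini ↥X = commutator ↥X := by
    apply le_antisymm
    · apply Cfsg.Agent.Lib.Helper6.frattini_le_of_elemAb (p := 2)
      · intro x y
        rw [commutator_def]
        exact Subgroup.commutator_mem_commutator (Subgroup.mem_top x) (Subgroup.mem_top y)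
      · intro x
        have hx := h2 x.1 x.2
        rw [← Subgroup.map_subtype_commutator] at hx
        obtain ⟨c, hc, hcx⟩ := hx
        have : c = x ^ 2 := Subtype.ext (by rw [Subgroup.coe_pow]; exact hcx)
        rw [← this]; exact hc
    · exact Cfsg.Agent.Lib.Lead.commutator_le_frattini_of_isPGroup hX
  exact ⟨⟨hX, hfc.trans hcz, hcz⟩, (card_center_subtype X).trans h3⟩

/-- extraspecial, not small: order at least 32 -/
theorem card_ge_of_specialData_two [Finite G] (X : Subgroup G) (hX : IsPGroup 2 X)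
    (h : SpecialData X 2) (hbad : ¬ Small X) : 32 ≤ Nat.card ↥X := by
  have : Fact (Nat.Prime 2) := ⟨Nat.prime_two⟩
  have hes : Cfsg.IsExtraspecial 2 ↥X := isSpecial_of_specialData X hX 2 h
  obtain ⟨m, hm1, hm⟩ := Cfsg.Agent.S0095.result hes
  rcases Nat.lt_or_ge m 2 with hlt | hge
  · exfalso
    have hm' : m = 1 := by omega
    subst hm'
    have hcard : Nat.card ↥X = 8 := by rw [hm]; norm_num
    -- a bad subgroup of `X` is `X` itself, so `X` is abelian
    obtain ⟨A, hAX, hA⟩ : ∃ A : Subgroup G, A ≤ X ∧ Bad A := by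
      by_contra hno
      apply hbad
      intro A hA hB
      exact hno ⟨A, hA, hB⟩
    have hAeq : A = X := Subgroup.eq_of_le_of_card_ge hAX (by rw [hcard, hA.2.2])
    subst hAeq
    -- then `A ⊓ C(A) = A` has order 8, not 2
    have hle : A ≤ Subgroup.centralizer (A : Set G) := by
      intro a ha
      rw [Subgroup.mem_centralizer_iff]
      intro b hb
      have := hA.1.is_comm.comm (⟨b, hb⟩ : ↥A) ⟨a, ha⟩
      exact congrArg Subtype.val this
    have h3 := h.2.2
    rw [inf_of_le_left hle, hcard] at h3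
    omega
  · rw [hm]
    calc 32 = 2 ^ (2 * 2 + 1) := by norm_num
      _ ≤ 2 ^ (2 * m + 1) := Nat.pow_le_pow_right (by norm_num) (by omega)

end Cfsg.Agent.Lib.Helper8.SmTwo
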