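import Mathlib
import Cfsg.Agent.Lib.Helper8.SBS4
import Cfsg.Agent.Lib.Helper8.WardB

/-!
# S4306 tools: the Frobenius count `|C_N(a)| ^ p ≤ |N|`

For an elementary abelian `s`-group `K` normalized by `a` of prime order `p` acting fixed point
freely on `K`, both acting on the finite abelian group `N` of order prime to `s`, with
`C_N(K) = 0`.  Proof: decomposition of invariant subgroups along the hyperplanes of `K`
(regular `⟨a⟩`-orbits of hyperplanes: diagonal count; `a`-invariant hyperplanes: Vandermonde).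
-/

set_option autoImplicit false
set_option linter.unusedSectionVars false
set_option linter.unusedVariables false

namespace Cfsg.Agent.Lib.Helper6.PQTools

open Cfsg.Agent.Lib.Helper8.SBS Cfsg.Agent.Lib.Helper8.Ward

universe u w

section vdm

variable {R : Type*} [CommRing R] {N : Type*} [AddCommGroup N] [Module R N]

theorem fc_vdm_adj {d : ℕ} (A : Matrix (Fin d) (Fin d) R) (w : Fin d → N)
    (h : ∀ j, ∑ i, A j i • w i = 0) (i : Fin d) : A.det • w i = 0 := by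
  have h1 : ∑ l, (A.adjugate * A) i l • w l = 0 := by
    have : ∀ l, (A.adjugate * A) i l • w l = ∑ j, A.adjugate i j • (A j l • w l) := by
      intro l
      rw [Matrix.mul_apply, Finset.sum_smul]
      refine Finset.sum_congr rfl fun j _ => ?_
      rw [mul_smul]
    simp_rw [this]
    rw [Finset.sum_comm]
    refine Finset.sum_eq_zero fun j _ => ?_
    rw [← Finset.smul_sum, h j, smul_zero]
  rw [Matrix.adjugate_mul] at h1
  rw [Finset.sum_eq_single i] at h1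
  · simpa using h1
  · intro l _ hl
    rw [Matrix.smul_apply, Matrix.one_apply_ne (Ne.symm hl), smul_zero, zero_smul]
  · intro h; exact absurd (Finset.mem_univ i) h

theorem fc_prod_smul_inj (P : AddSubgroup N) (hP : ∀ (r : R), ∀ v ∈ P, r • v ∈ P)
    {ι : Type*} (s : Finset ι) (f : ι → R)
    (hf : ∀ i ∈ s, ∀ v ∈ P, f i • v = 0 → v = 0) :
    ∀ v ∈ P, (∏ i ∈ s, f i) • v = 0 → v = 0 := by
  classical
  induction s using Finset.induction_on with
  | empty => intro v _ hv; simpa using hv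
  | insert a s ha ih =>
    intro v hvP hv
    rw [Finset.prod_insert ha, mul_smul] at hv
    have h1 := hf a (Finset.mem_insert_self a s) _ (hP _ _ hvP) hv
    exact ih (fun i hi => hf i (Finset.mem_insert_of_mem hi)) v hvP h1

theorem fc_vdm {d : ℕ} (P : AddSubgroup N) (hP : ∀ (r : R), ∀ v ∈ P, r • v ∈ P)
    (x : Fin d → R) (hx : ∀ i j, i ≠ j → ∀ v ∈ P, (x j - x i) • v = 0 → v = 0)
    (w : Fin d → N) (hw : ∀ i, w i ∈ P)
    (h : ∀ j, ∑ i : Fin d, x j ^ (i : ℕ) • w i = 0) (i : Fin d) : w i = 0 := by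
  have h1 := fc_vdm_adj (Matrix.vandermonde x) w (by
    intro j
    simpa [Matrix.vandermonde_apply] using h j) i
  rw [Matrix.det_vandermonde] at h1
  refine fc_prod_smul_inj P hP _ _ ?_ _ (hw i) h1
  intro i' _ v hvP hv
  refine fc_prod_smul_inj P hP _ _ ?_ _ hvP hv
  intro j hj v' hv'P hv'
  exact hx i' j (ne_of_lt (Finset.mem_Ioi.1 hj)) v' hv'P hv'

end vdm

section card

variable {N : Type u} [AddCommGroup N] [Finite N]

theorem fc_card_mul_le {X Y Z : AddSubgroup N} (hX : X ≤ Z) (hY : Y ≤ Z)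
    (hXY : ∀ v ∈ X, v ∈ Y → v = 0) : Nat.card X * Nat.card Y ≤ Nat.card Z := by
  rw [← Nat.card_prod]
  apply Nat.card_le_card_of_injective
    (fun xy : X × Y => (⟨(xy.1 : N) + xy.2, Z.add_mem (hX xy.1.2) (hY xy.2.2)⟩ : Z))
  rintro ⟨x, y⟩ ⟨x', y'⟩ h
  have h1 : (x : N) + y = x' + y' := congrArg Subtype.val h
  have h2 : (x : N) - x' = y' - y := by
    rw [sub_eq_sub_iff_add_eq_add, h1, add_comm]
  have h3 : (x : N) - x' = 0 :=
    hXY _ (X.sub_mem x.2 x'.2) (by rw [h2]; exact Y.sub_mem y'.2 y.2)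
  have h4 : (y' : N) - y = 0 := by rw [← h2, h3]
  have e1 : x = x' := Subtype.ext (sub_eq_zero.1 h3)
  have e2 : y = y' := Subtype.ext (sub_eq_zero.1 h4).symm
  rw [e1, e2]

theorem fc_card_le_of_hom (g : N →+ N) {X Y Z : AddSubgroup N} (hZ : ∀ v ∈ X, g v ∈ Z)
    (hY : ∀ v ∈ X, g v = 0 → v ∈ Y) : Nat.card X ≤ Nat.card Y * Nat.card Z := by
  let g' : X →+ N := g.comp X.subtype
  have h1 : Nat.card g'.ker * Nat.card g'.range = Nat.card X := by
    rw [← AddSubgroup.index_ker, AddSubgroup.card_mul_index]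
  have h2 : Nat.card g'.ker ≤ Nat.card Y := by
    apply Nat.card_le_card_of_injective
      (fun v : g'.ker => (⟨((v : X) : N), hY _ (v : X).2 v.2⟩ : Y))
    intro v v' h
    have h' := congrArg Subtype.val h
    have : ((v : X) : N) = ((v' : X) : N) := h'
    exact Subtype.ext (Subtype.ext this)
  have h3 : Nat.card g'.range ≤ Nat.card Z := by
    apply Nat.card_le_card_of_injective
      (fun v : g'.range => (⟨(v : N), by
        obtain ⟨x, hx⟩ := v.2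
        rw [← hx]
        exact hZ _ x.2⟩ : Z))
    intro v v' h
    have h' := congrArg Subtype.val h
    have : (v : N) = (v' : N) := h'
    exact Subtype.ext this
  rw [← h1]
  exact Nat.mul_le_mul h2 h3

end card

section hyp

variable {N : Type u} [AddCommGroup N] [Finite N] {L : Type w} [Group L] [Finite L]
  [DistribMulAction L N]

theorem fc_nu_mem {K₀ : Subgroup L} {M : AddSubgroup N} (hM : ∀ k ∈ K₀, ∀ v ∈ M, k • v ∈ M)
    {v : N} (hv : v ∈ M) : nu K₀ v ∈ M := by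
  classical
  have : Fintype K₀ := Fintype.ofFinite K₀
  rw [nu_eq_sum]
  exact M.sum_mem fun k _ => hM k k.2 v hv

theorem fc_nu_neg (K₀ : Subgroup L) (v : N) : nu K₀ (-v) = - nu K₀ v :=
  map_neg (nuHom K₀) v

theorem fc_sup_eq {s : ℕ} (hs : s.Prime) {K K₁ K₂ : Subgroup L} (h1 : K₁ ≤ K)
    (hc1 : Nat.card K₁ * s = Nat.card K) (h2 : K₂ ≤ K) (hc2 : Nat.card K₂ * s = Nat.card K)
    (hne : K₁ ≠ K₂) : K₁ ⊔ K₂ = K := by
  apply sup_eq_of_hyp hs h1 hc1 h2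
  intro hle
  apply hne
  symm
  apply Subgroup.eq_of_le_of_card_ge hle
  have : Nat.card K₁ * s = Nat.card K₂ * s := by rw [hc1, hc2]
  exact le_of_eq (Nat.eq_of_mul_eq_mul_right hs.pos this)

theorem fc_nu_eq_zero {s : ℕ} (hs : s.Prime) {K K₁ K₂ : Subgroup L}
    (hKc : ∀ k ∈ K, ∀ k' ∈ K, k * k' = k' * k)
    (hCK : ∀ n : N, (∀ k ∈ K, k • n = n) → n = 0)
    (h1 : K₁ ≤ K) (hc1 : Nat.card K₁ * s = Nat.card K) (h2 : K₂ ≤ K)
    (hc2 : Nat.card K₂ * s = Nat.card K) (hne : K₁ ≠ K₂) {u : N}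
    (hu : u ∈ fixedPts (V := N) K₂) : nu K₁ u = 0 := by
  have a1 : nu K₁ u ∈ fixedPts (V := N) K₁ := nu_mem_fixedPts K₁ u
  have a2 : nu K₁ u ∈ fixedPts (V := N) K₂ := by
    intro k' hk'
    rw [smul_nu_of_commute (fun k hk => hKc k' (h2 hk') k (h1 hk)), hu k' hk']
  have a3 : nu K₁ u ∈ fixedPts (V := N) (K₁ ⊔ K₂) := by
    rw [fixedPts_sup]; exact ⟨a1, a2⟩
  rw [fc_sup_eq hs h1 hc1 h2 hc2 hne] at a3
  exact hCK _ a3

theorem fc_coprime_card {s : ℕ} (hs : s.Prime) {K : Subgroup L} (hKs : ∀ k ∈ K, k ^ s = 1)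
    (hcop : (Nat.card N).Coprime s) : (Nat.card N).Coprime (Nat.card K) := by
  have : Fact s.Prime := ⟨hs⟩
  apply coprime_card_of_isPGroup hcop
  intro k
  refine ⟨1, ?_⟩
  rw [pow_one]
  exact Subtype.ext (by rw [Subgroup.coe_pow]; exact hKs k k.2)

/-- the decomposition identity. -/
theorem fc_decomp {s : ℕ} (hs : s.Prime) (K : Subgroup L)
    (hKc : ∀ k ∈ K, ∀ k' ∈ K, k * k' = k' * k) (hKs : ∀ k ∈ K, k ^ s = 1)
    (hcop : (Nat.card N).Coprime s)
    (hCK : ∀ n : N, (∀ k ∈ K, k • n = n) → n = 0) [Fintype (Subgroup L)]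
    [DecidablePred fun K₁ : Subgroup L => K₁ ≤ K ∧ Nat.card K₁ * s = Nat.card K] (v : N) :
    s • ∑ K₁ ∈ Finset.univ.filter (fun K₁ : Subgroup L => K₁ ≤ K ∧ Nat.card K₁ * s = Nat.card K),
      nu K₁ v = Nat.card K • v := by
  have : Fact s.Prime := ⟨hs⟩
  obtain ⟨H, hH⟩ : ∃ H : Finset (Subgroup L), H = Finset.univ.filter
      (fun K₁ : Subgroup L => K₁ ≤ K ∧ Nat.card K₁ * s = Nat.card K) := ⟨_, rfl⟩
  rw [← hH]
  let S : AddSubgroup N :=
    { carrier := {v | s • ∑ K₁ ∈ H, nu K₁ v = Nat.card K • v}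
      zero_mem' := by
        show s • ∑ K₁ ∈ H, nu K₁ (0 : N) = Nat.card K • (0 : N)
        simp [nu_zero]
      add_mem' := by
        intro x y hx hy
        show s • ∑ K₁ ∈ H, nu K₁ (x + y) = Nat.card K • (x + y)
        simp only [nu_add, Finset.sum_add_distrib, smul_add]
        rw [show s • ∑ K₁ ∈ H, nu K₁ x = Nat.card K • x from hx,
          show s • ∑ K₁ ∈ H, nu K₁ y = Nat.card K • y from hy]
      neg_mem' := by
        intro x hx
        show s • ∑ K₁ ∈ H, nu K₁ (-x) = Nat.card K • (-x)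
        simp only [fc_nu_neg, Finset.sum_neg_distrib, smul_neg]
        rw [show s • ∑ K₁ ∈ H, nu K₁ x = Nat.card K • x from hx] }
  have key : v ∈ S := by
    apply span_hyperplanes (p := s) hcop K hKc hKs S
    intro K' hK'K hK' u hu
    rcases hK' with rfl | hK'
    · have : u = 0 := hCK u hu
      rw [this]; exact S.zero_mem
    · show s • ∑ K₁ ∈ H, nu K₁ u = Nat.card K • u
      rw [Finset.sum_eq_single K']
      · rw [nu_of_mem_fixedPts hu, ← mul_nsmul, hK']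
      · intro K₁ hK₁ hne
        rw [hH, Finset.mem_filter] at hK₁
        exact fc_nu_eq_zero hs hKc hCK hK₁.2.1 hK₁.2.2 hK'K hK' hne hu
      · intro h
        rw [hH] at h
        exact absurd (Finset.mem_filter.2 ⟨Finset.mem_univ _, hK'K, hK'⟩) h
  exact key

/-- a nonzero invariant subgroup meets the fixed points of some hyperplane. -/
theorem fc_exists_hyp {s : ℕ} (hs : s.Prime) (K : Subgroup L)
    (hKc : ∀ k ∈ K, ∀ k' ∈ K, k * k' = k' * k) (hKs : ∀ k ∈ K, k ^ s = 1)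
    (hcop : (Nat.card N).Coprime s)
    (hCK : ∀ n : N, (∀ k ∈ K, k • n = n) → n = 0) (M : AddSubgroup N)
    (hMK : ∀ k ∈ K, ∀ v ∈ M, k • v ∈ M) (hM : M ≠ ⊥) :
    ∃ K₀ : Subgroup L, K₀ ≤ K ∧ Nat.card K₀ * s = Nat.card K ∧
      ∃ v ∈ M, v ∈ fixedPts (V := N) K₀ ∧ v ≠ 0 := by
  classical
  have : Fintype (Subgroup L) := Fintype.ofFinite _
  obtain ⟨v, hvM, hv0⟩ : ∃ v ∈ M, v ≠ 0 := by
    by_contra hcon
    apply hM
    rw [eq_bot_iff]
    intro v hv
    rw [AddSubgroup.mem_bot]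
    by_contra hv0
    exact hcon ⟨v, hv, hv0⟩
  by_contra hcon
  have hall : ∀ K₁ ∈ Finset.univ.filter
      (fun K₁ : Subgroup L => K₁ ≤ K ∧ Nat.card K₁ * s = Nat.card K), nu K₁ v = 0 := by
    intro K₁ hK₁
    rw [Finset.mem_filter] at hK₁
    by_contra hne
    exact hcon ⟨K₁, hK₁.2.1, hK₁.2.2, nu K₁ v,
      fc_nu_mem (fun k hk => hMK k (hK₁.2.1 hk)) hvM, nu_mem_fixedPts K₁ v, hne⟩
  have h1 := fc_decomp hs K hKc hKs hcop hCK v
  rw [Finset.sum_eq_zero hall, smul_zero] at h1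
  exact hv0 (eq_zero_of_nsmul_eq_zero (fc_coprime_card hs hKs hcop) h1.symm)

end hyp

section cyc

variable {N : Type u} [AddCommGroup N] [Finite N] {L : Type w} [Group L] [Finite L]
  [DistribMulAction L N]

/-- the fixed points of one element. -/
def fcFix (a : L) : AddSubgroup N where
  carrier := {v | a • v = v}
  zero_mem' := smul_zero a
  add_mem' := by
    intro x y hx hy
    show a • (x + y) = x + y
    rw [smul_add, show a • x = x from hx, show a • y = y from hy]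
  neg_mem' := by
    intro x hx
    show a • (-x) = -x
    rw [smul_neg, show a • x = x from hx]

theorem mem_fcFix {a : L} {v : N} : v ∈ fcFix (N := N) a ↔ a • v = v := Iff.rfl

theorem fc_pow_smul {a : L} {v : N} (h : a • v = v) (j : ℕ) : a ^ j • v = v := by
  induction j with
  | zero => simp
  | succ j ih => rw [pow_succ, mul_smul, h, ih]

theorem fc_zpowers_smul {a g : L} {v : N} (h : a • v = v) (hg : g ∈ Subgroup.zpowers a) :
    g • v = v := by
  have h1 : Subgroup.zpowers a ≤ MulAction.stabilizer L v := by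
    rw [Subgroup.zpowers_le]
    exact h
  exact h1 hg

open scoped IsMulCommutative in
/-- Vandermonde for commuting group elements acting on an invariant subgroup. -/
theorem fc_vdm_group (K : Subgroup L) (hKc : ∀ k ∈ K, ∀ k' ∈ K, k * k' = k' * k)
    (M₀ : AddSubgroup N) (hMK : ∀ k ∈ K, ∀ v ∈ M₀, k • v ∈ M₀) {d : ℕ} (x : Fin d → L)
    (hxK : ∀ j, x j ∈ K)
    (hx : ∀ i j, i ≠ j → ∀ v ∈ M₀, x j • v = x i • v → v = 0)
    (w : Fin d → N) (hw : ∀ i, w i ∈ M₀)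
    (h : ∀ j, ∑ i : Fin d, x j ^ (i : ℕ) • w i = 0) (i : Fin d) : w i = 0 := by
  let ρ : L →* AddMonoid.End N := DistribMulAction.toAddMonoidEnd L N
  have hρ : ∀ (g : L) (v : N), ρ g v = g • v := fun g v => rfl
  let S : Set (AddMonoid.End N) := ρ '' (K : Set L)
  have hScomm : ∀ x ∈ S, ∀ y ∈ S, x * y = y * x := by
    rintro _ ⟨k, hk, rfl⟩ _ ⟨k', hk', rfl⟩
    rw [← map_mul, ← map_mul, hKc k hk k' hk']
  have : IsMulCommutative (Subring.closure S) := Subring.isMulCommutative_closure hScomm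
  have hsmul : ∀ (r : Subring.closure S) (v : N), r • v = (r : AddMonoid.End N) v :=
    fun r v => rfl
  have hP : ∀ (r : Subring.closure S), ∀ v ∈ M₀, r • v ∈ M₀ := by
    rintro ⟨r, hr⟩
    induction hr using Subring.closure_induction with
    | mem y hy =>
      obtain ⟨k, hk, rfl⟩ := hy
      intro v hv
      rw [hsmul]
      exact hMK k hk v hv
    | zero =>
      intro v hv
      rw [hsmul]
      exact M₀.zero_mem
    | one =>
      intro v hv
      rw [hsmul]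
      exact hv
    | add y z hy hz ihy ihz =>
      intro v hv
      rw [hsmul]
      have := M₀.add_mem (ihy v hv) (ihz v hv)
      rw [hsmul, hsmul] at this
      exact this
    | neg y hy ihy =>
      intro v hv
      rw [hsmul]
      have := M₀.neg_mem (ihy v hv)
      rw [hsmul] at this
      exact this
    | mul y z hy hz ihy ihz =>
      intro v hv
      rw [hsmul]
      have := ihy _ (ihz v hv)
      rw [hsmul, hsmul] at this
      exact this
  let xR : Fin d → Subring.closure S :=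
    fun j => ⟨ρ (x j), Subring.subset_closure ⟨x j, hxK j, rfl⟩⟩
  have hxR : ∀ (j : Fin d) (n : ℕ) (v : N), (xR j ^ n) • v = x j ^ n • v := by
    intro j n v
    rw [hsmul]
    show ((ρ (x j)) ^ n) v = x j ^ n • v
    rw [← map_pow, hρ]
  refine fc_vdm (R := Subring.closure S) M₀ hP xR ?_ w hw ?_ i
  · intro i j hij v hv hv0
    apply hx i j hij v hv
    rw [sub_smul, sub_eq_zero] at hv0
    have h1 := hxR j 1 v
    have h2 := hxR i 1 v
    rw [pow_one, pow_one] at h1 h2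
    rw [← h1, ← h2, hv0]
  · intro j
    rw [← h j]
    exact Finset.sum_congr rfl fun i _ => hxR j i (w i)

theorem fc_pow_conj {H : Subgroup L} {a : L} (h : ∀ z ∈ H, a * z * a⁻¹ ∈ H) (j : ℕ) :
    ∀ z ∈ H, a ^ j * z * (a ^ j)⁻¹ ∈ H := by
  induction j with
  | zero => intro z hz; simpa using hz
  | succ j ih =>
    intro z hz
    have : a ^ (j + 1) * z * (a ^ (j + 1))⁻¹ = a * (a ^ j * z * (a ^ j)⁻¹) * a⁻¹ := by
      rw [pow_succ']; group
    rw [this]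
    exact h _ (ih z hz)

theorem fc_conj_mem_iff {H : Subgroup L} {t : L} (h : ∀ z ∈ H, t * z * t⁻¹ ∈ H) {x : L} :
    t⁻¹ * x * t ∈ H ↔ x ∈ H := by
  have h1 : conjSub t H = H := conjSub_eq_self h
  rw [← mem_conjSub, h1]

/-- the key injectivity: `y ↦ y⁻¹ * (b y b⁻¹)` is injective on `K` for `b = a ^ d`. -/
theorem fc_delta_inj {p : ℕ} (hp : p.Prime) (K : Subgroup L) (a : L) (ha : a ^ p = 1)
    (hfpf : ∀ k ∈ K, a * k = k * a → k = 1) {d : ℕ} (hd0 : 0 < d) (hdp : d < p)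
    {y y' : L} (hy : y ∈ K) (hy' : y' ∈ K)
    (h : y⁻¹ * (a ^ d * y * (a ^ d)⁻¹) = y'⁻¹ * (a ^ d * y' * (a ^ d)⁻¹)) : y = y' := by
  have hz : y' * y⁻¹ ∈ K := K.mul_mem hy' (K.inv_mem hy)
  have h1 : a ^ d * (y' * y⁻¹) * (a ^ d)⁻¹ = y' * y⁻¹ := by
    have e1 : a ^ d * (y' * y⁻¹) * (a ^ d)⁻¹ =
        (a ^ d * y' * (a ^ d)⁻¹) * (a ^ d * y * (a ^ d)⁻¹)⁻¹ := by group
    have e2 : a ^ d * y' * (a ^ d)⁻¹ = y' * (y⁻¹ * (a ^ d * y * (a ^ d)⁻¹)) := by
      rw [h]; group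
    rw [e1, e2]; group
  have h2 : (y' * y⁻¹) * a ^ d = a ^ d * (y' * y⁻¹) := by
    conv_lhs => rw [← h1]
    group
  have h3 : (y' * y⁻¹) * a = a * (y' * y⁻¹) := commute_of_commute_pow hp ha hd0 hdp h2
  have h4 := hfpf _ hz h3.symm
  have : y' = y := by
    have := congrArg (· * y) h4
    simpa using this
  exact this.symm

theorem fc_cyclic {p s : ℕ} (hp : p.Prime) (hs : s.Prime) (K K₀ : Subgroup L) (a : L)
    (ha : a ^ p = 1) (haK : ∀ k ∈ K, a * k * a⁻¹ ∈ K)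
    (hKc : ∀ k ∈ K, ∀ k' ∈ K, k * k' = k' * k)
    (hfpf : ∀ k ∈ K, a * k = k * a → k = 1)
    (hK₀ : K₀ ≤ K) (hcard : Nat.card K₀ * s = Nat.card K)
    (haK₀ : ∀ k ∈ K₀, a * k * a⁻¹ ∈ K₀)
    (M₀ : AddSubgroup N) (hMK : ∀ k ∈ K, ∀ v ∈ M₀, k • v ∈ M₀)
    (hM₀ : M₀ ≤ fixedPts (V := N) K₀) (hCK : ∀ n ∈ M₀, (∀ k ∈ K, k • n = n) → n = 0) :
    Nat.card ↥(fcFix (N := N) a ⊓ M₀) ^ p ≤ Nat.card M₀ := by
  classical
  -- an element outside `K₀`
  obtain ⟨k₁, hk₁, hk₁0⟩ : ∃ k₁ ∈ K, k₁ ∉ K₀ := by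
    by_contra hcon
    have hle : K ≤ K₀ := by
      intro k hk
      by_contra hk0
      exact hcon ⟨k, hk, hk0⟩
    have heq : K₀ = K := le_antisymm hK₀ hle
    rw [heq] at hcard
    have hpos : 0 < Nat.card K := Nat.card_pos
    have : s = 1 := by
      have h1 : Nat.card K * s = Nat.card K * 1 := by rw [hcard, mul_one]
      exact Nat.eq_of_mul_eq_mul_left hpos h1
    exact hs.one_lt.ne' this
  -- elements outside `K₀` act freely on `M₀`
  have hF1 : ∀ y ∈ K, y ∉ K₀ → ∀ v ∈ M₀, y • v = v → v = 0 := by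
    intro y hy hy0 v hv hyv
    have hsup : K₀ ⊔ Subgroup.zpowers y = K :=
      sup_eq_of_hyp hs hK₀ hcard ((Subgroup.zpowers_le).2 hy)
        (fun h => hy0 (h (Subgroup.mem_zpowers y)))
    have hmem : v ∈ fixedPts (V := N) (K₀ ⊔ Subgroup.zpowers y) := by
      rw [fixedPts_sup]
      exact ⟨hM₀ hv, fun g hg => fc_zpowers_smul hyv hg⟩
    rw [hsup] at hmem
    exact hCK v hv hmem
  -- the conjugates of `k₁`
  let x : Fin p → L := fun j => a ^ (j : ℕ) * k₁ * (a ^ (j : ℕ))⁻¹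
  have hxK : ∀ j, x j ∈ K := fun j => fc_pow_conj haK j k₁ hk₁
  have hF2' : ∀ i j : ℕ, i < j → j < p →
      (a ^ i * k₁ * (a ^ i)⁻¹)⁻¹ * (a ^ j * k₁ * (a ^ j)⁻¹) ∉ K₀ := by
    intro i j hij hjp hmem
    obtain ⟨d, hd⟩ : ∃ d, j = i + d := ⟨j - i, by omega⟩
    have hd0 : 0 < d := by omega
    have hdp : d < p := by omega
    have e1 : (a ^ i)⁻¹ * ((a ^ i * k₁ * (a ^ i)⁻¹)⁻¹ * (a ^ j * k₁ * (a ^ j)⁻¹)) * a ^ i =
        k₁⁻¹ * (a ^ d * k₁ * (a ^ d)⁻¹) := by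
      rw [hd, pow_add]; group
    have h1 : k₁⁻¹ * (a ^ d * k₁ * (a ^ d)⁻¹) ∈ K₀ := by
      rw [← e1]
      exact (fc_conj_mem_iff (fc_pow_conj haK₀ i)).2 hmem
    -- the self-map of `K₀`
    let ψ : K₀ → K₀ := fun y => ⟨(y : L)⁻¹ * (a ^ d * y * (a ^ d)⁻¹),
      K₀.mul_mem (K₀.inv_mem y.2) (fc_pow_conj haK₀ d y y.2)⟩
    have hinj : Function.Injective ψ := by
      intro y y' hyy
      have h2 := congrArg Subtype.val hyy
      have h3 : (y : L)⁻¹ * (a ^ d * y * (a ^ d)⁻¹) = (y' : L)⁻¹ * (a ^ d * y' * (a ^ d)⁻¹) := h2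
      exact Subtype.ext (fc_delta_inj hp K a ha hfpf hd0 hdp (hK₀ y.2) (hK₀ y'.2) h3)
    have hsurj : Function.Surjective ψ := Finite.surjective_of_injective hinj
    obtain ⟨y, hy⟩ := hsurj ⟨_, h1⟩
    have h2 := congrArg Subtype.val hy
    have h3 : (y : L)⁻¹ * (a ^ d * y * (a ^ d)⁻¹) = k₁⁻¹ * (a ^ d * k₁ * (a ^ d)⁻¹) := h2
    have h4 := fc_delta_inj hp K a ha hfpf hd0 hdp (hK₀ y.2) hk₁ h3
    exact hk₁0 (h4 ▸ y.2)
  have hF2 : ∀ i j : Fin p, i ≠ j → (x i)⁻¹ * x j ∉ K₀ := by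
    intro i j hij
    rcases lt_or_gt_of_ne (fun h => hij (Fin.ext h) : (i : ℕ) ≠ j) with h | h
    · exact hF2' i j h j.2
    · intro hmem
      apply hF2' j i h i.2
      have := K₀.inv_mem hmem
      rwa [mul_inv_rev, inv_inv] at this
  have hx : ∀ i j, i ≠ j → ∀ v ∈ M₀, x j • v = x i • v → v = 0 := by
    intro i j hij v hv hxv
    apply hF1 _ (K.mul_mem (K.inv_mem (hxK i)) (hxK j)) (hF2 i j hij) v hv
    rw [mul_smul, hxv, inv_smul_smul]
  -- the injection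
  have hmemΦ : ∀ w : Fin p → ↥(fcFix (N := N) a ⊓ M₀),
      ∑ i : Fin p, k₁ ^ (i : ℕ) • ((w i : N)) ∈ M₀ := by
    intro w
    apply M₀.sum_mem
    intro i _
    exact hMK _ (K.pow_mem hk₁ _) _ (w i).2.2
  have hinjΦ : Function.Injective
      (fun w : Fin p → ↥(fcFix (N := N) a ⊓ M₀) =>
        (⟨∑ i : Fin p, k₁ ^ (i : ℕ) • ((w i : N)), hmemΦ w⟩ : M₀)) := by
    intro w w' hww
    have h1 := congrArg Subtype.val hww
    have h2 : ∑ i : Fin p, k₁ ^ (i : ℕ) • ((w i : N)) =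
        ∑ i : Fin p, k₁ ^ (i : ℕ) • ((w' i : N)) := h1
    let u : Fin p → N := fun i => (w i : N) - (w' i : N)
    have hu : ∀ i, u i ∈ M₀ := fun i => M₀.sub_mem (w i).2.2 (w' i).2.2
    have hua : ∀ i, a • u i = u i := fun i => by
      show a • ((w i : N) - (w' i : N)) = (w i : N) - (w' i : N)
      rw [smul_sub, show a • (w i : N) = w i from (w i).2.1,
        show a • (w' i : N) = w' i from (w' i).2.1]
    have hsum : ∑ i : Fin p, k₁ ^ (i : ℕ) • u i = 0 := by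
      show ∑ i : Fin p, k₁ ^ (i : ℕ) • ((w i : N) - (w' i : N)) = 0
      simp only [smul_sub, Finset.sum_sub_distrib]
      rw [h2, sub_self]
    have hsumj : ∀ j : Fin p, ∑ i : Fin p, x j ^ (i : ℕ) • u i = 0 := by
      intro j
      have e1 : a ^ (j : ℕ) • ∑ i : Fin p, k₁ ^ (i : ℕ) • u i = 0 := by rw [hsum, smul_zero]
      rw [Finset.smul_sum] at e1
      rw [← e1]
      refine Finset.sum_congr rfl fun i _ => ?_
      show (a ^ (j : ℕ) * k₁ * (a ^ (j : ℕ))⁻¹) ^ (i : ℕ) • u i = _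
      rw [conj_pow, mul_smul, mul_smul]
      congr 2
      have := fc_pow_smul (hua i) j
      rw [← this] 
      rw [inv_smul_smul, this]
    have hui := fun i => fc_vdm_group K hKc M₀ hMK x hxK hx u hu hsumj i
    funext i
    exact Subtype.ext (sub_eq_zero.1 (hui i))
  have hle := Nat.card_le_card_of_injective _ hinjΦ
  rw [Nat.card_fun, Nat.card_fin] at hle
  exact hle

end cyc

section main

variable {N : Type u} [AddCommGroup N] [Finite N] {L : Type w} [Group L] [Finite L]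
  [DistribMulAction L N]

theorem fc_mem_normalizer {H : Subgroup L} {a : L} (h : ∀ z ∈ H, a * z * a⁻¹ ∈ H) :
    a ∈ Subgroup.normalizer (H : Set L) := by
  have e : conjSub a H = H := conjSub_eq_self h
  rw [Subgroup.mem_normalizer_iff]
  intro x
  constructor
  · exact h x
  · intro hx
    rw [← e, mem_conjSub] at hx
    have : a⁻¹ * (a * x * a⁻¹) * a = x := by group
    rwa [this] at hx

theorem fc_zpowers_conj {H : Subgroup L} {a g : L} (h : ∀ z ∈ H, a * z * a⁻¹ ∈ H)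
    (hg : g ∈ Subgroup.zpowers a) : conjSub g H = H := by
  have h1 : Subgroup.zpowers a ≤ Subgroup.normalizer (H : Set L) :=
    (Subgroup.zpowers_le).2 (fc_mem_normalizer h)
  have h2 := h1 hg
  rw [Subgroup.mem_normalizer_iff] at h2
  exact conjSub_eq_self (fun z hz => (h2 z).1 hz)

theorem fc_pow_inv {a : L} {M : AddSubgroup N} (hMa : ∀ v ∈ M, a • v ∈ M) (j : ℕ) :
    ∀ v ∈ M, a ^ j • v ∈ M := by
  induction j with
  | zero => intro v hv; simpa using hv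
  | succ j ih =>
    intro v hv
    rw [pow_succ', mul_smul]
    exact hMa _ (ih v hv)

/-- the part of `M` killed by the traces of all conjugates of `K₀` under `⟨a⟩`. -/
def fcM1 (K₀ : Subgroup L) (a : L) (M : AddSubgroup N) : AddSubgroup N where
  carrier := {v | v ∈ M ∧ ∀ g ∈ Subgroup.zpowers a, nu (conjSub g K₀) v = 0}
  zero_mem' := ⟨M.zero_mem, fun g _ => nu_zero _⟩
  add_mem' := by
    rintro x y ⟨hx, hx'⟩ ⟨hy, hy'⟩
    exact ⟨M.add_mem hx hy, fun g hg => by rw [nu_add, hx' g hg, hy' g hg, add_zero]⟩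
  neg_mem' := by
    rintro x ⟨hx, hx'⟩
    exact ⟨M.neg_mem hx, fun g hg => by rw [fc_nu_neg, hx' g hg, neg_zero]⟩

theorem mem_fcM1 {K₀ : Subgroup L} {a : L} {M : AddSubgroup N} {v : N} :
    v ∈ fcM1 K₀ a M ↔ v ∈ M ∧ ∀ g ∈ Subgroup.zpowers a, nu (conjSub g K₀) v = 0 := Iff.rfl

theorem fcM1_le (K₀ : Subgroup L) (a : L) (M : AddSubgroup N) : fcM1 K₀ a M ≤ M :=
  fun _ hv => hv.1

theorem fcM1_smul_K {K K₀ : Subgroup L} {a : L} {M : AddSubgroup N}
    (haK : ∀ k ∈ K, a * k * a⁻¹ ∈ K) (hKc : ∀ k ∈ K, ∀ k' ∈ K, k * k' = k' * k)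
    (hK₀ : K₀ ≤ K) (hMK : ∀ k ∈ K, ∀ v ∈ M, k • v ∈ M) :
    ∀ k ∈ K, ∀ v ∈ fcM1 K₀ a M, k • v ∈ fcM1 K₀ a M := by
  rintro k hk v ⟨hv, hv'⟩
  refine ⟨hMK k hk v hv, fun g hg => ?_⟩
  have hle : conjSub g K₀ ≤ K := by
    have := conjSub_le (t := g) hK₀
    rwa [fc_zpowers_conj haK hg] at this
  rw [← smul_nu_of_commute (fun k' hk' => hKc k hk k' (hle hk')), hv' g hg, smul_zero]

theorem fcM1_smul_a {K₀ : Subgroup L} {a : L} {M : AddSubgroup N}
    (hMa : ∀ v ∈ M, a • v ∈ M) : ∀ v ∈ fcM1 K₀ a M, a • v ∈ fcM1 K₀ a M := by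
  rintro v ⟨hv, hv'⟩
  refine ⟨hMa v hv, fun g hg => ?_⟩
  have hg' : a⁻¹ * g ∈ Subgroup.zpowers a :=
    (Subgroup.zpowers a).mul_mem ((Subgroup.zpowers a).inv_mem (Subgroup.mem_zpowers a)) hg
  have e : conjSub g K₀ = conjSub a (conjSub (a⁻¹ * g) K₀) := by
    rw [← conjSub_mul, mul_inv_cancel_left]
  rw [e, ← smul_nu_conjSub, hv' _ hg', smul_zero]

theorem fcM1_inf_fixed {K K₀ : Subgroup L} {a : L} {M : AddSubgroup N}
    (hK₀ : K₀ ≤ K) (hcopK : (Nat.card N).Coprime (Nat.card K)) :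
    ∀ v ∈ fcM1 K₀ a M, v ∈ M ⊓ fixedPts (V := N) K₀ → v = 0 := by
  rintro v ⟨hv, hv'⟩ ⟨_, hvf⟩
  have h1 := hv' 1 (Subgroup.one_mem _)
  rw [conjSub_one, nu_of_mem_fixedPts hvf] at h1
  exact eq_zero_of_nsmul_eq_zero
    (Nat.Coprime.coprime_dvd_right (Subgroup.card_dvd_of_le hK₀) hcopK) h1

theorem fc_X1 (K₀ : Subgroup L) (a : L) (M : AddSubgroup N)
    (hMK₀ : ∀ k ∈ K₀, ∀ v ∈ M, k • v ∈ M) :
    Nat.card ↥(fcFix (N := N) a ⊓ M) ≤
      Nat.card ↥(fcFix (N := N) a ⊓ fcM1 K₀ a M) * Nat.card ↥(M ⊓ fixedPts (V := N) K₀) := by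
  apply fc_card_le_of_hom (nuHom K₀)
  · rintro v ⟨_, hvM⟩
    exact ⟨fc_nu_mem hMK₀ hvM, nu_mem_fixedPts K₀ v⟩
  · rintro v ⟨hva, hvM⟩ h0
    refine ⟨hva, hvM, fun g hg => ?_⟩
    have h1 : g • v = v := fc_zpowers_smul hva hg
    have h2 := smul_nu_conjSub K₀ g v
    rw [h1, show nu K₀ v = 0 from h0, smul_zero] at h2
    exact h2.symm

theorem fc_X1' (K₀ : Subgroup L) (a : L) (M : AddSubgroup N)
    (hMK₀ : ∀ k ∈ K₀, ∀ v ∈ M, k • v ∈ M) (haK₀ : ∀ k ∈ K₀, a * k * a⁻¹ ∈ K₀) :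
    Nat.card ↥(fcFix (N := N) a ⊓ M) ≤
      Nat.card ↥(fcFix (N := N) a ⊓ fcM1 K₀ a M) *
        Nat.card ↥(fcFix (N := N) a ⊓ (M ⊓ fixedPts (V := N) K₀)) := by
  apply fc_card_le_of_hom (nuHom K₀)
  · rintro v ⟨hva, hvM⟩
    refine ⟨?_, fc_nu_mem hMK₀ hvM, nu_mem_fixedPts K₀ v⟩
    show a • nu K₀ v = nu K₀ v
    have h2 := smul_nu_conjSub K₀ a v
    rw [conjSub_eq_self haK₀, show a • v = v from hva] at h2
    exact h2
  · rintro v ⟨hva, hvM⟩ h0
    refine ⟨hva, hvM, fun g hg => ?_⟩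
    have h1 : g • v = v := fc_zpowers_smul hva hg
    have h2 := smul_nu_conjSub K₀ g v
    rw [h1, show nu K₀ v = 0 from h0, smul_zero] at h2
    exact h2.symm

theorem fc_X2 {K K₀ : Subgroup L} (a : L) (M : AddSubgroup N)
    (hK₀ : K₀ ≤ K) (hcopK : (Nat.card N).Coprime (Nat.card K)) :
    Nat.card ↥(fcM1 K₀ a M) * Nat.card ↥(M ⊓ fixedPts (V := N) K₀) ≤ Nat.card M :=
  fc_card_mul_le (fcM1_le K₀ a M) inf_le_left (fcM1_inf_fixed hK₀ hcopK)

/-- if `a` does not normalize `K₀`, the `p` conjugates are pairwise distinct. -/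
theorem fc_distinct {p : ℕ} (hp : p.Prime) (K₀ : Subgroup L) (a : L) (ha : a ^ p = 1)
    (hnot : ¬ ∀ k ∈ K₀, a * k * a⁻¹ ∈ K₀) (i j : ℕ) (hi : i < p) (hj : j < p) (hij : i ≠ j) :
    conjSub (a ^ i) K₀ ≠ conjSub (a ^ j) K₀ := by
  have key : ∀ i j : ℕ, i < j → j < p → conjSub (a ^ i) K₀ ≠ conjSub (a ^ j) K₀ := by
    intro i j hij hjp heq
    obtain ⟨d, hd⟩ : ∃ d, j = i + d := ⟨j - i, by omega⟩
    have hd0 : 0 < d := by omega
    have hdp : d < p := by omega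
    rw [hd, pow_add, conjSub_mul] at heq
    have h1 := congrArg (conjSub (a ^ i)⁻¹) heq
    rw [← conjSub_mul, ← conjSub_mul, inv_mul_cancel, conjSub_one, conjSub_one] at h1
    -- `a ^ d` normalizes `K₀`
    have h2 : a ^ d ∈ Subgroup.normalizer (K₀ : Set L) := by
      apply fc_mem_normalizer
      intro z hz
      rw [h1]
      exact ⟨z, hz, rfl⟩
    have hcop : Nat.Coprime d p := by
      rw [Nat.coprime_comm]
      exact (Nat.Prime.coprime_iff_not_dvd hp).2 (Nat.not_dvd_of_pos_of_lt hd0 hdp)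
    obtain ⟨m, -, hm⟩ := Nat.exists_mul_mod_eq_one_of_coprime hcop hp.one_lt
    have h3 : a ^ (d * m) = a := by
      conv_lhs => rw [← Nat.mod_add_div (d * m) p, hm, pow_add, pow_one, pow_mul, ha, one_pow,
        mul_one]
    have h4 : a ∈ Subgroup.normalizer (K₀ : Set L) := by
      rw [← h3, pow_mul]
      exact Subgroup.pow_mem _ h2 m
    rw [Subgroup.mem_normalizer_iff] at h4
    exact hnot (fun k hk => (h4 k).1 hk)
  rcases lt_or_gt_of_ne hij with h | h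
  · exact key i j h hj
  · exact fun heq => key j i h hi heq.symm

theorem fc_X3 {p s : ℕ} (hp : p.Prime) (hs : s.Prime) (K K₀ : Subgroup L) (a : L)
    (ha : a ^ p = 1) (haK : ∀ k ∈ K, a * k * a⁻¹ ∈ K)
    (hKc : ∀ k ∈ K, ∀ k' ∈ K, k * k' = k' * k)
    (hcopK : (Nat.card N).Coprime (Nat.card K))
    (hCK : ∀ n : N, (∀ k ∈ K, k • n = n) → n = 0)
    (hK₀ : K₀ ≤ K) (hcard : Nat.card K₀ * s = Nat.card K)
    (hnot : ¬ ∀ k ∈ K₀, a * k * a⁻¹ ∈ K₀)
    (M : AddSubgroup N) (hMa : ∀ v ∈ M, a • v ∈ M) :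
    Nat.card ↥(fcM1 K₀ a M) * Nat.card ↥(M ⊓ fixedPts (V := N) K₀) ^ p ≤ Nat.card M := by
  classical
  have hKi : ∀ i : ℕ, conjSub (a ^ i) K₀ ≤ K := by
    intro i
    have := conjSub_le (t := a ^ i) hK₀
    rwa [conjSub_eq_self (fc_pow_conj haK i)] at this
  have hKic : ∀ i : ℕ, Nat.card (conjSub (a ^ i) K₀) * s = Nat.card K := by
    intro i
    rw [card_conjSub, hcard]
  have hcopK₀ : (Nat.card N).Coprime (Nat.card K₀) :=
    Nat.Coprime.coprime_dvd_right (Subgroup.card_dvd_of_le hK₀) hcopK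
  have hmem : ∀ x : ↥(fcM1 K₀ a M) × (Fin p → ↥(M ⊓ fixedPts (V := N) K₀)),
      (x.1 : N) + ∑ j : Fin p, a ^ (j : ℕ) • ((x.2 j : N)) ∈ M := by
    intro x
    apply M.add_mem (fcM1_le K₀ a M x.1.2)
    apply M.sum_mem
    intro j _
    exact fc_pow_inv hMa j _ (x.2 j).2.1
  have hnu : ∀ (x : ↥(fcM1 K₀ a M) × (Fin p → ↥(M ⊓ fixedPts (V := N) K₀))) (i : Fin p),
      nu (conjSub (a ^ (i : ℕ)) K₀) ((x.1 : N) + ∑ j : Fin p, a ^ (j : ℕ) • ((x.2 j : N))) =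
        Nat.card K₀ • (a ^ (i : ℕ) • ((x.2 i : N))) := by
    intro x i
    rw [nu_add, x.1.2.2 _ (Subgroup.npow_mem_zpowers a i), zero_add, nu_sum,
      Finset.sum_eq_single i]
    · rw [nu_of_mem_fixedPts (smul_mem_fixedPts_conjSub (x.2 i).2.2 (a ^ (i : ℕ))), card_conjSub]
    · intro j _ hji
      apply fc_nu_eq_zero hs hKc hCK (hKi i) (hKic i) (hKi j) (hKic j)
      · exact fc_distinct hp K₀ a ha hnot i j i.2 j.2 (fun h => hji (Fin.ext h.symm))
      · exact smul_mem_fixedPts_conjSub (x.2 j).2.2 (a ^ (j : ℕ))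
    · intro h
      exact absurd (Finset.mem_univ i) h
  have hinj : Function.Injective
      (fun x : ↥(fcM1 K₀ a M) × (Fin p → ↥(M ⊓ fixedPts (V := N) K₀)) =>
        (⟨(x.1 : N) + ∑ j : Fin p, a ^ (j : ℕ) • ((x.2 j : N)), hmem x⟩ : M)) := by
    intro x y hxy
    have h1 := congrArg Subtype.val hxy
    have h2 : (x.1 : N) + ∑ j : Fin p, a ^ (j : ℕ) • ((x.2 j : N)) =
        (y.1 : N) + ∑ j : Fin p, a ^ (j : ℕ) • ((y.2 j : N)) := h1
    have h3 : ∀ i : Fin p, x.2 i = y.2 i := by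
      intro i
      have e1 := hnu x i
      have e2 := hnu y i
      rw [h2, e2] at e1
      have e3 : Nat.card K₀ • (a ^ (i : ℕ) • ((x.2 i : N)) - a ^ (i : ℕ) • ((y.2 i : N))) = 0 := by
        rw [smul_sub, ← e1, sub_self]
      have e4 := eq_zero_of_nsmul_eq_zero hcopK₀ e3
      rw [← smul_sub, smul_eq_zero_iff_eq] at e4
      exact Subtype.ext (sub_eq_zero.1 e4)
    have h4 : x.2 = y.2 := funext h3
    have h5 : (x.1 : N) = y.1 := by
      rw [h4] at h2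
      exact add_right_cancel h2
    exact Prod.ext (Subtype.ext h5) h4
  have hle := Nat.card_le_card_of_injective _ hinj
  rw [Nat.card_prod, Nat.card_fun, Nat.card_fin] at hle
  exact hle

/-- the inductive statement. -/
theorem fc_main {p s : ℕ} (hp : p.Prime) (hs : s.Prime) (K : Subgroup L) (a : L)
    (ha : a ^ p = 1) (haK : ∀ k ∈ K, a * k * a⁻¹ ∈ K)
    (hKc : ∀ k ∈ K, ∀ k' ∈ K, k * k' = k' * k) (hKs : ∀ k ∈ K, k ^ s = 1)
    (hcop : (Nat.card N).Coprime s)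
    (hfpf : ∀ k ∈ K, a * k = k * a → k = 1)
    (hCK : ∀ n : N, (∀ k ∈ K, k • n = n) → n = 0) :
    ∀ (n : ℕ) (M : AddSubgroup N), Nat.card M = n → (∀ k ∈ K, ∀ v ∈ M, k • v ∈ M) →
      (∀ v ∈ M, a • v ∈ M) → Nat.card ↥(fcFix (N := N) a ⊓ M) ^ p ≤ Nat.card M := by
  intro n
  induction n using Nat.strong_induction_on with
  | _ n ih =>
  intro M hn hMK hMa
  have hcopK : (Nat.card N).Coprime (Nat.card K) := fc_coprime_card hs hKs hcop
  by_cases hM : M = ⊥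
  · have h1 : fcFix (N := N) a ⊓ M = ⊥ := by rw [hM, inf_bot_eq]
    rw [h1, hM, AddSubgroup.card_bot, one_pow]
  obtain ⟨K₀, hK₀, hcard, v, hvM, hvK₀, hv0⟩ := fc_exists_hyp hs K hKc hKs hcop hCK M hMK hM
  have hM₀ne : M ⊓ fixedPts (V := N) K₀ ≠ ⊥ := by
    intro h
    have : v ∈ (⊥ : AddSubgroup N) := h ▸ ⟨hvM, hvK₀⟩
    exact hv0 ((AddSubgroup.mem_bot).1 this)
  have hM₀2 : 1 < Nat.card ↥(M ⊓ fixedPts (V := N) K₀) :=
    (AddSubgroup.one_lt_card_iff_ne_bot _).2 hM₀ne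
  have hX2 := fc_X2 (K := K) (K₀ := K₀) a M hK₀ hcopK
  have hM₁pos : 0 < Nat.card ↥(fcM1 K₀ a M) := Nat.card_pos
  have hlt : Nat.card ↥(fcM1 K₀ a M) < n := by
    rw [← hn]
    nlinarith
  have hIH := ih _ hlt (fcM1 K₀ a M) rfl (fcM1_smul_K haK hKc hK₀ hMK) (fcM1_smul_a hMa)
  have hMK₀ : ∀ k ∈ K₀, ∀ v ∈ M, k • v ∈ M := fun k hk => hMK k (hK₀ hk)
  by_cases haK₀ : ∀ k ∈ K₀, a * k * a⁻¹ ∈ K₀
  · -- Case A
    have hM₀K : ∀ k ∈ K, ∀ v ∈ M ⊓ fixedPts (V := N) K₀, k • v ∈ M ⊓ fixedPts (V := N) K₀ := by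
      rintro k hk v ⟨hv, hvf⟩
      refine ⟨hMK k hk v hv, fun k' hk' => ?_⟩
      rw [← mul_smul, ← hKc k hk k' (hK₀ hk'), mul_smul, hvf k' hk']
    have hcyc := fc_cyclic hp hs K K₀ a ha haK hKc hfpf hK₀ hcard haK₀
      (M ⊓ fixedPts (V := N) K₀) hM₀K inf_le_right (fun n _ h => hCK n h)
    have hX1 := fc_X1' K₀ a M hMK₀ haK₀
    calc Nat.card ↥(fcFix (N := N) a ⊓ M) ^ p
        ≤ (Nat.card ↥(fcFix (N := N) a ⊓ fcM1 K₀ a M) *
            Nat.card ↥(fcFix (N := N) a ⊓ (M ⊓ fixedPts (V := N) K₀))) ^ p :=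
          Nat.pow_le_pow_left hX1 p
      _ = Nat.card ↥(fcFix (N := N) a ⊓ fcM1 K₀ a M) ^ p *
            Nat.card ↥(fcFix (N := N) a ⊓ (M ⊓ fixedPts (V := N) K₀)) ^ p := mul_pow _ _ _
      _ ≤ Nat.card ↥(fcM1 K₀ a M) * Nat.card ↥(M ⊓ fixedPts (V := N) K₀) :=
          Nat.mul_le_mul hIH hcyc
      _ ≤ Nat.card M := hX2
  · -- Case B
    have hX1 := fc_X1 K₀ a M hMK₀
    have hX3 := fc_X3 hp hs K K₀ a ha haK hKc hcopK hCK hK₀ hcard haK₀ M hMa
    calc Nat.card ↥(fcFix (N := N) a ⊓ M) ^ p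
        ≤ (Nat.card ↥(fcFix (N := N) a ⊓ fcM1 K₀ a M) *
            Nat.card ↥(M ⊓ fixedPts (V := N) K₀)) ^ p :=
          Nat.pow_le_pow_left hX1 p
      _ = Nat.card ↥(fcFix (N := N) a ⊓ fcM1 K₀ a M) ^ p *
            Nat.card ↥(M ⊓ fixedPts (V := N) K₀) ^ p := mul_pow _ _ _
      _ ≤ Nat.card ↥(fcM1 K₀ a M) * Nat.card ↥(M ⊓ fixedPts (V := N) K₀) ^ p :=
          Nat.mul_le_mul_right _ hIH
      _ ≤ Nat.card M := hX3

end main

section tools

variable {N : Type u} [AddCommGroup N] [Finite N] {L : Type w} [Group L] [Finite L]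
  [DistribMulAction L N]

/-- **The Frobenius count**: for a Frobenius-type group `K⟨a⟩` on `N` with `C_N(K) = 0`,
`|C_N(a)| ^ p ≤ |N|`. -/
theorem frob_count {p s : ℕ} (hp : p.Prime) (hs : s.Prime) (K : Subgroup L) (a : L)
    (ha : a ^ p = 1) (haK : ∀ k ∈ K, a * k * a⁻¹ ∈ K)
    (hKc : ∀ k ∈ K, ∀ k' ∈ K, k * k' = k' * k) (hKs : ∀ k ∈ K, k ^ s = 1)
    (hcop : (Nat.card N).Coprime (s * p))
    (hfpf : ∀ k ∈ K, a * k = k * a → k = 1)
    (hCK : ∀ n : N, (∀ k ∈ K, k • n = n) → n = 0) :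
    Nat.card {n : N // a • n = n} ^ p ≤ Nat.card N := by
  have hcops : (Nat.card N).Coprime s := Nat.Coprime.coprime_mul_right_right hcop
  have h := fc_main hp hs K a ha haK hKc hKs hcops hfpf hCK _ (⊤ : AddSubgroup N) rfl
    (fun _ _ _ _ => AddSubgroup.mem_top _) (fun _ _ => AddSubgroup.mem_top _)
  rw [AddSubgroup.card_top] at h
  have e : Nat.card {n : N // a • n = n} = Nat.card ↥(fcFix (N := N) a ⊓ ⊤) := by
    apply Nat.card_congr
    apply Equiv.subtypeEquivRight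
    intro n
    rw [inf_top_eq]
    exact Iff.rfl
  rw [e]
  exact h

end tools

end Cfsg.Agent.Lib.Helper6.PQTools
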