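import Mathlib
import Cfsg.Agent.Lib.Lead.PSingDefs

/-!
# S4321, package Q1 (`camina`), parts (a) and (c)

If every `p'`-element of `H` has class size prime to `p`, then every element of `H` normalizes
a Sylow `p`-subgroup; and if moreover the Sylow `p`-subgroups are normal, then every `p`-element
has class size a power of `p`.
-/

set_option autoImplicit false

namespace Cfsg.Agent.Lib.Helper6.PSing

open Cfsg.Agent.Lib.Lead.PSing

universe u

variable {H : Type u} [Group H] [Finite H] {p : ℕ} [Fact p.Prime]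

/-- a subgroup of index prime to `p` contains a Sylow `p`-subgroup of `H` above any given
`p`-subgroup of it -/
theorem exists_sylow_le (C : Subgroup H) (hC : ¬ p ∣ C.index) (K : Subgroup H)
    (hK : IsPGroup p K) (hKC : K ≤ C) :
    ∃ Q : Sylow p H, K ≤ (Q : Subgroup H) ∧ (Q : Subgroup H) ≤ C := by
  have hK' : IsPGroup p (K.subgroupOf C) := hK.comap_subtype
  obtain ⟨Q0, hQ0⟩ := hK'.exists_le_sylow
  have hcard : Nat.card ((Q0 : Subgroup C).map C.subtype) =
      p ^ (Nat.card H).factorization p := by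
    rw [Nat.card_congr ((Q0 : Subgroup C).equivMapOfInjective C.subtype
      C.subtype_injective).symm.toEquiv, Q0.card_eq_multiplicity]
    congr 1
    rw [← C.card_mul_index, Nat.factorization_mul Nat.card_pos.ne'
      Subgroup.index_ne_zero_of_finite, Finsupp.add_apply,
      Nat.factorization_eq_zero_of_not_dvd hC, add_zero]
  refine ⟨Sylow.ofCard _ hcard, ?_, ?_⟩
  · rw [Sylow.coe_ofCard]
    intro k hk
    exact ⟨⟨k, hKC hk⟩, hQ0 (Subgroup.mem_subgroupOf.mpr hk), rfl⟩
  · rw [Sylow.coe_ofCard]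
    rintro _ ⟨q, -, rfl⟩
    exact q.2

/-- (a) every element normalizes some Sylow `p`-subgroup -/
theorem exists_sylow_normalizer_mem (h : ∀ y : H, (orderOf y).Coprime p → ¬ p ∣ cs y) (g : H) :
    ∃ Q : Sylow p H, g ∈ Subgroup.normalizer ((Q : Subgroup H) : Set H) := by
  have hp : p.Prime := Fact.out
  have hn : orderOf g ≠ 0 := (orderOf_pos g).ne'
  obtain ⟨e, m, hm, hem⟩ := Nat.exists_eq_pow_mul_and_not_dvd hn p hp.ne_one
  obtain ⟨y, hy⟩ : ∃ y : H, y = g ^ (p ^ e) := ⟨_, rfl⟩
  obtain ⟨x, hx⟩ : ∃ x : H, x = g ^ m := ⟨_, rfl⟩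
  have hym : y ^ m = 1 := by rw [hy, ← pow_mul, ← hem]; exact pow_orderOf_eq_one g
  have hxp : x ^ (p ^ e) = 1 := by
    rw [hx, ← pow_mul, mul_comm, ← hem]; exact pow_orderOf_eq_one g
  have hmp : Nat.Coprime p m := (Nat.Prime.coprime_iff_not_dvd hp).mpr hm
  have hycop : (orderOf y).Coprime p :=
    Nat.Coprime.coprime_dvd_left (orderOf_dvd_of_pow_eq_one hym) hmp.symm
  have hC := h y hycop
  have hxC : Subgroup.zpowers x ≤ Subgroup.centralizer ({y} : Set H) := by
    rw [Subgroup.zpowers_le, Subgroup.mem_centralizer_singleton_iff, hx, hy, ← pow_add,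
      ← pow_add, add_comm]
  have hxP : IsPGroup p (Subgroup.zpowers x) := by
    obtain ⟨k, -, hk⟩ := (Nat.dvd_prime_pow hp).mp (orderOf_dvd_of_pow_eq_one hxp)
    exact IsPGroup.of_card (by rw [Nat.card_zpowers, hk])
  obtain ⟨Q, hxQ, hQC⟩ := exists_sylow_le _ hC _ hxP hxC
  refine ⟨Q, ?_⟩
  have hxN : x ∈ Subgroup.normalizer ((Q : Subgroup H) : Set H) :=
    Subgroup.le_normalizer (hxQ (Subgroup.mem_zpowers x))
  have hyN : y ∈ Subgroup.normalizer ((Q : Subgroup H) : Set H) := by
    apply Subgroup.centralizer_le_normalizer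
    rw [Subgroup.mem_centralizer_iff]
    intro q hq
    exact Subgroup.mem_centralizer_singleton_iff.mp (hQC hq)
  have hcop : IsCoprime ((p ^ e : ℕ) : ℤ) (m : ℤ) := by
    rw [Nat.isCoprime_iff_coprime]
    exact Nat.Coprime.pow_left e hmp
  obtain ⟨a, b, hab⟩ := hcop
  have hg : g = y ^ a * x ^ b := by
    have h1 : y ^ a = g ^ (a * ((p ^ e : ℕ) : ℤ)) := by
      rw [hy, mul_comm, zpow_mul, zpow_natCast]
    have h2 : x ^ b = g ^ (b * (m : ℤ)) := by
      rw [hx, mul_comm, zpow_mul, zpow_natCast]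
    rw [h1, h2, ← zpow_add, hab, zpow_one]
  rw [hg]
  exact Subgroup.mul_mem _ (Subgroup.zpow_mem _ hyN a) (Subgroup.zpow_mem _ hxN b)

/-- (c) with normal Sylow `p`-subgroups, `p`-elements have `p`-power class sizes -/
theorem camina_of_normal (h : ∀ y : H, (orderOf y).Coprime p → ¬ p ∣ cs y)
    (hN : ∀ P : Sylow p H, (P : Subgroup H).Normal) :
    ∀ w : H, IsPEl p w → ∃ k : ℕ, cs w = p ^ k := by
  intro w hw
  have hp : p.Prime := Fact.out
  obtain ⟨P⟩ : Nonempty (Sylow p H) := inferInstance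
  have hPn := hN P
  have huniq : ∀ Q : Sylow p H, Q = P := by
    intro Q
    haveI := Sylow.unique_of_normal P hPn
    exact Subsingleton.elim Q P
  -- `w ∈ P`
  have hwP : w ∈ (P : Subgroup H) := by
    have hZ : IsPGroup p (Subgroup.zpowers w) := by
      obtain ⟨k, hk⟩ := hw
      exact IsPGroup.of_card (by rw [Nat.card_zpowers, hk])
    obtain ⟨Q, hQ⟩ := hZ.exists_le_sylow
    rw [← huniq Q]
    exact hQ (Subgroup.mem_zpowers w)
  have hprimes : ∀ t : ℕ, t.Prime → t ∣ cs w → t = p := by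
    intro t ht htd
    by_contra hne
    haveI : Fact t.Prime := ⟨ht⟩
    obtain ⟨T⟩ : Nonempty (Sylow t H) := inferInstance
    have hTC : (T : Subgroup H) ≤ Subgroup.centralizer ({w} : Set H) := by
      intro y hyT
      obtain ⟨k, hk⟩ := T.isPGroup' ⟨y, hyT⟩
      have hk' : y ^ (t ^ k) = 1 := by
        have := congrArg Subtype.val hk
        simpa using this
      have hycop : (orderOf y).Coprime p :=
        Nat.Coprime.coprime_dvd_left (orderOf_dvd_of_pow_eq_one hk')
          (Nat.Coprime.pow_left k ((Nat.coprime_primes ht hp).mpr hne))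
      obtain ⟨Q, -, hQC⟩ := exists_sylow_le _ (h y hycop) ⊥ IsPGroup.of_bot bot_le
      rw [huniq Q] at hQC
      rw [Subgroup.mem_centralizer_singleton_iff]
      exact (Subgroup.mem_centralizer_singleton_iff.mp (hQC hwP)).symm
    have h1 : Nat.card (T : Subgroup H) ∣
        Nat.card (Subgroup.centralizer ({w} : Set H)) := Subgroup.card_dvd_of_le hTC
    rw [T.card_eq_multiplicity] at h1
    have h2 : t ^ ((Nat.card H).factorization t + 1) ∣ Nat.card H := by
      have h3 := Nat.mul_dvd_mul h1 htd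
      rw [(Subgroup.centralizer ({w} : Set H)).card_mul_index, ← pow_succ] at h3
      exact h3
    exact Nat.pow_succ_factorization_not_dvd Nat.card_pos.ne' ht h2
  exact ⟨_, Nat.eq_prime_pow_of_unique_prime_dvd Subgroup.index_ne_zero_of_finite
    (fun {d} hd hdd => hprimes d hd hdd)⟩

end Cfsg.Agent.Lib.Helper6.PSing
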