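import Mathlib
import Cfsg.Agent.Lib.Helper6.PSingQ1a
import Cfsg.Agent.Lib.Helper9.PSingQ1b

/-!
# S4321, package Q1: `camina`

If every `p'`-element of `H` has class size prime to `p`, then every `p`-element of `H` has class
size a power of `p` (paper proof: `notes/S4321_paper_lead.md`, Q1; part (b) is helper9's
`sylow_normal_of_forall_normalizes`).
-/

set_option autoImplicit false

namespace Cfsg.Agent.Lib.Helper6.PSing

open Cfsg.Agent.Lib.Lead.PSing

universe u

/-- **Package Q1 of S4321.** -/
theorem camina {H : Type u} [Group H] [Finite H] {p : ℕ} [Fact p.Prime]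
    (h : ∀ y : H, (orderOf y).Coprime p → ¬ p ∣ cs y) :
    ∀ w : H, IsPEl p w → ∃ k : ℕ, cs w = p ^ k :=
  camina_of_normal h (fun P =>
    Cfsg.Agent.Lib.Helper9.PSing.sylow_normal_of_forall_normalizes
      (exists_sylow_normalizer_mem h) P)

end Cfsg.Agent.Lib.Helper6.PSing
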