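import Mathlib
import Cfsg.Agent.Lib.Helper4.SUClass.Defs

set_option autoImplicit false
set_option linter.unusedSectionVars false
set_option linter.unusedVariables false

/-!
# S2481 PK-UN : numerics for the unitary parameter counts

`Σ_n UN q n n uⁿ = ∏_i (1+uⁱ)/(1-quⁱ)`.  We prove the three-term recurrence
`UN q (m+1) n = UN q m n + q · UN q (m+1) (n-(m+1)) + UN q m (n-(m+1))`, deduce
`UN q m n ≤ a_m qⁿ` with `a_{m+1} (1 - q^{-m}) ≥ a_m (1 + q^{-m-1})` (exact constants for `m ≤ 3`,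
the potential `6 (1+1/q) (1 - 3 q^{-m})` for `m ≥ 3`), hence `UN q n n ≤ 6 (q+1) q^(n-1)`, and
finally `pairs_sum_le_u`.
-/

namespace Cfsg.Agent.Lib.Helper4.SUClass.PkUN

open Cfsg.Agent.Lib.Helper4.SUClass

theorem NU_zero (q : ℕ) : NU q 0 = 1 := by simp [NU]

theorem NU_succ (q d : ℕ) : NU q (d + 1) = q ^ (d + 1) + q ^ d := by simp [NU]

theorem NU_succ_succ (q d : ℕ) : NU q (d + 2) = q * NU q (d + 1) := by
  rw [NU_succ, NU_succ]; ring

theorem NU_one (q : ℕ) : NU q 1 = q + 1 := by simp [NU]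

theorem UN_zero (q n : ℕ) : UN q 0 n = if n = 0 then 1 else 0 := by
  rw [UN]

theorem UN_succ (q m n : ℕ) :
    UN q (m + 1) n = ∑ d ∈ Finset.range (n / (m + 1) + 1), NU q d * UN q m (n - (m + 1) * d) := by
  rw [UN]

theorem UN_one (q n : ℕ) : UN q 1 n = NU q n := by
  rw [UN_succ]
  simp only [zero_add, Nat.div_one, one_mul, UN_zero]
  rw [Finset.sum_eq_single n]
  · simp
  · intro d hd hdn
    have : d < n + 1 := Finset.mem_range.1 hd
    have : n - d ≠ 0 := by omega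
    simp [this]
  · intro h
    exact absurd (Finset.mem_range.2 (Nat.lt_succ_self n)) h

theorem UN_succ_lt (q m n : ℕ) (h : n < m + 1) : UN q (m + 1) n = UN q m n := by
  rw [UN_succ, Nat.div_eq_of_lt h]
  simp [NU_zero]

theorem UN_succ_ge (q m n : ℕ) (h : m + 1 ≤ n) :
    UN q (m + 1) n = UN q m n + q * UN q (m + 1) (n - (m + 1)) + UN q m (n - (m + 1)) := by
  have hD : (n - (m + 1)) / (m + 1) + 1 = n / (m + 1) := by
    exact (Nat.div_eq_sub_div (by omega) h).symm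
  rw [UN_succ q m n, UN_succ q m (n - (m + 1)), hD, Finset.sum_range_succ']
  simp only [NU_zero, mul_zero, Nat.sub_zero, one_mul]
  have hD1 : 1 ≤ n / (m + 1) := (Nat.one_le_div_iff (by omega)).2 h
  obtain ⟨D, hDe⟩ : ∃ D, n / (m + 1) = D + 1 := ⟨n / (m + 1) - 1, by omega⟩
  rw [hDe, Finset.sum_range_succ' _ D, Finset.sum_range_succ' _ D]
  simp only [NU_zero, mul_zero, Nat.sub_zero, one_mul, zero_add, NU_one, mul_one]
  have hterm : ∀ d, NU q (d + 1 + 1) * UN q m (n - (m + 1) * (d + 1 + 1)) =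
      q * (NU q (d + 1) * UN q m (n - (m + 1) - (m + 1) * (d + 1))) := by
    intro d
    rw [NU_succ_succ]
    have : n - (m + 1) * (d + 1 + 1) = n - (m + 1) - (m + 1) * (d + 1) := by
      rw [Nat.sub_sub]; congr 1; ring
    rw [this]; ring
  rw [Finset.sum_congr rfl (fun d _ => hterm d), ← Finset.mul_sum]
  ring

end Cfsg.Agent.Lib.Helper4.SUClass.PkUN

namespace Cfsg.Agent.Lib.Helper4.SUClass.PkUN

open Cfsg.Agent.Lib.Helper4.SUClass

/-- the step of the induction on the number of levels -/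
theorem step (q m : ℕ) (a a' : ℚ) (ha : 0 ≤ a) (haa : a ≤ a')
    (hcond : a * ((q : ℚ) ^ (m + 1) + 1) ≤ a' * ((q : ℚ) ^ (m + 1) - q))
    (h : ∀ n, (UN q m n : ℚ) ≤ a * (q : ℚ) ^ n) :
    ∀ n, (UN q (m + 1) n : ℚ) ≤ a' * (q : ℚ) ^ n := by
  intro n
  induction n using Nat.strong_induction_on with
  | _ n ih =>
    have hQ : (0 : ℚ) ≤ (q : ℚ) := Nat.cast_nonneg q
    rcases Nat.lt_or_ge n (m + 1) with hlt | hge
    · rw [UN_succ_lt q m n hlt]
      refine (h n).trans ?_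
      exact mul_le_mul_of_nonneg_right haa (pow_nonneg hQ n)
    · obtain ⟨k, rfl⟩ : ∃ k, n = k + (m + 1) := ⟨n - (m + 1), by omega⟩
      rw [UN_succ_ge q m _ hge, Nat.add_sub_cancel]
      have h1 := h (k + (m + 1))
      have h2 := h k
      have h3 := ih k (by omega)
      push_cast
      have hy : (0 : ℚ) ≤ (q : ℚ) ^ k := pow_nonneg hQ k
      have hpow : (q : ℚ) ^ (k + (m + 1)) = (q : ℚ) ^ k * (q : ℚ) ^ (m + 1) := pow_add _ _ _
      rw [hpow] at h1 ⊢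
      have h4 := mul_le_mul_of_nonneg_left hcond hy
      have h5 : (q : ℚ) * (UN q (m + 1) k : ℚ) ≤ (q : ℚ) * (a' * (q : ℚ) ^ k) :=
        mul_le_mul_of_nonneg_left h3 hQ
      nlinarith

theorem UN_one_le (q : ℕ) (hq : 2 ≤ q) (n : ℕ) :
    (UN q 1 n : ℚ) ≤ (((q : ℚ) + 1) / q) * (q : ℚ) ^ n := by
  have hQ : (2 : ℚ) ≤ (q : ℚ) := by exact_mod_cast hq
  have hQ0 : (0 : ℚ) < (q : ℚ) := by linarith
  rw [UN_one]
  cases n with
  | zero =>
    rw [NU_zero, pow_zero, mul_one, le_div_iff₀ hQ0]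
    push_cast
    linarith
  | succ d =>
    rw [NU_succ]
    push_cast
    rw [pow_succ, div_mul_eq_mul_div, le_div_iff₀ hQ0]
    nlinarith [pow_nonneg hQ0.le d]

/-- the constants for `m = 2, 3` -/
theorem UN_two_le (q : ℕ) (hq : 2 ≤ q) (n : ℕ) :
    (UN q 2 n : ℚ) ≤ (((q : ℚ) + 1) * ((q : ℚ) ^ 2 + 1) / ((q : ℚ) ^ 2 * ((q : ℚ) - 1))) *
      (q : ℚ) ^ n := by
  have hQ : (2 : ℚ) ≤ (q : ℚ) := by exact_mod_cast hq
  have hQ0 : (0 : ℚ) < (q : ℚ) := by linarith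
  have hQ1 : (0 : ℚ) < (q : ℚ) - 1 := by linarith
  refine step q 1 (((q : ℚ) + 1) / q) _ (by positivity) ?_ ?_ (UN_one_le q hq) n
  · rw [div_le_div_iff₀ hQ0 (by positivity)]
    nlinarith [mul_pos hQ0 hQ0, mul_pos (mul_pos hQ0 hQ0) hQ0]
  · rw [div_mul_eq_mul_div, div_mul_eq_mul_div, div_le_div_iff₀ hQ0 (by positivity)]
    have : (1 : ℕ) + 1 = 2 := rfl
    rw [this]
    nlinarith [mul_pos hQ0 hQ0, mul_pos (mul_pos hQ0 hQ0) hQ0]

end Cfsg.Agent.Lib.Helper4.SUClass.PkUN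

namespace Cfsg.Agent.Lib.Helper4.SUClass.PkUN

open Cfsg.Agent.Lib.Helper4.SUClass

theorem UN_three_le (q : ℕ) (hq : 2 ≤ q) (n : ℕ) :
    (UN q 3 n : ℚ) ≤ (((q : ℚ) + 1) * ((q : ℚ) ^ 2 + 1) * ((q : ℚ) ^ 3 + 1) /
      ((q : ℚ) ^ 3 * ((q : ℚ) - 1) * ((q : ℚ) ^ 2 - 1))) * (q : ℚ) ^ n := by
  have hQ : (2 : ℚ) ≤ (q : ℚ) := by exact_mod_cast hq
  have hQ0 : (0 : ℚ) < (q : ℚ) := by linarith
  have hQ1 : (0 : ℚ) < (q : ℚ) - 1 := by linarith
  have hQ2 : (0 : ℚ) < (q : ℚ) ^ 2 - 1 := by nlinarith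
  have hd1 : (0 : ℚ) < (q : ℚ) ^ 2 * ((q : ℚ) - 1) := by positivity
  have hd2 : (0 : ℚ) < (q : ℚ) ^ 3 * ((q : ℚ) - 1) * ((q : ℚ) ^ 2 - 1) := by positivity
  refine step q 2 (((q : ℚ) + 1) * ((q : ℚ) ^ 2 + 1) / ((q : ℚ) ^ 2 * ((q : ℚ) - 1))) _
    (by positivity) ?_ ?_ (UN_two_le q hq) n
  · rw [div_le_div_iff₀ hd1 hd2]
    have e : ((q : ℚ) + 1) * ((q : ℚ) ^ 2 + 1) * ((q : ℚ) ^ 3 + 1) * ((q : ℚ) ^ 2 * ((q : ℚ) - 1)) -
        ((q : ℚ) + 1) * ((q : ℚ) ^ 2 + 1) * ((q : ℚ) ^ 3 * ((q : ℚ) - 1) * ((q : ℚ) ^ 2 - 1)) =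
        ((q : ℚ) + 1) * ((q : ℚ) ^ 2 + 1) * ((q : ℚ) ^ 2 * ((q : ℚ) - 1)) * ((q : ℚ) + 1) := by
      ring
    have : 0 ≤ ((q : ℚ) + 1) * ((q : ℚ) ^ 2 + 1) * ((q : ℚ) ^ 2 * ((q : ℚ) - 1)) * ((q : ℚ) + 1) := by
      positivity
    linarith
  · rw [div_mul_eq_mul_div, div_mul_eq_mul_div, div_le_div_iff₀ hd1 hd2]
    have : (2 : ℕ) + 1 = 3 := rfl
    rw [this]
    apply le_of_eq
    ring

/-- the potential for `m ≥ 3` -/
noncomputable def bq (q m : ℕ) : ℚ := 6 * ((q : ℚ) + 1) * ((q : ℚ) ^ m - 3) / ((q : ℚ) * (q : ℚ) ^ m)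

theorem UN_ge_three_le (q : ℕ) (hq : 2 ≤ q) (m : ℕ) (hm : 3 ≤ m) (n : ℕ) :
    (UN q m n : ℚ) ≤ bq q m * (q : ℚ) ^ n := by
  have hQ : (2 : ℚ) ≤ (q : ℚ) := by exact_mod_cast hq
  have hQ0 : (0 : ℚ) < (q : ℚ) := by linarith
  have hQ1 : (0 : ℚ) < (q : ℚ) - 1 := by linarith
  have hQ2 : (0 : ℚ) < (q : ℚ) ^ 2 - 1 := by nlinarith
  induction m, hm using Nat.le_induction generalizing n with
  | base =>
    refine (UN_three_le q hq n).trans ?_
    apply mul_le_mul_of_nonneg_right _ (by positivity)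
    unfold bq
    have hd2 : (0 : ℚ) < (q : ℚ) ^ 3 * ((q : ℚ) - 1) * ((q : ℚ) ^ 2 - 1) := by positivity
    rw [div_le_div_iff₀ hd2 (by positivity)]
    obtain ⟨t, ht, hqt⟩ : ∃ t : ℚ, 0 ≤ t ∧ (q : ℚ) = 2 + t := ⟨(q : ℚ) - 2, by linarith, by ring⟩
    rw [hqt]
    have : 6 * (2 + t + 1) * ((2 + t) ^ 3 - 3) * ((2 + t) ^ 3 * (2 + t - 1) * ((2 + t) ^ 2 - 1)) -
        (2 + t + 1) * ((2 + t) ^ 2 + 1) * ((2 + t) ^ 3 + 1) * ((2 + t) * (2 + t) ^ 3) =
        (2 + t + 1) * (2 + t) ^ 3 * (6 * ((2 + t) ^ 3 - 3) * ((2 + t - 1) * ((2 + t) ^ 2 - 1)) -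
          ((2 + t) ^ 2 + 1) * ((2 + t) ^ 3 + 1) * (2 + t)) := by ring
    have h2 : 0 ≤ 6 * ((2 + t) ^ 3 - 3) * ((2 + t - 1) * ((2 + t) ^ 2 - 1)) -
          ((2 + t) ^ 2 + 1) * ((2 + t) ^ 3 + 1) * (2 + t) := by
      have : 6 * ((2 + t) ^ 3 - 3) * ((2 + t - 1) * ((2 + t) ^ 2 - 1)) -
          ((2 + t) ^ 2 + 1) * ((2 + t) ^ 3 + 1) * (2 + t) =
          5 * t ^ 6 + 54 * t ^ 5 + 233 * t ^ 4 + 491 * t ^ 3 + 492 * t ^ 2 + 189 * t := by ring
      rw [this]
      positivity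
    have h3 : 0 ≤ (2 + t + 1) * (2 + t) ^ 3 * (6 * ((2 + t) ^ 3 - 3) * ((2 + t - 1) * ((2 + t) ^ 2 - 1)) -
          ((2 + t) ^ 2 + 1) * ((2 + t) ^ 3 + 1) * (2 + t)) := by positivity
    linarith
  | succ m hm ih =>
    have hx : (8 : ℚ) ≤ (q : ℚ) ^ m := by
      calc (8 : ℚ) = 2 ^ 3 := by norm_num
        _ ≤ (q : ℚ) ^ 3 := by gcongr
        _ ≤ (q : ℚ) ^ m := pow_le_pow_right₀ (by linarith) hm
    have hx0 : (0 : ℚ) < (q : ℚ) ^ m := by linarith
    have hb0 : 0 ≤ bq q m := by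
      unfold bq
      apply div_nonneg _ (by positivity)
      have : (0 : ℚ) ≤ (q : ℚ) ^ m - 3 := by linarith
      positivity
    refine step q m (bq q m) (bq q (m + 1)) hb0 ?_ ?_ (fun n => ih n) n
    · unfold bq
      rw [div_le_div_iff₀ (by positivity) (by positivity), pow_succ]
      have : 6 * ((q : ℚ) + 1) * ((q : ℚ) ^ m * q - 3) * ((q : ℚ) * (q : ℚ) ^ m) -
          6 * ((q : ℚ) + 1) * ((q : ℚ) ^ m - 3) * ((q : ℚ) * ((q : ℚ) ^ m * q)) =
          6 * ((q : ℚ) + 1) * (q : ℚ) * (q : ℚ) ^ m * (3 * ((q : ℚ) - 1)) := by ring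
      have h2 : 0 ≤ 6 * ((q : ℚ) + 1) * (q : ℚ) * (q : ℚ) ^ m * (3 * ((q : ℚ) - 1)) := by positivity
      linarith
    · unfold bq
      rw [div_mul_eq_mul_div, div_mul_eq_mul_div,
        div_le_div_iff₀ (by positivity) (by positivity), pow_succ]
      have : 6 * ((q : ℚ) + 1) * ((q : ℚ) ^ m * q - 3) * ((q : ℚ) ^ m * q - q) *
            ((q : ℚ) * (q : ℚ) ^ m) -
          6 * ((q : ℚ) + 1) * ((q : ℚ) ^ m - 3) * ((q : ℚ) ^ m * q + 1) *
            ((q : ℚ) * ((q : ℚ) ^ m * q)) =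
          6 * ((q : ℚ) + 1) * ((q : ℚ) * (q : ℚ) ^ m) * (q : ℚ) *
            ((q : ℚ) ^ m * (2 * (q : ℚ) - 4) + 6) := by ring
      have h2 : 0 ≤ 6 * ((q : ℚ) + 1) * ((q : ℚ) * (q : ℚ) ^ m) * (q : ℚ) *
            ((q : ℚ) ^ m * (2 * (q : ℚ) - 4) + 6) := by
        have : (0 : ℚ) ≤ 2 * (q : ℚ) - 4 := by linarith
        positivity
      linarith

end Cfsg.Agent.Lib.Helper4.SUClass.PkUN

namespace Cfsg.Agent.Lib.Helper4.SUClass.PkUN

open Cfsg.Agent.Lib.Helper4.SUClass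

theorem UN_11 (q : ℕ) : UN q 1 1 = q + 1 := by
  rw [UN_one, NU_one]

theorem UN_21 (q : ℕ) : UN q 2 1 = q + 1 := by
  rw [UN_succ_lt q 1 1 (by norm_num), UN_11]

theorem UN_20 (q : ℕ) : UN q 2 0 = 1 := by
  rw [UN_succ_lt q 1 0 (by norm_num), UN_one, NU_zero]

theorem UN_22 (q : ℕ) : UN q 2 2 = (q + 1) ^ 2 := by
  rw [UN_succ_ge q 1 2 (by norm_num)]
  norm_num [UN_one, NU_succ, NU_zero, UN_20]
  ring

theorem UN_23 (q : ℕ) : UN q 2 3 = q ^ 3 + q ^ 2 + (q + 1) ^ 2 := by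
  rw [UN_succ_ge q 1 3 (by norm_num)]
  norm_num [UN_one, NU_succ, NU_zero, UN_21]
  ring

theorem UN_24 (q : ℕ) : UN q 2 4 = q ^ 4 + q ^ 3 + (q + 1) * (q ^ 2 + q) + (q ^ 2 + q) := by
  rw [UN_succ_ge q 1 4 (by norm_num)]
  norm_num [UN_one, NU_succ, NU_zero, UN_22]
  ring

theorem UN_33 (q : ℕ) : UN q 3 3 = q ^ 3 + 2 * q ^ 2 + 3 * q + 2 := by
  rw [UN_succ_ge q 2 3 (by norm_num)]
  norm_num [UN_23, UN_20, UN_succ_lt q 2 0 (by norm_num)]
  ring

theorem UN_30 (q : ℕ) : UN q 3 0 = 1 := by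
  rw [UN_succ_lt q 2 0 (by norm_num), UN_20]

theorem UN_31 (q : ℕ) : UN q 3 1 = q + 1 := by
  rw [UN_succ_lt q 2 1 (by norm_num), UN_21]

theorem UN_34 (q : ℕ) : UN q 3 4 = q ^ 4 + 2 * q ^ 3 + 4 * q ^ 2 + 4 * q + 1 := by
  rw [UN_succ_ge q 2 4 (by norm_num)]
  norm_num [UN_24, UN_21, UN_31]
  ring

theorem UN_44 (q : ℕ) : UN q 4 4 = q ^ 4 + 2 * q ^ 3 + 4 * q ^ 2 + 5 * q + 2 := by
  rw [UN_succ_ge q 3 4 (by norm_num)]
  norm_num [UN_34, UN_30, UN_succ_lt q 3 0 (by norm_num)]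
  ring

/-- the main bound on the number of unitary parameters -/
theorem UN_diag_le (q : ℕ) (hq : 2 ≤ q) (n : ℕ) (hn : 1 ≤ n) :
    UN q n n ≤ 6 * ((q + 1) * q ^ (n - 1)) := by
  rcases Nat.lt_or_ge n 3 with h | h
  · have : n = 1 ∨ n = 2 := by omega
    rcases this with rfl | rfl
    · rw [UN_11, Nat.sub_self, pow_zero, mul_one]; omega
    · rw [UN_22]
      norm_num
      nlinarith
  · have hQ : (2 : ℚ) ≤ (q : ℚ) := by exact_mod_cast hq
    have hQ0 : (0 : ℚ) < (q : ℚ) := by linarith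
    have h1 := UN_ge_three_le q hq n h n
    have h2 : bq q n * (q : ℚ) ^ n ≤ 6 * (((q : ℚ) + 1) * (q : ℚ) ^ (n - 1)) := by
      unfold bq
      obtain ⟨k, rfl⟩ : ∃ k, n = k + 1 := ⟨n - 1, by omega⟩
      rw [Nat.add_sub_cancel, div_mul_eq_mul_div, div_le_iff₀ (by positivity)]
      have hk : (0 : ℚ) < (q : ℚ) ^ k := by positivity
      rw [pow_succ]
      have : 6 * (((q : ℚ) + 1) * (q : ℚ) ^ k) * ((q : ℚ) * ((q : ℚ) ^ k * q)) -
          6 * ((q : ℚ) + 1) * ((q : ℚ) ^ k * q - 3) * ((q : ℚ) ^ k * q) =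
          6 * ((q : ℚ) + 1) * ((q : ℚ) ^ k * q) * 3 := by ring
      have h3 : 0 ≤ 6 * ((q : ℚ) + 1) * ((q : ℚ) ^ k * q) * 3 := by positivity
      linarith
    have h3 := h1.trans h2
    exact_mod_cast h3

theorem PLU_one (q n : ℕ) : PLU q n 1 = UN q n n := by
  rw [PLU, if_pos (one_dvd n), Nat.div_one]

theorem lcm_dvd_iff' {G : Type*} [Group G] (y z : G) (d : ℕ) :
    Nat.lcm (orderOf y) (orderOf z) ∣ d ↔ y ^ d = 1 ∧ z ^ d = 1 := by
  rw [Nat.lcm_dvd_iff, orderOf_dvd_iff_pow_eq_one, orderOf_dvd_iff_pow_eq_one]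

open scoped Classical in
theorem card_pow_eq_one_le' {T : Type*} [CommGroup T] [Fintype T] [IsCyclic T] (q d : ℕ)
    (hT : Fintype.card T = q + 1) :
    (Finset.univ.filter (fun y : T => y ^ d = 1)).card ≤ Nat.gcd d (q + 1) := by
  have hg : 0 < Nat.gcd d (q + 1) := Nat.gcd_pos_of_pos_right _ (by omega)
  refine le_trans (Finset.card_le_card ?_) (IsCyclic.card_pow_eq_one_le (α := T) hg)
  intro y hy
  rw [Finset.mem_filter] at hy ⊢
  refine ⟨hy.1, ?_⟩
  have h1 : y ^ (q + 1) = 1 := by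
    rw [← hT]; exact pow_card_eq_one
  exact pow_gcd_eq_one.mpr ⟨hy.2, h1⟩

open scoped Classical in
theorem card_pairs_le' {T : Type*} [CommGroup T] [Fintype T] [IsCyclic T] (q d : ℕ)
    (hT : Fintype.card T = q + 1) :
    (Finset.univ.filter (fun yz : T × T => yz.1 ^ d = 1 ∧ yz.2 ^ d = 1)).card ≤
      Nat.gcd d (q + 1) ^ 2 := by
  have h : (Finset.univ.filter (fun yz : T × T => yz.1 ^ d = 1 ∧ yz.2 ^ d = 1)) =
      (Finset.univ.filter (fun y : T => y ^ d = 1)) ×ˢ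
        (Finset.univ.filter (fun y : T => y ^ d = 1)) := by
    ext ⟨y, z⟩
    simp
  rw [h, Finset.card_product, sq]
  exact Nat.mul_le_mul (card_pow_eq_one_le' q d hT) (card_pow_eq_one_le' q d hT)

open scoped Classical in
/-- the sum over the pairs: the pair `(1,1)` and the others -/
theorem sum_pairs_le {T : Type*} [CommGroup T] [Fintype T] [IsCyclic T] (q n X : ℕ)
    (hT : Fintype.card T = q + 1)
    (hX : ∀ l, 2 ≤ l → l ∣ n → PLU q n l ≤ X) :
    (∑ yz : T × T, PLU q n (Nat.lcm (orderOf yz.1) (orderOf yz.2))) + X ≤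
      UN q n n + Nat.gcd n (q + 1) ^ 2 * X := by
  have hpt : ∀ yz : T × T,
      PLU q n (Nat.lcm (orderOf yz.1) (orderOf yz.2)) + (if yz = (1, 1) then X else 0) ≤
        (if yz = (1, 1) then UN q n n else 0) +
          (if yz.1 ^ n = 1 ∧ yz.2 ^ n = 1 then X else 0) := by
    rintro ⟨y, z⟩
    by_cases h1 : (y, z) = ((1 : T), (1 : T))
    · rw [Prod.mk.injEq] at h1
      obtain ⟨rfl, rfl⟩ := h1
      simp only [orderOf_one, Nat.lcm_self, one_pow, and_self, if_true, PLU_one]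
      exact le_refl _
    · rw [if_neg h1, if_neg h1, add_zero, zero_add]
      have hy : 0 < orderOf y := orderOf_pos y
      have hz : 0 < orderOf z := orderOf_pos z
      have hl0 : 0 < Nat.lcm (orderOf y) (orderOf z) := Nat.lcm_pos hy hz
      have hl1 : Nat.lcm (orderOf y) (orderOf z) ≠ 1 := by
        intro h2
        apply h1
        have h3 : orderOf y ∣ 1 := h2 ▸ Nat.dvd_lcm_left _ _
        have h4 : orderOf z ∣ 1 := h2 ▸ Nat.dvd_lcm_right _ _
        rw [Nat.dvd_one, orderOf_eq_one_iff] at h3 h4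
        rw [h3, h4]
      by_cases hln : Nat.lcm (orderOf y) (orderOf z) ∣ n
      · have h5 := hX _ (by omega) hln
        rw [if_pos ((lcm_dvd_iff' y z n).mp hln)]
        exact h5
      · rw [PLU, if_neg hln]
        exact Nat.zero_le _
  have hsum := Finset.sum_le_sum (s := Finset.univ) (fun yz _ => hpt yz)
  rw [Finset.sum_add_distrib, Finset.sum_add_distrib,
    Finset.sum_ite_eq' Finset.univ, Finset.sum_ite_eq' Finset.univ,
    if_pos (Finset.mem_univ _), if_pos (Finset.mem_univ _),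
    ← Finset.sum_filter, Finset.sum_const, smul_eq_mul] at hsum
  have h2 := card_pairs_le' (T := T) q n hT
  have h4 := Nat.mul_le_mul_right X h2
  linarith

end Cfsg.Agent.Lib.Helper4.SUClass.PkUN

namespace Cfsg.Agent.Lib.Helper4.SUClass.PkUN

open Cfsg.Agent.Lib.Helper4.SUClass

theorem PLU_eq (q n l : ℕ) (h : l ∣ n) : PLU q n l = UN q (n / l) (n / l) := by
  rw [PLU, if_pos h]

theorem PLU_le_X (q n l : ℕ) (hq : 2 ≤ q) (hl : 2 ≤ l) (hln : l ∣ n) (hn : 1 ≤ n) :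
    PLU q n l ≤ 6 * ((q + 1) * q ^ (n / 2 - 1)) := by
  rw [PLU_eq q n l hln]
  have hle : l ≤ n := Nat.le_of_dvd hn hln
  have hk1 : 1 ≤ n / l := (Nat.one_le_div_iff (by omega)).2 hle
  have hk2 : n / l ≤ n / 2 := Nat.div_le_div_left hl (by norm_num)
  refine (UN_diag_le q hq (n / l) hk1).trans ?_
  apply Nat.mul_le_mul_left
  apply Nat.mul_le_mul_left
  exact Nat.pow_le_pow_right (by omega) (by omega)

theorem finish (S U W g2 Qc : ℕ) (h1 : S + 6 * W ≤ U + g2 * (6 * W)) (h2 : U ≤ 6 * (W * Qc))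
    (h3 : 600 * g2 ≤ 226 * Qc + 600) : 100 * S ≤ 826 * (W * Qc) := by
  have h4 := Nat.mul_le_mul_right W h3
  nlinarith

theorem gcd_sq_le (n m b : ℕ) (hb : Nat.gcd n m ≤ b) : Nat.gcd n m ^ 2 ≤ b ^ 2 :=
  Nat.pow_le_pow_left hb 2

end Cfsg.Agent.Lib.Helper4.SUClass.PkUN

namespace Cfsg.Agent.Lib.Helper4.SUClass

open PkUN

theorem pairs_sum_le_u {T : Type*} [CommGroup T] [Fintype T] [IsCyclic T] (q n : ℕ) (hq : 2 ≤ q)
    (hT : Fintype.card T = q + 1) (hn : 2 ≤ n) :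
    100 * ∑ yz : T × T, PLU q n (Nat.lcm (orderOf yz.1) (orderOf yz.2)) ≤
      826 * ((q + 1) * q ^ (n - 1)) := by
  classical
  set S := ∑ yz : T × T, PLU q n (Nat.lcm (orderOf yz.1) (orderOf yz.2)) with hS
  have hgn : Nat.gcd n (q + 1) ≤ n := Nat.gcd_le_left _ (by omega)
  have hgq : Nat.gcd n (q + 1) ≤ q + 1 := Nat.gcd_le_right _ (by omega)
  have hg1 : 1 ≤ Nat.gcd n (q + 1) := Nat.gcd_pos_of_pos_left _ (by omega)
  rcases Nat.lt_or_ge n 5 with hn5 | hn5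
  · have : n = 2 ∨ n = 3 ∨ n = 4 := by omega
    rcases this with rfl | rfl | rfl
    · -- n = 2
      have hX : ∀ l, 2 ≤ l → l ∣ 2 → PLU q 2 l ≤ q + 1 := by
        intro l hl hld
        have : l = 2 := le_antisymm (Nat.le_of_dvd (by norm_num) hld) hl
        subst this
        rw [PLU_eq q 2 2 hld]
        norm_num [UN_11]
      have h1 := sum_pairs_le (T := T) q 2 (q + 1) hT hX
      rw [UN_22] at h1
      have h2 : Nat.gcd 2 (q + 1) ^ 2 ≤ 4 := by
        have := gcd_sq_le 2 (q + 1) 2 hgn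
        omega
      have h3 := Nat.mul_le_mul_right (q + 1) h2
      show 100 * S ≤ 826 * ((q + 1) * q ^ (2 - 1))
      norm_num
      nlinarith
    · -- n = 3
      have hX : ∀ l, 2 ≤ l → l ∣ 3 → PLU q 3 l ≤ q + 1 := by
        intro l hl hld
        have hle : l ≤ 3 := Nat.le_of_dvd (by norm_num) hld
        have : l = 3 := by
          interval_cases l
          · norm_num at hld
          · rfl
        subst this
        rw [PLU_eq q 3 3 hld]
        norm_num [UN_11]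
      have h1 := sum_pairs_le (T := T) q 3 (q + 1) hT hX
      rw [UN_33] at h1
      have h2 : Nat.gcd 3 (q + 1) ^ 2 ≤ 9 := by
        have := gcd_sq_le 3 (q + 1) 3 hgn
        omega
      have h3 := Nat.mul_le_mul_right (q + 1) h2
      show 100 * S ≤ 826 * ((q + 1) * q ^ (3 - 1))
      norm_num
      nlinarith [Nat.mul_le_mul hq hq, Nat.mul_le_mul (Nat.mul_le_mul hq hq) hq]
    · -- n = 4
      have hX : ∀ l, 2 ≤ l → l ∣ 4 → PLU q 4 l ≤ (q + 1) ^ 2 := by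
        intro l hl hld
        have hle : l ≤ 4 := Nat.le_of_dvd (by norm_num) hld
        interval_cases l
        · rw [PLU_eq q 4 2 hld]
          norm_num [UN_22]
        · norm_num at hld
        · rw [PLU_eq q 4 4 hld]
          norm_num [UN_11]
          nlinarith
      have h1 := sum_pairs_le (T := T) q 4 ((q + 1) ^ 2) hT hX
      rw [UN_44] at h1
      have h2 : Nat.gcd 4 (q + 1) ^ 2 ≤ 16 := by
        have := gcd_sq_le 4 (q + 1) 4 hgn
        omega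
      have h3 := Nat.mul_le_mul_right ((q + 1) ^ 2) h2
      show 100 * S ≤ 826 * ((q + 1) * q ^ (4 - 1))
      norm_num
      obtain ⟨t, rfl⟩ : ∃ t, q = 2 + t := ⟨q - 2, by omega⟩
      nlinarith [Nat.zero_le t, Nat.zero_le (t ^ 2), Nat.zero_le (t ^ 3), Nat.zero_le (t ^ 4)]
  · -- n ≥ 5
    set a := n / 2 with ha
    have ha2 : 2 ≤ a := by omega
    obtain ⟨c, hc⟩ : ∃ c, n - 1 = a - 1 + c := ⟨n - 1 - (a - 1), by omega⟩
    have hc3 : 3 ≤ c := by omega
    set W := (q + 1) * q ^ (a - 1) with hW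
    have hWQ : (q + 1) * q ^ (n - 1) = W * q ^ c := by
      rw [hc, pow_add, hW]; ring
    rw [hWQ]
    have hU : UN q n n ≤ 6 * (W * q ^ c) := by
      rw [← hWQ]; exact UN_diag_le q hq n (by omega)
    -- the special case q = 2, n = 6
    by_cases h26 : q = 2 ∧ n = 6
    · obtain ⟨rfl, rfl⟩ := h26
      have hX : ∀ l, 2 ≤ l → l ∣ 6 → PLU 2 6 l ≤ 24 := by
        intro l hl hld
        have hle : l ≤ 6 := Nat.le_of_dvd (by norm_num) hld
        interval_cases l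
        · rw [PLU_eq 2 6 2 hld]; norm_num [UN_33]
        · rw [PLU_eq 2 6 3 hld]; norm_num [UN_22]
        · norm_num at hld
        · norm_num at hld
        · rw [PLU_eq 2 6 6 hld]; norm_num [UN_11]
      have h1 := sum_pairs_le (T := T) 2 6 24 hT hX
      have h2 : Nat.gcd 6 (2 + 1) ^ 2 = 9 := by norm_num
      rw [h2] at h1
      have hac : a = 3 := by rw [ha]
      have hcc : c = 3 := by omega
      have hWv : W = 12 := by rw [hW, hac]; norm_num
      rw [hWv, hcc] at hU ⊢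
      norm_num at hU ⊢
      omega
    · have hX : ∀ l, 2 ≤ l → l ∣ n → PLU q n l ≤ 6 * W := by
        intro l hl hld
        exact PLU_le_X q n l hq hl hld (by omega)
      have h1 := sum_pairs_le (T := T) q n (6 * W) hT hX
      refine finish S (UN q n n) W (Nat.gcd n (q + 1) ^ 2) (q ^ c) h1 hU ?_
      -- the key numerical inequality
      have hq3 : q ^ 3 ≤ q ^ c := Nat.pow_le_pow_right (by omega) hc3
      rcases Nat.lt_or_ge q 4 with hq4 | hq4
      · have : q = 2 ∨ q = 3 := by omega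
        rcases this with rfl | rfl
        · -- q = 2 : g ∣ 3
          have hg3 : Nat.gcd n (2 + 1) ∣ 3 := Nat.gcd_dvd_right n 3
          have : Nat.gcd n (2 + 1) = 1 ∨ Nat.gcd n (2 + 1) = 3 := by
            have := (Nat.dvd_prime Nat.prime_three).1 hg3
            exact this
          rcases this with hg | hg
          · rw [hg]; norm_num
          · have h3n : 3 ∣ n := by
              have := Nat.gcd_dvd_left n (2 + 1)
              rwa [hg] at this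
            have hn9 : 9 ≤ n := by
              obtain ⟨k, rfl⟩ := h3n
              have : k ≠ 2 := by
                intro hk
                apply h26
                exact ⟨rfl, by omega⟩
              omega
            have hc5 : 5 ≤ c := by omega
            have : 2 ^ 5 ≤ 2 ^ c := Nat.pow_le_pow_right (by norm_num) hc5
            rw [hg]
            norm_num at this ⊢
            omega
        · -- q = 3 : g ∣ 4
          have hg4 : Nat.gcd n (3 + 1) ∣ 4 := Nat.gcd_dvd_right n 4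
          have hle : Nat.gcd n (3 + 1) ≤ 4 := Nat.le_of_dvd (by norm_num) hg4
          by_cases hg : Nat.gcd n (3 + 1) = 4
          · have h4n : 4 ∣ n := by
              have := Nat.gcd_dvd_left n (3 + 1)
              rwa [hg] at this
            have hn8 : 8 ≤ n := by
              obtain ⟨k, rfl⟩ := h4n
              omega
            have hc4 : 4 ≤ c := by omega
            have : 3 ^ 4 ≤ 3 ^ c := Nat.pow_le_pow_right (by norm_num) hc4
            rw [hg]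
            norm_num at this ⊢
            omega
          · have hle2 : Nat.gcd n (3 + 1) ≤ 2 := by
              have h3 : Nat.gcd n (3 + 1) ≠ 3 := by
                intro h3
                rw [h3] at hg4
                norm_num at hg4
              omega
            have := gcd_sq_le n (3 + 1) 2 hle2
            norm_num at hq3 this ⊢
            omega
      · -- q ≥ 4
        have h2 := gcd_sq_le n (q + 1) (q + 1) hgq
        have h3 : 600 * (q + 1) ^ 2 ≤ 226 * q ^ 3 + 600 := by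
          obtain ⟨t, rfl⟩ : ∃ t, q = 4 + t := ⟨q - 4, by omega⟩
          nlinarith [Nat.zero_le t, Nat.zero_le (t ^ 2), Nat.zero_le (t ^ 3)]
        calc 600 * Nat.gcd n (q + 1) ^ 2 ≤ 600 * (q + 1) ^ 2 := Nat.mul_le_mul_left _ h2
          _ ≤ 226 * q ^ 3 + 600 := h3
          _ ≤ 226 * q ^ c + 600 := by omega

end Cfsg.Agent.Lib.Helper4.SUClass

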