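import Mathlib

set_option autoImplicit false

/-!
Multisets of size `r` in `ZMod r` with sum zero are symmetric about a point, for `r = 3, 5`.
-/

namespace Cfsg.Agent.Lib.Helper6.SubF

theorem comb5_fin : ∀ m1 m2 m3 m4 : Fin 6, ∀ m0 : Fin 6,
    m0.val + m1.val + m2.val + m3.val + m4.val = 5 →
    (m1.val + 2 * m2.val + 3 * m3.val + 4 * m4.val) % 5 = 0 →
    (m1 = m4 ∧ m2 = m3) ∨ (m2 = m0 ∧ m3 = m4) ∨ (m3 = m1 ∧ m4 = m0) ∨ (m4 = m2 ∧ m0 = m1) ∨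
      (m0 = m3 ∧ m1 = m2) := by
  decide

theorem comb5 (m0 m1 m2 m3 m4 : ℕ) (hs : m0 + m1 + m2 + m3 + m4 = 5)
    (hw : (m1 + 2 * m2 + 3 * m3 + 4 * m4) % 5 = 0) :
    (m1 = m4 ∧ m2 = m3) ∨ (m2 = m0 ∧ m3 = m4) ∨ (m3 = m1 ∧ m4 = m0) ∨ (m4 = m2 ∧ m0 = m1) ∨
      (m0 = m3 ∧ m1 = m2) := by
  have h := comb5_fin ⟨m1, by omega⟩ ⟨m2, by omega⟩ ⟨m3, by omega⟩ ⟨m4, by omega⟩ ⟨m0, by omega⟩
    hs hw
  simpa [Fin.ext_iff] using h

theorem comb3 (m0 m1 m2 : ℕ) (hs : m0 + m1 + m2 = 3)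
    (hw : (m1 + 2 * m2) % 3 = 0) :
    (m1 = m2) ∨ (m2 = m0) ∨ (m0 = m1) := by
  omega

theorem symm3 (m : ZMod 3 → ℕ) (hs : ∑ u, m u = 3) (hw : ∑ u, (m u : ZMod 3) * u = 0) :
    ∃ a₀ : ZMod 3, ∀ u, m (a₀ + u) = m (a₀ - u) := by
  have hs' : m 0 + m 1 + m 2 = 3 := (Fin.sum_univ_three m).symm.trans hs
  have hw' : (m 1 + 2 * m 2) % 3 = 0 := by
    have h1 : ∑ u, (m u : ZMod 3) * u = (m 0 : ZMod 3) * 0 + (m 1 : ZMod 3) * 1 + (m 2 : ZMod 3) * 2 :=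
      Fin.sum_univ_three (fun u : ZMod 3 => (m u : ZMod 3) * u)
    rw [h1] at hw
    have h2 : ((m 1 + 2 * m 2 : ℕ) : ZMod 3) = 0 := by
      rw [← hw]
      push_cast
      ring
    exact Nat.mod_eq_zero_of_dvd ((ZMod.natCast_eq_zero_iff _ 3).mp h2)
  rcases comb3 _ _ _ hs' hw' with h | h | h
  · refine ⟨0, ?_⟩
    have : ∀ u : ZMod 3, u = 0 ∨ u = 1 ∨ u = 2 := by decide
    intro u
    rcases this u with rfl | rfl | rfl
    · rfl
    · have e1 : (0 : ZMod 3) + 1 = 1 := by decide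
      have e2 : (0 : ZMod 3) - 1 = 2 := by decide
      rw [e1, e2, h]
    · have e1 : (0 : ZMod 3) + 2 = 2 := by decide
      have e2 : (0 : ZMod 3) - 2 = 1 := by decide
      rw [e1, e2, h]
  · refine ⟨1, ?_⟩
    have : ∀ u : ZMod 3, u = 0 ∨ u = 1 ∨ u = 2 := by decide
    intro u
    rcases this u with rfl | rfl | rfl
    · rfl
    · have e1 : (1 : ZMod 3) + 1 = 2 := by decide
      have e2 : (1 : ZMod 3) - 1 = 0 := by decide
      rw [e1, e2, h]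
    · have e1 : (1 : ZMod 3) + 2 = 0 := by decide
      have e2 : (1 : ZMod 3) - 2 = 2 := by decide
      rw [e1, e2, h]
  · refine ⟨2, ?_⟩
    have : ∀ u : ZMod 3, u = 0 ∨ u = 1 ∨ u = 2 := by decide
    intro u
    rcases this u with rfl | rfl | rfl
    · rfl
    · have e1 : (2 : ZMod 3) + 1 = 0 := by decide
      have e2 : (2 : ZMod 3) - 1 = 1 := by decide
      rw [e1, e2, h]
    · have e1 : (2 : ZMod 3) + 2 = 1 := by decide
      have e2 : (2 : ZMod 3) - 2 = 0 := by decide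
      rw [e1, e2, h]

theorem symm5_aux (m : ZMod 5 → ℕ) (a₀ : ZMod 5)
    (h1 : m (a₀ + 1) = m (a₀ - 1)) (h2 : m (a₀ + 2) = m (a₀ - 2)) :
    ∀ u, m (a₀ + u) = m (a₀ - u) := by
  have : ∀ u : ZMod 5, u = 0 ∨ u = 1 ∨ u = 2 ∨ u = -2 ∨ u = -1 := by decide
  intro u
  rcases this u with rfl | rfl | rfl | rfl | rfl
  · rw [add_zero, sub_zero]
  · exact h1
  · exact h2
  · rw [sub_neg_eq_add, ← sub_eq_add_neg]
    exact h2.symm
  · rw [sub_neg_eq_add, ← sub_eq_add_neg]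
    exact h1.symm

theorem symm5 (m : ZMod 5 → ℕ) (hs : ∑ u, m u = 5) (hw : ∑ u, (m u : ZMod 5) * u = 0) :
    ∃ a₀ : ZMod 5, ∀ u, m (a₀ + u) = m (a₀ - u) := by
  have hs' : m 0 + m 1 + m 2 + m 3 + m 4 = 5 := (Fin.sum_univ_five m).symm.trans hs
  have hw' : (m 1 + 2 * m 2 + 3 * m 3 + 4 * m 4) % 5 = 0 := by
    have h1 : ∑ u, (m u : ZMod 5) * u = (m 0 : ZMod 5) * 0 + (m 1 : ZMod 5) * 1 +
        (m 2 : ZMod 5) * 2 + (m 3 : ZMod 5) * 3 + (m 4 : ZMod 5) * 4 :=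
      Fin.sum_univ_five (fun u : ZMod 5 => (m u : ZMod 5) * u)
    rw [h1] at hw
    have h2 : ((m 1 + 2 * m 2 + 3 * m 3 + 4 * m 4 : ℕ) : ZMod 5) = 0 := by
      rw [← hw]
      push_cast
      ring
    exact Nat.mod_eq_zero_of_dvd ((ZMod.natCast_eq_zero_iff _ 5).mp h2)
  rcases comb5 _ _ _ _ _ hs' hw' with ⟨h1, h2⟩ | ⟨h1, h2⟩ | ⟨h1, h2⟩ | ⟨h1, h2⟩ | ⟨h1, h2⟩
  · refine ⟨0, symm5_aux m 0 ?_ ?_⟩
    · have e1 : (0 : ZMod 5) + 1 = 1 := by decide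
      have e2 : (0 : ZMod 5) - 1 = 4 := by decide
      rw [e1, e2, h1]
    · have e1 : (0 : ZMod 5) + 2 = 2 := by decide
      have e2 : (0 : ZMod 5) - 2 = 3 := by decide
      rw [e1, e2, h2]
  · refine ⟨1, symm5_aux m 1 ?_ ?_⟩
    · have e1 : (1 : ZMod 5) + 1 = 2 := by decide
      have e2 : (1 : ZMod 5) - 1 = 0 := by decide
      rw [e1, e2, h1]
    · have e1 : (1 : ZMod 5) + 2 = 3 := by decide
      have e2 : (1 : ZMod 5) - 2 = 4 := by decide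
      rw [e1, e2, h2]
  · refine ⟨2, symm5_aux m 2 ?_ ?_⟩
    · have e1 : (2 : ZMod 5) + 1 = 3 := by decide
      have e2 : (2 : ZMod 5) - 1 = 1 := by decide
      rw [e1, e2, h1]
    · have e1 : (2 : ZMod 5) + 2 = 4 := by decide
      have e2 : (2 : ZMod 5) - 2 = 0 := by decide
      rw [e1, e2, h2]
  · refine ⟨3, symm5_aux m 3 ?_ ?_⟩
    · have e1 : (3 : ZMod 5) + 1 = 4 := by decide
      have e2 : (3 : ZMod 5) - 1 = 2 := by decide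
      rw [e1, e2, h1]
    · have e1 : (3 : ZMod 5) + 2 = 0 := by decide
      have e2 : (3 : ZMod 5) - 2 = 1 := by decide
      rw [e1, e2, h2]
  · refine ⟨4, symm5_aux m 4 ?_ ?_⟩
    · have e1 : (4 : ZMod 5) + 1 = 0 := by decide
      have e2 : (4 : ZMod 5) - 1 = 3 := by decide
      rw [e1, e2, h1]
    · have e1 : (4 : ZMod 5) + 2 = 1 := by decide
      have e2 : (4 : ZMod 5) - 2 = 2 := by decide
      rw [e1, e2, h2]

/-- The symmetric-spectrum lemma for `r = 3, 5`. -/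
theorem symm_r (r : ℕ) (hr : r = 3 ∨ r = 5) (m : ZMod r → ℕ) [Fintype (ZMod r)]
    (hs : ∑ u, m u = r) (hw : ∑ u, (m u : ZMod r) * u = 0) :
    ∃ a₀ : ZMod r, ∀ u, m (a₀ + u) = m (a₀ - u) := by
  rcases hr with rfl | rfl
  · apply symm3 m
    · convert hs
    · convert hw
  · apply symm5 m
    · convert hs
    · convert hw

end Cfsg.Agent.Lib.Helper6.SubF
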