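import Mathlib

set_option autoImplicit false

/-! # S1632: theta series of an even unimodular lattice of rank 24 — common definitions -/

namespace Cfsg.Agent.Lib.Helper6.Theta24

open Matrix Complex Real

/-- the real quadratic form `xᵀ A x` -/
noncomputable def qf {n : ℕ} (A : Matrix (Fin n) (Fin n) ℝ) (x : Fin n → ℝ) : ℝ := x ⬝ᵥ (A *ᵥ x)

/-- positive definiteness over real vectors (plain statement) -/
def PD {n : ℕ} (A : Matrix (Fin n) (Fin n) ℝ) : Prop := ∀ x : Fin n → ℝ, x ≠ 0 → 0 < qf A x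

/-- an integer vector as a real vector -/
def rv {n : ℕ} (x : Fin n → ℤ) : Fin n → ℝ := fun i => (x i : ℝ)

/-- an integer matrix as a real matrix -/
def rm {n : ℕ} (B : Matrix (Fin n) (Fin n) ℤ) : Matrix (Fin n) (Fin n) ℝ := B.map (Int.cast : ℤ → ℝ)

/-- the integral quadratic form `xᵀ B x` -/
def qz {n : ℕ} (B : Matrix (Fin n) (Fin n) ℤ) (x : Fin n → ℤ) : ℤ := x ⬝ᵥ (B *ᵥ x)

/-- the hypotheses of S1632 on the Gram matrix (any rank) -/
structure Hyp {n : ℕ} (B : Matrix (Fin n) (Fin n) ℤ) : Prop where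
  symm : B.IsSymm
  pos : ∀ x : Fin n → ℤ, x ≠ 0 → 0 < qz B x
  even : ∀ x : Fin n → ℤ, (2 : ℤ) ∣ qz B x
  det : B.det = 1

/-- the theta series as a function on the upper half plane -/
noncomputable def theta {n : ℕ} (B : Matrix (Fin n) (Fin n) ℤ) (τ : UpperHalfPlane) : ℂ :=
  ∑' x : Fin n → ℤ, cexp (π * I * (τ : ℂ) * ((qz B x : ℤ) : ℂ))

/-- number of vectors of norm `2 m` -/
noncomputable def cnt {n : ℕ} (B : Matrix (Fin n) (Fin n) ℤ) (m : ℕ) : ℕ :=
  {x : Fin n → ℤ | qz B x = 2 * (m : ℤ)}.ncard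

/-- top-left entry (pivot) -/
def piv {n : ℕ} (A : Matrix (Fin (n + 1)) (Fin (n + 1)) ℝ) : ℝ := A 0 0

/-- first row without the pivot -/
def brow {n : ℕ} (A : Matrix (Fin (n + 1)) (Fin (n + 1)) ℝ) : Fin n → ℝ := fun j => A 0 j.succ

/-- Schur complement of the pivot (for symmetric `A`) -/
noncomputable def schur {n : ℕ} (A : Matrix (Fin (n + 1)) (Fin (n + 1)) ℝ) :
    Matrix (Fin n) (Fin n) ℝ :=
  fun j k => A j.succ k.succ - A 0 j.succ * A 0 k.succ / A 0 0

/-- lower right block -/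
def lower {n : ℕ} (A : Matrix (Fin (n + 1)) (Fin (n + 1)) ℝ) : Matrix (Fin n) (Fin n) ℝ :=
  fun j k => A j.succ k.succ

end Cfsg.Agent.Lib.Helper6.Theta24
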