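import Mathlib
import Cfsg.Agent.Lib.Helper5.FlvDefs

/-!
# S3816, package C2i : the chief factor `M / Z₁` is a `q`-group

If `s ≠ q` then `Z₁` has no element of order `s`, the elements `x ∈ M` with `x ^ s = 1` commute
pairwise and generate a nontrivial subgroup of exponent `s`, normal in `HP`, which must contain `z`.
-/

set_option autoImplicit false

namespace Cfsg.Agent.Lib.Helper6.FlvC2i

open scoped Pointwise commutatorElement
open Cfsg.Agent.Lib.Helper5.FlvDefs

universe u

section
variable {G : Type u} [Group G]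

/-- an element commuting with `w` normalises `zpowers w` -/
theorem mem_normalizer_zpowers {x w : G} (hxw : x * w = w * x) :
    x ∈ Subgroup.normalizer (Subgroup.zpowers w : Set G) := by
  apply Subgroup.centralizer_le_normalizer
  rw [Subgroup.mem_centralizer_iff]
  intro y hy
  obtain ⟨k, rfl⟩ := Subgroup.mem_zpowers_iff.mp hy
  exact (show Commute w x from hxw.symm).zpow_left k

/-- a subgroup normalising a set of generators up to the closure normalises the closure -/
theorem le_normalizer_closure' {K : Subgroup G} {S : Set G}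
    (h : ∀ b ∈ K, ∀ s ∈ S, b * s * b⁻¹ ∈ S) :
    K ≤ Subgroup.normalizer ((Subgroup.closure S : Subgroup G) : Set G) := by
  have key : ∀ b ∈ K, ∀ x ∈ Subgroup.closure S, b * x * b⁻¹ ∈ Subgroup.closure S := by
    intro b hb x hx
    induction hx using Subgroup.closure_induction with
    | mem y hy => exact Subgroup.subset_closure (h b hb y hy)
    | one => simp
    | mul y y' _ _ ihy ihy' =>
      have : b * (y * y') * b⁻¹ = (b * y * b⁻¹) * (b * y' * b⁻¹) := by group
      rw [this]
      exact mul_mem ihy ihy'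
    | inv y _ ihy =>
      have : b * y⁻¹ * b⁻¹ = (b * y * b⁻¹)⁻¹ := by group
      rw [this]
      exact inv_mem ihy
  intro b hb
  rw [Subgroup.mem_normalizer_iff]
  intro x
  constructor
  · exact key b hb x
  · intro hx
    have := key b⁻¹ (inv_mem hb) _ hx
    have h2 : b⁻¹ * (b * x * b⁻¹) * b⁻¹⁻¹ = x := by group
    rwa [h2] at this

end

section
variable {G : Type u} [Group G] [Finite G] {p : ℕ} {P H : Subgroup G} {z : G} {q : ℕ}
  {M : Subgroup G}

/-- PKG-C2i = case (i): the chief factor is a `q`-group -/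
theorem C2i (h : MinCE p P H) (hz : CData P H z q) {s : ℕ} (hM : CChief P H (Z1 P H) M s) :
    s = q := by
  by_contra hsq
  have hsp := hM.s_prime
  have hqp := hz.hq
  -- `Z₁` is central in `H` and centralised by `P`
  have hZ1H : ∀ w ∈ Z1 P H, w ∈ H := fun w hw => hw.1.1
  have hZ1c : ∀ w ∈ Z1 P H, ∀ x ∈ H, x * w = w * x := fun w hw x hx =>
    Subgroup.mem_centralizer_iff.mp hw.1.2 x hx
  have hZ1P : ∀ w ∈ Z1 P H, ∀ x ∈ P, x * w = w * x := fun w hw x hx =>
    Subgroup.mem_centralizer_iff.mp hw.2 x hx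
  -- (A) `Z₁` has no element of order `s`
  have hA : ∀ w ∈ Z1 P H, w ^ s = 1 → w = 1 := by
    intro w hw hws
    by_contra hw1
    have hnorm : NormBy P H (Subgroup.zpowers w) :=
      ⟨fun x hx => mem_normalizer_zpowers (hZ1c w hw x hx),
        fun x hx => mem_normalizer_zpowers (hZ1P w hw x hx)⟩
    have hzw : z ∈ Subgroup.zpowers w :=
      hz.zmin _ (Subgroup.zpowers_le.mpr (hZ1H w hw)) (Subgroup.zpowers_ne_bot.mpr hw1) hnorm
    obtain ⟨k, hk⟩ := Subgroup.mem_zpowers_iff.mp hzw
    have hzs : z ^ s = 1 := by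
      rw [← hk, ← zpow_natCast, ← zpow_mul, mul_comm, zpow_mul, zpow_natCast, hws, one_zpow]
    have hdvd : q ∣ s := by
      rw [← hz.zord]
      exact orderOf_dvd_of_pow_eq_one hzs
    exact hsq ((Nat.prime_dvd_prime_iff_eq hqp hsp).mp hdvd).symm
  -- (B) a nontrivial element of `M` of order `s`
  have hB : ∃ x ∈ M, x ^ s = 1 ∧ x ≠ 1 := by
    have hex : ∃ m ∈ M, m ∉ Z1 P H := by
      by_contra hcon
      push Not at hcon
      exact hM.ne (le_antisymm hcon hM.ZM)
    obtain ⟨m, hmM, hmZ⟩ := hex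
    have hms : m ^ s ∈ Z1 P H := hM.exp m hmM
    set o := orderOf (m ^ s) with ho
    have ho0 : 0 < o := orderOf_pos _
    by_cases hso : s ∣ o
    · -- an element of order `s` in `Z₁`
      exfalso
      obtain ⟨c, hc⟩ := hso
      have h1 : ((m ^ s) ^ c) ^ s = 1 := by
        rw [← pow_mul, mul_comm, ← hc, ho, pow_orderOf_eq_one]
      have h2 := hA _ (pow_mem hms c) h1
      have h3 : o ∣ c := orderOf_dvd_of_pow_eq_one h2
      have hc0 : 0 < c := by
        rcases Nat.eq_zero_or_pos c with h0 | h0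
        · rw [h0, mul_zero] at hc
          omega
        · exact h0
      have h4 := Nat.le_of_dvd hc0 h3
      have h5 := hsp.two_le
      nlinarith
    · refine ⟨m ^ o, pow_mem hmM o, ?_, ?_⟩
      · rw [← pow_mul, mul_comm, pow_mul, ho, pow_orderOf_eq_one]
      · intro hmo
        -- then `m` is a power of `m ^ s`
        have hcop : Nat.Coprime s o := (Nat.Prime.coprime_iff_not_dvd hsp).mpr hso
        have hcop' : Nat.Coprime s (orderOf m) :=
          Nat.Coprime.coprime_dvd_right (orderOf_dvd_of_pow_eq_one hmo) hcop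
        obtain ⟨k, hk⟩ := exists_pow_eq_self_of_coprime hcop'
        apply hmZ
        rw [← hk]
        exact pow_mem hms k
  obtain ⟨x₀, hx₀M, hx₀s, hx₀1⟩ := hB
  -- (C) the elements of `M` of order dividing `s` commute pairwise
  have hC : ∀ x ∈ M, x ^ s = 1 → ∀ y ∈ M, y ^ s = 1 → x * y = y * x := by
    intro x hxM hxs y hyM _
    -- `y x y⁻¹ = x w` with `w ∈ Z₁`
    set w : G := x⁻¹ * (y * x * y⁻¹) with hw
    have hwZ : w ∈ Z1 P H := by
      apply hM.comm_le
      have h1 : w = ⁅x⁻¹, y⁆ := by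
        rw [hw, commutatorElement_def, inv_inv]
        group
      rw [h1]
      exact Subgroup.commutator_mem_commutator (inv_mem hxM) hyM
    have hwx : x * w = w * x := hZ1c w hwZ x (hM.MH hxM)
    have h2 : y * x * y⁻¹ = x * w := by
      rw [hw, mul_inv_cancel_left]
    have h3 : (y * x * y⁻¹) ^ s = 1 := by
      rw [conj_pow, hxs, mul_one, mul_inv_cancel]
    rw [h2, (show Commute x w from hwx).mul_pow, hxs, one_mul] at h3
    have h4 := hA w hwZ h3
    rw [h4, mul_one] at h2
    exact (mul_inv_eq_iff_eq_mul.mp h2).symm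
  -- (D) the subgroup generated by them
  set S : Set G := {x | x ∈ M ∧ x ^ s = 1} with hS
  set T : Subgroup G := Subgroup.closure S with hT
  have hTM : T ≤ M := by
    rw [hT, Subgroup.closure_le]
    intro x hx
    exact hx.1
  have hconj : ∀ K : Subgroup G, K ≤ Subgroup.normalizer (M : Set G) →
      ∀ b ∈ K, ∀ x ∈ S, b * x * b⁻¹ ∈ S := by
    intro K hK b hb x hx
    refine ⟨(Subgroup.mem_normalizer_iff.mp (hK hb) x).mp hx.1, ?_⟩
    rw [conj_pow, hx.2, mul_one, mul_inv_cancel]
  have hTn : NormBy P H T :=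
    ⟨le_normalizer_closure' (hconj H hM.nM.1), le_normalizer_closure' (hconj P hM.nM.2)⟩
  have hT1 : T ≠ ⊥ := by
    intro hbot
    have : x₀ ∈ T := Subgroup.subset_closure ⟨hx₀M, hx₀s⟩
    rw [hbot, Subgroup.mem_bot] at this
    exact hx₀1 this
  have hzT : z ∈ T := hz.zmin T (hTM.trans hM.MH) hT1 hTn
  -- (E) `T` has exponent `s`
  have hcomm : ∀ a ∈ T, ∀ x ∈ S, a * x = x * a := by
    intro a ha x hx
    induction ha using Subgroup.closure_induction with
    | mem y hy => exact hC y hy.1 hy.2 x hx.1 hx.2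
    | one => simp
    | mul y y' _ _ ihy ihy' =>
      rw [mul_assoc, ihy', ← mul_assoc, ihy, mul_assoc]
    | inv y _ ihy =>
      rw [inv_mul_eq_iff_eq_mul, ← mul_assoc, ihy, mul_assoc, mul_inv_cancel, mul_one]
  have hcommT : ∀ a ∈ T, ∀ b ∈ T, a * b = b * a := by
    intro a ha b hb
    induction hb using Subgroup.closure_induction with
    | mem y hy => exact hcomm a ha y hy
    | one => simp
    | mul y y' _ _ ihy ihy' =>
      rw [← mul_assoc, ihy, mul_assoc, ihy', ← mul_assoc]
    | inv y _ ihy =>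
      rw [eq_inv_mul_iff_mul_eq, ← mul_assoc, ← ihy, mul_assoc, mul_inv_cancel, mul_one]
  have hexpT : ∀ a ∈ T, a ^ s = 1 := by
    intro a ha
    induction ha using Subgroup.closure_induction with
    | mem y hy => exact hy.2
    | one => simp
    | mul y y' hy hy' ihy ihy' =>
      rw [(show Commute y y' from hcommT y hy y' hy').mul_pow, ihy, ihy', one_mul]
    | inv y _ ihy =>
      rw [inv_pow, ihy, inv_one]
  have hdvd : q ∣ s := by
    rw [← hz.zord]
    exact orderOf_dvd_of_pow_eq_one (hexpT z hzT)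
  exact hsq ((Nat.prime_dvd_prime_iff_eq hqp hsp).mp hdvd).symm

end

end Cfsg.Agent.Lib.Helper6.FlvC2i
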