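import Mathlib
import Cfsg.Agent.Lib.Helper5.SingerModel

/-!
# S3452, package PGLA3 (helper6): elements of orders `q - 1`, `q + 1`, `p` in `PGL₂(F)`

`diag(ζ, 1)` with `ζ` a generator of `Fˣ`, a Singer cycle (matrix of the multiplication by a generator
of `Kˣ`, `K` the quadratic extension), and the transvection `!![1, 1; 0, 1]`.
-/

set_option autoImplicit false

namespace Cfsg.Agent.Lib.S3452

open Matrix

section pgla3
variable {F : Type*} [Field F]

/-- the `n`-th power of the class of `M` in `PGL₂(F)` is trivial iff `M ^ n` is a scalar matrix. -/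
theorem pgla3_pow_eq_one_iff (M : GL (Fin 2) F) (n : ℕ) :
    ((M : GL (Fin 2) F ⧸ Subgroup.center (GL (Fin 2) F))) ^ n = 1 ↔
      ∃ c : F, ((M ^ n : GL (Fin 2) F) : Matrix (Fin 2) (Fin 2) F) = Matrix.scalar (Fin 2) c := by
  rw [← QuotientGroup.mk_pow, QuotientGroup.eq_one_iff,
    Matrix.GeneralLinearGroup.mem_center_iff_val_mem_range_scalar]
  constructor
  · rintro ⟨c, hc⟩
    exact ⟨c, hc.symm⟩
  · rintro ⟨c, hc⟩
    exact ⟨c, hc.symm⟩

/-- order of an element from the characterisation of the exponents killing it. -/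
theorem pgla3_orderOf_eq {G : Type*} [Group G] (x : G) (N : ℕ) (h : ∀ n : ℕ, x ^ n = 1 ↔ N ∣ n) :
    orderOf x = N := by
  apply Nat.dvd_antisymm
  · exact orderOf_dvd_of_pow_eq_one ((h N).mpr dvd_rfl)
  · exact (h (orderOf x)).mp (pow_orderOf_eq_one x)

/-- the diagonal torus `u ↦ diag(u, 1)`. -/
def pgla3_diag : Fˣ →* GL (Fin 2) F where
  toFun u := ⟨!![(u : F), 0; 0, 1], !![((u⁻¹ : Fˣ) : F), 0; 0, 1], by
      rw [Matrix.mul_fin_two, Matrix.one_fin_two]; simp, by
      rw [Matrix.mul_fin_two, Matrix.one_fin_two]; simp⟩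
  map_one' := by
    apply Units.ext
    show !![((1 : Fˣ) : F), 0; 0, 1] = (1 : Matrix (Fin 2) (Fin 2) F)
    rw [Units.val_one, Matrix.one_fin_two]
  map_mul' u v := by
    apply Units.ext
    show !![((u * v : Fˣ) : F), 0; 0, 1] = !![(u : F), 0; 0, 1] * !![(v : F), 0; 0, 1]
    rw [Matrix.mul_fin_two]
    simp

theorem pgla3_diag_val (u : Fˣ) :
    ((pgla3_diag u : GL (Fin 2) F) : Matrix (Fin 2) (Fin 2) F) = !![(u : F), 0; 0, 1] := rfl

/-- the transvection group `n ↦ !![1, n; 0, 1]`. -/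
def pgla3_trans : Multiplicative F →* GL (Fin 2) F where
  toFun a := ⟨!![1, Multiplicative.toAdd a; 0, 1], !![1, -Multiplicative.toAdd a; 0, 1], by
      rw [Matrix.mul_fin_two, Matrix.one_fin_two]; simp, by
      rw [Matrix.mul_fin_two, Matrix.one_fin_two]; simp⟩
  map_one' := by
    apply Units.ext
    show !![(1 : F), Multiplicative.toAdd (1 : Multiplicative F); 0, 1] = (1 : Matrix (Fin 2) (Fin 2) F)
    rw [toAdd_one, Matrix.one_fin_two]
  map_mul' a b := by
    apply Units.ext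
    show !![(1 : F), Multiplicative.toAdd (a * b); 0, 1] =
      !![(1 : F), Multiplicative.toAdd a; 0, 1] * !![(1 : F), Multiplicative.toAdd b; 0, 1]
    rw [Matrix.mul_fin_two, toAdd_mul]
    simp [add_comm]

theorem pgla3_trans_val (a : Multiplicative F) :
    ((pgla3_trans a : GL (Fin 2) F) : Matrix (Fin 2) (Fin 2) F) =
      !![1, Multiplicative.toAdd a; 0, 1] := rfl

end pgla3

section pgl
variable {F : Type*} [Field F] [Fintype F]

theorem pgla3_exists_sub_one :
    ∃ x : GL (Fin 2) F ⧸ Subgroup.center (GL (Fin 2) F), orderOf x = Fintype.card F - 1 := by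
  classical
  obtain ⟨ζ, hζ⟩ := IsCyclic.exists_generator (α := Fˣ)
  have hζo : orderOf ζ = Fintype.card F - 1 := by
    rw [orderOf_eq_card_of_forall_mem_zpowers hζ, Nat.card_eq_fintype_card, Fintype.card_units]
  refine ⟨((pgla3_diag ζ : GL (Fin 2) F) : GL (Fin 2) F ⧸ Subgroup.center (GL (Fin 2) F)), ?_⟩
  apply pgla3_orderOf_eq
  intro n
  rw [pgla3_pow_eq_one_iff, ← map_pow, pgla3_diag_val, ← hζo, orderOf_dvd_iff_pow_eq_one]
  constructor
  · rintro ⟨c, hc⟩
    have h00 := congrFun (congrFun hc 0) 0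
    have h11 := congrFun (congrFun hc 1) 1
    simp at h00 h11
    apply Units.ext
    rw [Units.val_pow_eq_pow_val, Units.val_one, h00, ← h11]
  · intro h
    refine ⟨1, ?_⟩
    rw [h, Units.val_one, map_one, Matrix.one_fin_two]

omit [Fintype F] in
theorem pgla3_exists_char (p : ℕ) [CharP F p] :
    ∃ x : GL (Fin 2) F ⧸ Subgroup.center (GL (Fin 2) F), orderOf x = p := by
  classical
  refine ⟨((pgla3_trans (Multiplicative.ofAdd (1 : F)) : GL (Fin 2) F) :
    GL (Fin 2) F ⧸ Subgroup.center (GL (Fin 2) F)), ?_⟩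
  apply pgla3_orderOf_eq
  intro n
  rw [pgla3_pow_eq_one_iff, ← map_pow, pgla3_trans_val, ← ofAdd_nsmul, toAdd_ofAdd, nsmul_one,
    ← CharP.cast_eq_zero_iff F p n]
  constructor
  · rintro ⟨c, hc⟩
    have h01 := congrFun (congrFun hc 0) 1
    simp at h01
    exact h01
  · intro h
    refine ⟨1, ?_⟩
    rw [h, map_one, Matrix.one_fin_two]

theorem pgla3_exists_add_one (p : ℕ) [Fact p.Prime] [CharP F p] :
    ∃ x : GL (Fin 2) F ⧸ Subgroup.center (GL (Fin 2) F), orderOf x = Fintype.card F + 1 := by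
  classical
  have hq : 2 ≤ Fintype.card F := Fintype.one_lt_card
  let K := FiniteField.Extension F p 2
  have hfin : Module.finrank F K = 2 := FiniteField.finrank_extension F p 2
  have hcard : Nat.card K = Fintype.card F ^ 2 := by
    rw [FiniteField.natCard_extension F p 2, Nat.card_eq_fintype_card]
  let b : Module.Basis (Fin 2) F K := Module.finBasisOfFinrankEq F K hfin
  let f : K →* Matrix (Fin 2) (Fin 2) F := (Algebra.leftMulMatrix b).toRingHom.toMonoidHom
  have hf : Function.Injective f := Algebra.leftMulMatrix_injective b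
  have hfalg : ∀ c : F, f (algebraMap F K c) = Matrix.scalar (Fin 2) c := by
    intro c
    show Algebra.leftMulMatrix b (algebraMap F K c) = _
    rw [AlgHom.commutes]
    rfl
  obtain ⟨ζ, hζ⟩ := IsCyclic.exists_generator (α := Kˣ)
  have hζo : orderOf ζ = Fintype.card F ^ 2 - 1 := by
    rw [orderOf_eq_card_of_forall_mem_zpowers hζ, Nat.card_units, hcard]
  have hfac : Fintype.card F ^ 2 - 1 = (Fintype.card F - 1) * (Fintype.card F + 1) := by
    obtain ⟨m, hm⟩ : ∃ m, Fintype.card F = m + 1 := ⟨Fintype.card F - 1, by omega⟩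
    rw [hm]
    have : (m + 1) ^ 2 = m * (m + 2) + 1 := by ring
    rw [this]
    simp
  let fu : Kˣ →* GL (Fin 2) F := Units.map f
  refine ⟨((fu ζ : GL (Fin 2) F) : GL (Fin 2) F ⧸ Subgroup.center (GL (Fin 2) F)), ?_⟩
  apply pgla3_orderOf_eq
  intro n
  rw [pgla3_pow_eq_one_iff, ← map_pow]
  have hval : ((fu (ζ ^ n) : GL (Fin 2) F) : Matrix (Fin 2) (Fin 2) F) = f ((ζ ^ n : Kˣ) : K) := rfl
  rw [hval]
  have key : (∃ c : F, f ((ζ ^ n : Kˣ) : K) = Matrix.scalar (Fin 2) c) ↔
      (ζ ^ n) ^ (Fintype.card F - 1) = 1 := by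
    constructor
    · rintro ⟨c, hc⟩
      rw [← hfalg c] at hc
      have h1 : ((ζ ^ n : Kˣ) : K) = algebraMap F K c := hf hc
      have hc0 : c ≠ 0 := by
        intro h0
        rw [h0, map_zero] at h1
        exact (Units.ne_zero (ζ ^ n)) h1
      apply Units.ext
      rw [Units.val_pow_eq_pow_val, h1, ← map_pow, FiniteField.pow_card_sub_one_eq_one c hc0,
        map_one, Units.val_one]
    · intro h
      have h1 : (((ζ ^ n : Kˣ) : K)) ^ (Fintype.card F - 1) = 1 := by
        rw [← Units.val_pow_eq_pow_val, h, Units.val_one]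
      obtain ⟨c, hc⟩ := Cfsg.Agent.Lib.Helper5.SingerModel.mem_range_of_pow_eq_one (F := F) _ h1
      exact ⟨c, by rw [← hc, hfalg]⟩
  rw [key, ← pow_mul, ← orderOf_dvd_iff_pow_eq_one, hζo, hfac, mul_comm n,
    Nat.mul_dvd_mul_iff_left (by omega)]

/-- PGLA3 -/
theorem pgl2_exists_orderOf (p : ℕ) [Fact p.Prime] [CharP F p] :
    (∃ x : GL (Fin 2) F ⧸ Subgroup.center (GL (Fin 2) F), orderOf x = Fintype.card F - 1) ∧
    (∃ x : GL (Fin 2) F ⧸ Subgroup.center (GL (Fin 2) F), orderOf x = Fintype.card F + 1) ∧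
    (∃ x : GL (Fin 2) F ⧸ Subgroup.center (GL (Fin 2) F), orderOf x = p) :=
  ⟨pgla3_exists_sub_one, pgla3_exists_add_one p, pgla3_exists_char p⟩

end pgl

end Cfsg.Agent.Lib.S3452
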