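import Mathlib
import Cfsg.Agent.Lib.Helper5.SUf.Defs2
import Cfsg.Agent.Lib.Helper5.Subf_F
import Cfsg.Agent.Lib.Helper5.SUf.Geo2

set_option autoImplicit false

/-!
# S5658 PK-WALK: conjugating root elements by rational special isometries (which lie in `M`)
-/

namespace Cfsg.Agent.Lib.Helper5.SUf

open Matrix Cfsg.Agent.Lib.Helper7.Subf

variable {F : Type*} [Field F] {n : ℕ} {F₀ : Subfield F} {σ : F ≃+* F}
  {J : Matrix (Fin n) (Fin n) F}

variable {M : Subgroup (GL (Fin n) F)}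

theorem walk_eu [Finite F] (hn : 13 ≤ n) (hU : USet F₀ σ J) (hN : HasNIso F₀ σ J M) {s : F}
    {u w u' w' : Fin n → F} (h : TIP F₀ σ J u w) (h' : TIP F₀ σ J u' w')
    (hm : Mm M (eu σ J s u w)) : Mm M (eu σ J s u' w') := by
  obtain ⟨g, hgr, hgi, hgd, hgu, hgw⟩ := tip_trans hn hU h h'
  have hg : g ∈ M := hN.hasRatIso g hgr hgi hgd
  have := mm_conj_eu hg hgi hm
  rw [hgu, hgw] at this
  exact this

theorem walk_tu [Finite F] (hn : 13 ≤ n) (hU : USet F₀ σ J) (hN : HasNIso F₀ σ J M) {a : F}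
    {v v' : Fin n → F} (hv : Rat F₀ v) (hv0 : v ≠ 0) (hvv : bf σ J v v = 0)
    (hv' : Rat F₀ v') (hv'0 : v' ≠ 0) (hv'v' : bf σ J v' v' = 0)
    (hm : Mm M (tu σ J a v)) : Mm M (tu σ J a v') := by
  obtain ⟨g, hgr, hgi, hgd, hgv⟩ := iso_trans hn hU hv hv0 hvv hv' hv'0 hv'v'
  have hg : g ∈ M := hN.hasRatIso g hgr hgi hgd
  have := mm_conj_tu hg hgi hm
  rw [hgv] at this
  exact this

end Cfsg.Agent.Lib.Helper5.SUf
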