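import Mathlib
import Cfsg.Agent.Lib.Helper5.SUf.Defs2
import Cfsg.Agent.Lib.Helper5.Subf_F
import Cfsg.Agent.Lib.Helper1.Subf_A4
import Cfsg.Agent.Lib.Helper5.SUf.Geo2
import Cfsg.Agent.Lib.Helper6.SUf_WALK

set_option autoImplicit false

/-!
# S5658 PK-S: the dichotomy `LRat ∨ AllRoot`
-/

namespace Cfsg.Agent.Lib.Helper5.SUf

open Matrix Cfsg.Agent.Lib.Helper7.Subf

variable {F : Type*} [Field F] {n : ℕ} {F₀ : Subfield F} {σ : F ≃+* F}
  {J : Matrix (Fin n) (Fin n) F}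

variable {M : Subgroup (GL (Fin n) F)}

namespace PkS

/-- the facts about a frame of three hyperbolic pairs that we use -/
structure Frame3 (F₀ : Subfield F) (σ : F ≃+* F) (J : Matrix (Fin n) (Fin n) F)
    (e f : Fin 3 → Fin n → F) : Prop where
  re : ∀ i, Rat F₀ (e i)
  rf : ∀ i, Rat F₀ (f i)
  ee : ∀ i j, bf σ J (e i) (e j) = 0
  ff : ∀ i j, bf σ J (f i) (f j) = 0
  ef : ∀ i j, bf σ J (e i) (f j) = if i = j then 1 else 0
  fe : ∀ i j, bf σ J (f i) (e j) = if i = j then 1 else 0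

theorem exists_frame [Finite F] (hn : 13 ≤ n) (hU : USet F₀ σ J) :
    ∃ e f : Fin 3 → Fin n → F, Frame3 F₀ σ J e f := by
  obtain ⟨e, f, h1, h2⟩ := exists_frame3 hn hU
  refine ⟨e, f, fun i => (h1 i).1, fun i => (h1 i).2, fun i j => (h2 i j).1,
    fun i j => (h2 i j).2.1, fun i j => (h2 i j).2.2, fun i j => ?_⟩
  rw [hU.bf_symm (e j) (f i), (h2 j i).2.2]
  by_cases hij : i = j
  · rw [if_pos hij, if_pos hij.symm, map_one]
  · rw [if_neg hij, if_neg (Ne.symm hij), map_zero]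

theorem Frame3.e_ne {e f : Fin 3 → Fin n → F} (h : Frame3 F₀ σ J e f) (i : Fin 3) : e i ≠ 0 := by
  intro h0
  have := h.ef i i
  rw [h0, bf_zero_left, if_pos rfl] at this
  exact zero_ne_one this

theorem Frame3.f_ne {e f : Fin 3 → Fin n → F} (h : Frame3 F₀ σ J e f) (i : Fin 3) : f i ≠ 0 := by
  intro h0
  have := h.fe i i
  rw [h0, bf_zero_left, if_pos rfl] at this
  exact zero_ne_one this

theorem Frame3.tip_ee {e f : Fin 3 → Fin n → F} (h : Frame3 F₀ σ J e f) {i j : Fin 3}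
    (hij : i ≠ j) : TIP F₀ σ J (e i) (e j) :=
  ⟨h.re i, h.re j, h.ee i i, h.ee j j, h.ee i j,
    indep_of_bf (σ := σ) (J := J) (z := f j) (h.e_ne i) (by rw [h.ef, if_neg hij])
      (by rw [h.ef, if_pos rfl]; exact one_ne_zero)⟩

theorem Frame3.tip_fe {e f : Fin 3 → Fin n → F} (h : Frame3 F₀ σ J e f) {i j : Fin 3}
    (hij : i ≠ j) : TIP F₀ σ J (f i) (e j) :=
  ⟨h.rf i, h.re j, h.ff i i, h.ee j j, by rw [h.fe, if_neg hij],
    indep_of_bf (σ := σ) (J := J) (z := f j) (h.f_ne i) (h.ff i j)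
      (by rw [h.ef, if_pos rfl]; exact one_ne_zero)⟩

theorem Frame3.tip_ef {e f : Fin 3 → Fin n → F} (h : Frame3 F₀ σ J e f) {i j : Fin 3}
    (hij : i ≠ j) : TIP F₀ σ J (e i) (f j) :=
  ⟨h.re i, h.rf j, h.ee i i, h.ff j j, by rw [h.ef, if_neg hij],
    indep_of_bf (σ := σ) (J := J) (z := e j) (h.e_ne i) (h.ee i j)
      (by rw [h.fe, if_pos rfl]; exact one_ne_zero)⟩

theorem zero_mem : (0 : F) ∈ SSet F₀ σ J M := by
  intro u w _
  rw [eu_zero]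
  exact Mm.one M

theorem of_mem (hU : USet F₀ σ J) (hN : HasNIso F₀ σ J M) {s : F} (hs : s ∈ F₀) :
    s ∈ SSet F₀ σ J M := by
  intro u w h
  exact hN.hasRatIso.mm_eu hU hs h.1 h.2.1 h.2.2.1 h.2.2.2.1 h.2.2.2.2.1

theorem add_mem (hU : USet F₀ σ J) {s t : F} (hs : s ∈ SSet F₀ σ J M) (ht : t ∈ SSet F₀ σ J M) :
    s + t ∈ SSet F₀ σ J M := by
  intro u w h
  rw [← eu_mul_eu hU.invol hU.herm s t u w h.2.2.1 h.2.2.2.1 h.2.2.2.2.1]
  exact (hs u w h).mul (ht u w h)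

theorem neg_mem (hU : USet F₀ σ J) {s : F} (hs : s ∈ SSet F₀ σ J M) :
    -s ∈ SSet F₀ σ J M := by
  intro u w h
  exact (hs u w h).inv_of_mul_eq_one (eu_mul_neg hU.invol hU.herm s h.2.2.1 h.2.2.2.1 h.2.2.2.2.1)

theorem mul_mem [Finite F] (hn : 13 ≤ n) (hU : USet F₀ σ J) (hN : HasNIso F₀ σ J M) {s t : F}
    (hs : s ∈ SSet F₀ σ J M) (ht : t ∈ SSet F₀ σ J M) : s * t ∈ SSet F₀ σ J M := by
  obtain ⟨e, f, h⟩ := exists_frame hn hU
  intro u w huw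
  have h01 : (0 : Fin 3) ≠ 1 := by decide
  have h12 : (1 : Fin 3) ≠ 2 := by decide
  have h02 : (0 : Fin 3) ≠ 2 := by decide
  have h1 := hs (e 0) (e 1) (h.tip_ee h01)
  have h2 := ht (f 1) (e 2) (h.tip_fe h12)
  have hc := mm_comm_ee hU.invol hU.herm (h.ee 0 0) (h.ee 1 1) (h.ee 0 1) (h.ff 1 1) (h.ee 2 2)
    (by rw [h.fe, if_neg h12]) (h.ee 2 1) (by rw [h.fe, if_neg (Ne.symm h01)]) (h.ee 2 0) h1 h2
  rw [h.fe, if_pos rfl, mul_one] at hc
  exact walk_eu hn hU hN (h.tip_ee h02) huw hc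

theorem pow_mem [Finite F] (hn : 13 ≤ n) (hU : USet F₀ σ J) (hN : HasNIso F₀ σ J M) {s : F}
    (hs : s ∈ SSet F₀ σ J M) (k : ℕ) : s ^ k ∈ SSet F₀ σ J M := by
  induction k with
  | zero =>
    rw [pow_zero]
    exact of_mem hU hN F₀.one_mem
  | succ k ih =>
    rw [pow_succ]
    exact mul_mem hn hU hN ih hs

theorem inv_mem [Finite F] (hn : 13 ≤ n) (hU : USet F₀ σ J) (hN : HasNIso F₀ σ J M) {s : F}
    (hs : s ∈ SSet F₀ σ J M) : s⁻¹ ∈ SSet F₀ σ J M := by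
  by_cases hs0 : s = 0
  · rw [hs0, _root_.inv_zero]
    exact zero_mem
  · have : Fintype F := Fintype.ofFinite F
    have h1 : s ^ (Fintype.card F - 1) = 1 := FiniteField.pow_card_sub_one_eq_one s hs0
    have hq : 2 ≤ Fintype.card F := Fintype.one_lt_card
    have h2 : s * s ^ (Fintype.card F - 2) = 1 := by
      rw [← pow_succ', ← h1]
      congr 1
      omega
    have h3 : s⁻¹ = s ^ (Fintype.card F - 2) := (eq_inv_of_mul_eq_one_right h2).symm ▸ rfl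
    rw [h3]
    exact pow_mem hn hU hN hs _

theorem tu_zero_vec (a : F) : tu σ J a (0 : Fin n → F) = 1 := by
  have : (0 : Fin n → F) = (0 : F) • (0 : Fin n → F) := by rw [zero_smul]
  rw [this, tu_smul, zero_mul, mul_zero, tu_zero]

end PkS

open PkS

theorem sset_eq [Fintype F] (hn : 13 ≤ n) (hU : USet F₀ σ J) (hM : MIso σ J M)
    (hN : HasNIso F₀ σ J M) (r : ℕ) (hr : r.Prime) (hcard : Fintype.card F = Nat.card F₀ ^ r) :
    SSet F₀ σ J M = (F₀ : Set F) ∨ SSet F₀ σ J M = Set.univ := by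
  let 𝔸 : Subfield F :=
    { carrier := SSet F₀ σ J M
      mul_mem' := fun ha hb => mul_mem hn hU hN ha hb
      one_mem' := of_mem hU hN F₀.one_mem
      add_mem' := fun ha hb => add_mem hU ha hb
      zero_mem' := zero_mem
      neg_mem' := fun ha => neg_mem hU ha
      inv_mem' := fun _ ha => inv_mem hn hU hN ha }
  have hle : F₀ ≤ 𝔸 := fun a ha => of_mem hU hN ha
  rcases subfield_eq_or_eq_top F₀ 𝔸 hle r hr hcard with h | h
  · left
    show (𝔸 : Set F) = (F₀ : Set F)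
    rw [h]
  · right
    show (𝔸 : Set F) = Set.univ
    rw [h]
    rfl

theorem lrat_of_sset [Finite F] (hn : 13 ≤ n) (hU : USet F₀ σ J) (hM : MIso σ J M)
    (hN : HasNIso F₀ σ J M) (h : SSet F₀ σ J M = (F₀ : Set F)) : LRat F₀ σ J M := by
  intro a v ha hv hv0 hvv hm
  obtain ⟨e₁, he₁, he₁e₁, hve₁⟩ := exists_partner hU hv hv0 hvv
  obtain ⟨e₂, f₂, he₂, hf₂, he₂e₂, hf₂f₂, he₂f₂, hperp⟩ :=
    exists_hyp_perp hn hU ![v, e₁, 0, 0, 0] (by
      intro i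
      fin_cases i
      · exact hv
      · exact he₁
      · exact Rat.zero F₀
      · exact Rat.zero F₀
      · exact Rat.zero F₀)
  have he₂v : bf σ J e₂ v = 0 := (hperp 0).1
  have hf₂v : bf σ J f₂ v = 0 := (hperp 0).2
  have he₂e₁ : bf σ J e₂ e₁ = 0 := (hperp 1).1
  have he₁e₂ : bf σ J e₁ e₂ = 0 := hU.bf_eq_zero_symm he₂e₁
  have hve₂ : bf σ J v e₂ = 0 := hU.bf_eq_zero_symm he₂v
  have hvf₂ : bf σ J v f₂ = 0 := hU.bf_eq_zero_symm hf₂v
  have he₁v : bf σ J e₁ v = 1 := by rw [hU.bf_symm v e₁, hve₁, map_one]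
  have he₂0 : e₂ ≠ 0 := by
    intro h0
    rw [h0, bf_zero_left] at he₂f₂
    exact zero_ne_one he₂f₂
  -- the rational short root element `eu 1 e₁ e₂`
  have hr : Mm M (eu σ J 1 e₁ e₂) :=
    hN.hasRatIso.mm_eu hU F₀.one_mem he₁ he₂ he₁e₁ he₂e₂ he₁e₂
  have hc := mm_comm_te hU.invol hU.herm ha hvv he₁e₁ he₂e₂ he₁e₂ he₂v hm hr
  rw [he₁v, mul_one, mul_one, mul_one, map_one, mul_one] at hc
  have ht : Mm M (tu σ J a e₂) := walk_tu hn hU hN hv hv0 hvv he₂ he₂0 he₂e₂ hm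
  have he : Mm M (eu σ J a v e₂) := by
    have := hc.mul ht
    have e0 : -(a * 1) + a = 0 := by ring
    rwa [mul_assoc, tu_mul_tu _ _ _ he₂e₂, e0, tu_zero, mul_one] at this
  have htip : TIP F₀ σ J v e₂ :=
    ⟨hv, he₂, hvv, he₂e₂, hve₂, indep_of_bf (σ := σ) (J := J) (z := f₂) hv0 hvf₂
      (by rw [he₂f₂]; exact one_ne_zero)⟩
  have hmem : a ∈ SSet F₀ σ J M := fun u w huw => walk_eu hn hU hN htip huw he
  rw [h] at hmem
  exact hmem

theorem allRoot_of_sset [Finite F] (hn : 13 ≤ n) (hU : USet F₀ σ J) (hM : MIso σ J M)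
    (hN : HasNIso F₀ σ J M) (h : SSet F₀ σ J M = Set.univ) : AllRoot F₀ σ J M := by
  have hall : ∀ s : F, s ∈ SSet F₀ σ J M := fun s => by rw [h]; exact Set.mem_univ s
  refine ⟨fun s u w huw => hall s u w huw, ?_⟩
  intro a v ha hv hvv
  by_cases hv0 : v = 0
  · rw [hv0, tu_zero_vec]
    exact Mm.one M
  obtain ⟨e, f, hf⟩ := exists_frame hn hU
  have h01 : (0 : Fin 3) ≠ 1 := by decide
  obtain ⟨s, hs⟩ := exists_sub_of_trace_zero hU ha
  have h1 := hall s (e 0) (e 1) (hf.tip_ee h01)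
  have h2 := hall 1 (e 0) (f 1) (hf.tip_ef h01)
  have hc := mm_comm_ee_long hU.invol hU.herm (hf.ee 0 0) (hf.ee 1 1) (hf.ee 0 1) (hf.ff 1 1)
    (by rw [hf.ef, if_neg h01]) h1 h2
  rw [hf.fe, if_pos rfl, map_one, mul_one, mul_one, one_mul, mul_one, hs] at hc
  exact walk_tu hn hU hN (hf.re 0) (hf.e_ne 0) (hf.ee 0 0) hv hv0 hvv hc

theorem dichotomy [Fintype F] (hn : 13 ≤ n) (hU : USet F₀ σ J) (hM : MIso σ J M)
    (hN : HasNIso F₀ σ J M) (r : ℕ) (hr : r.Prime) (hcard : Fintype.card F = Nat.card F₀ ^ r) :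
    LRat F₀ σ J M ∨ AllRoot F₀ σ J M := by
  rcases sset_eq hn hU hM hN r hr hcard with h | h
  · exact Or.inl (lrat_of_sset hn hU hM hN h)
  · exact Or.inr (allRoot_of_sset hn hU hM hN h)

end Cfsg.Agent.Lib.Helper5.SUf
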