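import Mathlib
import Cfsg.Agent.Lib.Helper8.TB11
import Cfsg.Agent.Lib.Lead.SolvPSolv
import Cfsg.Agent.Lib.Lead.Core
import Cfsg.Agent.Lib.Helper6.PPrimeCore

/-!
# S4394, package PD, part a: the abstract quadratic-action lemma

A finite group `H = K⟨x⟩` with `K` a normal `p'`-subgroup and `x` of order `p` not inducing an
inner automorphism of `K`, acting faithfully on a nonzero `ZMod p`-space with `(x - 1)² = 0`,
forces `p = 3` (for odd `p`), by Hall–Higman's Theorem B.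
-/

set_option autoImplicit false

namespace Cfsg.Agent.Lib.Helper6.Schm

universe u v

theorem quad_abstract {H : Type u} [Group H] [Finite H] {p : ℕ} [hp : Fact p.Prime] (hp2 : p ≠ 2)
    (K : Subgroup H) [hKn : K.Normal] (hK : (Nat.card K).Coprime p) (x : H) (hx : x ^ p = 1)
    (hgen : K ⊔ Subgroup.zpowers x = ⊤)
    (hninn : ∀ m₀ ∈ K, ∃ m ∈ K, x * m * x⁻¹ ≠ m₀ * m * m₀⁻¹)
    {V : Type v} [AddCommGroup V] [Module (ZMod p) V] [FiniteDimensional (ZMod p) V] [Nontrivial V]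
    (ρ : Representation (ZMod p) H V) (hρ : Function.Injective ρ) (hq : (ρ x - 1) ^ 2 = 0) :
    p = 3 := by
  classical
  have hpp : p.Prime := hp.out
  -- `x ∉ K`
  have hxK : x ∉ K := by
    intro hxK
    obtain ⟨m, _, hm⟩ := hninn x hxK
    exact hm rfl
  have hx1 : x ≠ 1 := fun h => hxK (h ▸ K.one_mem)
  have hox : orderOf x = p ^ 1 := by rw [pow_one]; exact orderOf_eq_prime hx hx1
  -- the quotient `H ⧸ K` has order `p`
  obtain ⟨π, hπ⟩ : ∃ π : H →* H ⧸ K, π = QuotientGroup.mk' K := ⟨_, rfl⟩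
  have hπker : π.ker = K := by rw [hπ]; exact QuotientGroup.ker_mk' K
  have hπsurj : Function.Surjective π := by rw [hπ]; exact QuotientGroup.mk'_surjective K
  have hπx1 : π x ≠ 1 := by
    intro h
    apply hxK
    rw [← hπker]
    exact h
  have hπxp : (π x) ^ p = 1 := by rw [← map_pow, hx, map_one]
  have hoπ : orderOf (π x) = p := orderOf_eq_prime hπxp hπx1
  have hztop : Subgroup.zpowers (π x) = ⊤ := by
    have h1 : (K ⊔ Subgroup.zpowers x).map π = ⊤ := by
      rw [hgen]; exact Subgroup.map_top_of_surjective π hπsurj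
    rw [Subgroup.map_sup, MonoidHom.map_zpowers] at h1
    have h2 : K.map π = ⊥ := by
      rw [Subgroup.map_eq_bot_iff, hπker]
    rwa [h2, bot_sup_eq] at h1
  have hcardQ : Nat.card (H ⧸ K) = p := by
    rw [← Subgroup.card_top (G := H ⧸ K), ← hztop, Nat.card_zpowers, hoπ]
  have hcomm : ∀ a b : H ⧸ K, a * b = b * a := by
    intro a b
    have ha : a ∈ Subgroup.zpowers (π x) := hztop ▸ Subgroup.mem_top a
    have hb : b ∈ Subgroup.zpowers (π x) := hztop ▸ Subgroup.mem_top b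
    obtain ⟨i, rfl⟩ := Subgroup.mem_zpowers_iff.mp ha
    obtain ⟨j, rfl⟩ := Subgroup.mem_zpowers_iff.mp hb
    exact (Commute.zpow_zpow_self (π x) i j).eq
  have hsolvQ : Group.IsSolvable (H ⧸ K) := Group.isSolvable_of_comm hcomm
  have hsolQ : Cfsg.IsPSolvable p (H ⧸ K) :=
    Cfsg.Agent.Lib.Lead.SolvPSolv.isPSolvable_of_isSolvable' p (H ⧸ K)
  have hsol : Cfsg.IsPSolvable p H :=
    Cfsg.Agent.Lib.Lead.SolvPSolv.isPSolvable_of_quotient K (Or.inr hK) hsolQ
  -- `O_p(H) = 1`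
  have hO : Cfsg.pCore p H = ⊥ := by
    obtain ⟨N, hN⟩ : ∃ N : Subgroup H, N = Cfsg.pCore p H := ⟨_, rfl⟩
    rw [← hN]
    have hNn : N.Normal := hN ▸ Cfsg.Agent.Lib.Lead.pCore_normal p
    have hNp : IsPGroup p N := hN ▸ Cfsg.Agent.Lib.Lead.pCore_isPGroup p
    have hNK : N ⊓ K = ⊥ := Cfsg.Agent.Lib.Helper6.isPGroup_inf_coprime_eq_bot hK hNp
    have hdis : Disjoint N K := disjoint_iff.mpr hNK
    have hcent : ∀ n ∈ N, ∀ k ∈ K, n * k = k * n := fun n hn k hk =>
      (Subgroup.commute_of_normal_of_disjoint N K hNn hKn hdis n k hn hk).eq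
    have hfact : Fact (Nat.card (H ⧸ K)).Prime := ⟨hcardQ ▸ hpp⟩
    rcases Subgroup.eq_bot_or_eq_top_of_prime_card (N.map π) with h | h
    · have h1 : N ≤ K := by
        have := (Subgroup.map_eq_bot_iff N).mp h
        rwa [hπker] at this
      rw [← hNK]; exact (inf_of_le_left h1).symm
    · exfalso
      have h1 : π x ∈ N.map π := h ▸ Subgroup.mem_top _
      obtain ⟨n, hn, hnx⟩ := Subgroup.mem_map.mp h1
      have h2 : n⁻¹ * x ∈ K := by
        rw [← hπker, MonoidHom.mem_ker, map_mul, map_inv, hnx, inv_mul_cancel]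
      obtain ⟨m, hm, hne⟩ := hninn (n⁻¹ * x) h2
      apply hne
      have h3 : (n⁻¹ * x) * m * (n⁻¹ * x)⁻¹ ∈ K := K.mul_mem (K.mul_mem h2 hm) (K.inv_mem h2)
      have h4 := hcent n hn _ h3
      calc x * m * x⁻¹ = n * ((n⁻¹ * x) * m * (n⁻¹ * x)⁻¹) * n⁻¹ := by group
        _ = (n⁻¹ * x) * m * (n⁻¹ * x)⁻¹ := by rw [h4]; group
  -- Hall–Higman Theorem B
  rcases Cfsg.Agent.Lib.Helper8.TB.main_field p hsol hO ρ hρ x 1 hox 2 hq with h | h
  · exfalso
    rw [pow_one] at h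
    have := hpp.two_le
    omega
  · obtain ⟨n₀, q, m', h1, h2, _, _, _, _, h3⟩ := h
    have hn₀ : n₀ = 1 := le_antisymm h2 h1
    subst hn₀
    rw [Nat.sub_self, pow_zero, one_mul, pow_one] at h3
    have := hpp.two_le
    omega

end Cfsg.Agent.Lib.Helper6.Schm
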