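import Mathlib
import Cfsg.Agent.Lib.Helper6.SchmPDa

/-!
# S4394, package PD, part b: quadratic action of a group of automorphisms of an elementary abelian
`p`-group
-/

set_option autoImplicit false

namespace Cfsg.Agent.Lib.Helper6.Schm

universe u

/-- the representation of a group of automorphisms of `A` on `Additive A` -/
noncomputable def autRep {A : Type u} [CommGroup A] (p : ℕ) [Module (ZMod p) (Additive A)]
    (H : Subgroup (MulAut A)) : Representation (ZMod p) ↥H (Additive A) where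
  toFun h := AddMonoidHom.toZModLinearMap p (MonoidHom.toAdditive ((h : MulAut A) : A →* A))
  map_one' := by ext v; rfl
  map_mul' := by intro a b; ext v; rfl

theorem quad_aut_aux {A : Type u} [CommGroup A] [Finite A] {p : ℕ} [hp : Fact p.Prime]
    [Module (ZMod p) (Additive A)] (hp2 : p ≠ 2) (Mh : Subgroup (MulAut A)) (x : MulAut A)
    (hcop : (Nat.card Mh).Coprime p)
    (hxM : ∀ m ∈ Mh, x * m * x⁻¹ ∈ Mh) (hxp : x ^ p = 1)
    (hninn : ∀ m₀ ∈ Mh, ∃ m ∈ Mh, x * m * x⁻¹ ≠ m₀ * m * m₀⁻¹)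
    (hquad : ∀ a : A, x (x a) * a = x a * x a) : p = 3 := by
  classical
  haveI : Finite (MulAut A) :=
    Finite.of_injective (fun f : MulAut A => (f : A → A)) DFunLike.coe_injective
  haveI : Nontrivial A := by
    by_contra hnt
    rw [not_nontrivial_iff_subsingleton] at hnt
    obtain ⟨m, _, hm⟩ := hninn 1 (one_mem _)
    apply hm
    ext a
    exact Subsingleton.elim _ _
  obtain ⟨H, hH⟩ : ∃ H : Subgroup (MulAut A), H = Mh ⊔ Subgroup.zpowers x := ⟨_, rfl⟩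
  have hMH : Mh ≤ H := hH ▸ le_sup_left
  have hxH : x ∈ H := hH ▸ (le_sup_right : Subgroup.zpowers x ≤ _) (Subgroup.mem_zpowers x)
  have hxN : x ∈ Subgroup.normalizer (Mh : Set (MulAut A)) :=
    Subgroup.mem_normalizer_fintype hxM
  have hHN : H ≤ Subgroup.normalizer (Mh : Set (MulAut A)) := by
    rw [hH]
    exact sup_le Subgroup.le_normalizer ((Subgroup.zpowers_le).mpr hxN)
  haveI hKn : (Mh.subgroupOf H).Normal := Subgroup.normal_subgroupOf_of_le_normalizer hHN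
  have hK' : (Nat.card (Mh.subgroupOf H)).Coprime p := by
    rw [Nat.card_congr (Subgroup.subgroupOfEquivOfLe hMH).toEquiv]
    exact hcop
  have hgen' : Mh.subgroupOf H ⊔ Subgroup.zpowers (⟨x, hxH⟩ : ↥H) = ⊤ := by
    apply Subgroup.map_injective H.subtype_injective
    rw [Subgroup.map_sup, Subgroup.subgroupOf_map_subtype, MonoidHom.map_zpowers,
      ← MonoidHom.range_eq_map, Subgroup.range_subtype, inf_of_le_left hMH]
    exact hH.symm
  have hx' : (⟨x, hxH⟩ : ↥H) ^ p = 1 := Subtype.ext hxp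
  have hninn' : ∀ m₀ ∈ Mh.subgroupOf H, ∃ m ∈ Mh.subgroupOf H,
      (⟨x, hxH⟩ : ↥H) * m * (⟨x, hxH⟩ : ↥H)⁻¹ ≠ m₀ * m * m₀⁻¹ := by
    intro m₀ hm₀
    obtain ⟨m, hm, hne⟩ := hninn m₀.1 (Subgroup.mem_subgroupOf.mp hm₀)
    refine ⟨⟨m, hMH hm⟩, Subgroup.mem_subgroupOf.mpr hm, ?_⟩
    intro h
    exact hne (congrArg Subtype.val h)
  obtain ⟨ρ, hρdef⟩ : ∃ ρ : Representation (ZMod p) ↥H (Additive A), ρ = autRep p H := ⟨_, rfl⟩
  have hρapp : ∀ (h : ↥H) (v : Additive A),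
      ρ h v = Additive.ofMul ((h : MulAut A) (Additive.toMul v)) := fun _ _ => by rw [hρdef]; rfl
  have hρ : Function.Injective ρ := by
    intro a b hab
    apply Subtype.ext
    ext v
    have := LinearMap.congr_fun hab (Additive.ofMul v)
    rw [hρapp, hρapp] at this
    exact Additive.ofMul.injective this
  have hq : (ρ ⟨x, hxH⟩ - 1) ^ 2 = 0 := by
    apply LinearMap.ext
    intro v
    have h1 : ρ ⟨x, hxH⟩ (ρ ⟨x, hxH⟩ v) + v = ρ ⟨x, hxH⟩ v + ρ ⟨x, hxH⟩ v := by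
      rw [hρapp, hρapp]
      exact congrArg Additive.ofMul (hquad (Additive.toMul v))
    have h2 : ρ ⟨x, hxH⟩ (ρ ⟨x, hxH⟩ v) = ρ ⟨x, hxH⟩ v + ρ ⟨x, hxH⟩ v - v := eq_sub_of_add_eq h1
    rw [sq, Module.End.mul_apply, LinearMap.sub_apply, LinearMap.sub_apply, Module.End.one_apply,
      Module.End.one_apply, map_sub, h2, LinearMap.zero_apply]
    abel
  exact quad_abstract hp2 (Mh.subgroupOf H) hK' ⟨x, hxH⟩ hx' hgen' hninn' ρ hρ hq

theorem quad_aut {A : Type u} [CommGroup A] [Finite A] {p : ℕ} [hp : Fact p.Prime] (hp2 : p ≠ 2)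
    (hexp : ∀ a : A, a ^ p = 1) (Mh : Subgroup (MulAut A)) (x : MulAut A)
    (hcop : (Nat.card Mh).Coprime p)
    (hxM : ∀ m ∈ Mh, x * m * x⁻¹ ∈ Mh) (hxp : x ^ p = 1)
    (hninn : ∀ m₀ ∈ Mh, ∃ m ∈ Mh, x * m * x⁻¹ ≠ m₀ * m * m₀⁻¹)
    (hquad : ∀ a : A, x (x a) * a = x a * x a) : p = 3 := by
  letI : Module (ZMod p) (Additive A) := AddCommGroup.zmodModule (n := p) (by
    intro v
    exact hexp (Additive.toMul v))
  exact quad_aut_aux hp2 Mh x hcop hxM hxp hninn hquad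

end Cfsg.Agent.Lib.Helper6.Schm
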