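import Mathlib
import Cfsg.Agent.Lib.Helper6.SchmPDb

/-!
# S4394, package PD: `quad_config`

`p` odd, `Y ≤ G` elementary abelian, `M` an `r`-group (`r ≠ p`) normalizing `Y` and acting
faithfully on it, `s` normalizing `Y` and `M`, `s ^ p` centralizing `Y`, `s` not inducing an inner
automorphism of `M`, and `[[y, s], s] = 1` for `y ∈ Y`.  Then `p = 3`
(Hall–Higman Theorem B, S0633).
-/

set_option autoImplicit false

namespace Cfsg.Agent.Lib.Helper6.Schm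

universe u

/-- conjugation action of the normalizer of `Y` on `Y` -/
def conjN {G : Type u} [Group G] (Y : Subgroup G) :
    ↥(Subgroup.normalizer (Y : Set G)) →* MulAut ↥Y where
  toFun g :=
    { toFun := fun y => ⟨g.1 * y.1 * g.1⁻¹, (Subgroup.mem_normalizer_iff.mp g.2 y.1).mp y.2⟩
      invFun := fun y => ⟨g.1⁻¹ * y.1 * g.1, (Subgroup.mem_normalizer_iff''.mp g.2 y.1).mp y.2⟩
      left_inv := fun y => Subtype.ext (by simp [mul_assoc])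
      right_inv := fun y => Subtype.ext (by simp [mul_assoc])
      map_mul' := fun a b => Subtype.ext (by simp [mul_assoc]) }
  map_one' := by ext y; simp
  map_mul' := fun a b => by ext y; simp [mul_assoc]

theorem conjN_apply {G : Type u} [Group G] (Y : Subgroup G)
    (g : ↥(Subgroup.normalizer (Y : Set G))) (y : ↥Y) :
    ((conjN Y g y : ↥Y) : G) = g.1 * y.1 * g.1⁻¹ := rfl

/-- `quad_aut` for a group with a commutativity hypothesis -/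
theorem quad_aut' {A : Type u} [Group A] [Finite A] {p : ℕ} [hp : Fact p.Prime] (hp2 : p ≠ 2)
    (hcomm : ∀ a b : A, a * b = b * a)
    (hexp : ∀ a : A, a ^ p = 1) (Mh : Subgroup (MulAut A)) (x : MulAut A)
    (hcop : (Nat.card Mh).Coprime p)
    (hxM : ∀ m ∈ Mh, x * m * x⁻¹ ∈ Mh) (hxp : x ^ p = 1)
    (hninn : ∀ m₀ ∈ Mh, ∃ m ∈ Mh, x * m * x⁻¹ ≠ m₀ * m * m₀⁻¹)
    (hquad : ∀ a : A, x (x a) * a = x a * x a) : p = 3 := by
  letI : CommGroup A := { (inferInstance : Group A) with mul_comm := hcomm }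
  exact quad_aut hp2 hexp Mh x hcop hxM hxp hninn hquad

theorem quad_config {G : Type u} [Group G] [Finite G] {p : ℕ} [hp : Fact p.Prime] (hp2 : p ≠ 2)
    (Y M : Subgroup G) (s : G) (r : ℕ) (hr : r.Prime) (hrp : r ≠ p)
    (hYab : ∀ a ∈ Y, ∀ b ∈ Y, a * b = b * a) (hYexp : ∀ a ∈ Y, a ^ p = 1)
    (hMY : M ≤ Subgroup.normalizer (Y : Set G)) (hsY : s ∈ Subgroup.normalizer (Y : Set G))
    (hM : IsPGroup r M) (hsM : s ∈ Subgroup.normalizer (M : Set G))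
    (hsp : ∀ y ∈ Y, s ^ p * y = y * s ^ p)
    (hfaith : ∀ m ∈ M, (∀ y ∈ Y, m * y = y * m) → m = 1)
    (hninn : ∀ m₀ ∈ M, ∃ m ∈ M, s * m * s⁻¹ ≠ m₀ * m * m₀⁻¹)
    (hquad : ∀ y ∈ Y, (y * s * y⁻¹ * s⁻¹) * s = s * (y * s * y⁻¹ * s⁻¹)) :
    p = 3 := by
  classical
  obtain ⟨φ, hφ⟩ : ∃ φ : ↥(Subgroup.normalizer (Y : Set G)) →* MulAut ↥Y, φ = conjN Y := ⟨_, rfl⟩
  have hφapp : ∀ (g : ↥(Subgroup.normalizer (Y : Set G))) (y : ↥Y),
      ((φ g y : ↥Y) : G) = g.1 * y.1 * g.1⁻¹ := by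
    intro g y; rw [hφ]; rfl
  -- injectivity on `M`
  have hinj : ∀ a b : ↥(Subgroup.normalizer (Y : Set G)), a.1 ∈ M → b.1 ∈ M → φ a = φ b →
      a.1 = b.1 := by
    intro a b ha hb hab
    have h1 : b.1⁻¹ * a.1 = 1 := by
      apply hfaith _ (M.mul_mem (M.inv_mem hb) ha)
      intro y hy
      have h2 := congrArg (fun f : MulAut ↥Y => ((f ⟨y, hy⟩ : ↥Y) : G)) hab
      simp only [hφapp] at h2
      calc b.1⁻¹ * a.1 * y = b.1⁻¹ * (a.1 * y * a.1⁻¹) * a.1 := by group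
        _ = b.1⁻¹ * (b.1 * y * b.1⁻¹) * a.1 := by rw [h2]
        _ = y * (b.1⁻¹ * a.1) := by group
    calc a.1 = b.1 * (b.1⁻¹ * a.1) := by group
      _ = b.1 := by rw [h1, mul_one]
  obtain ⟨Mh, hMh⟩ : ∃ Mh : Subgroup (MulAut ↥Y),
      Mh = (M.subgroupOf (Subgroup.normalizer (Y : Set G))).map φ := ⟨_, rfl⟩
  have hmemMh : ∀ f : MulAut ↥Y, f ∈ Mh ↔ ∃ m : ↥(Subgroup.normalizer (Y : Set G)),
      m.1 ∈ M ∧ φ m = f := by
    intro f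
    rw [hMh, Subgroup.mem_map]
    constructor
    · rintro ⟨m, hm, rfl⟩
      exact ⟨m, Subgroup.mem_subgroupOf.mp hm, rfl⟩
    · rintro ⟨m, hm, rfl⟩
      exact ⟨m, Subgroup.mem_subgroupOf.mpr hm, rfl⟩
  have hcop : (Nat.card Mh).Coprime p := by
    haveI : Fact r.Prime := ⟨hr⟩
    have h1 : IsPGroup r Mh := by
      rw [hMh]
      exact (hM.comap_subtype).map φ
    obtain ⟨n, hn⟩ := IsPGroup.iff_card.mp h1
    rw [hn]
    exact Nat.Coprime.pow_left n ((Nat.coprime_primes hr hp.out).mpr hrp)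
  have hxM : ∀ m ∈ Mh, φ ⟨s, hsY⟩ * m * (φ ⟨s, hsY⟩)⁻¹ ∈ Mh := by
    intro f hf
    obtain ⟨m, hm, rfl⟩ := (hmemMh f).mp hf
    rw [← map_inv, ← map_mul, ← map_mul]
    refine (hmemMh _).mpr ⟨_, ?_, rfl⟩
    exact (Subgroup.mem_normalizer_iff.mp hsM m.1).mp hm
  have hxp : (φ ⟨s, hsY⟩) ^ p = 1 := by
    rw [← map_pow]
    ext y
    rw [hφapp, MulAut.one_apply]
    have h1 := hsp y.1 y.2
    change s ^ p * y.1 * (s ^ p)⁻¹ = y.1
    rw [h1, mul_inv_cancel_right]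
  have hninn' : ∀ m₀ ∈ Mh, ∃ m ∈ Mh,
      φ ⟨s, hsY⟩ * m * (φ ⟨s, hsY⟩)⁻¹ ≠ m₀ * m * m₀⁻¹ := by
    intro f₀ hf₀
    obtain ⟨m₀, hm₀, rfl⟩ := (hmemMh f₀).mp hf₀
    obtain ⟨m, hm, hne⟩ := hninn m₀.1 hm₀
    refine ⟨φ ⟨m, hMY hm⟩, (hmemMh _).mpr ⟨⟨m, hMY hm⟩, hm, rfl⟩, ?_⟩
    intro h
    rw [← map_inv, ← map_mul, ← map_mul, ← map_inv, ← map_mul, ← map_mul] at h
    apply hne
    have h1 := hinj _ _ ?_ ?_ h
    · exact h1
    · exact (Subgroup.mem_normalizer_iff.mp hsM m).mp hm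
    · exact M.mul_mem (M.mul_mem hm₀ hm) (M.inv_mem hm₀)
  have hquad' : ∀ a : ↥Y, φ ⟨s, hsY⟩ (φ ⟨s, hsY⟩ a) * a = φ ⟨s, hsY⟩ a * φ ⟨s, hsY⟩ a := by
    intro a
    apply Subtype.ext
    rw [Subgroup.coe_mul, Subgroup.coe_mul, hφapp, hφapp]
    change s * (s * a.1 * s⁻¹) * s⁻¹ * a.1 = s * a.1 * s⁻¹ * (s * a.1 * s⁻¹)
    have ht : s * a.1 * s⁻¹ ∈ Y := (Subgroup.mem_normalizer_iff.mp hsY a.1).mp a.2
    have hu : s * (s * a.1 * s⁻¹) * s⁻¹ ∈ Y := (Subgroup.mem_normalizer_iff.mp hsY _).mp ht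
    obtain ⟨y, hy⟩ : ∃ y : G, y = a.1 := ⟨_, rfl⟩
    obtain ⟨t, htdef⟩ : ∃ t : G, t = s * a.1 * s⁻¹ := ⟨_, rfl⟩
    obtain ⟨w, hwdef⟩ : ∃ w : G, w = s * t * s⁻¹ := ⟨_, rfl⟩
    rw [← htdef] at ht hu ⊢
    rw [← hwdef] at hu ⊢
    rw [← hy] at htdef ⊢
    have hyY : y ∈ Y := hy ▸ a.2
    have h := hquad y hyY
    -- `y * t⁻¹ = t * w⁻¹`
    have h1 : y * t⁻¹ = t * w⁻¹ := by
      have h2 : y * s * y⁻¹ * s⁻¹ = y * t⁻¹ := by rw [htdef]; group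
      have h3 : s * (y * s * y⁻¹ * s⁻¹) * s⁻¹ = t * w⁻¹ := by rw [hwdef, htdef]; group
      rw [← h2, ← h3, ← h, mul_inv_cancel_right]
    have h4 : w * (t * w⁻¹) = (t * w⁻¹) * w := hYab w hu _ (Y.mul_mem ht (Y.inv_mem hu))
    calc w * y = w * (y * t⁻¹) * t := by group
      _ = w * (t * w⁻¹) * t := by rw [h1]
      _ = (t * w⁻¹) * w * t := by rw [h4]
      _ = t * t := by group
  exact quad_aut' hp2 (fun a b => Subtype.ext (hYab a.1 a.2 b.1 b.2))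
    (fun a => Subtype.ext (hYexp a.1 a.2)) Mh (φ ⟨s, hsY⟩) hcop hxM hxp hninn' hquad'

end Cfsg.Agent.Lib.Helper6.Schm
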