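import Mathlib
import Cfsg.Agent.Lib.Helper9.GReal2
import Cfsg.Agent.Lib.Helper9.USub4

set_option autoImplicit false

/-!
Subfield subgroups of `SL_n(F)`: the Frobenius criterion. If a conjugate of `x` lies in
`F^× · GL_n(F₀)`, the eigenspace dimensions of `x` are invariant under `λ ↦ λ ^ Q * w` for some
`w ≠ 0`, where `Q = |F₀|`.
-/

namespace Cfsg.Agent.Lib.Helper6.SubF

open Module Cfsg.Agent.Lib.Helper9.H9GReal
open scoped Matrix

section crit
variable {F : Type*} [Field F] [Fintype F] {n : ℕ}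

local notation "Mat" => Matrix (Fin n) (Fin n) F

/-- Eigenspaces of a matrix, as a set of vectors. -/
theorem mem_eigenspace_toLin' (M : Mat) (μ : F) (v : Fin n → F) :
    v ∈ Module.End.eigenspace (Matrix.toLin' M) μ ↔ M *ᵥ v = μ • v := by
  rw [Module.End.mem_eigenspace_iff, Matrix.toLin'_apply]

/-- A bijection between two submodules of a finite space forces equal dimensions. -/
theorem finrank_eq_of_bij {V : Type*} [AddCommGroup V] [Module F V] [Finite V]
    (A B : Submodule F V) (S : V → V) (hS : Function.Injective S)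
    (hAB : ∀ v ∈ A, S v ∈ B) (hBA : ∀ u ∈ B, ∃ v ∈ A, S v = u) :
    finrank F A = finrank F B := by
  classical
  haveI : Fintype V := Fintype.ofFinite V
  have hcard : Fintype.card A = Fintype.card B := by
    apply Fintype.card_congr
    refine Equiv.ofBijective (fun v => ⟨S v.1, hAB v.1 v.2⟩) ⟨?_, ?_⟩
    · intro v w hvw
      apply Subtype.ext
      apply hS
      exact congrArg Subtype.val hvw
    · intro u
      obtain ⟨v, hv, hvu⟩ := hBA u.1 u.2
      exact ⟨⟨v, hv⟩, Subtype.ext hvu⟩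
  rw [Module.card_eq_pow_finrank (K := F) (V := A),
    Module.card_eq_pow_finrank (K := F) (V := B)] at hcard
  exact Nat.pow_right_injective (Fintype.one_lt_card (α := F)) hcard

/-- The semilinear criterion at the level of matrices: if `M.map σ = u • M` for a ring
automorphism-like injective `σ` which is surjective, eigenspace dimensions are permuted. -/
theorem finrank_eigenspace_of_map (σ : F →+* F) (M : Mat) (u : F) (hu : u ≠ 0)
    (hM : M.map σ = u • M) (μ : F) :
    finrank F (Module.End.eigenspace (Matrix.toLin' M) μ) =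
      finrank F (Module.End.eigenspace (Matrix.toLin' M) (σ μ * u⁻¹)) := by
  classical
  have hσinj : Function.Injective σ := σ.injective
  have hσsurj : Function.Surjective σ := Finite.surjective_of_injective hσinj
  apply finrank_eq_of_bij _ _ (fun v => σ ∘ v)
  · intro v w hvw
    funext j
    exact hσinj (congrFun hvw j)
  · intro v hv
    rw [mem_eigenspace_toLin'] at hv ⊢
    have h1 : ∀ i, (M.map σ *ᵥ (σ ∘ v)) i = σ ((M *ᵥ v) i) := fun i =>
      (RingHom.map_mulVec σ M v i).symm
    have h2 : M.map σ *ᵥ (σ ∘ v) = σ μ • (σ ∘ v) := by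
      funext i
      rw [h1, hv]
      simp
    rw [hM, Matrix.smul_mulVec] at h2
    have h3 : M *ᵥ (σ ∘ v) = u⁻¹ • (u • (M *ᵥ (σ ∘ v))) := by
      rw [smul_smul, inv_mul_cancel₀ hu, one_smul]
    rw [h3, h2, smul_smul, mul_comm]
  · intro w hw
    rw [mem_eigenspace_toLin'] at hw
    choose τ hτ using hσsurj
    refine ⟨fun j => τ (w j), ?_, ?_⟩
    · rw [mem_eigenspace_toLin']
      set v : Fin n → F := fun j => τ (w j) with hv
      have hσv : σ ∘ v = w := by
        funext j
        simp [hv, hτ]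
      have h1 : ∀ i, (M.map σ *ᵥ (σ ∘ v)) i = σ ((M *ᵥ v) i) := fun i =>
        (RingHom.map_mulVec σ M v i).symm
      funext i
      apply hσinj
      rw [← h1, hσv, hM, Matrix.smul_mulVec, hw, smul_smul]
      simp only [Pi.smul_apply, smul_eq_mul, map_mul]
      have : σ (v i) = w i := by simp [hv, hτ]
      rw [this, mul_comm (σ μ), ← mul_assoc, mul_inv_cancel₀ hu, one_mul]
    · funext j
      simp [hτ]

/-- Conjugate matrices have eigenspaces of the same dimension. -/
theorem finrank_eigenspace_conj (A B B' : Mat) (h1 : B * B' = 1) (h2 : B' * B = 1) (μ : F) :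
    finrank F (Module.End.eigenspace (Matrix.toLin' (B' * A * B)) μ) =
      finrank F (Module.End.eigenspace (Matrix.toLin' A) μ) := by
  apply finrank_eq_of_bij _ _ (fun v => B *ᵥ v)
  · intro v w hvw
    have h3 : B' *ᵥ (B *ᵥ v) = B' *ᵥ (B *ᵥ w) := congrArg _ hvw
    rwa [Matrix.mulVec_mulVec, Matrix.mulVec_mulVec, h2, Matrix.one_mulVec,
      Matrix.one_mulVec] at h3
  · intro v hv
    rw [mem_eigenspace_toLin'] at hv ⊢
    have h3 : A *ᵥ (B *ᵥ v) = B *ᵥ ((B' * A * B) *ᵥ v) := by
      rw [Matrix.mulVec_mulVec, Matrix.mulVec_mulVec, ← Matrix.mul_assoc, ← Matrix.mul_assoc, h1,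
        Matrix.one_mul]
    rw [h3, hv, Matrix.mulVec_smul]
  · intro u hu
    rw [mem_eigenspace_toLin'] at hu
    refine ⟨B' *ᵥ u, ?_, ?_⟩
    · rw [mem_eigenspace_toLin', Matrix.mulVec_mulVec, Matrix.mul_assoc, Matrix.mul_assoc, h1,
        Matrix.mul_one, ← Matrix.mulVec_mulVec, hu, Matrix.mulVec_smul]
    · rw [Matrix.mulVec_mulVec, h1, Matrix.one_mulVec]

/-- **Frobenius criterion.** If a conjugate of `x` lies in the subfield subgroup of `F₀`
(`|F₀| = Q = p ^ e`), then for some `w ≠ 0` the eigenspace dimensions of `x` are invariant under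
`μ ↦ μ ^ Q * w`. -/
theorem eigen_crit {p : ℕ} [Fact p.Prime] [CharP F p] (F₀ : Subfield F) (Q e : ℕ)
    (hF₀ : Nat.card F₀ = Q) (hQ : Q = p ^ e)
    (x P : Matrix.SpecialLinearGroup (Fin n) F)
    (hP : P⁻¹ * x * P ∈ (Cfsg.Geo.subfieldSubgroup F₀ (1 : GL (Fin n) F)).comap
      (Matrix.SpecialLinearGroup.toGL : Matrix.SpecialLinearGroup (Fin n) F →* GL (Fin n) F)) :
    ∃ w : F, w ≠ 0 ∧ ∀ μ : F,
      finrank F (Module.End.eigenspace (Matrix.toLin' (x : Mat)) μ) =
        finrank F (Module.End.eigenspace (Matrix.toLin' (x : Mat)) (μ ^ Q * w)) := by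
  classical
  rw [Subgroup.mem_comap, mem_subfieldSubgroup_one_iff] at hP
  obtain ⟨c, hc0, hent⟩ := hP
  rw [Matrix.SpecialLinearGroup.coe_GL_coe_matrix] at hent
  choose a ha hMa using hent
  set M : Mat := ((P⁻¹ * x * P : Matrix.SpecialLinearGroup (Fin n) F) : Mat) with hM
  set σ : F →+* F := iterateFrobenius F p e with hσ
  have hσa : ∀ b : F, σ b = b ^ Q := by
    intro b
    rw [hσ, iterateFrobenius_def, hQ]
  have hσc0 : σ c ≠ 0 := by
    rw [hσa]
    exact pow_ne_zero _ hc0
  set u : F := σ c * c⁻¹ with hu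
  have hu0 : u ≠ 0 := mul_ne_zero hσc0 (inv_ne_zero hc0)
  have hmap : M.map σ = u • M := by
    ext i j
    rw [Matrix.map_apply, Matrix.smul_apply, smul_eq_mul, hMa i j, map_mul, hσa (a i j),
      Cfsg.Agent.H9USub.pow_eq_of_mem F₀ hF₀ (ha i j), hu]
    field_simp
  have hconj : ∀ μ : F, finrank F (Module.End.eigenspace (Matrix.toLin' M) μ) =
      finrank F (Module.End.eigenspace (Matrix.toLin' (x : Mat)) μ) := by
    intro μ
    have h1 : (P : Mat) * ((P⁻¹ : Matrix.SpecialLinearGroup (Fin n) F) : Mat) = 1 := by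
      rw [← Matrix.SpecialLinearGroup.coe_mul, mul_inv_cancel, Matrix.SpecialLinearGroup.coe_one]
    have h2 : ((P⁻¹ : Matrix.SpecialLinearGroup (Fin n) F) : Mat) * (P : Mat) = 1 := by
      rw [← Matrix.SpecialLinearGroup.coe_mul, inv_mul_cancel, Matrix.SpecialLinearGroup.coe_one]
    have h3 : M = ((P⁻¹ : Matrix.SpecialLinearGroup (Fin n) F) : Mat) * (x : Mat) * (P : Mat) := by
      rw [hM, Matrix.SpecialLinearGroup.coe_mul, Matrix.SpecialLinearGroup.coe_mul]
    rw [h3]
    exact finrank_eigenspace_conj (x : Mat) (P : Mat) _ h1 h2 μ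
  refine ⟨u⁻¹, inv_ne_zero hu0, ?_⟩
  intro μ
  rw [← hconj μ, ← hconj (μ ^ Q * u⁻¹), ← hσa μ]
  exact finrank_eigenspace_of_map σ M u hu0 hmap μ

end crit

end Cfsg.Agent.Lib.Helper6.SubF
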