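import Cfsg.Agent.Lib.Helper8.Th24_ALG
import Cfsg.Agent.Lib.Helper8.Th24_SUM

set_option autoImplicit false

/-! # S1632 PK-IND: n-dimensional Gaussian Poisson summation by induction on the dimension -/

namespace Cfsg.Agent.Lib.Helper6.Theta24

open Matrix Complex Real

namespace PkInd

/-! one-dimensional formula (own copy, so that this file does not wait for PK-1D) -/
theorem mul_cpow_half (a : ℝ) (ha : 0 < a) (t : ℂ) (ht : t ≠ 0) :
    (t * (a : ℂ)) ^ (1 / 2 : ℂ) = t ^ (1 / 2 : ℂ) * ((a ^ (1 / 2 : ℝ) : ℝ) : ℂ) := by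
  have ha' : (a : ℂ) ≠ 0 := by exact_mod_cast ha.ne'
  rw [mul_comm t, Complex.cpow_def_of_ne_zero (mul_ne_zero ha' ht), Complex.log_ofReal_mul ha ht,
    add_mul, Complex.exp_add, ← Complex.cpow_def_of_ne_zero ht, mul_comm]
  congr 1
  rw [Complex.ofReal_cpow ha.le, Complex.cpow_def_of_ne_zero ha', Complex.ofReal_log ha.le]
  push_cast
  rfl

theorem one_dim_aux (a : ℝ) (ha : 0 < a) (t : ℂ) (ht : 0 < t.re) (w : ℂ) :
    ∑' x : ℤ, cexp (-π * (t * a) * (x : ℂ) ^ 2 + 2 * π * I * w * x)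
      = 1 / (t ^ (1 / 2 : ℂ) * ((a ^ (1 / 2 : ℝ) : ℝ) : ℂ)) *
        ∑' m : ℤ, cexp (-π / (t * a) * ((m : ℂ) - w) ^ 2) := by
  have ht' : t ≠ 0 := by intro h; rw [h] at ht; simp at ht
  have hre : 0 < (t * (a : ℂ)).re := by
    simp only [Complex.mul_re, Complex.ofReal_re, Complex.ofReal_im, mul_zero, sub_zero]
    exact mul_pos ht ha
  have h := Complex.tsum_exp_neg_quadratic hre (I * w)
  rw [mul_cpow_half a ha t ht'] at h
  have e1 : ∀ x : ℤ, cexp (-π * (t * a) * (x : ℂ) ^ 2 + 2 * π * I * w * x) =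
      cexp (-π * (t * a) * (x : ℂ) ^ 2 + 2 * π * (I * w) * x) := by
    intro x; congr 1; ring
  have e2 : ∀ m : ℤ, cexp (-π / (t * a) * ((m : ℂ) - w) ^ 2) =
      cexp (-π / (t * a) * ((m : ℂ) + I * (I * w)) ^ 2) := by
    intro m; congr 2
    rw [← mul_assoc, Complex.I_mul_I]; ring
  rw [tsum_congr e1, tsum_congr e2, h]




theorem pd_inv {n : ℕ} (A A' : Matrix (Fin n) (Fin n) ℝ) (hinv : A * A' = 1) (hpos : PD A) :
    PD A' := by
  intro m hm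
  have h1 : A *ᵥ (A' *ᵥ m) = m := by
    rw [Matrix.mulVec_mulVec, hinv, Matrix.one_mulVec]
  have h2 : A' *ᵥ m ≠ 0 := by
    intro h0
    rw [h0, Matrix.mulVec_zero] at h1
    exact hm h1.symm
  have h3 := hpos _ h2
  unfold qf at h3 ⊢
  rw [h1, dotProduct_comm] at h3
  exact h3

/-- norm of the basic term -/
theorem norm_term (t : ℂ) (r s : ℝ) :
    ‖cexp (-π * t * (r : ℂ) + 2 * π * I * (s : ℂ))‖ = rexp (-(π * t.re) * r) := by
  rw [Complex.norm_exp]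
  congr 1
  simp [Complex.add_re, Complex.mul_re]

theorem norm_term' (t : ℂ) (r : ℝ) :
    ‖cexp (-π / t * (r : ℂ))‖ = rexp (-(π * (1 / t).re) * r) := by
  rw [Complex.norm_exp]
  congr 1
  have : (-π / t * (r : ℂ)) = -((π * r : ℝ) : ℂ) * (1 / t) := by
    push_cast; ring
  rw [this]
  simp only [Complex.neg_re, Complex.mul_re, Complex.ofReal_re, Complex.ofReal_im, Complex.neg_im]
  ring

theorem inv_re_pos (t : ℂ) (ht : 0 < t.re) : 0 < (1 / t).re := by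
  rw [one_div, Complex.inv_re]
  apply div_pos ht
  apply Complex.normSq_pos.mpr
  intro h; rw [h] at ht; simp at ht



theorem summable_one (c : ℝ) (hc : 0 < c) (u : ℝ) :
    Summable (fun m : ℤ => rexp (-c * ((m : ℝ) - u) ^ 2)) := by
  have hPD : PD (1 : Matrix (Fin 1) (Fin 1) ℝ) := by
    intro x hx
    have hx0 : x 0 ≠ 0 := by
      intro h0; apply hx; funext i; rw [Subsingleton.elim i 0, h0]; rfl
    unfold qf
    simp only [Matrix.one_mulVec, dotProduct, Fin.sum_univ_one]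
    exact mul_self_pos.mpr hx0
  have h := summable_gauss (1 : Matrix (Fin 1) (Fin 1) ℝ) hPD c hc (fun _ => u)
  have h2 := ((Equiv.funUnique (Fin 1) ℤ).symm.summable_iff).mpr h
  refine h2.congr ?_
  intro m
  simp only [Function.comp, qf, Matrix.one_mulVec, dotProduct, Fin.sum_univ_one]
  congr 1
  simp [Equiv.funUnique]
  left
  ring

theorem rv_cons {n : ℕ} (x₀ : ℤ) (y : Fin n → ℤ) :
    rv (Fin.cons x₀ y : Fin (n + 1) → ℤ) = Fin.cons (x₀ : ℝ) (rv y) := by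
  funext i
  refine Fin.cases ?_ (fun j => ?_) i <;> simp [rv]





/-- the left-hand term -/
noncomputable def Fterm {n : ℕ} (A : Matrix (Fin n) (Fin n) ℝ) (t : ℂ) (w : Fin n → ℝ)
    (x : Fin n → ℤ) : ℂ :=
  cexp (-π * t * (qf A (rv x) : ℝ) + 2 * π * I * ∑ i, (x i : ℂ) * (w i : ℂ))

/-- the right-hand term -/
noncomputable def Rterm {n : ℕ} (A' : Matrix (Fin n) (Fin n) ℝ) (t : ℂ) (w : Fin n → ℝ)
    (m : Fin n → ℤ) : ℂ :=
  cexp (-π / t * (qf A' (fun i => (m i : ℝ) - w i) : ℝ))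

theorem norm_Fterm {n : ℕ} (A : Matrix (Fin n) (Fin n) ℝ) (t : ℂ) (w : Fin n → ℝ)
    (x : Fin n → ℤ) : ‖Fterm A t w x‖ = rexp (-(π * t.re) * qf A (rv x)) := by
  unfold Fterm
  have : (∑ i, (x i : ℂ) * (w i : ℂ)) = ((∑ i, (x i : ℝ) * w i : ℝ) : ℂ) := by push_cast; rfl
  rw [this, norm_term]

theorem summable_Fterm {n : ℕ} (A : Matrix (Fin n) (Fin n) ℝ) (hpos : PD A) (t : ℂ) (ht : 0 < t.re)
    (w : Fin n → ℝ) : Summable (Fterm A t w) := by
  apply Summable.of_norm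
  have h := summable_gauss A hpos (π * t.re) (by positivity) 0
  refine h.congr ?_
  intro x
  rw [norm_Fterm]
  simp only [Pi.zero_apply, sub_zero]
  rfl





theorem inner_sum {n : ℕ} (A : Matrix (Fin (n + 1)) (Fin (n + 1)) ℝ) (hA : A.IsSymm) (hpos : PD A)
    (t : ℂ) (ht : 0 < t.re) (w : Fin (n + 1) → ℝ) (y : Fin n → ℤ) :
    ∑' x₀ : ℤ, Fterm A t w (Fin.cons x₀ y) =
      1 / (t ^ (1 / 2 : ℂ) * ((piv A ^ (1 / 2 : ℝ) : ℝ) : ℂ)) *
        ∑' m₀ : ℤ, cexp (-π / (t * (piv A : ℂ)) * ((m₀ : ℂ) - (w 0 : ℂ)) ^ 2) *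
          Fterm (schur A) t (fun j => w j.succ + ((m₀ : ℝ) - w 0) / piv A * brow A j) y := by
  have ha := piv_pos A hpos
  have ha' : (piv A : ℂ) ≠ 0 := by exact_mod_cast ha.ne'
  have ht' : t ≠ 0 := by intro h; rw [h] at ht; simp at ht
  set a := piv A with hadef
  set β : ℝ := brow A ⬝ᵥ rv y with hβ
  set qS : ℝ := qf (schur A) (rv y) with hqS
  set K : ℂ := cexp (-π * t * ((qS + β ^ 2 / a : ℝ) : ℂ) + 2 * π * I * ∑ j, (y j : ℂ) * (w j.succ : ℂ)) with hK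
  set W : ℂ := (w 0 : ℂ) + I * t * (β : ℂ) with hW
  have key1 : ∀ x₀ : ℤ, Fterm A t w (Fin.cons x₀ y) =
      K * cexp (-π * (t * a) * (x₀ : ℂ) ^ 2 + 2 * π * I * W * x₀) := by
    intro x₀
    unfold Fterm
    rw [hK, ← Complex.exp_add]
    congr 1
    rw [rv_cons, qf_cons A hA hpos, Fin.sum_univ_succ]
    simp only [Fin.cons_zero, Fin.cons_succ]
    rw [← hβ, ← hqS, ← hadef, hW]
    push_cast
    linear_combination (-2 * π * t * β * x₀) * I_sq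
  have hβsum : ∀ μ : ℝ, (∑ j, (y j : ℂ) * ((w j.succ + μ / a * brow A j : ℝ) : ℂ)) =
      (∑ j, (y j : ℂ) * (w j.succ : ℂ)) + (μ : ℂ) / a * (β : ℂ) := by
    intro μ
    rw [hβ]
    simp only [dotProduct, rv]
    push_cast
    rw [Finset.mul_sum, ← Finset.sum_add_distrib]
    apply Finset.sum_congr rfl
    intro j _
    ring
  have key2 : ∀ m₀ : ℤ, K * cexp (-π / (t * a) * ((m₀ : ℂ) - W) ^ 2) =
      cexp (-π / (t * (a : ℂ)) * ((m₀ : ℂ) - (w 0 : ℂ)) ^ 2) *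
          Fterm (schur A) t (fun j => w j.succ + ((m₀ : ℝ) - w 0) / a * brow A j) y := by
    intro m₀
    unfold Fterm
    rw [hK, ← Complex.exp_add, ← Complex.exp_add]
    congr 1
    rw [hβsum, ← hqS, hW]
    push_cast
    field_simp
    linear_combination (-(t ^ 2 * (β : ℂ) ^ 2)) * I_sq
  calc ∑' x₀ : ℤ, Fterm A t w (Fin.cons x₀ y)
      = ∑' x₀ : ℤ, K * cexp (-π * (t * a) * (x₀ : ℂ) ^ 2 + 2 * π * I * W * x₀) :=
        tsum_congr key1
    _ = K * ∑' x₀ : ℤ, cexp (-π * (t * a) * (x₀ : ℂ) ^ 2 + 2 * π * I * W * x₀) := tsum_mul_left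
    _ = K * (1 / (t ^ (1 / 2 : ℂ) * ((a ^ (1 / 2 : ℝ) : ℝ) : ℂ)) *
        ∑' m : ℤ, cexp (-π / (t * a) * ((m : ℂ) - W) ^ 2)) := by rw [one_dim_aux a ha t ht W]
    _ = 1 / (t ^ (1 / 2 : ℂ) * ((a ^ (1 / 2 : ℝ) : ℝ) : ℂ)) *
        ∑' m : ℤ, K * cexp (-π / (t * a) * ((m : ℂ) - W) ^ 2) := by
        rw [tsum_mul_left]; ring
    _ = _ := by rw [tsum_congr key2]




theorem rterm_cons {n : ℕ} (A A' : Matrix (Fin (n + 1)) (Fin (n + 1)) ℝ) (hA : A.IsSymm)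
    (hA' : A'.IsSymm) (hinv : A * A' = 1) (hpos : PD A) (t : ℂ) (ht : t ≠ 0)
    (w : Fin (n + 1) → ℝ) (m₀ : ℤ) (m' : Fin n → ℤ) :
    cexp (-π / (t * (piv A : ℂ)) * ((m₀ : ℂ) - (w 0 : ℂ)) ^ 2) *
      Rterm (lower A') t (fun j => w j.succ + ((m₀ : ℝ) - w 0) / piv A * brow A j) m' =
    Rterm A' t w (Fin.cons m₀ m') := by
  have ha := piv_pos A hpos
  have ha' : (piv A : ℂ) ≠ 0 := by exact_mod_cast ha.ne'
  unfold Rterm
  have h1 : (fun i => ((Fin.cons m₀ m' : Fin (n + 1) → ℤ) i : ℝ) - w i) =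
      Fin.cons ((m₀ : ℝ) - w 0) (fun j => (m' j : ℝ) - w j.succ) := by
    funext i
    refine Fin.cases ?_ (fun j => ?_) i <;> simp
  rw [h1, qf_inv_cons A A' hA hA' hinv hpos]
  have h2 : (fun j => (m' j : ℝ) - w j.succ - ((m₀ : ℝ) - w 0) / piv A * brow A j) =
      (fun j => (m' j : ℝ) - (w j.succ + ((m₀ : ℝ) - w 0) / piv A * brow A j)) := by
    funext j; ring
  rw [h2, ← Complex.exp_add]
  congr 1
  generalize qf (lower A') _ = q
  push_cast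
  field_simp
  ring



theorem norm_Rterm {n : ℕ} (A' : Matrix (Fin n) (Fin n) ℝ) (t : ℂ) (w : Fin n → ℝ)
    (m : Fin n → ℤ) :
    ‖Rterm A' t w m‖ = rexp (-(π * (1 / t).re) * qf A' (fun i => (m i : ℝ) - w i)) := by
  unfold Rterm
  rw [norm_term']

theorem summable_Rterm {n : ℕ} (A' : Matrix (Fin n) (Fin n) ℝ) (hpos : PD A') (t : ℂ)
    (ht : 0 < t.re) (w : Fin n → ℝ) : Summable (Rterm A' t w) := by
  apply Summable.of_norm
  have h := summable_gauss A' hpos (π * (1 / t).re) (mul_pos pi_pos (inv_re_pos t ht)) w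
  refine h.congr ?_
  intro x
  rw [norm_Rterm]

/-- base case -/
theorem gp_zero (A A' : Matrix (Fin 0) (Fin 0) ℝ) (t : ℂ) (w : Fin 0 → ℝ) :
    ∑' x : Fin 0 → ℤ, Fterm A t w x = ∑' m : Fin 0 → ℤ, Rterm A' t w m := by
  rw [tsum_eq_single (0 : Fin 0 → ℤ) (fun b hb => absurd (Subsingleton.elim b 0) hb),
    tsum_eq_single (0 : Fin 0 → ℤ) (fun b hb => absurd (Subsingleton.elim b 0) hb)]
  simp [Fterm, Rterm, qf, dotProduct]

/-- the mixed family after the first one-dimensional step -/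
noncomputable def Hterm {n : ℕ} (A : Matrix (Fin (n + 1)) (Fin (n + 1)) ℝ) (t : ℂ)
    (w : Fin (n + 1) → ℝ) (y : Fin n → ℤ) (m₀ : ℤ) : ℂ :=
  cexp (-π / (t * (piv A : ℂ)) * ((m₀ : ℂ) - (w 0 : ℂ)) ^ 2) *
    Fterm (schur A) t (fun j => w j.succ + ((m₀ : ℝ) - w 0) / piv A * brow A j) y

theorem norm_Hterm {n : ℕ} (A : Matrix (Fin (n + 1)) (Fin (n + 1)) ℝ) (t : ℂ)
    (w : Fin (n + 1) → ℝ) (y : Fin n → ℤ) (m₀ : ℤ) :
    ‖Hterm A t w y m₀‖ = rexp (-(π * (1 / (t * (piv A : ℂ))).re) * ((m₀ : ℝ) - w 0) ^ 2) *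
      rexp (-(π * t.re) * qf (schur A) (rv y)) := by
  unfold Hterm
  rw [norm_mul, norm_Fterm]
  congr 1
  have := norm_term' (t * (piv A : ℂ)) (((m₀ : ℝ) - w 0) ^ 2)
  rw [← this]
  push_cast
  rfl

theorem summable_Hterm {n : ℕ} (A : Matrix (Fin (n + 1)) (Fin (n + 1)) ℝ) (hA : A.IsSymm)
    (hpos : PD A) (t : ℂ) (ht : 0 < t.re) (w : Fin (n + 1) → ℝ) :
    Summable (Function.uncurry (Hterm A t w)) := by
  have ha := piv_pos A hpos
  apply Summable.of_norm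
  have hre : 0 < (t * (piv A : ℂ)).re := by
    simp only [Complex.mul_re, Complex.ofReal_re, Complex.ofReal_im, mul_zero, sub_zero]
    exact mul_pos ht ha
  have h1 : Summable (fun y : Fin n → ℤ => rexp (-(π * t.re) * qf (schur A) (rv y))) := by
    have h := summable_gauss (schur A) (schur_pd A hA hpos) (π * t.re) (by positivity) 0
    refine h.congr ?_
    intro x
    simp only [Pi.zero_apply, sub_zero]
    rfl
  have h2 : Summable (fun m₀ : ℤ =>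
      rexp (-(π * (1 / (t * (piv A : ℂ))).re) * ((m₀ : ℝ) - w 0) ^ 2)) :=
    summable_one _ (mul_pos pi_pos (inv_re_pos _ hre)) _
  have h3 := summable_mul_of_summable_norm (f := fun y : Fin n → ℤ => rexp (-(π * t.re) * qf (schur A) (rv y)))
    (g := fun m₀ : ℤ => rexp (-(π * (1 / (t * (piv A : ℂ))).re) * ((m₀ : ℝ) - w 0) ^ 2))
    h1.norm h2.norm
  refine h3.congr ?_
  rintro ⟨y, m₀⟩
  simp only [Function.uncurry_apply_pair]
  rw [norm_Hterm]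
  ring



theorem gp_aux : ∀ (n : ℕ) (A A' : Matrix (Fin n) (Fin n) ℝ), A.IsSymm → A'.IsSymm → A * A' = 1 →
    PD A → ∃ c : ℝ, 0 < c ∧ ∀ t : ℂ, 0 < t.re → ∀ w : Fin n → ℝ,
      ∑' x : Fin n → ℤ, Fterm A t w x =
        (c : ℂ) * (1 / t ^ (1 / 2 : ℂ)) ^ n * ∑' m : Fin n → ℤ, Rterm A' t w m := by
  intro n
  induction n with
  | zero =>
    intro A A' _ _ _ _
    refine ⟨1, one_pos, ?_⟩
    intro t _ w
    rw [gp_zero A A' t w]
    simp
  | succ n ih =>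
    intro A A' hA hA' hinv hpos
    have ha := piv_pos A hpos
    obtain ⟨cS, hcS, hS⟩ := ih (schur A) (lower A') (schur_symm A hA) (lower_symm A' hA')
      (schur_mul_lower A A' hA hA' hinv hpos) (schur_pd A hA hpos)
    refine ⟨cS * (piv A ^ (1 / 2 : ℝ))⁻¹, by positivity, ?_⟩
    intro t ht w
    have ht' : t ≠ 0 := by intro h; rw [h] at ht; simp at ht
    have hsF := summable_Fterm A hpos t ht w
    have hsR := summable_Rterm A' (pd_inv A A' hinv hpos) t ht w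
    -- reindex the left side
    let e2 : (Fin n → ℤ) × ℤ ≃ (Fin (n + 1) → ℤ) :=
      (Equiv.prodComm _ _).trans (Fin.consEquiv (fun _ => ℤ))
    have he2 : ∀ y x₀, e2 (y, x₀) = Fin.cons x₀ y := fun _ _ => rfl
    let e1 : ℤ × (Fin n → ℤ) ≃ (Fin (n + 1) → ℤ) := Fin.consEquiv (fun _ => ℤ)
    have he1 : ∀ m₀ m', e1 (m₀, m') = Fin.cons m₀ m' := fun _ _ => rfl
    have hL : ∑' x, Fterm A t w x = ∑' y : Fin n → ℤ, ∑' x₀ : ℤ, Fterm A t w (Fin.cons x₀ y) := by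
      have := Summable.tsum_prod (f := fun p => Fterm A t w (e2 p)) (e2.summable_iff.mpr hsF)
      rw [← e2.tsum_eq (Fterm A t w), this]
      rfl
    have hR : ∑' m, Rterm A' t w m =
        ∑' m₀ : ℤ, ∑' m' : Fin n → ℤ, Rterm A' t w (Fin.cons m₀ m') := by
      have := Summable.tsum_prod (f := fun p => Rterm A' t w (e1 p)) (e1.summable_iff.mpr hsR)
      rw [← e1.tsum_eq (Rterm A' t w), this]
      rfl
    rw [hL, hR]
    -- inner sums
    have h1 : ∀ y : Fin n → ℤ, ∑' x₀ : ℤ, Fterm A t w (Fin.cons x₀ y) =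
        1 / (t ^ (1 / 2 : ℂ) * ((piv A ^ (1 / 2 : ℝ) : ℝ) : ℂ)) * ∑' m₀ : ℤ, Hterm A t w y m₀ :=
      fun y => inner_sum A hA hpos t ht w y
    rw [tsum_congr h1, tsum_mul_left]
    have hsH := summable_Hterm A hA hpos t ht w
    have hcomm : ∑' (y : Fin n → ℤ) (m₀ : ℤ), Hterm A t w y m₀ =
        ∑' (m₀ : ℤ) (y : Fin n → ℤ), Hterm A t w y m₀ := (Summable.tsum_comm hsH).symm
    rw [hcomm]
    have h2 : ∀ m₀ : ℤ, ∑' y : Fin n → ℤ, Hterm A t w y m₀ =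
        (cS : ℂ) * (1 / t ^ (1 / 2 : ℂ)) ^ n * ∑' m' : Fin n → ℤ, Rterm A' t w (Fin.cons m₀ m') := by
      intro m₀
      unfold Hterm
      rw [tsum_mul_left, hS t ht, ← mul_assoc, mul_comm (cexp _), mul_assoc, ← tsum_mul_left]
      congr 1
      apply tsum_congr
      intro m'
      exact rterm_cons A A' hA hA' hinv hpos t ht' w m₀ m'
    rw [tsum_congr h2, tsum_mul_left]
    have hne1 : t ^ (1 / 2 : ℂ) ≠ 0 := by
      rw [Ne, Complex.cpow_eq_zero_iff]; tauto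
    have hne2 : ((piv A ^ (1 / 2 : ℝ) : ℝ) : ℂ) ≠ 0 := by
      exact_mod_cast (Real.rpow_pos_of_pos ha _).ne'
    rw [pow_succ]
    push_cast
    field_simp


end PkInd

/-- **n-dimensional Gaussian Poisson summation** (PK-IND) -/
theorem gauss_poisson {n : ℕ} (A A' : Matrix (Fin n) (Fin n) ℝ) (hA : A.IsSymm) (hA' : A'.IsSymm)
    (hinv : A * A' = 1) (hpos : PD A) :
    ∃ c : ℝ, 0 < c ∧ ∀ t : ℂ, 0 < t.re → ∀ w : Fin n → ℝ,
      ∑' x : Fin n → ℤ, cexp (-π * t * (qf A (rv x) : ℝ) + 2 * π * I * ∑ i, (x i : ℂ) * (w i : ℂ))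
        = (c : ℂ) * (1 / t ^ (1 / 2 : ℂ)) ^ n *
          ∑' m : Fin n → ℤ, cexp (-π / t * (qf A' (fun i => (m i : ℝ) - w i) : ℝ)) := by
  obtain ⟨c, hc, h⟩ := PkInd.gp_aux n A A' hA hA' hinv hpos
  exact ⟨c, hc, fun t ht w => h t ht w⟩

end Cfsg.Agent.Lib.Helper6.Theta24
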