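import Mathlib
import Cfsg.Agent.Lib.Helper7.SubgDefs
import Cfsg.Agent.S0801
import Cfsg.Agent.Lib.Helper5.Subf_F

/-!
# Abstract Dickson transport (helper6)

`X Y : Matrix ι ι F` with `X² = Y² = 0`, `XYX = lam • X`, `YXY = lam • Y`, `lam ≠ 0`.  Then
`e₁₀ = X`, `e₀₁ = lam⁻¹ • Y`, `e₁₁ = lam⁻¹ • XY`, `e₀₀ = lam⁻¹ • YX` are matrix units and
`adRho X Y lam : Mat₂(F) → Matₙ(F)` is multiplicative with `[[1,0],[1,1]] ↦ 1 + X`,
`[[1,lam],[0,1]] ↦ 1 + Y`.  By Dickson's theorem (`S0801`), if `2 ≠ 0`, `lam² ≠ -1` and a subgroup `M`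
of `GL ι F` contains `1 + X` and `1 + Y` then it contains `1 + c • X` and `1 + c • Y` for every `c` in the
prime-field closure `𝔽_p(lam)`.  (Generalises helper5's `Subf_F.dickson_transport`, which is the rank-one case.)
-/

set_option autoImplicit false

namespace Cfsg.Agent.Lib.Helper6.AbsDickson

open Matrix Cfsg.Agent.Lib.Helper7.Subg

variable {F : Type*} [Field F] {ι : Type*} [Fintype ι] [DecidableEq ι]

/-- the transport map `Mat₂(F) → Mat_ι(F)` attached to `X, Y, lam` -/
def adRho (X Y : Matrix ι ι F) (lam : F) (A : Matrix (Fin 2) (Fin 2) F) : Matrix ι ι F :=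
  1 + ((A 0 0 - 1) • (lam⁻¹ • (Y * X)) + A 0 1 • (lam⁻¹ • Y) + A 1 0 • X +
    (A 1 1 - 1) • (lam⁻¹ • (X * Y)))

theorem adRho_one (X Y : Matrix ι ι F) (lam : F) : adRho X Y lam 1 = 1 := by
  simp [adRho]

theorem adRho_mul (X Y : Matrix ι ι F) (lam : F) (hne : lam ≠ 0)
    (hXX : X * X = 0) (hYY : Y * Y = 0) (hXYX : X * Y * X = lam • X) (hYXY : Y * X * Y = lam • Y)
    (A B : Matrix (Fin 2) (Fin 2) F) :
    adRho X Y lam (A * B) = adRho X Y lam A * adRho X Y lam B := by
  have e1 : Y * X * (Y * X) = lam • (Y * X) := by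
    rw [← Matrix.mul_assoc, hYXY, Matrix.smul_mul]
  have e2 : Y * X * Y = lam • Y := hYXY
  have e3 : Y * X * X = 0 := by rw [Matrix.mul_assoc, hXX, Matrix.mul_zero]
  have e4 : Y * X * (X * Y) = 0 := by
    rw [← Matrix.mul_assoc, Matrix.mul_assoc Y X X, hXX, Matrix.mul_zero, Matrix.zero_mul]
  have e5 : Y * (Y * X) = 0 := by rw [← Matrix.mul_assoc, hYY, Matrix.zero_mul]
  have e6 : Y * (X * Y) = lam • Y := by rw [← Matrix.mul_assoc, hYXY]
  have e7 : X * (Y * X) = lam • X := by rw [← Matrix.mul_assoc, hXYX]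
  have e8 : X * (X * Y) = 0 := by rw [← Matrix.mul_assoc, hXX, Matrix.zero_mul]
  have e9 : X * Y * (Y * X) = 0 := by
    rw [← Matrix.mul_assoc, Matrix.mul_assoc X Y Y, hYY, Matrix.mul_zero, Matrix.zero_mul]
  have e10 : X * Y * Y = 0 := by rw [Matrix.mul_assoc, hYY, Matrix.mul_zero]
  have e11 : X * Y * X = lam • X := hXYX
  have e12 : X * Y * (X * Y) = lam • (X * Y) := by
    rw [← Matrix.mul_assoc, hXYX, Matrix.smul_mul]
  simp only [adRho, Matrix.mul_apply, Fin.sum_univ_two]
  simp only [mul_add, add_mul, mul_one, one_mul, Matrix.smul_mul, Matrix.mul_smul,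
    e1, e2, e3, e4, e5, e6, e7, e8, e9, e10, e11, e12, hXX, hYY, smul_zero, add_zero, zero_add,
    smul_smul]
  have h1 : lam⁻¹ * lam = 1 := inv_mul_cancel₀ hne
  have h2 : lam⁻¹ * (lam⁻¹ * lam) = lam⁻¹ := by rw [h1, mul_one]
  match_scalars <;> field_simp <;> ring

/-- **Abstract Dickson transport.** -/
theorem abs_dickson [Fintype F] (h2 : (2 : F) ≠ 0) (M : Subgroup (GL ι F)) (X Y : Matrix ι ι F) (lam : F)
    (hXX : X * X = 0) (hYY : Y * Y = 0) (hXYX : X * Y * X = lam • X) (hYXY : Y * X * Y = lam • Y)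
    (hM1 : Mm M (1 + X)) (hM2 : Mm M (1 + Y)) (hne : lam ≠ 0) (hsq : lam ^ 2 ≠ -1) :
    ∀ A : Matrix.SpecialLinearGroup (Fin 2) (Subfield.closure ({lam} : Set F)),
      Mm M (adRho X Y lam ((A : Matrix (Fin 2) (Fin 2) (Subfield.closure ({lam} : Set F))).map
          (Subfield.closure ({lam} : Set F)).subtype)) := by
  classical
  have : Fintype (Subfield.closure ({lam} : Set F)) := Fintype.ofFinite _
  have h2E : (2 : Subfield.closure ({lam} : Set F)) ≠ 0 := by
    intro h
    apply h2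
    have := congrArg ((Subfield.closure ({lam} : Set F)).subtype) h
    rw [map_ofNat, map_zero] at this
    exact this
  have hlam'0 : (⟨lam, Subfield.subset_closure rfl⟩ : Subfield.closure ({lam} : Set F)) ≠ 0 := by
    intro h
    apply hne
    have := congrArg ((Subfield.closure ({lam} : Set F)).subtype) h
    simpa using this
  have hgen := Cfsg.Agent.Lib.Helper7.Subf.pf_closure_top lam
  rcases Cfsg.Agent.S0801.result h2E _ hlam'0 hgen with ⟨htop, -⟩ | ⟨-, hbad, -⟩
  · intro A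
    have hA : A ∈ Subgroup.closure
        {g : Matrix.SpecialLinearGroup (Fin 2) (Subfield.closure ({lam} : Set F)) |
        (g : Matrix (Fin 2) (Fin 2) (Subfield.closure ({lam} : Set F))) = !![1, 0; 1, 1] ∨
        (g : Matrix (Fin 2) (Fin 2) (Subfield.closure ({lam} : Set F))) =
          !![1, ⟨lam, Subfield.subset_closure rfl⟩; 0, 1]} := by rw [htop]; trivial
    induction hA using Subgroup.closure_induction with
    | mem g hg =>
      rcases hg with hg | hg
      · rw [hg]
        have : adRho X Y lam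
            ((!![1, 0; 1, 1] : Matrix (Fin 2) (Fin 2) (Subfield.closure ({lam} : Set F))).map
              (Subfield.closure ({lam} : Set F)).subtype) = 1 + X := by
          simp [adRho]
        rw [this]; exact hM1
      · rw [hg]
        have : adRho X Y lam
            ((!![1, ⟨lam, Subfield.subset_closure rfl⟩; 0, 1] :
              Matrix (Fin 2) (Fin 2) (Subfield.closure ({lam} : Set F))).map
              (Subfield.closure ({lam} : Set F)).subtype) = 1 + Y := by
          simp [adRho, smul_smul, mul_inv_cancel₀ hne]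
        rw [this]; exact hM2
    | one =>
      have : ((1 : Matrix.SpecialLinearGroup (Fin 2) (Subfield.closure ({lam} : Set F))) :
          Matrix (Fin 2) (Fin 2) (Subfield.closure ({lam} : Set F))).map
            (Subfield.closure ({lam} : Set F)).subtype = 1 := by
        rw [Matrix.SpecialLinearGroup.coe_one]
        exact Matrix.map_one _ (map_zero _) (map_one _)
      rw [this, adRho_one]; exact Mm.one M
    | mul g h _ _ ihg ihh =>
      rw [Matrix.SpecialLinearGroup.coe_mul, Matrix.map_mul,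
        adRho_mul X Y lam hne hXX hYY hXYX hYXY]
      exact ihg.mul ihh
    | inv g _ ihg =>
      apply ihg.inv_of_mul_eq_one
      rw [← adRho_mul X Y lam hne hXX hYY hXYX hYXY, ← Matrix.map_mul,
        ← Matrix.SpecialLinearGroup.coe_mul, mul_inv_cancel, Matrix.SpecialLinearGroup.coe_one,
        Matrix.map_one _ (map_zero _) (map_one _), adRho_one]
  · exfalso
    apply hsq
    have := congrArg ((Subfield.closure ({lam} : Set F)).subtype) hbad
    simpa using this

/-- `1 + c • X ∈ M` for all `c ∈ 𝔽_p(lam)` -/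
theorem abs_dickson_left [Fintype F] (h2 : (2 : F) ≠ 0) (M : Subgroup (GL ι F)) (X Y : Matrix ι ι F)
    (lam : F) (hXX : X * X = 0) (hYY : Y * Y = 0) (hXYX : X * Y * X = lam • X)
    (hYXY : Y * X * Y = lam • Y) (hM1 : Mm M (1 + X)) (hM2 : Mm M (1 + Y)) (hne : lam ≠ 0)
    (hsq : lam ^ 2 ≠ -1) (c : F) (hc : c ∈ Subfield.closure ({lam} : Set F)) :
    Mm M (1 + c • X) := by
  have hdet : (!![1, 0; (⟨c, hc⟩ : Subfield.closure ({lam} : Set F)), 1] :
      Matrix (Fin 2) (Fin 2) (Subfield.closure ({lam} : Set F))).det = 1 := by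
    rw [Matrix.det_fin_two_of]; simp
  have := abs_dickson h2 M X Y lam hXX hYY hXYX hYXY hM1 hM2 hne hsq ⟨_, hdet⟩
  have e : adRho X Y lam
      ((!![1, 0; (⟨c, hc⟩ : Subfield.closure ({lam} : Set F)), 1] :
        Matrix (Fin 2) (Fin 2) (Subfield.closure ({lam} : Set F))).map
          (Subfield.closure ({lam} : Set F)).subtype) = 1 + c • X := by
    simp [adRho]
  rw [← e]
  exact this

/-- `1 + c • Y ∈ M` for all `c ∈ 𝔽_p(lam)` -/
theorem abs_dickson_right [Fintype F] (h2 : (2 : F) ≠ 0) (M : Subgroup (GL ι F)) (X Y : Matrix ι ι F)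
    (lam : F) (hXX : X * X = 0) (hYY : Y * Y = 0) (hXYX : X * Y * X = lam • X)
    (hYXY : Y * X * Y = lam • Y) (hM1 : Mm M (1 + X)) (hM2 : Mm M (1 + Y)) (hne : lam ≠ 0)
    (hsq : lam ^ 2 ≠ -1) (c : F) (hc : c ∈ Subfield.closure ({lam} : Set F)) :
    Mm M (1 + c • Y) :=
  abs_dickson_left h2 M Y X lam hYY hXX hYXY hXYX hM2 hM1 hne hsq c hc

end Cfsg.Agent.Lib.Helper6.AbsDickson
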