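import Mathlib
import Cfsg.Agent.Lib.Helper6.AbsDickson
import Cfsg.Agent.Lib.Helper2.ReflGen

/-!
# Dickson transport for Siegel (long root) elements of an orthogonal group (helper6)

For totally singular pairs `(u,w)`, `(x,y)` of a quadratic form `Q`, the nilpotent parts
`X = siegelX Q u w`, `Y = siegelX Q x y` of the long root elements
`siegelMatrix Q u w c = 1 + c • siegelX Q u w` satisfy `X² = Y² = 0`, `XYX = lam • X`, `YXY = lam • Y`
with `lam = f(u,y) f(w,x) - f(u,x) f(w,y)`.  Hence (abstract Dickson transport) a subgroup containing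
`siegelMatrix Q u w 1` and `siegelMatrix Q x y 1` contains `siegelMatrix Q u w c` for all `c ∈ 𝔽_p(lam)`
(`2 ≠ 0`, `lam ≠ 0`, `lam² ≠ -1`).
-/

set_option autoImplicit false

namespace Cfsg.Agent.Lib.Helper6.AbsDickson

open Matrix Cfsg.Agent.Lib.Helper7.Subg Cfsg.Agent.Lib.Helper2.ReflGen

variable {F : Type*} [Field F] {ι : Type} [Fintype ι] [DecidableEq ι]

/-- the nilpotent part of the long root elements `T_{u,v}(c) = 1 + c • siegelX Q u v` -/
def siegelX (Q : QuadraticForm F (ι → F)) (u v : ι → F) : Matrix ι ι F :=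
  Matrix.vecMulVec v (Cfsg.polarVec (⇑Q) u) - Matrix.vecMulVec u (Cfsg.polarVec (⇑Q) v)

theorem siegelMatrix_eq (Q : QuadraticForm F (ι → F)) (u v : ι → F) (c : F) :
    Cfsg.siegelMatrix (⇑Q) u v c = 1 + c • siegelX Q u v := rfl

/-- the Dickson parameter of two totally singular pairs -/
def siegelLam (Q : QuadraticForm F (ι → F)) (u w x y : ι → F) : F :=
  QuadraticMap.polar (⇑Q) u y * QuadraticMap.polar (⇑Q) w x -
    QuadraticMap.polar (⇑Q) u x * QuadraticMap.polar (⇑Q) w y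

theorem vmv_polarVec_mul (Q : QuadraticForm F (ι → F)) (a b c d : ι → F) :
    Matrix.vecMulVec a (Cfsg.polarVec (⇑Q) b) * Matrix.vecMulVec c (Cfsg.polarVec (⇑Q) d) =
      QuadraticMap.polar (⇑Q) b c • Matrix.vecMulVec a (Cfsg.polarVec (⇑Q) d) := by
  rw [vmv_mul, polarVec_dot]

theorem siegelX_sq (Q : QuadraticForm F (ι → F)) (u w : ι → F) (hu : Q u = 0) (hw : Q w = 0)
    (huw : QuadraticMap.polar (⇑Q) u w = 0) : siegelX Q u w * siegelX Q u w = 0 := by
  have huu : QuadraticMap.polar (⇑Q) u u = 0 := by rw [polar_self, hu, mul_zero]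
  have hww : QuadraticMap.polar (⇑Q) w w = 0 := by rw [polar_self, hw, mul_zero]
  have hwu : QuadraticMap.polar (⇑Q) w u = 0 := by rw [QuadraticMap.polar_comm]; exact huw
  unfold siegelX
  simp only [mul_sub, sub_mul, vmv_polarVec_mul, huu, hww, huw, hwu, zero_smul, sub_zero]

theorem siegelX_mul3 (Q : QuadraticForm F (ι → F)) (u w x y : ι → F) :
    siegelX Q u w * siegelX Q x y * siegelX Q u w = siegelLam Q u w x y • siegelX Q u w := by
  have hxu : QuadraticMap.polar (⇑Q) x u = QuadraticMap.polar (⇑Q) u x := QuadraticMap.polar_comm _ _ _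
  have hyu : QuadraticMap.polar (⇑Q) y u = QuadraticMap.polar (⇑Q) u y := QuadraticMap.polar_comm _ _ _
  have hxw : QuadraticMap.polar (⇑Q) x w = QuadraticMap.polar (⇑Q) w x := QuadraticMap.polar_comm _ _ _
  have hyw : QuadraticMap.polar (⇑Q) y w = QuadraticMap.polar (⇑Q) w y := QuadraticMap.polar_comm _ _ _
  unfold siegelX siegelLam
  simp only [mul_sub, sub_mul, vmv_polarVec_mul, Matrix.smul_mul, Matrix.mul_smul, smul_sub, smul_smul,
    hxu, hyu, hxw, hyw]
  module

theorem siegelLam_swap (Q : QuadraticForm F (ι → F)) (u w x y : ι → F) :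
    siegelLam Q x y u w = siegelLam Q u w x y := by
  unfold siegelLam
  rw [QuadraticMap.polar_comm (⇑Q) x w, QuadraticMap.polar_comm (⇑Q) y u,
    QuadraticMap.polar_comm (⇑Q) x u, QuadraticMap.polar_comm (⇑Q) y w]
  ring

/-- **Dickson transport for long root elements.** -/
theorem siegel_dickson [Fintype F] (h2 : (2 : F) ≠ 0) (Q : QuadraticForm F (ι → F))
    (M : Subgroup (GL ι F)) (u w x y : ι → F)
    (hu : Q u = 0) (hw : Q w = 0) (huw : QuadraticMap.polar (⇑Q) u w = 0)
    (hx : Q x = 0) (hy : Q y = 0) (hxy : QuadraticMap.polar (⇑Q) x y = 0)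
    (hM1 : Mm M (Cfsg.siegelMatrix (⇑Q) u w 1)) (hM2 : Mm M (Cfsg.siegelMatrix (⇑Q) x y 1))
    (hne : siegelLam Q u w x y ≠ 0) (hsq : siegelLam Q u w x y ^ 2 ≠ -1)
    (c : F) (hc : c ∈ Subfield.closure ({siegelLam Q u w x y} : Set F)) :
    Mm M (Cfsg.siegelMatrix (⇑Q) u w c) := by
  rw [siegelMatrix_eq]
  rw [siegelMatrix_eq, one_smul] at hM1 hM2
  refine abs_dickson_left h2 M (siegelX Q u w) (siegelX Q x y) (siegelLam Q u w x y)
    (siegelX_sq Q u w hu hw huw) (siegelX_sq Q x y hx hy hxy) (siegelX_mul3 Q u w x y) ?_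
    hM1 hM2 hne hsq c hc
  rw [siegelX_mul3, siegelLam_swap]

end Cfsg.Agent.Lib.Helper6.AbsDickson
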