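import Mathlib
import Cfsg.Agent.Lib.Helper2.AlpDefs
import Cfsg.Agent.Lib.Helper2.AlpBmod
import Cfsg.Agent.Lib.Helper9.AlpBnil

/-!
# S3782 (Alperin), package B-grp: the Nakayama step, group form (`lcs_step_of_agemo`)
-/

set_option autoImplicit false

namespace Cfsg.Agent.Lib.Helper6.AlpBgrp

open Cfsg.Agent.Lib.Helper2.Alp
open Cfsg.Agent.Lib.Helper9.AlpBnil
open scoped commutatorElement

/-- `(u-1)^k` is transported by an additive map intertwining `u` and `v`. -/
theorem bg_intertwine {A A' : Type*} [AddCommGroup A] [AddCommGroup A'] (f : A →+ A')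
    (u : AddMonoid.End A) (v : AddMonoid.End A') (h : ∀ a, f (u a) = v (f a)) (k : ℕ) (a : A) :
    f (((u - 1) ^ k) a) = ((v - 1) ^ k) (f a) := by
  induction k generalizing a with
  | zero => simp
  | succ k ih =>
    rw [pow_succ, pow_succ]
    show f (((u - 1) ^ k) ((u - 1) a)) = ((v - 1) ^ k) ((v - 1) (f a))
    rw [ih]
    congr 1
    show f (u a - a) = v (f a) - f a
    rw [map_sub, h]

/-- `u^k` is transported by an additive map intertwining `u` and `v`. -/
theorem bg_intertwine_pow {A A' : Type*} [AddCommGroup A] [AddCommGroup A'] (f : A →+ A')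
    (u : AddMonoid.End A) (v : AddMonoid.End A') (h : ∀ a, f (u a) = v (f a)) (k : ℕ) (a : A) :
    f ((u ^ k) a) = (v ^ k) (f a) := by
  induction k generalizing a with
  | zero => simp
  | succ k ih =>
    rw [pow_succ, pow_succ]
    show f ((u ^ k) (u a)) = (v ^ k) (v (f a))
    rw [ih, h]

/-- a `p`-element acts nilpotently modulo an invariant subgroup of index `≤ p^B`. -/
theorem bg_sub_one_pow_mem {A : Type*} [AddCommGroup A] [Finite A] {p : ℕ} [Fact p.Prime]
    (hA : ∃ k, Nat.card A = p ^ k) (M : AddSubgroup A) (u : AddMonoid.End A)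
    (hinv : ∀ a ∈ M, u a ∈ M) (j : ℕ) (hu : u ^ (p ^ j) = 1) (B : ℕ)
    (hidx : Nat.card A ≤ p ^ B * Nat.card M) (a : A) : ((u - 1) ^ B) a ∈ M := by
  have hp : p.Prime := Fact.out
  let v : AddMonoid.End (A ⧸ M) := QuotientAddGroup.map M M u (fun a ha => hinv a ha)
  have hint : ∀ a, (QuotientAddGroup.mk' M) (u a) = v ((QuotientAddGroup.mk' M) a) := fun a => rfl
  have hv : v ^ (p ^ j) = 1 := by
    have key : ∀ q, (v ^ (p ^ j)) q = q := by
      intro q
      obtain ⟨a, rfl⟩ := QuotientAddGroup.mk'_surjective M q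
      have h := bg_intertwine_pow (QuotientAddGroup.mk' M) u v hint (p ^ j) a
      rw [hu] at h
      exact h.symm
    exact DFunLike.ext _ _ key
  have hmul : Nat.card A = Nat.card (A ⧸ M) * Nat.card M :=
    AddSubgroup.card_eq_card_quotient_mul_card_addSubgroup M
  have hMpos : 0 < Nat.card M := Nat.card_pos
  have hcard : ∃ k, Nat.card (A ⧸ M) = p ^ k := by
    obtain ⟨k, hk⟩ := hA
    have hd : Nat.card (A ⧸ M) ∣ p ^ k := by
      rw [← hk, hmul]; exact dvd_mul_right _ _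
    obtain ⟨k', -, hk'⟩ := (Nat.dvd_prime_pow hp).1 hd
    exact ⟨k', hk'⟩
  have hle : Nat.card (A ⧸ M) ≤ p ^ B := by
    rw [hmul] at hidx
    exact Nat.le_of_mul_le_mul_right hidx hMpos
  have h0 := sub_one_pow_eq_zero hcard v j hv B hle
  have h1 := bg_intertwine (QuotientAddGroup.mk' M) u v hint B a
  rw [h0] at h1
  exact (QuotientAddGroup.eq_zero_iff _).1 h1

/-- a `p`-element acts nilpotently on an invariant subgroup of order `≤ p^B`. -/
theorem bg_sub_one_pow_eq_zero_on {A : Type*} [AddCommGroup A] [Finite A] {p : ℕ}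
    [Fact p.Prime] (hA : ∃ k, Nat.card A = p ^ k) (M : AddSubgroup A) (u : AddMonoid.End A)
    (hinv : ∀ a ∈ M, u a ∈ M) (j : ℕ) (hu : u ^ (p ^ j) = 1) (B : ℕ)
    (hcard : Nat.card M ≤ p ^ B) (a : A) (ha : a ∈ M) : ((u - 1) ^ B) a = 0 := by
  have hp : p.Prime := Fact.out
  let w : AddMonoid.End M :=
    (u.comp M.subtype).codRestrict M (fun x => hinv _ x.2)
  have hint : ∀ x : M, M.subtype (w x) = u (M.subtype x) := fun x => rfl
  have hw : w ^ (p ^ j) = 1 := by
    have key : ∀ x, (w ^ (p ^ j)) x = x := by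
      intro x
      apply Subtype.ext
      have h := bg_intertwine_pow M.subtype w u hint (p ^ j) x
      rw [hu] at h
      exact h
    exact DFunLike.ext _ _ key
  have hM : ∃ k, Nat.card M = p ^ k := by
    obtain ⟨k, hk⟩ := hA
    have hd : Nat.card M ∣ p ^ k := by
      rw [← hk]; exact AddSubgroup.card_addSubgroup_dvd_card M
    obtain ⟨k', -, hk'⟩ := (Nat.dvd_prime_pow hp).1 hd
    exact ⟨k', hk'⟩
  have h0 := sub_one_pow_eq_zero hM w j hw B hcard
  have h1 := bg_intertwine M.subtype w u hint B ⟨a, ha⟩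
  rw [h0] at h1
  exact h1.symm

/-- the Nakayama step for a finite abelian `p`-group with a set of operators of `p`-power order. -/
theorem bg_nakayama_fin {A : Type*} [AddCommGroup A] [Finite A] {p : ℕ} [Fact p.Prime]
    (hcA : ∃ k, Nat.card A = p ^ k) (M : AddSubgroup A) (N B s : ℕ) (U : Set (AddMonoid.End A))
    (hA : ∀ a : A, p ^ N • a ∈ M) (hM : ∀ a ∈ M, p ^ N • a = 0)
    (hUinv : ∀ u ∈ U, ∀ a ∈ M, u a ∈ M) (hUp : ∀ u ∈ U, ∃ j : ℕ, u ^ (p ^ j) = 1)
    (hidx : Nat.card A ≤ p ^ B * Nat.card M) (hcard : Nat.card M ≤ p ^ B)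
    (hgen : M ≤ AddSubgroup.closure {x | ∃ u ∈ U, ∃ a : A, x = (u ^ (p ^ s) - 1) a})
    (hs1 : 2 * B ≤ p ^ s) (hs2 : ∀ t, p ^ t < B → t + N + 1 ≤ s) : M = ⊥ := by
  refine nakayama_mod M N B s U hA hM ?_ ?_ hgen hs1 hs2
  · intro u hu a
    obtain ⟨j, hj⟩ := hUp u hu
    exact bg_sub_one_pow_mem hcA M u (hUinv u hu) j hj B hidx a
  · intro u hu a ha
    obtain ⟨j, hj⟩ := hUp u hu
    exact bg_sub_one_pow_eq_zero_on hcA M u (hUinv u hu) j hj B hcard a ha

/-- the additive endomorphism attached to an automorphism of a commutative group -/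
def bgEnd (C : Type*) [CommGroup C] : MulAut C →* AddMonoid.End (Additive C) where
  toFun e := MonoidHom.toAdditive (e : C →* C)
  map_one' := rfl
  map_mul' _ _ := rfl

theorem bgEnd_apply {C : Type*} [CommGroup C] (e : MulAut C) (a : Additive C) :
    bgEnd C e a = Additive.ofMul (e (Additive.toMul a)) := rfl

/-- the Nakayama step for a `p`-group `G` acting on a finite abelian `p`-group `C`. -/
theorem bg_comm_step {C : Type*} [CommGroup C] [Finite C] {G : Type*} [Group G] {p : ℕ}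
    [Fact p.Prime] (hC : IsPGroup p C) (hG : IsPGroup p G) (ρ : G →* MulAut C) (M : Subgroup C)
    (N B s : ℕ) (hA : ∀ c : C, c ^ (p ^ N) ∈ M) (hM : ∀ c ∈ M, c ^ (p ^ N) = 1)
    (hinv : ∀ g, ∀ c ∈ M, ρ g c ∈ M) (hidx : M.index ≤ p ^ B) (hcard : Nat.card M ≤ p ^ B)
    (hgen : ∀ c ∈ M, c ∈ Subgroup.closure {x | ∃ h ∈ agemo p s G, ∃ c : C, x = ρ h c / c})
    (hs1 : 2 * B ≤ p ^ s) (hs2 : ∀ t, p ^ t < B → t + N + 1 ≤ s) : M = ⊥ := by
  classical
  set U : Set (AddMonoid.End (Additive C)) := Set.range (fun g => bgEnd C (ρ g)) with hU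
  set T : AddSubgroup (Additive C) :=
    AddSubgroup.closure {x | ∃ u ∈ U, ∃ a : Additive C, x = (u ^ (p ^ s) - 1) a} with hT
  have hcA : ∃ k, Nat.card (Additive C) = p ^ k := (IsPGroup.iff_card (G := C)).1 hC
  -- the key claim
  have hclaim : ∀ h ∈ agemo p s G, ∀ a : Additive C, (bgEnd C (ρ h) - 1) a ∈ T := by
    intro h hh
    refine Subgroup.closure_induction (p := fun h _ => ∀ a : Additive C,
      (bgEnd C (ρ h) - 1) a ∈ T) ?_ ?_ ?_ ?_ hh
    · rintro x ⟨g, rfl⟩ a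
      apply AddSubgroup.subset_closure
      refine ⟨bgEnd C (ρ g), ⟨g, rfl⟩, a, ?_⟩
      rw [map_pow, map_pow]
    · intro a
      rw [map_one, map_one, sub_self]
      exact T.zero_mem
    · intro h1 h2 _ _ ih1 ih2 a
      have e : (bgEnd C (ρ (h1 * h2)) - 1) a
          = (bgEnd C (ρ h1) - 1) (bgEnd C (ρ h2) a) + (bgEnd C (ρ h2) - 1) a := by
        rw [map_mul, map_mul]
        show (bgEnd C (ρ h1)) ((bgEnd C (ρ h2)) a) - a
          = ((bgEnd C (ρ h1)) ((bgEnd C (ρ h2)) a) - (bgEnd C (ρ h2)) a)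
            + ((bgEnd C (ρ h2)) a - a)
        abel
      rw [e]
      exact T.add_mem (ih1 _) (ih2 _)
    · intro h1 _ ih a
      have e : (bgEnd C (ρ h1⁻¹) - 1) a = -((bgEnd C (ρ h1) - 1) (bgEnd C (ρ h1⁻¹) a)) := by
        have e1 : bgEnd C (ρ h1) (bgEnd C (ρ h1⁻¹) a) = a := by
          have : bgEnd C (ρ h1) * bgEnd C (ρ h1⁻¹) = 1 := by
            rw [← map_mul, ← map_mul, mul_inv_cancel, map_one, map_one]
          show (bgEnd C (ρ h1) * bgEnd C (ρ h1⁻¹)) a = a
          rw [this]; rfl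
        show (bgEnd C (ρ h1⁻¹)) a - a
          = -((bgEnd C (ρ h1)) ((bgEnd C (ρ h1⁻¹)) a) - (bgEnd C (ρ h1⁻¹)) a)
        rw [e1]; abel
      rw [e]
      exact T.neg_mem (ih _)
  have hgen' : Subgroup.toAddSubgroup M ≤ T := by
    intro a ha
    have hc : Additive.toMul a ∈ M := ha
    have h1 := hgen _ hc
    have key : ∀ c : C, c ∈ Subgroup.closure {x | ∃ h ∈ agemo p s G, ∃ c : C, x = ρ h c / c} →
        Additive.ofMul c ∈ T := by
      intro c hc
      refine Subgroup.closure_induction (p := fun c _ => Additive.ofMul c ∈ T) ?_ ?_ ?_ ?_ hc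
      · rintro x ⟨h, hh, c, rfl⟩
        exact hclaim h hh (Additive.ofMul c)
      · exact T.zero_mem
      · intro x y _ _ hx hy
        exact T.add_mem hx hy
      · intro x _ hx
        exact T.neg_mem hx
    exact key _ h1
  have hbot : Subgroup.toAddSubgroup M = ⊥ := by
    refine bg_nakayama_fin hcA (Subgroup.toAddSubgroup M) N B s U ?_ ?_ ?_ ?_ ?_ ?_ hgen' hs1 hs2
    · intro a
      exact hA (Additive.toMul a)
    · intro a ha
      exact hM (Additive.toMul a) ha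
    · rintro u ⟨g, rfl⟩ a ha
      exact hinv g (Additive.toMul a) ha
    · rintro u ⟨g, rfl⟩
      obtain ⟨j, hj⟩ := hG g
      refine ⟨j, ?_⟩
      show (bgEnd C (ρ g)) ^ (p ^ j) = 1
      rw [← map_pow, ← map_pow, hj, map_one, map_one]
    · have h1 : M.index * Nat.card M = Nat.card C := M.index_mul_card
      show Nat.card C ≤ p ^ B * Nat.card M
      rw [← h1]
      exact Nat.mul_le_mul_right _ hidx
    · exact hcard
  rw [eq_bot_iff]
  intro c hc
  have : Additive.ofMul c ∈ Subgroup.toAddSubgroup M := hc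
  rw [hbot] at this
  exact this

/-- (B-grp) the Nakayama step, group form. -/
theorem lcs_step_of_agemo {P : Type*} [Group P] [Finite P] {p : ℕ} [Fact p.Prime]
    (hP : IsPGroup p P) (s N B : ℕ) (X Y Z : Subgroup P) [X.Normal] [Y.Normal] [Z.Normal]
    (hZY : Z ≤ Y) (hYX : Y ≤ X) (hXX : ⁅X, X⁆ ≤ Z) (hY : ⁅X, agemo p s P⁆ = Y)
    (hZ : ⁅Y, agemo p s P⁆ ≤ Z)
    (hX1 : ∀ x ∈ X, x ^ (p ^ N) ∈ Y) (hY1 : ∀ y ∈ Y, y ^ (p ^ N) ∈ Z)
    (hXB : Y.relIndex X ≤ p ^ B) (hYB : Z.relIndex Y ≤ p ^ B)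
    (hs1 : 2 * B ≤ p ^ s) (hs2 : ∀ t, p ^ t < B → t + N + 1 ≤ s) : Y ≤ Z := by
  classical
  set f : P →* P ⧸ Z := QuotientGroup.mk' Z with hf
  have hfs : Function.Surjective f := QuotientGroup.mk'_surjective Z
  have hfker : f.ker = Z := QuotientGroup.ker_mk' Z
  set Xb : Subgroup (P ⧸ Z) := X.map f with hXb
  set Yb : Subgroup (P ⧸ Z) := Y.map f with hYb
  have hXbn : Xb.Normal := Subgroup.Normal.map inferInstance f hfs
  have hYbn : Yb.Normal := Subgroup.Normal.map inferInstance f hfs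
  have hYXb : Yb ≤ Xb := Subgroup.map_mono hYX
  have hcomm : ∀ a b : Xb, a * b = b * a := by
    rintro ⟨a, ha⟩ ⟨b, hb⟩
    obtain ⟨x, hx, rfl⟩ := ha
    obtain ⟨y, hy, rfl⟩ := hb
    apply Subtype.ext
    show f x * f y = f y * f x
    rw [← map_mul, ← map_mul]
    apply (QuotientGroup.eq).2
    have e : (x * y)⁻¹ * (y * x) = ⁅y⁻¹, x⁻¹⁆ := by
      simp [commutatorElement_def, mul_assoc]
    rw [e]
    exact hXX (Subgroup.commutator_mem_commutator (X.inv_mem hy) (X.inv_mem hx))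
  let _ : CommGroup Xb := { (inferInstance : Group Xb) with mul_comm := hcomm }
  have hXbp : IsPGroup p Xb := (hP.to_quotient Z).to_subgroup Xb
  set ρ : P →* MulAut Xb := (MulAut.conjNormal).comp f with hρ
  have hρa : ∀ (g : P) (c : Xb), ((ρ g c : Xb) : P ⧸ Z) = f g * c * (f g)⁻¹ := fun g c => rfl
  set M : Subgroup Xb := Yb.subgroupOf Xb with hM
  have hbot : M = ⊥ := by
    refine bg_comm_step hXbp hP ρ M N B s ?_ ?_ ?_ ?_ ?_ ?_ hs1 hs2
    · rintro ⟨c, hc⟩
      obtain ⟨x, hx, rfl⟩ := hc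
      show (f x) ^ (p ^ N) ∈ Yb
      rw [← map_pow]
      exact Subgroup.mem_map_of_mem f (hX1 x hx)
    · rintro ⟨c, hc⟩ hcM
      have hcY : c ∈ Yb := hcM
      obtain ⟨y, hy, rfl⟩ := hcY
      apply Subtype.ext
      show (f y) ^ (p ^ N) = 1
      rw [← map_pow]
      exact (QuotientGroup.eq_one_iff _).2 (hY1 y hy)
    · rintro g ⟨c, hc⟩ hcM
      have hcY : c ∈ Yb := hcM
      show ((ρ g ⟨c, hc⟩ : Xb) : P ⧸ Z) ∈ Yb
      rw [hρa]
      exact hYbn.conj_mem c hcY (f g)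
    · -- index
      show Yb.relIndex Xb ≤ p ^ B
      have h1 : Yb.relIndex Xb = (Yb.comap f).relIndex X := (Subgroup.relIndex_comap Yb f X).symm
      have h2 : Yb.comap f = Y := by
        rw [hYb, Subgroup.comap_map_eq, hfker]
        exact sup_eq_left.2 hZY
      rw [h1, h2]
      exact hXB
    · -- card
      have h0 : Nat.card M = Nat.card Yb :=
        Nat.card_congr (Subgroup.subgroupOfEquivOfLe hYXb).toEquiv
      have h1 : Nat.card Yb = (⊥ : Subgroup (P ⧸ Z)).relIndex Yb :=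
        (Subgroup.relIndex_bot_left Yb).symm
      have h2 : (⊥ : Subgroup (P ⧸ Z)).relIndex Yb = ((⊥ : Subgroup (P ⧸ Z)).comap f).relIndex Y :=
        (Subgroup.relIndex_comap ⊥ f Y).symm
      have h3 : (⊥ : Subgroup (P ⧸ Z)).comap f = Z := (MonoidHom.comap_bot f).trans hfker
      rw [h0, h1, h2, h3]
      exact hYB
    · -- generation
      set K : Subgroup Xb :=
        Subgroup.closure {x | ∃ h ∈ agemo p s P, ∃ c : Xb, x = ρ h c / c} with hK
      set S : Subgroup P := (K.map Xb.subtype).comap f with hS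
      have hYS : Y ≤ S := by
        rw [← hY, Subgroup.commutator_le]
        intro x hx h hh
        have hfx : f x ∈ Xb := Subgroup.mem_map_of_mem f hx
        show f ⁅x, h⁆ ∈ K.map Xb.subtype
        refine ⟨(ρ h ⟨f x, hfx⟩ / ⟨f x, hfx⟩)⁻¹, K.inv_mem (Subgroup.subset_closure
          ⟨h, hh, ⟨f x, hfx⟩, rfl⟩), ?_⟩
        show (((ρ h ⟨f x, hfx⟩ : Xb) : P ⧸ Z) / f x)⁻¹ = f ⁅x, h⁆
        rw [hρa, commutatorElement_def, map_mul, map_mul, map_mul, map_inv, map_inv,
          div_eq_mul_inv]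
        group
      rintro ⟨q, hq⟩ hqM
      have hqY : q ∈ Yb := hqM
      obtain ⟨y, hy, rfl⟩ := hqY
      obtain ⟨k, hk, hk2⟩ := hYS hy
      have : k = ⟨f y, hq⟩ := Subtype.ext hk2
      rw [← this]
      exact hk
  intro y hy
  have hfy : f y ∈ Xb := Subgroup.mem_map_of_mem f (hYX hy)
  have h1 : (⟨f y, hfy⟩ : Xb) ∈ M := Subgroup.mem_map_of_mem f hy
  rw [hbot, Subgroup.mem_bot] at h1
  have h2 : f y = 1 := congrArg Subtype.val h1
  exact (QuotientGroup.eq_one_iff _).1 h2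

end Cfsg.Agent.Lib.Helper6.AlpBgrp
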