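import Mathlib
import Cfsg.Agent.Lib.Helper2.AlpDefs
import Cfsg.Agent.Lib.Helper7.AlpF1

/-!
# S3782 (Alperin), package GP: Alperin's theorem for `p`-groups (`pgroup_bound`)
-/

set_option autoImplicit false

namespace Cfsg.Agent.Lib.Helper6.AlpGP

open Cfsg.Agent.Lib.Helper2.Alp
open Cfsg.Agent.Lib.Helper7.AlpF1
open scoped commutatorElement

/-- `℧_s` is mapped into itself by every endomorphism. -/
theorem gp_agemo_map_le {P : Type*} [Group P] (p s : ℕ) (φ : P →* P) :
    (agemo p s P).map φ ≤ agemo p s P := by
  unfold agemo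
  rw [MonoidHom.map_closure, Subgroup.closure_le]
  rintro _ ⟨_, ⟨g, rfl⟩, rfl⟩
  exact Subgroup.subset_closure ⟨φ g, (map_pow φ g _).symm⟩

instance gp_agemo_characteristic {P : Type*} [Group P] (p s : ℕ) :
    (agemo p s P).Characteristic :=
  Subgroup.characteristic_iff_map_le.2 fun φ => gp_agemo_map_le p s φ.toMonoidHom

theorem gp_pow_mem_agemo {P : Type*} [Group P] (p s : ℕ) (g : P) : g ^ (p ^ s) ∈ agemo p s P :=
  Subgroup.subset_closure ⟨g, rfl⟩

/-- a finite soluble group has derived length at most its order. -/
theorem gp_derivedSeries_card {G : Type*} [Group G] [Finite G] (hG : Group.IsSolvable G) (c : ℕ)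
    (hc : Nat.card G ≤ c) : derivedSeries G c = ⊥ := by
  have key : ∀ n, derivedSeries G n = ⊥ ∨ Nat.card (derivedSeries G n) + n ≤ Nat.card G := by
    intro n
    induction n with
    | zero =>
      right
      rw [derivedSeries_zero, Subgroup.card_top, add_zero]
    | succ n ih =>
      rcases ih with h | h
      · left
        rw [derivedSeries_succ, h, Subgroup.commutator_bot_left]
      · by_cases hbot : derivedSeries G n = ⊥
        · left
          rw [derivedSeries_succ, hbot, Subgroup.commutator_bot_left]
        · by_cases heq : derivedSeries G (n + 1) = derivedSeries G n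
          · exfalso
            have hall : ∀ j, derivedSeries G (n + j) = derivedSeries G n := by
              intro j
              induction j with
              | zero => rfl
              | succ j ihj =>
                rw [← add_assoc, derivedSeries_succ, ihj]
                exact heq
            obtain ⟨k, hk⟩ := hG.solvable
            apply hbot
            have h1 : derivedSeries G (n + k) ≤ derivedSeries G k :=
              derivedSeries_antitone G (Nat.le_add_left k n)
            rw [hall k, hk] at h1
            exact le_bot_iff.1 h1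
          · right
            have hle : derivedSeries G (n + 1) ≤ derivedSeries G n :=
              derivedSeries_antitone G (Nat.le_succ n)
            have hlt : Nat.card (derivedSeries G (n + 1)) < Nat.card (derivedSeries G n) := by
              rcases lt_or_eq_of_le (Subgroup.card_le_of_le hle) with h1 | h1
              · exact h1
              · exact absurd (Subgroup.eq_of_le_of_card_ge hle h1.ge) heq
            omega
  rcases key c with h | h
  · exact h
  · exfalso
    have : 0 < Nat.card (derivedSeries G c) := Nat.card_pos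
    omega

/-- derived length of an extension -/
theorem gp_derivedSeries_ext {G : Type*} [Group G] (N : Subgroup G) [N.Normal] (a b : ℕ)
    (ha : derivedSeries (G ⧸ N) a = ⊥) (hb : derivedSeries N b = ⊥) :
    derivedSeries G (a + b) = ⊥ := by
  have h1 : derivedSeries G a ≤ N := by
    have h2 : (derivedSeries G a).map (QuotientGroup.mk' N) = ⊥ := by
      rw [map_derivedSeries_eq (QuotientGroup.mk'_surjective N), ha]
    rw [Subgroup.map_eq_bot_iff, QuotientGroup.ker_mk'] at h2
    exact h2
  have h3 : ∀ k, derivedSeries G (a + k) ≤ (derivedSeries N k).map N.subtype := by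
    intro k
    induction k with
    | zero =>
      rw [add_zero, derivedSeries_zero, ← MonoidHom.range_eq_map, Subgroup.range_subtype]
      exact h1
    | succ k ih =>
      rw [← add_assoc, derivedSeries_succ, derivedSeries_succ, Subgroup.map_commutator]
      exact Subgroup.commutator_mono ih ih
  have h4 := h3 b
  rw [hb, Subgroup.map_bot] at h4
  exact le_bot_iff.1 h4

/-- a subgroup of class at most `k` has derived length at most `k` -/
theorem gp_derivedSeries_of_lcs {G : Type*} [Group G] (H : Subgroup G) (k : ℕ)
    (h : H.lowerCentralSeries k = ⊥) : derivedSeries H k = ⊥ := by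
  have h1 : (Subgroup.lowerCentralSeries (⊤ : Subgroup H) k).map H.subtype = ⊥ := by
    rw [Subgroup.top_subtype_lowerCentralSeries, h]
  have h2 : Subgroup.lowerCentralSeries (⊤ : Subgroup H) k = ⊥ :=
    (Subgroup.map_eq_bot_iff_of_injective _ H.subtype_injective).1 h1
  have h3 := Subgroup.derived_le_lower_central (G := H) k
  rw [h2] at h3
  exact le_bot_iff.1 h3

/-- powers of the automorphism induced on a quotient -/
theorem gp_congr_pow {P : Type*} [Group P] (H : Subgroup P) [H.Normal] (α : P ≃* P)
    (hH : H.map (α : P →* P) = H) (k : ℕ) (x : P) :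
    ((QuotientGroup.congr H H α hH) ^ k) (x : P ⧸ H) = (((α ^ k) x : P) : P ⧸ H) := by
  induction k generalizing x with
  | zero => rfl
  | succ k ih =>
    rw [pow_succ, pow_succ, MulAut.mul_apply, MulAut.mul_apply, QuotientGroup.congr_mk, ih]

/-- (GP) **Alperin's theorem for `p`-groups** (with Khukhro's structure), from GB and GC (stated at
universe `0` as hypotheses). -/
theorem pgroup_bound_of (p : ℕ) [Fact p.Prime] (m : ℕ)
    (hGB : ∀ (P : Type) [Group P] [Finite P], IsPGroup p P → ∀ α : P ≃* P, α ^ p = 1 →
      Nat.card {g : P // α g = g} ≤ p ^ m → ∀ s : ℕ,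
      (m + xi p + 2) + p * m * (m + xi p + 2) + 1 ≤ s →
      (agemo p s P).lowerCentralSeries (xi p + 2) = ⊥)
    (hGC : ∀ (Q : Type) [Group Q] [Finite Q], IsPGroup p Q → ∀ α : Q ≃* Q, α ^ p = 1 →
      Nat.card {g : Q // α g = g} ≤ p ^ m → ∀ s : ℕ, (∀ g : Q, g ^ (p ^ s) = 1) →
      Nat.card Q ≤ p ^ (p * m * s) * (p ^ (p * m * s)).factorial) :
    ∃ l : ℕ, ∀ (P : Type) [Group P] [Finite P], IsPGroup p P → ∀ α : P ≃* P, α ^ p = 1 →
      Nat.card {g : P // α g = g} ≤ p ^ m → derivedSeries P l = ⊥ := by
  set s : ℕ := (m + xi p + 2) + p * m * (m + xi p + 2) + 1 with hs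
  set c : ℕ := p ^ (p * m * s) * (p ^ (p * m * s)).factorial with hc
  refine ⟨c + (xi p + 2), ?_⟩
  intro P _ _ hP α hα hfix
  have hHα : (agemo p s P).map (α : P →* P) = agemo p s P :=
    Subgroup.characteristic_iff_map_eq.1 inferInstance α
  -- the quotient
  have hQ : IsPGroup p (P ⧸ agemo p s P) := hP.to_quotient _
  have hαQ : (QuotientGroup.congr (agemo p s P) (agemo p s P) α hHα) ^ p = 1 := by
    apply MulEquiv.ext
    intro q
    obtain ⟨x, rfl⟩ := QuotientGroup.mk_surjective q
    rw [gp_congr_pow, hα]
    rfl
  have hfixQ : Nat.card {q : P ⧸ agemo p s P //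
      QuotientGroup.congr (agemo p s P) (agemo p s P) α hHα q = q} ≤ p ^ m :=
    (Cfsg.Agent.Lib.Helper7.AlpF1.card_fixed_quotient_le α (agemo p s P) hHα).trans hfix
  have hexp : ∀ q : P ⧸ agemo p s P, q ^ (p ^ s) = 1 := by
    intro q
    obtain ⟨x, rfl⟩ := QuotientGroup.mk_surjective q
    rw [← QuotientGroup.mk_pow]
    exact (QuotientGroup.eq_one_iff _).2 (gp_pow_mem_agemo p s x)
  have hcard : Nat.card (P ⧸ agemo p s P) ≤ c :=
    hGC _ hQ _ hαQ hfixQ s hexp
  have hnil : Group.IsNilpotent (P ⧸ agemo p s P) := hQ.isNilpotent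
  have ha : derivedSeries (P ⧸ agemo p s P) c = ⊥ :=
    gp_derivedSeries_card inferInstance c hcard
  have hb : derivedSeries (agemo p s P) (xi p + 2) = ⊥ :=
    gp_derivedSeries_of_lcs _ _ (hGB P hP α hα hfix s le_rfl)
  exact gp_derivedSeries_ext (agemo p s P) c (xi p + 2) ha hb

end Cfsg.Agent.Lib.Helper6.AlpGP
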