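import Mathlib
import Cfsg.Agent.Lib.Helper2.AlpDefs
import Cfsg.Agent.Lib.Helper6.AlpGP
import Cfsg.Agent.Lib.Helper5.AlpGB
import Cfsg.Agent.Lib.Helper7.AlpGA2
import Cfsg.Agent.Lib.Helper9.AlpGC

/-!
# S3782 (Alperin), package GP, exact form: Alperin's theorem for `p`-groups (`pgroup_bound`)
-/

set_option autoImplicit false

namespace Cfsg.Agent.Lib.Helper6.AlpGP

open Cfsg.Agent.Lib.Helper2.Alp

/-- (GP) **Alperin's theorem for `p`-groups** (with Khukhro's structure). -/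
theorem pgroup_bound (p : ℕ) [Fact p.Prime] (m : ℕ) :
    ∃ l : ℕ, ∀ (P : Type) [Group P] [Finite P], IsPGroup p P → ∀ α : P ≃* P, α ^ p = 1 →
      Nat.card {g : P // α g = g} ≤ p ^ m → derivedSeries P l = ⊥ :=
  pgroup_bound_of p m
    (fun _ _ _ hP α hα hfix s hs =>
      Cfsg.Agent.Lib.Helper5.AlpGB.agemo_nilpotent_of Cfsg.Agent.Lib.Helper7.AlpGA.l3Statement
        hP α hα m hfix s hs)
    (fun _ _ _ hQ α hα hfix s hexp =>
      Cfsg.Agent.Lib.Helper9.AlpGC.card_le_of_exponent_group hQ α hα m hfix s hexp)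

end Cfsg.Agent.Lib.Helper6.AlpGP
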