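import Mathlib
import Cfsg.Prelude.Def_Amalgam
import Cfsg.Prelude.Def_LocalStructure
import Cfsg.Agent.Lib.Helper6.Amalgam4
import Cfsg.Agent.Lib.Helper6.PRes
import Cfsg.Agent.S2750

set_option autoImplicit false

namespace Cfsg.Agent.Lib.Helper6

open Cfsg
open scoped commutatorElement

section Graph

variable {X : Type*} [Group X] {M₁ M₂ : Subgroup X}

/-- Walks can be translated by group elements, keeping their length. -/
theorem exists_walk_smul (g : X) {a b : CosetVertex M₁ M₂} (w : (cosetGraph M₁ M₂).Walk a b) :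
    ∃ w' : (cosetGraph M₁ M₂).Walk (g • a) (g • b), w'.length = w.length := by
  induction w with
  | nil => exact ⟨SimpleGraph.Walk.nil, rfl⟩
  | cons hadj _ ih =>
    obtain ⟨w', hw'⟩ := ih
    exact ⟨SimpleGraph.Walk.cons (cosetGraph_adj_smul g hadj) w', by simp [hw']⟩

theorem cosetGraph_dist_smul (g : X) (a b : CosetVertex M₁ M₂) :
    (cosetGraph M₁ M₂).dist (g • a) (g • b) = (cosetGraph M₁ M₂).dist a b := by
  rw [SimpleGraph.dist_eq_sInf, SimpleGraph.dist_eq_sInf]
  congr 1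
  ext n
  constructor
  · rintro ⟨w, rfl⟩
    have h := exists_walk_smul g⁻¹ w
    rw [inv_smul_smul, inv_smul_smul] at h
    obtain ⟨w', hw'⟩ := h
    exact ⟨w', hw'⟩
  · rintro ⟨w, rfl⟩
    obtain ⟨w', hw'⟩ := exists_walk_smul g w
    exact ⟨w', hw'⟩


theorem vertexZ_le_vertexVIter (p : ℕ) (n : ℕ) {δ μ : CosetVertex M₁ M₂}
    (h : (cosetGraph M₁ M₂).dist δ μ ≤ n) : vertexZ p μ ≤ vertexVIter p M₁ M₂ n δ := by
  unfold vertexVIter
  exact le_iSup (fun μ : {μ : CosetVertex M₁ M₂ // (cosetGraph M₁ M₂).dist δ μ ≤ n} =>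
    vertexZ p (μ : CosetVertex M₁ M₂)) ⟨μ, h⟩

theorem vertexVIter_le_iff (p : ℕ) (n : ℕ) (δ : CosetVertex M₁ M₂) (K : Subgroup X) :
    vertexVIter p M₁ M₂ n δ ≤ K ↔
      ∀ μ : CosetVertex M₁ M₂, (cosetGraph M₁ M₂).dist δ μ ≤ n → vertexZ p μ ≤ K := by
  unfold vertexVIter
  rw [iSup_le_iff]
  constructor
  · intro h μ hμ
    exact h ⟨μ, hμ⟩
  · intro h μ
    exact h μ.1 μ.2

theorem vertexZ_self_le_vertexVIter (p : ℕ) (n : ℕ) (δ : CosetVertex M₁ M₂) :
    vertexZ p δ ≤ vertexVIter p M₁ M₂ n δ :=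
  vertexZ_le_vertexVIter p n (by rw [SimpleGraph.dist_self]; exact Nat.zero_le n)

theorem vertexVIter_map_conj_le (p : ℕ) (n : ℕ) (g : X) (δ : CosetVertex M₁ M₂) :
    (vertexVIter p M₁ M₂ n δ).map (MulAut.conj g).toMonoidHom ≤ vertexVIter p M₁ M₂ n (g • δ) := by
  rw [Subgroup.map_le_iff_le_comap, vertexVIter_le_iff]
  intro μ hμ
  rw [← Subgroup.map_le_iff_le_comap, ← vertexZ_smul]
  apply vertexZ_le_vertexVIter
  rw [cosetGraph_dist_smul]
  exact hμ

theorem vertexVIter_smul (p : ℕ) (n : ℕ) (g : X) (δ : CosetVertex M₁ M₂) :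
    vertexVIter p M₁ M₂ n (g • δ) = (vertexVIter p M₁ M₂ n δ).map (MulAut.conj g).toMonoidHom := by
  apply le_antisymm _ (vertexVIter_map_conj_le p n g δ)
  have h := vertexVIter_map_conj_le p n g⁻¹ (g • δ)
  rw [inv_smul_smul] at h
  have h2 := Subgroup.map_mono (f := (MulAut.conj g).toMonoidHom) h
  rwa [map_conj_map_conj, mul_inv_cancel, map_conj_one] at h2

theorem stabilizer_le_normalizer_vertexVIter (p : ℕ) (n : ℕ) (δ : CosetVertex M₁ M₂) :
    MulAction.stabilizer X δ ≤ Subgroup.normalizer (vertexVIter p M₁ M₂ n δ : Set X) := by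
  intro g hg
  apply mem_normalizer_of_map_conj_eq_self
  rw [← vertexVIter_smul, MulAction.mem_stabilizer_iff.mp hg]

theorem vertexVIter_mono (p : ℕ) {k m : ℕ} (hkm : k ≤ m) (δ : CosetVertex M₁ M₂) :
    vertexVIter p M₁ M₂ k δ ≤ vertexVIter p M₁ M₂ m δ := by
  rw [vertexVIter_le_iff]
  intro μ hμ
  exact vertexZ_le_vertexVIter p m (hμ.trans hkm)

theorem vertexVIter_le_adj (p : ℕ) (hconn : (cosetGraph M₁ M₂).Connected) (k : ℕ)
    {δ μ : CosetVertex M₁ M₂} (hadj : (cosetGraph M₁ M₂).Adj δ μ) :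
    vertexVIter p M₁ M₂ k δ ≤ vertexVIter p M₁ M₂ (k + 1) μ := by
  rw [vertexVIter_le_iff]
  intro ν hν
  apply vertexZ_le_vertexVIter
  have h1 : (cosetGraph M₁ M₂).dist μ ν ≤ (cosetGraph M₁ M₂).dist μ δ + (cosetGraph M₁ M₂).dist δ ν :=
    hconn.dist_triangle
  have h2 : (cosetGraph M₁ M₂).dist μ δ = 1 := SimpleGraph.dist_eq_one_iff_adj.mpr hadj.symm
  omega

end Graph


section Misc

variable {X : Type*} [Group X]

theorem le_normalizer_of_commutator_le {U R : Subgroup X} (h : ⁅U, R⁆ ≤ U) :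
    R ≤ Subgroup.normalizer (U : Set X) := by
  intro r hr
  have key : ∀ s ∈ R, ∀ u ∈ U, s * u * s⁻¹ ∈ U := by
    intro s hs u hu
    have h1 : ⁅u⁻¹, s⁆ ∈ ⁅U, R⁆ := Subgroup.commutator_mem_commutator (U.inv_mem hu) hs
    have h2 : ⁅u⁻¹, s⁆ ∈ U := h h1
    have h3 : s * u * s⁻¹ = u * ⁅u⁻¹, s⁆ := by
      rw [commutatorElement_def]; group
    rw [h3]
    exact U.mul_mem hu h2
  rw [Subgroup.mem_normalizer_iff]
  intro u
  constructor
  · exact key r hr u
  · intro hu
    have := key r⁻¹ (R.inv_mem hr) _ hu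
    have e : r⁻¹ * (r * u * r⁻¹) * r⁻¹⁻¹ = u := by group
    rwa [e] at this

/-- `O^{p'}(H) ≤ O^p(O^{p'}(H)) T` for a Sylow `p`-subgroup `T` of the finite subgroup `H`. -/
theorem pElementClosure_le_pResidual_sup {p : ℕ} [Fact p.Prime] {H T : Subgroup X} [Finite H]
    (hT : IsSylowOf p H T) :
    pElementClosure p H ≤
      ((pResidual p ↥(pElementClosure p H)).map (pElementClosure p H).subtype) ⊔ T := by
  have hfinL : Finite (pElementClosure p H) :=
    Finite.of_injective (Subgroup.inclusion (pElementClosure_le p H))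
      (Subgroup.inclusion_injective _)
  have hTL : IsSylowOf p (pElementClosure p H) T :=
    hT.of_le (le_pElementClosure_of_isPGroup hT.1 hT.2.1) (pElementClosure_le p H)
  obtain ⟨S, hS⟩ := hTL.exists_sylow
  have h1 := pResidual_sup_sylow S
  have h2 : ((pResidual p ↥(pElementClosure p H)) ⊔ (S : Subgroup ↥(pElementClosure p H))).map
      (pElementClosure p H).subtype = pElementClosure p H := by
    rw [h1, ← MonoidHom.range_eq_map, Subgroup.range_subtype]
  rw [Subgroup.map_sup, hS] at h2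
  exact h2.ge

end Misc

section Vertex2

variable {X : Type*} [Group X] {M₁ M₂ : Subgroup X}

theorem exists_adj (δ : CosetVertex M₁ M₂) : ∃ μ, (cosetGraph M₁ M₂).Adj δ μ := by
  rcases vertex_cases δ with ⟨x, rfl⟩ | ⟨x, rfl⟩
  · exact ⟨_, cosetGraph_adj_inl_inr x⟩
  · exact ⟨_, (cosetGraph_adj_inl_inr x).symm⟩

theorem omegaZ_ne_bot {p : ℕ} [Fact p.Prime] {T : Subgroup X} [Finite T] (hT : IsPGroup p T)
    (hne : T ≠ ⊥) : omegaZ p T ≠ ⊥ := by
  have hp : p.Prime := Fact.out
  have hnt : Nontrivial T := (Subgroup.nontrivial_iff_ne_bot T).mpr hne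
  have hc : Nontrivial (Subgroup.center T) := hT.center_nontrivial
  have hdvd : p ∣ Nat.card (Subgroup.center T) := by
    obtain ⟨k, hk⟩ := (hT.to_subgroup (Subgroup.center T)).exists_card_eq
    have hk0 : k ≠ 0 := by
      rintro rfl
      rw [pow_zero] at hk
      have : Subsingleton (Subgroup.center T) := (Nat.card_eq_one_iff_unique.mp hk).1
      exact not_subsingleton _ this
    rw [hk]
    exact dvd_pow_self p hk0
  obtain ⟨z, hz⟩ := exists_prime_orderOf_dvd_card' p hdvd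
  intro hbot
  have hzmem : ((z : T) : X) ∈ omegaZ p T := by
    unfold omegaZ omegaOne
    apply Subgroup.subset_closure
    refine ⟨Subgroup.mem_inf.mpr ⟨(z : T).2, ?_⟩, ?_⟩
    · rw [Subgroup.mem_centralizer_iff]
      intro t ht
      have := Subgroup.mem_center_iff.mp z.2 ⟨t, ht⟩
      exact congrArg Subtype.val this
    · have h1 : z ^ p = 1 := by rw [← hz]; exact pow_orderOf_eq_one z
      have h2 := congrArg (fun y : Subgroup.center T => ((y : T) : X)) h1
      simpa using h2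
  rw [hbot, Subgroup.mem_bot] at hzmem
  have hz1 : z = 1 := by
    apply Subtype.ext
    apply Subtype.ext
    simpa using hzmem
  rw [hz1, orderOf_one] at hz
  exact hp.one_lt.ne hz

theorem vertexZ_ne_bot {p : ℕ} [Fact p.Prime] (h : IsCharPAmalgamPair p M₁ M₂)
    (δ : CosetVertex M₁ M₂) : vertexZ p δ ≠ ⊥ := by
  have hp : p.Prime := Fact.out
  have := finite_stabilizer h δ
  obtain ⟨T, hT⟩ := exists_isSylowOf p (MulAction.stabilizer X δ)
  have hdvd : p ∣ Nat.card (MulAction.stabilizer X δ) := by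
    obtain ⟨_, _, _, hd1, hd2, _⟩ := h
    rcases vertex_cases δ with ⟨x, rfl⟩ | ⟨x, rfl⟩
    · rw [stabilizer_inl, card_map_conj']; exact hd1
    · rw [stabilizer_inr, card_map_conj']; exact hd2
  have hcard := hT.card_eq
  have : Finite T := Finite.of_injective (Subgroup.inclusion hT.1) (Subgroup.inclusion_injective _)
  have hTne : T ≠ ⊥ := by
    rintro rfl
    rw [Subgroup.card_bot] at hcard
    have hfac : (Nat.card (MulAction.stabilizer X δ)).factorization p = 0 := by
      by_contra h0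
      have : 1 < p ^ (Nat.card (MulAction.stabilizer X δ)).factorization p :=
        Nat.one_lt_pow h0 hp.one_lt
      omega
    have := (hp.dvd_iff_one_le_factorization Nat.card_pos.ne').mp hdvd
    omega
  intro hbot
  have h1 := omegaZ_le_sylowCenterClosure hT
  have h2 : omegaZ p T ≤ vertexZ p δ := h1
  rw [hbot, le_bot_iff] at h2
  exact omegaZ_ne_bot hT.2.1 hTne h2

end Vertex2


section TwoStep

variable {X : Type*} [Group X] {M₁ M₂ : Subgroup X}

/-- If `n ≥ 2` and `V_λ^{(n)} ≤ Q_λ` then `O^p(L_λ)` does not centralize `V_λ^{(n)}/V_λ^{(n-2)}`. -/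
theorem vertexVIter_two_step {p : ℕ} [Fact p.Prime] (h : IsSpeAmalgamPair p M₁ M₂)
    (lam : CosetVertex M₁ M₂) (n : ℕ) (hn : 2 ≤ n)
    (hVQ : vertexVIter p M₁ M₂ n lam ≤ vertexQ p lam) :
    ¬ ⁅vertexVIter p M₁ M₂ n lam,
        ((pResidual p ↥(pElementClosure p (MulAction.stabilizer X lam))).map
          (pElementClosure p (MulAction.stabilizer X lam)).subtype)⁆ ≤
      vertexVIter p M₁ M₂ (n - 2) lam := by
  intro hcomm
  have hc := h.1
  have hconn : (cosetGraph M₁ M₂).Connected := cosetGraph_connected hc.1.1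
  obtain ⟨δ, hadj⟩ := exists_adj lam
  have h1 : vertexVIter p M₁ M₂ (n - 2) lam ≤ vertexVIter p M₁ M₂ (n - 1) δ := by
    have := vertexVIter_le_adj p hconn (n - 2) hadj
    rwa [show n - 2 + 1 = n - 1 by omega] at this
  have h2 : vertexVIter p M₁ M₂ (n - 1) δ ≤ vertexVIter p M₁ M₂ n lam := by
    have := vertexVIter_le_adj p hconn (n - 1) hadj.symm
    rwa [show n - 1 + 1 = n by omega] at this
  obtain ⟨T, hT⟩ := exists_isSylowOf p (edgeStabilizer lam δ)
  have hTlam := hT.edge_left hc hadj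
  have hTδ := hT.edge_right hc hadj
  have hUT : vertexVIter p M₁ M₂ (n - 1) δ ≤ T :=
    h2.trans (hVQ.trans (pCoreOf_le_of_isSylowOf hTlam))
  have hR : ((pResidual p ↥(pElementClosure p (MulAction.stabilizer X lam))).map
      (pElementClosure p (MulAction.stabilizer X lam)).subtype) ≤
      Subgroup.normalizer (vertexVIter p M₁ M₂ (n - 1) δ : Set X) :=
    le_normalizer_of_commutator_le
      ((Subgroup.commutator_mono h2 le_rfl).trans (hcomm.trans h1))
  have hGδ := stabilizer_le_normalizer_vertexVIter (M₁ := M₁) (M₂ := M₂) p (n - 1) δ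
  have hTn : T ≤ Subgroup.normalizer (vertexVIter p M₁ M₂ (n - 1) δ : Set X) := hTδ.1.trans hGδ
  have := finite_stabilizer hc lam
  have hL : pElementClosure p (MulAction.stabilizer X lam) ≤
      Subgroup.normalizer (vertexVIter p M₁ M₂ (n - 1) δ : Set X) :=
    (pElementClosure_le_pResidual_sup hTlam).trans (sup_le hR hTn)
  have hLδ : pElementClosure p (MulAction.stabilizer X δ) ≤
      Subgroup.normalizer (vertexVIter p M₁ M₂ (n - 1) δ : Set X) :=
    (pElementClosure_le p _).trans hGδ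
  obtain ⟨S, hS⟩ := hT.exists_sylow
  have hbot := Cfsg.Agent.S2750.result M₁ M₂ h lam δ hadj S T hS.symm _ hUT hL hLδ
  have hZ := vertexZ_self_le_vertexVIter (M₁ := M₁) (M₂ := M₂) p (n - 1) δ
  rw [hbot, le_bot_iff] at hZ
  exact vertexZ_ne_bot hc δ hZ

end TwoStep

end Cfsg.Agent.Lib.Helper6
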