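import Mathlib
import Cfsg.Prelude.Def_Amalgam
import Cfsg.Prelude.Def_LocalStructure
import Cfsg.Agent.Lib.Helper6.Amalgam5
import Cfsg.Agent.Lib.Helper6.Comm

set_option autoImplicit false

namespace Cfsg.Agent.Lib.Helper6

open Cfsg
open scoped commutatorElement

section Gen

variable {X : Type*} [Group X]

theorem normalizer_inf_le_normalizer_sup (A B : Subgroup X) :
    Subgroup.normalizer (A : Set X) ⊓ Subgroup.normalizer (B : Set X) ≤
      Subgroup.normalizer ((A ⊔ B : Subgroup X) : Set X) := by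
  intro g hg
  obtain ⟨hA, hB⟩ := Subgroup.mem_inf.mp hg
  apply mem_normalizer_of_map_conj_eq_self
  rw [Subgroup.map_sup, map_conj_eq_self_of_mem_normalizer hA,
    map_conj_eq_self_of_mem_normalizer hB]

theorem normalizer_inf_le_normalizer_commutator (A B : Subgroup X) :
    Subgroup.normalizer (A : Set X) ⊓ Subgroup.normalizer (B : Set X) ≤
      Subgroup.normalizer ((⁅A, B⁆ : Subgroup X) : Set X) := by
  intro g hg
  obtain ⟨hA, hB⟩ := Subgroup.mem_inf.mp hg
  apply mem_normalizer_of_map_conj_eq_self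
  rw [Subgroup.map_commutator, map_conj_eq_self_of_mem_normalizer hA,
    map_conj_eq_self_of_mem_normalizer hB]

theorem commutator_le_left_of_le_normalizer {V Q : Subgroup X}
    (h : Q ≤ Subgroup.normalizer (V : Set X)) : ⁅V, Q⁆ ≤ V := by
  rw [Subgroup.commutator_le]
  intro v hv q hq
  have h1 : q * v⁻¹ * q⁻¹ ∈ V :=
    (Subgroup.mem_normalizer_iff.mp (h hq) v⁻¹).mp (V.inv_mem hv)
  have h2 : ⁅v, q⁆ = v * (q * v⁻¹ * q⁻¹) := by
    rw [commutatorElement_def]; group
  rw [h2]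
  exact V.mul_mem hv h1

/-- iterated commutators with `Q` -/
def iterComm (V Q : Subgroup X) : ℕ → Subgroup X
  | 0 => V
  | (k + 1) => ⁅iterComm V Q k, Q⁆

theorem iterComm_zero (V Q : Subgroup X) : iterComm V Q 0 = V := rfl

theorem iterComm_succ (V Q : Subgroup X) (k : ℕ) :
    iterComm V Q (k + 1) = ⁅iterComm V Q k, Q⁆ := rfl

theorem le_normalizer_iterComm {V Q : Subgroup X} (hQV : Q ≤ Subgroup.normalizer (V : Set X))
    (k : ℕ) : Q ≤ Subgroup.normalizer (iterComm V Q k : Set X) := by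
  induction k with
  | zero => exact hQV
  | succ k ih =>
    rw [iterComm_succ]
    exact (le_inf ih Subgroup.le_normalizer).trans (normalizer_inf_le_normalizer_commutator _ _)

theorem iterComm_le {V Q : Subgroup X} (hQV : Q ≤ Subgroup.normalizer (V : Set X))
    (k : ℕ) : iterComm V Q k ≤ V := by
  induction k with
  | zero => exact le_rfl
  | succ k ih =>
    rw [iterComm_succ]
    exact (Subgroup.commutator_mono ih le_rfl).trans (commutator_le_left_of_le_normalizer hQV)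

theorem iterComm_le_lowerCentralSeries {V Q : Subgroup X} (hVQ : V ≤ Q) (k : ℕ) :
    iterComm V Q k ≤ Q.lowerCentralSeries k := by
  induction k with
  | zero => exact hVQ
  | succ k ih =>
    rw [iterComm_succ, Subgroup.lowerCentralSeries_succ]
    exact Subgroup.commutator_mono ih le_rfl

/-- Nilpotent action: if `V = U₀ [V, Q]` with `Q` nilpotent containing `V` and normalizing `U₀ ≤ V`
and `V`, then `V = U₀`. -/
theorem le_of_le_sup_commutator_nilpotent (Q V U₀ : Subgroup X) (hnil : Group.IsNilpotent ↥Q)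
    (hVQ : V ≤ Q) (hUV : U₀ ≤ V) (hQV : Q ≤ Subgroup.normalizer (V : Set X))
    (hQU : Q ≤ Subgroup.normalizer (U₀ : Set X)) (h : V ≤ U₀ ⊔ ⁅V, Q⁆) : V ≤ U₀ := by
  have hstep : ∀ k, V ≤ U₀ ⊔ iterComm V Q (k + 1) := by
    intro k
    induction k with
    | zero => exact h
    | succ k ih =>
      have hN : Q ≤ Subgroup.normalizer ((U₀ ⊔ iterComm V Q (k + 2) : Subgroup X) : Set X) :=
        (le_inf hQU (le_normalizer_iterComm hQV (k + 2))).trans
          (normalizer_inf_le_normalizer_sup _ _)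
      have h1 : ⁅U₀ ⊔ iterComm V Q (k + 1), Q⁆ ≤ U₀ ⊔ iterComm V Q (k + 2) := by
        apply commutator_sup_left_le Q U₀ (iterComm V Q (k + 1)) _
        · exact (commutator_le_left_of_le_normalizer hQU).trans le_sup_left
        · exact le_sup_right
        · exact (hUV.trans hVQ).trans hN
        · exact ((iterComm_le hQV (k + 1)).trans hVQ).trans hN
      have h2 : ⁅V, Q⁆ ≤ U₀ ⊔ iterComm V Q (k + 2) :=
        (Subgroup.commutator_mono ih le_rfl).trans h1
      exact h.trans (sup_le le_sup_left h2)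
  obtain ⟨k, hk⟩ := (Subgroup.isNilpotent_iff_lowerCentralSeries Q).mp hnil
  have hbot : iterComm V Q (k + 1) = ⊥ := by
    rw [eq_bot_iff]
    refine (iterComm_le_lowerCentralSeries hVQ (k + 1)).trans ?_
    rw [← hk]
    exact Subgroup.lowerCentralSeries_antitone Q (Nat.le_succ k)
  have := hstep k
  rwa [hbot, sup_bot_eq] at this

end Gen


section Vertex3

variable {X : Type*} [Group X] {M₁ M₂ : Subgroup X}

theorem stabilizer_le_normalizer_vertexQ (p : ℕ) (δ : CosetVertex M₁ M₂) :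
    MulAction.stabilizer X δ ≤ Subgroup.normalizer (vertexQ p δ : Set X) := by
  intro g hg
  apply mem_normalizer_of_map_conj_eq_self
  unfold vertexQ
  rw [pCoreOf_map_conj, map_conj_eq_self_of_mem_normalizer (Subgroup.le_normalizer hg)]

/-- The conjugated form of the normalizer condition of the standing hypothesis. -/
theorem stabilizer_inf_normalizer_le {p : ℕ} [Fact p.Prime] (h : IsSpeAmalgamPair p M₁ M₂)
    {δ μ : CosetVertex M₁ M₂} (hadj : (cosetGraph M₁ M₂).Adj δ μ) {T : Subgroup X}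
    (hT : IsSylowOf p (edgeStabilizer δ μ) T) :
    MulAction.stabilizer X δ ⊓ Subgroup.normalizer (T : Set X) ≤ MulAction.stabilizer X μ := by
  obtain ⟨hc, hN, _, _⟩ := h
  have hcancel : ∀ (K : Subgroup X) (x : X),
      (K.map (MulAut.conj x).toMonoidHom).map (MulAut.conj x⁻¹).toMonoidHom = K := by
    intro K x
    rw [map_conj_map_conj, inv_mul_cancel, map_conj_one]
  have key : ∀ (x g : X), g ∈ Subgroup.normalizer (T : Set X) →
      x⁻¹ * g * x ∈ Subgroup.normalizer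
        ((T.map (MulAut.conj x⁻¹).toMonoidHom : Subgroup X) : Set X) := by
    intro x g hg
    apply mem_normalizer_of_map_conj_eq_self
    rw [map_conj_map_conj]
    have e : x⁻¹ * g * x * x⁻¹ = x⁻¹ * g := by group
    rw [e, ← map_conj_map_conj, map_conj_eq_self_of_mem_normalizer hg]
  obtain ⟨x, (⟨rfl, rfl⟩ | ⟨rfl, rfl⟩)⟩ := edge_cases hadj
  · have hedge : (edgeStabilizer (Sum.inl (x : X ⧸ M₁) : CosetVertex M₁ M₂)
        (Sum.inr (x : X ⧸ M₂))).map (MulAut.conj x⁻¹).toMonoidHom = M₁ ⊓ M₂ := by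
      unfold edgeStabilizer
      rw [stabilizer_inl, stabilizer_inr, ← Subgroup.map_inf_eq _ _ _ (MulAut.conj x).injective,
        hcancel]
    have hT₀ : IsSylowOf p (M₁ ⊓ M₂) (T.map (MulAut.conj x⁻¹).toMonoidHom) :=
      hedge ▸ hT.map_conj x⁻¹
    obtain ⟨S₀, hS₀⟩ := hT₀.exists_sylow
    obtain ⟨_, hBle⟩ := hN S₀
    rw [hS₀] at hBle
    intro g hg
    obtain ⟨hg1, hg2⟩ := Subgroup.mem_inf.mp hg
    rw [stabilizer_inl, mem_map_conj] at hg1
    rw [stabilizer_inr, mem_map_conj]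
    exact (hBle (Subgroup.mem_inf.mpr ⟨hg1, key x g hg2⟩)).2
  · have hedge : (edgeStabilizer (Sum.inr (x : X ⧸ M₂) : CosetVertex M₁ M₂)
        (Sum.inl (x : X ⧸ M₁))).map (MulAut.conj x⁻¹).toMonoidHom = M₁ ⊓ M₂ := by
      unfold edgeStabilizer
      rw [stabilizer_inl, stabilizer_inr, ← Subgroup.map_inf_eq _ _ _ (MulAut.conj x).injective,
        hcancel, inf_comm]
    have hT₀ : IsSylowOf p (M₁ ⊓ M₂) (T.map (MulAut.conj x⁻¹).toMonoidHom) :=
      hedge ▸ hT.map_conj x⁻¹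
    obtain ⟨S₀, hS₀⟩ := hT₀.exists_sylow
    obtain ⟨hB12, hBle⟩ := hN S₀
    rw [hS₀] at hBle hB12
    intro g hg
    obtain ⟨hg1, hg2⟩ := Subgroup.mem_inf.mp hg
    rw [stabilizer_inr, mem_map_conj] at hg1
    rw [stabilizer_inl, mem_map_conj]
    have h3 : x⁻¹ * g * x ∈ M₂ ⊓ Subgroup.normalizer
        ((T.map (MulAut.conj x⁻¹).toMonoidHom : Subgroup X) : Set X) :=
      Subgroup.mem_inf.mpr ⟨hg1, key x g hg2⟩
    rw [← hB12] at h3
    exact (hBle h3).1

end Vertex3


section ModCore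

variable {X : Type*} [Group X] {M₁ M₂ : Subgroup X}

/-- If `n ≥ 1` and `V_λ^{(n)} ≤ Q_λ` then `O^p(L_λ)` does not centralize
`V_λ^{(n)}/[V_λ^{(n)}, Q_λ]`. -/
theorem vertexVIter_mod_core {p : ℕ} [Fact p.Prime] (h : IsSpeAmalgamPair p M₁ M₂)
    (lam : CosetVertex M₁ M₂) (n : ℕ) (hn : 1 ≤ n)
    (hVQ : vertexVIter p M₁ M₂ n lam ≤ vertexQ p lam) :
    ¬ ⁅vertexVIter p M₁ M₂ n lam,
        ((pResidual p ↥(pElementClosure p (MulAction.stabilizer X lam))).map
          (pElementClosure p (MulAction.stabilizer X lam)).subtype)⁆ ≤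
      ⁅vertexVIter p M₁ M₂ n lam, vertexQ p lam⁆ := by
  intro hcomm
  have hc := h.1
  have hconn : (cosetGraph M₁ M₂).Connected := cosetGraph_connected hc.1.1
  obtain ⟨δ, hadj⟩ := exists_adj lam
  have hGV := stabilizer_le_normalizer_vertexVIter (M₁ := M₁) (M₂ := M₂) p n lam
  have hGQ := stabilizer_le_normalizer_vertexQ (M₁ := M₁) (M₂ := M₂) p lam
  have hGδU := stabilizer_le_normalizer_vertexVIter (M₁ := M₁) (M₂ := M₂) p (n - 1) δ
  have hU₀V : vertexVIter p M₁ M₂ (n - 1) δ ≤ vertexVIter p M₁ M₂ n lam := by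
    have := vertexVIter_le_adj p hconn (n - 1) hadj.symm
    rwa [show n - 1 + 1 = n by omega] at this
  have hQG : vertexQ p lam ≤ MulAction.stabilizer X lam := pCoreOf_le _
  obtain ⟨T, hT⟩ := exists_isSylowOf p (edgeStabilizer lam δ)
  have hTlam := hT.edge_left hc hadj
  have hTδ := hT.edge_right hc hadj
  have hQT : vertexQ p lam ≤ T := pCoreOf_le_of_isSylowOf hTlam
  have hfin := finite_stabilizer hc lam
  have hZδ := vertexZ_self_le_vertexVIter (M₁ := M₁) (M₂ := M₂) p (n - 1) δ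
  -- abstract the subgroups
  obtain ⟨V, hV⟩ : ∃ V, V = vertexVIter p M₁ M₂ n lam := ⟨_, rfl⟩
  obtain ⟨Q, hQ⟩ : ∃ Q, Q = vertexQ p lam := ⟨_, rfl⟩
  obtain ⟨U₀, hU₀⟩ : ∃ U₀, U₀ = vertexVIter p M₁ M₂ (n - 1) δ := ⟨_, rfl⟩
  obtain ⟨R, hR⟩ : ∃ R, R = ((pResidual p ↥(pElementClosure p (MulAction.stabilizer X lam))).map
          (pElementClosure p (MulAction.stabilizer X lam)).subtype) := ⟨_, rfl⟩
  rw [← hV, ← hQ] at hVQ
  rw [← hV, ← hQ, ← hR] at hcomm
  rw [← hV] at hGV hU₀V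
  rw [← hQ] at hGQ hQG hQT
  rw [← hU₀] at hGδU hU₀V hZδ
  have hGW : MulAction.stabilizer X lam ≤ Subgroup.normalizer ((⁅V, Q⁆ : Subgroup X) : Set X) :=
    (le_inf hGV hGQ).trans (normalizer_inf_le_normalizer_commutator V Q)
  have hWV : ⁅V, Q⁆ ≤ V := commutator_le_left_of_le_normalizer (hQG.trans hGV)
  have hNU : ∀ K : Subgroup X, K ≤ Subgroup.normalizer (U₀ : Set X) →
      K ≤ Subgroup.normalizer ((⁅V, Q⁆ : Subgroup X) : Set X) →
      K ≤ Subgroup.normalizer ((U₀ ⊔ ⁅V, Q⁆ : Subgroup X) : Set X) :=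
    fun K h1 h2 => (le_inf h1 h2).trans (normalizer_inf_le_normalizer_sup _ _)
  have hRN : R ≤ Subgroup.normalizer ((U₀ ⊔ ⁅V, Q⁆ : Subgroup X) : Set X) :=
    le_normalizer_of_commutator_le
      ((Subgroup.commutator_mono (sup_le hU₀V hWV) le_rfl).trans (hcomm.trans le_sup_right))
  have hTN : T ≤ Subgroup.normalizer ((U₀ ⊔ ⁅V, Q⁆ : Subgroup X) : Set X) :=
    hNU T (hTδ.1.trans hGδU) (hTlam.1.trans hGW)
  have hL : pElementClosure p (MulAction.stabilizer X lam) ≤
      Subgroup.normalizer ((U₀ ⊔ ⁅V, Q⁆ : Subgroup X) : Set X) := by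
    refine (pElementClosure_le_pResidual_sup hTlam).trans (sup_le ?_ hTN)
    rw [← hR]; exact hRN
  have hB : MulAction.stabilizer X lam ⊓ Subgroup.normalizer (T : Set X) ≤
      Subgroup.normalizer ((U₀ ⊔ ⁅V, Q⁆ : Subgroup X) : Set X) :=
    hNU _ ((stabilizer_inf_normalizer_le h hadj hT).trans hGδU) (inf_le_left.trans hGW)
  have hG : MulAction.stabilizer X lam ≤
      Subgroup.normalizer ((U₀ ⊔ ⁅V, Q⁆ : Subgroup X) : Set X) := by
    intro g hg
    have hfinL : Finite (pElementClosure p (MulAction.stabilizer X lam)) :=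
      Finite.of_injective (Subgroup.inclusion (pElementClosure_le p _))
        (Subgroup.inclusion_injective _)
    obtain ⟨l, hl, b, hb, rfl⟩ := frattini_isSylowOf (pElementClosure_le p _)
      (fun g hg n hn => pElementClosure_conj_mem hg hn)
      (hTlam.of_le (le_pElementClosure_of_isPGroup hTlam.1 hTlam.2.1) (pElementClosure_le p _))
      g hg
    exact Subgroup.mul_mem _ (hL hl) (hB hb)
  -- `V ≤ U₀ ⊔ [V, Q]`
  have hVU : V ≤ U₀ ⊔ ⁅V, Q⁆ := by
    conv_lhs => rw [hV]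
    rw [vertexVIter_le_iff]
    intro μ hμ
    rcases Nat.eq_zero_or_pos ((cosetGraph M₁ M₂).dist lam μ) with h0 | hpos
    · have hlm : lam = μ := hconn.dist_eq_zero_iff.mp h0
      rw [← hlm]
      unfold vertexZ
      rw [sylowCenterClosure_le_iff]
      intro T' hT'
      obtain ⟨g, hg, hgT⟩ := hTlam.exists_conj hT'
      rw [hgT, ← omegaZ_map_conj]
      have h1 : omegaZ p T ≤ U₀ ⊔ ⁅V, Q⁆ :=
        (omegaZ_le_sylowCenterClosure hTδ).trans (hZδ.trans le_sup_left)
      have h2 := Subgroup.map_mono (f := (MulAut.conj g).toMonoidHom) h1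
      rwa [map_conj_eq_self_of_mem_normalizer (hG hg)] at h2
    · obtain ⟨k, hk⟩ : ∃ k, (cosetGraph M₁ M₂).dist lam μ = k + 1 :=
        ⟨(cosetGraph M₁ M₂).dist lam μ - 1, by omega⟩
      obtain ⟨w, hw1, hw2⟩ := exists_adj_dist_eq hconn hk
      obtain ⟨g, hg, hgw⟩ := neighbour_transitive hadj hw1
      have h1 : vertexZ p μ ≤ vertexVIter p M₁ M₂ (n - 1) w :=
        vertexZ_le_vertexVIter p (n - 1) (by omega)
      rw [← hgw, vertexVIter_smul, ← hU₀] at h1
      have h2 := Subgroup.map_mono (f := (MulAut.conj g).toMonoidHom)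
        (le_sup_left : U₀ ≤ U₀ ⊔ ⁅V, Q⁆)
      rw [map_conj_eq_self_of_mem_normalizer (hG hg)] at h2
      exact h1.trans h2
  -- the nilpotent step
  have hnil : Group.IsNilpotent ↥Q := by
    have hfinQ : Finite ↥Q :=
      Finite.of_injective (Subgroup.inclusion hQG) (Subgroup.inclusion_injective _)
    have hpQ : IsPGroup p ↥Q := by rw [hQ]; exact pCoreOf_isPGroup p _
    exact hpQ.isNilpotent
  have hVU₀ : V ≤ U₀ := le_of_le_sup_commutator_nilpotent Q V U₀ hnil hVQ hU₀V (hQG.trans hGV)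
    ((hQT.trans hTδ.1).trans hGδU) hVU
  have hUT : U₀ ≤ T := hU₀V.trans (hVQ.trans hQT)
  have hUV : U₀ = V := le_antisymm hU₀V hVU₀
  have hL' : pElementClosure p (MulAction.stabilizer X lam) ≤
      Subgroup.normalizer (U₀ : Set X) := by
    rw [hUV]; exact (pElementClosure_le p _).trans hGV
  have hLδ : pElementClosure p (MulAction.stabilizer X δ) ≤
      Subgroup.normalizer (U₀ : Set X) := (pElementClosure_le p _).trans hGδU
  obtain ⟨S, hS⟩ := hT.exists_sylow
  have hbot := Cfsg.Agent.S2750.result M₁ M₂ h lam δ hadj S T hS.symm U₀ hUT hL' hLδ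
  rw [hbot, le_bot_iff] at hZδ
  exact vertexZ_ne_bot hc δ hZδ

end ModCore

end Cfsg.Agent.Lib.Helper6
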