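import Mathlib

set_option autoImplicit false

namespace Cfsg.Agent.Lib.Helper6.BM5

/-! # Matrices of degree 5 over the field of two elements, as codes of 25 bits

A vector is coded by the number `< 32` whose bit `i` is the coordinate `i`; a matrix is coded
by its columns, the column `j` in the bits `5 j .. 5 j + 4`. -/

/-- the vectors -/
abbrev V : Type := Fin 5 → ZMod 2

/-- the matrices -/
abbrev Mat : Type := Matrix (Fin 5) (Fin 5) (ZMod 2)

/-- the element of the field of a bit -/
def ofB (b : Bool) : ZMod 2 := if b then 1 else 0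

/-- the vector of a code -/
def bv (n : ℕ) : V := fun i => ofB (n.testBit i.val)

/-- the code of a vector -/
def vc (v : V) : ℕ :=
  (v 0).val + 2 * (v 1).val + 4 * (v 2).val + 8 * (v 3).val + 16 * (v 4).val

theorem eq_vec (v : V) : v = ![v 0, v 1, v 2, v 3, v 4] := by
  funext i
  fin_cases i <;> rfl

theorem bv_vc_aux : ∀ a b c d e : ZMod 2, bv (vc ![a, b, c, d, e]) = ![a, b, c, d, e] := by
  decide

theorem bv_vc (v : V) : bv (vc v) = v := by
  rw [eq_vec v]
  exact bv_vc_aux _ _ _ _ _

theorem vc_lt_aux : ∀ a b c d e : ZMod 2, vc ![a, b, c, d, e] < 32 := by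
  decide

theorem vc_lt (v : V) : vc v < 32 := by
  rw [eq_vec v]
  exact vc_lt_aux _ _ _ _ _

theorem vc_bv : ∀ n < 32, vc (bv n) = n := by
  decide

theorem bv_injOn {a b : ℕ} (ha : a < 32) (hb : b < 32) (h : bv a = bv b) : a = b := by
  rw [← vc_bv a ha, ← vc_bv b hb, h]

theorem ofB_xor (a b : Bool) : ofB (a ^^ b) = ofB a + ofB b := by
  revert a b
  decide

theorem ofB_and (a b : Bool) : ofB (a && b) = ofB a * ofB b := by
  revert a b
  decide

theorem bv_xor (a b : ℕ) : bv (a ^^^ b) = bv a + bv b := by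
  funext i
  show ofB ((a ^^^ b).testBit i.val) = ofB (a.testBit i.val) + ofB (b.testBit i.val)
  rw [Nat.testBit_xor, ofB_xor]

theorem bv_zero : bv 0 = 0 := by
  funext i
  show ofB ((0 : ℕ).testBit i.val) = 0
  rw [Nat.zero_testBit]
  rfl

/-- a code, or zero -/
def sel (b : Bool) (c : ℕ) : ℕ := if b then c else 0

theorem bv_sel (b : Bool) (c : ℕ) : bv (sel b c) = ofB b • bv c := by
  cases b
  · show bv 0 = (0 : ZMod 2) • bv c
    rw [bv_zero, zero_smul]
  · show bv c = (1 : ZMod 2) • bv c
    rw [one_smul]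

theorem sel_lt {b : Bool} {c : ℕ} (hc : c < 32) : sel b c < 32 := by
  cases b
  · show 0 < 32
    norm_num
  · exact hc

/-- the column `j` of a code -/
def col (C j : ℕ) : ℕ := (C >>> (5 * j)) % 32

theorem col_lt (C j : ℕ) : col C j < 32 := Nat.mod_lt _ (by norm_num)

theorem col_zero (C : ℕ) : col C 0 = C % 32 := by
  unfold col
  simp

theorem col_one (C : ℕ) : col C 1 = C / 32 % 32 := by
  unfold col
  rw [Nat.shiftRight_eq_div_pow]

theorem col_two (C : ℕ) : col C 2 = C / 1024 % 32 := by
  unfold col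
  rw [Nat.shiftRight_eq_div_pow]

theorem col_three (C : ℕ) : col C 3 = C / 32768 % 32 := by
  unfold col
  rw [Nat.shiftRight_eq_div_pow]

theorem col_four (C : ℕ) : col C 4 = C / 1048576 % 32 := by
  unfold col
  rw [Nat.shiftRight_eq_div_pow]

/-- the action of a matrix, given by its columns, on a vector -/
def act5 (c0 c1 c2 c3 c4 x : ℕ) : ℕ :=
  sel (x.testBit 0) c0 ^^^ sel (x.testBit 1) c1 ^^^ sel (x.testBit 2) c2 ^^^ sel (x.testBit 3) c3
    ^^^ sel (x.testBit 4) c4

/-- the action of a matrix on a vector -/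
def act (C x : ℕ) : ℕ := act5 (col C 0) (col C 1) (col C 2) (col C 3) (col C 4) x

theorem xor_lt32 {a b : ℕ} (ha : a < 32) (hb : b < 32) : a ^^^ b < 32 :=
  Nat.xor_lt_two_pow (n := 5) ha hb

theorem act_lt (C x : ℕ) : act C x < 32 := by
  unfold act act5
  exact xor_lt32 (xor_lt32 (xor_lt32 (xor_lt32 (sel_lt (col_lt _ _)) (sel_lt (col_lt _ _)))
    (sel_lt (col_lt _ _))) (sel_lt (col_lt _ _))) (sel_lt (col_lt _ _))

/-- the matrix of a code -/
def M (C : ℕ) : Mat := fun i j => bv (col C j.val) i

/-- the code of the column `j` of a matrix -/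
def colc (m : Mat) (j : Fin 5) : ℕ := vc (fun i => m i j)

theorem colc_lt (m : Mat) (j : Fin 5) : colc m j < 32 := vc_lt _

theorem colc_M (C : ℕ) (j : Fin 5) : colc (M C) j = col C j.val := by
  show vc (bv (col C j.val)) = col C j.val
  exact vc_bv _ (col_lt _ _)

theorem bv_colc (m : Mat) (j : Fin 5) : bv (colc m j) = fun i => m i j := bv_vc _

/-- the product of a matrix and the vector of a code, from the codes of the columns -/
theorem mulVec_bv (m : Mat) (x : ℕ) :
    m.mulVec (bv x) = bv (act5 (colc m 0) (colc m 1) (colc m 2) (colc m 3) (colc m 4) x) := by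
  unfold act5
  rw [bv_xor, bv_xor, bv_xor, bv_xor, bv_sel, bv_sel, bv_sel, bv_sel, bv_sel, bv_colc, bv_colc,
    bv_colc, bv_colc, bv_colc]
  funext i
  rw [Matrix.mulVec, dotProduct, Fin.sum_univ_five]
  simp only [Pi.add_apply, Pi.smul_apply, smul_eq_mul]
  show m i 0 * ofB (x.testBit 0) + m i 1 * ofB (x.testBit 1) + m i 2 * ofB (x.testBit 2) +
    m i 3 * ofB (x.testBit 3) + m i 4 * ofB (x.testBit 4) = _
  ring

theorem M_mulVec (C x : ℕ) : (M C).mulVec (bv x) = bv (act C x) := by
  rw [mulVec_bv, colc_M, colc_M, colc_M, colc_M, colc_M]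
  rfl

/-- a matrix is the matrix of a code with the same columns -/
theorem eq_M_of_col {m : Mat} {C : ℕ} (h : ∀ j : Fin 5, colc m j = col C j.val) : m = M C := by
  funext i j
  show m i j = bv (col C j.val) i
  rw [← h j, bv_colc]

/-- the code with the given columns -/
def pack (c0 c1 c2 c3 c4 : ℕ) : ℕ := c0 + 32 * c1 + 1024 * c2 + 32768 * c3 + 1048576 * c4

theorem col_pack {c0 c1 c2 c3 c4 : ℕ} (h0 : c0 < 32) (h1 : c1 < 32) (h2 : c2 < 32) (h3 : c3 < 32)
    (h4 : c4 < 32) : col (pack c0 c1 c2 c3 c4) 0 = c0 ∧ col (pack c0 c1 c2 c3 c4) 1 = c1 ∧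
    col (pack c0 c1 c2 c3 c4) 2 = c2 ∧ col (pack c0 c1 c2 c3 c4) 3 = c3 ∧
    col (pack c0 c1 c2 c3 c4) 4 = c4 := by
  rw [col_zero, col_one, col_two, col_three, col_four]
  unfold pack
  refine ⟨?_, ?_, ?_, ?_, ?_⟩ <;> omega

/-- the product of two codes -/
def mul (A B : ℕ) : ℕ :=
  pack (act A (col B 0)) (act A (col B 1)) (act A (col B 2)) (act A (col B 3)) (act A (col B 4))

theorem col_mul (A B : ℕ) (j : Fin 5) : col (mul A B) j.val = act A (col B j.val) := by
  obtain ⟨h0, h1, h2, h3, h4⟩ := col_pack (act_lt A (col B 0)) (act_lt A (col B 1))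
    (act_lt A (col B 2)) (act_lt A (col B 3)) (act_lt A (col B 4))
  unfold mul
  fin_cases j
  · exact h0
  · exact h1
  · exact h2
  · exact h3
  · exact h4

theorem M_mul (A B : ℕ) : M A * M B = M (mul A B) := by
  apply eq_M_of_col
  intro j
  rw [col_mul]
  apply bv_injOn (colc_lt _ _) (act_lt _ _)
  rw [bv_colc, ← M_mulVec]
  funext i
  show (M A * M B) i j = (M A).mulVec (bv (col B j.val)) i
  rw [Matrix.mul_apply, Matrix.mulVec, dotProduct]
  rfl

/-- the code of the identity -/
def one : ℕ := 17043521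

theorem M_one : M one = 1 := by
  decide

theorem pack_col {A : ℕ} (hA : A < 33554432) :
    pack (col A 0) (col A 1) (col A 2) (col A 3) (col A 4) = A := by
  rw [col_zero, col_one, col_two, col_three, col_four]
  unfold pack
  omega

/-- two codes below `2 ^ 25` with the same matrix are equal -/
theorem M_injOn {A B : ℕ} (hA : A < 33554432) (hB : B < 33554432) (h : M A = M B) : A = B := by
  have hc : ∀ j : Fin 5, col A j.val = col B j.val := by
    intro j
    rw [← colc_M, ← colc_M, h]
  have h0 : col A 0 = col B 0 := hc 0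
  have h1 : col A 1 = col B 1 := hc 1
  have h2 : col A 2 = col B 2 := hc 2
  have h3 : col A 3 = col B 3 := hc 3
  have h4 : col A 4 = col B 4 := hc 4
  rw [← pack_col hA, ← pack_col hB, h0, h1, h2, h3, h4]

theorem mul_lt (A B : ℕ) : mul A B < 33554432 := by
  have h0 := act_lt A (col B 0)
  have h1 := act_lt A (col B 1)
  have h2 := act_lt A (col B 2)
  have h3 := act_lt A (col B 3)
  have h4 := act_lt A (col B 4)
  unfold mul pack
  omega

/-- the product of the codes along a word -/
def wprod (cs : List ℕ) (w : List ℕ) : ℕ := w.foldr (fun i acc => mul (cs.getD i one) acc) one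

theorem wprod_nil (cs : List ℕ) : wprod cs [] = one := by
  unfold wprod
  rw [List.foldr_nil]

theorem wprod_cons (cs : List ℕ) (i : ℕ) (w : List ℕ) :
    wprod cs (i :: w) = mul (cs.getD i one) (wprod cs w) := by
  unfold wprod
  rw [List.foldr_cons]

theorem M_wprod (cs : List ℕ) (w : List ℕ) :
    M (wprod cs w) = (w.map (fun i => M (cs.getD i one))).prod := by
  induction w with
  | nil =>
    rw [wprod_nil, List.map_nil, List.prod_nil]
    exact M_one
  | cons i w ih =>
    rw [List.map_cons, List.prod_cons, ← ih, M_mul, wprod_cons]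

theorem act_zero (C : ℕ) : act C 0 = 0 := by
  unfold act act5
  simp [sel, Nat.zero_testBit]

/-- a matrix with a vector in its kernel is not invertible -/
theorem det_eq_zero_of_act {m : Mat} {C x : ℕ} (hm : m = M C) (hx : x < 32) (hx0 : x ≠ 0)
    (h : act C x = 0) : m.det = 0 := by
  by_contra hdet
  have hu : IsUnit m.det := isUnit_iff_ne_zero.mpr hdet
  have hinj := Matrix.mulVec_injective_iff_isUnit.mpr ((Matrix.isUnit_iff_isUnit_det m).mpr hu)
  have h1 : m.mulVec (bv x) = m.mulVec (bv 0) := by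
    rw [hm, M_mulVec, M_mulVec, h, act_zero]
  exact hx0 (bv_injOn hx (by norm_num) (hinj h1))

/-- a matrix whose square is the identity has determinant 1 -/
theorem det_eq_one_of_sq {m : Mat} (h : m * m = 1) : m.det = 1 := by
  have h1 : m.det * m.det = 1 := by rw [← Matrix.det_mul, h, Matrix.det_one]
  have h2 : ∀ t : ZMod 2, t * t = 1 → t = 1 := by decide
  exact h2 _ h1

end Cfsg.Agent.Lib.Helper6.BM5
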