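import Cfsg.Agent.Lib.Helper6.BM5

set_option autoImplicit false

namespace Cfsg.Agent.Lib.Helper6.BM5

/-! # The matrices commuting with the transvection `1 + E₀₁`, as a table over their patterns

A matrix commuting with the transvection has first column `e₀` and second row `e₁`; the
sixteen other entries are the bits of the index of its pattern. -/

/-- the special linear group -/
abbrev SL5 : Type := Matrix.SpecialLinearGroup (Fin 5) (ZMod 2)

/-- spreading a nibble over the rows 0, 2, 3, 4 -/
def sp (n : ℕ) : ℕ := n % 2 + 4 * (n / 2)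

/-- the nibble of a column with no entry in the row 1 -/
def usp (c : ℕ) : ℕ := c % 2 + 2 * (c / 4)

/-- the code of the pattern of an index -/
def pat (idx : ℕ) : ℕ :=
  pack 1 (sp (idx % 16) + 2) (sp (idx / 16 % 16)) (sp (idx / 256 % 16)) (sp (idx / 4096 % 16))

/-- the index of a pattern -/
def unpat (C : ℕ) : ℕ :=
  usp (col C 1) + 16 * usp (col C 2) + 256 * usp (col C 3) + 4096 * usp (col C 4)

theorem sp_lt {n : ℕ} (h : n < 16) : sp n < 30 := by
  unfold sp
  omega

theorem pat_lt (idx : ℕ) : pat idx < 33554432 := by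
  have h1 := sp_lt (Nat.mod_lt idx (by norm_num : 0 < 16))
  have h2 := sp_lt (Nat.mod_lt (idx / 16) (by norm_num : 0 < 16))
  have h3 := sp_lt (Nat.mod_lt (idx / 256) (by norm_num : 0 < 16))
  have h4 := sp_lt (Nat.mod_lt (idx / 4096) (by norm_num : 0 < 16))
  unfold pat pack
  omega

theorem sp_usp0 : ∀ c < 32, c.testBit 1 = false → sp (usp c) = c ∧ usp c < 16 := by
  decide

theorem sp_usp1 : ∀ c < 32, c.testBit 1 = true → sp (usp c) + 2 = c ∧ usp c < 16 := by
  decide

/-- the pattern with given columns -/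
theorem pat_of_cols {c1 c2 c3 c4 : ℕ} (h1 : c1 < 32) (h2 : c2 < 32) (h3 : c3 < 32) (h4 : c4 < 32)
    (b1 : c1.testBit 1 = true) (b2 : c2.testBit 1 = false) (b3 : c3.testBit 1 = false)
    (b4 : c4.testBit 1 = false) :
    ∃ idx < 65536, pat idx = pack 1 c1 c2 c3 c4 := by
  obtain ⟨e1, l1⟩ := sp_usp1 c1 h1 b1
  obtain ⟨e2, l2⟩ := sp_usp0 c2 h2 b2
  obtain ⟨e3, l3⟩ := sp_usp0 c3 h3 b3
  obtain ⟨e4, l4⟩ := sp_usp0 c4 h4 b4
  refine ⟨usp c1 + 16 * usp c2 + 256 * usp c3 + 4096 * usp c4, by omega, ?_⟩
  have d1 : (usp c1 + 16 * usp c2 + 256 * usp c3 + 4096 * usp c4) % 16 = usp c1 := by omega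
  have d2 : (usp c1 + 16 * usp c2 + 256 * usp c3 + 4096 * usp c4) / 16 % 16 = usp c2 := by omega
  have d3 : (usp c1 + 16 * usp c2 + 256 * usp c3 + 4096 * usp c4) / 256 % 16 = usp c3 := by omega
  have d4 : (usp c1 + 16 * usp c2 + 256 * usp c3 + 4096 * usp c4) / 4096 % 16 = usp c4 := by omega
  unfold pat
  rw [d1, d2, d3, d4, e1, e2, e3, e4]

section checker
variable (T : ℕ → ℕ) (cs : List ℕ)

/-- marked as an element of the group -/
def mkd (idx : ℕ) : Bool := (T idx).testBit 0

/-- the depth in the tree -/
def dep (idx : ℕ) : ℕ := T idx / 16 % 64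

/-- the parent in the tree -/
def par (idx : ℕ) : ℕ := T idx / 1024

/-- the generator leading from the parent -/
def gen (idx : ℕ) : ℕ := T idx / 2 % 8

/-- the check of an entry of the table: an element of the group with its parent, or a
singular matrix with a vector of its kernel -/
def chk (idx : ℕ) : Bool :=
  cond (mkd T idx)
    (cond (dep T idx == 0) (pat idx == one)
      (decide (par T idx < 65536) && mkd T (par T idx) && (dep T (par T idx) + 1 == dep T idx) &&
        (mul (cs.getD (gen T idx) one) (pat (par T idx)) == pat idx)))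
    (T idx / 2 != 0 && decide (T idx / 2 < 32) && (act (pat idx) (T idx / 2) == 0))

variable {T cs}

/-- the marked entries are matrices of the group generated by the generators -/
theorem mem_of_chk (K : Subgroup SL5)
    (hgen : ∀ k < 8, ∃ g ∈ K, (g : Mat) = M (cs.getD k one))
    (hall : ∀ idx < 65536, chk T cs idx = true) :
    ∀ idx < 65536, mkd T idx = true → ∃ g ∈ K, (g : Mat) = M (pat idx) := by
  have key : ∀ d, ∀ idx < 65536, dep T idx = d → mkd T idx = true →
      ∃ g ∈ K, (g : Mat) = M (pat idx) := by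
    intro d
    induction d with
    | zero =>
      intro idx hidx hd hm
      have h := hall idx hidx
      unfold chk at h
      rw [hm, hd] at h
      simp only [cond_true, beq_self_eq_true] at h
      have h' : pat idx = one := by simpa using h
      exact ⟨1, K.one_mem, by rw [h', M_one]; rfl⟩
    | succ d ih =>
      intro idx hidx hd hm
      have h := hall idx hidx
      unfold chk at h
      rw [hm, hd] at h
      have hne : (d + 1 == 0) = false := by simp
      rw [hne] at h
      simp only [cond_true, cond_false, Bool.and_eq_true, decide_eq_true_eq, beq_iff_eq] at h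
      obtain ⟨⟨⟨hq, hmq⟩, hdq⟩, hmul⟩ := h
      obtain ⟨g, hg, hgm⟩ := ih (par T idx) hq (by omega) hmq
      obtain ⟨a, ha, ham⟩ := hgen (gen T idx) (Nat.mod_lt _ (by norm_num))
      refine ⟨a * g, K.mul_mem ha hg, ?_⟩
      rw [← hmul, ← M_mul, ← ham, ← hgm]
      rfl
  intro idx hidx hm
  exact key _ idx hidx rfl hm

/-- the other entries are singular matrices -/
theorem det_of_chk (hall : ∀ idx < 65536, chk T cs idx = true) :
    ∀ idx < 65536, mkd T idx = false → (M (pat idx)).det = 0 := by
  intro idx hidx hm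
  have h := hall idx hidx
  unfold chk at h
  rw [hm] at h
  simp only [cond_false, Bool.and_eq_true, decide_eq_true_eq, beq_iff_eq, bne_iff_ne, ne_eq] at h
  obtain ⟨⟨h0, hlt⟩, hact⟩ := h
  exact det_eq_zero_of_act rfl hlt h0 hact

end checker

/-! ## Counting -/

/-- counting -/
noncomputable def cntB (f : ℕ → Bool) (n : ℕ) : ℕ :=
  Nat.rec (motive := fun _ => ℕ) 0 (fun k ih => Bool.rec ih (Nat.succ ih) (f k)) n

/-- counting on an interval -/
noncomputable def cntR (f : ℕ → Bool) (lo len : ℕ) : ℕ := cntB (fun k => f (Nat.add lo k)) len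

theorem cntB_succ (f : ℕ → Bool) (n : ℕ) :
    cntB f (n + 1) = cntB f n + if f n = true then 1 else 0 := by
  show (Bool.rec (cntB f n) (Nat.succ (cntB f n)) (f n) : ℕ) = _
  cases f n <;> rfl

theorem cntB_add (f : ℕ → Bool) (a b : ℕ) : cntB f (a + b) = cntB f a + cntR f a b := by
  induction b with
  | zero => rfl
  | succ b ih =>
    rw [← Nat.add_assoc, cntB_succ, ih]
    unfold cntR
    rw [cntB_succ]
    show _ = cntB f a + (_ + if f (a + b) = true then 1 else 0)
    omega

theorem card_filter_eq_cntB (f : ℕ → Bool) (n : ℕ) :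
    ((Finset.range n).filter (fun x => f x = true)).card = cntB f n := by
  induction n with
  | zero => rfl
  | succ n ih =>
    rw [Finset.range_add_one, Finset.filter_insert, cntB_succ]
    split_ifs with h
    · rw [Finset.card_insert_of_notMem (by simp), ih]
    · rw [ih]; rfl

/-- the group contains as many elements as there are marked entries -/
theorem card_ge_of_chk {T : ℕ → ℕ} (K : Subgroup SL5) [Finite K]
    (hmem : ∀ idx < 65536, mkd T idx = true → ∃ g ∈ K, (g : Mat) = M (pat idx))
    (hun : ∀ idx < 65536, unpat (pat idx) = idx) {n : ℕ} (hn : cntB (mkd T) 65536 = n) :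
    n ≤ Nat.card K := by
  classical
  let F : Finset ℕ := (Finset.range 65536).filter (fun x => mkd T x = true)
  have hF : F.card = n := by rw [← hn]; exact card_filter_eq_cntB _ _
  have hFm : ∀ x ∈ F, x < 65536 ∧ mkd T x = true := by
    intro x hx
    rw [Finset.mem_filter, Finset.mem_range] at hx
    exact hx
  let f : F → K := fun x =>
    ⟨(hmem x.1 (hFm x.1 x.2).1 (hFm x.1 x.2).2).choose,
      (hmem x.1 (hFm x.1 x.2).1 (hFm x.1 x.2).2).choose_spec.1⟩
  have hf : ∀ x : F, ((f x : SL5) : Mat) = M (pat x.1) := fun x =>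
    (hmem x.1 (hFm x.1 x.2).1 (hFm x.1 x.2).2).choose_spec.2
  have hinj : Function.Injective f := by
    intro x y hxy
    have h1 : M (pat x.1) = M (pat y.1) := by rw [← hf x, ← hf y, hxy]
    have h2 := M_injOn (pat_lt _) (pat_lt _) h1
    apply Subtype.ext
    rw [← hun x.1 (hFm x.1 x.2).1, ← hun y.1 (hFm y.1 y.2).1, h2]
  have h := Nat.card_le_card_of_injective f hinj
  rw [Nat.card_eq_fintype_card, Fintype.card_coe, hF] at h
  exact h

end Cfsg.Agent.Lib.Helper6.BM5
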