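import Mathlib
import Cfsg.Agent.Lib.Helper9.SmallOrd4
import Cfsg.Agent.Lib.Helper9.SmallOrd11

/-!
# Sylow 7-subgroups of a simple group of order 4032
-/

set_option autoImplicit false

namespace Cfsg.Agent.Lib.Helper6.OrdC

open Subgroup Cfsg.Agent.Lib.Helper9.SmallOrd

variable {G : Type*} [Group G] [Finite G]

section
variable {p : ℕ} [hp : Fact p.Prime]

/-- `|C(P)| * |N(P) : C(P)| = |N(P)|` with `|N(P) : C(P)| ∣ gcd(k, p - 1)` for a Sylow subgroup of
prime order. -/
theorem relIndex_data (P : Sylow p G) (hP : Nat.card P = p) (k : ℕ)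
    (hN : Nat.card (normalizer ((P : Subgroup G) : Set G)) = p * k) :
    (centralizer ((P : Subgroup G) : Set G)).relIndex (normalizer ((P : Subgroup G) : Set G)) ∣
        Nat.gcd k (p - 1) ∧
      Nat.card (centralizer ((P : Subgroup G) : Set G)) *
        (centralizer ((P : Subgroup G) : Set G)).relIndex
          (normalizer ((P : Subgroup G) : Set G)) = p * k := by
  have hPN : (P : Subgroup G).relIndex (normalizer ((P : Subgroup G) : Set G)) = k := by
    have h1 := ((P : Subgroup G).subgroupOf (normalizer ((P : Subgroup G) : Set G))).index_mul_card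
    rw [Nat.card_congr (Subgroup.subgroupOfEquivOfLe (le_normalizer : (P : Subgroup G) ≤ _)).toEquiv,
      hP, hN] at h1
    have h2 : (P : Subgroup G).relIndex (normalizer ((P : Subgroup G) : Set G)) * p = p * k := h1
    rw [mul_comm] at h2
    exact Nat.eq_of_mul_eq_mul_left hp.1.pos h2
  have hcyc : IsCyclic (P : Subgroup G) := isCyclic_of_prime_card hP
  have hcomm : IsMulCommutative (P : Subgroup G) := ⟨⟨fun a b => hcyc.commGroup.mul_comm a b⟩⟩
  have h1 := Cfsg.Agent.Lib.Helper3.relIndex_centralizer_normalizer_dvd_card_mulAut (P : Subgroup G)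
  rw [IsCyclic.card_mulAut, hP, Nat.totient_prime hp.1] at h1
  have hPC : (P : Subgroup G) ≤ centralizer ((P : Subgroup G) : Set G) :=
    Cfsg.Agent.Lib.Helper3.le_centralizer_of_isMulCommutative (P : Subgroup G)
  have h2 := Cfsg.Agent.Lib.Helper3.relIndex_centralizer_normalizer_dvd_relIndex (P : Subgroup G) hPC
  rw [hPN] at h2
  have hCN : centralizer ((P : Subgroup G) : Set G) ≤ normalizer ((P : Subgroup G) : Set G) :=
    Subgroup.centralizer_le_normalizer _
  refine ⟨Nat.dvd_gcd h2 h1, ?_⟩
  have := ((centralizer ((P : Subgroup G) : Set G)).subgroupOf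
    (normalizer ((P : Subgroup G) : Set G))).card_mul_index
  rw [Nat.card_congr (Subgroup.subgroupOfEquivOfLe hCN).toEquiv, hN] at this
  exact this

end

variable [IsSimpleGroup G]

/-- The three possible configurations of a Sylow 7-subgroup in a simple group of order 4032. -/
theorem sylow7_data (hG : ¬ IsMulCommutative G) (hcard : Nat.card G = 4032) (P : Sylow 7 G) :
    Nat.card P = 7 ∧ (P : Subgroup G) ≠ ⊥ ∧ (P : Subgroup G) ≠ ⊤ ∧
      ((Nat.card (normalizer ((P : Subgroup G) : Set G)) = 112 ∧
          Nat.card (centralizer ((P : Subgroup G) : Set G)) = 56 ∧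
          (centralizer ((P : Subgroup G) : Set G)).relIndex
            (normalizer ((P : Subgroup G) : Set G)) = 2) ∨
        (Nat.card (normalizer ((P : Subgroup G) : Set G)) = 63 ∧
          Nat.card (centralizer ((P : Subgroup G) : Set G)) = 21 ∧
          (centralizer ((P : Subgroup G) : Set G)).relIndex
            (normalizer ((P : Subgroup G) : Set G)) = 3) ∨
        (Nat.card (normalizer ((P : Subgroup G) : Set G)) = 14 ∧
          Nat.card (centralizer ((P : Subgroup G) : Set G)) = 7 ∧
          (centralizer ((P : Subgroup G) : Set G)).relIndex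
            (normalizer ((P : Subgroup G) : Set G)) = 2)) := by
  have : Fact (Nat.Prime 7) := ⟨by norm_num⟩
  have hc : Nat.card G = 7 ^ 1 * 576 := by rw [hcard]; norm_num
  obtain ⟨hPcard, hPbot, hPtop, hdvd, hmod, hne1, hNtop, hNcard, hfact⟩ :=
    sylow_data hG 1 576 Nat.one_pos (by norm_num) hc (by norm_num) P
  rw [pow_one] at hPcard
  refine ⟨hPcard, hPbot, hPtop, ?_⟩
  have hmem : Nat.card (Sylow 7 G) ∈ (Nat.divisors 576).filter (fun n => n % 7 = 1) := by
    rw [Finset.mem_filter, Nat.mem_divisors]
    exact ⟨⟨hdvd, by norm_num⟩, hmod⟩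
  have hset : (Nat.divisors 576).filter (fun n => n % 7 = 1) = {1, 8, 36, 64, 288} := by decide
  rw [hset] at hmem
  simp only [Finset.mem_insert, Finset.mem_singleton] at hmem
  -- the Burnside argument
  have hburn : (centralizer ((P : Subgroup G) : Set G)).relIndex
      (normalizer ((P : Subgroup G) : Set G)) ≠ 1 := by
    intro h1
    have h4 : normalizer ((P : Subgroup G) : Set G) ≤ centralizer ((P : Subgroup G) : Set G) :=
      relIndex_eq_one.mp h1
    rcases Cfsg.Agent.Lib.Helper3.sylow_eq_bot_or_top_of_normalizer_le_centralizer P h4 with h' | h'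
    · exact hPbot h'
    · exact hPtop h'
  rcases hmem with h | h | h | h | h
  · exact absurd h hne1
  · exfalso
    have hN : Nat.card (normalizer ((P : Subgroup G) : Set G)) = 7 * 72 := by
      rw [h, hcard] at hNcard; omega
    have := np_succ_dvd P hPcard h hNtop 72 hN
    norm_num at this
  · left
    have hN : Nat.card (normalizer ((P : Subgroup G) : Set G)) = 7 * 16 := by
      rw [h, hcard] at hNcard; omega
    obtain ⟨hr, hCr⟩ := relIndex_data P hPcard 16 hN
    have hr2 : (centralizer ((P : Subgroup G) : Set G)).relIndex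
        (normalizer ((P : Subgroup G) : Set G)) ∣ 2 := by simpa using hr
    have hle := Nat.le_of_dvd (by norm_num) hr2
    have hr0 : (centralizer ((P : Subgroup G) : Set G)).relIndex
        (normalizer ((P : Subgroup G) : Set G)) ≠ 0 := by
      intro h0; rw [h0] at hr2; norm_num at hr2
    have hr' : (centralizer ((P : Subgroup G) : Set G)).relIndex
        (normalizer ((P : Subgroup G) : Set G)) = 2 := by omega
    rw [hr'] at hCr
    exact ⟨by rw [hN], by omega, hr'⟩
  · right; left
    have hN : Nat.card (normalizer ((P : Subgroup G) : Set G)) = 7 * 9 := by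
      rw [h, hcard] at hNcard; omega
    obtain ⟨hr, hCr⟩ := relIndex_data P hPcard 9 hN
    have hr2 : (centralizer ((P : Subgroup G) : Set G)).relIndex
        (normalizer ((P : Subgroup G) : Set G)) ∣ 3 := by simpa using hr
    have hr' : (centralizer ((P : Subgroup G) : Set G)).relIndex
        (normalizer ((P : Subgroup G) : Set G)) = 3 := by
      rcases (Nat.dvd_prime (by norm_num : Nat.Prime 3)).1 hr2 with h1 | h3
      · exact absurd h1 hburn
      · exact h3
    rw [hr'] at hCr
    exact ⟨by rw [hN], by omega, hr'⟩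
  · right; right
    have hN : Nat.card (normalizer ((P : Subgroup G) : Set G)) = 7 * 2 := by
      rw [h, hcard] at hNcard; omega
    obtain ⟨hr, hCr⟩ := relIndex_data P hPcard 2 hN
    have hr2 : (centralizer ((P : Subgroup G) : Set G)).relIndex
        (normalizer ((P : Subgroup G) : Set G)) ∣ 2 := by simpa using hr
    have hr' : (centralizer ((P : Subgroup G) : Set G)).relIndex
        (normalizer ((P : Subgroup G) : Set G)) = 2 := by
      rcases (Nat.dvd_prime Nat.prime_two).1 hr2 with h1 | h3
      · exact absurd h1 hburn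
      · exact h3
    rw [hr'] at hCr
    exact ⟨by rw [hN], by omega, hr'⟩

end Cfsg.Agent.Lib.Helper6.OrdC
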