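import Mathlib

/-!
# Linear algebra for involutions: trace and determinant

An operator `A` on a finite-dimensional complex space with `A * A = 1` has trace
`dim - 2 b` and determinant `(-1) ^ b` for some `b ≤ dim`.
-/

set_option autoImplicit false

namespace Cfsg.Agent.Lib.Helper6.OrdA

/-- a multiset of signs: its sum and product -/
theorem multiset_signs (s : Multiset ℂ) (hs : ∀ μ ∈ s, μ = 1 ∨ μ = -1) :
    ∃ b : ℕ, b ≤ Multiset.card s ∧ s.sum = (Multiset.card s : ℂ) - 2 * (b : ℂ) ∧
      s.prod = (-1) ^ b := by
  induction s using Multiset.induction_on with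
  | empty => exact ⟨0, le_rfl, by simp, by simp⟩
  | cons a s ih =>
    obtain ⟨b, hb, hsum, hprod⟩ := ih (fun μ hμ => hs μ (Multiset.mem_cons_of_mem hμ))
    rcases hs a (Multiset.mem_cons_self a s) with rfl | rfl
    · refine ⟨b, ?_, ?_, ?_⟩
      · rw [Multiset.card_cons]; omega
      · rw [Multiset.sum_cons, Multiset.card_cons, hsum]; push_cast; ring
      · rw [Multiset.prod_cons, hprod, one_mul]
    · refine ⟨b + 1, ?_, ?_, ?_⟩
      · rw [Multiset.card_cons]; omega
      · rw [Multiset.sum_cons, Multiset.card_cons, hsum]; push_cast; ring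
      · rw [Multiset.prod_cons, hprod, pow_succ]; ring

variable {V : Type*} [AddCommGroup V] [Module ℂ V] [FiniteDimensional ℂ V]

/-- trace and determinant of an involution -/
theorem involution_trace_det (A : V →ₗ[ℂ] V) (hA : A * A = 1) :
    ∃ b : ℕ, b ≤ Module.finrank ℂ V ∧
      LinearMap.trace ℂ V A = (Module.finrank ℂ V : ℂ) - 2 * (b : ℂ) ∧
      LinearMap.det A = (-1) ^ b := by
  have hsplit : (LinearMap.charpoly A).Splits := IsAlgClosed.splits _
  have hroots : ∀ μ ∈ (LinearMap.charpoly A).roots, μ = 1 ∨ μ = -1 := by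
    intro μ hμ
    have hroot : (LinearMap.charpoly A).IsRoot μ := (Polynomial.mem_roots'.1 hμ).2
    have hev : Module.End.HasEigenvalue A μ :=
      (Module.End.hasEigenvalue_iff_isRoot_charpoly A μ).2 hroot
    obtain ⟨v, hv⟩ := hev.exists_hasEigenvector
    have h1 : A v = μ • v := hv.apply_eq_smul
    have h2 : (A * A) v = (μ * μ) • v := by
      rw [Module.End.mul_apply, h1, map_smul, h1, smul_smul]
    rw [hA, Module.End.one_apply] at h2
    have h3 : (μ * μ - 1) • v = 0 := by
      rw [sub_smul, one_smul, ← h2, sub_self]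
    have h4 : μ * μ - 1 = 0 := by
      rcases smul_eq_zero.1 h3 with h | h
      · exact h
      · exact absurd h hv.2
    have h5 : (μ - 1) * (μ + 1) = 0 := by linear_combination h4
    rcases mul_eq_zero.1 h5 with h | h
    · left; linear_combination h
    · right; linear_combination h
  obtain ⟨b, hb, hsum, hprod⟩ := multiset_signs _ hroots
  have hcard : Multiset.card (LinearMap.charpoly A).roots = Module.finrank ℂ V := by
    rw [IsAlgClosed.card_roots_eq_natDegree, LinearMap.charpoly_natDegree]
  rw [hcard] at hb hsum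
  refine ⟨b, hb, ?_, ?_⟩
  · rw [Module.End.trace_eq_sum_roots_charpoly_of_splits hsplit, hsum]
  · rw [Module.End.det_eq_prod_roots_charpoly_of_splits hsplit, hprod]

end Cfsg.Agent.Lib.Helper6.OrdA
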