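import Mathlib

/-!
# Fixed points of a cyclic subgroup in a complex representation; determinants on perfect groups
-/

set_option autoImplicit false

namespace Cfsg.Agent.Lib.Helper6.OrdA

variable {G : Type*} [Group G] [Finite G]
variable {V : Type*} [AddCommGroup V] [Module ℂ V] [FiniteDimensional ℂ V]

/-- The sum of the character over the powers of `g` is `orderOf g` times the dimension of the
fixed space of `g`. -/
theorem sum_character_pow (ρ : Representation ℂ G V) (g : G) :
    ∃ n : ℕ, n ≤ Module.finrank ℂ V ∧
      ∑ i ∈ Finset.range (orderOf g), ρ.character (g ^ i) = (orderOf g : ℂ) * (n : ℂ) ∧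
      (n = Module.finrank ℂ V → ρ g = LinearMap.id) := by
  classical
  have hfin : IsOfFinOrder g := isOfFinOrder_of_finite g
  let H : Subgroup G := Subgroup.zpowers g
  have : Fintype H := Fintype.ofFinite H
  have hcard : Nat.card H = orderOf g := Nat.card_zpowers g
  have hH0 : (Nat.card H : ℂ) ≠ 0 := Nat.cast_ne_zero.mpr Nat.card_pos.ne'
  have : Invertible (Nat.card H : ℂ) := invertibleOfNonzero hH0
  let σ : Representation ℂ H V := ρ.comp H.subtype
  have h1 := Representation.card_inv_mul_sum_char_eq_finrank σ
  have h2 : ∑ h : H, σ.character h =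
      ∑ i ∈ Finset.range (orderOf g), ρ.character (g ^ i) := by
    rw [← Equiv.sum_comp (finEquivZPowers hfin) (fun h : H => σ.character h),
      ← Fin.sum_univ_eq_sum_range (fun i => ρ.character (g ^ i)) (orderOf g)]
    refine Finset.sum_congr rfl fun i _ => ?_
    rfl
  refine ⟨Module.finrank ℂ (Representation.invariants σ),
    Submodule.finrank_le _, ?_, ?_⟩
  · rw [← h2, ← h1, hcard]
    have : (orderOf g : ℂ) ≠ 0 := by rw [← hcard]; exact hH0
    field_simp
  · intro hn
    have htop : Representation.invariants σ = ⊤ :=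
      Submodule.eq_top_of_finrank_eq hn
    ext v
    have hv : v ∈ Representation.invariants σ := by rw [htop]; trivial
    have := (Representation.mem_invariants σ v).1 hv
      ⟨g, Subgroup.mem_zpowers g⟩
    exact this

omit [Finite G] [FiniteDimensional ℂ V] in
/-- The determinant of a representation of a perfect group is trivial. -/
theorem det_eq_one_of_perfect (hperf : commutator G = ⊤) (ρ : Representation ℂ G V) (g : G) :
    LinearMap.det (ρ g) = 1 := by
  let φ : G →* ℂ := (LinearMap.det : (V →ₗ[ℂ] V) →* ℂ).comp ρ
  let ψ : G →* ℂˣ := φ.toHomUnits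
  have h1 : commutator G ≤ ψ.ker := Abelianization.commutator_subset_ker ψ
  have h2 : g ∈ ψ.ker := h1 (by rw [hperf]; trivial)
  have h3 : ψ g = 1 := MonoidHom.mem_ker.1 h2
  have h4 : ((ψ g : ℂˣ) : ℂ) = 1 := by rw [h3]; rfl
  exact h4

end Cfsg.Agent.Lib.Helper6.OrdA
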