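import Mathlib
import Cfsg.Agent.Lib.Helper6.OrdA1
import Cfsg.Agent.Lib.Helper6.OrdA2
import Cfsg.Agent.Lib.Helper8.Deflation
import Cfsg.Agent.Lib.Helper8.LinearCount
import Cfsg.Agent.Lib.Helper8.TwoClass
import Cfsg.Agent.Lib.Helper8.CD2
import Cfsg.Agent.S0134
import Cfsg.Agent.S0135
import Cfsg.Agent.S0139

/-!
# Irreducible characters of simple groups: fixed points of cyclic subgroups, kernels, involutions
-/

set_option autoImplicit false

namespace Cfsg.Agent.Lib.Helper6.OrdB

open Cfsg Cfsg.Agent.Lib.Helper8 Cfsg.Agent.Lib.Helper6.OrdA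
open scoped commutatorElement

universe u

variable {G : Type u} [Group G] [Finite G]

/-- a realisation of an irreducible character -/
theorem exists_rep (χ : IrrCharacter G) :
    ∃ (n : ℕ) (ρ : Representation ℂ G (Fin n → ℂ)), ρ.IsIrreducible ∧ ρ.character = χ.1 ∧
      n = charDegree χ.1 := by
  obtain ⟨n, ρ, hirr, hχ⟩ := χ.2
  refine ⟨n, ρ, hirr, hχ, ?_⟩
  have h1 : χ.1 1 = (charDegree χ.1 : ℂ) := (irr_apply_one_eq_charDegree χ.2).1
  have h2 : χ.1 1 = (n : ℂ) := by
    rw [← hχ, Representation.char_one, Module.finrank_fin_fun]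
  rw [h2] at h1
  exact_mod_cast h1

theorem apply_one (χ : IrrCharacter G) : χ.1 1 = (charDegree χ.1 : ℂ) :=
  (irr_apply_one_eq_charDegree χ.2).1

theorem charDegree_pos (χ : IrrCharacter G) : 0 < charDegree χ.1 :=
  (irr_apply_one_eq_charDegree χ.2).2

/-- the degree divides the group order -/
theorem charDegree_dvd (χ : IrrCharacter G) : charDegree χ.1 ∣ Nat.card G := by
  obtain ⟨n, ρ, hirr, -, hn⟩ := exists_rep χ
  have := Cfsg.Agent.S0135.result ρ
  rw [Module.finrank_fin_fun] at this
  rw [← hn]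
  exact this

/-- The sum of an irreducible character over the powers of `g`. -/
theorem sum_pow (χ : IrrCharacter G) (g : G) :
    ∃ n : ℕ, n ≤ charDegree χ.1 ∧
      ∑ i ∈ Finset.range (orderOf g), χ.1 (g ^ i) = (orderOf g : ℂ) * (n : ℂ) ∧
      (n = charDegree χ.1 → χ.1 g = χ.1 1) := by
  obtain ⟨n, ρ, hirr, hχ, hn⟩ := exists_rep χ
  obtain ⟨m, hm, hsum, htop⟩ := sum_character_pow ρ g
  rw [Module.finrank_fin_fun] at hm htop
  refine ⟨m, hn ▸ hm, ?_, ?_⟩
  · rw [← hχ]; exact hsum
  · intro h
    have h1 := htop (by rw [h, hn])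
    rw [← hχ]
    unfold Representation.character
    rw [h1, map_one]
    rfl

/-- In a simple group, a non-constant irreducible character is faithful. -/
theorem eq_one_of_apply_eq [IsSimpleGroup G] (χ : IrrCharacter G) {h0 : G} (h0ne : χ.1 h0 ≠ χ.1 1)
    {g : G} (hg : χ.1 g = χ.1 1) : g = 1 := by
  obtain ⟨n, ρ, hirr, hχ, hn⟩ := exists_rep χ
  have hker : ∀ y : G, χ.1 y = χ.1 1 ↔ ρ y = LinearMap.id := by
    intro y
    rw [← hχ, Representation.char_one]
    exact Cfsg.Agent.S0139.result ρ y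
  have hgk : g ∈ MonoidHom.ker ρ := by
    rw [MonoidHom.mem_ker]
    exact (hker g).1 hg
  rcases (inferInstance : (MonoidHom.ker ρ).Normal).eq_bot_or_eq_top with hb | ht
  · rw [hb] at hgk
    exact Subgroup.mem_bot.1 hgk
  · exfalso
    apply h0ne
    rw [hker]
    have : h0 ∈ MonoidHom.ker ρ := by rw [ht]; trivial
    exact MonoidHom.mem_ker.1 this

/-- In a perfect group, the value of an irreducible character at an involution is congruent
to the degree modulo `4`. -/
theorem involution_apply (hperf : commutator G = ⊤) (χ : IrrCharacter G) {t : G}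
    (ht : t * t = 1) :
    ∃ b : ℕ, b ≤ charDegree χ.1 ∧ χ.1 t = (charDegree χ.1 : ℂ) - 2 * (b : ℂ) ∧ Even b := by
  obtain ⟨n, ρ, hirr, hχ, hn⟩ := exists_rep χ
  have hA : ρ t * ρ t = 1 := by rw [← map_mul, ht, map_one]
  obtain ⟨b, hb, htr, hdet⟩ := involution_trace_det (ρ t) hA
  rw [Module.finrank_fin_fun] at hb htr
  refine ⟨b, hn ▸ hb, ?_, ?_⟩
  · have h1 : χ.1 t = ρ.character t := by rw [hχ]
    rw [h1, ← hn]
    exact htr
  · rw [det_eq_one_of_perfect hperf ρ t] at hdet
    by_contra hodd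
    rw [Nat.not_even_iff_odd] at hodd
    rw [hodd.neg_one_pow] at hdet
    norm_num at hdet

omit [Finite G] in
/-- In a non-abelian simple group the commutator subgroup is everything. -/
theorem commutator_eq_top [IsSimpleGroup G] (hG : ¬ IsMulCommutative G) : commutator G = ⊤ := by
  rcases (inferInstance : (commutator G).Normal).eq_bot_or_eq_top with hb | ht
  · exfalso
    apply hG
    refine ⟨⟨fun a b => ?_⟩⟩
    have : ⁅a, b⁆ ∈ commutator G := Subgroup.commutator_mem_commutator
      (Subgroup.mem_top a) (Subgroup.mem_top b)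
    rw [hb, Subgroup.mem_bot, commutatorElement_def] at this
    have h2 : a * b = (a * b * a⁻¹ * b⁻¹) * (b * a) := by group
    rw [h2, this, one_mul]
  · exact ht

/-- In a perfect group the only irreducible character of degree one is the trivial one. -/
theorem eq_trivIrr_of_charDegree_eq_one (hperf : commutator G = ⊤) (χ : IrrCharacter G)
    (h1 : charDegree χ.1 = 1) : χ = trivIrr G := by
  apply Subtype.ext
  funext c
  rw [trivIrr_apply]
  have h2 : χ.1 1 = 1 := by rw [apply_one, h1]; simp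
  exact linear_irr_commutator χ.2 h2 (by rw [hperf]; trivial)

/-- the sum of the squares of the degrees -/
theorem sum_sq_charDegree [Fintype (IrrCharacter G)] :
    ∑ χ : IrrCharacter G, (charDegree χ.1) ^ 2 = Nat.card G := by
  have h := Cfsg.Agent.S0134.result (G := G)
  rw [finsum_eq_sum_of_fintype] at h
  have h2 : ∑ χ : IrrCharacter G, (χ : G → ℂ) 1 ^ 2 =
      ((∑ χ : IrrCharacter G, (charDegree χ.1) ^ 2 : ℕ) : ℂ) := by
    push_cast
    refine Finset.sum_congr rfl fun χ _ => ?_
    rw [apply_one]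
  rw [h2] at h
  exact_mod_cast h

theorem sum_sq_le [Fintype (IrrCharacter G)] (S : Finset (IrrCharacter G)) :
    ∑ χ ∈ S, (charDegree χ.1) ^ 2 ≤ Nat.card G := by
  rw [← sum_sq_charDegree]
  exact Finset.sum_le_sum_of_subset (Finset.subset_univ S)

end Cfsg.Agent.Lib.Helper6.OrdB
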