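import Mathlib
import Cfsg.Agent.Lib.Helper6.OrdB1
import Cfsg.Agent.Lib.Helper8.DO18

/-!
# The principal 7-block of a simple group of order 4032
-/

set_option autoImplicit false
set_option maxHeartbeats 800000

namespace Cfsg.Agent.Lib.Helper6.OrdD

open Cfsg Cfsg.Agent.Lib.Helper8 Cfsg.Agent.Lib.Helper6.OrdB

universe u

/-- the possible signed degrees `≡ ±1` modulo 7 -/
theorem deg_cases (d : ℕ) (ε : ℤ) (hε : ε = 1 ∨ ε = -1) (hdvd : d ∣ 4032) (hsq : d ^ 2 ≤ 4032)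
    (hd1 : d ≠ 1) (hmod : (d : ℤ) ≡ ε [ZMOD 7]) :
    ε * (d : ℤ) = 8 ∨ ε * (d : ℤ) = 36 ∨ ε * (d : ℤ) = -6 ∨ ε * (d : ℤ) = -48 := by
  have hle : d ≤ 63 := by nlinarith
  unfold Int.ModEq at hmod
  rcases hε with rfl | rfl
  · interval_cases d <;> omega
  · interval_cases d <;> omega

/-- recovering sign and degree -/
theorem sign_deg {d : ℕ} {ε s : ℤ} (hε : ε = 1 ∨ ε = -1) (hd : 0 < d) (h : ε * (d : ℤ) = s) :
    (0 < s → ε = 1 ∧ (d : ℤ) = s) ∧ (s < 0 → ε = -1 ∧ (d : ℤ) = -s) := by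
  rcases hε with rfl | rfl
  · constructor
    · intro _; exact ⟨rfl, by linarith⟩
    · intro hs; exfalso; have : (0 : ℤ) < d := by exact_mod_cast hd
      linarith
  · constructor
    · intro hs; exfalso; have : (0 : ℤ) < d := by exact_mod_cast hd
      linarith
    · intro _; exact ⟨rfl, by linarith⟩

variable {G : Type u} [Group G] [Fintype G]

theorem sq_le_card (χ : IrrCharacter G) : (charDegree χ.1) ^ 2 ≤ Nat.card G := by
  classical
  have : Fintype (IrrCharacter G) := Fintype.ofFinite _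
  have := sum_sq_le ({χ} : Finset (IrrCharacter G))
  rwa [Finset.sum_singleton] at this

/-- The case `e = 2`. -/
theorem brauer_e2 (hperf : commutator G = ⊤) (hcard : Nat.card G = 4032)
    (M : Ideal AlgInt) [Fact (Nat.Prime 7)] (hM : IsPModular 7 M) (P' : Subgroup G) (x : G)
    (hx : orderOf x = 7) (hP' : P' = Subgroup.zpowers x)
    (he : (Subgroup.centralizer (P' : Set G)).relIndex (Subgroup.normalizer (P' : Set G)) = 2) :
    ∃ (χ : IrrCharacter G) (Y : Set (IrrCharacter G)), χ ≠ trivIrr G ∧ charDegree χ.1 = 8 ∧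
      trivIrr G ∉ Y ∧ χ ∉ Y ∧ Nat.card Y = 3 ∧
      (∀ x' : G, x' ∈ P' → x' ≠ 1 → ∀ y : G, y ∈ Subgroup.centralizer (P' : Set G) →
          ¬ 7 ∣ orderOf y → χ.1 (x' * y) = 1) ∧
      (∀ θ ∈ Y, charDegree θ.1 = 9) ∧
      (∀ θ ∈ Y, ∀ g : G, ¬ 7 ∣ orderOf g → θ.1 g = 1 + χ.1 g) := by
  classical
  have hsq7 : ¬ 7 ^ 2 ∣ Nat.card G := by rw [hcard]; norm_num
  obtain ⟨-, X, Y, hXY, hdisj, hXc, hYc, εX, ε, hX, hε, hYdeg, hYagree, hYsum⟩ :=
    d1_principal 7 M hM P' x hx hP' hsq7 2 he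
  have hMtop : M ≠ ⊤ := (isPModular_isPrime hM).ne_top
  have htriv : trivIrr G ∈ X ∪ Y := hXY ▸ trivIrr_mem_principalBlock hMtop
  have htrivY : trivIrr G ∉ Y := by
    intro h
    have h1 := hYdeg _ h
    rw [charDegree_trivIrr] at h1
    unfold Int.ModEq at h1
    rcases hε with rfl | rfl <;> norm_num at h1
  have htrivX : trivIrr G ∈ X := by
    rcases htriv with h | h
    · exact h
    · exact absurd h htrivY
  have hεtriv : εX (trivIrr G) = 1 := by
    obtain ⟨h1, h2, -⟩ := hX _ htrivX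
    rw [charDegree_trivIrr] at h2
    unfold Int.ModEq at h2
    rcases h1 with h1 | h1
    · exact h1
    · rw [h1] at h2; norm_num at h2
  -- the second member of `X`
  have hX2 : X.ncard = 2 := by rw [← Nat.card_coe_set_eq]; exact hXc
  obtain ⟨a, b, hab, hXab⟩ := Set.ncard_eq_two.1 hX2
  obtain ⟨χ, hχne, hXeq⟩ : ∃ χ : IrrCharacter G, χ ≠ trivIrr G ∧ X = {trivIrr G, χ} := by
    rw [hXab] at htrivX
    rcases htrivX with h | h
    · exact ⟨b, fun hb => hab (by rw [← h, hb]), by rw [hXab, h]⟩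
    · rw [Set.mem_singleton_iff] at h
      exact ⟨a, fun ha => hab (by rw [← h, ha]), by rw [hXab, h, Set.pair_comm]⟩
  have hχX : χ ∈ X := by rw [hXeq]; simp
  have hχY : χ ∉ Y := fun h => (Set.disjoint_left.1 hdisj hχX h)
  obtain ⟨hεχ, hχmod, hχval⟩ := hX χ hχX
  have hYne : Y.Nonempty := by
    rw [← Set.nonempty_coe_sort]
    apply Nat.card_pos_iff.1 ?_ |>.1
    rw [hYc]; norm_num
  obtain ⟨θ0, hθ0⟩ := hYne
  -- the equation at the identity
  have hsumX : ∀ g : G, ∑ᶠ χ' ∈ X, (εX χ' : ℂ) * (χ' : G → ℂ) g = 1 + (εX χ : ℂ) * χ.1 g := by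
    intro g
    rw [hXeq, finsum_mem_pair (Ne.symm hχne), hεtriv, trivIrr_apply]
    push_cast
    ring
  have h1reg : ¬ 7 ∣ orderOf (1 : G) := by rw [orderOf_one]; norm_num
  have heq1 := hYsum θ0 hθ0 1 h1reg
  rw [hsumX 1, apply_one θ0, apply_one χ] at heq1
  have heqZ : ε * (charDegree θ0.1 : ℤ) = 1 + εX χ * (charDegree χ.1 : ℤ) := by
    exact_mod_cast heq1
  -- the degree of `χ`
  have hd1 : charDegree χ.1 ≠ 1 := fun h => hχne (eq_trivIrr_of_charDegree_eq_one hperf χ h)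
  have hdvd : charDegree χ.1 ∣ 4032 := hcard ▸ charDegree_dvd χ
  have hsq : (charDegree χ.1) ^ 2 ≤ 4032 := hcard ▸ sq_le_card χ
  have hdvdθ : charDegree θ0.1 ∣ 4032 := hcard ▸ charDegree_dvd θ0
  have hposθ : 0 < charDegree θ0.1 := charDegree_pos θ0
  have hdvdθ' : (ε * (charDegree θ0.1 : ℤ)).natAbs ∣ 4032 := by
    rcases hε with rfl | rfl
    · simpa using hdvdθ
    · simpa using hdvdθ
  have hcases := deg_cases _ _ hεχ hdvd hsq hd1 hχmod
  have hs8 : εX χ * (charDegree χ.1 : ℤ) = 8 := by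
    rcases hcases with h | h | h | h
    · exact h
    · exfalso; rw [heqZ, h] at hdvdθ'; revert hdvdθ'; decide
    · exfalso; rw [heqZ, h] at hdvdθ'; revert hdvdθ'; decide
    · exfalso; rw [heqZ, h] at hdvdθ'; revert hdvdθ'; decide
  obtain ⟨hεχ1, hd8⟩ := (sign_deg hεχ (charDegree_pos χ) hs8).1 (by norm_num)
  rw [hs8] at heqZ
  obtain ⟨hε1, hdθ9⟩ := (sign_deg hε hposθ heqZ).1 (by norm_num)
  have hd8' : charDegree χ.1 = 8 := by exact_mod_cast hd8
  have hdθ9' : charDegree θ0.1 = 9 := by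
    have : (charDegree θ0.1 : ℤ) = 9 := by rw [hdθ9]; norm_num
    exact_mod_cast this
  refine ⟨χ, Y, hχne, hd8', htrivY, hχY, by rw [hYc], ?_, ?_, ?_⟩
  · intro x' hx' hx'1 y hy hyreg
    rw [hχval x' hx' hx'1 y hy hyreg, hεχ1]
    norm_num
  · intro θ hθ
    have h1 := hYagree θ hθ θ0 hθ0 1 h1reg
    rw [apply_one θ, apply_one θ0, hdθ9'] at h1
    exact_mod_cast h1
  · intro θ hθ g hg
    have h1 := hYsum θ hθ g hg
    rw [hsumX g, hε1, hεχ1] at h1
    push_cast at h1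
    linear_combination h1

/-- The case `e = 3`. -/
theorem brauer_e3 (hperf : commutator G = ⊤) (hcard : Nat.card G = 4032)
    (M : Ideal AlgInt) [Fact (Nat.Prime 7)] (hM : IsPModular 7 M) (P' : Subgroup G) (x : G)
    (hx : orderOf x = 7) (hP' : P' = Subgroup.zpowers x)
    (he : (Subgroup.centralizer (P' : Set G)).relIndex (Subgroup.normalizer (P' : Set G)) = 3) :
    ∃ χ : IrrCharacter G, charDegree χ.1 = 6 ∧
      (∀ x' : G, x' ∈ P' → x' ≠ 1 → ∀ y : G, y ∈ Subgroup.centralizer (P' : Set G) →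
          ¬ 7 ∣ orderOf y → χ.1 (x' * y) = -1) := by
  classical
  have hsq7 : ¬ 7 ^ 2 ∣ Nat.card G := by rw [hcard]; norm_num
  obtain ⟨-, X, Y, hXY, hdisj, hXc, hYc, εX, ε, hX, hε, hYdeg, hYagree, hYsum⟩ :=
    d1_principal 7 M hM P' x hx hP' hsq7 3 he
  have hMtop : M ≠ ⊤ := (isPModular_isPrime hM).ne_top
  have htriv : trivIrr G ∈ X ∪ Y := hXY ▸ trivIrr_mem_principalBlock hMtop
  have htrivY : trivIrr G ∉ Y := by
    intro h
    have h1 := hYdeg _ h
    rw [charDegree_trivIrr] at h1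
    unfold Int.ModEq at h1
    rcases hε with rfl | rfl <;> norm_num at h1
  have htrivX : trivIrr G ∈ X := by
    rcases htriv with h | h
    · exact h
    · exact absurd h htrivY
  have hεtriv : εX (trivIrr G) = 1 := by
    obtain ⟨h1, h2, -⟩ := hX _ htrivX
    rw [charDegree_trivIrr] at h2
    unfold Int.ModEq at h2
    rcases h1 with h1 | h1
    · exact h1
    · rw [h1] at h2; norm_num at h2
  -- the other two members of `X`
  have hX3 : X.ncard = 3 := by rw [← Nat.card_coe_set_eq]; exact hXc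
  have hX2 : (X \ {trivIrr G}).ncard = 2 := by
    rw [Set.ncard_sdiff_singleton_of_mem htrivX, hX3]
  obtain ⟨χ1, χ2, h12, hXab⟩ := Set.ncard_eq_two.1 hX2
  have hχ1mem : χ1 ∈ X \ {trivIrr G} := by rw [hXab]; simp
  have hχ2mem : χ2 ∈ X \ {trivIrr G} := by rw [hXab]; simp
  have hχ1ne : χ1 ≠ trivIrr G := fun h => hχ1mem.2 (by rw [h]; rfl)
  have hχ2ne : χ2 ≠ trivIrr G := fun h => hχ2mem.2 (by rw [h]; rfl)
  have hXeq : X = insert (trivIrr G) ({χ1, χ2} : Set (IrrCharacter G)) := by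
    rw [← hXab, Set.insert_sdiff_singleton, Set.insert_eq_of_mem htrivX]
  obtain ⟨hε1, hmod1, hval1⟩ := hX χ1 hχ1mem.1
  obtain ⟨hε2, hmod2, hval2⟩ := hX χ2 hχ2mem.1
  have hYne : Y.Nonempty := by
    rw [← Set.nonempty_coe_sort]
    apply Nat.card_pos_iff.1 ?_ |>.1
    rw [hYc]; norm_num
  obtain ⟨θ0, hθ0⟩ := hYne
  have hsumX : ∀ g : G, ∑ᶠ χ' ∈ X, (εX χ' : ℂ) * (χ' : G → ℂ) g =
      1 + (εX χ1 : ℂ) * χ1.1 g + (εX χ2 : ℂ) * χ2.1 g := by
    intro g
    have hnot : trivIrr G ∉ ({χ1, χ2} : Set (IrrCharacter G)) := by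
      intro h
      rcases h with h | h
      · exact hχ1ne h.symm
      · exact hχ2ne (Set.mem_singleton_iff.1 h).symm
    rw [hXeq, finsum_mem_insert _ hnot (Set.toFinite _), finsum_mem_pair h12, hεtriv,
      trivIrr_apply]
    push_cast
    ring
  have h1reg : ¬ 7 ∣ orderOf (1 : G) := by rw [orderOf_one]; norm_num
  have heq1 := hYsum θ0 hθ0 1 h1reg
  rw [hsumX 1, apply_one θ0, apply_one χ1, apply_one χ2] at heq1
  have heqZ : ε * (charDegree θ0.1 : ℤ) =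
      1 + εX χ1 * (charDegree χ1.1 : ℤ) + εX χ2 * (charDegree χ2.1 : ℤ) := by
    exact_mod_cast heq1
  have hd1 : ∀ χ : IrrCharacter G, χ ≠ trivIrr G → charDegree χ.1 ≠ 1 :=
    fun χ hne h => hne (eq_trivIrr_of_charDegree_eq_one hperf χ h)
  have hdvd : ∀ χ : IrrCharacter G, charDegree χ.1 ∣ 4032 := fun χ => hcard ▸ charDegree_dvd χ
  have hsq : ∀ χ : IrrCharacter G, (charDegree χ.1) ^ 2 ≤ 4032 := fun χ => hcard ▸ sq_le_card χ
  have hdvdθ' : (ε * (charDegree θ0.1 : ℤ)).natAbs ∣ 4032 := by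
    rcases hε with rfl | rfl
    · simpa using hdvd θ0
    · simpa using hdvd θ0
  have hc1 := deg_cases _ _ hε1 (hdvd χ1) (hsq χ1) (hd1 χ1 hχ1ne) hmod1
  have hc2 := deg_cases _ _ hε2 (hdvd χ2) (hsq χ2) (hd1 χ2 hχ2ne) hmod2
  rw [heqZ] at hdvdθ'
  have hsix : εX χ1 * (charDegree χ1.1 : ℤ) = -6 ∨ εX χ2 * (charDegree χ2.1 : ℤ) = -6 := by
    rcases hc1 with h1 | h1 | h1 | h1 <;> rcases hc2 with h2 | h2 | h2 | h2 <;>
      first
        | exact Or.inl h1
        | exact Or.inr h2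
        | (exfalso; rw [h1, h2] at hdvdθ'; revert hdvdθ'; decide)
  rcases hsix with h6 | h6
  · obtain ⟨hεm, hd6⟩ := (sign_deg hε1 (charDegree_pos χ1) h6).2 (by norm_num)
    refine ⟨χ1, ?_, ?_⟩
    · have : (charDegree χ1.1 : ℤ) = 6 := by rw [hd6]; norm_num
      exact_mod_cast this
    · intro x' hx' hx'1 y hy hyreg
      rw [hval1 x' hx' hx'1 y hy hyreg, hεm]
      norm_num
  · obtain ⟨hεm, hd6⟩ := (sign_deg hε2 (charDegree_pos χ2) h6).2 (by norm_num)
    refine ⟨χ2, ?_, ?_⟩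
    · have : (charDegree χ2.1 : ℤ) = 6 := by rw [hd6]; norm_num
      exact_mod_cast this
    · intro x' hx' hx'1 y hy hyreg
      rw [hval2 x' hx' hx'1 y hy hyreg, hεm]
      norm_num

end Cfsg.Agent.Lib.Helper6.OrdD
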