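import Mathlib
import Cfsg.Agent.Lib.Helper6.OrdC1
import Cfsg.Agent.Lib.Helper6.OrdD1

/-!
# Simple groups of order 4032: the Sylow 7-subgroups are self-centralizing
-/

set_option autoImplicit false
set_option maxHeartbeats 800000

namespace Cfsg.Agent.Lib.Helper6.OrdE

open Cfsg Cfsg.Agent.Lib.Helper8 Cfsg.Agent.Lib.Helper6.OrdB Cfsg.Agent.Lib.Helper6.OrdC
  Cfsg.Agent.Lib.Helper6.OrdD

universe u

theorem sum_range_14 (F : ℕ → ℂ) (c : ℂ) (h : ∀ i, ¬ 7 ∣ i → F i = c) :
    ∑ i ∈ Finset.range 14, F i = F 0 + F 7 + 12 * c := by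
  rw [← Finset.sum_filter_add_sum_filter_not (Finset.range 14) (fun i => 7 ∣ i)]
  have h1 : (Finset.range 14).filter (fun i => 7 ∣ i) = {0, 7} := by decide
  have h2 : ((Finset.range 14).filter (fun i => ¬ 7 ∣ i)).card = 12 := by decide
  rw [h1, Finset.sum_pair (by norm_num)]
  have h3 : ∑ i ∈ (Finset.range 14).filter (fun i => ¬ 7 ∣ i), F i =
      ∑ i ∈ (Finset.range 14).filter (fun i => ¬ 7 ∣ i), c :=
    Finset.sum_congr rfl fun i hi => h i (Finset.mem_filter.1 hi).2
  rw [h3, Finset.sum_const, h2]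
  simp

theorem sum_range_21 (F : ℕ → ℂ) (c : ℂ) (h : ∀ i, ¬ 7 ∣ i → F i = c) :
    ∑ i ∈ Finset.range 21, F i = F 0 + F 7 + F 14 + 18 * c := by
  rw [← Finset.sum_filter_add_sum_filter_not (Finset.range 21) (fun i => 7 ∣ i)]
  have h1 : (Finset.range 21).filter (fun i => 7 ∣ i) = {0, 7, 14} := by decide
  have h2 : ((Finset.range 21).filter (fun i => ¬ 7 ∣ i)).card = 18 := by decide
  rw [h1, Finset.sum_insert (by decide), Finset.sum_pair (by norm_num)]
  have h3 : ∑ i ∈ (Finset.range 21).filter (fun i => ¬ 7 ∣ i), F i =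
      ∑ i ∈ (Finset.range 21).filter (fun i => ¬ 7 ∣ i), c :=
    Finset.sum_congr rfl fun i hi => h i (Finset.mem_filter.1 hi).2
  rw [h3, Finset.sum_const, h2]
  simp
  ring

variable {G : Type u} [Group G] [Fintype G] [IsSimpleGroup G]

omit [Fintype G] [IsSimpleGroup G] in
/-- the values of a character as in Brauer's theorem on the powers of `x * y` -/
theorem apply_pow_mul {P' : Subgroup G} {x y : G} (hx : orderOf x = 7) (hxP : x ∈ P')
    (hy : y ∈ Subgroup.centralizer (P' : Set G)) {r : ℕ} (hr : orderOf y = r) (hr7 : ¬ 7 ∣ r)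
    {χ : IrrCharacter G} {c : ℂ}
    (hval : ∀ x' : G, x' ∈ P' → x' ≠ 1 → ∀ y : G, y ∈ Subgroup.centralizer (P' : Set G) →
      ¬ 7 ∣ orderOf y → χ.1 (x' * y) = c) (i : ℕ) (hi : ¬ 7 ∣ i) :
    χ.1 ((x * y) ^ i) = c := by
  have hcomm : Commute x y := Subgroup.mem_centralizer_iff.1 hy x hxP
  rw [hcomm.mul_pow]
  apply hval _ (pow_mem hxP i) _ _ (pow_mem hy i)
  · intro h7
    apply hr7
    rw [← hr]
    exact dvd_trans h7 (orderOf_pow_dvd i)
  · intro h1
    apply hi
    rw [← hx]
    exact orderOf_dvd_of_pow_eq_one h1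

/-- **Sylow 7-subgroups are self-centralizing with normalizer of order 14.** -/
theorem sylow7_self_centralizing (hG : ¬ IsMulCommutative G) (hcard : Nat.card G = 4032)
    (P : Sylow 7 G) :
    Nat.card P = 7 ∧ Nat.card (Subgroup.normalizer ((P : Subgroup G) : Set G)) = 14 ∧
      Subgroup.centralizer ((P : Subgroup G) : Set G) = (P : Subgroup G) ∧
      (Subgroup.centralizer ((P : Subgroup G) : Set G)).relIndex
            (Subgroup.normalizer ((P : Subgroup G) : Set G)) = 2 := by
  classical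
  have h7 : Fact (Nat.Prime 7) := ⟨by norm_num⟩
  have h2 : Fact (Nat.Prime 2) := ⟨Nat.prime_two⟩
  have h3 : Fact (Nat.Prime 3) := ⟨Nat.prime_three⟩
  have hperf : commutator G = ⊤ := commutator_eq_top hG
  obtain ⟨hPcard, hPbot, hPtop, hcases⟩ := sylow7_data hG hcard P
  obtain ⟨x, hx, hPx, hsq⟩ := d1_sylow_data 7 P hPcard
  obtain ⟨M, hM⟩ := exists_isPModular 7
  have hxP : x ∈ (P : Subgroup G) := by rw [hPx]; exact Subgroup.mem_zpowers x
  have hx1 : x ≠ 1 := by
    intro h
    rw [h, orderOf_one] at hx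
    norm_num at hx
  have hx7 : x ^ 7 = 1 := by
    have := pow_orderOf_eq_one x
    rwa [hx] at this
  have h1C : (1 : G) ∈ Subgroup.centralizer ((P : Subgroup G) : Set G) := one_mem _
  have h1reg : ¬ 7 ∣ orderOf (1 : G) := by rw [orderOf_one]; norm_num
  rcases hcases with ⟨-, hC, he⟩ | ⟨-, hC, he⟩ | ⟨hN, hC, he⟩
  · -- an involution in the centralizer
    exfalso
    obtain ⟨χ, Y, hχne, hd8, -, -, -, hval, -, -⟩ :=
      brauer_e2 hperf hcard M hM (P : Subgroup G) x hx hPx he
    obtain ⟨y', hy'⟩ := exists_prime_orderOf_dvd_card' (G :=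
      Subgroup.centralizer ((P : Subgroup G) : Set G)) 2 (by rw [hC]; norm_num)
    have hyo : orderOf (y' : G) = 2 := by rw [Subgroup.orderOf_coe, hy']
    have hyC : (y' : G) ∈ Subgroup.centralizer ((P : Subgroup G) : Set G) := y'.2
    have hcomm : Commute x (y' : G) := Subgroup.mem_centralizer_iff.1 hyC x hxP
    have hzo : orderOf (x * (y' : G)) = 14 := by
      rw [hcomm.orderOf_mul_eq_mul_orderOf_of_coprime (by rw [hx, hyo]; norm_num), hx, hyo]
    have hyy : (y' : G) * (y' : G) = 1 := by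
      rw [← pow_two, ← hyo]; exact pow_orderOf_eq_one _
    obtain ⟨n, hn, hsum, -⟩ := sum_pow χ (x * (y' : G))
    rw [hzo, sum_range_14 _ 1 (apply_pow_mul hx hxP hyC hyo (by norm_num) hval)] at hsum
    have hz7 : (x * (y' : G)) ^ 7 = (y' : G) := by
      rw [hcomm.mul_pow, hx7, one_mul]
      have : (y' : G) ^ 7 = ((y' : G) ^ 2) ^ 3 * (y' : G) := by group
      rw [this, pow_two, hyy, one_pow, one_mul]
    rw [pow_zero, hz7, apply_one, hd8] at hsum
    obtain ⟨b, hb, hχy, hbe⟩ := involution_apply hperf χ hyy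
    rw [hd8] at hχy hb
    rw [hχy] at hsum
    have hnat : 28 = 14 * n + 2 * b := by
      have : ((28 : ℕ) : ℂ) = ((14 * n + 2 * b : ℕ) : ℂ) := by
        push_cast
        linear_combination hsum
      exact_mod_cast this
    have hb0 : b = 0 := by
      obtain ⟨k, hk⟩ := hbe
      omega
    rw [hb0] at hχy
    have hχx : χ.1 x = 1 := by
      have := hval x hxP hx1 1 h1C h1reg
      rwa [mul_one] at this
    have hy1 : (y' : G) = 1 := by
      apply eq_one_of_apply_eq χ (h0 := x)
      · rw [hχx, apply_one, hd8]; norm_num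
      · rw [hχy, apply_one, hd8]; norm_num
    rw [hy1, orderOf_one] at hyo
    norm_num at hyo
  · -- an element of order three in the centralizer
    exfalso
    obtain ⟨χ, hd6, hval⟩ := brauer_e3 hperf hcard M hM (P : Subgroup G) x hx hPx he
    obtain ⟨y', hy'⟩ := exists_prime_orderOf_dvd_card' (G :=
      Subgroup.centralizer ((P : Subgroup G) : Set G)) 3 (by rw [hC]; norm_num)
    have hyo : orderOf (y' : G) = 3 := by rw [Subgroup.orderOf_coe, hy']
    have hyC : (y' : G) ∈ Subgroup.centralizer ((P : Subgroup G) : Set G) := y'.2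
    have hcomm : Commute x (y' : G) := Subgroup.mem_centralizer_iff.1 hyC x hxP
    have hzo : orderOf (x * (y' : G)) = 21 := by
      rw [hcomm.orderOf_mul_eq_mul_orderOf_of_coprime (by rw [hx, hyo]; norm_num), hx, hyo]
    have hy3 : (y' : G) ^ 3 = 1 := by
      rw [← hyo]; exact pow_orderOf_eq_one _
    obtain ⟨n, hn, hsum, -⟩ := sum_pow χ (x * (y' : G))
    rw [hzo, sum_range_21 _ (-1) (apply_pow_mul hx hxP hyC hyo (by norm_num) hval)] at hsum
    have hz7 : (x * (y' : G)) ^ 7 = (y' : G) := by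
      rw [hcomm.mul_pow, hx7, one_mul]
      have : (y' : G) ^ 7 = ((y' : G) ^ 3) ^ 2 * (y' : G) := by group
      rw [this, hy3, one_pow, one_mul]
    have hz14 : (x * (y' : G)) ^ 14 = (y' : G) ^ 2 := by
      rw [hcomm.mul_pow]
      have h1 : x ^ 14 = (x ^ 7) ^ 2 := by group
      have h2 : (y' : G) ^ 14 = ((y' : G) ^ 3) ^ 4 * (y' : G) ^ 2 := by group
      rw [h1, h2, hy3, hx7, one_pow, one_pow, one_mul, one_mul]
    rw [pow_zero, hz7, hz14] at hsum
    obtain ⟨n1, hn1, hsum1, htop1⟩ := sum_pow χ (y' : G)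
    rw [hyo, Finset.sum_range_succ, Finset.sum_range_succ, Finset.sum_range_one, pow_zero,
      pow_one] at hsum1
    rw [hd6] at hn1 htop1
    have hnat : 3 * n1 = 21 * n + 18 := by
      have : ((3 * n1 : ℕ) : ℂ) = ((21 * n + 18 : ℕ) : ℂ) := by
        push_cast
        linear_combination hsum - hsum1
      exact_mod_cast this
    have hn16 : n1 = 6 := by omega
    have hχy := htop1 hn16
    have hχx : χ.1 x = -1 := by
      have := hval x hxP hx1 1 h1C h1reg
      rwa [mul_one] at this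
    have hy1 : (y' : G) = 1 := by
      apply eq_one_of_apply_eq χ (h0 := x)
      · rw [hχx, apply_one, hd6]; norm_num
      · exact hχy
    rw [hy1, orderOf_one] at hyo
    norm_num at hyo
  · refine ⟨hPcard, hN, ?_, he⟩
    symm
    apply Subgroup.eq_of_le_of_card_ge
    · intro t ht
      rw [Subgroup.mem_centralizer_iff]
      intro s hs
      exact Cfsg.Agent.Lib.Helper9.SmallOrd.comm_of_card_prime P hPcard s hs t ht
    · rw [hC]; exact hPcard.ge

end Cfsg.Agent.Lib.Helper6.OrdE
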