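import Mathlib

/-!
# Sums of class functions supported on the conjugates of a self-centralizing Sylow subgroup of
prime order
-/

set_option autoImplicit false

namespace Cfsg.Agent.Lib.Helper6.OrdF

open Subgroup

variable {G : Type*} [Group G] {p : ℕ}

theorem mem_smul_sylow (u g : G) (P : Sylow p G) :
    g ∈ ((u • P : Sylow p G) : Subgroup G) ↔ u⁻¹ * g * u ∈ (P : Subgroup G) := by
  rw [Sylow.smul_def, Sylow.pointwise_smul_def, Subgroup.mem_pointwise_smul_iff_inv_smul_mem,
    ← map_inv, MulAut.smul_def, MulAut.conj_apply, inv_inv]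

variable [Finite G]

/-- a Sylow subgroup of prime order is generated by any of its elements of order `p` -/
theorem sylow_eq_zpowers (Q : Sylow p G) (hQ : Nat.card Q = p) {g : G} (hg : g ∈ (Q : Subgroup G))
    (hgo : orderOf g = p) : (Q : Subgroup G) = zpowers g := by
  symm
  apply Subgroup.eq_of_le_of_card_ge
  · rw [zpowers_le]; exact hg
  · rw [Nat.card_zpowers, hgo, hQ]

/-- every `p`-singular element lies in a Sylow subgroup and has order `p` -/
theorem exists_sylow_mem (hP : ∀ Q : Sylow p G, Nat.card Q = p ∧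
      centralizer ((Q : Subgroup G) : Set G) = (Q : Subgroup G)) {g : G} (hg : p ∣ orderOf g) :
    ∃ Q : Sylow p G, g ∈ (Q : Subgroup G) ∧ orderOf g = p := by
  have hg0 : orderOf g ≠ 0 := (orderOf_pos g).ne'
  have hho : orderOf (g ^ (orderOf g / p)) = p := orderOf_pow_orderOf_div hg0 hg
  have hpg : IsPGroup p (zpowers (g ^ (orderOf g / p))) :=
    IsPGroup.of_card (n := 1) (by rw [Nat.card_zpowers, hho, pow_one])
  obtain ⟨Q, hQ⟩ := hpg.exists_le_sylow
  have hhQ : g ^ (orderOf g / p) ∈ (Q : Subgroup G) := hQ (mem_zpowers _)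
  have hzQ := sylow_eq_zpowers Q (hP Q).1 hhQ hho
  have hgC : g ∈ centralizer ((Q : Subgroup G) : Set G) := by
    rw [hzQ, Subgroup.mem_centralizer_iff]
    intro y hy
    obtain ⟨i, rfl⟩ := Subgroup.mem_zpowers_iff.1 hy
    exact ((Commute.refl g).pow_left _ |>.zpow_left i).eq
  rw [(hP Q).2] at hgC
  refine ⟨Q, hgC, ?_⟩
  have h1 : orderOf g ∣ p := by
    have := orderOf_dvd_natCard (⟨g, hgC⟩ : (Q : Subgroup G))
    rwa [(hP Q).1, Subgroup.orderOf_mk] at this
  exact Nat.dvd_antisymm h1 hg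

variable [hp : Fact p.Prime]

/-- the number of elements conjugating a `p`-singular element into `P` -/
theorem card_conj_mem (hP : ∀ Q : Sylow p G, Nat.card Q = p ∧
      centralizer ((Q : Subgroup G) : Set G) = (Q : Subgroup G)) (P : Sylow p G) {g : G}
    (hg : p ∣ orderOf g) :
    Nat.card {u : G // u⁻¹ * g * u ∈ (P : Subgroup G)} =
      Nat.card (normalizer ((P : Subgroup G) : Set G)) := by
  obtain ⟨Q, hgQ, hgo⟩ := exists_sylow_mem hP hg
  obtain ⟨v, hv⟩ := MulAction.exists_smul_eq G P Q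
  have key : ∀ u : G, u⁻¹ * g * u ∈ (P : Subgroup G) ↔
      (Equiv.mulLeft v⁻¹ u) ∈ normalizer ((P : Subgroup G) : Set G) := by
    intro u
    show u⁻¹ * g * u ∈ (P : Subgroup G) ↔ v⁻¹ * u ∈ normalizer ((P : Subgroup G) : Set G)
    have h1 : v⁻¹ * u ∈ normalizer ((P : Subgroup G) : Set G) ↔ (v⁻¹ * u) • P = P :=
      Sylow.smul_eq_iff_mem_normalizer.symm
    rw [h1, mul_smul, inv_smul_eq_iff, hv, ← mem_smul_sylow]
    constructor
    · intro hmem
      apply Sylow.ext
      rw [sylow_eq_zpowers (u • P) (hP _).1 hmem hgo, sylow_eq_zpowers Q (hP _).1 hgQ hgo]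
    · intro h
      rw [h]; exact hgQ
  exact Nat.card_congr (Equiv.subtypeEquiv (Equiv.mulLeft v⁻¹) key)

/-- **Sums of class functions vanishing on the `p`-regular elements.** -/
theorem ti_sum [Fintype G] (hP : ∀ Q : Sylow p G, Nat.card Q = p ∧
      centralizer ((Q : Subgroup G) : Set G) = (Q : Subgroup G)) (P : Sylow p G)
    [DecidablePred fun g : G => g ∈ (P : Subgroup G) ∧ g ≠ 1] (F : G → ℂ)
    (hF : ∀ g h : G, F (h * g * h⁻¹) = F g) (hreg : ∀ g : G, ¬ p ∣ orderOf g → F g = 0) :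
    (Nat.card (normalizer ((P : Subgroup G) : Set G)) : ℂ) * ∑ g : G, F g =
      (Nat.card G : ℂ) * ∑ g ∈ (Finset.univ : Finset G).filter
        (fun g => g ∈ (P : Subgroup G) ∧ g ≠ 1), F g := by
  classical
  have h1 : ∑ u : G, ∑ s ∈ (Finset.univ : Finset G).filter
      (fun g => g ∈ (P : Subgroup G) ∧ g ≠ 1), F (u * s * u⁻¹) =
      (Nat.card G : ℂ) * ∑ g ∈ (Finset.univ : Finset G).filter
        (fun g => g ∈ (P : Subgroup G) ∧ g ≠ 1), F g := by
    simp only [hF]
    rw [Finset.sum_const, Finset.card_univ, nsmul_eq_mul, Nat.card_eq_fintype_card]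
  have h2 : ∀ u : G, ∑ s ∈ (Finset.univ : Finset G).filter
      (fun g => g ∈ (P : Subgroup G) ∧ g ≠ 1), F (u * s * u⁻¹) =
      ∑ g : G, if (u⁻¹ * g * u ∈ (P : Subgroup G) ∧ u⁻¹ * g * u ≠ 1) then F g else 0 := by
    intro u
    rw [Finset.sum_filter]
    rw [← Equiv.sum_comp (MulAut.conj u).toEquiv
      (fun g => if (u⁻¹ * g * u ∈ (P : Subgroup G) ∧ u⁻¹ * g * u ≠ 1) then F g else 0)]
    refine Finset.sum_congr rfl fun s _ => ?_
    have h3 : u⁻¹ * ((MulAut.conj u).toEquiv s) * u = s := by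
      simp [MulAut.conj_apply, mul_assoc]
    rw [h3]
    rfl
  rw [← h1, Finset.sum_congr rfl (fun u _ => h2 u), Finset.sum_comm, Finset.mul_sum]
  refine Finset.sum_congr rfl fun g _ => ?_
  by_cases hg : p ∣ orderOf g
  · have hg1 : g ≠ 1 := by
      rintro rfl
      rw [orderOf_one] at hg
      exact hp.1.one_lt.ne' (Nat.dvd_one.1 hg)
    have h4 : ∀ u : G, (u⁻¹ * g * u ∈ (P : Subgroup G) ∧ u⁻¹ * g * u ≠ 1) ↔
        u⁻¹ * g * u ∈ (P : Subgroup G) := by
      intro u
      constructor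
      · exact fun h => h.1
      · intro h
        refine ⟨h, fun h1 => hg1 ?_⟩
        have : g = u * (u⁻¹ * g * u) * u⁻¹ := by group
        rw [this, h1]; group
    simp only [h4]
    rw [Finset.sum_ite, Finset.sum_const, Finset.sum_const_zero, add_zero, nsmul_eq_mul,
      ← card_conj_mem hP P hg, Nat.card_eq_fintype_card, Fintype.card_subtype]
  · rw [hreg g hg]
    simp

end Cfsg.Agent.Lib.Helper6.OrdF
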