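import Mathlib
import Cfsg.Agent.Lib.Helper6.OrdE1
import Cfsg.Agent.Lib.Helper6.OrdF1
import Cfsg.Agent.Lib.Helper1.CharFound5
import Cfsg.Agent.S0840

/-!
# Simple groups of order 4032: the configuration with self-centralizing Sylow 7-subgroups
-/

set_option autoImplicit false
set_option maxHeartbeats 800000

namespace Cfsg.Agent.Lib.Helper6.OrdF

open Cfsg Cfsg.Agent.Lib.Helper8 Cfsg.Agent.Lib.Helper6.OrdB Cfsg.Agent.Lib.Helper4
  Cfsg.Agent.Lib.Helper1
open scoped ComplexConjugate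

universe u

section card

variable {G : Type*} [Group G] [Fintype G]

/-- the number of non-identity elements of a subgroup -/
theorem card_filter_mem_ne_one (H : Subgroup G)
    [DecidablePred fun g : G => g ∈ H ∧ g ≠ 1] :
    ((Finset.univ : Finset G).filter (fun g => g ∈ H ∧ g ≠ 1)).card = Nat.card H - 1 := by
  classical
  have h1 : (Finset.univ : Finset G).filter (fun g => g ∈ H ∧ g ≠ 1) =
      ((Finset.univ : Finset G).filter (fun g => g ∈ H)).erase 1 := by
    ext g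
    simp only [Finset.mem_filter, Finset.mem_univ, true_and, Finset.mem_erase]
    tauto
  rw [h1, Finset.card_erase_of_mem (by simp [H.one_mem]), Nat.card_eq_fintype_card,
    Fintype.card_subtype]

/-- orthogonality of irreducible characters as a sum -/
theorem sum_mul_conj (φ ψ : IrrCharacter G) :
    ∑ g : G, φ.1 g * conj (ψ.1 g) = if φ = ψ then (Nat.card G : ℂ) else 0 := by
  have h := classInner_irr φ.2 ψ.2
  rw [classInner_def] at h
  have hG0 : (Nat.card G : ℂ) ≠ 0 := Nat.cast_ne_zero.2 Nat.card_pos.ne'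
  have h2 : ∑ g : G, φ.1 g * conj (ψ.1 g) =
      (Nat.card G : ℂ) * ((Nat.card G : ℂ)⁻¹ * ∑ g : G, φ.1 g * conj (ψ.1 g)) := by
    field_simp
  rw [h2, h]
  by_cases hφ : φ = ψ
  · rw [if_pos hφ, if_pos (congrArg Subtype.val hφ), mul_one]
  · rw [if_neg hφ, if_neg (fun h => hφ (Subtype.ext h)), mul_zero]

end card

variable {G : Type u} [Group G] [Fintype G]

/-- the configuration reached in a simple group of order 4032 -/
structure Cfg (G : Type u) [Group G] [Fintype G] where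
  P : Sylow 7 G
  x : G
  χ : IrrCharacter G
  Y : Set (IrrCharacter G)
  hcard : Nat.card G = 4032
  hS : ∀ Q : Sylow 7 G, Nat.card Q = 7 ∧
    Subgroup.centralizer ((Q : Subgroup G) : Set G) = (Q : Subgroup G)
  hN : Nat.card (Subgroup.normalizer ((P : Subgroup G) : Set G)) = 14
  hx : orderOf x = 7
  hPx : (P : Subgroup G) = Subgroup.zpowers x
  hχne : χ ≠ trivIrr G
  hd8 : charDegree χ.1 = 8
  htrivY : trivIrr G ∉ Y
  hχY : χ ∉ Y
  hYcard : Nat.card Y = 3
  hval : ∀ s : G, s ∈ (P : Subgroup G) → s ≠ 1 → χ.1 s = 1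
  hYdeg : ∀ θ ∈ Y, charDegree θ.1 = 9
  hYreg : ∀ θ ∈ Y, ∀ g : G, ¬ 7 ∣ orderOf g → θ.1 g = 1 + χ.1 g

namespace Cfg

variable (c : Cfg G)

/-- the non-identity elements of `P` -/
noncomputable def S : Finset G := by
  classical
  exact (Finset.univ : Finset G).filter (fun g => g ∈ (c.P : Subgroup G) ∧ g ≠ 1)

theorem mem_S {g : G} : g ∈ c.S ↔ g ∈ (c.P : Subgroup G) ∧ g ≠ 1 := by
  classical
  unfold S
  rw [Finset.mem_filter]
  simp

theorem card_S : c.S.card = 6 := by
  classical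
  unfold S
  rw [card_filter_mem_ne_one, (c.hS c.P).1]

theorem x_mem_S : c.x ∈ c.S := by
  rw [mem_S, c.hPx]
  refine ⟨Subgroup.mem_zpowers _, ?_⟩
  intro h
  have := c.hx
  rw [h, orderOf_one] at this
  norm_num at this

theorem ne_of_mem_Y {θ : IrrCharacter G} (hθ : θ ∈ c.Y) : θ ≠ trivIrr G ∧ θ ≠ c.χ :=
  ⟨fun h => c.htrivY (h ▸ hθ), fun h => c.hχY (h ▸ hθ)⟩

/-- the two sums attached to an exceptional character -/
theorem sums_exc {θ : IrrCharacter G} (hθ : θ ∈ c.Y) :
    ∑ s ∈ c.S, θ.1 s = -2 ∧ ∑ s ∈ c.S, θ.1 s * conj (θ.1 s) = 10 := by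
  classical
  have h7 : Fact (Nat.Prime 7) := ⟨by norm_num⟩
  have hcf : ∀ ψ : IrrCharacter G, ∀ g h : G, ψ.1 (h * g * h⁻¹) = ψ.1 g :=
    fun ψ => isClassFunction_irr ψ.2
  -- the general identity
  have key : ∀ ξ : IrrCharacter G,
      (14 : ℂ) * ((if trivIrr G = ξ then (4032 : ℂ) else 0) + (if c.χ = ξ then (4032 : ℂ) else 0)
        - (if θ = ξ then (4032 : ℂ) else 0)) =
      4032 * ∑ s ∈ c.S, (2 - θ.1 s) * conj (ξ.1 s) := by
    intro ξ
    have h1 := ti_sum c.hS c.P (fun g => (1 + c.χ.1 g - θ.1 g) * conj (ξ.1 g))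
      (by intro g h; simp only [hcf]) (by
        intro g hg
        rw [c.hYreg θ hθ g hg]
        ring)
    rw [c.hN, c.hcard] at h1
    have h2 : ∑ g : G, (1 + c.χ.1 g - θ.1 g) * conj (ξ.1 g) =
        ∑ g : G, (trivIrr G).1 g * conj (ξ.1 g) + ∑ g : G, c.χ.1 g * conj (ξ.1 g)
          - ∑ g : G, θ.1 g * conj (ξ.1 g) := by
      rw [← Finset.sum_add_distrib, ← Finset.sum_sub_distrib]
      refine Finset.sum_congr rfl fun g _ => ?_
      rw [trivIrr_apply]
      ring
    rw [h2, sum_mul_conj, sum_mul_conj, sum_mul_conj, c.hcard] at h1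
    have h3 : ∑ s ∈ c.S, (2 - θ.1 s) * conj (ξ.1 s) =
        ∑ g ∈ (Finset.univ : Finset G).filter (fun g => g ∈ (c.P : Subgroup G) ∧ g ≠ 1),
          (1 + c.χ.1 g - θ.1 g) * conj (ξ.1 g) := by
      unfold S
      refine Finset.sum_congr rfl fun s hs => ?_
      rw [Finset.mem_filter] at hs
      rw [c.hval s hs.2.1 hs.2.2]
      ring
    rw [h3]
    push_cast at h1
    exact h1
  have hA : ∑ s ∈ c.S, θ.1 s = -2 := by
    have h1 := key (trivIrr G)
    rw [if_pos rfl, if_neg c.hχne, if_neg (c.ne_of_mem_Y hθ).1] at h1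
    have h2 : ∑ s ∈ c.S, (2 - θ.1 s) * conj ((trivIrr G).1 s) =
        2 * (c.S.card : ℂ) - ∑ s ∈ c.S, θ.1 s := by
      simp only [trivIrr_apply, map_one, mul_one]
      rw [Finset.sum_sub_distrib, Finset.sum_const, nsmul_eq_mul]
      ring
    rw [h2, c.card_S] at h1
    push_cast at h1
    linear_combination (1 / 4032 : ℂ) * h1
  refine ⟨hA, ?_⟩
  have h1 := key θ
  rw [if_neg (Ne.symm (c.ne_of_mem_Y hθ).1), if_neg (Ne.symm (c.ne_of_mem_Y hθ).2),
    if_pos rfl] at h1
  have h2 : ∑ s ∈ c.S, (2 - θ.1 s) * conj (θ.1 s) =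
      2 * conj (∑ s ∈ c.S, θ.1 s) - ∑ s ∈ c.S, θ.1 s * conj (θ.1 s) := by
    rw [map_sum, Finset.mul_sum, ← Finset.sum_sub_distrib]
    refine Finset.sum_congr rfl fun s _ => ?_
    ring
  rw [h2, hA] at h1
  simp only [map_neg, map_ofNat] at h1
  linear_combination (1 / 4032 : ℂ) * h1

theorem orderOf_of_mem_S {s : G} (hs : s ∈ c.S) : orderOf s = 7 := by
  rw [mem_S] at hs
  have h1 : orderOf s ∣ 7 := by
    have := orderOf_dvd_natCard (⟨s, hs.1⟩ : (c.P : Subgroup G))
    rwa [(c.hS c.P).1, Subgroup.orderOf_mk] at this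
  rcases (Nat.dvd_prime (by norm_num : Nat.Prime 7)).1 h1 with h | h
  · exact absurd (orderOf_eq_one_iff.1 h) hs.2
  · exact h

theorem card_centralizer_of_mem_S {s : G} (hs : s ∈ c.S) :
    Nat.card (Subgroup.centralizer ({s} : Set G)) = 7 := by
  have hso := c.orderOf_of_mem_S hs
  have hPs := sylow_eq_zpowers c.P (c.hS c.P).1 (c.mem_S.1 hs).1 hso
  have h1 : Subgroup.centralizer ({s} : Set G) =
      Subgroup.centralizer ((c.P : Subgroup G) : Set G) := by
    ext t
    rw [hPs, Subgroup.mem_centralizer_singleton_iff, d1_mem_centralizer_zpowers]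
  rw [h1, (c.hS c.P).2, (c.hS c.P).1]

/-- the irreducible characters outside the principal block vanish on `P - 1` -/
theorem vanish_off_block {ψ : IrrCharacter G} (h1 : ψ ≠ trivIrr G) (h2 : ψ ≠ c.χ)
    (h3 : ψ ∉ c.Y) {s : G} (hs : s ∈ c.S) : ψ.1 s = 0 := by
  classical
  have : Fintype (IrrCharacter G) := Fintype.ofFinite _
  let T : IrrCharacter G → ℝ := fun φ => ∑ t ∈ c.S, Complex.normSq (φ.1 t)
  have hT : ∀ φ : IrrCharacter G, ((T φ : ℝ) : ℂ) = ∑ t ∈ c.S, φ.1 t * conj (φ.1 t) := by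
    intro φ
    simp only [T]
    push_cast
    refine Finset.sum_congr rfl fun t _ => ?_
    rw [Complex.mul_conj]
  let Yf : Finset (IrrCharacter G) := Finset.univ.filter (fun θ => θ ∈ c.Y)
  have hYf : ∀ θ, θ ∈ Yf ↔ θ ∈ c.Y := fun θ => by simp [Yf]
  have hYfcard : Yf.card = 3 := by
    rw [← c.hYcard, Nat.card_eq_fintype_card, Fintype.card_subtype]
  -- the total
  have htot : ∑ φ : IrrCharacter G, T φ = 42 := by
    have h4 : ∑ t ∈ c.S, ∑ φ : IrrCharacter G, φ.1 t * conj (φ.1 t) = 42 := by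
      have : ∀ t ∈ c.S, ∑ φ : IrrCharacter G, φ.1 t * conj (φ.1 t) = 7 := by
        intro t ht
        rw [column_orthogonality t t, c.card_centralizer_of_mem_S ht, classIndicator,
          if_pos (IsConj.refl t)]
        norm_num
      rw [Finset.sum_congr rfl this, Finset.sum_const, c.card_S]
      norm_num
    rw [Finset.sum_comm] at h4
    have h5 : ((∑ φ : IrrCharacter G, T φ : ℝ) : ℂ) = ((42 : ℝ) : ℂ) := by
      push_cast
      rw [← h4]
      exact Finset.sum_congr rfl fun φ _ => hT φ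
    exact_mod_cast h5
  have hTtriv : T (trivIrr G) = 6 := by
    simp only [T, trivIrr_apply, map_one, Finset.sum_const, c.card_S]
    norm_num
  have hTχ : T c.χ = 6 := by
    have : ∀ t ∈ c.S, Complex.normSq (c.χ.1 t) = 1 := by
      intro t ht
      rw [c.hval t (c.mem_S.1 ht).1 (c.mem_S.1 ht).2, map_one]
    simp only [T]
    rw [Finset.sum_congr rfl this, Finset.sum_const, c.card_S]
    norm_num
  have hTY : ∀ θ ∈ Yf, T θ = 10 := by
    intro θ hθ
    have h5 : ((T θ : ℝ) : ℂ) = ((10 : ℝ) : ℂ) := by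
      rw [hT, (c.sums_exc ((hYf θ).1 hθ)).2]
      norm_num
    exact_mod_cast h5
  let B0 : Finset (IrrCharacter G) := insert (trivIrr G) (insert c.χ Yf)
  have hB0 : ∑ φ ∈ B0, T φ = 42 := by
    have hn1 : trivIrr G ∉ insert c.χ Yf := by
      rw [Finset.mem_insert, hYf]
      rintro (h | h)
      · exact c.hχne h.symm
      · exact c.htrivY h
    have hn2 : c.χ ∉ Yf := by rw [hYf]; exact c.hχY
    simp only [B0]
    rw [Finset.sum_insert hn1, Finset.sum_insert hn2, Finset.sum_congr rfl hTY, Finset.sum_const,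
      hYfcard, hTtriv, hTχ]
    norm_num
  have hrest : ∑ φ ∈ Finset.univ \ B0, T φ = 0 := by
    have := Finset.sum_sdiff (Finset.subset_univ B0) (f := T)
    rw [htot, hB0] at this
    linarith
  have hnonneg : ∀ φ ∈ Finset.univ \ B0, 0 ≤ T φ :=
    fun φ _ => Finset.sum_nonneg fun t _ => Complex.normSq_nonneg _
  have hψmem : ψ ∈ Finset.univ \ B0 := by
    rw [Finset.mem_sdiff]
    refine ⟨Finset.mem_univ _, ?_⟩
    simp only [B0, Finset.mem_insert, hYf]
    rintro (h | h | h)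
    · exact h1 h
    · exact h2 h
    · exact h3 h
  have hψ0 : T ψ = 0 := (Finset.sum_eq_zero_iff_of_nonneg hnonneg).1 hrest ψ hψmem
  have := (Finset.sum_eq_zero_iff_of_nonneg (fun t _ => Complex.normSq_nonneg (ψ.1 t))).1 hψ0 s hs
  exact Complex.normSq_eq_zero.1 this

open Classical in
/-- the exceptional characters as a finite set -/
noncomputable def Yf [Fintype (IrrCharacter G)] : Finset (IrrCharacter G) :=
  Finset.univ.filter (fun θ => θ ∈ c.Y)

theorem mem_Yf [Fintype (IrrCharacter G)] {θ : IrrCharacter G} : θ ∈ c.Yf ↔ θ ∈ c.Y := by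
  classical
  simp [Yf]

/-- sums over all irreducible characters of functions supported on the principal block -/
theorem sum_block [Fintype (IrrCharacter G)] (f : IrrCharacter G → ℂ)
    (hf : ∀ ψ : IrrCharacter G, ψ ≠ trivIrr G → ψ ≠ c.χ → ψ ∉ c.Y → f ψ = 0) :
    ∑ ψ : IrrCharacter G, f ψ = f (trivIrr G) + f c.χ + ∑ θ ∈ c.Yf, f θ := by
  classical
  have hn1 : trivIrr G ∉ insert c.χ c.Yf := by
    rw [Finset.mem_insert, mem_Yf]
    rintro (h | h)
    · exact c.hχne h.symm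
    · exact c.htrivY h
  have hn2 : c.χ ∉ c.Yf := by rw [mem_Yf]; exact c.hχY
  rw [← Finset.sum_subset (Finset.subset_univ (insert (trivIrr G) (insert c.χ c.Yf))),
    Finset.sum_insert hn1, Finset.sum_insert hn2, add_assoc]
  intro ψ _ hψ
  simp only [Finset.mem_insert, mem_Yf, not_or] at hψ
  exact hf ψ hψ.1 hψ.2.1 hψ.2.2

/-- the exceptional characters at the generator of `P` -/
theorem sum_exc_x [Fintype (IrrCharacter G)] : ∑ θ ∈ c.Yf, conj (θ.1 c.x) = -1 := by
  classical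
  have h1 := column_orthogonality c.x (1 : G)
  have hx1 : c.x ≠ 1 := (c.mem_S.1 c.x_mem_S).2
  have hnc : ¬ IsConj c.x 1 := by
    intro h
    exact hx1 (isConj_one_right.1 h.symm ▸ rfl)
  rw [classIndicator, if_neg hnc, mul_zero, c.sum_block] at h1
  · rw [trivIrr_apply, trivIrr_apply, c.hval c.x (c.mem_S.1 c.x_mem_S).1 hx1, apply_one, c.hd8]
      at h1
    have h2 : ∑ θ ∈ c.Yf, θ.1 1 * conj (θ.1 c.x) = 9 * ∑ θ ∈ c.Yf, conj (θ.1 c.x) := by
      rw [Finset.mul_sum]
      refine Finset.sum_congr rfl fun θ hθ => ?_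
      rw [apply_one, c.hYdeg θ (c.mem_Yf.1 hθ)]
      norm_num
    rw [h2] at h1
    simp only [map_one] at h1
    push_cast at h1
    linear_combination (1 / 9 : ℂ) * h1
  · intro ψ h1 h2 h3
    rw [c.vanish_off_block h1 h2 h3 c.x_mem_S, map_zero, mul_zero]

/-- **The class multiplication identity.** -/
theorem class_mult {t : G} (ht : ¬ 7 ∣ orderOf t) :
    (Nat.card {q : G × G // IsConj t q.1 ∧ IsConj t q.2 ∧ q.1 * q.2 = c.x} : ℂ) * 4032 * 72 =
      (Nat.card {g : G // IsConj t g} : ℂ) ^ 2 * (c.χ.1 t - 8) ^ 2 := by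
  classical
  have : Fintype (IrrCharacter G) := Fintype.ofFinite _
  have h1 := Cfsg.Agent.S0840.result t t c.x
  rw [finsum_eq_sum_of_fintype, c.hcard, c.sum_block] at h1
  · have hx1 : c.x ≠ 1 := (c.mem_S.1 c.x_mem_S).2
    rw [trivIrr_apply, trivIrr_apply, trivIrr_apply,
      c.hval c.x (c.mem_S.1 c.x_mem_S).1 hx1, apply_one, c.hd8] at h1
    have h2 : ∑ θ ∈ c.Yf, θ.1 t * θ.1 t * conj (θ.1 c.x) / θ.1 1 =
        (1 + c.χ.1 t) * (1 + c.χ.1 t) / 9 * ∑ θ ∈ c.Yf, conj (θ.1 c.x) := by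
      rw [Finset.mul_sum]
      refine Finset.sum_congr rfl fun θ hθ => ?_
      rw [apply_one, c.hYdeg θ (c.mem_Yf.1 hθ), c.hYreg θ (c.mem_Yf.1 hθ) t ht]
      push_cast
      ring
    rw [h2, c.sum_exc_x] at h1
    simp only [map_one] at h1
    push_cast at h1
    rw [h1]
    ring
  · intro ψ h1 h2 h3
    rw [c.vanish_off_block h1 h2 h3 c.x_mem_S, map_zero, mul_zero, zero_div]

end Cfg

end Cfsg.Agent.Lib.Helper6.OrdF
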