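import Mathlib
import Cfsg.Agent.Lib.Helper6.OrdF2

/-!
# Self-centralizing Sylow subgroups of prime order: the principal block on the `p`-singular elements
-/

set_option autoImplicit false
set_option maxHeartbeats 1600000

namespace Cfsg.Agent.Lib.Helper6.OrdH

open Cfsg Cfsg.Agent.Lib.Helper8 Cfsg.Agent.Lib.Helper6.OrdB Cfsg.Agent.Lib.Helper4
  Cfsg.Agent.Lib.Helper1 Cfsg.Agent.Lib.Helper6.OrdF
open scoped ComplexConjugate

universe u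

/-- A group whose Sylow `p`-subgroups have order `p` and are self-centralizing, with the data of the
principal `p`-block as given by Brauer's theorem. -/
structure TI (G : Type u) [Group G] [Fintype G] (p e : ℕ) where
  P : Sylow p G
  x : G
  X : Set (IrrCharacter G)
  Y : Set (IrrCharacter G)
  εX : IrrCharacter G → ℤ
  ε : ℤ
  hS : ∀ Q : Sylow p G, Nat.card Q = p ∧
    Subgroup.centralizer ((Q : Subgroup G) : Set G) = (Q : Subgroup G)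
  hN : Nat.card (Subgroup.normalizer ((P : Subgroup G) : Set G)) = p * e
  hx : orderOf x = p
  hPx : (P : Subgroup G) = Subgroup.zpowers x
  hdisj : Disjoint X Y
  hXc : Nat.card X = e
  hYc : Nat.card Y * e = p - 1
  hεX : ∀ χ ∈ X, εX χ = 1 ∨ εX χ = -1
  hval : ∀ χ ∈ X, ∀ s : G, s ∈ (P : Subgroup G) → s ≠ 1 → χ.1 s = (εX χ : ℂ)
  hε : ε = 1 ∨ ε = -1
  hYagree : ∀ θ ∈ Y, ∀ θ' ∈ Y, ∀ g : G, ¬ p ∣ orderOf g → θ.1 g = θ'.1 g
  hYsum : ∀ θ ∈ Y, ∀ g : G, ¬ p ∣ orderOf g →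
    (ε : ℂ) * θ.1 g = ∑ᶠ χ ∈ X, (εX χ : ℂ) * χ.1 g

namespace TI

variable {G : Type u} [Group G] [Fintype G] {p e : ℕ} [hp : Fact p.Prime] (c : TI G p e)

/-- the non-identity elements of `P` -/
noncomputable def S : Finset G := by
  classical
  exact (Finset.univ : Finset G).filter (fun g => g ∈ (c.P : Subgroup G) ∧ g ≠ 1)

omit hp in
theorem mem_S {g : G} : g ∈ c.S ↔ g ∈ (c.P : Subgroup G) ∧ g ≠ 1 := by
  classical
  unfold S
  rw [Finset.mem_filter]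
  simp

omit hp in
theorem card_S : c.S.card = p - 1 := by
  classical
  unfold S
  rw [card_filter_mem_ne_one, (c.hS c.P).1]

theorem x_mem_S : c.x ∈ c.S := by
  rw [mem_S, c.hPx]
  refine ⟨Subgroup.mem_zpowers _, ?_⟩
  intro h
  have := c.hx
  rw [h, orderOf_one] at this
  exact hp.1.one_lt.ne this

omit hp in
theorem e_pos (c : TI G p e) : 0 < e := by
  have h := c.hN
  have h1 : 0 < Nat.card (Subgroup.normalizer ((c.P : Subgroup G) : Set G)) := Nat.card_pos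
  rw [h] at h1
  rcases Nat.eq_zero_or_pos e with h0 | h0
  · rw [h0, mul_zero] at h1; omega
  · exact h0

open Classical in
/-- the non-exceptional characters as a finite set -/
noncomputable def Xf [Fintype (IrrCharacter G)] : Finset (IrrCharacter G) :=
  Finset.univ.filter (fun χ => χ ∈ c.X)

open Classical in
/-- the exceptional characters as a finite set -/
noncomputable def Yf [Fintype (IrrCharacter G)] : Finset (IrrCharacter G) :=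
  Finset.univ.filter (fun θ => θ ∈ c.Y)

omit hp in
theorem mem_Xf [Fintype (IrrCharacter G)] {χ : IrrCharacter G} : χ ∈ c.Xf ↔ χ ∈ c.X := by
  classical
  simp [Xf]

omit hp in
theorem mem_Yf [Fintype (IrrCharacter G)] {θ : IrrCharacter G} : θ ∈ c.Yf ↔ θ ∈ c.Y := by
  classical
  simp [Yf]

omit hp in
theorem card_Xf [Fintype (IrrCharacter G)] : c.Xf.card = e := by
  classical
  have h : c.Xf.card = Nat.card c.X := by
    rw [Nat.card_eq_fintype_card, Fintype.card_subtype]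
    rfl
  rw [h]
  exact c.hXc

omit hp in
theorem card_Yf [Fintype (IrrCharacter G)] : c.Yf.card * e = p - 1 := by
  classical
  have h : c.Yf.card = Nat.card c.Y := by
    rw [Nat.card_eq_fintype_card, Fintype.card_subtype]
    rfl
  rw [h]
  exact c.hYc

omit hp in
theorem finsum_X [Fintype (IrrCharacter G)] (f : IrrCharacter G → ℂ) :
    ∑ᶠ χ ∈ c.X, f χ = ∑ χ ∈ c.Xf, f χ := by
  classical
  rw [finsum_mem_eq_finite_toFinset_sum _ (Set.toFinite c.X)]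
  refine Finset.sum_congr ?_ fun _ _ => rfl
  ext χ
  rw [Set.Finite.mem_toFinset, mem_Xf]

omit hp in
theorem sq_εX {χ : IrrCharacter G} (hχ : χ ∈ c.X) : ((c.εX χ : ℂ)) * (c.εX χ : ℂ) = 1 := by
  rcases c.hεX χ hχ with h | h <;> rw [h] <;> norm_num

omit hp in
theorem sq_ε : ((c.ε : ℂ)) * (c.ε : ℂ) = 1 := by
  rcases c.hε with h | h <;> rw [h] <;> norm_num

omit hp in
theorem ne_of_mem {χ θ : IrrCharacter G} (hχ : χ ∈ c.X) (hθ : θ ∈ c.Y) : χ ≠ θ :=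
  fun h => Set.disjoint_left.1 c.hdisj hχ (h ▸ hθ)

/-- the two sums attached to an exceptional character -/
theorem sums_exc {θ : IrrCharacter G} (hθ : θ ∈ c.Y) :
    ∑ s ∈ c.S, θ.1 s = -(c.ε : ℂ) * e ∧
      ∑ s ∈ c.S, θ.1 s * conj (θ.1 s) = (e : ℂ) * ((p : ℂ) - e) := by
  classical
  have : Fintype (IrrCharacter G) := Fintype.ofFinite _
  have hcf : ∀ ψ : IrrCharacter G, ∀ g h : G, ψ.1 (h * g * h⁻¹) = ψ.1 g :=
    fun ψ => isClassFunction_irr ψ.2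
  have hG0 : (Nat.card G : ℂ) ≠ 0 := Nat.cast_ne_zero.2 Nat.card_pos.ne'
  have hp1 : ((p - 1 : ℕ) : ℂ) = (p : ℂ) - 1 := by
    rw [Nat.cast_sub hp.1.one_lt.le]; simp
  -- the general identity
  have key : ∀ ξ : IrrCharacter G,
      ((p : ℂ) * e) * ((∑ χ ∈ c.Xf, (if χ = ξ then (c.εX χ : ℂ) else 0))
        - (c.ε : ℂ) * (if θ = ξ then (1 : ℂ) else 0)) =
      ∑ s ∈ c.S, ((e : ℂ) - (c.ε : ℂ) * θ.1 s) * conj (ξ.1 s) := by
    intro ξ
    have h1 := ti_sum c.hS c.P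
      (fun g => ((∑ χ ∈ c.Xf, (c.εX χ : ℂ) * χ.1 g) - (c.ε : ℂ) * θ.1 g) * conj (ξ.1 g))
      (by intro g h; simp only [hcf]) (by
        intro g hg
        rw [c.hYsum θ hθ g hg, c.finsum_X]
        ring)
    rw [c.hN] at h1
    have h2 : ∑ g : G, ((∑ χ ∈ c.Xf, (c.εX χ : ℂ) * χ.1 g) - (c.ε : ℂ) * θ.1 g) * conj (ξ.1 g) =
        (Nat.card G : ℂ) * ((∑ χ ∈ c.Xf, (if χ = ξ then (c.εX χ : ℂ) else 0))
          - (c.ε : ℂ) * (if θ = ξ then (1 : ℂ) else 0)) := by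
      have h3 : ∀ g : G, ((∑ χ ∈ c.Xf, (c.εX χ : ℂ) * χ.1 g) - (c.ε : ℂ) * θ.1 g) * conj (ξ.1 g) =
          (∑ χ ∈ c.Xf, (c.εX χ : ℂ) * (χ.1 g * conj (ξ.1 g))) -
            (c.ε : ℂ) * (θ.1 g * conj (ξ.1 g)) := by
        intro g
        rw [sub_mul, Finset.sum_mul]
        congr 1
        · refine Finset.sum_congr rfl fun χ _ => ?_
          ring
        · ring
      rw [Finset.sum_congr rfl (fun g _ => h3 g), Finset.sum_sub_distrib, Finset.sum_comm,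
        ← Finset.mul_sum, sum_mul_conj]
      have h4 : ∀ χ ∈ c.Xf, ∑ g : G, (c.εX χ : ℂ) * (χ.1 g * conj (ξ.1 g)) =
          (Nat.card G : ℂ) * (if χ = ξ then (c.εX χ : ℂ) else 0) := by
        intro χ _
        rw [← Finset.mul_sum, sum_mul_conj]
        split_ifs <;> ring
      rw [Finset.sum_congr rfl h4, ← Finset.mul_sum]
      split_ifs <;> ring
    rw [h2] at h1
    have h5 : ∑ s ∈ c.S, ((e : ℂ) - (c.ε : ℂ) * θ.1 s) * conj (ξ.1 s) =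
        ∑ g ∈ (Finset.univ : Finset G).filter (fun g => g ∈ (c.P : Subgroup G) ∧ g ≠ 1),
          ((∑ χ ∈ c.Xf, (c.εX χ : ℂ) * χ.1 g) - (c.ε : ℂ) * θ.1 g) * conj (ξ.1 g) := by
      unfold S
      refine Finset.sum_congr rfl fun s hs => ?_
      rw [Finset.mem_filter] at hs
      have h6 : ∑ χ ∈ c.Xf, (c.εX χ : ℂ) * χ.1 s = (e : ℂ) := by
        have : ∀ χ ∈ c.Xf, (c.εX χ : ℂ) * χ.1 s = 1 := by
          intro χ hχ
          rw [c.hval χ (c.mem_Xf.1 hχ) s hs.2.1 hs.2.2, c.sq_εX (c.mem_Xf.1 hχ)]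
        rw [Finset.sum_congr rfl this, Finset.sum_const, c.card_Xf]
        simp
      rw [h6]
    rw [h5]
    apply mul_left_cancel₀ hG0
    rw [← h1]
    push_cast
    ring
  -- a member of `X`
  have hXne : c.Xf.Nonempty := by
    rw [← Finset.card_pos, c.card_Xf]
    exact c.e_pos
  obtain ⟨ξ0, hξ0⟩ := hXne
  have hξ0X := c.mem_Xf.1 hξ0
  have hA : ∑ s ∈ c.S, θ.1 s = -(c.ε : ℂ) * e := by
    have h1 := key ξ0
    rw [if_neg (Ne.symm (c.ne_of_mem hξ0X hθ)), mul_zero, sub_zero,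
      Finset.sum_ite_eq' c.Xf ξ0 (fun χ => (c.εX χ : ℂ)), if_pos hξ0] at h1
    have h2 : ∑ s ∈ c.S, ((e : ℂ) - (c.ε : ℂ) * θ.1 s) * conj (ξ0.1 s) =
        (c.εX ξ0 : ℂ) * ((e : ℂ) * ((p : ℂ) - 1) - (c.ε : ℂ) * ∑ s ∈ c.S, θ.1 s) := by
      have : ∀ s ∈ c.S, ((e : ℂ) - (c.ε : ℂ) * θ.1 s) * conj (ξ0.1 s) =
          (c.εX ξ0 : ℂ) * (e : ℂ) - (c.εX ξ0 : ℂ) * (c.ε : ℂ) * θ.1 s := by
        intro s hs
        rw [c.hval ξ0 hξ0X s (c.mem_S.1 hs).1 (c.mem_S.1 hs).2]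
        simp only [map_intCast]
        ring
      rw [Finset.sum_congr rfl this, Finset.sum_sub_distrib, Finset.sum_const, c.card_S,
        ← Finset.mul_sum, nsmul_eq_mul, hp1]
      ring
    rw [h2] at h1
    have h3 := c.sq_εX hξ0X
    have h4 := c.sq_ε
    have h5 : (c.εX ξ0 : ℂ) * ((p : ℂ) * e * (c.εX ξ0 : ℂ)) =
        (c.εX ξ0 : ℂ) * ((c.εX ξ0 : ℂ) *
          ((e : ℂ) * ((p : ℂ) - 1) - (c.ε : ℂ) * ∑ s ∈ c.S, θ.1 s)) := by rw [h1]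
    have h6 : (p : ℂ) * e = (e : ℂ) * ((p : ℂ) - 1) - (c.ε : ℂ) * ∑ s ∈ c.S, θ.1 s := by
      have e1 : (c.εX ξ0 : ℂ) * ((p : ℂ) * e * (c.εX ξ0 : ℂ)) =
          ((c.εX ξ0 : ℂ) * (c.εX ξ0 : ℂ)) * ((p : ℂ) * e) := by ring
      have e2 : (c.εX ξ0 : ℂ) * ((c.εX ξ0 : ℂ) *
          ((e : ℂ) * ((p : ℂ) - 1) - (c.ε : ℂ) * ∑ s ∈ c.S, θ.1 s)) =
          ((c.εX ξ0 : ℂ) * (c.εX ξ0 : ℂ)) *
            ((e : ℂ) * ((p : ℂ) - 1) - (c.ε : ℂ) * ∑ s ∈ c.S, θ.1 s) := by ring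
      rw [e1, e2, h3, one_mul, one_mul] at h5
      exact h5
    have h7 : (c.ε : ℂ) * ∑ s ∈ c.S, θ.1 s = -(e : ℂ) := by linear_combination h6
    calc ∑ s ∈ c.S, θ.1 s = ((c.ε : ℂ) * (c.ε : ℂ)) * ∑ s ∈ c.S, θ.1 s := by rw [h4, one_mul]
      _ = (c.ε : ℂ) * ((c.ε : ℂ) * ∑ s ∈ c.S, θ.1 s) := by ring
      _ = -(c.ε : ℂ) * e := by rw [h7]; ring
  refine ⟨hA, ?_⟩
  have h1 := key θ
  have h0 : ∑ χ ∈ c.Xf, (if χ = θ then (c.εX χ : ℂ) else 0) = 0 := by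
    refine Finset.sum_eq_zero fun χ hχ => ?_
    rw [if_neg (c.ne_of_mem (c.mem_Xf.1 hχ) hθ)]
  rw [h0, if_pos rfl, mul_one, zero_sub] at h1
  have h2 : ∑ s ∈ c.S, ((e : ℂ) - (c.ε : ℂ) * θ.1 s) * conj (θ.1 s) =
      (e : ℂ) * conj (∑ s ∈ c.S, θ.1 s) - (c.ε : ℂ) * ∑ s ∈ c.S, θ.1 s * conj (θ.1 s) := by
    rw [map_sum, Finset.mul_sum, Finset.mul_sum, ← Finset.sum_sub_distrib]
    refine Finset.sum_congr rfl fun s _ => ?_
    ring
  rw [h2, hA] at h1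
  have h4 := c.sq_ε
  have hconj : conj (-(c.ε : ℂ) * (e : ℂ)) = -(c.ε : ℂ) * (e : ℂ) := by
    simp only [map_mul, map_neg, map_intCast, map_natCast]
  rw [hconj] at h1
  have h5 : (c.ε : ℂ) * ∑ s ∈ c.S, θ.1 s * conj (θ.1 s) =
      (c.ε : ℂ) * ((e : ℂ) * ((p : ℂ) - e)) := by linear_combination h1
  calc ∑ s ∈ c.S, θ.1 s * conj (θ.1 s)
      = ((c.ε : ℂ) * (c.ε : ℂ)) * ∑ s ∈ c.S, θ.1 s * conj (θ.1 s) := by rw [h4, one_mul]
    _ = (c.ε : ℂ) * ((c.ε : ℂ) * ∑ s ∈ c.S, θ.1 s * conj (θ.1 s)) := by ring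
    _ = (c.ε : ℂ) * ((c.ε : ℂ) * ((e : ℂ) * ((p : ℂ) - e))) := by rw [h5]
    _ = ((c.ε : ℂ) * (c.ε : ℂ)) * ((e : ℂ) * ((p : ℂ) - e)) := by ring
    _ = (e : ℂ) * ((p : ℂ) - e) := by rw [h4, one_mul]

end TI

end Cfsg.Agent.Lib.Helper6.OrdH
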