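import Mathlib
import Cfsg.Agent.Lib.Helper6.OrdH1
import Cfsg.Agent.S0840

/-!
# Self-centralizing Sylow subgroups of prime order: characters outside the principal block and the
class multiplication identity
-/

set_option autoImplicit false
set_option maxHeartbeats 1600000

namespace Cfsg.Agent.Lib.Helper6.OrdH

open Cfsg Cfsg.Agent.Lib.Helper8 Cfsg.Agent.Lib.Helper6.OrdB Cfsg.Agent.Lib.Helper4
  Cfsg.Agent.Lib.Helper1 Cfsg.Agent.Lib.Helper6.OrdF
open scoped ComplexConjugate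

universe u

namespace TI

variable {G : Type u} [Group G] [Fintype G] {p e : ℕ} [hp : Fact p.Prime] (c : TI G p e)

theorem orderOf_of_mem_S {s : G} (hs : s ∈ c.S) : orderOf s = p := by
  rw [mem_S] at hs
  have h1 : orderOf s ∣ p := by
    have := orderOf_dvd_natCard (⟨s, hs.1⟩ : (c.P : Subgroup G))
    rwa [(c.hS c.P).1, Subgroup.orderOf_mk] at this
  rcases (Nat.dvd_prime hp.1).1 h1 with h | h
  · exact absurd (orderOf_eq_one_iff.1 h) hs.2
  · exact h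

theorem card_centralizer_of_mem_S {s : G} (hs : s ∈ c.S) :
    Nat.card (Subgroup.centralizer ({s} : Set G)) = p := by
  have hso := c.orderOf_of_mem_S hs
  have hPs := sylow_eq_zpowers c.P (c.hS c.P).1 (c.mem_S.1 hs).1 hso
  have h1 : Subgroup.centralizer ({s} : Set G) =
      Subgroup.centralizer ((c.P : Subgroup G) : Set G) := by
    ext t
    rw [hPs, Subgroup.mem_centralizer_singleton_iff, d1_mem_centralizer_zpowers]
  rw [h1, (c.hS c.P).2, (c.hS c.P).1]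

/-- the irreducible characters outside the principal block vanish on `P - 1` -/
theorem vanish_off_block {ψ : IrrCharacter G} (h2 : ψ ∉ c.X) (h3 : ψ ∉ c.Y) {s : G}
    (hs : s ∈ c.S) : ψ.1 s = 0 := by
  classical
  have : Fintype (IrrCharacter G) := Fintype.ofFinite _
  have hp1 : ((p - 1 : ℕ) : ℝ) = (p : ℝ) - 1 := by
    rw [Nat.cast_sub hp.1.one_lt.le]; simp
  let T : IrrCharacter G → ℝ := fun φ => ∑ t ∈ c.S, Complex.normSq (φ.1 t)
  have hT : ∀ φ : IrrCharacter G, ((T φ : ℝ) : ℂ) = ∑ t ∈ c.S, φ.1 t * conj (φ.1 t) := by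
    intro φ
    simp only [T]
    push_cast
    refine Finset.sum_congr rfl fun t _ => ?_
    rw [Complex.mul_conj]
  -- the total
  have htot : ∑ φ : IrrCharacter G, T φ = ((p : ℝ) - 1) * p := by
    have h4 : ∑ t ∈ c.S, ∑ φ : IrrCharacter G, φ.1 t * conj (φ.1 t) = ((p : ℂ) - 1) * p := by
      have : ∀ t ∈ c.S, ∑ φ : IrrCharacter G, φ.1 t * conj (φ.1 t) = (p : ℂ) := by
        intro t ht
        rw [column_orthogonality t t, c.card_centralizer_of_mem_S ht, classIndicator,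
          if_pos (IsConj.refl t), mul_one]
      rw [Finset.sum_congr rfl this, Finset.sum_const, c.card_S, nsmul_eq_mul,
        Nat.cast_sub hp.1.one_lt.le]
      simp
    rw [Finset.sum_comm] at h4
    have h5 : ((∑ φ : IrrCharacter G, T φ : ℝ) : ℂ) = ((((p : ℝ) - 1) * p : ℝ) : ℂ) := by
      push_cast
      rw [← h4]
      exact Finset.sum_congr rfl fun φ _ => hT φ
    exact_mod_cast h5
  have hTX : ∀ χ ∈ c.Xf, T χ = (p : ℝ) - 1 := by
    intro χ hχ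
    have h1 : ∀ t ∈ c.S, Complex.normSq (χ.1 t) = 1 := by
      intro t ht
      rw [c.hval χ (c.mem_Xf.1 hχ) t (c.mem_S.1 ht).1 (c.mem_S.1 ht).2]
      rcases c.hεX χ (c.mem_Xf.1 hχ) with h | h <;> rw [h] <;> simp
    simp only [T]
    rw [Finset.sum_congr rfl h1, Finset.sum_const, c.card_S, nsmul_eq_mul, mul_one, hp1]
  have hTY : ∀ θ ∈ c.Yf, T θ = (e : ℝ) * ((p : ℝ) - e) := by
    intro θ hθ
    have h5 : ((T θ : ℝ) : ℂ) = (((e : ℝ) * ((p : ℝ) - e) : ℝ) : ℂ) := by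
      rw [hT, (c.sums_exc (c.mem_Yf.1 hθ)).2]
      push_cast
      ring
    exact_mod_cast h5
  have hdisjf : Disjoint c.Xf c.Yf := by
    rw [Finset.disjoint_left]
    intro χ h1 h2
    exact c.ne_of_mem (c.mem_Xf.1 h1) (c.mem_Yf.1 h2) rfl
  have hB0 : ∑ φ ∈ c.Xf ∪ c.Yf, T φ = ((p : ℝ) - 1) * p := by
    rw [Finset.sum_union hdisjf, Finset.sum_congr rfl hTX, Finset.sum_congr rfl hTY,
      Finset.sum_const, Finset.sum_const, c.card_Xf, nsmul_eq_mul, nsmul_eq_mul]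
    have h6 : ((c.Yf.card : ℝ)) * (e : ℝ) = (p : ℝ) - 1 := by
      rw [← hp1, ← c.card_Yf]
      push_cast
      ring
    linear_combination ((p : ℝ) - e) * h6
  have hrest : ∑ φ ∈ Finset.univ \ (c.Xf ∪ c.Yf), T φ = 0 := by
    have := Finset.sum_sdiff (Finset.subset_univ (c.Xf ∪ c.Yf)) (f := T)
    rw [htot, hB0] at this
    linarith
  have hnonneg : ∀ φ ∈ Finset.univ \ (c.Xf ∪ c.Yf), 0 ≤ T φ :=
    fun φ _ => Finset.sum_nonneg fun t _ => Complex.normSq_nonneg _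
  have hψmem : ψ ∈ Finset.univ \ (c.Xf ∪ c.Yf) := by
    rw [Finset.mem_sdiff]
    refine ⟨Finset.mem_univ _, ?_⟩
    rw [Finset.mem_union, c.mem_Xf, c.mem_Yf]
    rintro (h | h)
    · exact h2 h
    · exact h3 h
  have hψ0 : T ψ = 0 := (Finset.sum_eq_zero_iff_of_nonneg hnonneg).1 hrest ψ hψmem
  have := (Finset.sum_eq_zero_iff_of_nonneg (fun t _ => Complex.normSq_nonneg (ψ.1 t))).1 hψ0 s hs
  exact Complex.normSq_eq_zero.1 this

omit hp in
/-- sums over all irreducible characters of functions supported on the principal block -/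
theorem sum_block [Fintype (IrrCharacter G)] (f : IrrCharacter G → ℂ)
    (hf : ∀ ψ : IrrCharacter G, ψ ∉ c.X → ψ ∉ c.Y → f ψ = 0) :
    ∑ ψ : IrrCharacter G, f ψ = ∑ χ ∈ c.Xf, f χ + ∑ θ ∈ c.Yf, f θ := by
  classical
  have hdisjf : Disjoint c.Xf c.Yf := by
    rw [Finset.disjoint_left]
    intro χ h1 h2
    exact c.ne_of_mem (c.mem_Xf.1 h1) (c.mem_Yf.1 h2) rfl
  rw [← Finset.sum_union hdisjf, ← Finset.sum_subset (Finset.subset_univ (c.Xf ∪ c.Yf))]
  intro ψ _ hψ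
  rw [Finset.mem_union, c.mem_Xf, c.mem_Yf, not_or] at hψ
  exact hf ψ hψ.1 hψ.2

/-- the exceptional characters at the generator of `P` -/
theorem sum_exc_x [Fintype (IrrCharacter G)] {θ0 : IrrCharacter G} (hθ0 : θ0 ∈ c.Y) :
    ∑ θ ∈ c.Yf, conj (θ.1 c.x) = -(c.ε : ℂ) := by
  classical
  have h1 := column_orthogonality c.x (1 : G)
  have hx1 : c.x ≠ 1 := (c.mem_S.1 c.x_mem_S).2
  have hnc : ¬ IsConj c.x 1 := by
    intro h
    exact hx1 (isConj_one_right.1 h.symm ▸ rfl)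
  have h1reg : ¬ p ∣ orderOf (1 : G) := by
    rw [orderOf_one]
    exact fun h => hp.1.one_lt.ne' (Nat.dvd_one.1 h)
  rw [classIndicator, if_neg hnc, mul_zero, c.sum_block] at h1
  · have hX : ∑ χ ∈ c.Xf, χ.1 1 * conj (χ.1 c.x) = (c.ε : ℂ) * θ0.1 1 := by
      rw [c.hYsum θ0 hθ0 1 h1reg, c.finsum_X]
      refine Finset.sum_congr rfl fun χ hχ => ?_
      rw [c.hval χ (c.mem_Xf.1 hχ) c.x (c.mem_S.1 c.x_mem_S).1 hx1]
      simp only [map_intCast]
      ring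
    have hY : ∑ θ ∈ c.Yf, θ.1 1 * conj (θ.1 c.x) = θ0.1 1 * ∑ θ ∈ c.Yf, conj (θ.1 c.x) := by
      rw [Finset.mul_sum]
      refine Finset.sum_congr rfl fun θ hθ => ?_
      rw [c.hYagree θ (c.mem_Yf.1 hθ) θ0 hθ0 1 h1reg]
    rw [hX, hY] at h1
    have hd0 : θ0.1 1 ≠ 0 := by
      rw [apply_one]
      exact Nat.cast_ne_zero.2 (charDegree_pos θ0).ne'
    have h2 : θ0.1 1 * ((c.ε : ℂ) + ∑ θ ∈ c.Yf, conj (θ.1 c.x)) = 0 := by
      linear_combination h1
    rcases mul_eq_zero.1 h2 with h | h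
    · exact absurd h hd0
    · linear_combination h
  · intro ψ h2 h3
    rw [c.vanish_off_block h2 h3 c.x_mem_S, map_zero, mul_zero]

/-- **The class multiplication identity.** -/
theorem class_mult {θ0 : IrrCharacter G} (hθ0 : θ0 ∈ c.Y) {t : G} (ht : ¬ p ∣ orderOf t)
    [Fintype (IrrCharacter G)] :
    (Nat.card {q : G × G // IsConj t q.1 ∧ IsConj t q.2 ∧ q.1 * q.2 = c.x} : ℂ) *
        (Nat.card G : ℂ) =
      (Nat.card {g : G // IsConj t g} : ℂ) ^ 2 *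
        (∑ χ ∈ c.Xf, (c.εX χ : ℂ) * (χ.1 t * χ.1 t / χ.1 1) -
          (c.ε : ℂ) * (θ0.1 t * θ0.1 t / θ0.1 1)) := by
  classical
  have hG0 : (Nat.card G : ℂ) ≠ 0 := Nat.cast_ne_zero.2 Nat.card_pos.ne'
  have h1reg : ¬ p ∣ orderOf (1 : G) := by
    rw [orderOf_one]
    exact fun h => hp.1.one_lt.ne' (Nat.dvd_one.1 h)
  have h1 := Cfsg.Agent.S0840.result t t c.x
  rw [finsum_eq_sum_of_fintype, c.sum_block] at h1
  · have hx1 : c.x ≠ 1 := (c.mem_S.1 c.x_mem_S).2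
    have hX : ∑ χ ∈ c.Xf, χ.1 t * χ.1 t * conj (χ.1 c.x) / χ.1 1 =
        ∑ χ ∈ c.Xf, (c.εX χ : ℂ) * (χ.1 t * χ.1 t / χ.1 1) := by
      refine Finset.sum_congr rfl fun χ hχ => ?_
      rw [c.hval χ (c.mem_Xf.1 hχ) c.x (c.mem_S.1 c.x_mem_S).1 hx1]
      simp only [map_intCast]
      ring
    have hY : ∑ θ ∈ c.Yf, θ.1 t * θ.1 t * conj (θ.1 c.x) / θ.1 1 =
        (θ0.1 t * θ0.1 t / θ0.1 1) * ∑ θ ∈ c.Yf, conj (θ.1 c.x) := by
      rw [Finset.mul_sum]
      refine Finset.sum_congr rfl fun θ hθ => ?_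
      rw [c.hYagree θ (c.mem_Yf.1 hθ) θ0 hθ0 1 h1reg, c.hYagree θ (c.mem_Yf.1 hθ) θ0 hθ0 t ht]
      ring
    rw [hX, hY, c.sum_exc_x hθ0] at h1
    rw [h1]
    field_simp
    ring
  · intro ψ h2 h3
    rw [c.vanish_off_block h2 h3 c.x_mem_S, map_zero, mul_zero, zero_div]

end TI

end Cfsg.Agent.Lib.Helper6.OrdH
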