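import Mathlib
import Cfsg.Agent.Lib.Helper6.OrdH2
import Cfsg.Agent.Lib.Helper8.DO18

/-!
# Self-centralizing Sylow subgroups of prime order: the configuration from Brauer's theorem
-/

set_option autoImplicit false
set_option maxHeartbeats 1600000

namespace Cfsg.Agent.Lib.Helper6.OrdH

open Cfsg Cfsg.Agent.Lib.Helper8 Cfsg.Agent.Lib.Helper6.OrdB

universe u

variable {G : Type u} [Group G] [Fintype G]

/-- the configuration `TI` from Brauer's theorem on blocks of defect one -/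
theorem exists_TI (p : ℕ) [Fact p.Prime] (M : Ideal AlgInt) (hM : IsPModular p M)
    (P : Sylow p G) (x : G) (hx : orderOf x = p) (hPx : (P : Subgroup G) = Subgroup.zpowers x)
    (hsq : ¬ p ^ 2 ∣ Nat.card G) (e : ℕ)
    (he : (Subgroup.centralizer ((P : Subgroup G) : Set G)).relIndex
      (Subgroup.normalizer ((P : Subgroup G) : Set G)) = e)
    (hS : ∀ Q : Sylow p G, Nat.card Q = p ∧
      Subgroup.centralizer ((Q : Subgroup G) : Set G) = (Q : Subgroup G))
    (hN : Nat.card (Subgroup.normalizer ((P : Subgroup G) : Set G)) = p * e)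
    (hediv : e ∣ p - 1) :
    ∃ c : TI G p e, c.P = P ∧ c.x = x ∧ trivIrr G ∈ c.X ∪ c.Y ∧
      (∀ χ ∈ c.X, (charDegree χ.1 : ℤ) ≡ c.εX χ [ZMOD p]) ∧
      (∀ θ ∈ c.Y, (charDegree θ.1 : ℤ) ≡ c.ε * (e : ℤ) [ZMOD p]) := by
  classical
  obtain ⟨-, X, Y, hXY, hdisj, hXc, hYc, εX, ε, hX, hε, hYdeg, hYagree, hYsum⟩ :=
    d1_principal p M hM (P : Subgroup G) x hx hPx hsq e he
  have hMtop : M ≠ ⊤ := (isPModular_isPrime hM).ne_top
  have htriv : trivIrr G ∈ X ∪ Y := hXY ▸ trivIrr_mem_principalBlock hMtop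
  have h1reg : ¬ p ∣ orderOf (1 : G) := by
    rw [orderOf_one]
    exact fun h => (Fact.out : p.Prime).one_lt.ne' (Nat.dvd_one.1 h)
  refine ⟨{ P := P, x := x, X := X, Y := Y, εX := εX, ε := ε, hS := hS, hN := hN, hx := hx,
            hPx := hPx, hdisj := hdisj, hXc := hXc,
            hYc := by rw [hYc]; exact Nat.div_mul_cancel hediv,
            hεX := fun χ hχ => (hX χ hχ).1,
            hval := ?_, hε := hε, hYagree := hYagree, hYsum := hYsum }, rfl, rfl, htriv,
    fun χ hχ => (hX χ hχ).2.1, hYdeg⟩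
  intro χ hχ s hs hs1
  have := (hX χ hχ).2.2 s hs hs1 1 (one_mem _) h1reg
  rwa [mul_one] at this

end Cfsg.Agent.Lib.Helper6.OrdH
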