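import Mathlib
import Cfsg.Agent.Lib.Helper6.OrdH3
import Cfsg.Agent.Lib.Helper8.DetA2

/-!
# Sylow subgroups of prime order: the data of the principal block (Brauer), without the assumption
that the Sylow subgroup is self-centralizing
-/

set_option autoImplicit false
set_option maxHeartbeats 1600000
set_option linter.unusedSectionVars false

namespace Cfsg.Agent.Lib.Helper6.OrdK

open Cfsg Cfsg.Agent.Lib.Helper8 Cfsg.Agent.Lib.Helper6.OrdB Cfsg.Agent.Lib.Helper6.OrdF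
open scoped ComplexConjugate

universe u

/-- The principal `p`-block of a group whose Sylow `p`-subgroups have order `p`, as given by
Brauer's theorem. -/
structure D1 (G : Type u) [Group G] [Fintype G] (p e : ℕ) where
  M : Ideal AlgInt
  hM : IsPModular p M
  P : Sylow p G
  x : G
  X : Set (IrrCharacter G)
  Y : Set (IrrCharacter G)
  εX : IrrCharacter G → ℤ
  ε : ℤ
  hx : orderOf x = p
  hPx : (P : Subgroup G) = Subgroup.zpowers x
  hblock : principalBlock M G = X ∪ Y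
  hdisj : Disjoint X Y
  hXc : Nat.card X = e
  hYc : Nat.card Y * e = p - 1
  hεX : ∀ χ ∈ X, εX χ = 1 ∨ εX χ = -1
  hXdeg : ∀ χ ∈ X, (charDegree χ.1 : ℤ) ≡ εX χ [ZMOD p]
  hval : ∀ χ ∈ X, ∀ x' : G, x' ∈ (P : Subgroup G) → x' ≠ 1 → ∀ y : G,
    y ∈ Subgroup.centralizer ((P : Subgroup G) : Set G) → ¬ p ∣ orderOf y →
    χ.1 (x' * y) = (εX χ : ℂ)
  hε : ε = 1 ∨ ε = -1
  hYdeg : ∀ θ ∈ Y, (charDegree θ.1 : ℤ) ≡ ε * (e : ℤ) [ZMOD p]
  hYagree : ∀ θ ∈ Y, ∀ θ' ∈ Y, ∀ g : G, ¬ p ∣ orderOf g → θ.1 g = θ'.1 g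
  hYsum : ∀ θ ∈ Y, ∀ g : G, ¬ p ∣ orderOf g →
    (ε : ℂ) * θ.1 g = ∑ᶠ χ ∈ X, (εX χ : ℂ) * χ.1 g

variable {G : Type u} [Group G] [Fintype G]

/-- the data from Brauer's theorem -/
theorem exists_D1 (p : ℕ) [Fact p.Prime] (P : Sylow p G) (hP : Nat.card P = p) (e : ℕ)
    (he : (Subgroup.centralizer ((P : Subgroup G) : Set G)).relIndex
      (Subgroup.normalizer ((P : Subgroup G) : Set G)) = e) (hediv : e ∣ p - 1) :
    ∃ c : D1 G p e, c.P = P := by
  classical
  obtain ⟨x, hx, hPx, hsq⟩ := d1_sylow_data p P hP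
  obtain ⟨M, hM⟩ := exists_isPModular p
  obtain ⟨-, X, Y, hXY, hdisj, hXc, hYc, εX, ε, hX, hε, hYdeg, hYagree, hYsum⟩ :=
    d1_principal p M hM (P : Subgroup G) x hx hPx hsq e he
  exact ⟨{ M := M, hM := hM, P := P, x := x, X := X, Y := Y, εX := εX, ε := ε, hx := hx,
           hPx := hPx, hblock := hXY, hdisj := hdisj, hXc := hXc,
           hYc := by rw [hYc]; exact Nat.div_mul_cancel hediv,
           hεX := fun χ hχ => (hX χ hχ).1, hXdeg := fun χ hχ => (hX χ hχ).2.1,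
           hval := fun χ hχ => (hX χ hχ).2.2, hε := hε, hYdeg := hYdeg, hYagree := hYagree,
           hYsum := hYsum }, rfl⟩

namespace D1

variable {p e : ℕ} [hp : Fact p.Prime] (c : D1 G p e)

omit hp in
theorem x_mem : c.x ∈ (c.P : Subgroup G) := by
  rw [c.hPx]; exact Subgroup.mem_zpowers _

theorem x_ne_one : c.x ≠ 1 := by
  intro h
  have := c.hx
  rw [h, orderOf_one] at this
  exact hp.1.one_lt.ne this

theorem card_P : Nat.card (c.P : Subgroup G) = p := by
  rw [c.hPx, Nat.card_zpowers, c.hx]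

theorem triv_mem : trivIrr G ∈ c.X ∪ c.Y := by
  rw [← c.hblock]
  exact trivIrr_mem_principalBlock (isPModular_isPrime c.hM).ne_top

open Classical in
/-- the non-exceptional characters as a finite set -/
noncomputable def Xf [Fintype (IrrCharacter G)] : Finset (IrrCharacter G) :=
  Finset.univ.filter (fun χ => χ ∈ c.X)

open Classical in
/-- the exceptional characters as a finite set -/
noncomputable def Yf [Fintype (IrrCharacter G)] : Finset (IrrCharacter G) :=
  Finset.univ.filter (fun θ => θ ∈ c.Y)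

omit hp in
theorem mem_Xf [Fintype (IrrCharacter G)] {χ : IrrCharacter G} : χ ∈ c.Xf ↔ χ ∈ c.X := by
  classical
  simp [Xf]

omit hp in
theorem mem_Yf [Fintype (IrrCharacter G)] {θ : IrrCharacter G} : θ ∈ c.Yf ↔ θ ∈ c.Y := by
  classical
  simp [Yf]

omit hp in
theorem card_Xf [Fintype (IrrCharacter G)] : c.Xf.card = e := by
  classical
  have h : c.Xf.card = Nat.card c.X := by
    rw [Nat.card_eq_fintype_card, Fintype.card_subtype]
    rfl
  rw [h]
  exact c.hXc

omit hp in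
theorem card_Yf [Fintype (IrrCharacter G)] : c.Yf.card * e = p - 1 := by
  classical
  have h : c.Yf.card = Nat.card c.Y := by
    rw [Nat.card_eq_fintype_card, Fintype.card_subtype]
    rfl
  rw [h]
  exact c.hYc

omit hp in
theorem finsum_X [Fintype (IrrCharacter G)] (f : IrrCharacter G → ℂ) :
    ∑ᶠ χ ∈ c.X, f χ = ∑ χ ∈ c.Xf, f χ := by
  classical
  rw [finsum_mem_eq_finite_toFinset_sum _ (Set.toFinite c.X)]
  refine Finset.sum_congr ?_ fun _ _ => rfl
  ext χ
  rw [Set.Finite.mem_toFinset, mem_Xf]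

omit hp in
theorem ne_of_mem {χ θ : IrrCharacter G} (hχ : χ ∈ c.X) (hθ : θ ∈ c.Y) : χ ≠ θ :=
  fun h => Set.disjoint_left.1 c.hdisj hχ (h ▸ hθ)

omit hp in
/-- the relation between the exceptional and the non-exceptional characters -/
theorem sum_reg [Fintype (IrrCharacter G)] {θ : IrrCharacter G} (hθ : θ ∈ c.Y) {g : G}
    (hg : ¬ p ∣ orderOf g) :
    (c.ε : ℂ) * θ.1 g = ∑ χ ∈ c.Xf, (c.εX χ : ℂ) * χ.1 g := by
  rw [c.hYsum θ hθ g hg, c.finsum_X]

theorem one_reg (c : D1 G p e) : ¬ p ∣ orderOf (1 : G) := by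
  rw [orderOf_one]
  exact fun h => hp.1.one_lt.ne' (Nat.dvd_one.1 h)

/-- a non-trivial irreducible character of a simple group is faithful -/
theorem faithful_of_ne_triv [IsSimpleGroup G] (χ : IrrCharacter G) (hne : χ ≠ trivIrr G) :
    ∀ g : G, χ.1 g = χ.1 1 → g = 1 := by
  classical
  by_cases hex : ∃ h0 : G, χ.1 h0 ≠ χ.1 1
  · obtain ⟨h0, hh0⟩ := hex
    intro g hg
    exact eq_one_of_apply_eq χ hh0 hg
  · exfalso
    push Not at hex
    have h1 := sum_mul_conj χ (trivIrr G)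
    rw [if_neg hne] at h1
    have h2 : ∑ g : G, χ.1 g * conj ((trivIrr G).1 g) = (Nat.card G : ℂ) * χ.1 1 := by
      have : ∀ g ∈ (Finset.univ : Finset G), χ.1 g * conj ((trivIrr G).1 g) = χ.1 1 := by
        intro g _
        rw [hex g, trivIrr_apply, map_one, mul_one]
      rw [Finset.sum_congr rfl this, Finset.sum_const, Finset.card_univ, nsmul_eq_mul,
        Nat.card_eq_fintype_card]
    rw [h2, apply_one] at h1
    have hG0 : (Nat.card G : ℂ) ≠ 0 := Nat.cast_ne_zero.2 Nat.card_pos.ne'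
    have hd0 : (charDegree χ.1 : ℂ) ≠ 0 := Nat.cast_ne_zero.2 (charDegree_pos χ).ne'
    exact mul_ne_zero hG0 hd0 h1

/-- if the centralizer of `P` is not a `p`-group, the non-trivial characters of the principal block
have degree at least `2 p` -/
theorem two_mul_le_deg [IsSimpleGroup G] (hG : ¬ IsMulCommutative G)
    (hC : ¬ IsPGroup p (Subgroup.centralizer ((c.P : Subgroup G) : Set G)))
    {χ : IrrCharacter G} (hχ : χ ∈ c.X ∪ c.Y) (hne : χ ≠ trivIrr G) :
    2 * p ≤ charDegree χ.1 := by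
  by_contra hlt
  push Not at hlt
  apply hC
  have hmem : χ ∈ principalBlock c.M G := by rw [c.hblock]; exact hχ
  exact Cfsg.Agent.Lib.Helper8.BZ.centralizer_isPGroup p c.M c.hM (commutator_eq_top hG) c.P χ
    hmem (faithful_of_ne_triv χ hne) hlt

section block

variable [Fintype (IrrCharacter G)] (θ0 : IrrCharacter G)

open Classical in
/-- the signs of the non-exceptional characters and of one exceptional character -/
noncomputable def δ : IrrCharacter G → ℤ := fun χ => if χ = θ0 then -c.ε else c.εX χ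

open Classical in
/-- the non-exceptional characters and one exceptional character -/
noncomputable def Bf : Finset (IrrCharacter G) := insert θ0 c.Xf

omit hp [Fintype (IrrCharacter G)] in
theorem δ_self : c.δ θ0 θ0 = -c.ε := by
  unfold δ
  rw [if_pos rfl]

omit hp [Fintype (IrrCharacter G)] in
theorem δ_of_mem_X (hθ0 : θ0 ∈ c.Y) {χ : IrrCharacter G} (hχ : χ ∈ c.X) : c.δ θ0 χ = c.εX χ := by
  unfold δ
  rw [if_neg (c.ne_of_mem hχ hθ0)]

omit hp in
theorem not_mem_Xf (hθ0 : θ0 ∈ c.Y) : θ0 ∉ c.Xf := by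
  intro h
  exact c.ne_of_mem (c.mem_Xf.1 h) hθ0 rfl

omit hp in
theorem mem_Bf {χ : IrrCharacter G} : χ ∈ c.Bf θ0 ↔ χ = θ0 ∨ χ ∈ c.X := by
  classical
  unfold Bf
  rw [Finset.mem_insert, c.mem_Xf]

omit hp in
theorem card_Bf (hθ0 : θ0 ∈ c.Y) : (c.Bf θ0).card = e + 1 := by
  classical
  unfold Bf
  rw [Finset.card_insert_of_notMem (c.not_mem_Xf θ0 hθ0), c.card_Xf]

omit hp in
theorem δ_cases {χ : IrrCharacter G} (hχ : χ ∈ c.Bf θ0) : c.δ θ0 χ = 1 ∨ c.δ θ0 χ = -1 := by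
  classical
  unfold δ
  split_ifs with h
  · rcases c.hε with h1 | h1 <;> rw [h1]
    · right; rfl
    · left; norm_num
  · rcases (c.mem_Bf θ0).1 hχ with h1 | h1
    · exact absurd h1 h
    · exact c.hεX χ h1

omit hp in
/-- sums over the enlarged set -/
theorem sum_Bf (hθ0 : θ0 ∈ c.Y) (f : IrrCharacter G → ℂ) :
    ∑ χ ∈ c.Bf θ0, (c.δ θ0 χ : ℂ) * f χ =
      ∑ χ ∈ c.Xf, (c.εX χ : ℂ) * f χ - (c.ε : ℂ) * f θ0 := by
  classical
  unfold Bf
  rw [Finset.sum_insert (c.not_mem_Xf θ0 hθ0), c.δ_self]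
  have h : ∀ χ ∈ c.Xf, (c.δ θ0 χ : ℂ) * f χ = (c.εX χ : ℂ) * f χ := by
    intro χ hχ
    rw [c.δ_of_mem_X θ0 hθ0 (c.mem_Xf.1 hχ)]
  rw [Finset.sum_congr rfl h]
  push_cast
  ring

omit hp in
/-- the signed sum of the block vanishes on the `p`-regular elements -/
theorem sum_Bf_reg (hθ0 : θ0 ∈ c.Y) {g : G} (hg : ¬ p ∣ orderOf g) :
    ∑ χ ∈ c.Bf θ0, (c.δ θ0 χ : ℂ) * χ.1 g = 0 := by
  rw [c.sum_Bf θ0 hθ0 (fun χ => χ.1 g), c.sum_reg hθ0 hg]
  ring

end block

end D1

end Cfsg.Agent.Lib.Helper6.OrdK
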