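import Mathlib
import Cfsg.Agent.Lib.Helper6.OrdC1
import Cfsg.Agent.S1010

/-!
# Sylow subgroups of prime order in a simple group: the numerical data; the order 5040
-/

set_option autoImplicit false
set_option maxHeartbeats 1600000

namespace Cfsg.Agent.Lib.Helper6.OrdK

open Subgroup Cfsg.Agent.Lib.Helper9.SmallOrd Cfsg.Agent.Lib.Helper6.OrdC

variable {G : Type*} [Group G] [Finite G] [IsSimpleGroup G]

/-- The numerical data of a Sylow subgroup of prime order in a non-abelian simple group of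
order `p m`. -/
theorem sylow_prime_data {p : ℕ} [hp : Fact p.Prime] (hG : ¬ IsMulCommutative G) (m : ℕ)
    (hm : 1 < m) (hcard : Nat.card G = p * m) (hpm : ¬ p ∣ m) (P : Sylow p G) :
    Nat.card P = p ∧ ∃ n k e c : ℕ, Nat.card (Sylow p G) = n ∧ n * k = m ∧ n % p = 1 ∧ n ≠ 1 ∧
      2 * (p * m) ∣ n.factorial ∧
      Nat.card (normalizer ((P : Subgroup G) : Set G)) = p * k ∧
      (centralizer ((P : Subgroup G) : Set G)).relIndex
        (normalizer ((P : Subgroup G) : Set G)) = e ∧ e ∣ Nat.gcd k (p - 1) ∧ e ≠ 1 ∧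
      Nat.card (centralizer ((P : Subgroup G) : Set G)) = c ∧ c * e = p * k ∧
      (n = p + 1 → k ∣ p - 1) := by
  have hc : Nat.card G = p ^ 1 * m := by rw [hcard, pow_one]
  obtain ⟨hPcard, hPbot, hPtop, hdvd, hmod, hne1, hNtop, hNcard, hfact⟩ :=
    sylow_data hG 1 m Nat.one_pos hm hc hpm P
  rw [pow_one] at hPcard
  refine ⟨hPcard, ?_⟩
  obtain ⟨k, hk⟩ := hdvd
  have hn0 : 0 < Nat.card (Sylow p G) := Nat.card_pos
  have hN : Nat.card (normalizer ((P : Subgroup G) : Set G)) = p * k := by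
    rw [hcard, hk] at hNcard
    have : Nat.card (normalizer ((P : Subgroup G) : Set G)) * Nat.card (Sylow p G) =
        (p * k) * Nat.card (Sylow p G) := by rw [hNcard]; ring
    exact Nat.eq_of_mul_eq_mul_right hn0 this
  obtain ⟨hr, hCr⟩ := relIndex_data P hPcard k hN
  have hburn : (centralizer ((P : Subgroup G) : Set G)).relIndex
      (normalizer ((P : Subgroup G) : Set G)) ≠ 1 := by
    intro h1
    have h4 : normalizer ((P : Subgroup G) : Set G) ≤ centralizer ((P : Subgroup G) : Set G) :=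
      relIndex_eq_one.mp h1
    rcases Cfsg.Agent.Lib.Helper3.sylow_eq_bot_or_top_of_normalizer_le_centralizer P h4 with h' | h'
    · exact hPbot h'
    · exact hPtop h'
  refine ⟨Nat.card (Sylow p G), k, _, _, rfl, hk.symm, hmod, hne1, ?_, hN, rfl, hr, hburn, rfl, hCr,
    ?_⟩
  · rw [hcard] at hfact; exact hfact
  · intro h
    exact np_succ_dvd P hPcard h hNtop k hN

set_option maxRecDepth 100000 in
theorem filter7 : (Nat.divisors 720).filter (fun n => n % 7 = 1) = {1, 8, 15, 36, 120} := by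
  decide

set_option maxRecDepth 100000 in
theorem filter5 : (Nat.divisors 1008).filter (fun n => n % 5 = 1) =
    {1, 6, 16, 21, 36, 56, 126, 336} := by
  decide

/-- the arithmetic of the Sylow 7-subgroups for the order 5040 -/
theorem arith7 (n k e c : ℕ) (h1 : n * k = 720) (h2 : n % 7 = 1) (h3 : n ≠ 1)
    (h5 : e ∣ Nat.gcd k 6) (h6 : e ≠ 1) (h7 : c * e = 7 * k) (h8 : n = 8 → k ∣ 6) :
    (n = 15 ∧ k = 48 ∧ ((e = 2 ∧ c = 168) ∨ (e = 3 ∧ c = 112) ∨ (e = 6 ∧ c = 56))) ∨
      (n = 36 ∧ k = 20 ∧ e = 2 ∧ c = 70) ∨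
      (n = 120 ∧ k = 6 ∧ ((e = 2 ∧ c = 21) ∨ (e = 3 ∧ c = 14) ∨ (e = 6 ∧ c = 7))) := by
  have hmem : n ∈ (Nat.divisors 720).filter (fun n => n % 7 = 1) := by
    rw [Finset.mem_filter, Nat.mem_divisors]
    exact ⟨⟨⟨k, h1.symm⟩, by norm_num⟩, h2⟩
  rw [filter7] at hmem
  simp only [Finset.mem_insert, Finset.mem_singleton] at hmem
  have he6 : e ∣ 6 := dvd_trans h5 (Nat.gcd_dvd_right k 6)
  have hek : e ∣ k := dvd_trans h5 (Nat.gcd_dvd_left k 6)
  have he6' : e = 1 ∨ e = 2 ∨ e = 3 ∨ e = 6 := by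
    have hle : e ≤ 6 := Nat.le_of_dvd (by norm_num) he6
    interval_cases e <;> omega
  rcases hmem with rfl | rfl | rfl | rfl | rfl
  · exact absurd rfl h3
  · exfalso
    have hk : k = 90 := by omega
    have := h8 rfl
    rw [hk] at this
    norm_num at this
  · left
    have hk : k = 48 := by omega
    subst hk
    refine ⟨rfl, rfl, ?_⟩
    rcases he6' with rfl | rfl | rfl | rfl
    · exact absurd rfl h6
    · left; exact ⟨rfl, by omega⟩
    · right; left; exact ⟨rfl, by omega⟩
    · right; right; exact ⟨rfl, by omega⟩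
  · right; left
    have hk : k = 20 := by omega
    subst hk
    refine ⟨rfl, rfl, ?_⟩
    rcases he6' with rfl | rfl | rfl | rfl
    · exact absurd rfl h6
    · exact ⟨rfl, by omega⟩
    · exfalso; omega
    · exfalso; omega
  · right; right
    have hk : k = 6 := by omega
    subst hk
    refine ⟨rfl, rfl, ?_⟩
    rcases he6' with rfl | rfl | rfl | rfl
    · exact absurd rfl h6
    · left; exact ⟨rfl, by omega⟩
    · right; left; exact ⟨rfl, by omega⟩
    · right; right; exact ⟨rfl, by omega⟩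

/-- the arithmetic of the Sylow 5-subgroups for the order 5040 -/
theorem arith5 (n k e c : ℕ) (h1 : n * k = 1008) (h2 : n % 5 = 1) (h3 : n ≠ 1)
    (h4 : 2 * (5 * 1008) ∣ n.factorial) (h21 : n ≠ 21)
    (h5 : e ∣ Nat.gcd k 4) (h6 : e ≠ 1) (h7 : c * e = 5 * k) :
    (e = 2 ∧ (c = 70 ∨ c = 45 ∨ c = 20)) ∨ (e = 4 ∧ (c = 35 ∨ c = 10)) := by
  have hmem : n ∈ (Nat.divisors 1008).filter (fun n => n % 5 = 1) := by
    rw [Finset.mem_filter, Nat.mem_divisors]
    exact ⟨⟨⟨k, h1.symm⟩, by norm_num⟩, h2⟩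
  rw [filter5] at hmem
  simp only [Finset.mem_insert, Finset.mem_singleton] at hmem
  have he4 : e ∣ 4 := dvd_trans h5 (Nat.gcd_dvd_right k 4)
  have hek : e ∣ k := dvd_trans h5 (Nat.gcd_dvd_left k 4)
  have he4' : e = 1 ∨ e = 2 ∨ e = 4 := by
    have hle : e ≤ 4 := Nat.le_of_dvd (by norm_num) he4
    interval_cases e <;> omega
  rcases hmem with rfl | rfl | rfl | rfl | rfl | rfl | rfl | rfl
  · exact absurd rfl h3
  · exfalso
    revert h4
    decide
  · exfalso
    have hk : k = 63 := by omega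
    subst hk
    rcases he4' with rfl | rfl | rfl
    · exact h6 rfl
    · omega
    · omega
  · exact absurd rfl h21
  · have hk : k = 28 := by omega
    subst hk
    rcases he4' with rfl | rfl | rfl
    · exact absurd rfl h6
    · left; exact ⟨rfl, Or.inl (by omega)⟩
    · right; exact ⟨rfl, Or.inl (by omega)⟩
  · have hk : k = 18 := by omega
    subst hk
    rcases he4' with rfl | rfl | rfl
    · exact absurd rfl h6
    · left; exact ⟨rfl, Or.inr (Or.inl (by omega))⟩
    · exfalso; omega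
  · have hk : k = 8 := by omega
    subst hk
    rcases he4' with rfl | rfl | rfl
    · exact absurd rfl h6
    · left; exact ⟨rfl, Or.inr (Or.inr (by omega))⟩
    · right; exact ⟨rfl, Or.inr (by omega)⟩
  · exfalso
    have hk : k = 3 := by omega
    subst hk
    rcases he4' with rfl | rfl | rfl
    · exact h6 rfl
    · omega
    · omega

end Cfsg.Agent.Lib.Helper6.OrdK
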