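import Mathlib
import Cfsg.Agent.Lib.Helper6.OrdK1
import Cfsg.Agent.Lib.Helper6.OrdK2

/-!
# Brauer–Tuan: simple groups of order `p q^b g` with `g < p - 1`; the principal `p`-block
-/

set_option autoImplicit false
set_option maxHeartbeats 1600000
set_option linter.unusedSectionVars false
set_option linter.unusedVariables false

namespace Cfsg.Agent.Lib.Helper6.BT

open Cfsg Cfsg.Agent.Lib.Helper8 Cfsg.Agent.Lib.Helper6.OrdB Cfsg.Agent.Lib.Helper6.OrdK
open scoped ComplexConjugate

universe u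

/-- a divisor of `p q^b g` prime to `p` and to `q` divides `g` -/
theorem dvd_cofactor {p q b g d : ℕ} (hp : p.Prime) (hq : q.Prime) (hd : d ∣ p * q ^ b * g)
    (hpd : ¬ p ∣ d) (hqd : ¬ q ∣ d) : d ∣ g := by
  have h1 : Nat.Coprime d p := (Nat.Coprime.symm ((Nat.Prime.coprime_iff_not_dvd hp).2 hpd))
  have h2 : Nat.Coprime d q := (Nat.Coprime.symm ((Nat.Prime.coprime_iff_not_dvd hq).2 hqd))
  rw [mul_assoc] at hd
  have h3 : d ∣ q ^ b * g := h1.dvd_of_dvd_mul_left hd
  exact (h2.pow_right b).dvd_of_dvd_mul_left h3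

/-- a small positive number congruent to `± 1` modulo `p` is `1` -/
theorem eq_one_of_small {p d : ℕ} {s : ℤ} (hs : s = 1 ∨ s = -1)
    (h : (d : ℤ) ≡ s [ZMOD p]) (hd0 : 0 < d) (hd : d + 1 < p) : d = 1 := by
  have h1 := (Int.modEq_iff_dvd.1 h)
  rcases hs with rfl | rfl
  · obtain ⟨k, hk⟩ := h1
    have hk0 : k = 0 := by
      by_contra hk0
      rcases lt_or_gt_of_ne hk0 with h2 | h2
      · have : (p : ℤ) * k ≤ (p : ℤ) * (-1) := by
          apply mul_le_mul_of_nonneg_left (by omega) (by positivity)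
        omega
      · have : (p : ℤ) * 1 ≤ (p : ℤ) * k := by
          apply mul_le_mul_of_nonneg_left (by omega) (by positivity)
        omega
    rw [hk0, mul_zero] at hk
    omega
  · exfalso
    obtain ⟨k, hk⟩ := h1
    have hk0 : k = 0 := by
      by_contra hk0
      rcases lt_or_gt_of_ne hk0 with h2 | h2
      · have : (p : ℤ) * 1 ≤ (p : ℤ) * (-k) := by
          apply mul_le_mul_of_nonneg_left (by omega) (by positivity)
        have h3 : (p : ℤ) * (-k) = -((p : ℤ) * k) := by ring
        omega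
      · have : (p : ℤ) * 1 ≤ (p : ℤ) * k := by
          apply mul_le_mul_of_nonneg_left (by omega) (by positivity)
        omega
    rw [hk0, mul_zero] at hk
    omega

section

variable {G : Type u} [Group G] [Fintype G] [IsSimpleGroup G]

/-- a non-trivial irreducible character of degree `≡ ± 1` modulo `p` has degree divisible by `q` -/
theorem q_dvd_of_pm_one (hG : ¬ IsMulCommutative G) {p q b g : ℕ} (hp : p.Prime) (hq : q.Prime)
    (hcard : Nat.card G = p * q ^ b * g) (hg : g + 1 < p) (χ : IrrCharacter G)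
    (hne : χ ≠ trivIrr G) {s : ℤ} (hs : s = 1 ∨ s = -1)
    (hmod : (charDegree χ.1 : ℤ) ≡ s [ZMOD p]) : q ∣ charDegree χ.1 := by
  by_contra hqd
  have hperf := commutator_eq_top hG
  have hd1 : charDegree χ.1 ≠ 1 := fun h => hne (eq_trivIrr_of_charDegree_eq_one hperf χ h)
  have hdvd : charDegree χ.1 ∣ p * q ^ b * g := hcard ▸ charDegree_dvd χ
  have hpos := charDegree_pos χ
  have hp2 := hp.two_le
  have hpd : ¬ p ∣ charDegree χ.1 := by
    intro h
    have h1 : ((p : ℤ)) ∣ (charDegree χ.1 : ℤ) := by exact_mod_cast h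
    have h2 := (Int.modEq_iff_dvd.1 hmod)
    have h3 : (p : ℤ) ∣ s := by
      have := dvd_add h2 h1
      simpa using this
    rcases hs with rfl | rfl
    · have := Int.le_of_dvd (by norm_num) h3
      omega
    · have h4 : (p : ℤ) ∣ 1 := by simpa using (dvd_neg.2 h3)
      have := Int.le_of_dvd (by norm_num) h4
      omega
  have hdg := dvd_cofactor hp hq hdvd hpd hqd
  have hg0 : 0 < g := by
    rcases Nat.eq_zero_or_pos g with h | h
    · rw [h, mul_zero] at hcard
      have := Nat.card_pos (α := G)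
      omega
    · exact h
  have hle := Nat.le_of_dvd hg0 hdg
  exact hd1 (eq_one_of_small hs hmod hpos (by omega))

/-- the degree equation of the principal block -/
theorem D1_deg_eq {p e : ℕ} [hp : Fact p.Prime] (c : D1 G p e) [Fintype (IrrCharacter G)]
    {θ : IrrCharacter G} (hθ : θ ∈ c.Y) :
    c.ε * (charDegree θ.1 : ℤ) = ∑ χ ∈ c.Xf, c.εX χ * (charDegree χ.1 : ℤ) := by
  have h1 := c.sum_reg hθ c.one_reg
  rw [apply_one θ] at h1
  have h2 : ((c.ε * (charDegree θ.1 : ℤ) : ℤ) : ℂ) =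
      ((∑ χ ∈ c.Xf, c.εX χ * (charDegree χ.1 : ℤ) : ℤ) : ℂ) := by
    push_cast
    rw [h1]
    refine Finset.sum_congr rfl fun χ _ => ?_
    rw [apply_one χ]
  exact_mod_cast h2

/-- **Step 1.** The shape of the principal `p`-block of a simple group of order `p q^b g` with
`g < p - 1`. -/
theorem step1 (hG : ¬ IsMulCommutative G) {p q b g e : ℕ} [hp : Fact p.Prime] (hq : q.Prime)
    (hcard : Nat.card G = p * q ^ b * g) (hqg : ¬ q ∣ g) (hg : g + 1 < p) (he : 2 ≤ e)
    (c : D1 G p e) :
    trivIrr G ∈ c.X ∧ c.εX (trivIrr G) = 1 ∧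
    (∀ χ ∈ c.X, χ ≠ trivIrr G → q ∣ charDegree χ.1) ∧
    2 * e ≤ p - 1 ∧
    (∀ θ ∈ c.Y, θ ≠ trivIrr G ∧ ¬ q ∣ charDegree θ.1 ∧ charDegree θ.1 ∣ g ∧
      ((c.ε = 1 ∧ charDegree θ.1 = e) ∨ (c.ε = -1 ∧ charDegree θ.1 + e = p))) := by
  classical
  have : Fintype (IrrCharacter G) := Fintype.ofFinite _
  have hpp := hp.1
  have hp2 := hpp.two_le
  have hq2 := hq.two_le
  have hperf := commutator_eq_top hG
  have hg0 : 0 < g := by
    rcases Nat.eq_zero_or_pos g with h | h
    · rw [h, mul_zero] at hcard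
      have := Nat.card_pos (α := G)
      omega
    · exact h
  -- non-trivial members of `X` have degree divisible by `q`
  have hXq : ∀ χ ∈ c.X, χ ≠ trivIrr G → q ∣ charDegree χ.1 := fun χ hχ hne =>
    q_dvd_of_pm_one hG hpp hq hcard hg χ hne (c.hεX χ hχ) (c.hXdeg χ hχ)
  -- the sum over the non-trivial members of `X` is divisible by `q`
  have hsumq : (q : ℤ) ∣ ∑ χ ∈ c.Xf.erase (trivIrr G), c.εX χ * (charDegree χ.1 : ℤ) := by
    apply Finset.dvd_sum
    intro χ hχ
    rw [Finset.mem_erase] at hχ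
    have := hXq χ (c.mem_Xf.1 hχ.2) hχ.1
    exact Dvd.dvd.mul_left (by exact_mod_cast this) _
  have hYne : c.Y.Nonempty := by
    rw [← Set.nonempty_coe_sort]
    have h1 : 0 < Nat.card c.Y := by
      rcases Nat.eq_zero_or_pos (Nat.card c.Y) with h | h
      · have := c.hYc
        rw [h, zero_mul] at this
        omega
      · exact h
    exact (Nat.card_pos_iff.1 h1).1
  obtain ⟨θ0, hθ0⟩ := hYne
  have hnot_unit : ∀ z : ℤ, (z = 1 ∨ z = -1) → ¬ (q : ℤ) ∣ z := by
    intro z hz hd
    rcases hz with rfl | rfl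
    · have := Int.le_of_dvd (by norm_num) hd
      omega
    · have h4 : (q : ℤ) ∣ 1 := by simpa using (dvd_neg.2 hd)
      have := Int.le_of_dvd (by norm_num) h4
      omega
  -- `t ≥ 2`
  have ht2 : 2 * e ≤ p - 1 := by
    by_contra hlt
    push Not at hlt
    have hYc := c.hYc
    have hY1 : Nat.card c.Y = 1 := by
      rcases Nat.lt_or_ge (Nat.card c.Y) 2 with h | h
      · rcases Nat.eq_zero_or_pos (Nat.card c.Y) with h0 | h0
        · rw [h0, zero_mul] at hYc; omega
        · omega
      · have : 2 * e ≤ Nat.card c.Y * e := Nat.mul_le_mul_right e h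
        omega
    rw [hY1, one_mul] at hYc
    -- all members of `Y` have degree `≡ ± 1`
    have hYdeg' : ∀ θ ∈ c.Y, (charDegree θ.1 : ℤ) ≡ -c.ε [ZMOD p] := by
      intro θ hθ
      have h1 := c.hYdeg θ hθ
      have h2 : (e : ℤ) = p - 1 := by
        have : e = p - 1 := hYc
        rw [this, Nat.cast_sub (by omega)]
        simp
      rw [h2] at h1
      refine h1.trans ?_
      rw [Int.modEq_iff_dvd]
      exact ⟨-c.ε, by ring⟩
    have hεn : -c.ε = 1 ∨ -c.ε = -1 := by
      rcases c.hε with h | h <;> rw [h] <;> simp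
    have hYq : ∀ θ ∈ c.Y, θ ≠ trivIrr G → q ∣ charDegree θ.1 := fun θ hθ hne =>
      q_dvd_of_pm_one hG hpp hq hcard hg θ hne hεn (hYdeg' θ hθ)
    have heq := D1_deg_eq c hθ0
    rcases c.triv_mem with hT | hT
    · -- trivial character in `X`
      have hne : θ0 ≠ trivIrr G := fun h => c.ne_of_mem hT hθ0 h.symm
      have hq0 := hYq θ0 hθ0 hne
      rw [← Finset.add_sum_erase c.Xf _ (c.mem_Xf.2 hT), charDegree_trivIrr] at heq
      have h1 : (q : ℤ) ∣ c.εX (trivIrr G) := by
        have h2 : (q : ℤ) ∣ c.ε * (charDegree θ0.1 : ℤ) :=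
          Dvd.dvd.mul_left (by exact_mod_cast hq0) _
        rw [heq] at h2
        have := (dvd_add_left hsumq).1 h2
        simpa using this
      exact hnot_unit _ (c.hεX _ hT) h1
    · -- trivial character in `Y`
      have hY1' : c.Y.ncard = 1 := by rw [← Nat.card_coe_set_eq]; exact hY1
      obtain ⟨a, ha⟩ := Set.ncard_eq_one.1 hY1'
      have h1 : θ0 = trivIrr G := by
        rw [ha] at hθ0 hT
        rw [Set.mem_singleton_iff] at hθ0 hT
        rw [hθ0, hT]
      have hsum2 : (q : ℤ) ∣ ∑ χ ∈ c.Xf, c.εX χ * (charDegree χ.1 : ℤ) := by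
        apply Finset.dvd_sum
        intro χ hχ
        have hne : χ ≠ trivIrr G := fun h => c.ne_of_mem (c.mem_Xf.1 hχ) hT h
        have := hXq χ (c.mem_Xf.1 hχ) hne
        exact Dvd.dvd.mul_left (by exact_mod_cast this) _
      rw [← heq, h1, charDegree_trivIrr] at hsum2
      have : (q : ℤ) ∣ c.ε := by simpa using hsum2
      exact hnot_unit _ c.hε this
  have he_lt : e + 1 < p := by omega
  -- the trivial character lies in `X`
  have hTY : trivIrr G ∉ c.Y := by
    intro hT
    have h1 := c.hYdeg _ hT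
    rw [charDegree_trivIrr] at h1
    have h2 := (Int.modEq_iff_dvd.1 h1)
    rcases c.hε with h | h
    · rw [h] at h2
      have h3 : (p : ℤ) ∣ (e : ℤ) - 1 := by
        have : (1 : ℤ) * e - ((1 : ℕ) : ℤ) = (e : ℤ) - 1 := by push_cast; ring
        rwa [this] at h2
      have := Int.le_of_dvd (by omega) h3
      omega
    · rw [h] at h2
      have h3 : (p : ℤ) ∣ (e : ℤ) + 1 := by
        have : (-1 : ℤ) * e - ((1 : ℕ) : ℤ) = -((e : ℤ) + 1) := by push_cast; ring
        rw [this] at h2
        exact (dvd_neg.1 h2)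
      have := Int.le_of_dvd (by omega) h3
      omega
  have hTX : trivIrr G ∈ c.X := by
    rcases c.triv_mem with h | h
    · exact h
    · exact absurd h hTY
  have hεT : c.εX (trivIrr G) = 1 := by
    have h1 := c.hXdeg _ hTX
    rw [charDegree_trivIrr] at h1
    rcases c.hεX _ hTX with h | h
    · exact h
    · rw [h] at h1
      have h2 := (Int.modEq_iff_dvd.1 h1)
      have h3 : (p : ℤ) ∣ 2 := by
        have : (-1 : ℤ) - ((1 : ℕ) : ℤ) = -2 := by norm_num
        rw [this] at h2
        exact (dvd_neg.1 h2)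
      have := Int.le_of_dvd (by norm_num) h3
      omega
  refine ⟨hTX, hεT, hXq, ht2, ?_⟩
  intro θ hθ
  have hne : θ ≠ trivIrr G := fun h => hTY (h ▸ hθ)
  have heq := D1_deg_eq c hθ
  rw [← Finset.add_sum_erase c.Xf _ (c.mem_Xf.2 hTX), charDegree_trivIrr, hεT] at heq
  have hqd : ¬ q ∣ charDegree θ.1 := by
    intro hq0
    have h2 : (q : ℤ) ∣ c.ε * (charDegree θ.1 : ℤ) :=
      Dvd.dvd.mul_left (by exact_mod_cast hq0) _
    rw [heq] at h2
    have := (dvd_add_left hsumq).1 h2
    exact hnot_unit 1 (Or.inl rfl) (by simpa using this)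
  have hdvd : charDegree θ.1 ∣ p * q ^ b * g := hcard ▸ charDegree_dvd θ
  have hpos := charDegree_pos θ
  have hmod := c.hYdeg θ hθ
  have hpd : ¬ p ∣ charDegree θ.1 := by
    intro h
    have h1 : ((p : ℤ)) ∣ (charDegree θ.1 : ℤ) := by exact_mod_cast h
    have h2 := (Int.modEq_iff_dvd.1 hmod)
    have h3 : (p : ℤ) ∣ c.ε * e := by
      have := dvd_add h2 h1
      simpa using this
    have h4 : (p : ℤ) ∣ (e : ℤ) := by
      rcases c.hε with h | h
      · rw [h] at h3; simpa using h3
      · rw [h] at h3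
        have : (-1 : ℤ) * e = -(e : ℤ) := by ring
        rw [this] at h3
        exact (dvd_neg.1 h3)
    have := Int.le_of_dvd (by omega) h4
    omega
  have hdg := dvd_cofactor hpp hq hdvd hpd hqd
  have hle := Nat.le_of_dvd hg0 hdg
  refine ⟨hne, hqd, hdg, ?_⟩
  have h2 := (Int.modEq_iff_dvd.1 hmod)
  rcases c.hε with h | h
  · left
    refine ⟨h, ?_⟩
    rw [h] at h2
    have h3 : (p : ℤ) ∣ (e : ℤ) - (charDegree θ.1 : ℤ) := by
      have : (1 : ℤ) * e - (charDegree θ.1 : ℤ) = (e : ℤ) - (charDegree θ.1 : ℤ) := by ring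
      rwa [this] at h2
    obtain ⟨k, hk⟩ := h3
    have hk0 : k = 0 := by
      by_contra hk0
      rcases lt_or_gt_of_ne hk0 with h5 | h5
      · have : (p : ℤ) * k ≤ (p : ℤ) * (-1) := by
          apply mul_le_mul_of_nonneg_left (by omega) (by positivity)
        omega
      · have : (p : ℤ) * 1 ≤ (p : ℤ) * k := by
          apply mul_le_mul_of_nonneg_left (by omega) (by positivity)
        omega
    rw [hk0, mul_zero] at hk
    omega
  · right
    refine ⟨h, ?_⟩
    rw [h] at h2
    have h3 : (p : ℤ) ∣ (e : ℤ) + (charDegree θ.1 : ℤ) := by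
      have : (-1 : ℤ) * e - (charDegree θ.1 : ℤ) = -((e : ℤ) + (charDegree θ.1 : ℤ)) := by ring
      rw [this] at h2
      exact (dvd_neg.1 h2)
    obtain ⟨k, hk⟩ := h3
    have hk1 : k = 1 := by
      by_contra hk1
      rcases lt_or_gt_of_ne hk1 with h5 | h5
      · have : (p : ℤ) * k ≤ (p : ℤ) * 0 := by
          apply mul_le_mul_of_nonneg_left (by omega) (by positivity)
        omega
      · have : (p : ℤ) * 2 ≤ (p : ℤ) * k := by
          apply mul_le_mul_of_nonneg_left (by omega) (by positivity)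
        omega
    rw [hk1, mul_one] at hk
    omega

end

end Cfsg.Agent.Lib.Helper6.BT
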