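import Mathlib
import Cfsg.Agent.Lib.Helper6.BT1

/-!
# Brauer–Tuan: the Sylow `p`-subgroups are self-centralizing
-/

set_option autoImplicit false
set_option maxHeartbeats 1600000
set_option linter.unusedSectionVars false
set_option linter.unusedVariables false

namespace Cfsg.Agent.Lib.Helper6.BT

open Cfsg Cfsg.Agent.Lib.Helper8 Cfsg.Agent.Lib.Helper6.OrdB Cfsg.Agent.Lib.Helper6.OrdK
  Cfsg.Agent.Lib.Helper6.OrdH
open scoped ComplexConjugate

universe u

section

variable {G : Type u} [Group G] [Fintype G] [IsSimpleGroup G]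

/-- the hypotheses on the order -/
structure Hyp (G : Type u) [Group G] [Fintype G] (p q b g : ℕ) : Prop where
  hp : p.Prime
  hq : q.Prime
  hpq : p ≠ q
  hcard : Nat.card G = p * q ^ b * g
  hqg : ¬ q ∣ g
  hg : g + 1 < p

theorem Hyp.g_pos {p q b g : ℕ} (H : Hyp G p q b g) : 0 < g := by
  rcases Nat.eq_zero_or_pos g with h | h
  · have := H.hcard
    rw [h, mul_zero] at this
    have := Nat.card_pos (α := G)
    omega
  · exact h

theorem Hyp.not_dvd {p q b g : ℕ} (H : Hyp G p q b g) : ¬ p ∣ q ^ b * g := by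
  intro h
  rcases (Nat.Prime.dvd_mul H.hp).1 h with h1 | h1
  · have := (Nat.prime_dvd_prime_iff_eq H.hp H.hq).1 (H.hp.dvd_of_dvd_pow h1)
    exact H.hpq this
  · have := Nat.le_of_dvd H.g_pos h1
    have := H.hg
    omega

/-- The Sylow `p`-subgroups are self-centralizing of order `p`. -/
theorem sylow_data (hG : ¬ IsMulCommutative G) {p q b g : ℕ} [hp : Fact p.Prime]
    (H : Hyp G p q b g) (Q : Sylow p G) :
    Nat.card Q = p ∧
      Subgroup.centralizer ((Q : Subgroup G) : Set G) = (Q : Subgroup G) ∧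
      ∃ e n : ℕ, 2 ≤ e ∧ e ∣ p - 1 ∧
        Nat.card (Subgroup.normalizer ((Q : Subgroup G) : Set G)) = p * e ∧
        (Subgroup.centralizer ((Q : Subgroup G) : Set G)).relIndex
          (Subgroup.normalizer ((Q : Subgroup G) : Set G)) = e ∧
        Nat.card (Sylow p G) = n ∧ n * e = q ^ b * g ∧ n % p = 1 := by
  classical
  have hpp := hp.1
  have hp2 := hpp.two_le
  have hperf := commutator_eq_top hG
  have hcard' : Nat.card G = p * (q ^ b * g) := by rw [H.hcard, mul_assoc]
  have hm1 : 1 < q ^ b * g := by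
    by_contra hle
    push Not at hle
    have h0 : 0 < q ^ b * g := Nat.mul_pos (pow_pos H.hq.pos b) H.g_pos
    have h1 : q ^ b * g = 1 := by omega
    rw [h1, mul_one] at hcard'
    apply hG
    have hprime : Fact (Nat.card G).Prime := ⟨hcard' ▸ hpp⟩
    have hcyc : IsCyclic G := isCyclic_of_prime_card (p := Nat.card G) rfl
    exact ⟨⟨fun a b => hcyc.commGroup.mul_comm a b⟩⟩
  obtain ⟨hQcard, n, k, e, c', hn, hnk, hmod, hn1, -, hN, he, hediv, he1, hc', hce, -⟩ :=
    sylow_prime_data hG (q ^ b * g) hm1 hcard' H.not_dvd Q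
  have hep : e ∣ p - 1 := dvd_trans hediv (Nat.gcd_dvd_right _ _)
  have he0 : 0 < e := Nat.pos_of_dvd_of_pos hep (by omega)
  have he2 : 2 ≤ e := by omega
  obtain ⟨c, hcP⟩ := exists_D1 p Q hQcard e he hep
  obtain ⟨hTX, hεT, hXq, ht2, hY⟩ := step1 hG H.hq H.hcard H.hqg H.hg he2 c
  have hYne : c.Y.Nonempty := by
    rw [← Set.nonempty_coe_sort]
    have h1 : 0 < Nat.card c.Y := by
      rcases Nat.eq_zero_or_pos (Nat.card c.Y) with h | h
      · have := c.hYc
        rw [h, zero_mul] at this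
        omega
      · exact h
    exact (Nat.card_pos_iff.1 h1).1
  obtain ⟨θ, hθ⟩ := hYne
  obtain ⟨hne, hqd, hdg, -⟩ := hY θ hθ
  have hle := Nat.le_of_dvd H.g_pos hdg
  have hmem : θ ∈ principalBlock c.M G := by rw [c.hblock]; exact Or.inr hθ
  have hC := Cfsg.Agent.Lib.Helper8.BZ.centralizer_isPGroup p c.M c.hM hperf c.P θ
    hmem (D1.faithful_of_ne_triv θ hne) (by have := H.hg; omega)
  rw [hcP] at hC
  -- the order of the centralizer
  obtain ⟨j, hj⟩ := (IsPGroup.iff_card.1 hC)
  rw [hc'] at hj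
  have hQC : (Q : Subgroup G) ≤ Subgroup.centralizer ((Q : Subgroup G) : Set G) := by
    have hcyc : IsCyclic (Q : Subgroup G) := isCyclic_of_prime_card hQcard
    have hcomm : IsMulCommutative (Q : Subgroup G) :=
      ⟨⟨fun a b => hcyc.commGroup.mul_comm a b⟩⟩
    exact Cfsg.Agent.Lib.Helper3.le_centralizer_of_isMulCommutative (Q : Subgroup G)
  have hpc : p ∣ c' := by
    have h1 := Subgroup.card_dvd_of_le hQC
    rw [hc'] at h1
    have h2 : Nat.card (Q : Subgroup G) = p := hQcard
    rwa [h2] at h1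
  have hcG : c' ∣ p * (q ^ b * g) := by
    rw [← hcard', ← hc']
    exact Subgroup.card_subgroup_dvd_card _
  have hj1 : j = 1 := by
    rcases Nat.lt_or_ge j 2 with h | h
    · rcases Nat.eq_zero_or_pos j with h0 | h0
      · rw [h0, pow_zero] at hj
        rw [hj] at hpc
        have := Nat.le_of_dvd (by norm_num) hpc
        omega
      · omega
    · exfalso
      have h1 : p ^ 2 ∣ c' := by
        rw [hj]
        exact pow_dvd_pow p h
      have h2 : p ^ 2 ∣ p * (q ^ b * g) := dvd_trans h1 hcG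
      rw [pow_two] at h2
      exact H.not_dvd (Nat.dvd_of_mul_dvd_mul_left hpp.pos h2)
  rw [hj1, pow_one] at hj
  have hke : k = e := by
    rw [hj] at hce
    exact (Nat.eq_of_mul_eq_mul_left hpp.pos hce).symm
  refine ⟨hQcard, ?_, e, n, he2, hep, by rw [hN, hke], he, hn, by rw [← hnk, hke], hmod⟩
  exact (Subgroup.eq_of_le_of_card_ge hQC (by rw [hc', hj, hQcard])).symm

end

end Cfsg.Agent.Lib.Helper6.BT
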