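import Mathlib
import Cfsg.Agent.Lib.Helper6.BT2

/-!
# Brauer–Tuan: the context (self-centralizing Sylow `p`-subgroup, principal `p`-block)
-/

set_option autoImplicit false
set_option maxHeartbeats 1600000
set_option linter.unusedSectionVars false
set_option linter.unusedVariables false

namespace Cfsg.Agent.Lib.Helper6.BT

open Cfsg Cfsg.Agent.Lib.Helper8 Cfsg.Agent.Lib.Helper6.OrdB Cfsg.Agent.Lib.Helper6.OrdK
  Cfsg.Agent.Lib.Helper6.OrdH
open scoped ComplexConjugate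

universe u

/-- the data used in the proof of the theorem of Brauer and Tuan -/
structure Ctx (G : Type u) [Group G] [Fintype G] (p q b g e n : ℕ) where
  c : TI G p e
  hTX : trivIrr G ∈ c.X
  hεT : c.εX (trivIrr G) = 1
  hXdeg : ∀ χ ∈ c.X, (charDegree χ.1 : ℤ) ≡ c.εX χ [ZMOD p]
  hXq : ∀ χ ∈ c.X, χ ≠ trivIrr G → q ∣ charDegree χ.1
  ht2 : 2 * e ≤ p - 1
  he2 : 2 ≤ e
  hep : e ∣ p - 1
  hY : ∀ θ ∈ c.Y, θ ≠ trivIrr G ∧ ¬ q ∣ charDegree θ.1 ∧ charDegree θ.1 ∣ g ∧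
      ((c.ε = 1 ∧ charDegree θ.1 = e) ∨ (c.ε = -1 ∧ charDegree θ.1 + e = p))
  hn : Nat.card (Sylow p G) = n
  hne : n * e = q ^ b * g
  hnp : n % p = 1

section

variable {G : Type u} [Group G] [Fintype G] [IsSimpleGroup G]

theorem exists_ctx (hG : ¬ IsMulCommutative G) {p q b g : ℕ} [hp : Fact p.Prime]
    (H : Hyp G p q b g) : ∃ e n : ℕ, Nonempty (Ctx G p q b g e n) := by
  classical
  obtain ⟨P⟩ : Nonempty (Sylow p G) := inferInstance
  obtain ⟨hPcard, hCP, e, n, he2, hep, hN, he, hn, hne, hnp⟩ := sylow_data hG H P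
  obtain ⟨c0, hcP⟩ := exists_D1 p P hPcard e he hep
  obtain ⟨hTX, hεT, hXq, ht2, hY⟩ := step1 hG H.hq H.hcard H.hqg H.hg he2 c0
  have hS : ∀ Q : Sylow p G, Nat.card Q = p ∧
      Subgroup.centralizer ((Q : Subgroup G) : Set G) = (Q : Subgroup G) := by
    intro Q
    obtain ⟨h1, h2, -⟩ := sylow_data hG H Q
    exact ⟨h1, h2⟩
  refine ⟨e, n, ⟨{
    c := { P := c0.P, x := c0.x, X := c0.X, Y := c0.Y, εX := c0.εX, ε := c0.ε, hS := hS,
           hN := by rw [hcP]; exact hN, hx := c0.hx, hPx := c0.hPx, hdisj := c0.hdisj,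
           hXc := c0.hXc, hYc := c0.hYc, hεX := c0.hεX,
           hval := fun χ hχ s hs hs1 => by
             have := c0.hval χ hχ s hs hs1 1 (Subgroup.one_mem _) c0.one_reg
             rwa [mul_one] at this
           hε := c0.hε, hYagree := c0.hYagree, hYsum := c0.hYsum }
    hTX := hTX, hεT := hεT, hXdeg := c0.hXdeg, hXq := hXq, ht2 := ht2, he2 := he2, hep := hep,
    hY := hY, hn := hn, hne := hne, hnp := hnp }⟩⟩

end

namespace Ctx

variable {G : Type u} [Group G] [Fintype G] {p q b g e n : ℕ} [hp : Fact p.Prime]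
  (K : Ctx G p q b g e n)

theorem Y_nonempty : K.c.Y.Nonempty := by
  rw [← Set.nonempty_coe_sort]
  have h1 : 0 < Nat.card K.c.Y := by
    rcases Nat.eq_zero_or_pos (Nat.card K.c.Y) with h | h
    · have := K.c.hYc
      rw [h, zero_mul] at this
      have := hp.1.two_le
      omega
    · exact h
  exact (Nat.card_pos_iff.1 h1).1

/-- the degree equation -/
theorem deg_eq [Fintype (IrrCharacter G)] {θ : IrrCharacter G} (hθ : θ ∈ K.c.Y) :
    K.c.ε * (charDegree θ.1 : ℤ) =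
      1 + ∑ χ ∈ K.c.Xf.erase (trivIrr G), K.c.εX χ * (charDegree χ.1 : ℤ) := by
  have h1reg : ¬ p ∣ orderOf (1 : G) := by
    rw [orderOf_one]
    exact fun h => hp.1.one_lt.ne' (Nat.dvd_one.1 h)
  have h1 := K.c.hYsum θ hθ 1 h1reg
  rw [K.c.finsum_X, apply_one θ] at h1
  have h2 : ((K.c.ε * (charDegree θ.1 : ℤ) : ℤ) : ℂ) =
      ((∑ χ ∈ K.c.Xf, K.c.εX χ * (charDegree χ.1 : ℤ) : ℤ) : ℂ) := by
    push_cast
    rw [h1]
    refine Finset.sum_congr rfl fun χ _ => ?_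
    rw [apply_one χ]
  have h3 : K.c.ε * (charDegree θ.1 : ℤ) = ∑ χ ∈ K.c.Xf, K.c.εX χ * (charDegree χ.1 : ℤ) := by
    exact_mod_cast h2
  rw [h3, ← Finset.add_sum_erase K.c.Xf _ (K.c.mem_Xf.2 K.hTX), charDegree_trivIrr, K.hεT]
  simp

end Ctx

end Cfsg.Agent.Lib.Helper6.BT
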