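import Mathlib
import Cfsg.Agent.Lib.Helper6.BT3
import Cfsg.Agent.Lib.Helper1.O7920a
import Cfsg.Agent.Lib.Helper1.CharFound8

/-!
# Brauer–Tuan: the case `ε = 1` (exceptional characters of degree `e`)
-/

set_option autoImplicit false
set_option maxHeartbeats 1600000
set_option linter.unusedSectionVars false
set_option linter.unusedVariables false

namespace Cfsg.Agent.Lib.Helper6.BT

open Cfsg Cfsg.Agent.Lib.Helper8 Cfsg.Agent.Lib.Helper6.OrdB Cfsg.Agent.Lib.Helper6.OrdK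
  Cfsg.Agent.Lib.Helper6.OrdH Cfsg.Agent.Lib.Helper1 Cfsg.Agent.Lib.Helper4
open scoped ComplexConjugate

universe u

/-- the arithmetic behind `t = 2` -/
theorem arith_A1 {t e A p : ℕ} (ht : 2 ≤ t) (he : 2 ≤ e) (hp : p = t * e + 1)
    (h1 : (e : ℤ) * ((p : ℤ) - e) ≤ ((p : ℤ) - 1) * (1 + A))
    (h2 : 1 + (p + 1) * A ≤ e ^ 2) : t = 2 ∧ 2 * A + 1 = e := by
  have hpz : (p : ℤ) = t * e + 1 := by exact_mod_cast hp
  have h2z : (1 : ℤ) + ((p : ℤ) + 1) * A ≤ (e : ℤ) ^ 2 := by exact_mod_cast h2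
  rw [hpz] at h1 h2z
  have he0 : (0 : ℤ) < e := by exact_mod_cast (by omega : 0 < e)
  have he1 : (0 : ℤ) < (e : ℤ) - 1 := by
    have : (2 : ℤ) ≤ e := by exact_mod_cast he
    omega
  have ht2 : (2 : ℤ) ≤ t := by exact_mod_cast ht
  -- `t e + 1 - e ≤ t (1 + A)`
  have h1' : (t : ℤ) * e + 1 - e ≤ (t : ℤ) * (1 + A) := by
    have h3 : (e : ℤ) * ((t : ℤ) * e + 1 - e) ≤ (e : ℤ) * ((t : ℤ) * (1 + A)) := by
      calc (e : ℤ) * ((t : ℤ) * e + 1 - e) ≤ ((t : ℤ) * e + 1 - 1) * (1 + A) := h1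
        _ = (e : ℤ) * ((t : ℤ) * (1 + A)) := by ring
    exact le_of_mul_le_mul_left h3 he0
  have h1'' : ((t : ℤ) - 1) * ((e : ℤ) - 1) ≤ (t : ℤ) * A := by linarith
  have hA0 : (0 : ℤ) ≤ A := by positivity
  have hte : (0 : ℤ) ≤ (t : ℤ) * e + 2 := by positivity
  have h3 : ((t : ℤ) * e + 2) * (((t : ℤ) - 1) * ((e : ℤ) - 1)) ≤
      (t : ℤ) * (((e : ℤ) - 1) * ((e : ℤ) + 1)) := by
    calc ((t : ℤ) * e + 2) * (((t : ℤ) - 1) * ((e : ℤ) - 1))
        ≤ ((t : ℤ) * e + 2) * ((t : ℤ) * A) := mul_le_mul_of_nonneg_left h1'' hte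
      _ = (t : ℤ) * (((t : ℤ) * e + 1 + 1) * A) := by ring
      _ ≤ (t : ℤ) * ((e : ℤ) ^ 2 - 1) := by
          apply mul_le_mul_of_nonneg_left _ (by positivity)
          linarith
      _ = (t : ℤ) * (((e : ℤ) - 1) * ((e : ℤ) + 1)) := by ring
  have h4 : ((t : ℤ) * e + 2) * ((t : ℤ) - 1) ≤ (t : ℤ) * ((e : ℤ) + 1) := by
    have h5 : ((e : ℤ) - 1) * (((t : ℤ) * e + 2) * ((t : ℤ) - 1)) ≤
        ((e : ℤ) - 1) * ((t : ℤ) * ((e : ℤ) + 1)) := by
      calc ((e : ℤ) - 1) * (((t : ℤ) * e + 2) * ((t : ℤ) - 1))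
          = ((t : ℤ) * e + 2) * (((t : ℤ) - 1) * ((e : ℤ) - 1)) := by ring
        _ ≤ (t : ℤ) * (((e : ℤ) - 1) * ((e : ℤ) + 1)) := h3
        _ = ((e : ℤ) - 1) * ((t : ℤ) * ((e : ℤ) + 1)) := by ring
    exact le_of_mul_le_mul_left h5 he1
  have h5 : ((t : ℤ) - 2) * ((t : ℤ) * e + 1) ≤ 0 := by linarith
  have ht2' : (t : ℤ) = 2 := by
    by_contra hne
    have h6 : (1 : ℤ) ≤ (t : ℤ) - 2 := by omega
    have h7 : (0 : ℤ) < (t : ℤ) * e + 1 := by positivity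
    have h8 : (1 : ℤ) * ((t : ℤ) * e + 1) ≤ ((t : ℤ) - 2) * ((t : ℤ) * e + 1) :=
      mul_le_mul_of_nonneg_right h6 h7.le
    linarith
  have ht2n : t = 2 := by exact_mod_cast ht2'
  refine ⟨ht2n, ?_⟩
  rw [ht2'] at h1'' h2z
  -- `e - 1 ≤ 2 A` and `2 A (e + 1) ≤ (e - 1) (e + 1)`
  have h6 : (2 : ℤ) * A ≤ (e : ℤ) - 1 := by
    have h7 : ((e : ℤ) + 1) * ((2 : ℤ) * A) ≤ ((e : ℤ) + 1) * ((e : ℤ) - 1) := by
      have : ((e : ℤ) + 1) * ((2 : ℤ) * A) = ((2 : ℤ) * e + 1 + 1) * A := by ring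
      rw [this]
      have : ((e : ℤ) + 1) * ((e : ℤ) - 1) = (e : ℤ) ^ 2 - 1 := by ring
      rw [this]
      linarith
    exact le_of_mul_le_mul_left h7 (by linarith)
  have h7 : (2 : ℤ) * A + 1 = e := by linarith
  exact_mod_cast h7

namespace Ctx

variable {G : Type u} [Group G] [Fintype G] {p q b g e n : ℕ} [hp : Fact p.Prime]
  (K : Ctx G p q b g e n)

/-- the sum of a non-exceptional character over `P#` -/
theorem sum_S_X {χ : IrrCharacter G} (hχ : χ ∈ K.c.X) :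
    ∑ s ∈ K.c.S, χ.1 s = ((p : ℂ) - 1) * (K.c.εX χ : ℂ) := by
  have h : ∀ s ∈ K.c.S, χ.1 s = (K.c.εX χ : ℂ) := fun s hs =>
    K.c.hval χ hχ s (K.c.mem_S.1 hs).1 (K.c.mem_S.1 hs).2
  rw [Finset.sum_congr rfl h, Finset.sum_const, K.c.card_S, nsmul_eq_mul,
    Nat.cast_sub hp.1.one_lt.le]
  simp

/-- non-trivial non-exceptional characters of positive sign have degree at least `p + 1` -/
theorem plus_deg_ge [IsSimpleGroup G] (hG : ¬ IsMulCommutative G) {χ : IrrCharacter G}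
    (hχ : χ ∈ K.c.X) (hne : χ ≠ trivIrr G) (h1 : K.c.εX χ = 1) : p + 1 ≤ charDegree χ.1 := by
  have hperf := commutator_eq_top hG
  have hd1 : charDegree χ.1 ≠ 1 := fun h => hne (eq_trivIrr_of_charDegree_eq_one hperf χ h)
  have hpos := charDegree_pos χ
  have hmod := K.hXdeg χ hχ
  rw [h1] at hmod
  obtain ⟨k, hk⟩ := (Int.modEq_iff_dvd.1 hmod)
  have hk0 : k ≤ -1 := by
    by_contra hk0
    push Not at hk0
    have : 0 ≤ (p : ℤ) * k := mul_nonneg (by positivity) (by omega)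
    omega
  have : (p : ℤ) * k ≤ (p : ℤ) * (-1) := mul_le_mul_of_nonneg_left hk0 (by positivity)
  omega

/-- **Case A1.** If the exceptional characters have degree `e`, then `p - 1 = 2 e`, `e` is odd and
some non-exceptional character has degree `p + 1`. -/
theorem A1_main [IsSimpleGroup G] (hG : ¬ IsMulCommutative G) (hε : K.c.ε = 1) :
    p - 1 = 2 * e ∧ e % 2 = 1 ∧
      ∃ χ ∈ K.c.X, K.c.εX χ = 1 ∧ charDegree χ.1 = p + 1 := by
  classical
  have : Fintype (IrrCharacter G) := Fintype.ofFinite _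
  have hpp := hp.1
  obtain ⟨θ, hθ⟩ := K.Y_nonempty
  have hdeg : charDegree θ.1 = e := by
    rcases (K.hY θ hθ).2.2.2 with h | h
    · exact h.2
    · exfalso
      have := h.1
      rw [hε] at this
      norm_num at this
  have hfchar : IsCharacter G (fun g => θ.1 g * conj (θ.1 g)) :=
    O7920.isCharacter_mul (isCharacter_of_irr θ.2) (isCharacter_of_irr (isIrrCharacter_conj θ.2))
  have hm : ∀ ψ : IrrCharacter G, ∃ m : ℕ,
      classInner (fun g => θ.1 g * conj (θ.1 g)) ψ.1 = m :=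
    fun ψ => classInner_char_irr_nat hfchar ψ.2
  choose m hm using hm
  have hexp := class_function_expansion _ (isClassFunction_of_isCharacter hfchar)
  have hfg : ∀ g : G, θ.1 g * conj (θ.1 g) = ∑ ψ : IrrCharacter G, (m ψ : ℂ) * ψ.1 g := by
    intro g
    have h1 := congrFun hexp g
    rw [Finset.sum_apply] at h1
    simp only [Pi.smul_apply, smul_eq_mul] at h1
    rw [h1]
    refine Finset.sum_congr rfl fun ψ _ => ?_
    rw [hm]
  -- the multiplicity of the trivial character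
  have hmt : m (trivIrr G) = 1 := by
    have h1 := hm (trivIrr G)
    rw [classInner_def] at h1
    have h2 := classInner_irr_self θ.2
    rw [classInner_def] at h2
    have h3 : ∑ g : G, (fun g => θ.1 g * conj (θ.1 g)) g * conj ((trivIrr G).1 g) =
        ∑ g : G, θ.1 g * conj (θ.1 g) := by
      refine Finset.sum_congr rfl fun g _ => ?_
      rw [trivIrr_apply]
      simp
    rw [h3, h2] at h1
    exact_mod_cast h1.symm
  -- (I) the degree equation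
  have hI : e ^ 2 = ∑ ψ : IrrCharacter G, m ψ * charDegree ψ.1 := by
    have h1 := hfg 1
    rw [apply_one θ, hdeg] at h1
    simp only [map_natCast] at h1
    have h2 : ((e ^ 2 : ℕ) : ℂ) = ((∑ ψ : IrrCharacter G, m ψ * charDegree ψ.1 : ℕ) : ℂ) := by
      push_cast
      rw [pow_two, h1]
      refine Finset.sum_congr rfl fun ψ _ => ?_
      rw [apply_one ψ]
    exact_mod_cast h2
  -- (II) the sum over `P#`
  have hII : (e : ℤ) * ((p : ℤ) - e) =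
      ((p : ℤ) - 1) * ∑ χ ∈ K.c.Xf, K.c.εX χ * (m χ : ℤ) -
        (e : ℤ) * ∑ θ' ∈ K.c.Yf, (m θ' : ℤ) := by
    have h1 := (K.c.sums_exc hθ).2
    have h2 : ∑ s ∈ K.c.S, θ.1 s * conj (θ.1 s) =
        ∑ ψ : IrrCharacter G, (m ψ : ℂ) * ∑ s ∈ K.c.S, ψ.1 s := by
      rw [Finset.sum_congr rfl (fun s _ => hfg s), Finset.sum_comm]
      refine Finset.sum_congr rfl fun ψ _ => ?_
      rw [Finset.mul_sum]
    rw [h2, K.c.sum_block (fun ψ => (m ψ : ℂ) * ∑ s ∈ K.c.S, ψ.1 s)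
      (fun ψ h2 h3 => by
        rw [Finset.sum_eq_zero (fun s hs => K.c.vanish_off_block h2 h3 hs), mul_zero])] at h1
    have h3 : ∑ χ ∈ K.c.Xf, (m χ : ℂ) * ∑ s ∈ K.c.S, χ.1 s =
        ((p : ℂ) - 1) * ∑ χ ∈ K.c.Xf, (K.c.εX χ : ℂ) * (m χ : ℂ) := by
      rw [Finset.mul_sum]
      refine Finset.sum_congr rfl fun χ hχ => ?_
      rw [K.sum_S_X (K.c.mem_Xf.1 hχ)]
      ring
    have h4 : ∑ θ' ∈ K.c.Yf, (m θ' : ℂ) * ∑ s ∈ K.c.S, θ'.1 s =
        -(e : ℂ) * ∑ θ' ∈ K.c.Yf, (m θ' : ℂ) := by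
      rw [Finset.mul_sum]
      refine Finset.sum_congr rfl fun θ' hθ' => ?_
      rw [(K.c.sums_exc (K.c.mem_Yf.1 hθ')).1, hε]
      push_cast
      ring
    rw [h3, h4] at h1
    have h5 : (((e : ℤ) * ((p : ℤ) - e) : ℤ) : ℂ) =
        ((((p : ℤ) - 1) * ∑ χ ∈ K.c.Xf, K.c.εX χ * (m χ : ℤ) -
          (e : ℤ) * ∑ θ' ∈ K.c.Yf, (m θ' : ℤ) : ℤ) : ℂ) := by
      push_cast
      rw [← h1]
      ring
    exact_mod_cast h5
  -- the set `A`
  set A : Finset (IrrCharacter G) :=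
    (K.c.Xf.erase (trivIrr G)).filter (fun χ => K.c.εX χ = 1) with hA
  have hAmem : ∀ χ ∈ A, χ ∈ K.c.X ∧ χ ≠ trivIrr G ∧ K.c.εX χ = 1 := by
    intro χ hχ
    rw [hA, Finset.mem_filter, Finset.mem_erase] at hχ
    exact ⟨K.c.mem_Xf.1 hχ.1.2, hχ.1.1, hχ.2⟩
  -- (a)
  have ha : ∑ χ ∈ K.c.Xf, K.c.εX χ * (m χ : ℤ) ≤ 1 + ((∑ χ ∈ A, m χ : ℕ) : ℤ) := by
    rw [← Finset.add_sum_erase K.c.Xf _ (K.c.mem_Xf.2 K.hTX), K.hεT, hmt]
    have h1 : ∑ χ ∈ K.c.Xf.erase (trivIrr G), K.c.εX χ * (m χ : ℤ) ≤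
        ∑ χ ∈ K.c.Xf.erase (trivIrr G), (if K.c.εX χ = 1 then (m χ : ℤ) else 0) := by
      refine Finset.sum_le_sum fun χ hχ => ?_
      rw [Finset.mem_erase] at hχ
      rcases K.c.hεX χ (K.c.mem_Xf.1 hχ.2) with h | h
      · rw [if_pos h, h, one_mul]
      · rw [if_neg (by rw [h]; norm_num), h]
        have : (0 : ℤ) ≤ (m χ : ℤ) := by positivity
        linarith
    rw [← Finset.sum_filter] at h1
    push_cast
    linarith
  -- (b)
  have hb : 1 + ∑ χ ∈ A, m χ * charDegree χ.1 ≤ e ^ 2 := by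
    rw [hI]
    have h1 : ∑ χ ∈ K.c.Xf, m χ * charDegree χ.1 ≤ ∑ ψ : IrrCharacter G, m ψ * charDegree ψ.1 :=
      Finset.sum_le_sum_of_subset (Finset.subset_univ _)
    rw [← Finset.add_sum_erase K.c.Xf _ (K.c.mem_Xf.2 K.hTX), hmt, charDegree_trivIrr] at h1
    have h2 : ∑ χ ∈ A, m χ * charDegree χ.1 ≤
        ∑ χ ∈ K.c.Xf.erase (trivIrr G), m χ * charDegree χ.1 :=
      Finset.sum_le_sum_of_subset (Finset.filter_subset _ _)
    omega
  have hb' : 1 + (p + 1) * ∑ χ ∈ A, m χ ≤ e ^ 2 := by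
    have h1 : (p + 1) * ∑ χ ∈ A, m χ ≤ ∑ χ ∈ A, m χ * charDegree χ.1 := by
      rw [Finset.mul_sum]
      refine Finset.sum_le_sum fun χ hχ => ?_
      obtain ⟨h1, h2, h3⟩ := hAmem χ hχ
      have := K.plus_deg_ge hG h1 h2 h3
      rw [mul_comm]
      exact Nat.mul_le_mul_left _ this
    omega
  -- `t`
  have hYf := K.c.card_Yf
  have ht2 : 2 ≤ K.c.Yf.card := by
    by_contra hlt
    push Not at hlt
    have h1 : K.c.Yf.card * e ≤ 1 * e := Nat.mul_le_mul_right e (by omega)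
    rw [hYf, one_mul] at h1
    have := K.ht2
    have := K.he2
    omega
  have hpt : p = K.c.Yf.card * e + 1 := by
    have := hpp.two_le
    omega
  have h1 : (e : ℤ) * ((p : ℤ) - e) ≤ ((p : ℤ) - 1) * (1 + ((∑ χ ∈ A, m χ : ℕ) : ℤ)) := by
    rw [hII]
    have h2 : (0 : ℤ) ≤ (e : ℤ) * ∑ θ' ∈ K.c.Yf, (m θ' : ℤ) := by positivity
    have h3 : (0 : ℤ) ≤ (p : ℤ) - 1 := by
      have : (2 : ℤ) ≤ p := by exact_mod_cast hpp.two_le
      linarith
    have := mul_le_mul_of_nonneg_left ha h3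
    linarith
  obtain ⟨ht, hAe⟩ := arith_A1 ht2 K.he2 hpt h1 hb'
  rw [ht] at hpt
  refine ⟨by omega, by omega, ?_⟩
  -- a character of degree `p + 1`
  by_contra hno
  push Not at hno
  have h3 : (p + 2) * ∑ χ ∈ A, m χ ≤ ∑ χ ∈ A, m χ * charDegree χ.1 := by
    rw [Finset.mul_sum]
    refine Finset.sum_le_sum fun χ hχ => ?_
    obtain ⟨h1, h2, h3⟩ := hAmem χ hχ
    have h4 := K.plus_deg_ge hG h1 h2 h3
    have h5 := hno χ h1 h3
    rw [mul_comm]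
    exact Nat.mul_le_mul_left _ (by omega)
  have he2 := K.he2
  have hA1 : 1 ≤ ∑ χ ∈ A, m χ := by omega
  have h4 : e ^ 2 = 1 + (p + 1) * ∑ χ ∈ A, m χ := by
    have : e = 2 * (∑ χ ∈ A, m χ) + 1 := hAe.symm
    rw [hpt]
    generalize (∑ χ ∈ A, m χ) = a at this
    subst this
    ring
  have h5 : (p + 2) * ∑ χ ∈ A, m χ = (p + 1) * ∑ χ ∈ A, m χ + ∑ χ ∈ A, m χ := by ring
  omega

end Ctx

end Cfsg.Agent.Lib.Helper6.BT
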