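import Mathlib
import Cfsg.Agent.Lib.Helper6.BT4
import Cfsg.Agent.Lib.Helper8.BlockOrth2
import Cfsg.Agent.Lib.Helper8.BlockUnion
import Cfsg.Agent.Lib.Helper8.TildeBlock
import Cfsg.Agent.S0138
import Cfsg.Agent.S0142
import Cfsg.Agent.S0143
import Cfsg.Agent.S0146
import Cfsg.Agent.S0148

/-!
# Brauer–Tuan: tools for the principal `q`-block
-/

set_option autoImplicit false
set_option maxHeartbeats 1600000
set_option linter.unusedSectionVars false
set_option linter.unusedVariables false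

namespace Cfsg.Agent.Lib.Helper6.BT

open Cfsg Cfsg.Agent.Lib.Helper8 Cfsg.Agent.Lib.Helper6.OrdB Cfsg.Agent.Lib.Helper6.OrdK
  Cfsg.Agent.Lib.Helper6.OrdH Cfsg.Agent.Lib.Helper1 Cfsg.Agent.Lib.Helper4
open scoped ComplexConjugate

universe u

section

variable {G : Type u} [Group G] [Fintype G]

/-- the average of an irreducible character over a subgroup is a natural number -/
theorem nat_avg (H : Subgroup G) [Fintype H] (χ : IrrCharacter G) :
    ∃ c : ℕ, (c : ℂ) = (Nat.card H : ℂ)⁻¹ * ∑ h : H, (χ : G → ℂ) (h : G) := by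
  have hchar : IsCharacter G (indFun H (fun _ => (1 : ℂ))) := by
    apply Cfsg.Agent.S0148.result
    have : (fun _ : H => (1 : ℂ)) = (trivIrr H : H → ℂ) := by
      funext h
      rw [trivIrr_apply]
    rw [this]
    exact isCharacter_of_irr (trivIrr H).2
  obtain ⟨c, h⟩ := classInner_char_irr_nat hchar χ.2
  refine ⟨c, ?_⟩
  rw [Cfsg.Agent.S0146.result H _ _ (isClassFunction_irr χ.2)] at h
  unfold classInner at h
  have h2 := congrArg conj h
  rw [map_mul, map_inv₀, map_natCast, map_natCast, map_sum] at h2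
  rw [← h2]
  congr 1
  refine Finset.sum_congr rfl fun k _ => ?_
  rw [map_mul, map_one, one_mul, Complex.conj_conj]

open Classical in
/-- **Block orthogonality, summed over a `q`-subgroup.** -/
theorem block_sum_subgroup {q : ℕ} {M : Ideal AlgInt} (hM : IsPModular q M)
    {B : Set (IrrCharacter G)} (hB : IsPBlock M B) {x : G} (hx : ¬ q ∣ orderOf x)
    (Q : Subgroup G) [Fintype Q] (hQ : IsPGroup q Q) [Fintype (IrrCharacter G)]
    (c : IrrCharacter G → ℕ)
    (hc : ∀ χ : IrrCharacter G, (c χ : ℂ) = (Nat.card Q : ℂ)⁻¹ * ∑ h : Q, χ.1 (h : G)) :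
    ∑ χ : IrrCharacter G, (if χ ∈ B then (1 : ℂ) else 0) * (χ.1 x * (charDegree χ.1 : ℂ)) =
      (Nat.card Q : ℂ) *
        ∑ χ : IrrCharacter G, (if χ ∈ B then (1 : ℂ) else 0) * (χ.1 x * (c χ : ℂ)) := by
  have hq := hM.1
  have hQ0 : (Nat.card Q : ℂ) ≠ 0 := Nat.cast_ne_zero.2 Nat.card_pos.ne'
  have hF : ∀ h : Q, ∑ᶠ χ ∈ B, (χ : G → ℂ) x * conj ((χ : G → ℂ) (h : G)) =
      ∑ χ : IrrCharacter G, (if χ ∈ B then (1 : ℂ) else 0) * (χ.1 x * conj (χ.1 (h : G))) := by
    intro h
    rw [finsum_mem_eq_sum_indicator]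
  have hzero : ∀ h : Q, h ≠ 1 →
      ∑ᶠ χ ∈ B, (χ : G → ℂ) x * conj ((χ : G → ℂ) (h : G)) = 0 := by
    intro h hh
    apply finsum_block_mul_conj_eq_zero hM hB hx
    obtain ⟨k, hk⟩ := hQ h
    have hk' : (h : G) ^ q ^ k = 1 := by
      have := congrArg (fun t : Q => (t : G)) hk
      simpa using this
    have hdvd := orderOf_dvd_of_pow_eq_one hk'
    obtain ⟨j, hj, hjk⟩ := (Nat.dvd_prime_pow hq).1 hdvd
    rcases Nat.eq_zero_or_pos j with h0 | h0
    · exfalso
      rw [h0, pow_zero, orderOf_eq_one_iff] at hjk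
      exact hh (Subtype.ext hjk)
    · rw [hjk]
      exact dvd_pow_self q (by omega)
  have h1 : ∑ h : Q, ∑ᶠ χ ∈ B, (χ : G → ℂ) x * conj ((χ : G → ℂ) (h : G)) =
      ∑ᶠ χ ∈ B, (χ : G → ℂ) x * conj ((χ : G → ℂ) ((1 : Q) : G)) := by
    rw [← Finset.add_sum_erase Finset.univ _ (Finset.mem_univ (1 : Q))]
    rw [Finset.sum_eq_zero (fun h hh => hzero h (Finset.ne_of_mem_erase hh)), add_zero]
  rw [Finset.sum_congr rfl (fun h _ => hF h), hF 1, Finset.sum_comm] at h1
  have h2 : ∀ χ : IrrCharacter G,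
      ∑ h : Q, (if χ ∈ B then (1 : ℂ) else 0) * (χ.1 x * conj (χ.1 (h : G))) =
        (Nat.card Q : ℂ) * ((if χ ∈ B then (1 : ℂ) else 0) * (χ.1 x * (c χ : ℂ))) := by
    intro χ
    rw [← Finset.mul_sum, ← Finset.mul_sum, ← map_sum]
    have h3 : ∑ h : Q, χ.1 (h : G) = (Nat.card Q : ℂ) * (c χ : ℂ) := by
      rw [hc χ]
      field_simp
    rw [h3, map_mul, map_natCast, map_natCast]
    ring
  rw [Finset.sum_congr rfl (fun χ _ => h2 χ), ← Finset.mul_sum] at h1
  rw [h1]
  refine Finset.sum_congr rfl fun χ _ => ?_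
  rw [Subgroup.coe_one, apply_one χ, map_natCast]

/-- In a non-abelian simple group a non-trivial irreducible character whose degree is a power of
`q` does not lie in the principal `q`-block. -/
theorem not_mem_principalBlock_of_deg_pow [IsSimpleGroup G] (hG : ¬ IsMulCommutative G)
    {q a : ℕ} [hq : Fact q.Prime] {M : Ideal AlgInt} (hM : IsPModular q M)
    (χ : IrrCharacter G) (hne : χ ≠ trivIrr G) (ha : 1 ≤ a) (hdeg : charDegree χ.1 = q ^ a) :
    χ ∉ principalBlock M G := by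
  classical
  intro hmem
  have hdvd : q ∣ Nat.card G :=
    dvd_trans (dvd_pow_self q (by omega)) (hdeg ▸ charDegree_dvd χ)
  obtain ⟨Q⟩ : Nonempty (Sylow q G) := inferInstance
  have hQbot : (Q : Subgroup G) ≠ ⊥ := Sylow.ne_bot_of_dvd_card Q hdvd
  have hQnt : Nontrivial (Q : Subgroup G) := (Subgroup.nontrivial_iff_ne_bot _).2 hQbot
  have hcnt : Nontrivial (Subgroup.center (Q : Subgroup G)) :=
    (Q.2 : IsPGroup q (Q : Subgroup G)).center_nontrivial
  obtain ⟨z, hz1⟩ := exists_ne (1 : Subgroup.center (Q : Subgroup G))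
  have hy1 : ((z : (Q : Subgroup G)) : G) ≠ 1 := by
    intro h
    apply hz1
    apply Subtype.ext
    apply Subtype.ext
    exact h
  set y : G := ((z : (Q : Subgroup G)) : G) with hy
  have hQC : (Q : Subgroup G) ≤ Subgroup.centralizer ({y} : Set G) := by
    intro t ht
    rw [Subgroup.mem_centralizer_iff]
    intro w hw
    rw [Set.mem_singleton_iff.1 hw]
    have h1 := Subgroup.mem_center_iff.1 z.2 ⟨t, ht⟩
    have h2 := congrArg (fun t : (Q : Subgroup G) => (t : G)) h1
    simp only [Subgroup.coe_mul] at h2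
    exact h2.symm
  have hidx : ¬ q ∣ (Subgroup.centralizer ({y} : Set G)).index := by
    intro h
    exact Q.not_dvd_index (dvd_trans h (Subgroup.index_dvd_of_le hQC))
  obtain ⟨n, ρ, hirr, hρ, hn⟩ := exists_rep χ
  have hcop : Nat.Coprime (Module.finrank ℂ (Fin n → ℂ))
      (Subgroup.centralizer ({y} : Set G)).index := by
    rw [Module.finrank_fin_fun, hn, hdeg]
    exact Nat.Coprime.pow_left a ((Nat.Prime.coprime_iff_not_dvd hq.1).2 hidx)
  have hχy : χ.1 y = 0 := by
    have := hirr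
    rcases Cfsg.Agent.S0142.result ρ y hcop with h0 | hnorm
    · rw [← hρ]
      exact h0
    · exfalso
      obtain ⟨ω, hω⟩ := (Cfsg.Agent.S0138.result ρ y).1 hnorm
      refine Cfsg.Agent.S0143.not_scalar (fun h => hG ⟨⟨h⟩⟩) n ρ hirr ?_ y hy1 ω hω
      rw [hρ]
      intro h
      apply hne
      apply Subtype.ext
      rw [h]
      funext g
      rw [trivIrr_apply]
  have hsb : SameBlock M (fun _ : G => (1 : ℂ)) χ.1 := hmem
  have h1 := hsb y
  unfold centralChar at h1
  rw [hχy, mul_zero, zero_div, sub_zero, mul_one, div_one] at h1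
  exact hidx ((memLocalIdeal_natCast_iff hM _).1 h1)

end

end Cfsg.Agent.Lib.Helper6.BT
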