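import Mathlib
import Cfsg.Agent.Lib.Helper6.OrdH2

/-!
# Self-centralizing Sylow subgroups of prime order: involutions of the normalizer
-/

set_option autoImplicit false
set_option maxHeartbeats 1600000
set_option linter.unusedSectionVars false

namespace Cfsg.Agent.Lib.Helper6.OrdH

open Cfsg Cfsg.Agent.Lib.Helper8 Cfsg.Agent.Lib.Helper6.OrdB Cfsg.Agent.Lib.Helper6.OrdF
open scoped ComplexConjugate

universe u

namespace TI

variable {G : Type u} [Group G] [Fintype G] {p e : ℕ} [hp : Fact p.Prime] (c : TI G p e)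

/-- an element commuting with `x` lies in `P` -/
theorem mem_P_of_commute {g : G} (hg : g * c.x = c.x * g) : g ∈ (c.P : Subgroup G) := by
  have h1 : g ∈ Subgroup.centralizer ((c.P : Subgroup G) : Set G) := by
    rw [c.hPx, d1_mem_centralizer_zpowers]
    exact hg
  rwa [(c.hS c.P).2] at h1

/-- an involution of the normalizer of `P` inverts `x` -/
theorem inverts (hp2 : p ≠ 2) {t : G}
    (htN : t ∈ Subgroup.normalizer ((c.P : Subgroup G) : Set G)) (ht : orderOf t = 2) :
    t * c.x * t⁻¹ = c.x⁻¹ := by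
  have hxP : c.x ∈ (c.P : Subgroup G) := by rw [c.hPx]; exact Subgroup.mem_zpowers _
  have htt : t * t = 1 := by rw [← pow_two, ← ht]; exact pow_orderOf_eq_one t
  have htinv : t⁻¹ = t := inv_eq_of_mul_eq_one_right htt
  have h1 : t * c.x * t⁻¹ ∈ (c.P : Subgroup G) := (Subgroup.mem_normalizer_iff.1 htN c.x).1 hxP
  rw [c.hPx, Subgroup.mem_zpowers_iff] at h1
  obtain ⟨k, hk⟩ := h1
  -- conjugating twice
  have h2 : t * (c.x ^ k) * t⁻¹ = (t * c.x * t⁻¹) ^ k := by
    rw [conj_zpow]
  have h3 : t * (t * c.x * t⁻¹) * t⁻¹ = c.x := by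
    rw [htinv]
    calc t * (t * c.x * t) * t = (t * t) * c.x * (t * t) := by group
      _ = c.x := by rw [htt, one_mul, mul_one]
  rw [← hk] at h3
  rw [h2, ← hk, ← zpow_mul] at h3
  -- `x ^ (k * k - 1) = 1`
  have h4 : c.x ^ (k * k - 1) = 1 := by
    rw [zpow_sub, zpow_one, h3, mul_inv_cancel]
  have h5 : (p : ℤ) ∣ k * k - 1 := by
    rw [← c.hx]
    exact orderOf_dvd_iff_zpow_eq_one.2 h4
  have h6 : (p : ℤ) ∣ (k - 1) * (k + 1) := by
    have : (k - 1) * (k + 1) = k * k - 1 := by ring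
    rw [this]; exact h5
  have hpZ : Prime (p : ℤ) := Nat.prime_iff_prime_int.1 hp.1
  rcases hpZ.dvd_or_dvd h6 with h | h
  · -- `t` centralizes `x`: impossible
    exfalso
    have h7 : c.x ^ (k - 1) = 1 := by
      rw [← c.hx] at h
      exact orderOf_dvd_iff_zpow_eq_one.1 h
    have h8 : c.x ^ k = c.x := by
      have : c.x ^ k = c.x ^ (k - 1) * c.x := by rw [← zpow_add_one]; congr 1; ring
      rw [this, h7, one_mul]
    rw [h8] at hk
    have h9 : t * c.x = c.x * t := by
      calc t * c.x = (t * c.x * t⁻¹) * t := by group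
        _ = c.x * t := by rw [← hk]
    have h10 := c.mem_P_of_commute h9
    have h11 : orderOf t ∣ p := by
      have := orderOf_dvd_natCard (⟨t, h10⟩ : (c.P : Subgroup G))
      rwa [(c.hS c.P).1, Subgroup.orderOf_mk] at this
    rw [ht] at h11
    exact hp2 ((Nat.prime_dvd_prime_iff_eq Nat.prime_two hp.1).1 h11).symm
  · have h7 : c.x ^ (k + 1) = 1 := by
      rw [← c.hx] at h
      exact orderOf_dvd_iff_zpow_eq_one.1 h
    rw [← hk]
    have : c.x ^ k = c.x ^ (k + 1) * c.x⁻¹ := by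
      rw [zpow_add_one]; group
    rw [this, h7, one_mul]

/-- `x` is a product of two conjugates of an involution of the normalizer -/
theorem count_pos (hp2 : p ≠ 2) {t : G}
    (htN : t ∈ Subgroup.normalizer ((c.P : Subgroup G) : Set G)) (ht : orderOf t = 2) :
    0 < Nat.card {q : G × G // IsConj t q.1 ∧ IsConj t q.2 ∧ q.1 * q.2 = c.x} := by
  have hinv := c.inverts hp2 htN ht
  have htt : t * t = 1 := by rw [← pow_two, ← ht]; exact pow_orderOf_eq_one t
  have htinv : t⁻¹ = t := inv_eq_of_mul_eq_one_right htt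
  have hodd : p % 2 = 1 := by
    rcases hp.1.eq_two_or_odd with h | h
    · exact absurd h hp2
    · exact h
  -- the conjugate `x ^ (-a) t x ^ a` with `2 a = p + 1`
  have hconj : ∀ j : ℕ, t * c.x ^ j * t⁻¹ = (c.x ^ j)⁻¹ := by
    intro j
    rw [← conj_pow, hinv, inv_pow]
  have key : (c.x ^ ((p + 1) / 2))⁻¹ * t * c.x ^ ((p + 1) / 2) = t * c.x := by
    have h1 : (c.x ^ ((p + 1) / 2))⁻¹ * t = t * c.x ^ ((p + 1) / 2) := by
      have := hconj ((p + 1) / 2)
      rw [htinv] at this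
      calc (c.x ^ ((p + 1) / 2))⁻¹ * t = (t * c.x ^ ((p + 1) / 2) * t) * t := by rw [this]
        _ = t * c.x ^ ((p + 1) / 2) * (t * t) := by group
        _ = t * c.x ^ ((p + 1) / 2) := by rw [htt, mul_one]
    rw [h1, mul_assoc, ← pow_add]
    have h2 : (p + 1) / 2 + (p + 1) / 2 = p + 1 := by omega
    have h3 : c.x ^ p = 1 := by
      have := pow_orderOf_eq_one c.x
      rwa [c.hx] at this
    rw [h2, pow_succ, h3, one_mul]
  have hmem : IsConj t t ∧ IsConj t (t * c.x) ∧ t * (t * c.x) = c.x := by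
    refine ⟨IsConj.refl t, ?_, ?_⟩
    · rw [isConj_iff]
      refine ⟨(c.x ^ ((p + 1) / 2))⁻¹, ?_⟩
      rw [inv_inv]
      exact key
    · rw [← mul_assoc, htt, one_mul]
  have : Nonempty {q : G × G // IsConj t q.1 ∧ IsConj t q.2 ∧ q.1 * q.2 = c.x} :=
    ⟨⟨(t, t * c.x), hmem⟩⟩
  exact Nat.card_pos

/-- the number of ways of writing `x` as a product of two conjugates of an involution -/
theorem count_le {t : G} (htt : t * t = 1) :
    Nat.card {q : G × G // IsConj t q.1 ∧ IsConj t q.2 ∧ q.1 * q.2 = c.x} ≤ p := by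
  classical
  have hinv : ∀ g : G, IsConj t g → g * g = 1 := by
    intro g hg
    obtain ⟨u, hu⟩ := isConj_iff.1 hg
    rw [← hu]
    have : u * t * u⁻¹ * (u * t * u⁻¹) = u * (t * t) * u⁻¹ := by group
    rw [this, htt]; group
  rcases isEmpty_or_nonempty {q : G × G // IsConj t q.1 ∧ IsConj t q.2 ∧ q.1 * q.2 = c.x}
    with hemp | ⟨⟨⟨r1, r2⟩, hr1, hr2, hr⟩⟩
  · rw [Nat.card_of_isEmpty]; exact Nat.zero_le _
  · -- each first component inverts `x`
    have hinvx : ∀ q1 q2 : G, IsConj t q1 → IsConj t q2 → q1 * q2 = c.x →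
        q1 * c.x * q1 = c.x⁻¹ := by
      intro q1 q2 h1 h2 h
      have h11 := hinv q1 h1
      have h22 := hinv q2 h2
      rw [← h]
      have e1 : q1 * (q1 * q2) * q1 = (q1 * q1) * q2 * q1 := by group
      have e2 : (q1 * q2)⁻¹ = q2⁻¹ * q1⁻¹ := by group
      rw [e1, h11, one_mul, e2, inv_eq_of_mul_eq_one_right h11, inv_eq_of_mul_eq_one_right h22]
    simp only at hr
    have hr11 := hinv r1 hr1
    let f : {q : G × G // IsConj t q.1 ∧ IsConj t q.2 ∧ q.1 * q.2 = c.x} → (c.P : Subgroup G) :=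
      fun q => ⟨r1 * q.1.1, by
        apply c.mem_P_of_commute
        have h1 := hinvx q.1.1 q.1.2 q.2.1 q.2.2.1 q.2.2.2
        have h2 := hinvx r1 r2 hr1 hr2 hr
        have hq11 := hinv q.1.1 q.2.1
        -- `r1 q1 x = r1 x⁻¹ q1 = x r1 q1`
        have e1 : q.1.1 * c.x = c.x⁻¹ * q.1.1 := by
          calc q.1.1 * c.x = (q.1.1 * c.x * q.1.1) * q.1.1 := by
                rw [mul_assoc (q.1.1 * c.x), hq11, mul_one]
            _ = c.x⁻¹ * q.1.1 := by rw [h1]
        have e2 : r1 * c.x⁻¹ = c.x * r1 := by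
          have e3 : r1 * c.x = c.x⁻¹ * r1 := by
            calc r1 * c.x = (r1 * c.x * r1) * r1 := by rw [mul_assoc (r1 * c.x), hr11, mul_one]
              _ = c.x⁻¹ * r1 := by rw [h2]
          calc r1 * c.x⁻¹ = c.x * (c.x⁻¹ * r1) * c.x⁻¹ := by group
            _ = c.x * (r1 * c.x) * c.x⁻¹ := by rw [e3]
            _ = c.x * r1 := by group
        calc r1 * q.1.1 * c.x = r1 * (q.1.1 * c.x) := by group
          _ = r1 * (c.x⁻¹ * q.1.1) := by rw [e1]
          _ = (r1 * c.x⁻¹) * q.1.1 := by group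
          _ = c.x * r1 * q.1.1 := by rw [e2]
          _ = c.x * (r1 * q.1.1) := by group⟩
    have hf : Function.Injective f := by
      rintro ⟨⟨q1, q2⟩, hq1, hq2, hq⟩ ⟨⟨s1, s2⟩, hs1, hs2, hs⟩ h
      have h1 : r1 * q1 = r1 * s1 := congrArg Subtype.val h
      have h2 : q1 = s1 := mul_left_cancel h1
      simp only at hq hs
      apply Subtype.ext
      apply Prod.ext h2
      show q2 = s2
      have : q2 = q1⁻¹ * c.x := by rw [← hq]; group
      rw [this, h2, ← hs]; group
    have hcard := Nat.card_le_card_of_injective f hf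
    rwa [(c.hS c.P).1] at hcard

/-- an element commuting with an element `w` of order `p` is a power of `w` -/
theorem mem_zpowers_of_commute (c : TI G p e) {w g : G} (hw : orderOf w = p) (hg : g * w = w * g) :
    g ∈ Subgroup.zpowers w := by
  have hcardw : Nat.card (Subgroup.zpowers w) = p := by rw [Nat.card_zpowers, hw]
  have hpg : IsPGroup p (Subgroup.zpowers w) := IsPGroup.of_card (n := 1) (by rw [hcardw, pow_one])
  obtain ⟨Q, hQ⟩ := hpg.exists_le_sylow
  have hQw : Subgroup.zpowers w = (Q : Subgroup G) :=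
    Subgroup.eq_of_le_of_card_ge hQ (by rw [hcardw, (c.hS Q).1])
  have h1 : g ∈ Subgroup.centralizer ((Q : Subgroup G) : Set G) := by
    rw [← hQw, d1_mem_centralizer_zpowers]
    exact hg
  rw [(c.hS Q).2, ← hQw] at h1
  exact h1

/-- the centralizer of a non-trivial `p`-regular element is a `p'`-group -/
theorem not_dvd_card_centralizer (c : TI G p e) {t : G} (ht : ¬ p ∣ orderOf t) (ht1 : t ≠ 1) :
    ¬ p ∣ Nat.card (Subgroup.centralizer ({t} : Set G)) := by
  intro hdvd
  obtain ⟨w, hw⟩ := exists_prime_orderOf_dvd_card' p hdvd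
  have hw' : orderOf (w : G) = p := by rw [Subgroup.orderOf_coe]; exact hw
  have hcomm : t * (w : G) = (w : G) * t :=
    (Subgroup.mem_centralizer_iff.1 w.2 t rfl)
  have h1 := c.mem_zpowers_of_commute hw' hcomm
  have h2 : orderOf t ∣ p := by
    have := orderOf_dvd_natCard (⟨t, h1⟩ : Subgroup.zpowers (w : G))
    rwa [Nat.card_zpowers, hw', Subgroup.orderOf_mk] at this
  rcases (Nat.dvd_prime hp.1).1 h2 with h | h
  · exact ht1 (orderOf_eq_one_iff.1 h)
  · exact ht (h ▸ dvd_rfl)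

end TI

end Cfsg.Agent.Lib.Helper6.OrdH
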