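import Mathlib
import Cfsg.Agent.Lib.Helper6.BT5
import Cfsg.Agent.Lib.Helper6.OrdH4

/-!
# Brauer–Tuan: the principal `q`-block and the principal `p`-block
-/

set_option autoImplicit false
set_option maxHeartbeats 1600000
set_option linter.unusedSectionVars false
set_option linter.unusedVariables false

namespace Cfsg.Agent.Lib.Helper6.BT

open Cfsg Cfsg.Agent.Lib.Helper8 Cfsg.Agent.Lib.Helper6.OrdB Cfsg.Agent.Lib.Helper6.OrdK
  Cfsg.Agent.Lib.Helper6.OrdH Cfsg.Agent.Lib.Helper1 Cfsg.Agent.Lib.Helper4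
open scoped ComplexConjugate

universe u

section

variable {G : Type u} [Group G] [Fintype G] {p e : ℕ} [hp : Fact p.Prime]

/-- centralizers of `p`-singular elements have order `p` -/
theorem card_centralizer_of_dvd (c : TI G p e) {g : G} (hg : p ∣ orderOf g) :
    Nat.card (Subgroup.centralizer ({g} : Set G)) = p := by
  have ho : orderOf g ≠ 0 := (orderOf_pos g).ne'
  have hw : orderOf (g ^ (orderOf g / p)) = p := orderOf_pow_orderOf_div ho hg
  have hle : Subgroup.centralizer ({g} : Set G) ≤ Subgroup.zpowers (g ^ (orderOf g / p)) := by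
    intro t ht
    apply c.mem_zpowers_of_commute hw
    have h1 : g * t = t * g := Subgroup.mem_centralizer_iff.1 ht g rfl
    have h2 : Commute t g := h1.symm
    exact (h2.pow_right _)
  have hcard : Nat.card (Subgroup.zpowers (g ^ (orderOf g / p))) = p := by
    rw [Nat.card_zpowers, hw]
  have hdvd := Subgroup.card_dvd_of_le hle
  rw [hcard] at hdvd
  rcases (Nat.dvd_prime hp.1).1 hdvd with h | h
  · exfalso
    have hbot := Subgroup.card_eq_one.1 h
    have hmem : g ∈ Subgroup.centralizer ({g} : Set G) := by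
      rw [Subgroup.mem_centralizer_iff]
      intro w hw'
      rw [Set.mem_singleton_iff.1 hw']
    rw [hbot, Subgroup.mem_bot] at hmem
    rw [hmem, orderOf_one] at hg
    exact hp.1.one_lt.ne' (Nat.dvd_one.1 hg)
  · exact h

end

namespace Ctx

variable {G : Type u} [Group G] [Fintype G] {p q b g e n : ℕ} [hp : Fact p.Prime]
  (K : Ctx G p q b g e n)

/-- the exceptional characters have the same degree -/
theorem deg_exc_eq {θ θ' : IrrCharacter G} (hθ : θ ∈ K.c.Y) (hθ' : θ' ∈ K.c.Y) :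
    charDegree θ.1 = charDegree θ'.1 := by
  have h1reg : ¬ p ∣ orderOf (1 : G) := by
    rw [orderOf_one]
    exact fun h => hp.1.one_lt.ne' (Nat.dvd_one.1 h)
  have h1 := K.c.hYagree θ hθ θ' hθ' 1 h1reg
  rw [apply_one θ, apply_one θ'] at h1
  exact_mod_cast h1

/-- any two exceptional characters lie in the same `q`-block -/
theorem sameBlock_exc (H : Hyp G p q b g) (hb : 1 ≤ b) {M : Ideal AlgInt} (hM : IsPModular q M)
    {θ θ' : IrrCharacter G} (hθ : θ ∈ K.c.Y) (hθ' : θ' ∈ K.c.Y) : SameBlock M θ.1 θ'.1 := by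
  have hMp := isPModular_isPrime hM
  have hMt := isPModular_ne_top hM
  have hdeg := K.deg_exc_eq hθ hθ'
  intro y
  unfold centralChar
  rw [apply_one θ, apply_one θ', ← hdeg]
  have hd0 : (charDegree θ.1 : ℂ) ≠ 0 := Nat.cast_ne_zero.2 (charDegree_pos θ).ne'
  by_cases hy : p ∣ orderOf y
  · have hC := card_centralizer_of_dvd K.c hy
    have hidx : (Subgroup.centralizer ({y} : Set G)).index = q ^ b * g := by
      have h1 := Subgroup.card_mul_index (Subgroup.centralizer ({y} : Set G))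
      rw [hC, H.hcard, mul_assoc] at h1
      exact Nat.eq_of_mul_eq_mul_left hp.1.pos h1
    obtain ⟨k, hk⟩ := (K.hY θ hθ).2.2.1
    have hbq : q ^ b = q * q ^ (b - 1) := by
      rw [← pow_succ']
      congr 1
      omega
    have heq : ((Subgroup.centralizer ({y} : Set G)).index : ℂ) * θ.1 y / (charDegree θ.1 : ℂ) -
        ((Subgroup.centralizer ({y} : Set G)).index : ℂ) * θ'.1 y / (charDegree θ.1 : ℂ) =
        (q : ℂ) * (((q ^ (b - 1) * k : ℕ) : ℂ) * (θ.1 y - θ'.1 y)) := by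
      rw [hidx, hbq, hk]
      push_cast
      field_simp
    rw [heq]
    apply memLocalIdeal_mul_right hMp (memLocalIdeal_prime hM)
    apply memLocalRing_mul hMp (memLocalRing_natCast hMt _)
    exact memLocalRing_sub hMp (memLocalRing_char_apply hMt (isCharacter_of_irr θ.2) y)
      (memLocalRing_char_apply hMt (isCharacter_of_irr θ'.2) y)
  · rw [K.c.hYagree θ hθ θ' hθ' y hy, sub_self]
    exact memLocalIdeal_zero hMt

/-- the exceptional characters lie all inside or all outside the principal `q`-block -/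
theorem exc_mem_iff (H : Hyp G p q b g) (hb : 1 ≤ b) {M : Ideal AlgInt} (hM : IsPModular q M)
    {θ θ' : IrrCharacter G} (hθ : θ ∈ K.c.Y) (hθ' : θ' ∈ K.c.Y) :
    θ ∈ principalBlock M G ↔ θ' ∈ principalBlock M G := by
  have hMp := isPModular_isPrime hM
  constructor
  · intro h
    have h1 : SameBlock M (fun _ : G => (1 : ℂ)) θ.1 := h
    exact sameBlock_trans hMp h1 (K.sameBlock_exc H hb hM hθ hθ')
  · intro h
    have h1 : SameBlock M (fun _ : G => (1 : ℂ)) θ'.1 := h
    exact sameBlock_trans hMp h1 (K.sameBlock_exc H hb hM hθ' hθ)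

open Classical in
/-- a weighted sum over the principal `q`-block at the generator of `P` -/
theorem sum_block_weight [Fintype (IrrCharacter G)] (H : Hyp G p q b g) (hb : 1 ≤ b)
    {M : Ideal AlgInt} (hM : IsPModular q M) {θ0 : IrrCharacter G} (hθ0 : θ0 ∈ K.c.Y)
    (w : IrrCharacter G → ℂ) (hw : ∀ θ ∈ K.c.Y, w θ = w θ0) :
    ∑ ψ : IrrCharacter G, (if ψ ∈ principalBlock M G then (1 : ℂ) else 0) * (ψ.1 K.c.x * w ψ) =
      ∑ χ ∈ K.c.Xf, (if χ ∈ principalBlock M G then (1 : ℂ) else 0) * ((K.c.εX χ : ℂ) * w χ) -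
        (K.c.ε : ℂ) * (if θ0 ∈ principalBlock M G then (1 : ℂ) else 0) * w θ0 := by
  rw [K.c.sum_block (fun ψ => (if ψ ∈ principalBlock M G then (1 : ℂ) else 0) *
    (ψ.1 K.c.x * w ψ)) (fun ψ h2 h3 => by
      rw [K.c.vanish_off_block h2 h3 K.c.x_mem_S, zero_mul, mul_zero])]
  have hX : ∑ χ ∈ K.c.Xf, (if χ ∈ principalBlock M G then (1 : ℂ) else 0) * (χ.1 K.c.x * w χ) =
      ∑ χ ∈ K.c.Xf, (if χ ∈ principalBlock M G then (1 : ℂ) else 0) *
        ((K.c.εX χ : ℂ) * w χ) := by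
    refine Finset.sum_congr rfl fun χ hχ => ?_
    rw [K.c.hval χ (K.c.mem_Xf.1 hχ) K.c.x (K.c.mem_S.1 K.c.x_mem_S).1
      (K.c.mem_S.1 K.c.x_mem_S).2]
  have hY : ∑ θ ∈ K.c.Yf, (if θ ∈ principalBlock M G then (1 : ℂ) else 0) *
      (θ.1 K.c.x * w θ) =
      -(K.c.ε : ℂ) * (if θ0 ∈ principalBlock M G then (1 : ℂ) else 0) * w θ0 := by
    have h1 : ∀ θ ∈ K.c.Yf, (if θ ∈ principalBlock M G then (1 : ℂ) else 0) *
        (θ.1 K.c.x * w θ) =
        ((if θ0 ∈ principalBlock M G then (1 : ℂ) else 0) * w θ0) * θ.1 K.c.x := by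
      intro θ hθ
      have hθY := K.c.mem_Yf.1 hθ
      rw [hw θ hθY]
      by_cases h : θ0 ∈ principalBlock M G
      · rw [if_pos h, if_pos ((K.exc_mem_iff H hb hM hθY hθ0).2 h)]
        ring
      · rw [if_neg h, if_neg (fun h' => h ((K.exc_mem_iff H hb hM hθY hθ0).1 h'))]
        ring
    rw [Finset.sum_congr rfl h1, ← Finset.mul_sum]
    have h2 := K.c.sum_exc_x hθ0
    have h3 := congrArg conj h2
    rw [map_sum] at h3
    simp only [Complex.conj_conj, map_neg, map_intCast] at h3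
    rw [h3]
    ring
  rw [hX, hY]
  ring

open Classical in
/-- **The congruence modulo `q ^ b`.** -/
theorem theta_rel [Fintype (IrrCharacter G)] (H : Hyp G p q b g) (hb : 1 ≤ b)
    {M : Ideal AlgInt} (hM : IsPModular q M) {θ0 : IrrCharacter G} (hθ0 : θ0 ∈ K.c.Y) :
    ∃ N : ℤ, ∑ χ ∈ K.c.Xf, (if χ ∈ principalBlock M G then
        K.c.εX χ * (charDegree χ.1 : ℤ) else 0) -
        K.c.ε * (if θ0 ∈ principalBlock M G then (1 : ℤ) else 0) * (charDegree θ0.1 : ℤ) =
      (q : ℤ) ^ b * N := by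
  have : Fact q.Prime := ⟨H.hq⟩
  have hqb : q ^ b ∣ Nat.card G := by
    rw [H.hcard]
    exact Dvd.dvd.mul_right (Dvd.intro_left _ rfl) _
  obtain ⟨Q, hQcard⟩ := Sylow.exists_subgroup_card_pow_prime q hqb
  have hQ : IsPGroup q Q := IsPGroup.of_card hQcard
  have hc := fun χ : IrrCharacter G => nat_avg Q χ
  choose c hc using hc
  have hx : ¬ q ∣ orderOf K.c.x := by
    rw [K.c.hx]
    intro h
    exact H.hpq ((Nat.prime_dvd_prime_iff_eq H.hq H.hp).1 h).symm
  have hmain := block_sum_subgroup hM (isPBlock_principalBlock (M := M) (G := G)) hx Q hQ c hc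
  -- the elements of `Q` are `p`-regular
  have hreg : ∀ h : Q, ¬ p ∣ orderOf (h : G) := by
    intro h hd
    have h1 := hd.trans (Subgroup.orderOf_dvd_natCard Q h.2)
    rw [hQcard] at h1
    exact H.hpq ((Nat.prime_dvd_prime_iff_eq H.hp H.hq).1 (H.hp.dvd_of_dvd_pow h1))
  have hcY : ∀ θ ∈ K.c.Y, ((c θ : ℕ) : ℂ) = ((c θ0 : ℕ) : ℂ) := by
    intro θ hθ
    rw [hc θ, hc θ0]
    congr 1
    refine Finset.sum_congr rfl fun h _ => ?_
    exact K.c.hYagree θ hθ θ0 hθ0 (h : G) (hreg h)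
  have hdY : ∀ θ ∈ K.c.Y, ((charDegree θ.1 : ℕ) : ℂ) = ((charDegree θ0.1 : ℕ) : ℂ) := by
    intro θ hθ
    rw [K.deg_exc_eq hθ hθ0]
  rw [K.sum_block_weight H hb hM hθ0 (fun χ => (charDegree χ.1 : ℂ)) hdY,
    K.sum_block_weight H hb hM hθ0 (fun χ => (c χ : ℂ)) hcY, hQcard] at hmain
  refine ⟨∑ χ ∈ K.c.Xf, (if χ ∈ principalBlock M G then K.c.εX χ * (c χ : ℤ) else 0) -
      K.c.ε * (if θ0 ∈ principalBlock M G then (1 : ℤ) else 0) * (c θ0 : ℤ), ?_⟩
  have hcast : ((∑ χ ∈ K.c.Xf, (if χ ∈ principalBlock M G then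
        K.c.εX χ * (charDegree χ.1 : ℤ) else 0) -
        K.c.ε * (if θ0 ∈ principalBlock M G then (1 : ℤ) else 0) * (charDegree θ0.1 : ℤ) : ℤ) : ℂ)
      = (((q : ℤ) ^ b * (∑ χ ∈ K.c.Xf, (if χ ∈ principalBlock M G then
          K.c.εX χ * (c χ : ℤ) else 0) -
        K.c.ε * (if θ0 ∈ principalBlock M G then (1 : ℤ) else 0) * (c θ0 : ℤ)) : ℤ) : ℂ) := by
    push_cast
    have e1 : ∀ (w : IrrCharacter G → ℂ),
        ∑ χ ∈ K.c.Xf, (if χ ∈ principalBlock M G then (1 : ℂ) else 0) *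
          ((K.c.εX χ : ℂ) * w χ) =
        ∑ χ ∈ K.c.Xf, (if χ ∈ principalBlock M G then (K.c.εX χ : ℂ) * w χ else 0) := by
      intro w
      refine Finset.sum_congr rfl fun χ _ => ?_
      split_ifs <;> ring
    rw [e1, e1] at hmain
    have e2 : ∀ (z : ℂ), (if θ0 ∈ principalBlock M G then (1 : ℂ) else 0) * z =
        (if θ0 ∈ principalBlock M G then z else 0) := by
      intro z
      split_ifs <;> ring
    by_cases h : θ0 ∈ principalBlock M G
    · simp only [if_pos h] at hmain ⊢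
      push_cast at hmain
      linear_combination hmain
    · simp only [if_neg h] at hmain ⊢
      push_cast at hmain
      linear_combination hmain
  exact_mod_cast hcast

end Ctx

end Cfsg.Agent.Lib.Helper6.BT
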