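import Mathlib
import Cfsg.Agent.Lib.Helper6.BT6

/-!
# Brauer–Tuan: the end of the case `ε = 1`
-/

set_option autoImplicit false
set_option maxHeartbeats 1600000
set_option linter.unusedSectionVars false
set_option linter.unusedVariables false

namespace Cfsg.Agent.Lib.Helper6.BT

open Cfsg Cfsg.Agent.Lib.Helper8 Cfsg.Agent.Lib.Helper6.OrdB Cfsg.Agent.Lib.Helper6.OrdK
  Cfsg.Agent.Lib.Helper6.OrdH Cfsg.Agent.Lib.Helper1 Cfsg.Agent.Lib.Helper4
open scoped ComplexConjugate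

universe u


/-- counting residues -/
theorem exists_mod_count {ι : Type*} [DecidableEq ι] (s : Finset ι) (f : ι → ℤ) (c N : ℤ)
    (h : ∀ i ∈ s, N ∣ f i ∨ N ∣ f i - c) :
    ∃ m : ℕ, m ≤ s.card ∧ N ∣ ∑ i ∈ s, f i - m * c := by
  induction s using Finset.induction_on with
  | empty => exact ⟨0, by simp⟩
  | insert a s ha ih =>
    obtain ⟨m, hm, hd⟩ := ih (fun i hi => h i (Finset.mem_insert_of_mem hi))
    rw [Finset.sum_insert ha, Finset.card_insert_of_notMem ha]
    rcases h a (Finset.mem_insert_self a s) with h1 | h1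
    · refine ⟨m, by omega, ?_⟩
      have : f a + ∑ i ∈ s, f i - (m : ℤ) * c = f a + (∑ i ∈ s, f i - (m : ℤ) * c) := by ring
      rw [this]
      exact dvd_add h1 hd
    · refine ⟨m + 1, by omega, ?_⟩
      have : f a + ∑ i ∈ s, f i - ((m + 1 : ℕ) : ℤ) * c =
          (f a - c) + (∑ i ∈ s, f i - (m : ℤ) * c) := by push_cast; ring
      rw [this]
      exact dvd_add h1 hd

/-- the classification of the degrees in the case `ε = 1` -/
theorem A1_class {a e p b D : ℕ} {s : ℤ} (hpp : p.Prime) (hs : s = 1 ∨ s = -1)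
    (hp : p + 1 = 2 ^ a) (he : 2 * e + 1 = p) (he2 : 2 ≤ e)
    (hDdvd : D ∣ p * 2 ^ b * e) (hDeven : 2 ∣ D) (hmod : (D : ℤ) ≡ s [ZMOD p])
    (hnotpow : ∀ k : ℕ, D ≠ 2 ^ k) : (s = -1 ∧ D = 2 * e) ∨ 2 ^ (a + 1) ∣ D := by
  have hp2 := hpp.two_le
  have hD0 : D ≠ 0 := by
    rintro rfl
    rw [zero_dvd_iff] at hDdvd
    have : 0 < p * 2 ^ b * e := by positivity
    omega
  -- `p ∤ D`
  have hpD : ¬ p ∣ D := by
    intro h
    have h1 : (p : ℤ) ∣ (D : ℤ) := by exact_mod_cast h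
    have h2 := (Int.modEq_iff_dvd.1 hmod)
    have h3 : (p : ℤ) ∣ s := by
      have := dvd_add h2 h1
      simpa using this
    rcases hs with rfl | rfl
    · have := Int.le_of_dvd (by norm_num) h3
      omega
    · have h4 : (p : ℤ) ∣ 1 := by simpa using (dvd_neg.2 h3)
      have := Int.le_of_dvd (by norm_num) h4
      omega
  have hcop : Nat.Coprime D p := (Nat.Coprime.symm ((Nat.Prime.coprime_iff_not_dvd hpp).2 hpD))
  have hD2 : D ∣ 2 ^ b * e := by
    rw [mul_assoc] at hDdvd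
    exact hcop.dvd_of_dvd_mul_left hDdvd
  obtain ⟨j, d, hdodd, hDjd⟩ := Nat.exists_eq_two_pow_mul_odd hD0
  have hde : d ∣ e := by
    have h1 : d ∣ 2 ^ b * e := dvd_trans (Dvd.intro_left _ hDjd.symm) hD2
    have h2 : Nat.Coprime d (2 ^ b) := (Nat.Coprime.pow_right b hdodd.coprime_two_right)
    exact h2.dvd_of_dvd_mul_left h1
  have he0 : 0 < e := by omega
  have hdle : d ≤ e := Nat.le_of_dvd he0 hde
  have hd0 : 0 < d := Nat.pos_of_dvd_of_pos hde he0
  have hd1 : d ≠ 1 := by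
    intro h
    rw [h, mul_one] at hDjd
    exact hnotpow j hDjd
  have hj1 : 1 ≤ j := by
    rcases Nat.eq_zero_or_pos j with h | h
    · exfalso
      rw [h, pow_zero, one_mul] at hDjd
      rw [hDjd] at hDeven
      rcases hdodd with ⟨k, hk⟩
      omega
    · exact h
  rcases Nat.lt_or_ge a (j + 0) with hja | hja
  · right
    rw [hDjd]
    exact Dvd.dvd.mul_right (pow_dvd_pow 2 (by omega)) d
  · left
    rw [add_zero] at hja
    -- `2^(a-j) * D = 2^a * d ≡ d`
    obtain ⟨i, hi⟩ : ∃ i, a = j + i := ⟨a - j, by omega⟩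
    have h2a : (2 : ℤ) ^ a = (p : ℤ) + 1 := by
      have : ((p + 1 : ℕ) : ℤ) = ((2 ^ a : ℕ) : ℤ) := by rw [hp]
      push_cast at this
      linarith
    have hmod2 : (d : ℤ) ≡ s * 2 ^ i [ZMOD p] := by
      have h1 : (2 : ℤ) ^ i * (D : ℤ) ≡ 2 ^ i * s [ZMOD p] := Int.ModEq.mul_left _ hmod
      have h3 : (2 : ℤ) ^ i * (D : ℤ) = ((p : ℤ) + 1) * d := by
        rw [← h2a, hi, hDjd]
        push_cast
        ring
      rw [h3] at h1
      have h4 : ((p : ℤ) + 1) * d ≡ d [ZMOD p] := by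
        rw [Int.modEq_iff_dvd]
        exact ⟨-(d : ℤ), by ring⟩
      calc (d : ℤ) ≡ ((p : ℤ) + 1) * d [ZMOD p] := h4.symm
        _ ≡ 2 ^ i * s [ZMOD p] := h1
        _ = s * 2 ^ i := by ring
    -- bounds on `2 ^ i`
    have hi_le : i + 1 ≤ a := by omega
    have h2i : 2 ^ i ≤ e + 1 := by
      have h5 : 2 ^ (i + 1) ≤ 2 ^ a := Nat.pow_le_pow_right (by norm_num) hi_le
      rw [pow_succ] at h5
      omega
    have h2i0 : 0 < 2 ^ i := by positivity
    have h2iz : ((2 ^ i : ℕ) : ℤ) = (2 : ℤ) ^ i := by push_cast; rfl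
    obtain ⟨k, hk⟩ := (Int.modEq_iff_dvd.1 hmod2)
    rcases hs with rfl | rfl
    · exfalso
      -- `d = 2 ^ i`
      have hk0 : k = 0 := by
        by_contra hk0
        rcases lt_or_gt_of_ne hk0 with h5 | h5
        · have : (p : ℤ) * k ≤ (p : ℤ) * (-1) :=
            mul_le_mul_of_nonneg_left (by omega) (by positivity)
          rw [← h2iz] at hk
          omega
        · have : (p : ℤ) * 1 ≤ (p : ℤ) * k :=
            mul_le_mul_of_nonneg_left (by omega) (by positivity)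
          rw [← h2iz] at hk
          omega
      rw [hk0, mul_zero, ← h2iz] at hk
      have hd2i : d = 2 ^ i := by omega
      rcases Nat.eq_zero_or_pos i with h0 | h0
      · rw [h0, pow_zero] at hd2i
        exact hd1 hd2i
      · have : 2 ∣ d := by
          rw [hd2i]
          exact dvd_pow_self 2 (by omega)
        rcases hdodd with ⟨k', hk'⟩
        omega
    · refine ⟨rfl, ?_⟩
      have hk1 : k = -1 := by
        by_contra hk1
        rcases lt_or_gt_of_ne hk1 with h5 | h5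
        · have : (p : ℤ) * k ≤ (p : ℤ) * (-2) :=
            mul_le_mul_of_nonneg_left (by omega) (by positivity)
          rw [← h2iz] at hk
          omega
        · have : (p : ℤ) * 0 ≤ (p : ℤ) * k :=
            mul_le_mul_of_nonneg_left (by omega) (by positivity)
          rw [← h2iz] at hk
          omega
      rw [hk1, ← h2iz] at hk
      have hsum : d + 2 ^ i = p := by omega
      have hde' : d = e := by omega
      have h2ie : 2 ^ i = e + 1 := by omega
      -- `i = a - 1`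
      have hia : i + 1 = a := by
        have h6 : 2 ^ (i + 1) = 2 ^ a := by
          rw [pow_succ, h2ie, ← hp]
          omega
        exact Nat.pow_right_injective (le_refl 2) h6
      have hj : j = 1 := by omega
      rw [hDjd, hj, hde']
      ring

/-- the final contradiction in the case `ε = 1` -/
theorem A1_final {a e m : ℕ} (ha : 3 ≤ a) (he : e + 1 = 2 ^ (a - 1)) (hm : m + 1 ≤ e)
    (h : (2 : ℤ) ^ (a + 1) ∣ 1 - (e : ℤ) - m * (2 * e)) : False := by
  obtain ⟨a', rfl⟩ : ∃ a', a = a' + 3 := ⟨a - 3, by omega⟩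
  have h1 : a' + 3 - 1 = a' + 2 := by omega
  rw [h1] at he
  set v : ℕ := 2 ^ a' with hv
  have hv0 : 0 < v := by positivity
  have he' : e + 1 = 4 * v := by rw [he, hv]; ring
  have hez : (e : ℤ) = 4 * v - 1 := by
    have : ((e + 1 : ℕ) : ℤ) = ((4 * v : ℕ) : ℤ) := by rw [he']
    push_cast at this
    linarith
  have h16 : (2 : ℤ) ^ (a' + 3 + 1) = 16 * v := by
    rw [hv]
    push_cast
    ring
  rw [h16, hez] at h
  -- `4 v ∣ 2 + 2 m`
  have h2 : (4 * (v : ℤ)) ∣ 2 * (1 + (m : ℤ)) := by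
    have h3 : (4 * (v : ℤ)) ∣ 1 - (4 * (v : ℤ) - 1) - m * (2 * (4 * (v : ℤ) - 1)) :=
      dvd_trans ⟨4, by ring⟩ h
    have h4 : 1 - (4 * (v : ℤ) - 1) - m * (2 * (4 * (v : ℤ) - 1)) =
        2 * (1 + (m : ℤ)) - 4 * (v : ℤ) * (1 + 2 * m) := by ring
    rw [h4] at h3
    have h5 : (4 * (v : ℤ)) ∣ 4 * (v : ℤ) * (1 + 2 * m) := Dvd.intro _ rfl
    have := dvd_add h3 h5
    simpa using this
  have h3 : (2 * (v : ℤ)) ∣ 1 + (m : ℤ) := by
    have h4 : (2 : ℤ) * (2 * (v : ℤ)) ∣ 2 * (1 + (m : ℤ)) := by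
      have : (2 : ℤ) * (2 * (v : ℤ)) = 4 * v := by ring
      rw [this]
      exact h2
    exact (mul_dvd_mul_iff_left (by norm_num : (2 : ℤ) ≠ 0)).1 h4
  obtain ⟨k, hk⟩ := h3
  have hvz : (0 : ℤ) < v := by exact_mod_cast hv0
  have hmz : (m : ℤ) + 1 ≤ 4 * v - 1 := by
    rw [← hez]
    exact_mod_cast hm
  have hk1 : k = 1 := by
    have hkpos : 0 < k := by
      by_contra hneg
      push Not at hneg
      have : 2 * (v : ℤ) * k ≤ 0 := mul_nonpos_of_nonneg_of_nonpos (by positivity) hneg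
      have : (0 : ℤ) ≤ m := by positivity
      linarith
    have hklt : k < 2 := by
      by_contra hge
      push Not at hge
      have : 2 * (v : ℤ) * 2 ≤ 2 * (v : ℤ) * k := mul_le_mul_of_nonneg_left hge (by positivity)
      linarith
    omega
  rw [hk1, mul_one] at hk
  have hm' : (m : ℤ) = 2 * v - 1 := by linarith
  rw [hm'] at h
  have h5 : 1 - (4 * (v : ℤ) - 1) - (2 * (v : ℤ) - 1) * (2 * (4 * (v : ℤ) - 1)) =
      8 * (v : ℤ) - 16 * (v : ℤ) * v := by ring
  rw [h5] at h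
  have h6 : (16 * (v : ℤ)) ∣ 16 * (v : ℤ) * v := Dvd.intro _ rfl
  have h7 : (16 * (v : ℤ)) ∣ 8 * (v : ℤ) := by
    have := dvd_add h h6
    simpa using this
  have h8 := Int.le_of_dvd (by positivity) h7
  linarith


namespace Ctx

variable {G : Type u} [Group G] [Fintype G] {p q b g e n : ℕ} [hp : Fact p.Prime]
  (K : Ctx G p q b g e n)

/-- the arithmetic of the case `ε = 1` -/
theorem A1_arith [IsSimpleGroup G] (hG : ¬ IsMulCommutative G) (H : Hyp G p q b g)
    (hε : K.c.ε = 1) :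
    g = e ∧ q = 2 ∧ 2 * e + 1 = p ∧ ∃ a : ℕ, p + 1 = 2 ^ a ∧ a ≤ b := by
  classical
  obtain ⟨h2e, hodd, χ1, hχ1, hε1, hdeg1⟩ := K.A1_main hG hε
  obtain ⟨θ, hθ⟩ := K.Y_nonempty
  have hpp := hp.1
  have hp2 := hpp.two_le
  have hdeg : charDegree θ.1 = e := by
    rcases (K.hY θ hθ).2.2.2 with h | h
    · exact h.2
    · exfalso
      have := h.1
      rw [hε] at this
      norm_num at this
  have heg : e ∣ g := hdeg ▸ (K.hY θ hθ).2.2.1
  have hg0 := H.g_pos
  have hgl := H.hg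
  have hge : g = e := by
    obtain ⟨k, hk⟩ := heg
    have hk0 : 0 < k := by
      rcases Nat.eq_zero_or_pos k with h | h
      · rw [h, mul_zero] at hk; omega
      · exact h
    have hk2 : k < 2 := by
      by_contra hge
      push Not at hge
      have : e * 2 ≤ e * k := Nat.mul_le_mul_left e hge
      omega
    have : k = 1 := by omega
    rw [this, mul_one] at hk
    exact hk
  have hpe : 2 * e + 1 = p := by omega
  have hne1 : χ1 ≠ trivIrr G := by
    intro h
    rw [h, charDegree_trivIrr] at hdeg1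
    omega
  have hq1 : q ∣ p + 1 := hdeg1 ▸ K.hXq χ1 hχ1 hne1
  have hdvd : p + 1 ∣ p * q ^ b * e := by
    have := charDegree_dvd χ1
    rwa [hdeg1, H.hcard, hge] at this
  have heodd : Odd e := Nat.odd_iff.2 hodd
  have hpodd : Odd p := by
    rw [← hpe]
    exact ⟨e, rfl⟩
  have hq2 : q = 2 := by
    by_contra hq2
    have hqodd : Odd q := H.hq.odd_of_ne_two hq2
    have h1 : Odd (p * q ^ b * e) := (hpodd.mul (hqodd.pow)).mul heodd
    have h2 : 2 ∣ p * q ^ b * e := dvd_trans ⟨e + 1, by omega⟩ hdvd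
    rcases h1 with ⟨k, hk⟩
    omega
  refine ⟨hge, hq2, hpe, ?_⟩
  rw [hq2] at hdvd
  have hc1 : Nat.Coprime (p + 1) p := by simp
  have hc2 : Nat.Coprime (p + 1) e := by
    have h1 : p + 1 = 2 * (e + 1) := by omega
    rw [h1]
    apply Nat.Coprime.mul_left
    · exact (Nat.coprime_comm.1 heodd.coprime_two_right)
    · simp
  have h3 : p + 1 ∣ 2 ^ b := by
    have h4 : p + 1 ∣ 2 ^ b * e := by
      rw [mul_assoc] at hdvd
      exact hc1.dvd_of_dvd_mul_left hdvd
    exact hc2.dvd_of_dvd_mul_right h4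
  obtain ⟨a, ha, hpa⟩ := (Nat.dvd_prime_pow Nat.prime_two).1 h3
  exact ⟨a, hpa, ha⟩

/-- **The end of the case `ε = 1`.** -/
theorem A1_end [IsSimpleGroup G] (hG : ¬ IsMulCommutative G) (H : Hyp G p q b g)
    (hε : K.c.ε = 1) :
    q = 2 ∧ ∃ a : ℕ, p + 1 = 2 ^ a ∧ 2 * g + 1 = p ∧ b = a := by
  classical
  have : Fintype (IrrCharacter G) := Fintype.ofFinite _
  obtain ⟨hge, hq2, hpe, a, hpa, hab⟩ := K.A1_arith hG H hε
  refine ⟨hq2, a, hpa, by omega, ?_⟩
  by_contra hne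
  have hab' : a + 1 ≤ b := by omega
  subst hq2
  have hpp := hp.1
  have he2 := K.he2
  have ha3 : 3 ≤ a := by
    by_contra hlt
    push Not at hlt
    have : 2 ^ a ≤ 2 ^ 2 := Nat.pow_le_pow_right (by norm_num) (by omega)
    omega
  have hb1 : 1 ≤ b := by omega
  obtain ⟨M, hM⟩ := exists_isPModular 2
  have hMt := isPModular_ne_top hM
  obtain ⟨θ0, hθ0⟩ := K.Y_nonempty
  have hdeg : charDegree θ0.1 = e := by
    rcases (K.hY θ0 hθ0).2.2.2 with h | h
    · exact h.2
    · exfalso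
      have := h.1
      rw [hε] at this
      norm_num at this
  obtain ⟨N, hN⟩ := K.theta_rel H hb1 hM hθ0
  rw [← Finset.add_sum_erase K.c.Xf _ (K.c.mem_Xf.2 K.hTX),
    if_pos (trivIrr_mem_principalBlock hMt), K.hεT, charDegree_trivIrr, hε, hdeg] at hN
  set f : IrrCharacter G → ℤ := fun χ =>
    if χ ∈ principalBlock M G then K.c.εX χ * (charDegree χ.1 : ℤ) else 0 with hf
  have hperf := commutator_eq_top hG
  have hXe : ∀ χ ∈ K.c.Xf.erase (trivIrr G), χ ∈ K.c.X ∧ χ ≠ trivIrr G := by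
    intro χ hχ
    rw [Finset.mem_erase] at hχ
    exact ⟨K.c.mem_Xf.1 hχ.2, hχ.1⟩
  have hfeven : ∀ χ ∈ K.c.Xf.erase (trivIrr G), (2 : ℤ) ∣ f χ := by
    intro χ hχ
    obtain ⟨h1, h2⟩ := hXe χ hχ
    rw [hf]
    simp only
    split_ifs
    · have := K.hXq χ h1 h2
      exact Dvd.dvd.mul_left (by exact_mod_cast this) _
    · exact dvd_zero _
  have hsumeven : (2 : ℤ) ∣ ∑ χ ∈ K.c.Xf.erase (trivIrr G), f χ := Finset.dvd_sum hfeven
  have h2b : (2 : ℤ) ∣ ((2 : ℕ) : ℤ) ^ b * N := by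
    apply Dvd.dvd.mul_right
    exact dvd_pow_self _ (by omega)
  have heodd : e % 2 = 1 := by
    obtain ⟨-, hodd, -⟩ := K.A1_main hG hε
    exact hodd
  -- the exceptional characters lie in the principal block
  have hθB : θ0 ∈ principalBlock M G := by
    by_contra hnot
    rw [if_neg hnot] at hN
    rw [← hN] at h2b
    obtain ⟨k1, hk1⟩ := hsumeven
    obtain ⟨k2, hk2⟩ := h2b
    rw [hk1] at hk2
    omega
  rw [if_pos hθB] at hN
  -- the classification of the terms
  have hclass : ∀ χ ∈ K.c.Xf.erase (trivIrr G),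
      ((2 : ℤ) ^ (a + 1)) ∣ f χ ∨ ((2 : ℤ) ^ (a + 1)) ∣ f χ - (-(2 * (e : ℤ))) := by
    intro χ hχ
    obtain ⟨h1, h2⟩ := hXe χ hχ
    rw [hf]
    simp only
    by_cases hB : χ ∈ principalBlock M G
    · rw [if_pos hB]
      have hDdvd : charDegree χ.1 ∣ p * 2 ^ b * e := by
        have := charDegree_dvd χ
        rwa [H.hcard, hge] at this
      have hnotpow : ∀ k : ℕ, charDegree χ.1 ≠ 2 ^ k := by
        intro k hk
        rcases Nat.eq_zero_or_pos k with h0 | h0
        · rw [h0, pow_zero] at hk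
          exact h2 (eq_trivIrr_of_charDegree_eq_one hperf χ hk)
        · exact not_mem_principalBlock_of_deg_pow hG hM χ h2 h0 hk hB
      rcases A1_class hpp (K.c.hεX χ h1) hpa hpe he2 hDdvd (K.hXq χ h1 h2) (K.hXdeg χ h1)
        hnotpow with ⟨hs, hD⟩ | hD
      · right
        rw [hs, hD]
        push_cast
        ring_nf
        exact dvd_zero _
      · left
        apply Dvd.dvd.mul_left
        exact_mod_cast hD
    · rw [if_neg hB]
      left
      exact dvd_zero _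
  obtain ⟨m, hm, hmd⟩ := exists_mod_count _ f (-(2 * (e : ℤ))) ((2 : ℤ) ^ (a + 1)) hclass
  rw [Finset.card_erase_of_mem (K.c.mem_Xf.2 K.hTX), K.c.card_Xf] at hm
  apply A1_final (a := a) (e := e) (m := m) ha3 ?_ (by omega) ?_
  · have h1 : 2 ^ a = 2 * 2 ^ (a - 1) := by
      rw [← pow_succ']
      congr 1
      omega
    omega
  · have h1 : ((2 : ℤ) ^ (a + 1)) ∣ ((2 : ℕ) : ℤ) ^ b * N := by
      apply Dvd.dvd.mul_right
      push_cast
      exact pow_dvd_pow 2 hab'
    rw [← hN] at h1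
    have h2 := dvd_sub h1 hmd
    have h3 : 1 * ((1 : ℕ) : ℤ) + ∑ χ ∈ K.c.Xf.erase (trivIrr G), f χ - 1 * 1 * (e : ℤ) -
        (∑ χ ∈ K.c.Xf.erase (trivIrr G), f χ - (m : ℤ) * (-(2 * (e : ℤ)))) =
        1 - (e : ℤ) - m * (2 * e) := by
      push_cast
      ring
    rw [h3] at h2
    exact h2

end Ctx

end Cfsg.Agent.Lib.Helper6.BT
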