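import Mathlib
import Cfsg.Agent.Lib.Helper6.BT7

/-!
# Brauer–Tuan: the case `ε = -1`
-/

set_option autoImplicit false
set_option maxHeartbeats 1600000
set_option linter.unusedSectionVars false
set_option linter.unusedVariables false

namespace Cfsg.Agent.Lib.Helper6.BT

open Cfsg Cfsg.Agent.Lib.Helper8 Cfsg.Agent.Lib.Helper6.OrdB Cfsg.Agent.Lib.Helper6.OrdK
  Cfsg.Agent.Lib.Helper6.OrdH Cfsg.Agent.Lib.Helper1 Cfsg.Agent.Lib.Helper4
open scoped ComplexConjugate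

universe u


/-- a number congruent to `± 1` modulo `p` is prime to `p` -/
theorem not_dvd_of_modEq {p D : ℕ} {s : ℤ} (hp2 : 2 ≤ p) (hs : s = 1 ∨ s = -1)
    (hmod : (D : ℤ) ≡ s [ZMOD p]) : ¬ p ∣ D := by
  intro h
  have h1 : (p : ℤ) ∣ (D : ℤ) := by exact_mod_cast h
  have h2 := (Int.modEq_iff_dvd.1 hmod)
  have h3 : (p : ℤ) ∣ s := by
    have := dvd_add h2 h1
    simpa using this
  rcases hs with rfl | rfl
  · have := Int.le_of_dvd (by norm_num) h3
    omega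
  · have h4 : (p : ℤ) ∣ 1 := by simpa using (dvd_neg.2 h3)
    have := Int.le_of_dvd (by norm_num) h4
    omega

/-- the odd part of a divisor of `p 2^b g` prime to `p` divides `g` -/
theorem odd_part_dvd {p b g D j d : ℕ} (hpp : p.Prime) (hpD : ¬ p ∣ D)
    (hDdvd : D ∣ p * 2 ^ b * g) (hd : Odd d) (hDjd : D = 2 ^ j * d) : d ∣ g := by
  have hcop : Nat.Coprime D p := (Nat.Coprime.symm ((Nat.Prime.coprime_iff_not_dvd hpp).2 hpD))
  have hD2 : D ∣ 2 ^ b * g := by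
    rw [mul_assoc] at hDdvd
    exact hcop.dvd_of_dvd_mul_left hDdvd
  have h1 : d ∣ 2 ^ b * g := dvd_trans (Dvd.intro_left _ hDjd.symm) hD2
  have h2 : Nat.Coprime d (2 ^ b) := (Nat.Coprime.pow_right b hd.coprime_two_right)
  exact h2.dvd_of_dvd_mul_left h1

/-- a degree `≡ 2` modulo `4` forces `p = 2^(c+1) + 1` -/
theorem A2_first {p b g D c : ℕ} {s : ℤ} (hpp : p.Prime) (hs : s = 1 ∨ s = -1)
    (hc : 2 ≤ c) (hpc : 2 ^ c ∣ p - 1) (hg : g + 2 ^ c = p) (hg0 : 0 < g)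
    (hDdvd : D ∣ p * 2 ^ b * g) (hmod : (D : ℤ) ≡ s [ZMOD p]) (hD4 : D % 4 = 2) :
    p = 2 ^ (c + 1) + 1 := by
  have hp2 := hpp.two_le
  have hpD := not_dvd_of_modEq hp2 hs hmod
  have h4p : 4 ∣ p - 1 := dvd_trans (by
    have : (4 : ℕ) = 2 ^ 2 := by norm_num
    rw [this]
    exact pow_dvd_pow 2 hc) hpc
  obtain ⟨d, hd⟩ : ∃ d, D = 2 * d := ⟨D / 2, by omega⟩
  have hdodd : Odd d := by
    rw [Nat.odd_iff]
    omega
  have hdg : d ∣ g := odd_part_dvd (j := 1) hpp hpD hDdvd hdodd (by rw [hd]; ring)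
  have hdle : d ≤ g := Nat.le_of_dvd hg0 hdg
  have h2c : 0 < 2 ^ c := by positivity
  obtain ⟨k, hk⟩ := (Int.modEq_iff_dvd.1 hmod)
  have hDlt : D < 2 * p := by omega
  have hD0 : 0 < D := by omega
  rcases hs with rfl | rfl
  · -- `1 - D = p k`
    have hk1 : k = -1 := by
      by_contra hk1
      rcases lt_or_gt_of_ne hk1 with h5 | h5
      · have : (p : ℤ) * k ≤ (p : ℤ) * (-2) :=
          mul_le_mul_of_nonneg_left (by omega) (by positivity)
        omega
      · have h6 : (p : ℤ) * 0 ≤ (p : ℤ) * k :=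
          mul_le_mul_of_nonneg_left (by omega) (by positivity)
        have : D = 1 ∨ D = 0 := by omega
        omega
    rw [hk1] at hk
    have hDp : D = p + 1 := by omega
    -- `d = (p + 1) / 2` divides `g < p + 1`
    obtain ⟨r, hr⟩ := hdg
    have hr0 : 0 < r := by
      rcases Nat.eq_zero_or_pos r with h | h
      · rw [h, mul_zero] at hr; omega
      · exact h
    have hr2 : r < 2 := by
      by_contra hge
      push Not at hge
      have : d * 2 ≤ d * r := Nat.mul_le_mul_left d hge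
      omega
    have hr1 : r = 1 := by omega
    rw [hr1, mul_one] at hr
    have h7 : 2 ^ (c + 1) = 2 * 2 ^ c := by rw [pow_succ']
    omega
  · exfalso
    -- `-1 - D = p k`
    have hk1 : k = -1 := by
      by_contra hk1
      rcases lt_or_gt_of_ne hk1 with h5 | h5
      · have : (p : ℤ) * k ≤ (p : ℤ) * (-2) :=
          mul_le_mul_of_nonneg_left (by omega) (by positivity)
        have : (2 : ℤ) * p - 1 ≤ D := by omega
        omega
      · have h6 : (p : ℤ) * 0 ≤ (p : ℤ) * k :=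
          mul_le_mul_of_nonneg_left (by omega) (by positivity)
        omega
    rw [hk1] at hk
    have hDp : D = p - 1 := by omega
    rw [hDp] at hD4
    omega

/-- the shape of `b` -/
theorem A2_b_form {p b c : ℕ} (hp : p = 2 ^ (c + 1) + 1) (hdvd : (p : ℤ) ∣ 2 ^ b + 1) :
    b = c + 1 ∨ 3 * (c + 1) ≤ b := by
  have h2c : 0 < 2 ^ c := by positivity
  have hpz : (p : ℤ) = 2 ^ (c + 1) + 1 := by
    rw [hp]
    push_cast
    ring
  have hsmall : ∀ r : ℕ, r ≤ c → ¬ (p : ℤ) ∣ 2 ^ r + 1 := by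
    intro r hr hd
    have h1 : (2 : ℤ) ^ r ≤ 2 ^ c := pow_le_pow_right₀ (by norm_num) hr
    have h2 : (2 : ℤ) ^ (c + 1) = 2 * 2 ^ c := by rw [pow_succ']
    have h3 : (0 : ℤ) < 2 ^ r := by positivity
    have := Int.le_of_dvd (by positivity) hd
    rw [hpz, h2] at this
    linarith
  have hsmall2 : ∀ r : ℕ, 1 ≤ r → r ≤ c → ¬ (p : ℤ) ∣ 2 ^ r - 1 := by
    intro r hr1 hr hd
    have h1 : (2 : ℤ) ^ r ≤ 2 ^ c := pow_le_pow_right₀ (by norm_num) hr
    have h2 : (2 : ℤ) ^ (c + 1) = 2 * 2 ^ c := by rw [pow_succ']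
    have h3 : (2 : ℤ) ^ 1 ≤ 2 ^ r := pow_le_pow_right₀ (by norm_num) hr1
    have := Int.le_of_dvd (by linarith) hd
    rw [hpz, h2] at this
    linarith
  -- `2 ^ (c+1) ≡ -1`
  have hm1 : (p : ℤ) ∣ 2 ^ (c + 1) + 1 := by rw [hpz]
  -- reduction: `p ∣ 2^(r + c + 1) + 1 → p ∣ 2^r - 1`
  have hred : ∀ r : ℕ, (p : ℤ) ∣ 2 ^ (r + (c + 1)) + 1 → (p : ℤ) ∣ 2 ^ r - 1 := by
    intro r hd
    have h1 : (2 : ℤ) ^ (r + (c + 1)) + 1 = 2 ^ r * (2 ^ (c + 1) + 1) - (2 ^ r - 1) := by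
      rw [pow_add]
      ring
    rw [h1] at hd
    have h2 : (p : ℤ) ∣ 2 ^ r * (2 ^ (c + 1) + 1) := Dvd.dvd.mul_left hm1 _
    have := dvd_sub h2 hd
    simpa using this
  have hred2 : ∀ r : ℕ, (p : ℤ) ∣ 2 ^ (r + (c + 1)) - 1 → (p : ℤ) ∣ 2 ^ r + 1 := by
    intro r hd
    have h1 : (2 : ℤ) ^ (r + (c + 1)) - 1 = 2 ^ r * (2 ^ (c + 1) + 1) - (2 ^ r + 1) := by
      rw [pow_add]
      ring
    rw [h1] at hd
    have h2 : (p : ℤ) ∣ 2 ^ r * (2 ^ (c + 1) + 1) := Dvd.dvd.mul_left hm1 _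
    have := dvd_sub h2 hd
    simpa using this
  rcases Nat.lt_or_ge b (c + 1) with h1 | h1
  · exact absurd hdvd (hsmall b (by omega))
  · obtain ⟨r, rfl⟩ : ∃ r, b = r + (c + 1) := ⟨b - (c + 1), by omega⟩
    have hd1 := hred r hdvd
    rcases Nat.eq_zero_or_pos r with h0 | h0
    · left; omega
    · rcases Nat.lt_or_ge r (c + 1) with h2 | h2
      · exact absurd hd1 (hsmall2 r h0 (by omega))
      · obtain ⟨r', rfl⟩ : ∃ r', r = r' + (c + 1) := ⟨r - (c + 1), by omega⟩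
        have hd2 := hred2 r' hd1
        rcases Nat.lt_or_ge r' (c + 1) with h3 | h3
        · exact absurd hd2 (hsmall r' (by omega))
        · right; omega

/-- powers of `2` modulo `p = 2^(c+1) + 1` -/
theorem two_pow_mod {p c : ℕ} (hp : p = 2 ^ (c + 1) + 1) (j : ℕ) :
    ∃ (σ : ℤ) (j0 : ℕ), (σ = 1 ∨ σ = -1) ∧ j0 ≤ c ∧ (2 : ℤ) ^ j ≡ σ * 2 ^ j0 [ZMOD p] := by
  have hpz : (p : ℤ) = 2 ^ (c + 1) + 1 := by
    rw [hp]
    push_cast
    ring
  have hm1 : (2 : ℤ) ^ (c + 1) ≡ -1 [ZMOD p] := by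
    rw [Int.modEq_iff_dvd, hpz]
    exact ⟨-1, by ring⟩
  refine ⟨(-1) ^ (j / (c + 1)), j % (c + 1), ?_, ?_, ?_⟩
  · rcases neg_one_pow_eq_or ℤ (j / (c + 1)) with h | h
    · left; exact h
    · right; exact h
  · have := Nat.mod_lt j (by omega : 0 < c + 1)
    omega
  · have h1 : (2 : ℤ) ^ j = (2 ^ (c + 1)) ^ (j / (c + 1)) * 2 ^ (j % (c + 1)) := by
      rw [← pow_mul, ← pow_add, Nat.div_add_mod]
    rw [h1]
    exact Int.ModEq.mul_right _ (hm1.pow _)

/-- the degrees in the principal `2`-block are multiples of `p + 1` -/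
theorem A2_class {p b g D c : ℕ} {s : ℤ} (hpp : p.Prime) (hs : s = 1 ∨ s = -1)
    (hp : p = 2 ^ (c + 1) + 1) (hg : g = 2 ^ c + 1)
    (hDdvd : D ∣ p * 2 ^ b * g) (hDeven : 2 ∣ D) (hmod : (D : ℤ) ≡ s [ZMOD p])
    (hnotpow : ∀ k : ℕ, D ≠ 2 ^ k) : p + 1 ∣ D := by
  have hp2 := hpp.two_le
  have h2c : 0 < 2 ^ c := by positivity
  have h2c1 : 2 ^ (c + 1) = 2 * 2 ^ c := by rw [pow_succ']
  have hg0 : 0 < g := by omega
  have hD0 : D ≠ 0 := by
    rintro rfl
    rw [zero_dvd_iff] at hDdvd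
    have : 0 < p * 2 ^ b * g := by positivity
    omega
  have hpD := not_dvd_of_modEq hp2 hs hmod
  obtain ⟨j, d, hdodd, hDjd⟩ := Nat.exists_eq_two_pow_mul_odd hD0
  have hdg : d ∣ g := odd_part_dvd hpp hpD hDdvd hdodd hDjd
  have hdle : d ≤ g := Nat.le_of_dvd hg0 hdg
  have hd0 : 0 < d := Nat.pos_of_dvd_of_pos hdg hg0
  have hd1 : d ≠ 1 := by
    intro h
    rw [h, mul_one] at hDjd
    exact hnotpow j hDjd
  have hj1 : 1 ≤ j := by
    rcases Nat.eq_zero_or_pos j with h | h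
    · exfalso
      rw [h, pow_zero, one_mul] at hDjd
      rw [hDjd] at hDeven
      rcases hdodd with ⟨k, hk⟩
      omega
    · exact h
  obtain ⟨σ, j0, hσ, hj0, hpow⟩ := two_pow_mod hp j
  obtain ⟨i, hi⟩ : ∃ i, c + 1 = j0 + i := ⟨c + 1 - j0, by omega⟩
  have hi1 : 1 ≤ i := by omega
  have hpz : (p : ℤ) = 2 ^ (c + 1) + 1 := by
    rw [hp]
    push_cast
    ring
  -- `d ≡ s' 2^i`
  have hmod2 : (d : ℤ) ≡ (-σ * s) * 2 ^ i [ZMOD p] := by
    have h1 : (D : ℤ) = 2 ^ j * d := by rw [hDjd]; push_cast; ring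
    have h2 : (σ * 2 ^ j0) * (d : ℤ) ≡ s [ZMOD p] := by
      have h3 : (2 : ℤ) ^ j * d ≡ (σ * 2 ^ j0) * d [ZMOD p] := Int.ModEq.mul_right _ hpow
      rw [← h1] at h3
      exact h3.symm.trans hmod
    have h4 : (2 : ℤ) ^ i * ((σ * 2 ^ j0) * (d : ℤ)) ≡ 2 ^ i * s [ZMOD p] :=
      Int.ModEq.mul_left _ h2
    have h5 : (2 : ℤ) ^ i * ((σ * 2 ^ j0) * (d : ℤ)) = σ * d * ((p : ℤ) - 1) := by
      have : (2 : ℤ) ^ i * 2 ^ j0 = (p : ℤ) - 1 := by
        rw [← pow_add, add_comm, ← hi, hpz]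
        ring
      calc (2 : ℤ) ^ i * ((σ * 2 ^ j0) * (d : ℤ)) = σ * d * (2 ^ i * 2 ^ j0) := by ring
        _ = σ * d * ((p : ℤ) - 1) := by rw [this]
    rw [h5] at h4
    have h6 : σ * d * ((p : ℤ) - 1) ≡ -σ * d [ZMOD p] := by
      rw [Int.modEq_iff_dvd]
      exact ⟨-σ * d, by ring⟩
    have h7 : -σ * d ≡ 2 ^ i * s [ZMOD p] := h6.symm.trans h4
    have h8 : (-σ) * (-σ * d) ≡ (-σ) * (2 ^ i * s) [ZMOD p] := Int.ModEq.mul_left _ h7
    have hσ2 : (-σ) * (-σ) = 1 := by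
      rcases hσ with h | h <;> rw [h] <;> norm_num
    have h9 : (-σ) * (-σ * d) = d := by
      rw [← mul_assoc, hσ2, one_mul]
    rw [h9] at h8
    have h10 : (-σ) * (2 ^ i * s) = (-σ * s) * 2 ^ i := by ring
    rw [h10] at h8
    exact h8
  have hs' : (-σ * s = 1) ∨ (-σ * s = -1) := by
    rcases hσ with h | h <;> rcases hs with h' | h' <;> rw [h, h'] <;> norm_num
  have h2i_le : 2 ^ i ≤ 2 ^ (c + 1) := Nat.pow_le_pow_right (by norm_num) (by omega)
  have h2i0 : 0 < 2 ^ i := by positivity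
  have h2iz : ((2 ^ i : ℕ) : ℤ) = (2 : ℤ) ^ i := by push_cast; rfl
  obtain ⟨k, hk⟩ := (Int.modEq_iff_dvd.1 hmod2)
  have hdg' : d = g := by
    rcases hs' with h | h
    · exfalso
      rw [h, one_mul, ← h2iz] at hk
      have hk0 : k = 0 := by
        by_contra hk0
        rcases lt_or_gt_of_ne hk0 with h5 | h5
        · have : (p : ℤ) * k ≤ (p : ℤ) * (-1) :=
            mul_le_mul_of_nonneg_left (by omega) (by positivity)
          omega
        · have : (p : ℤ) * 1 ≤ (p : ℤ) * k :=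
            mul_le_mul_of_nonneg_left (by omega) (by positivity)
          omega
      rw [hk0, mul_zero] at hk
      have hd2i : d = 2 ^ i := by omega
      have : 2 ∣ d := by
        rw [hd2i]
        exact dvd_pow_self 2 (by omega)
      rcases hdodd with ⟨k', hk'⟩
      omega
    · rw [h, ← h2iz] at hk
      have hk1 : k = -1 := by
        by_contra hk1
        rcases lt_or_gt_of_ne hk1 with h5 | h5
        · have : (p : ℤ) * k ≤ (p : ℤ) * (-2) :=
            mul_le_mul_of_nonneg_left (by omega) (by positivity)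
          omega
        · have : (p : ℤ) * 0 ≤ (p : ℤ) * k :=
            mul_le_mul_of_nonneg_left (by omega) (by positivity)
          omega
      rw [hk1] at hk
      have hsum : d + 2 ^ i = p := by omega
      -- `i ≤ c`
      rcases Nat.lt_or_ge c i with hic | hic
      · exfalso
        have : i = c + 1 := by omega
        rw [this] at hsum
        omega
      · have h2i_le' : 2 ^ i ≤ 2 ^ c := Nat.pow_le_pow_right (by norm_num) hic
        omega
  rw [hDjd, hdg']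
  obtain ⟨j', rfl⟩ : ∃ j', j = j' + 1 := ⟨j - 1, by omega⟩
  have : p + 1 = 2 * g := by omega
  rw [this, pow_succ, mul_assoc]
  exact Dvd.intro_left _ rfl

/-- the final inequality -/
theorem A2_big {w N0 : ℤ} (hw : 4 ≤ w) (hN : 8 * w ^ 3 ≤ N0)
    (h : (N0 - w - 2) ^ 2 ≤ (w - 1) * (N0 * (2 * w + 1) * (w + 1))) : False := by
  have hN0 : 0 < N0 := by nlinarith [pow_pos (by linarith : (0 : ℤ) < w) 3]
  have h1 : (w - 1) * (N0 * (2 * w + 1) * (w + 1)) ≤ N0 * (2 * w ^ 3 + 3 * w ^ 2) := by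
    have : (w - 1) * (N0 * (2 * w + 1) * (w + 1)) = N0 * (2 * w ^ 3 + w ^ 2 - 2 * w - 1) := by ring
    rw [this]
    apply mul_le_mul_of_nonneg_left _ hN0.le
    nlinarith
  have h2 : N0 * (N0 - 2 * w - 4) ≤ (N0 - w - 2) ^ 2 := by nlinarith [sq_nonneg (w + 2)]
  have h3 : N0 * (N0 - 2 * w - 4) ≤ N0 * (2 * w ^ 3 + 3 * w ^ 2) := by linarith
  have h4 : N0 - 2 * w - 4 ≤ 2 * w ^ 3 + 3 * w ^ 2 := le_of_mul_le_mul_left h3 hN0
  nlinarith [pow_pos (by linarith : (0 : ℤ) < w) 3, sq_nonneg w, mul_pos (by linarith : (0 : ℤ) < w) (by linarith : (0 : ℤ) < w)]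


namespace Ctx

variable {G : Type u} [Group G] [Fintype G] {p q b g e n : ℕ} [hp : Fact p.Prime]
  (K : Ctx G p q b g e n)

/-- the degree of the exceptional characters in the case `ε = -1` -/
theorem A2_deg (hε : K.c.ε = -1) {θ : IrrCharacter G} (hθ : θ ∈ K.c.Y) :
    charDegree θ.1 + e = p := by
  rcases (K.hY θ hθ).2.2.2 with h | h
  · exfalso
    have := h.1
    rw [hε] at this
    norm_num at this
  · exact h.2

/-- the arithmetic of the case `ε = -1` -/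
theorem A2_arith [IsSimpleGroup G] (hG : ¬ IsMulCommutative G) (H : Hyp G p q b g)
    (hε : K.c.ε = -1) :
    g + e = p ∧ q = 2 ∧ ∃ c : ℕ, 1 ≤ c ∧ c ≤ b ∧ e = 2 ^ c ∧ (p : ℤ) ∣ 2 ^ b + 1 := by
  classical
  have : Fintype (IrrCharacter G) := Fintype.ofFinite _
  obtain ⟨θ, hθ⟩ := K.Y_nonempty
  have hpp := hp.1
  have hp2 := hpp.two_le
  have hdeg := K.A2_deg hε hθ
  have hdg : charDegree θ.1 ∣ g := (K.hY θ hθ).2.2.1
  have ht2 := K.ht2
  have he2 := K.he2
  have hg0 := H.g_pos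
  have hgl := H.hg
  have hgd : g = charDegree θ.1 := by
    obtain ⟨k, hk⟩ := hdg
    have hk0 : 0 < k := by
      rcases Nat.eq_zero_or_pos k with h | h
      · rw [h, mul_zero] at hk; omega
      · exact h
    have hk2 : k < 2 := by
      by_contra hge
      push Not at hge
      have : charDegree θ.1 * 2 ≤ charDegree θ.1 * k := Nat.mul_le_mul_left _ hge
      omega
    have : k = 1 := by omega
    rw [this, mul_one] at hk
    exact hk
  have hge : g + e = p := by omega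
  have hpe : ¬ p ∣ e := by
    intro h
    have := Nat.le_of_dvd (by omega) h
    omega
  have hcop : Nat.Coprime e g := by
    have h1 : Nat.Coprime e p :=
      (Nat.Coprime.symm ((Nat.Prime.coprime_iff_not_dvd hpp).2 hpe))
    rw [← hge] at h1
    exact (Nat.coprime_add_self_right.1 h1)
  have heq : e ∣ q ^ b := by
    have h1 : e ∣ q ^ b * g := Dvd.intro_left _ K.hne
    exact hcop.dvd_of_dvd_mul_right h1
  obtain ⟨c, hcb, hec⟩ := (Nat.dvd_prime_pow H.hq).1 heq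
  have hc1 : 1 ≤ c := by
    rcases Nat.eq_zero_or_pos c with h | h
    · rw [h, pow_zero] at hec; omega
    · exact h
  have hqe : q ∣ e := by
    rw [hec]
    exact dvd_pow_self q (by omega)
  -- the degree equation modulo `q`
  have heq' := K.deg_eq hθ
  have hsumq : (q : ℤ) ∣ ∑ χ ∈ K.c.Xf.erase (trivIrr G), K.c.εX χ * (charDegree χ.1 : ℤ) := by
    apply Finset.dvd_sum
    intro χ hχ
    rw [Finset.mem_erase] at hχ
    have := K.hXq χ (K.c.mem_Xf.1 hχ.2) hχ.1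
    exact Dvd.dvd.mul_left (by exact_mod_cast this) _
  have hq1 : q ∣ charDegree θ.1 + 1 := by
    obtain ⟨k, hk⟩ := hsumq
    rw [hk, hε] at heq'
    have h1 : (q : ℤ) ∣ ((charDegree θ.1 + 1 : ℕ) : ℤ) := by
      refine ⟨-k, ?_⟩
      push_cast
      linarith
    exact_mod_cast h1
  have hq2 : q = 2 := by
    have h1 : q ∣ p - 1 := dvd_trans hqe K.hep
    have h2 : q ∣ charDegree θ.1 + 1 + e := dvd_add hq1 hqe
    have h3 : charDegree θ.1 + 1 + e = (p - 1) + 2 := by omega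
    rw [h3] at h2
    have h4 : q ∣ 2 := (Nat.dvd_add_right h1).1 h2
    exact (Nat.prime_dvd_prime_iff_eq H.hq Nat.prime_two).1 h4
  refine ⟨hge, hq2, c, hc1, hcb, by rw [hec, hq2], ?_⟩
  -- `p ∣ 2 ^ b + 1`
  have h1 : (n + q ^ b) * e = q ^ b * p := by
    rw [add_mul, K.hne, ← mul_add, hge]
  have h2 : p ∣ (n + q ^ b) * e := Dvd.intro_left _ h1.symm
  have h3 : p ∣ n + q ^ b := by
    rcases (Nat.Prime.dvd_mul hpp).1 h2 with h | h
    · exact h
    · exact absurd h hpe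
  have h4 : p ∣ 2 ^ b + 1 := by
    have h5 := K.hnp
    have h6 : n = p * (n / p) + 1 := by
      have := Nat.div_add_mod n p
      omega
    rw [h6, hq2, add_assoc] at h3
    exact (Nat.dvd_add_right (Dvd.intro _ rfl)).1 (by rwa [add_comm 1 (2 ^ b)] at h3)
  exact_mod_cast h4

/-- the sub-case `e = 2` -/
theorem A2_c1 [IsSimpleGroup G] (hG : ¬ IsMulCommutative G) (H : Hyp G p q b g)
    (hε : K.c.ε = -1) (he : e = 2) :
    ∃ a : ℕ, p = 2 ^ a + 1 ∧ g + 2 = p ∧ b = a := by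
  classical
  have : Fintype (IrrCharacter G) := Fintype.ofFinite _
  obtain ⟨hge, hq2, c, hc1, hcb, hec, hpb⟩ := K.A2_arith hG H hε
  subst hq2
  have hpp := hp.1
  have hp2 := hpp.two_le
  have hperf := commutator_eq_top hG
  obtain ⟨θ0, hθ0⟩ := K.Y_nonempty
  have hdeg := K.A2_deg hε hθ0
  have hb1 : 1 ≤ b := by omega
  have hp3 : 3 ≤ p := by
    have := H.hg
    have := H.g_pos
    omega
  -- the second non-exceptional character
  have hcard : (K.c.Xf.erase (trivIrr G)).card = 1 := by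
    rw [Finset.card_erase_of_mem (K.c.mem_Xf.2 K.hTX), K.c.card_Xf, he]
  obtain ⟨χ2, hχ2⟩ := Finset.card_eq_one.1 hcard
  have hχ2mem : χ2 ∈ K.c.Xf.erase (trivIrr G) := by rw [hχ2]; exact Finset.mem_singleton_self _
  rw [Finset.mem_erase] at hχ2mem
  have hχ2X := K.c.mem_Xf.1 hχ2mem.2
  have heq := K.deg_eq hθ0
  rw [hχ2, Finset.sum_singleton, hε] at heq
  have hpos := charDegree_pos χ2
  have hD2 : K.c.εX χ2 = -1 ∧ charDegree χ2.1 = p - 1 := by
    rcases K.c.hεX χ2 hχ2X with h | h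
    · exfalso
      rw [h] at heq
      omega
    · refine ⟨h, ?_⟩
      rw [h] at heq
      omega
  -- `p - 1` is a power of `2`
  have hdvd : p - 1 ∣ p * 2 ^ b * g := by
    have := charDegree_dvd χ2
    rwa [hD2.2, H.hcard] at this
  have hc1' : Nat.Coprime (p - 1) p := by
    have : Nat.Coprime (p - 1) (p - 1 + 1) := by simp
    rwa [Nat.sub_add_cancel (by omega)] at this
  have hc2 : Nat.Coprime (p - 1) g := by
    have hg : g = p - 2 := by omega
    have : Nat.Coprime (p - 2 + 1) (p - 2) := by simp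
    rw [hg]
    have h1 : p - 2 + 1 = p - 1 := by omega
    rwa [h1] at this
  have h3 : p - 1 ∣ 2 ^ b := by
    have h4 : p - 1 ∣ 2 ^ b * g := by
      rw [mul_assoc] at hdvd
      exact hc1'.dvd_of_dvd_mul_left hdvd
    exact hc2.dvd_of_dvd_mul_right h4
  obtain ⟨a, hab, hpa⟩ := (Nat.dvd_prime_pow Nat.prime_two).1 h3
  have ha1 : 1 ≤ a := by
    rcases Nat.eq_zero_or_pos a with h | h
    · rw [h, pow_zero] at hpa; omega
    · exact h
  refine ⟨a, by omega, by omega, ?_⟩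
  -- the principal `2`-block
  obtain ⟨M, hM⟩ := exists_isPModular 2
  have hMt := isPModular_ne_top hM
  have hχ2B : χ2 ∉ principalBlock M G :=
    not_mem_principalBlock_of_deg_pow hG hM χ2 hχ2mem.1 ha1 (by rw [hD2.2, hpa])
  obtain ⟨N, hN⟩ := K.theta_rel H hb1 hM hθ0
  rw [← Finset.add_sum_erase K.c.Xf _ (K.c.mem_Xf.2 K.hTX),
    if_pos (trivIrr_mem_principalBlock hMt), K.hεT, charDegree_trivIrr, hε, hχ2,
    Finset.sum_singleton, if_neg hχ2B] at hN
  have hgodd : g % 2 = 1 := by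
    have : 2 ∣ p - 1 := he ▸ K.hep
    omega
  have h2b : (2 : ℤ) ∣ ((2 : ℕ) : ℤ) ^ b * N := by
    apply Dvd.dvd.mul_right
    exact dvd_pow_self _ (by omega)
  have hgd : charDegree θ0.1 = g := by omega
  rw [hgd] at hN
  have hθB : θ0 ∈ principalBlock M G := by
    by_contra hnot
    rw [if_neg hnot] at hN
    rw [← hN] at h2b
    obtain ⟨k2, hk2⟩ := h2b
    omega
  rw [if_pos hθB] at hN
  have h5 : ((2 ^ b : ℕ) : ℤ) ∣ ((2 ^ a : ℕ) : ℤ) := by
    refine ⟨N, ?_⟩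
    rw [← hpa]
    push_cast at hN ⊢
    rw [← hN, Nat.cast_sub (by omega)]
    have : (g : ℤ) = (p : ℤ) - 2 := by omega
    rw [this]
    push_cast
    ring
  have h6 : 2 ^ b ∣ 2 ^ a := by exact_mod_cast h5
  have := (Nat.pow_dvd_pow_iff_le_right (by norm_num : 1 < 2)).1 h6
  omega

end Ctx

end Cfsg.Agent.Lib.Helper6.BT
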