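import Mathlib
import Cfsg.Agent.Lib.Helper6.BT8

/-!
# Brauer–Tuan: the case `ε = -1`, `e ≥ 4`, and the final shape
-/

set_option autoImplicit false
set_option maxHeartbeats 1600000
set_option linter.unusedSectionVars false
set_option linter.unusedVariables false

namespace Cfsg.Agent.Lib.Helper6.BT

open Cfsg Cfsg.Agent.Lib.Helper8 Cfsg.Agent.Lib.Helper6.OrdB Cfsg.Agent.Lib.Helper6.OrdK
  Cfsg.Agent.Lib.Helper6.OrdH Cfsg.Agent.Lib.Helper1 Cfsg.Agent.Lib.Helper4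
open scoped ComplexConjugate

universe u

namespace Ctx

variable {G : Type u} [Group G] [Fintype G] {p q b g e n : ℕ} [hp : Fact p.Prime]
  (K : Ctx G p q b g e n)

/-- the sub-case `e = 2 ^ c` with `c ≥ 2` -/
theorem A2_c2 [IsSimpleGroup G] (hG : ¬ IsMulCommutative G) (H : Hyp G p q b g)
    (hε : K.c.ε = -1) {c : ℕ} (hc : 2 ≤ c) (he : e = 2 ^ c) :
    p = 2 ^ (c + 1) + 1 ∧ g = 2 ^ c + 1 ∧ b = c + 1 := by
  classical
  have : Fintype (IrrCharacter G) := Fintype.ofFinite _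
  obtain ⟨hge, hq2, c', hc1, hcb, hec, hpb⟩ := K.A2_arith hG H hε
  have hcc : c' = c := by
    rw [he] at hec
    exact (Nat.pow_right_injective (le_refl 2) hec).symm
  rw [hcc] at hc1 hcb hec
  subst hq2
  have hpp := hp.1
  have hp2 := hpp.two_le
  have hperf := commutator_eq_top hG
  obtain ⟨θ0, hθ0⟩ := K.Y_nonempty
  have hdeg := K.A2_deg hε hθ0
  have hgd : charDegree θ0.1 = g := by omega
  have hb1 : 1 ≤ b := by omega
  have hg0 := H.g_pos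
  obtain ⟨M, hM⟩ := exists_isPModular 2
  have hMt := isPModular_ne_top hM
  obtain ⟨N, hN⟩ := K.theta_rel H hb1 hM hθ0
  rw [← Finset.add_sum_erase K.c.Xf _ (K.c.mem_Xf.2 K.hTX),
    if_pos (trivIrr_mem_principalBlock hMt), K.hεT, charDegree_trivIrr, hε, hgd] at hN
  set f : IrrCharacter G → ℤ := fun χ =>
    if χ ∈ principalBlock M G then K.c.εX χ * (charDegree χ.1 : ℤ) else 0 with hf
  have hXe : ∀ χ ∈ K.c.Xf.erase (trivIrr G), χ ∈ K.c.X ∧ χ ≠ trivIrr G := by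
    intro χ hχ
    rw [Finset.mem_erase] at hχ
    exact ⟨K.c.mem_Xf.1 hχ.2, hχ.1⟩
  have hfeven : ∀ χ ∈ K.c.Xf.erase (trivIrr G), (2 : ℤ) ∣ f χ := by
    intro χ hχ
    obtain ⟨h1, h2⟩ := hXe χ hχ
    rw [hf]
    simp only
    split_ifs
    · have := K.hXq χ h1 h2
      exact Dvd.dvd.mul_left (by exact_mod_cast this) _
    · exact dvd_zero _
  have hsumeven : (2 : ℤ) ∣ ∑ χ ∈ K.c.Xf.erase (trivIrr G), f χ := Finset.dvd_sum hfeven
  have hpc : 2 ^ c ∣ p - 1 := he ▸ K.hep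
  have h4c : 4 ∣ 2 ^ c := by
    have : (4 : ℕ) = 2 ^ 2 := by norm_num
    rw [this]
    exact pow_dvd_pow 2 hc
  have h4p : 4 ∣ p - 1 := dvd_trans h4c hpc
  have hg4 : g % 4 = 1 := by
    rw [he] at hge
    omega
  have h4b : (4 : ℤ) ∣ ((2 : ℕ) : ℤ) ^ b * N := by
    apply Dvd.dvd.mul_right
    have : (4 : ℤ) = ((2 : ℕ) : ℤ) ^ 2 := by norm_num
    rw [this]
    exact pow_dvd_pow _ (by omega)
  -- the exceptional characters lie in the principal block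
  have hθB : θ0 ∈ principalBlock M G := by
    by_contra hnot
    rw [if_neg hnot] at hN
    rw [← hN] at h4b
    obtain ⟨k1, hk1⟩ := hsumeven
    obtain ⟨k2, hk2⟩ := h4b
    rw [hk1] at hk2
    omega
  rw [if_pos hθB] at hN
  have hN' : 1 + (g : ℤ) + ∑ χ ∈ K.c.Xf.erase (trivIrr G), f χ = ((2 : ℕ) : ℤ) ^ b * N := by
    rw [← hN]
    push_cast
    ring
  -- a character of degree `≡ 2` modulo `4`
  have hex : ∃ χ ∈ K.c.Xf.erase (trivIrr G), ¬ (4 : ℤ) ∣ f χ := by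
    by_contra hall
    push Not at hall
    have h1 : (4 : ℤ) ∣ ∑ χ ∈ K.c.Xf.erase (trivIrr G), f χ := Finset.dvd_sum hall
    rw [← hN'] at h4b
    obtain ⟨k1, hk1⟩ := h1
    obtain ⟨k2, hk2⟩ := h4b
    rw [hk1] at hk2
    omega
  obtain ⟨χ1, hχ1, h4χ1⟩ := hex
  obtain ⟨hχ1X, hχ1ne⟩ := hXe χ1 hχ1
  have hχ1B : χ1 ∈ principalBlock M G := by
    by_contra hnot
    apply h4χ1
    rw [hf]
    simp only
    rw [if_neg hnot]
    exact dvd_zero _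
  have hD4 : charDegree χ1.1 % 4 = 2 := by
    have h1 : 2 ∣ charDegree χ1.1 := K.hXq χ1 hχ1X hχ1ne
    have h2 : ¬ 4 ∣ charDegree χ1.1 := by
      intro h
      apply h4χ1
      rw [hf]
      simp only
      rw [if_pos hχ1B]
      exact Dvd.dvd.mul_left (by exact_mod_cast h) _
    omega
  have hDdvd : ∀ χ : IrrCharacter G, charDegree χ.1 ∣ p * 2 ^ b * g := by
    intro χ
    have := charDegree_dvd χ
    rwa [H.hcard] at this
  have hpform : p = 2 ^ (c + 1) + 1 :=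
    A2_first hpp (K.c.hεX χ1 hχ1X) hc hpc (by rw [← he]; exact hge) hg0 (hDdvd χ1)
      (K.hXdeg χ1 hχ1X) hD4
  have h2c1 : 2 ^ (c + 1) = 2 * 2 ^ c := by rw [pow_succ']
  have hgform : g = 2 ^ c + 1 := by
    rw [he] at hge
    omega
  refine ⟨hpform, hgform, ?_⟩
  rcases A2_b_form hpform hpb with hb | hb
  · exact hb
  exfalso
  -- all the terms are multiples of `p + 1`
  have hdiv : ∀ χ ∈ K.c.Xf.erase (trivIrr G), ((p + 1 : ℕ) : ℤ) ∣ f χ := by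
    intro χ hχ
    obtain ⟨h1, h2⟩ := hXe χ hχ
    rw [hf]
    simp only
    by_cases hB : χ ∈ principalBlock M G
    · rw [if_pos hB]
      have hnotpow : ∀ k : ℕ, charDegree χ.1 ≠ 2 ^ k := by
        intro k hk
        rcases Nat.eq_zero_or_pos k with h0 | h0
        · rw [h0, pow_zero] at hk
          exact h2 (eq_trivIrr_of_charDegree_eq_one hperf χ hk)
        · exact not_mem_principalBlock_of_deg_pow hG hM χ h2 h0 hk hB
      have := A2_class hpp (K.c.hεX χ h1) hpform hgform (hDdvd χ) (K.hXq χ h1 h2)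
        (K.hXdeg χ h1) hnotpow
      exact Dvd.dvd.mul_left (by exact_mod_cast this) _
    · rw [if_neg hB]
      exact dvd_zero _
  have hsumdiv : ((p + 1 : ℕ) : ℤ) ∣ ∑ χ ∈ K.c.Xf.erase (trivIrr G), f χ := Finset.dvd_sum hdiv
  have h2c0 : 0 < 2 ^ c := by positivity
  have hN0 : N ≠ 0 := by
    intro h0
    rw [h0, mul_zero] at hN'
    have h1 : ((p + 1 : ℕ) : ℤ) ∣ 1 + (g : ℤ) := by
      have h2 : (1 : ℤ) + g = -(∑ χ ∈ K.c.Xf.erase (trivIrr G), f χ) := by linarith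
      rw [h2]
      exact (dvd_neg.2 hsumdiv)
    have h3 : (p + 1 : ℕ) ∣ 1 + g := by exact_mod_cast h1
    have := Nat.le_of_dvd (by omega) h3
    omega
  -- the size of the sum
  have habs : ∀ χ ∈ K.c.Xf.erase (trivIrr G), |f χ| ≤ (charDegree χ.1 : ℤ) := by
    intro χ hχ
    obtain ⟨h1, h2⟩ := hXe χ hχ
    rw [hf]
    simp only
    split_ifs
    · rw [abs_mul]
      rcases K.c.hεX χ h1 with h | h <;> rw [h] <;> simp
    · simp
  set S : ℤ := ∑ χ ∈ K.c.Xf.erase (trivIrr G), (charDegree χ.1 : ℤ) with hS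
  have hsumabs : |∑ χ ∈ K.c.Xf.erase (trivIrr G), f χ| ≤ S :=
    (Finset.abs_sum_le_sum_abs _ _).trans (Finset.sum_le_sum habs)
  have hlow : ((2 : ℕ) : ℤ) ^ b ≤ 1 + (g : ℤ) + S := by
    have h1 : |((2 : ℕ) : ℤ) ^ b * N| = ((2 : ℕ) : ℤ) ^ b * |N| := by
      rw [abs_mul, abs_of_nonneg (by positivity)]
    have h2 : (1 : ℤ) ≤ |N| := Int.one_le_abs hN0
    have h3 : ((2 : ℕ) : ℤ) ^ b * 1 ≤ ((2 : ℕ) : ℤ) ^ b * |N| :=
      mul_le_mul_of_nonneg_left h2 (by positivity)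
    rw [← h1, ← hN'] at h3
    have h4 : |1 + (g : ℤ) + ∑ χ ∈ K.c.Xf.erase (trivIrr G), f χ| ≤
        |1 + (g : ℤ)| + |∑ χ ∈ K.c.Xf.erase (trivIrr G), f χ| := abs_add_le _ _
    have h5 : |1 + (g : ℤ)| = 1 + (g : ℤ) := abs_of_nonneg (by positivity)
    linarith
  -- Cauchy–Schwarz
  have hCS : S ^ 2 ≤ ((e - 1 : ℕ) : ℤ) * (Nat.card G : ℤ) := by
    have h1 := sq_sum_le_card_mul_sum_sq (s := K.c.Xf.erase (trivIrr G))
      (f := fun χ => (charDegree χ.1 : ℤ))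
    rw [Finset.card_erase_of_mem (K.c.mem_Xf.2 K.hTX), K.c.card_Xf] at h1
    have h2 : ∑ χ ∈ K.c.Xf.erase (trivIrr G), (charDegree χ.1) ^ 2 ≤
        ∑ χ : IrrCharacter G, (charDegree χ.1) ^ 2 :=
      Finset.sum_le_sum_of_subset (Finset.subset_univ _)
    rw [sum_sq_charDegree] at h2
    have h3 : ∑ χ ∈ K.c.Xf.erase (trivIrr G), ((charDegree χ.1 : ℤ)) ^ 2 ≤ (Nat.card G : ℤ) := by
      exact_mod_cast h2
    calc S ^ 2 ≤ ((e - 1 : ℕ) : ℤ) * ∑ χ ∈ K.c.Xf.erase (trivIrr G), ((charDegree χ.1 : ℤ)) ^ 2 :=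
          h1
      _ ≤ ((e - 1 : ℕ) : ℤ) * (Nat.card G : ℤ) := mul_le_mul_of_nonneg_left h3 (by positivity)
  -- the final inequality
  have hw4 : (4 : ℤ) ≤ ((2 ^ c : ℕ) : ℤ) := by
    have : 2 ^ 2 ≤ 2 ^ c := Nat.pow_le_pow_right (by norm_num) hc
    exact_mod_cast this
  have hNbig : 8 * ((2 ^ c : ℕ) : ℤ) ^ 3 ≤ ((2 ^ b : ℕ) : ℤ) := by
    have h1 : 2 ^ (3 * (c + 1)) ≤ 2 ^ b := Nat.pow_le_pow_right (by norm_num) hb
    have h2 : 2 ^ (3 * (c + 1)) = 8 * (2 ^ c) ^ 3 := by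
      rw [← pow_mul, mul_add, pow_add]
      ring
    rw [h2] at h1
    exact_mod_cast h1
  apply A2_big hw4 hNbig
  have hcardz : (Nat.card G : ℤ) =
      ((2 ^ b : ℕ) : ℤ) * (2 * ((2 ^ c : ℕ) : ℤ) + 1) * (((2 ^ c : ℕ) : ℤ) + 1) := by
    rw [H.hcard, hpform, hgform, h2c1]
    push_cast
    ring
  have he1 : ((e - 1 : ℕ) : ℤ) = ((2 ^ c : ℕ) : ℤ) - 1 := by
    rw [he, Nat.cast_sub (by omega)]
    simp
  rw [hcardz, he1] at hCS
  have hgz : (g : ℤ) = ((2 ^ c : ℕ) : ℤ) + 1 := by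
    rw [hgform]
    push_cast
    ring
  have hlow' : ((2 ^ b : ℕ) : ℤ) - ((2 ^ c : ℕ) : ℤ) - 2 ≤ S := by
    rw [hgz] at hlow
    push_cast at hlow ⊢
    linarith
  have hnonneg : (0 : ℤ) ≤ ((2 ^ b : ℕ) : ℤ) - ((2 ^ c : ℕ) : ℤ) - 2 := by
    have h1 : (0 : ℤ) ≤ ((2 ^ c : ℕ) : ℤ) := by positivity
    nlinarith [sq_nonneg (((2 ^ c : ℕ) : ℤ))]
  calc (((2 ^ b : ℕ) : ℤ) - ((2 ^ c : ℕ) : ℤ) - 2) ^ 2 ≤ S ^ 2 :=
        pow_le_pow_left₀ hnonneg hlow' 2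
    _ ≤ _ := hCS

end Ctx

section

variable {G : Type u} [Group G] [Fintype G] [IsSimpleGroup G]

/-- **The shape of a simple group of order `p q^b g` with `g < p - 1`.** -/
theorem main_shape (hG : ¬ IsMulCommutative G) {p q b g : ℕ} [hp : Fact p.Prime]
    (H : Hyp G p q b g) :
    q = 2 ∧ ((∃ a : ℕ, p + 1 = 2 ^ a ∧ 2 * g + 1 = p ∧ b = a) ∨
      (∃ a : ℕ, p = 2 ^ a + 1 ∧ g + 2 = p ∧ b = a) ∨
      (∃ c : ℕ, 2 ≤ c ∧ p = 2 ^ (c + 1) + 1 ∧ g = 2 ^ c + 1 ∧ b = c + 1)) := by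
  obtain ⟨e, n, ⟨K⟩⟩ := exists_ctx hG H
  rcases K.c.hε with hε | hε
  · obtain ⟨hq2, a, h1, h2, h3⟩ := K.A1_end hG H hε
    exact ⟨hq2, Or.inl ⟨a, h1, h2, h3⟩⟩
  · obtain ⟨hge, hq2, c, hc1, hcb, hec, hpb⟩ := K.A2_arith hG H hε
    refine ⟨hq2, Or.inr ?_⟩
    rcases Nat.lt_or_ge c 2 with hc | hc
    · have hc1' : c = 1 := by omega
      rw [hc1', pow_one] at hec
      left
      exact K.A2_c1 hG H hε hec
    · right
      obtain ⟨h1, h2, h3⟩ := K.A2_c2 hG H hε hc hec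
      exact ⟨c, hc, h1, h2, h3⟩

end

end Cfsg.Agent.Lib.Helper6.BT
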