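import Mathlib
import Cfsg.Agent.Lib.Helper6.BT9

/-!
# Brauer–Tuan: the order is less than `p ^ 3`
-/

set_option autoImplicit false
set_option maxHeartbeats 1600000
set_option linter.unusedSectionVars false
set_option linter.unusedVariables false

namespace Cfsg.Agent.Lib.Helper6.BT

open Cfsg

universe u

/-- a simple group which is not cyclic is not commutative -/
theorem not_comm_of_not_cyclic {G : Type*} [Group G] [IsSimpleGroup G] (hG : ¬ IsCyclic G) :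
    ¬ IsMulCommutative G := by
  intro h
  apply hG
  have hnt : Nontrivial G := IsSimpleGroup.toNontrivial
  obtain ⟨x, hx⟩ := exists_ne (1 : G)
  have hnorm : (Subgroup.zpowers x).Normal := ⟨fun n hn g => by
    have : g * n * g⁻¹ = n := by
      rw [h.is_comm.comm g n, mul_assoc, mul_inv_cancel, mul_one]
    rwa [this]⟩
  have htop : Subgroup.zpowers x = ⊤ :=
    (hnorm.eq_bot_or_eq_top).resolve_left (Subgroup.zpowers_ne_bot.2 hx)
  exact ⟨⟨x, (Subgroup.eq_top_iff' _).1 htop⟩⟩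

/-- **Brauer–Tuan, arithmetic form.** A non-cyclic simple group of order `p q^b g` with
`q ∤ g` and `g < p - 1` has `q = 2`, order less than `p ^ 3`, and `p = 2 ^ m ± 1`. -/
theorem brauer_tuan_shape {G : Type u} [Group G] [Finite G] [IsSimpleGroup G] (hG : ¬ IsCyclic G)
    {p q b g : ℕ} (hp : p.Prime) (hq : q.Prime) (hpq : p ≠ q)
    (hcard : Nat.card G = p * q ^ b * g) (hqg : ¬ q ∣ g) (hg : g + 1 < p) :
    q = 2 ∧ ((∃ a : ℕ, p + 1 = 2 ^ a ∧ 2 * g + 1 = p ∧ b = a) ∨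
      (∃ a : ℕ, p = 2 ^ a + 1 ∧ g + 2 = p ∧ b = a) ∨
      (∃ c : ℕ, 2 ≤ c ∧ p = 2 ^ (c + 1) + 1 ∧ g = 2 ^ c + 1 ∧ b = c + 1)) := by
  classical
  have : Fintype G := Fintype.ofFinite G
  have : Fact p.Prime := ⟨hp⟩
  exact main_shape (not_comm_of_not_cyclic hG) ⟨hp, hq, hpq, hcard, hqg, hg⟩

/-- the order is less than `p ^ 3` and `p = 2 ^ m ± 1` -/
theorem brauer_tuan_small {G : Type u} [Group G] [Finite G] [IsSimpleGroup G] (hG : ¬ IsCyclic G)
    {p q b g : ℕ} (hp : p.Prime) (hq : q.Prime) (hpq : p ≠ q)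
    (hcard : Nat.card G = p * q ^ b * g) (hqg : ¬ q ∣ g) (hg : g + 1 < p) :
    Nat.card G < p ^ 3 ∧ ∃ m : ℕ, p = 2 ^ m + 1 ∨ p = 2 ^ m - 1 := by
  obtain ⟨hq2, h | h | h⟩ := brauer_tuan_shape hG hp hq hpq hcard hqg hg
  · obtain ⟨a, h1, h2, h3⟩ := h
    refine ⟨?_, a, Or.inr (by omega)⟩
    rw [hcard, hq2, h3, ← h1, ← h2]
    calc (2 * g + 1) * (2 * g + 1 + 1) * g = (2 * g + 1) * ((2 * g + 2) * g) := by ring
      _ < (2 * g + 1) * ((2 * g + 1) ^ 2) :=
          Nat.mul_lt_mul_of_pos_left (by nlinarith) (by omega)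
      _ = (2 * g + 1) ^ 3 := by ring
  · obtain ⟨a, h1, h2, h3⟩ := h
    refine ⟨?_, a, Or.inl h1⟩
    have h4 : 2 ^ a = g + 1 := by omega
    rw [hcard, hq2, h3, h4, ← h2]
    nlinarith
  · obtain ⟨c, hc, h1, h2, h3⟩ := h
    refine ⟨?_, c + 1, Or.inl h1⟩
    rw [hcard, hq2, h3, h1, h2, pow_succ]
    generalize 2 ^ c = w
    calc (w * 2 + 1) * (w * 2) * (w + 1) = (w * 2 + 1) * ((w * 2) * (w + 1)) := by ring
      _ < (w * 2 + 1) * ((w * 2 + 1) ^ 2) :=
          Nat.mul_lt_mul_of_pos_left (by nlinarith) (by omega)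
      _ = (w * 2 + 1) ^ 3 := by ring

end Cfsg.Agent.Lib.Helper6.BT
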