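import Mathlib
import Cfsg.Prelude.Def_Blocks
import Cfsg.Agent.Lib.Helper8.BlockLocal
import Cfsg.Agent.Lib.Helper8.PIdem2
import Cfsg.Agent.Lib.Helper5.IdemPL
import Cfsg.Agent.Lib.Helper4.Characters
import Cfsg.Agent.Lib.Helper1.CharFound3
import Cfsg.Agent.Lib.Lead.BrandtDefs
import Cfsg.Agent.Lib.Lead.Brandt_B3

/-!
# S4607 (Brandt), package B6: the characters of an idempotent of the complex group algebra

For `f` in `ℂG` and an irreducible character `χ` put `m χ = evalC χ f = ∑ g, f g * χ g`.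
* `evalC_idem_nat`: for an idempotent `f` this is a natural number (trace of an idempotent);
* `sum_evalC_sq`: `∑ χ, (m χ)^2 = dim f ℂG f`;
* `evalC_eq_zero_of_not_mem`: `m χ = 0` when `f = f e_B` and `χ ∉ B`;
* `sum_evalC_mul_singular`: `∑ χ, m χ * conj (χ g) = 0` for `p`-singular `g` when `f` has local
  coefficients.
-/

set_option autoImplicit false

open Cfsg Cfsg.Agent.Lib.Helper8

namespace Cfsg.Agent.Lib.Lead.Brandt

open scoped ComplexConjugate
open Cfsg.Agent.Lib.Helper4 Cfsg.Agent.Lib.Helper1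

section B6aux

variable {G : Type*} [Group G] [Fintype G]

/-- the class function `w ↦ ∑ x, f (x w⁻¹ x⁻¹)` -/
noncomputable def brandtB6F (f : MonoidAlgebra ℂ G) : G → ℂ :=
  fun w => ∑ x : G, f.coeff (x * w⁻¹ * x⁻¹)

theorem brandtB6F_isClassFunction (f : MonoidAlgebra ℂ G) : IsClassFunction G (brandtB6F f) := by
  intro g h
  unfold brandtB6F
  rw [← Equiv.sum_comp (Equiv.mulRight h) (fun x => f.coeff (x * g⁻¹ * x⁻¹))]
  refine Finset.sum_congr rfl (fun x _ => ?_)
  congr 1
  simp only [Equiv.coe_mulRight]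
  group

theorem brandtB6_classInner (f : MonoidAlgebra ℂ G) (χ : IrrCharacter G) :
    classInner (brandtB6F f) (χ : G → ℂ) = evalC (χ : G → ℂ) f := by
  have hG0 : (Nat.card G : ℂ) ≠ 0 := Nat.cast_ne_zero.2 Nat.card_pos.ne'
  have hcl := isClassFunction_irr χ.2
  have hch := isCharacter_of_irr χ.2
  rw [classInner_def]
  unfold brandtB6F
  simp only [Finset.sum_mul]
  rw [Finset.sum_comm]
  have key : ∀ x : G, ∑ w : G, f.coeff (x * w⁻¹ * x⁻¹) * conj ((χ : G → ℂ) w)
      = evalC (χ : G → ℂ) f := by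
    intro x
    unfold evalC
    let e : G ≃ G := (Equiv.inv G).trans ((Equiv.mulLeft x⁻¹).trans (Equiv.mulRight x))
    rw [← Equiv.sum_comp e (fun w => f.coeff (x * w⁻¹ * x⁻¹) * conj ((χ : G → ℂ) w))]
    refine Finset.sum_congr rfl (fun v _ => ?_)
    have he : e v = x⁻¹ * v⁻¹ * x := rfl
    rw [he]
    have h1 : x * (x⁻¹ * v⁻¹ * x)⁻¹ * x⁻¹ = v := by group
    have h2 : (χ : G → ℂ) (x⁻¹ * v⁻¹ * x) = (χ : G → ℂ) v⁻¹ := by
      have := hcl v⁻¹ x⁻¹
      rwa [inv_inv] at this
    rw [h1, h2, isCharacter_inv hch v, Complex.conj_conj]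
  rw [Finset.sum_congr rfl (fun x _ => key x), Finset.sum_const, Finset.card_univ,
    ← Nat.card_eq_fintype_card, nsmul_eq_mul, ← mul_assoc, inv_mul_cancel₀ hG0, one_mul]

/-- the expansion of `brandtB6F f` in irreducible characters -/
theorem brandtB6F_eq [Fintype (IrrCharacter G)] (f : MonoidAlgebra ℂ G) (w : G) :
    ∑ x : G, f.coeff (x * w⁻¹ * x⁻¹) = ∑ χ : IrrCharacter G, evalC (χ : G → ℂ) f * (χ : G → ℂ) w := by
  have h := class_function_expansion (brandtB6F f) (brandtB6F_isClassFunction f)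
  have h1 := congrFun h w
  rw [Finset.sum_apply] at h1
  simp only [Pi.smul_apply, smul_eq_mul, brandtB6_classInner] at h1
  exact h1

/-- convolution form of idempotency -/
theorem brandtB6_conv (f : MonoidAlgebra ℂ G) (hf : IsIdempotentElem f) (w : G) :
    ∑ u : G, f.coeff u * f.coeff (u⁻¹ * w) = f.coeff w := by
  have h : (f * f).coeff w = f.coeff w := by rw [hf.eq]
  rw [MonoidAlgebra.coeff_mul_apply_left, Finsupp.sum_fintype] at h
  · exact h
  · intro i; simp

omit [Fintype G] in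
/-- an operator commuting with an irreducible representation and of trace zero is zero -/
theorem brandtB6_schur_zero {n : ℕ} (ρ : Representation ℂ G (Fin n → ℂ)) (hirr : ρ.IsIrreducible)
    (A : Module.End ℂ (Fin n → ℂ)) (hA : ∀ h, A * ρ h = ρ h * A)
    (htr : LinearMap.trace ℂ (Fin n → ℂ) A = 0) : A = 0 := by
  have := hirr
  let T : Representation.IntertwiningMap ρ ρ :=
    { toLinearMap := A
      isIntertwining' := fun h => by
        rw [← Module.End.mul_eq_comp, ← Module.End.mul_eq_comp]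
        exact hA h }
  obtain ⟨c, hc⟩ := (Representation.IsIrreducible.algebraMap_intertwiningMap_bijective_of_isAlgClosed
    (ρ := ρ)).2 T
  have h1 := congrArg Representation.IntertwiningMap.toLinearMap hc
  rw [Representation.IntertwiningMap.algebraMap_apply] at h1
  have hAc : A = c • LinearMap.id := h1.symm
  have hχ1 : ρ.character 1 ≠ 0 := irr_apply_one_ne_zero ⟨n, ρ, hirr, rfl⟩
  rw [Representation.char_one] at hχ1
  rw [hAc, map_smul, LinearMap.trace_id, smul_eq_mul] at htr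
  rcases mul_eq_zero.1 htr with h | h
  · rw [hAc, h, zero_smul]
  · exact absurd h hχ1

end B6aux

section B
variable {M : Ideal AlgInt} (hMp : M.IsPrime) {k : Type*} [Field k]
  (res : ↥(localRing M hMp) →+* k)
  {G : Type*} [Group G] [Fintype G]

/-- B6: multiplicities of an idempotent of `ℂG`.  -/
theorem evalC_idem_nat [Fintype (IrrCharacter G)] (f : MonoidAlgebra ℂ G) (hf : IsIdempotentElem f)
    (χ : IrrCharacter G) : ∃ n : ℕ, evalC (χ : G → ℂ) f = n := by
  obtain ⟨n, ρ, _, hρ⟩ := χ.2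
  refine ⟨Module.finrank ℂ (LinearMap.range (ρ.asAlgebraHom f)), ?_⟩
  have hT : ρ.asAlgebraHom f * ρ.asAlgebraHom f = ρ.asAlgebraHom f := by rw [← map_mul, hf.eq]
  rw [← PIdem.trace_idem _ hT, PIdem.trace_asAlgebraHom, hρ]
  rfl

theorem sum_evalC_sq [Fintype (IrrCharacter G)] (f : MonoidAlgebra ℂ G) (hf : IsIdempotentElem f) :
    ∑ χ : IrrCharacter G, evalC (χ : G → ℂ) f ^ 2 = (Module.finrank ℂ ↥(corner ℂ f) : ℂ) := by
  classical
  set L : Module.End ℂ (MonoidAlgebra ℂ G) :=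
    (LinearMap.mulLeft ℂ f).comp (LinearMap.mulRight ℂ f) with hL
  have hLL : L * L = L := by
    apply LinearMap.ext
    intro x
    simp only [hL, Module.End.mul_apply, LinearMap.comp_apply, LinearMap.mulLeft_apply,
      LinearMap.mulRight_apply]
    calc f * (f * (x * f) * f) = (f * f) * x * (f * f) := by simp only [mul_assoc]
      _ = f * (x * f) := by rw [hf.eq, mul_assoc]
  have hcorner : corner ℂ f = LinearMap.range L := rfl
  rw [hcorner, ← PIdem.trace_idem L hLL]
  rw [LinearMap.trace_eq_matrix_trace ℂ (MonoidAlgebra.basis G ℂ) L, Matrix.trace]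
  have hdiag : ∀ g : G, Matrix.diag (LinearMap.toMatrix (MonoidAlgebra.basis G ℂ)
      (MonoidAlgebra.basis G ℂ) L) g = ∑ u : G, f.coeff u * f.coeff (g⁻¹ * (u⁻¹ * g)) := by
    intro g
    rw [Matrix.diag_apply, LinearMap.toMatrix_apply, MonoidAlgebra.basis_apply]
    have : ((MonoidAlgebra.basis G ℂ).repr (L (MonoidAlgebra.single g 1))) g
        = (L (MonoidAlgebra.single g 1)).coeff g := rfl
    rw [this]
    simp only [hL, LinearMap.comp_apply, LinearMap.mulLeft_apply, LinearMap.mulRight_apply]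
    rw [MonoidAlgebra.coeff_mul_apply_left, Finsupp.sum_fintype]
    · refine Finset.sum_congr rfl (fun u _ => ?_)
      rw [MonoidAlgebra.coeff_single_mul_apply, one_mul]
    · intro i; simp
  rw [Finset.sum_congr rfl (fun g _ => hdiag g), Finset.sum_comm]
  have hin : ∀ u : G, ∑ g : G, f.coeff u * f.coeff (g⁻¹ * (u⁻¹ * g))
      = f.coeff u * ∑ χ : IrrCharacter G, evalC (χ : G → ℂ) f * (χ : G → ℂ) u := by
    intro u
    rw [← Finset.mul_sum, ← brandtB6F_eq f u]
    congr 1
    rw [← Equiv.sum_comp (Equiv.inv G) (fun x => f.coeff (x * u⁻¹ * x⁻¹))]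
    refine Finset.sum_congr rfl (fun g _ => ?_)
    simp only [Equiv.inv_apply, inv_inv, mul_assoc]
  rw [Finset.sum_congr rfl (fun u _ => hin u)]
  simp only [Finset.mul_sum]
  rw [Finset.sum_comm]
  refine Finset.sum_congr rfl (fun χ _ => ?_)
  rw [sq]
  have h3 : ∑ u : G, f.coeff u * (evalC (χ : G → ℂ) f * (χ : G → ℂ) u)
      = evalC (χ : G → ℂ) f * ∑ u : G, f.coeff u * (χ : G → ℂ) u := by
    rw [Finset.mul_sum]
    refine Finset.sum_congr rfl (fun u _ => ?_)
    ring
  rw [h3]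
  rfl

theorem evalC_eq_zero_of_not_mem [Fintype (IrrCharacter G)] (B : Set (IrrCharacter G))
    (f eB : MonoidAlgebra ℂ G) (heB : ∀ g, eB.coeff g = blockCoeff B g) (hf : f * eB = f)
    (χ : IrrCharacter G) (hχ : χ ∉ B) : evalC (χ : G → ℂ) f = 0 := by
  classical
  obtain ⟨n, ρ, hirr, hρ⟩ := χ.2
  have hG0 : (Nat.card G : ℂ) ≠ 0 := Nat.cast_ne_zero.2 Nat.card_pos.ne'
  -- `eB` is central
  have hcl : ∀ g h : G, eB.coeff (h * g * h⁻¹) = eB.coeff g := by
    intro g h
    rw [heB, heB]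
    unfold blockCoeff
    congr 1
    refine finsum_mem_congr rfl (fun ψ _ => ?_)
    rw [isClassFunction_irr ψ.2 g h]
  have hcen := central_of_coeff_conj hcl
  -- the operator of `eB` commutes with `ρ`
  have hcomm : ∀ h, ρ.asAlgebraHom eB * ρ h = ρ h * ρ.asAlgebraHom eB := by
    intro h
    rw [← Representation.asAlgebraHom_single_one ρ h, ← map_mul, ← map_mul, hcen]
  -- its trace vanishes
  have htr : LinearMap.trace ℂ (Fin n → ℂ) (ρ.asAlgebraHom eB) = 0 := by
    rw [PIdem.trace_asAlgebraHom, hρ]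
    have hbc : ∀ w : G, eB.coeff w = (Nat.card G : ℂ)⁻¹ *
        ∑ ψ ∈ (Set.toFinite B).toFinset, (ψ : G → ℂ) 1 * conj ((ψ : G → ℂ) w) := by
      intro w
      rw [heB]
      unfold blockCoeff
      rw [finsum_mem_eq_finite_toFinset_sum _ (Set.toFinite B)]
    simp only [hbc, Finset.mul_sum, Finset.sum_mul]
    rw [Finset.sum_comm]
    refine Finset.sum_eq_zero (fun ψ hψ => ?_)
    have hψB : ψ ∈ B := by simpa using hψ
    have hne : (χ : G → ℂ) ≠ (ψ : G → ℂ) := by
      intro h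
      apply hχ
      have : χ = ψ := Subtype.ext h
      rw [this]; exact hψB
    have h0 := classInner_irr_ne χ.2 ψ.2 hne
    rw [classInner_def] at h0
    have h1 : ∑ g : G, (χ : G → ℂ) g * conj ((ψ : G → ℂ) g) = 0 := by
      rcases mul_eq_zero.1 h0 with h | h
      · exact absurd (inv_eq_zero.1 h) hG0
      · exact h
    calc ∑ w : G, (Nat.card G : ℂ)⁻¹ * ((ψ : G → ℂ) 1 * conj ((ψ : G → ℂ) w)) * (χ : G → ℂ) w
        = (Nat.card G : ℂ)⁻¹ * (ψ : G → ℂ) 1 * ∑ w : G, (χ : G → ℂ) w * conj ((ψ : G → ℂ) w) := by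
          rw [Finset.mul_sum]
          refine Finset.sum_congr rfl (fun w _ => ?_)
          ring
      _ = 0 := by rw [h1, mul_zero]
  have hzero := brandtB6_schur_zero ρ hirr (ρ.asAlgebraHom eB) hcomm htr
  have h2 : evalC (χ : G → ℂ) f = LinearMap.trace ℂ (Fin n → ℂ) (ρ.asAlgebraHom f) := by
    rw [PIdem.trace_asAlgebraHom, hρ]
    rfl
  rw [h2, ← hf, map_mul, hzero, mul_zero, map_zero]

theorem sum_evalC_mul_singular [Fintype (IrrCharacter G)] {p : ℕ} [Fact p.Prime]
    (hM : IsPModular p M) (f : MonoidAlgebra ℂ G) (hf : IsIdempotentElem f)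
    (hloc : ∀ g, MemLocalRing M (f.coeff g)) (g : G) (hg : p ∣ orderOf g) :
    ∑ χ : IrrCharacter G, evalC (χ : G → ℂ) f * (starRingEnd ℂ) ((χ : G → ℂ) g) = 0 := by
  have h0 := Cfsg.Agent.Lib.Helper5.IdemPL.sum_conj_eq_zero_of_idem hM (fun g => f.coeff g) hloc
    (brandtB6_conv f hf) g hg
  have h1 := brandtB6F_eq f g⁻¹
  rw [inv_inv] at h1
  rw [h0] at h1
  rw [h1]
  refine Finset.sum_congr rfl (fun χ _ => ?_)
  rw [isCharacter_inv (isCharacter_of_irr χ.2) g]

end B

end Cfsg.Agent.Lib.Lead.Brandt
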