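import Mathlib
import Cfsg.Agent.Lib.Helper2.WittHerm

set_option autoImplicit false

namespace Cfsg.Agent.Lib.C6PkU.U3

open Module Cfsg.Agent.Lib.Helper5.PSLCoset Cfsg.Agent.Lib.Helper2

section abs

variable {F : Type*} [Field F] {σ : F ≃+* F} {V : Type*} [AddCommGroup V] [Module F V]
  {H : V → V → F}

/-- eigenvectors of an isometry for `a`, `b` with `a * σ b ≠ 1` are orthogonal -/
theorem eig_ortho (h : IsHerm σ H) (X : V →ₗ[F] V) (hX : ∀ u v, H (X u) (X v) = H u v)
    {a b : F} (hab : a * σ b ≠ 1) {u v : V} (hu : X u = a • u) (hv : X v = b • v) :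
    H u v = 0 := by
  have h1 := hX u v
  rw [hu, hv, h.smul_left, h.smul_right] at h1
  by_contra hne
  apply hab
  have h2 : (a * σ b - 1) * H u v = 0 := by linear_combination h1
  rcases mul_eq_zero.1 h2 with h3 | h3
  · linear_combination h3
  · exact absurd h3 hne

/-- the projection onto the `a`-eigenspace of an operator of order three -/
noncomputable def pr (X : V →ₗ[F] V) (a : F) : V →ₗ[F] V :=
  (3 : F)⁻¹ • (LinearMap.id + a ^ 2 • X + a • (X ∘ₗ X))

theorem pr_apply (X : V →ₗ[F] V) (a : F) (v : V) :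
    pr X a v = (3 : F)⁻¹ • (v + a ^ 2 • X v + a • X (X v)) := rfl

theorem X_pr (X : V →ₗ[F] V) (hX3 : ∀ v, X (X (X v)) = v) {a : F} (ha : a ^ 3 = 1) (v : V) :
    X (pr X a v) = a • pr X a v := by
  rw [pr_apply]
  simp only [map_smul, map_add, hX3]
  linear_combination (norm := module) (-(3 : F)⁻¹) • (ha • X v)

theorem pr_sum (h3 : (3 : F) ≠ 0) (X : V →ₗ[F] V) {ω : F} (hω : ω ^ 2 + ω + 1 = 0) (v : V) :
    pr X 1 v + pr X ω v + pr X (ω ^ 2) v = v := by
  simp only [pr_apply]
  have h4 : ω ^ 4 = ω := by linear_combination (ω ^ 2 - ω) * hω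
  have h33 : (3 : F)⁻¹ * 3 = 1 := inv_mul_cancel₀ h3
  linear_combination (norm := module) (h33 • v) + ((3 : F)⁻¹) • (hω • X v)
    + ((3 : F)⁻¹) • (hω • X (X v)) + ((3 : F)⁻¹) • ((h4 • X v))

theorem pr_eig (h3 : (3 : F) ≠ 0) (X : V →ₗ[F] V) {a : F} (ha : a ^ 3 = 1) {v : V}
    (hv : X v = a • v) : pr X a v = v := by
  rw [pr_apply, hv, map_smul, hv]
  have h33 : (3 : F)⁻¹ * 3 = 1 := inv_mul_cancel₀ h3
  linear_combination (norm := module) (h33 • v) + (2 * (3 : F)⁻¹) • (ha • v)

theorem pr_adj (h : IsHerm σ H) (X : V →ₗ[F] V) (hX3 : ∀ v, X (X (X v)) = v)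
    (hX : ∀ u v, H (X u) (X v) = H u v) {a : F} (ha : a ^ 3 = 1) (hσa : σ a = a) (u v : V) :
    H (pr X a u) v = H u (pr X (a ^ 2) v) := by
  have e1 : H (X u) v = H u (X (X v)) := by
    have := hX u (X (X v))
    rw [hX3] at this
    exact this
  have e2 : H (X (X u)) v = H u (X v) := by
    have := hX (X u) (X (X v))
    rw [hX3] at this
    rw [this, hX]
  rw [pr_apply, pr_apply, h.smul_left, h.add_left, h.add_left, h.smul_left, h.smul_left,
    h.smul_right, h.add_right, h.add_right, h.smul_right, h.smul_right, e1, e2]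
  simp only [map_inv₀, map_ofNat, map_pow, hσa]
  linear_combination (-(3 : F)⁻¹ * a * H u (X v)) * ha

/-- the eigenspace, as a kernel -/
def eig (X : V →ₗ[F] V) (a : F) : Submodule F V := LinearMap.ker (X - a • LinearMap.id)

theorem mem_eig {X : V →ₗ[F] V} {a : F} {v : V} : v ∈ eig X a ↔ X v = a • v := by
  simp [eig, sub_eq_zero]

/-- expansion in a basis of a subspace with a dual family -/
theorem coord_of_dual (h : IsHerm σ H) {k : ℕ} (U : Submodule F V) (b : Basis (Fin k) F U)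
    (g : Fin k → V) (hbg : ∀ i j, H (b i : V) (g j) = if i = j then 1 else 0) (z : U) :
    (z : V) = ∑ j, H (z : V) (g j) • (b j : V) := by
  classical
  have hz : (z : V) = ∑ i, (b.repr z i) • (b i : V) := by
    have h1 : ((∑ i, (b.repr z i) • b i : U) : V) = (z : V) := congrArg Subtype.val (b.sum_repr z)
    rw [Submodule.coe_sum] at h1
    rw [← h1]
    rfl
  have hc : ∀ j, H (z : V) (g j) = b.repr z j := by
    intro j
    rw [hz, HermDecomp.sum_left h]
    simp only [hbg, mul_ite, mul_one, mul_zero]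
    rw [Finset.sum_ite_eq' Finset.univ j]
    simp
  simp only [hc]
  exact hz

/-- the adapted frame of a unitary operator of order three, the cube roots of unity fixed by `σ` -/
theorem exists_frame [Finite F] [FiniteDimensional F V] (hσ : orderOf σ = 2) (h : IsHerm σ H)
    (hnd : ∀ v, (∀ w, H v w = 0) → v = 0) (h3 : (3 : F) ≠ 0) (ω : F) (hω : ω ^ 2 + ω + 1 = 0)
    (hσω : σ ω = ω) (X : V →ₗ[F] V) (hX3 : ∀ v, X (X (X v)) = v)
    (hX : ∀ u v, H (X u) (X v) = H u v) :
    ∃ (d m : ℕ) (u : Fin d → V) (e f : Fin m → V),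
      (∀ i, X (u i) = u i) ∧ (∀ i, X (e i) = ω • e i) ∧ (∀ i, X (f i) = ω ^ 2 • f i) ∧
      (∀ i j, H (u i) (u j) = if i = j then 1 else 0) ∧
      (∀ i j, H (e i) (f j) = if i = j then 1 else 0) ∧
      ∀ v, v = ∑ j, H v (u j) • u j + ∑ i, H v (f i) • e i + ∑ i, H v (e i) • f i := by
  classical
  have hσ2 := WittHerm.sigma_sigma hσ
  have hω3 : ω ^ 3 = 1 := by linear_combination (ω - 1) * hω
  have hω23 : (ω ^ 2) ^ 3 = 1 := by
    rw [← pow_mul, mul_comm, pow_mul, hω3, one_pow]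
  have hω4 : (ω ^ 2) ^ 2 = ω := by linear_combination (ω ^ 2 - ω) * hω
  have hω1 : ω ≠ 1 := by
    intro h1
    apply h3
    rw [h1] at hω
    linear_combination hω
  have hω21 : ω ^ 2 ≠ 1 := by
    intro h1
    apply h3
    have h5 : ω = -2 := by linear_combination hω - h1
    rw [h5] at h1
    linear_combination h1
  have hσω2 : σ (ω ^ 2) = ω ^ 2 := by rw [map_pow, hσω]
  have hdec : ∀ v, pr X 1 v + pr X ω v + pr X (ω ^ 2) v = v := pr_sum h3 X hω
  have hX1 : ∀ v, X (pr X 1 v) = (1 : F) • pr X 1 v := X_pr X hX3 (one_pow 3)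
  have hXω : ∀ v, X (pr X ω v) = ω • pr X ω v := X_pr X hX3 hω3
  have hXω2 : ∀ v, X (pr X (ω ^ 2) v) = ω ^ 2 • pr X (ω ^ 2) v := X_pr X hX3 hω23
  -- the fixed space is non-degenerate
  have hnd1 : ∀ z : eig X 1, (∀ w : eig X 1, H (z : V) (w : V) = 0) → z = 0 := by
    intro z hz
    apply Subtype.ext
    show (z : V) = 0
    apply hnd
    intro w
    have hz1 : X (z : V) = (1 : F) • (z : V) := mem_eig.1 z.2
    rw [← hdec w, h.add_right, h.add_right]
    have t1 : H (z : V) (pr X 1 w) = 0 := hz ⟨pr X 1 w, mem_eig.2 (hX1 w)⟩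
    have t2 : H (z : V) (pr X ω w) = 0 :=
      eig_ortho h X hX (by rw [one_mul, hσω]; exact hω1) hz1 (hXω w)
    have t3 : H (z : V) (pr X (ω ^ 2) w) = 0 :=
      eig_ortho h X hX (by rw [one_mul, hσω2]; exact hω21) hz1 (hXω2 w)
    rw [t1, t2, t3, add_zero, add_zero]
  obtain ⟨bu, hbu⟩ := HermDecomp.exists_onb (V := eig X 1)
      (H := fun x y : eig X 1 => H (x : V) (y : V)) hσ
      (HermDecomp.isHerm_restrict h (eig X 1)) hnd1 (k := finrank F (eig X 1)) rfl
  -- a basis of the `ω`-eigenspace and its dual family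
  set be : Basis (Fin (finrank F (eig X ω))) F (eig X ω) := Module.finBasis F (eig X ω) with hbe
  let l : Fin (finrank F (eig X ω)) → Module.Dual F V := fun j =>
    (be.coord j) ∘ₗ (LinearMap.codRestrict (eig X ω) (pr X ω) (fun v => mem_eig.2 (hXω v)))
  choose w hw using fun j => WittHerm.riesz hσ h hnd (l j)
  have hbeX : ∀ i, X (be i : V) = ω • (be i : V) := fun i => mem_eig.1 (be i).2
  have hbuX : ∀ i, X (bu i : V) = (1 : F) • (bu i : V) := fun i => mem_eig.1 (bu i).2
  have hfX : ∀ j, X (pr X (ω ^ 2) (w j)) = ω ^ 2 • pr X (ω ^ 2) (w j) := fun j => hXω2 (w j)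
  have hef : ∀ i j, H (be i : V) (pr X (ω ^ 2) (w j)) = if i = j then 1 else 0 := by
    intro i j
    rw [← pr_adj h X hX3 hX hω3 hσω, pr_eig h3 X hω3 (hbeX i), hw j]
    show be.coord j ⟨pr X ω (be i : V), _⟩ = _
    have h1 : (⟨pr X ω (be i : V), mem_eig.2 (hXω _)⟩ : eig X ω) = be i :=
      Subtype.ext (pr_eig h3 X hω3 (hbeX i))
    rw [h1, Basis.coord_apply, Basis.repr_self, Finsupp.single_apply]
  refine ⟨finrank F (eig X 1), finrank F (eig X ω), fun j => (bu j : V), fun i => (be i : V),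
    fun j => pr X (ω ^ 2) (w j), ?_, hbeX, hfX, hbu, hef, ?_⟩
  · intro i
    rw [hbuX i, one_smul]
  intro v
  -- the three components
  have c1 : pr X 1 v = ∑ j, H v (bu j : V) • (bu j : V) := by
    have this : pr X 1 v = ∑ j, H (pr X 1 v) (bu j : V) • (bu j : V) :=
      coord_of_dual h (eig X 1) bu (fun j => (bu j : V)) hbu ⟨pr X 1 v, mem_eig.2 (hX1 v)⟩
    refine this.trans ?_
    apply Finset.sum_congr rfl
    intro j _
    show H (pr X 1 v) (bu j : V) • (bu j : V) = _
    rw [pr_adj h X hX3 hX (one_pow 3) (map_one σ), one_pow, pr_eig h3 X (one_pow 3) (hbuX j)]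
  have c2 : pr X ω v = ∑ i, H v (pr X (ω ^ 2) (w i)) • (be i : V) := by
    have this : pr X ω v = ∑ j, H (pr X ω v) (pr X (ω ^ 2) (w j)) • (be j : V) :=
      coord_of_dual h (eig X ω) be (fun j => pr X (ω ^ 2) (w j)) hef
        ⟨pr X ω v, mem_eig.2 (hXω v)⟩
    refine this.trans ?_
    apply Finset.sum_congr rfl
    intro j _
    show H (pr X ω v) (pr X (ω ^ 2) (w j)) • (be j : V) = _
    rw [pr_adj h X hX3 hX hω3 hσω, pr_eig h3 X hω23 (hfX j)]
  have c3 : pr X (ω ^ 2) v = ∑ i, H v (be i : V) • pr X (ω ^ 2) (w i) := by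
    have hco : ∀ i, H (pr X (ω ^ 2) v) (be i : V) = H v (be i : V) := by
      intro i
      rw [pr_adj h X hX3 hX hω23 hσω2, hω4, pr_eig h3 X hω3 (hbeX i)]
    set z := pr X (ω ^ 2) v with hz
    have hr : z - ∑ i, H z (be i : V) • pr X (ω ^ 2) (w i) = 0 := by
      set r := z - ∑ i, H z (be i : V) • pr X (ω ^ 2) (w i) with hrdef
      have hrX : X r = ω ^ 2 • r := by
        apply mem_eig.1
        apply Submodule.sub_mem
        · exact mem_eig.2 (hXω2 v)
        · apply Submodule.sum_mem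
          intro i _
          exact Submodule.smul_mem _ _ (mem_eig.2 (hfX i))
      have hfe : ∀ i k, H (pr X (ω ^ 2) (w i)) (be k : V) = if k = i then 1 else 0 := by
        intro i k
        rw [h.symm, hef k i]
        split_ifs <;> simp
      have hrb : ∀ k, H (be k : V) r = 0 := by
        intro k
        rw [h.symm, hrdef, h.sub_left, HermDecomp.sum_left h]
        simp only [hfe, mul_ite, mul_one, mul_zero]
        rw [Finset.sum_ite_eq Finset.univ k]
        simp
      apply hnd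
      intro y
      rw [← hdec y, h.add_right, h.add_right]
      have t1 : H r (pr X 1 y) = 0 :=
        eig_ortho h X hX (by rw [map_one, mul_one]; exact hω21) hrX (hX1 y)
      have t2 : H r (pr X ω y) = 0 := by
        rw [h.symm, HermDecomp.eq_zero_of_basis h (eig X ω) be r hrb _ (mem_eig.2 (hXω y)),
          map_zero]
      have t3 : H r (pr X (ω ^ 2) y) = 0 :=
        eig_ortho h X hX (by rw [hσω2, ← pow_two, hω4]; exact hω1) hrX (hXω2 y)
      rw [t1, t2, t3, add_zero, add_zero]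
    rw [sub_eq_zero] at hr
    rw [hr]
    apply Finset.sum_congr rfl
    intro i _
    rw [hco]
  conv_lhs => rw [← hdec v, c1, c2, c3]

end abs

end Cfsg.Agent.Lib.C6PkU.U3
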