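import Mathlib
import Cfsg.Prelude.Def_LieClassical
import Cfsg.Prelude.Def_GeometricClasses
import Cfsg.Agent.Lib.Helper1.C6PkU5a

set_option autoImplicit false
open scoped MatrixGroups

/-!
# PK-U5b of S6001 (helper9's `SU_4(p)` cluster): commuting elements of order five of `GU_4(p)`
generate a cyclic group.
-/

namespace Cfsg.Agent.Lib.C6PkU

namespace U5b

section ring

variable {R : Type*} [Ring R]

/-- the norm element `1 + c + c^2 + c^3 + c^4` -/
def nrm5 (c : R) : R := 1 + c + c ^ 2 + c ^ 3 + c ^ 4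

theorem mul_pow_red {Z U : R} (hU5 : U ^ 5 = 1) (hc : Commute Z U) (b k : ℕ) :
    (Z * U ^ b) ^ k = Z ^ k * U ^ ((b * k) % 5) := by
  rw [(hc.pow_right b).mul_pow k, ← pow_mul, pow_eq_pow_mod (b * k) hU5]

/-- the averaging identity over the six lines of `Z_5 × Z_5` -/
theorem nrm5_mul {Z U : R} (hU5 : U ^ 5 = 1) (hc : Commute Z U) :
    nrm5 Z * nrm5 U = nrm5 Z + nrm5 U + nrm5 (Z * U) + nrm5 (Z * U ^ 2) + nrm5 (Z * U ^ 3) +
      nrm5 (Z * U ^ 4) - 5 := by
  have e1 : Z * U = Z * U ^ 1 := by rw [pow_one]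
  have e5 : (5 : R) = 1 + 1 + 1 + 1 + 1 := by norm_num
  rw [e1]
  simp only [nrm5, mul_pow_red hU5 hc]
  norm_num
  rw [e5]
  noncomm_ring

end ring

end U5b

variable {F : Type*} [Field F] [Fintype F] {p : ℕ} [Fact p.Prime] [CharP F p]

/-- **PK-U5b** commuting elements of order five of `GU_4(p)` generate a cyclic group. -/
theorem gu4_order5_comm (hF : Fintype.card F = p ^ 2) (h5 : orderOf (p : ZMod 5) = 4)
    (z u : GL (Fin 4) F) (hzU : z ∈ Cfsg.GU 4 F p) (huU : u ∈ Cfsg.GU 4 F p)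
    (hz5 : z ^ 5 = 1) (hz1 : z ≠ 1) (hu5 : u ^ 5 = 1) (hzu : z * u = u * z) :
    ∃ i : ℕ, u = z ^ i := by
  by_contra hcon
  push Not at hcon
  have hu1 : u ≠ 1 := by
    have := hcon 0
    rwa [pow_zero] at this
  have hcomm : Commute z u := hzu
  have hne : ∀ b b' : ℕ, (b * b') % 5 = 1 → z * u ^ b ≠ 1 := by
    intro b b' hbb h1
    have h2 : u ^ b = z ^ 4 := by
      have h3 : z ^ 4 * (z * u ^ b) = z ^ 4 := by rw [h1, mul_one]
      rw [← mul_assoc, ← pow_succ, hz5, one_mul] at h3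
      exact h3
    apply hcon (4 * b')
    have h3 : u = u ^ (b * b') := by
      rw [pow_eq_pow_mod (b * b') hu5, hbb, pow_one]
    rw [h3, pow_mul, h2, ← pow_mul]
  have hpow5 : ∀ b, (z * u ^ b) ^ 5 = 1 := by
    intro b
    rw [(hcomm.pow_right b).mul_pow, hz5, ← pow_mul, mul_comm b 5, pow_mul, hu5, one_pow, mul_one]
  have hmemU : ∀ b, z * u ^ b ∈ Cfsg.GU 4 F p :=
    fun b => Subgroup.mul_mem _ hzU (Subgroup.pow_mem _ huU b)
  have hU5 : (u : Matrix (Fin 4) (Fin 4) F) ^ 5 = 1 := by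
    rw [← Units.val_pow_eq_pow_val, hu5, Units.val_one]
  have hZU : Commute (z : Matrix (Fin 4) (Fin 4) F) (u : Matrix (Fin 4) (Fin 4) F) := by
    have := congrArg Units.val hzu
    rw [Units.val_mul, Units.val_mul] at this
    exact this
  have nZ : U5b.nrm5 (z : Matrix (Fin 4) (Fin 4) F) = 0 := gu4_order5_fpf hF h5 z hzU hz5 hz1
  have nU : U5b.nrm5 (u : Matrix (Fin 4) (Fin 4) F) = 0 := gu4_order5_fpf hF h5 u huU hu5 hu1
  have nb : ∀ b b' : ℕ, (b * b') % 5 = 1 →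
      U5b.nrm5 ((z : Matrix (Fin 4) (Fin 4) F) * (u : Matrix (Fin 4) (Fin 4) F) ^ b) = 0 := by
    intro b b' hbb
    have := gu4_order5_fpf hF h5 (z * u ^ b) (hmemU b) (hpow5 b) (hne b b' hbb)
    rw [Units.val_mul, Units.val_pow_eq_pow_val] at this
    exact this
  have n1 : U5b.nrm5 ((z : Matrix (Fin 4) (Fin 4) F) * (u : Matrix (Fin 4) (Fin 4) F)) = 0 := by
    have := nb 1 1 (by norm_num)
    rwa [pow_one] at this
  have key := U5b.nrm5_mul hU5 hZU
  rw [nZ, nU, n1, nb 2 3 (by norm_num), nb 3 2 (by norm_num), nb 4 4 (by norm_num)] at key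
  have h50 : (5 : F) = 0 := by
    have h1 : (5 : Matrix (Fin 4) (Fin 4) F) = 0 := by
      have h2 : (0 : Matrix (Fin 4) (Fin 4) F) = 0 - 5 := by simpa using key
      rw [zero_sub] at h2
      exact neg_eq_zero.1 h2.symm
    have h3 := congrFun (congrFun h1 0) 0
    rw [Matrix.ofNat_apply, if_pos rfl] at h3
    exact_mod_cast h3
  have hp5 : p ∣ 5 := by
    apply (CharP.cast_eq_zero_iff F p 5).1
    exact_mod_cast h50
  have hpe : p = 5 := (Nat.prime_dvd_prime_iff_eq (Fact.out : p.Prime) (by norm_num)).1 hp5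
  exact u5a_p_ne_five h5 (by rw [hpe])

end Cfsg.Agent.Lib.C6PkU
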