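import Mathlib
import Cfsg.Prelude.Def_LieClassical
import Cfsg.Prelude.Def_GeometricClasses
import Cfsg.Agent.Lib.Helper6.C6PkU5b

set_option autoImplicit false
open scoped MatrixGroups

/-!
# PK-U5c of S6001 (helper9's `SU_4(p)` cluster): subgroups of order five of a subgroup of `GU_4(p)`
are conjugate in it (Sylow `5`-subgroups are cyclic).
-/

namespace Cfsg.Agent.Lib.C6PkU

namespace U5c

/-- the Sylow argument: if commuting elements of order five of a finite group `Γ` generate cyclic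
groups, the subgroups of order five of `Γ` are conjugate -/
theorem order5_conj_of_comm {G : Type*} [Group G] (Γ : Subgroup G) [Finite ↥Γ]
    (hkey : ∀ z u : G, z ∈ Γ → u ∈ Γ → z ^ 5 = 1 → z ≠ 1 → u ^ 5 = 1 → z * u = u * z →
      ∃ i : ℕ, u = z ^ i)
    (x y : G) (hx : x ∈ Γ) (hy : y ∈ Γ) (hx5 : x ^ 5 = 1) (hx1 : x ≠ 1)
    (hy5 : y ^ 5 = 1) (hy1 : y ≠ 1) :
    ∃ g ∈ Γ, ∃ k : ℕ, g⁻¹ * x * g = y ^ k := by
  classical
  have hfact : Fact (Nat.Prime 5) := ⟨by norm_num⟩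
  let x' : ↥Γ := ⟨x, hx⟩
  let y' : ↥Γ := ⟨y, hy⟩
  have hx'5 : x' ^ 5 = 1 := Subtype.ext (by simpa using hx5)
  have hy'5 : y' ^ 5 = 1 := Subtype.ext (by simpa using hy5)
  have hx'1 : x' ≠ 1 := fun h => hx1 (congrArg Subtype.val h)
  have hy'1 : y' ≠ 1 := fun h => hy1 (congrArg Subtype.val h)
  have hord : ∀ t : ↥Γ, t ^ 5 = 1 → t ≠ 1 → orderOf t = 5 := by
    intro t ht5 ht1
    have hd := orderOf_dvd_of_pow_eq_one ht5
    rcases (Nat.dvd_prime (by norm_num : Nat.Prime 5)).mp hd with h | h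
    · exact absurd (orderOf_eq_one_iff.mp h) ht1
    · exact h
  have hpx : IsPGroup 5 ↥(Subgroup.zpowers x') :=
    IsPGroup.of_card (n := 1) (by rw [Nat.card_zpowers, hord x' hx'5 hx'1, pow_one])
  have hpy : IsPGroup 5 ↥(Subgroup.zpowers y') :=
    IsPGroup.of_card (n := 1) (by rw [Nat.card_zpowers, hord y' hy'5 hy'1, pow_one])
  obtain ⟨Q, hQ⟩ := hpx.exists_le_sylow
  obtain ⟨Q', hQ'⟩ := hpy.exists_le_sylow
  obtain ⟨g, hg⟩ := MulAction.exists_smul_eq ↥Γ Q Q'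
  have hxQ : x' ∈ (Q : Subgroup ↥Γ) := hQ (Subgroup.mem_zpowers x')
  have hyQ' : y' ∈ (Q' : Subgroup ↥Γ) := hQ' (Subgroup.mem_zpowers y')
  set w : ↥Γ := g * x' * g⁻¹ with hw
  have hwQ' : w ∈ (Q' : Subgroup ↥Γ) := by
    rw [← hg, Sylow.smul_def, Sylow.pointwise_smul_def]
    have := Subgroup.smul_mem_pointwise_smul x' (MulAut.conj g) (Q : Subgroup ↥Γ) hxQ
    simpa [MulAut.smul_def, MulAut.conj_apply, hw] using this
  have hw5 : w ^ 5 = 1 := by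
    rw [hw, conj_pow, hx'5]; group
  -- a central element of order 5 in Q'
  have hQ'p : IsPGroup 5 ↥(Q' : Subgroup ↥Γ) := Q'.isPGroup'
  have hQ'nt : Nontrivial ↥(Q' : Subgroup ↥Γ) :=
    ⟨⟨⟨y', hyQ'⟩, 1, fun h => hy'1 (congrArg Subtype.val h)⟩⟩
  have hcnt : Nontrivial ↥(Subgroup.center ↥(Q' : Subgroup ↥Γ)) := hQ'p.center_nontrivial
  have hcp : IsPGroup 5 ↥(Subgroup.center ↥(Q' : Subgroup ↥Γ)) := hQ'p.to_subgroup _
  have hdvd : 5 ∣ Nat.card ↥(Subgroup.center ↥(Q' : Subgroup ↥Γ)) := by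
    rcases hcp.card_eq_or_dvd with h | h
    · exfalso
      have := Finite.one_lt_card (α := ↥(Subgroup.center ↥(Q' : Subgroup ↥Γ)))
      omega
    · exact h
  obtain ⟨c, hc⟩ := exists_prime_orderOf_dvd_card' 5 hdvd
  -- the element of G
  let z0 : G := (((c : ↥(Q' : Subgroup ↥Γ)) : ↥Γ) : G)
  have hz0Γ : z0 ∈ Γ := ((c : ↥(Q' : Subgroup ↥Γ)) : ↥Γ).2
  have hz05 : z0 ^ 5 = 1 := by
    have h1 : c ^ 5 = 1 := by
      have := pow_orderOf_eq_one c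
      rwa [hc] at this
    have h2 := congrArg (fun t : ↥(Subgroup.center ↥(Q' : Subgroup ↥Γ)) =>
      (((t : ↥(Q' : Subgroup ↥Γ)) : ↥Γ) : G)) h1
    simpa using h2
  have hz01 : z0 ≠ 1 := by
    intro h
    have hc1 : c = 1 := by
      apply Subtype.ext; apply Subtype.ext; apply Subtype.ext
      exact h
    rw [hc1, orderOf_one] at hc
    norm_num at hc
  have hcomm : ∀ t : ↥Γ, t ∈ (Q' : Subgroup ↥Γ) → z0 * (t : G) = (t : G) * z0 := by
    intro t ht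
    have h1 := Subgroup.mem_center_iff.mp c.2 ⟨t, ht⟩
    have h2 := congrArg (fun s : ↥(Q' : Subgroup ↥Γ) => ((s : ↥Γ) : G)) h1
    simpa using h2.symm
  obtain ⟨i, hi⟩ := hkey z0 (w : G) hz0Γ w.2 hz05 hz01
    (by simpa using congrArg Subtype.val hw5) (hcomm w hwQ')
  obtain ⟨j, hj⟩ := hkey z0 y hz0Γ hy hz05 hz01 hy5 (hcomm y' hyQ')
  -- invert j modulo 5
  have hcop : Nat.Coprime j 5 := by
    rw [Nat.coprime_comm, Nat.Prime.coprime_iff_not_dvd (by norm_num : Nat.Prime 5)]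
    rintro ⟨q, rfl⟩
    apply hy1
    rw [hj, pow_mul, hz05, one_pow]
  obtain ⟨m, -, hm⟩ := Nat.exists_mul_mod_eq_one_of_coprime hcop (by norm_num : 1 < 5)
  have hz0y : z0 = y ^ m := by
    rw [hj, ← pow_mul]
    have : j * m = 5 * (j * m / 5) + 1 := by
      have := Nat.div_add_mod (j * m) 5
      omega
    rw [this, pow_add, pow_mul, hz05, one_pow, one_mul, pow_one]
  refine ⟨((g⁻¹ : ↥Γ) : G), (g⁻¹).2, m * i, ?_⟩
  have hwv : (w : G) = (g : G) * x * (g : G)⁻¹ := by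
    rw [hw]; simp [x']
  rw [pow_mul, ← hz0y, ← hi, hwv]
  simp

end U5c

variable {F : Type*} [Field F] [Fintype F] {p : ℕ} [Fact p.Prime] [CharP F p]

/-- **PK-U5c** subgroups of order five of a subgroup `Γ` of `GU_4(p)` are conjugate in `Γ`. -/
theorem gu4_order5_conj (hF : Fintype.card F = p ^ 2) (h5 : orderOf (p : ZMod 5) = 4)
    (Γ : Subgroup (GL (Fin 4) F)) (hΓ : Γ ≤ Cfsg.GU 4 F p)
    (x y : GL (Fin 4) F) (hx : x ∈ Γ) (hy : y ∈ Γ) (hx5 : x ^ 5 = 1) (hx1 : x ≠ 1)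
    (hy5 : y ^ 5 = 1) (hy1 : y ≠ 1) :
    ∃ g ∈ Γ, ∃ k : ℕ, g⁻¹ * x * g = y ^ k := by
  classical
  have hfin : Finite ↥Γ := inferInstance
  exact U5c.order5_conj_of_comm Γ
    (fun z u hz hu hz5 hz1 hu5 hzu => gu4_order5_comm hF h5 z u (hΓ hz) (hΓ hu) hz5 hz1 hu5 hzu)
    x y hx hy hx5 hx1 hy5 hy1

end Cfsg.Agent.Lib.C6PkU
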