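import Mathlib

set_option autoImplicit false

namespace Cfsg.Agent.Lib.Helper6.Simp

/-! # The preimage of a copy of a group with trivial centre, under the quotient by a central
subgroup -/

section cext
variable {G P : Type*} [Group G] [Group P]

/-- a subgroup of the centre is normal -/
theorem normal_of_le_center {Z0 : Subgroup G} (hZc : Z0 ≤ Subgroup.center G) : Z0.Normal := by
  refine ⟨fun n hn g => ?_⟩
  have h := hZc hn
  rw [Subgroup.mem_center_iff] at h
  rw [h g, mul_inv_cancel_right]
  exact hn

/-- the preimage of the range of `β` -/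
def preim (Z0 : Subgroup G) [Z0.Normal] (β : P →* G ⧸ Z0) : Subgroup G :=
  β.range.comap (QuotientGroup.mk' Z0)

theorem mem_preim (Z0 : Subgroup G) [Z0.Normal] (β : P →* G ⧸ Z0) (g : G) :
    g ∈ preim Z0 β ↔ ∃ p, β p = QuotientGroup.mk g := Iff.rfl

theorem le_preim (Z0 : Subgroup G) [Z0.Normal] (β : P →* G ⧸ Z0) : Z0 ≤ preim Z0 β := by
  intro z hz
  rw [mem_preim]
  refine ⟨1, ?_⟩
  rw [map_one]
  exact ((QuotientGroup.eq_one_iff z).2 hz).symm

/-- the homomorphism from the preimage to the range -/
def preimHom (Z0 : Subgroup G) [Z0.Normal] (β : P →* G ⧸ Z0) : preim Z0 β →* β.range :=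
  ((QuotientGroup.mk' Z0).comp (preim Z0 β).subtype).codRestrict β.range (fun h => h.2)

theorem preimHom_surjective (Z0 : Subgroup G) [Z0.Normal] (β : P →* G ⧸ Z0) :
    Function.Surjective (preimHom Z0 β) := by
  rintro ⟨y, hy⟩
  obtain ⟨g, rfl⟩ := QuotientGroup.mk'_surjective Z0 y
  exact ⟨⟨g, hy⟩, rfl⟩

theorem preimHom_ker (Z0 : Subgroup G) [Z0.Normal] (β : P →* G ⧸ Z0) :
    (preimHom Z0 β).ker = Z0.subgroupOf (preim Z0 β) := by
  ext h
  rw [MonoidHom.mem_ker, Subgroup.mem_subgroupOf, ← QuotientGroup.eq_one_iff (N := Z0)]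
  constructor
  · intro hh
    exact congrArg Subtype.val hh
  · intro hh
    exact Subtype.ext hh

theorem center_range_eq_bot (Z0 : Subgroup G) [Z0.Normal] (β : P →* G ⧸ Z0)
    (hβ : Function.Injective β) (hcen : Subgroup.center P = ⊥) :
    Subgroup.center β.range = ⊥ := by
  rw [eq_bot_iff]
  rintro ⟨_, p, rfl⟩ hc
  rw [Subgroup.mem_center_iff] at hc
  have hp : p ∈ Subgroup.center P := by
    rw [Subgroup.mem_center_iff]
    intro p'
    apply hβ
    rw [map_mul, map_mul]
    exact congrArg Subtype.val (hc ⟨β p', p', rfl⟩)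
  rw [hcen, Subgroup.mem_bot] at hp
  subst hp
  rw [Subgroup.mem_bot]
  apply Subtype.ext
  exact map_one β

theorem center_preim (Z0 : Subgroup G) [Z0.Normal] (hZc : Z0 ≤ Subgroup.center G)
    (β : P →* G ⧸ Z0) (hβ : Function.Injective β) (hcen : Subgroup.center P = ⊥) :
    Subgroup.center (preim Z0 β) = Z0.subgroupOf (preim Z0 β) := by
  apply le_antisymm
  · intro z hz
    rw [← preimHom_ker, MonoidHom.mem_ker]
    have hc : preimHom Z0 β z ∈ Subgroup.center β.range := by
      rw [Subgroup.mem_center_iff]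
      intro y
      obtain ⟨h, rfl⟩ := preimHom_surjective Z0 β y
      rw [Subgroup.mem_center_iff] at hz
      rw [← map_mul, ← map_mul, hz h]
    rw [center_range_eq_bot Z0 β hβ hcen, Subgroup.mem_bot] at hc
    exact hc
  · intro z hz
    rw [Subgroup.mem_subgroupOf] at hz
    have hzc := hZc hz
    rw [Subgroup.mem_center_iff] at hzc ⊢
    intro h
    apply Subtype.ext
    exact hzc h.1

/-- the preimage of an injective image of a group with trivial centre, under the quotient by a
central subgroup: its centre is the central subgroup and its central quotient is the group -/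
theorem central_ext (Z0 : Subgroup G) [Z0.Normal] (hZc : Z0 ≤ Subgroup.center G)
    (β : P →* G ⧸ Z0) (hβ : Function.Injective β) (hcen : Subgroup.center P = ⊥) :
    Nat.card (Subgroup.center (preim Z0 β)) = Nat.card Z0 ∧
      Nonempty ((preim Z0 β) ⧸ Subgroup.center (preim Z0 β) ≃* P) := by
  constructor
  · rw [center_preim Z0 hZc β hβ hcen]
    exact Nat.card_congr (Subgroup.subgroupOfEquivOfLe (le_preim Z0 β)).toEquiv
  · have e1 : (preim Z0 β) ⧸ Subgroup.center (preim Z0 β) ≃* (preim Z0 β) ⧸ (preimHom Z0 β).ker :=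
      QuotientGroup.quotientMulEquivOfEq (by rw [center_preim Z0 hZc β hβ hcen, preimHom_ker])
    have e2 : (preim Z0 β) ⧸ (preimHom Z0 β).ker ≃* β.range :=
      QuotientGroup.quotientKerEquivOfSurjective _ (preimHom_surjective Z0 β)
    have e3 : P ≃* β.range := MonoidHom.ofInjective hβ
    exact ⟨e1.trans (e2.trans e3.symm)⟩

/-- a simple group which is not commutative has a trivial centre -/
theorem center_eq_bot_of_simple (hs : IsSimpleGroup P) {x y : P} (hxy : x * y ≠ y * x) :
    Subgroup.center P = ⊥ := by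
  rcases (inferInstance : (Subgroup.center P).Normal).eq_bot_or_eq_top with h | h
  · exact h
  · exfalso
    apply hxy
    have hy : y ∈ Subgroup.center P := by rw [h]; exact Subgroup.mem_top y
    rw [Subgroup.mem_center_iff] at hy
    exact hy x

end cext

end Cfsg.Agent.Lib.Helper6.Simp
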