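import Mathlib

/-!
# General lemmas on conjugation of powers and on subgroups containing a Sylow normalizer
-/

set_option autoImplicit false

namespace Cfsg.Agent.Lib.Helper6.OrdS

section conj

variable {G : Type*} [Group G]

/-- if `g` conjugates `x` to `x ^ k`, then `g ^ j` conjugates `x ^ m` to `x ^ (m * k ^ j)` -/
theorem conj_pow_pow {g x : G} {k : ℕ} (h : g * x * g⁻¹ = x ^ k) (j m : ℕ) :
    g ^ j * x ^ m * (g ^ j)⁻¹ = x ^ (m * k ^ j) := by
  have h1 : ∀ m : ℕ, g * x ^ m * g⁻¹ = x ^ (m * k) := by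
    intro m
    rw [← conj_pow, h, ← pow_mul, mul_comm]
  induction j generalizing m with
  | zero => simp
  | succ j ih =>
    calc g ^ (j + 1) * x ^ m * (g ^ (j + 1))⁻¹
        = g * (g ^ j * x ^ m * (g ^ j)⁻¹) * g⁻¹ := by rw [pow_succ']; group
      _ = g * x ^ (m * k ^ j) * g⁻¹ := by rw [ih]
      _ = x ^ (m * k ^ j * k) := h1 _
      _ = x ^ (m * k ^ (j + 1)) := by rw [pow_succ, mul_assoc]

/-- an element of a cyclic group of order `n` generated by `x` is a power `x ^ k`, `k < n` -/
theorem exists_pow_of_mem_zpowers {x y : G} {n : ℕ} (hn : orderOf x = n) (hn0 : 0 < n)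
    (hy : y ∈ Subgroup.zpowers x) : ∃ k : ℕ, k < n ∧ y = x ^ k := by
  obtain ⟨i, rfl⟩ := Subgroup.mem_zpowers_iff.1 hy
  refine ⟨(i % (n : ℤ)).toNat, ?_, ?_⟩
  · have h1 : 0 ≤ i % (n : ℤ) := Int.emod_nonneg _ (by exact_mod_cast hn0.ne')
    have h2 : i % (n : ℤ) < n := Int.emod_lt_of_pos _ (by exact_mod_cast hn0)
    omega
  · have h1 : 0 ≤ i % (n : ℤ) := Int.emod_nonneg _ (by exact_mod_cast hn0.ne')
    rw [← zpow_natCast, Int.toNat_of_nonneg h1, ← hn, zpow_mod_orderOf]

/-- an element commuting with `x` centralizes the subgroup generated by `x` -/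
theorem mem_centralizer_zpowers {g x : G} (h : g * x = x * g) :
    g ∈ Subgroup.centralizer ((Subgroup.zpowers x : Subgroup G) : Set G) := by
  rw [Subgroup.mem_centralizer_iff]
  intro y hy
  obtain ⟨i, rfl⟩ := Subgroup.mem_zpowers_iff.1 hy
  have hc : Commute g x := h
  exact (hc.zpow_right i).eq.symm

end conj

section sylow

variable {G : Type*} [Group G] [Finite G] {p : ℕ} [Fact p.Prime]

/-- a subgroup containing the normalizer of a Sylow `p`-subgroup has order
`|N(P)| * n` with `n ≡ 1 (mod p)` -/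
theorem card_of_normalizer_le (P : Sylow p G) (H : Subgroup G)
    (hN : Subgroup.normalizer ((P : Subgroup G) : Set G) ≤ H) :
    ∃ n : ℕ, n ≡ 1 [MOD p] ∧
      Nat.card H = Nat.card (Subgroup.normalizer ((P : Subgroup G) : Set G)) * n := by
  have hPH : (P : Subgroup G) ≤ H := Subgroup.le_normalizer.trans hN
  refine ⟨Nat.card (Sylow p H), card_sylow_modEq_one p H, ?_⟩
  have h1 : Nat.card (Sylow p H) =
      (Subgroup.normalizer (((P.subtype hPH : Sylow p H) : Subgroup H) : Set H)).index :=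
    (P.subtype hPH).card_eq_index_normalizer
  have h3 : Subgroup.normalizer (((P.subtype hPH : Sylow p H) : Subgroup H) : Set H) =
      (Subgroup.normalizer ((P : Subgroup G) : Set G)).subgroupOf H := by
    rw [Sylow.coe_subtype]
    exact (Subgroup.subgroupOf_normalizer_eq hPH).symm
  rw [h1, h3]
  have h4 := Subgroup.card_mul_index
    ((Subgroup.normalizer ((P : Subgroup G) : Set G)).subgroupOf H)
  rw [← h4]
  congr 1
  exact Nat.card_congr (Subgroup.subgroupOfEquivOfLe hN).toEquiv

end sylow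

end Cfsg.Agent.Lib.Helper6.OrdS
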