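import Mathlib
import Cfsg.Agent.Lib.Helper6.OrdS3
import Cfsg.Agent.Lib.Helper6.OrdF1

/-!
# Commuting graphs: general lemmas

The orders of the centralizers are read from the commuting graph; self-centralizing Sylow
subgroups of prime order; an element of prime order `p` whose centralizer has order `p` acts without
fixed points on the `p'`-subgroups that it normalizes; the Frattini argument in numerical form.
-/

set_option autoImplicit false

namespace Cfsg.Agent.Lib.Helper6.CGr

open Subgroup

/-- removing a point on which the predicate holds -/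
theorem card_subtype_ne_add_one {α : Type*} [Finite α] (a : α) (p : α → Prop) (ha : p a) :
    Nat.card {y : α // p y} = Nat.card {y : {h : α // h ≠ a} // p y.1} + 1 := by
  classical
  have e : {y : {h : α // h ≠ a} // p y.1} ≃ {y : α // y ≠ a ∧ p y} :=
    Equiv.subtypeSubtypeEquivSubtypeInter _ _
  rw [Nat.card_congr e]
  have h1 : {y : α | p y} = insert a {y : α | y ≠ a ∧ p y} := by
    ext y
    simp only [Set.mem_ofPred_eq, Set.mem_insert_iff]
    constructor
    · intro hy
      by_cases h : y = a
      · exact Or.inl h
      · exact Or.inr ⟨h, hy⟩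
    · rintro (rfl | ⟨_, hy⟩)
      · exact ha
      · exact hy
  have h2 : a ∉ {y : α | y ≠ a ∧ p y} := fun h => h.1 rfl
  have h3 := Set.ncard_insert_of_notMem h2 (Set.toFinite _)
  rw [← h1, ← Nat.card_coe_set_eq, ← Nat.card_coe_set_eq] at h3
  exact h3

/-- the centralizer of an element as a subtype -/
theorem card_centralizer_singleton {K : Type*} [Group K] (k : K) :
    Nat.card (centralizer ({k} : Set K)) = Nat.card {y : K // k * y = y * k} := by
  apply Nat.card_congr
  apply Equiv.subtypeEquivRight
  intro y
  rw [mem_centralizer_singleton_iff]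
  exact eq_comm

section graph

variable {H G : Type*} [Group H] [Finite H] [Group G] [Finite G]
  (f : {h : H // h ≠ 1} ≃ {g : G // g ≠ 1})
  (hf : ∀ x y : {h : H // h ≠ 1}, (x : H) * y = y * x ↔ ((f x) : G) * (f y) = (f y) * (f x))

include f in
/-- the two groups have the same order -/
theorem card_eq : Nat.card H = Nat.card G := by
  have h1 := card_subtype_ne_add_one (1 : H) (fun _ => True) trivial
  have h2 := card_subtype_ne_add_one (1 : G) (fun _ => True) trivial
  rw [Nat.card_congr (Equiv.subtypeUnivEquiv (fun _ => trivial)),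
    Nat.card_congr (Equiv.subtypeUnivEquiv (fun _ => trivial))] at h1 h2
  rw [h1, h2, Nat.card_congr f]

include hf in
/-- corresponding elements have centralizers of the same order -/
theorem card_centralizer_eq (x : {h : H // h ≠ 1}) :
    Nat.card (centralizer ({(x : H)} : Set H)) =
      Nat.card (centralizer ({((f x) : G)} : Set G)) := by
  rw [card_centralizer_singleton, card_centralizer_singleton, card_subtype_ne_add_one (1 : H) (fun y => (x : H) * y = y * x) (by simp),
    card_subtype_ne_add_one (1 : G) (fun y => ((f x) : G) * y = y * (f x)) (by simp)]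
  congr 1
  exact Nat.card_congr (Equiv.subtypeEquiv f (hf x))

end graph

section sylow

variable {G : Type*} [Group G] [Finite G] {p : ℕ} [hp : Fact p.Prime]

/-- if the Sylow `p`-subgroups have order `p` and are self-centralizing, the centralizer of
every `p`-singular... of every non-identity element with centralizer of order divisible by `p`
has order `p` -/
theorem card_centralizer_of_dvd
    (hS : ∀ Q : Sylow p G, Nat.card Q = p ∧
      Nat.card (centralizer ((Q : Subgroup G) : Set G)) = p)
    {g : G} (hg : g ≠ 1) (hd : p ∣ Nat.card (centralizer ({g} : Set G))) :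
    Nat.card (centralizer ({g} : Set G)) = p := by
  obtain ⟨z, hz⟩ := exists_prime_orderOf_dvd_card' p hd
  have hz' : orderOf (z : G) = p := by rw [Subgroup.orderOf_coe, hz]
  have hzg : (z : G) * g = g * z := mem_centralizer_singleton_iff.1 z.2
  have hpg : IsPGroup p (zpowers (z : G)) :=
    IsPGroup.of_card (n := 1) (by rw [Nat.card_zpowers, hz', pow_one])
  obtain ⟨Q, hQ⟩ := hpg.exists_le_sylow
  obtain ⟨hQc, hCc⟩ := hS Q
  have hzQ : (z : G) ∈ (Q : Subgroup G) := hQ (mem_zpowers _)
  have hQz : (Q : Subgroup G) = zpowers (z : G) :=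
    Cfsg.Agent.Lib.Helper6.OrdF.sylow_eq_zpowers Q hQc hzQ hz'
  have hQle : (Q : Subgroup G) ≤ centralizer ((Q : Subgroup G) : Set G) := by
    intro a ha
    rw [hQz] at ha ⊢
    obtain ⟨i, rfl⟩ := mem_zpowers_iff.1 ha
    exact Cfsg.Agent.Lib.Helper6.OrdS.mem_centralizer_zpowers
      ((Commute.refl (z : G)).zpow_left i).eq
  have hCQ : centralizer ((Q : Subgroup G) : Set G) = (Q : Subgroup G) :=
    (Subgroup.eq_of_le_of_card_ge hQle (by rw [hCc, hQc])).symm
  have hgQ : g ∈ (Q : Subgroup G) := by
    rw [← hCQ, hQz]
    exact Cfsg.Agent.Lib.Helper6.OrdS.mem_centralizer_zpowers hzg.symm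
  have hgo : orderOf g = p := by
    have h1 : orderOf g ∣ p := by
      have := orderOf_dvd_natCard (⟨g, hgQ⟩ : (Q : Subgroup G))
      rw [hQc] at this
      rwa [← Subgroup.orderOf_mk g hgQ]
    rcases (Nat.dvd_prime hp.1).1 h1 with h | h
    · exact (hg (orderOf_eq_one_iff.1 h)).elim
    · exact h
  have hQg : (Q : Subgroup G) = zpowers g :=
    Cfsg.Agent.Lib.Helper6.OrdF.sylow_eq_zpowers Q hQc hgQ hgo
  have hle : centralizer ({g} : Set G) ≤ centralizer ((Q : Subgroup G) : Set G) := by
    intro a ha
    rw [hQg]
    exact Cfsg.Agent.Lib.Helper6.OrdS.mem_centralizer_zpowers (mem_centralizer_singleton_iff.1 ha)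
  have hge : centralizer ((Q : Subgroup G) : Set G) ≤ centralizer ({g} : Set G) :=
    Subgroup.centralizer_le (by
      intro a ha
      rw [Set.mem_singleton_iff] at ha
      rw [ha]
      exact hgQ)
  rw [le_antisymm hle hge, hCc]

end sylow

end Cfsg.Agent.Lib.Helper6.CGr
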