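import Mathlib
import Cfsg.Agent.Lib.Helper6.CGr1
import Cfsg.Agent.Lib.Helper6.OrdC1

/-!
# Commuting graphs: fixed-point-free action and the Frattini argument
-/

set_option autoImplicit false
set_option linter.style.haveILetI false
set_option warn.classDefReducibility false

namespace Cfsg.Agent.Lib.Helper6.CGr

open Subgroup

variable {H : Type*} [Group H]

/-- the action by conjugation of a subgroup of the normalizer -/
def conjAction (S K : Subgroup H) (hK : K ≤ normalizer (S : Set H)) : MulAction K S where
  smul k s := ⟨(k : H) * s * (k : H)⁻¹, (mem_normalizer_iff.1 (hK k.2) s).1 s.2⟩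
  one_smul s := by
    apply Subtype.ext
    show ((1 : K) : H) * s * ((1 : K) : H)⁻¹ = s
    simp
  mul_smul a b s := by
    apply Subtype.ext
    show ((a * b : K) : H) * s * ((a * b : K) : H)⁻¹ = (a : H) * ((b : H) * s * (b : H)⁻¹) * (a : H)⁻¹
    simp [mul_assoc]

variable [Finite H]

/-- the order of a Sylow subgroup -/
theorem card_sylow_of_eq (q k m : ℕ) [hq : Fact q.Prime] (hG : Nat.card H = q ^ k * m)
    (hm : ¬ q ∣ m) (S : Sylow q H) : Nat.card S = q ^ k := by
  rw [Sylow.card_eq_multiplicity, hG]
  have hm0 : m ≠ 0 := by rintro rfl; exact hm (dvd_zero q)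
  rw [Nat.factorization_mul (pow_ne_zero k hq.out.ne_zero) hm0,
    Nat.Prime.factorization_pow hq.out]
  simp [Nat.factorization_eq_zero_of_not_dvd hm]

/-- an element of prime order `p` whose centralizer has order `p` acts without fixed points on
every `p'`-subgroup that it normalizes -/
theorem card_modEq_one_of_normalizes {p : ℕ} [hp : Fact p.Prime] {y : H} (hy : orderOf y = p)
    (hC : Nat.card (centralizer ({y} : Set H)) = p) (S : Subgroup H)
    (hyS : y ∈ normalizer (S : Set H)) (hpS : ¬ p ∣ Nat.card S) : Nat.card S ≡ 1 [MOD p] := by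
  have hK : zpowers y ≤ normalizer (S : Set H) := by rw [zpowers_le]; exact hyS
  letI := conjAction S (zpowers y) hK
  have hpg : IsPGroup p (zpowers y) :=
    IsPGroup.of_card (n := 1) (by rw [Nat.card_zpowers, hy, pow_one])
  have h1 := hpg.card_modEq_card_fixedPoints S
  have h2 : MulAction.fixedPoints (zpowers y) S = {1} := by
    ext s
    rw [MulAction.mem_fixedPoints, Set.mem_singleton_iff]
    constructor
    · intro h
      have h3 := h ⟨y, mem_zpowers y⟩
      have h4 : y * (s : H) * y⁻¹ = s := congrArg Subtype.val h3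
      have h5 : (s : H) ∈ centralizer ({y} : Set H) := by
        rw [mem_centralizer_singleton_iff]
        calc (s : H) * y = (y * (s : H) * y⁻¹) * y := by rw [h4]
          _ = y * s := by group
      have h6 : orderOf (s : H) ∣ Nat.card S := by
        rw [Subgroup.orderOf_coe]; exact orderOf_dvd_natCard s
      have h7 : orderOf (s : H) ∣ p := by
        have := orderOf_dvd_natCard (⟨s, h5⟩ : centralizer ({y} : Set H))
        rw [hC] at this
        rwa [← Subgroup.orderOf_mk (s : H) h5]
      have h8 : orderOf (s : H) = 1 := by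
        rcases (Nat.dvd_prime hp.1).1 h7 with h | h
        · exact h
        · rw [h] at h6; exact (hpS h6).elim
      exact Subtype.ext (orderOf_eq_one_iff.1 h8)
    · rintro rfl k
      apply Subtype.ext
      show (k : H) * ((1 : S) : H) * (k : H)⁻¹ = ((1 : S) : H)
      simp
  rw [h2] at h1
  simpa using h1

/-- the Frattini argument, numerically -/
theorem exists_sylow_frattini (N : Subgroup H) [N.Normal] (q : ℕ) [Fact q.Prime] :
    ∃ S : Subgroup H, S ≤ N ∧ Nat.card S = q ^ (Nat.card N).factorization q ∧
      N.index ∣ Nat.card (normalizer (S : Set H)) := by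
  obtain ⟨P⟩ : Nonempty (Sylow q N) := inferInstance
  refine ⟨(P : Subgroup N).map N.subtype, map_subtype_le _, ?_, ?_⟩
  · rw [card_map_of_injective N.subtype_injective]; exact P.card_eq_multiplicity
  · have h := Sylow.normalizer_sup_eq_top P
    have h2 : N.relIndex (normalizer ((map N.subtype (P : Subgroup N) : Subgroup H) : Set H) ⊔ N) =
        N.relIndex (normalizer ((map N.subtype (P : Subgroup N) : Subgroup H) : Set H)) :=
      relIndex_sup_right _ _
    rw [h, relIndex_top_right] at h2
    rw [h2]
    exact relIndex_dvd_card _ _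

/-- the normalizer of a self-centralizing Sylow `11`-subgroup in a group of order `7920` has
order `55` -/
theorem card_normalizer_eleven (hn : Nat.card H = 7920)
    (h11 : ∀ y : H, orderOf y = 11 → Nat.card (centralizer ({y} : Set H)) = 11)
    (P : Subgroup H) (hP : Nat.card P = 11) :
    Nat.card (normalizer (P : Set H)) = 55 := by
  haveI : Fact (Nat.Prime 11) := ⟨by norm_num⟩
  have hfac : Nat.card P = 11 ^ (Nat.card H).factorization 11 := by
    have h1 : Nat.card H = 11 ^ 1 * 720 := by rw [hn]; norm_num
    rw [hP, h1, Nat.factorization_mul (by norm_num) (by norm_num),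
      Nat.Prime.factorization_pow (by norm_num)]
    simp [Nat.factorization_eq_zero_of_not_dvd (show ¬ 11 ∣ 720 by norm_num)]
  set Q : Sylow 11 H := Sylow.ofCard P hfac with hQ
  have hQP : (Q : Subgroup H) = P := Sylow.coe_ofCard P hfac
  rw [← hQP]
  have hQc : Nat.card Q = 11 := by rw [hQP]; exact hP
  -- a generator
  obtain ⟨y, hy⟩ := exists_prime_orderOf_dvd_card' (G := (Q : Subgroup H)) 11 (by rw [hQc])
  have hy' : orderOf (y : H) = 11 := by rw [Subgroup.orderOf_coe, hy]
  have hQy : (Q : Subgroup H) = zpowers (y : H) :=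
    Cfsg.Agent.Lib.Helper6.OrdF.sylow_eq_zpowers Q hQc y.2 hy'
  have hCc : Nat.card (centralizer ((Q : Subgroup H) : Set H)) = 11 := by
    have hle : centralizer ({(y : H)} : Set H) ≤ centralizer ((Q : Subgroup H) : Set H) := by
      intro a ha
      rw [hQy]
      exact Cfsg.Agent.Lib.Helper6.OrdS.mem_centralizer_zpowers
        (mem_centralizer_singleton_iff.1 ha)
    have hge : centralizer ((Q : Subgroup H) : Set H) ≤ centralizer ({(y : H)} : Set H) :=
      Subgroup.centralizer_le (by
        intro a ha
        rw [Set.mem_singleton_iff] at ha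
        rw [ha]
        exact y.2)
    rw [← le_antisymm hle hge]
    exact h11 _ hy'
  have hdvd : 11 ∣ Nat.card (normalizer ((Q : Subgroup H) : Set H)) := by
    have := Subgroup.card_dvd_of_le (le_normalizer : (Q : Subgroup H) ≤ _)
    rwa [hQc] at this
  obtain ⟨k, hk⟩ := hdvd
  obtain ⟨hr, hCr⟩ := Cfsg.Agent.Lib.Helper6.OrdC.relIndex_data Q hQc k hk
  rw [hCc] at hCr
  have hek : (centralizer ((Q : Subgroup H) : Set H)).relIndex
      (normalizer ((Q : Subgroup H) : Set H)) = k := by omega
  rw [hek] at hr
  have hk10 : k ∣ 10 := dvd_trans hr (Nat.gcd_dvd_right _ _)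
  have h3 : Nat.card (Sylow 11 H) ≡ 1 [MOD 11] := card_sylow_modEq_one 11 H
  rw [Sylow.card_eq_index_normalizer Q] at h3
  have h4 := (normalizer ((Q : Subgroup H) : Set H)).index_mul_card
  rw [hn, hk] at h4
  have hk' : k ≤ 10 := Nat.le_of_dvd (by norm_num) hk10
  unfold Nat.ModEq at h3
  generalize (normalizer ((Q : Subgroup H) : Set H)).index = idx at *
  rw [hk]
  interval_cases k <;> omega

end Cfsg.Agent.Lib.Helper6.CGr
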