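import Mathlib
import Cfsg.Agent.Lib.Helper6.CGr2

/-!
# Commuting graphs: a group of order `7920` whose elements of orders `11` and `5` are
self-centralizing is simple
-/

set_option autoImplicit false
set_option linter.style.haveILetI false

namespace Cfsg.Agent.Lib.Helper6.CGr

open Subgroup

set_option maxRecDepth 100000 in
theorem filter11 : (Nat.divisors 720).filter (fun n => n % 11 = 1) = {1, 12, 45, 144} := by
  decide

/-- no prime power greater than `1` dividing `720` is congruent to `1` modulo `11` -/
theorem arith11 (n q k : ℕ) (hq : q.Prime) (hk : 0 < k) (hn : n = q ^ k) (hd : n ∣ 720)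
    (hm : n % 11 = 1) : False := by
  have key : ∀ a b : ℕ, a.Prime → b.Prime → a ≠ b → a ∣ n → b ∣ n → False := by
    intro a b ha hb hab han hbn
    rw [hn] at han hbn
    have h1 := (Nat.prime_dvd_prime_iff_eq ha hq).1 (ha.dvd_of_dvd_pow han)
    have h2 := (Nat.prime_dvd_prime_iff_eq hb hq).1 (hb.dvd_of_dvd_pow hbn)
    exact hab (h1.trans h2.symm)
  have hmem : n ∈ (Nat.divisors 720).filter (fun n => n % 11 = 1) := by
    rw [Finset.mem_filter, Nat.mem_divisors]
    exact ⟨⟨hd, by norm_num⟩, hm⟩
  rw [filter11] at hmem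
  simp only [Finset.mem_insert, Finset.mem_singleton] at hmem
  rcases hmem with h | h | h | h
  · have : 1 < q ^ k := Nat.one_lt_pow hk.ne' hq.one_lt
    omega
  · exact key 2 3 (by norm_num) (by norm_num) (by norm_num) (by rw [h]; norm_num)
      (by rw [h]; norm_num)
  · exact key 3 5 (by norm_num) (by norm_num) (by norm_num) (by rw [h]; norm_num)
      (by rw [h]; norm_num)
  · exact key 2 3 (by norm_num) (by norm_num) (by norm_num) (by rw [h]; norm_num)
      (by rw [h]; norm_num)

variable {H : Type*} [Group H] [Finite H]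

/-- a normal subgroup of order prime to `11` is trivial -/
theorem eq_bot_of_not_dvd (hn : Nat.card H = 7920)
    (h11 : ∀ y : H, orderOf y = 11 → Nat.card (centralizer ({y} : Set H)) = 11)
    (N : Subgroup H) [hN : N.Normal] (h11N : ¬ 11 ∣ Nat.card N) : N = ⊥ := by
  haveI : Fact (Nat.Prime 11) := ⟨by norm_num⟩
  by_contra hbot
  have hcard1 : Nat.card N ≠ 1 := fun h => hbot (Subgroup.card_eq_one.1 h)
  obtain ⟨q, hq, hqd⟩ := Nat.exists_prime_and_dvd hcard1
  haveI : Fact q.Prime := ⟨hq⟩
  obtain ⟨S, hSN, hSc, hidx⟩ := exists_sylow_frattini N q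
  have h1 := N.index_mul_card
  rw [hn] at h1
  have h2 : 11 ∣ N.index := by
    have : 11 ∣ N.index * Nat.card N := by rw [h1]; norm_num
    exact ((Nat.Prime.dvd_mul (by norm_num)).1 this).resolve_right h11N
  have h3 : 11 ∣ Nat.card (normalizer (S : Set H)) := dvd_trans h2 hidx
  obtain ⟨y, hy⟩ := exists_prime_orderOf_dvd_card' 11 h3
  have hy' : orderOf (y : H) = 11 := by rw [Subgroup.orderOf_coe, hy]
  have hSd : Nat.card S ∣ Nat.card N := Subgroup.card_dvd_of_le hSN
  have h4 : ¬ 11 ∣ Nat.card S := fun h => h11N (dvd_trans h hSd)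
  have h5 := card_modEq_one_of_normalizes hy' (h11 _ hy') S y.2 h4
  have hk : 0 < (Nat.card N).factorization q :=
    hq.factorization_pos_of_dvd Nat.card_pos.ne' hqd
  have hS720 : Nat.card S ∣ 720 := by
    have h6 : Nat.card S ∣ 11 * 720 := by
      rw [show 11 * 720 = 7920 by norm_num, ← hn]; exact Subgroup.card_subgroup_dvd_card S
    have hcop : Nat.Coprime (Nat.card S) 11 :=
      (Nat.Coprime.symm ((Nat.Prime.coprime_iff_not_dvd (by norm_num)).2 h4))
    exact hcop.dvd_of_dvd_mul_left h6
  exact arith11 _ q _ hq hk hSc hS720 h5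

/-- **Simplicity** of a group of order `7920` whose elements of orders `11` and `5` have
centralizers of orders `11` and `5`. -/
theorem isSimpleGroup_of_centralizers (hn : Nat.card H = 7920)
    (h11 : ∀ y : H, orderOf y = 11 → Nat.card (centralizer ({y} : Set H)) = 11)
    (h5 : ∀ y : H, orderOf y = 5 → Nat.card (centralizer ({y} : Set H)) = 5) :
    IsSimpleGroup H := by
  haveI : Fact (Nat.Prime 11) := ⟨by norm_num⟩
  haveI : Fact (Nat.Prime 5) := ⟨by norm_num⟩
  haveI : Nontrivial H := by
    rw [← Finite.one_lt_card_iff_nontrivial, hn]; norm_num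
  refine { toNontrivial := inferInstance, eq_bot_or_eq_top_of_normal := fun N hN => ?_ }
  by_cases h11N : 11 ∣ Nat.card N
  · right
    obtain ⟨S, hSN, hSc, hidx⟩ := exists_sylow_frattini N 11
    have hNd : Nat.card N ∣ 7920 := by rw [← hn]; exact Subgroup.card_subgroup_dvd_card N
    have hS11 : Nat.card S = 11 := by
      have hk : 0 < (Nat.card N).factorization 11 :=
        (Nat.Prime.factorization_pos_of_dvd (by norm_num) Nat.card_pos.ne' h11N)
      have hk2 : (Nat.card N).factorization 11 < 2 := by
        by_contra hcon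
        push Not at hcon
        have h1 : 11 ^ 2 ∣ Nat.card S := by rw [hSc]; exact pow_dvd_pow 11 hcon
        have h2 : 11 ^ 2 ∣ 7920 := h1.trans ((Subgroup.card_dvd_of_le hSN).trans hNd)
        norm_num at h2
      have : (Nat.card N).factorization 11 = 1 := by omega
      rw [hSc, this, pow_one]
    have hNm := card_normalizer_eleven hn h11 S hS11
    rw [hNm] at hidx
    have h1 := N.index_mul_card
    rw [hn] at h1
    obtain ⟨c, hc⟩ := h11N
    have hidx' : N.index = 1 ∨ N.index = 5 := by
      have hle : N.index ≤ 55 := Nat.le_of_dvd (by norm_num) hidx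
      have hmem : N.index ∈ Nat.divisors 55 := by
        rw [Nat.mem_divisors]; exact ⟨hidx, by norm_num⟩
      have hdiv : Nat.divisors 55 = {1, 5, 11, 55} := by decide
      rw [hdiv] at hmem
      simp only [Finset.mem_insert, Finset.mem_singleton] at hmem
      rcases hmem with h | h | h | h
      · exact Or.inl h
      · exact Or.inr h
      · rw [h, hc] at h1; omega
      · rw [h, hc] at h1; omega
    rcases hidx' with h | h
    · exact Subgroup.index_eq_one.1 h
    · exfalso
      rw [h] at h1
      have hNc : Nat.card N = 1584 := by omega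
      obtain ⟨x, hx⟩ := exists_prime_orderOf_dvd_card' (G := H) 5 (by rw [hn]; norm_num)
      have hxN : x ∈ normalizer (N : Set H) := by
        rw [Subgroup.normalizer_eq_top]; exact mem_top x
      have h6 := card_modEq_one_of_normalizes hx (h5 x hx) N hxN (by rw [hNc]; norm_num)
      rw [hNc] at h6
      exact absurd h6 (by decide)
  · left
    exact eq_bot_of_not_dvd hn h11 N h11N

end Cfsg.Agent.Lib.Helper6.CGr
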