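import Mathlib
import Cfsg.Agent.Lib.Helper6.OrdB1

/-!
# Fixed spaces of an element commuting with an element of prime order, via character sums
-/

set_option autoImplicit false
set_option maxHeartbeats 800000

namespace Cfsg.Agent.Lib.Helper6.OrdG

open Cfsg Cfsg.Agent.Lib.Helper8 Cfsg.Agent.Lib.Helper6.OrdB

universe u

/-- a sum over `range (p * q)` of a function constant off the multiples of `p` -/
theorem sum_range_mul_const (p q : ℕ) (hp : 0 < p) (F : ℕ → ℂ) (c : ℂ)
    (h : ∀ i, ¬ p ∣ i → F i = c) :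
    ∑ i ∈ Finset.range (p * q), F i =
      ∑ j ∈ Finset.range q, F (p * j) + ((q * (p - 1) : ℕ) : ℂ) * c := by
  induction q with
  | zero => simp
  | succ q ih =>
    rw [Nat.mul_succ, Finset.sum_range_add, ih, Finset.sum_range_succ]
    obtain ⟨p', rfl⟩ : ∃ p', p = p' + 1 := ⟨p - 1, by omega⟩
    rw [Finset.sum_range_succ']
    have h1 : ∑ r ∈ Finset.range p', F ((p' + 1) * q + (r + 1)) = (p' : ℂ) * c := by
      have h2 : ∀ r ∈ Finset.range p', F ((p' + 1) * q + (r + 1)) = c := by
        intro r hr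
        apply h
        rw [Finset.mem_range] at hr
        intro hdvd
        have h3 : (p' + 1) ∣ (r + 1) := (Nat.dvd_add_right (Dvd.intro _ rfl)).1 hdvd
        have := Nat.le_of_dvd (by omega) h3
        omega
      rw [Finset.sum_congr rfl h2, Finset.sum_const, Finset.card_range]
      simp
    rw [h1]
    simp only [Nat.add_sub_cancel, add_zero]
    push_cast
    ring

variable {G : Type u} [Group G] [Finite G]

/-- The dimension `f` of the fixed space of `y ^ p`, where `y` commutes with an element `x` of order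
`p` and the character is constant `c` on the powers of `x * y` with non-trivial `p`-part:
`f + (p - 1) c = p n`. -/
theorem fix_dim (χ : IrrCharacter G) {p q : ℕ} {x y : G} (hx : orderOf x = p)
    (hy : orderOf y = q) (hp : 0 < p) (hq : 0 < q) (hpq : Nat.Coprime p q) (hcomm : Commute x y)
    (c : ℂ) (hval : ∀ i, ¬ p ∣ i → χ.1 ((x * y) ^ i) = c) :
    ∃ n f : ℕ, f ≤ charDegree χ.1 ∧
      ∑ j ∈ Finset.range q, χ.1 ((y ^ p) ^ j) = (q : ℂ) * (f : ℂ) ∧
      (f = charDegree χ.1 → χ.1 (y ^ p) = χ.1 1) ∧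
      (f : ℂ) + ((p - 1 : ℕ) : ℂ) * c = (p : ℂ) * (n : ℂ) := by
  have hord : orderOf (x * y) = p * q := by
    rw [hcomm.orderOf_mul_eq_mul_orderOf_of_coprime (by rwa [hx, hy]), hx, hy]
  obtain ⟨n, -, hsum, -⟩ := sum_pow χ (x * y)
  rw [hord, sum_range_mul_const p q hp _ c hval] at hsum
  have h2 : ∀ j, (x * y) ^ (p * j) = (y ^ p) ^ j := by
    intro j
    rw [hcomm.mul_pow, pow_mul x, ← hx, pow_orderOf_eq_one, one_pow, one_mul, pow_mul]
  have hord2 : orderOf (y ^ p) = q := by
    rw [Nat.Coprime.orderOf_pow (by rw [hy]; exact hpq.symm), hy]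
  obtain ⟨f, hf, hsumf, htop⟩ := sum_pow χ (y ^ p)
  rw [hord2] at hsumf
  refine ⟨n, f, hf, hsumf, htop, ?_⟩
  simp_rw [h2] at hsum
  rw [hsumf] at hsum
  have hq0 : (q : ℂ) ≠ 0 := Nat.cast_ne_zero.2 hq.ne'
  apply mul_left_cancel₀ hq0
  push_cast at hsum ⊢
  linear_combination hsum

end Cfsg.Agent.Lib.Helper6.OrdG
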