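import Mathlib
import Cfsg.Agent.Lib.Helper6.OrdD1
import Cfsg.Agent.Lib.Helper6.OrdG1
import Cfsg.Agent.S0165

/-!
# Characters in the principal 19-block of a simple group of order 459648: local lemmas
-/

set_option autoImplicit false
set_option maxHeartbeats 800000

namespace Cfsg.Agent.Lib.Helper6.OrdG

open Cfsg Cfsg.Agent.Lib.Helper8 Cfsg.Agent.Lib.Helper6.OrdB Cfsg.Agent.Lib.Helper6.OrdD

universe u

set_option maxRecDepth 100000 in
theorem deg_table19 : ∀ d < 678, d ∣ 459648 → d = 1 ∨ (d % 19 = 1 ∧ d = 96) ∨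
    (d % 19 = 18 ∧ (d = 18 ∨ d = 56 ∨ d = 189)) ∨ (d % 19 ≠ 1 ∧ d % 19 ≠ 18) := by
  decide

/-- the possible signed degrees `≡ ±1` modulo 19 -/
theorem deg_cases19 (d : ℕ) (ε : ℤ) (hε : ε = 1 ∨ ε = -1) (hdvd : d ∣ 459648)
    (hsq : d ^ 2 ≤ 459648) (hd1 : d ≠ 1) (hmod : (d : ℤ) ≡ ε [ZMOD 19]) :
    ε * (d : ℤ) = -18 ∨ ε * (d : ℤ) = -56 ∨ ε * (d : ℤ) = 96 ∨ ε * (d : ℤ) = -189 := by
  have hle : d < 678 := by nlinarith
  have htab := deg_table19 d hle hdvd
  unfold Int.ModEq at hmod
  rcases hε with rfl | rfl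
  · have h3 : d % 19 = 1 := by omega
    rcases htab with h | ⟨-, h⟩ | ⟨h, -⟩ | ⟨h, -⟩
    · exact absurd h hd1
    · right; right; left
      omega
    · omega
    · omega
  · have h3 : d % 19 = 18 := by omega
    rcases htab with h | ⟨h, -⟩ | ⟨-, h | h | h⟩ | ⟨-, h⟩
    · exact absurd h hd1
    · omega
    · left; omega
    · right; left; omega
    · right; right; right; omega
    · omega

variable {G : Type u} [Group G] [Finite G]

/-- characters of `p`-defect zero vanish on `p`-singular elements (Sylow `p`-subgroup of order `p`) -/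
theorem defect_zero_vanish (χ : IrrCharacter G) (p : ℕ) (hp : p.Prime) (h1 : p ∣ Nat.card G)
    (h2 : ¬ p ^ 2 ∣ Nat.card G) (hdeg : p ∣ charDegree χ.1) (g : G) (hg : p ∣ orderOf g) :
    χ.1 g = 0 := by
  obtain ⟨n, ρ, hirr, hχ, hn⟩ := exists_rep χ
  have := Cfsg.Agent.S0165.result ρ p 1 hp (by rwa [pow_one]) h2
    (by rw [pow_one, Module.finrank_fin_fun, hn]; exact hdeg) g hg
  rw [← hχ]
  exact this

variable [IsSimpleGroup G]

/-- A character of degree 18 taking the value `-1` on all elements `x' y'` cannot exist when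
`C(x)` contains an element of prime order `q ≠ 19`. -/
theorem kill18 (χ : IrrCharacter G) {q : ℕ} {x y : G} (hx : orderOf x = 19)
    (hy : orderOf y = q) (hq : q.Prime) (hq19 : q ≠ 19) (hcomm : Commute x y)
    (hdeg : charDegree χ.1 = 18)
    (hval : ∀ i, ¬ 19 ∣ i → χ.1 ((x * y) ^ i) = -1) : False := by
  have hcop : Nat.Coprime 19 q := by
    rw [Nat.coprime_primes (by norm_num) hq]
    exact fun h => hq19 h.symm
  obtain ⟨n, f, hf, -, htop, heq⟩ :=
    fix_dim χ hx hy (by norm_num) hq.pos hcop hcomm (-1) hval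
  rw [hdeg] at hf htop
  have heq' : (f : ℤ) - 18 = 19 * (n : ℤ) := by
    have : ((f : ℤ) : ℂ) - 18 = ((19 * (n : ℤ) : ℤ) : ℂ) := by
      push_cast
      push_cast at heq
      linear_combination heq
    exact_mod_cast this
  have hf18 : f = 18 := by omega
  have h1 := htop hf18
  have h0 : χ.1 ((x * y) ^ 1) = -1 := hval 1 (by norm_num)
  have h0ne : χ.1 ((x * y) ^ 1) ≠ χ.1 1 := by
    rw [h0, apply_one, hdeg]
    norm_num
  have hy19 : y ^ 19 = 1 := eq_one_of_apply_eq χ h0ne h1
  have h2 : orderOf y ∣ 19 := orderOf_dvd_of_pow_eq_one hy19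
  rw [hy] at h2
  rcases (Nat.dvd_prime (by norm_num : Nat.Prime 19)).1 h2 with h | h
  · exact hq.one_lt.ne' h
  · exact hq19 h

/-- A character of degree 56 taking the value `-1` on all elements `x' y'` takes the value `18`
or `-20` at an involution `y` of `C(x)`. -/
theorem val56 (χ : IrrCharacter G) {x y : G} (hx : orderOf x = 19)
    (hy : orderOf y = 2) (hcomm : Commute x y) (hdeg : charDegree χ.1 = 56)
    (hval : ∀ i, ¬ 19 ∣ i → χ.1 ((x * y) ^ i) = -1) : χ.1 y = 18 ∨ χ.1 y = -20 := by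
  obtain ⟨n, f, hf, hsum, htop, heq⟩ :=
    fix_dim χ hx hy (by norm_num) (by norm_num) (by norm_num) hcomm (-1) hval
  rw [hdeg] at hf htop
  have hy2 : y ^ 2 = 1 := by rw [← hy]; exact pow_orderOf_eq_one y
  have hy19 : y ^ 19 = y := by
    have : y ^ 19 = (y ^ 2) ^ 9 * y := by rw [← pow_mul, ← pow_succ]
    rw [this, hy2, one_pow, one_mul]
  rw [hy19] at hsum htop
  rw [Finset.sum_range_succ, Finset.sum_range_one, pow_zero, pow_one, apply_one, hdeg] at hsum
  have heq' : (f : ℤ) - 18 = 19 * (n : ℤ) := by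
    have : ((f : ℤ) : ℂ) - 18 = ((19 * (n : ℤ) : ℤ) : ℂ) := by
      push_cast
      push_cast at heq
      linear_combination heq
    exact_mod_cast this
  have hcases : f = 18 ∨ f = 37 ∨ f = 56 := by omega
  rcases hcases with h | h | h
  · right
    rw [h] at hsum
    push_cast at hsum
    linear_combination hsum
  · left
    rw [h] at hsum
    push_cast at hsum
    linear_combination hsum
  · exfalso
    have h1 := htop h
    have h0 : χ.1 ((x * y) ^ 1) = -1 := hval 1 (by norm_num)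
    have h0ne : χ.1 ((x * y) ^ 1) ≠ χ.1 1 := by
      rw [h0, apply_one, hdeg]
      norm_num
    have hy1 : y = 1 := eq_one_of_apply_eq χ h0ne h1
    rw [hy1, orderOf_one] at hy
    norm_num at hy

end Cfsg.Agent.Lib.Helper6.OrdG
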