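import Mathlib
import Cfsg.Agent.Lib.Helper6.OrdH4

/-!
# Self-centralizing Sylow subgroups of prime order: the block with one exceptional character added
-/

set_option autoImplicit false
set_option maxHeartbeats 1600000
set_option linter.unusedSectionVars false

namespace Cfsg.Agent.Lib.Helper6.OrdH

open Cfsg Cfsg.Agent.Lib.Helper8 Cfsg.Agent.Lib.Helper6.OrdB Cfsg.Agent.Lib.Helper6.OrdF
open scoped ComplexConjugate

universe u

namespace TI

variable {G : Type u} [Group G] [Fintype G] {p e : ℕ} [hp : Fact p.Prime] (c : TI G p e)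
  [Fintype (IrrCharacter G)] (θ0 : IrrCharacter G)

open Classical in
/-- the signs of the non-exceptional characters and of one exceptional character -/
noncomputable def δ : IrrCharacter G → ℤ := fun χ => if χ = θ0 then -c.ε else c.εX χ

open Classical in
/-- the non-exceptional characters and one exceptional character -/
noncomputable def Bf : Finset (IrrCharacter G) := insert θ0 c.Xf

omit hp [Fintype (IrrCharacter G)] in
theorem δ_self : c.δ θ0 θ0 = -c.ε := by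
  unfold δ
  rw [if_pos rfl]

omit hp [Fintype (IrrCharacter G)] in
theorem δ_of_mem_X (hθ0 : θ0 ∈ c.Y) {χ : IrrCharacter G} (hχ : χ ∈ c.X) : c.δ θ0 χ = c.εX χ := by
  unfold δ
  rw [if_neg (c.ne_of_mem hχ hθ0)]

omit hp in
theorem not_mem_Xf (hθ0 : θ0 ∈ c.Y) : θ0 ∉ c.Xf := by
  intro h
  exact c.ne_of_mem (c.mem_Xf.1 h) hθ0 rfl

omit hp in
theorem mem_Bf {χ : IrrCharacter G} : χ ∈ c.Bf θ0 ↔ χ = θ0 ∨ χ ∈ c.X := by
  classical
  unfold Bf
  rw [Finset.mem_insert, c.mem_Xf]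

omit hp in
theorem card_Bf (hθ0 : θ0 ∈ c.Y) : (c.Bf θ0).card = e + 1 := by
  classical
  unfold Bf
  rw [Finset.card_insert_of_notMem (c.not_mem_Xf θ0 hθ0), c.card_Xf]

omit hp in
theorem δ_cases {χ : IrrCharacter G} (hχ : χ ∈ c.Bf θ0) : c.δ θ0 χ = 1 ∨ c.δ θ0 χ = -1 := by
  classical
  unfold δ
  split_ifs with h
  · rcases c.hε with h1 | h1 <;> rw [h1]
    · right; rfl
    · left; norm_num
  · rcases (c.mem_Bf θ0).1 hχ with h1 | h1
    · exact absurd h1 h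
    · exact c.hεX χ h1

omit hp in
/-- sums over the enlarged set -/
theorem sum_Bf (hθ0 : θ0 ∈ c.Y) (f : IrrCharacter G → ℂ) :
    ∑ χ ∈ c.Bf θ0, (c.δ θ0 χ : ℂ) * f χ =
      ∑ χ ∈ c.Xf, (c.εX χ : ℂ) * f χ - (c.ε : ℂ) * f θ0 := by
  classical
  unfold Bf
  rw [Finset.sum_insert (c.not_mem_Xf θ0 hθ0), c.δ_self]
  have h : ∀ χ ∈ c.Xf, (c.δ θ0 χ : ℂ) * f χ = (c.εX χ : ℂ) * f χ := by
    intro χ hχ
    rw [c.δ_of_mem_X θ0 hθ0 (c.mem_Xf.1 hχ)]
  rw [Finset.sum_congr rfl h]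
  push_cast
  ring

omit hp in
/-- the signed sum of the block vanishes on the `p`-regular elements -/
theorem sum_Bf_reg (hθ0 : θ0 ∈ c.Y) {g : G} (hg : ¬ p ∣ orderOf g) :
    ∑ χ ∈ c.Bf θ0, (c.δ θ0 χ : ℂ) * χ.1 g = 0 := by
  rw [c.sum_Bf θ0 hθ0 (fun χ => χ.1 g), c.hYsum θ0 hθ0 g hg, c.finsum_X]
  ring

/-- the class multiplication identity over the enlarged set -/
theorem class_mult' (hθ0 : θ0 ∈ c.Y) {t : G} (ht : ¬ p ∣ orderOf t) :
    (Nat.card {q : G × G // IsConj t q.1 ∧ IsConj t q.2 ∧ q.1 * q.2 = c.x} : ℂ) *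
        (Nat.card G : ℂ) =
      (Nat.card {g : G // IsConj t g} : ℂ) ^ 2 *
        ∑ χ ∈ c.Bf θ0, (c.δ θ0 χ : ℂ) * (χ.1 t * χ.1 t / χ.1 1) := by
  rw [c.sum_Bf θ0 hθ0 (fun χ => χ.1 t * χ.1 t / χ.1 1)]
  exact c.class_mult hθ0 ht

end TI

end Cfsg.Agent.Lib.Helper6.OrdH
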