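import Mathlib

/-!
# A kernel-checkable search for solutions of the degree equation of a block of defect one
-/

set_option autoImplicit false
set_option maxHeartbeats 1600000

namespace Cfsg.Agent.Lib.Helper6.OrdL

/-- the candidate signed degrees: `d` with `d ≡ 1`, and `-d` with `d ≡ -1` modulo `p` -/
def cands (ok : ℕ → Bool) (N p m B mind : ℕ) : List ℤ :=
  ((List.range (B + 1)).filter (fun d => decide (mind ≤ d) && decide (d ∣ m) &&
    decide (d * d ≤ N) && decide (d % p = 1) && ok d)).map (fun d : ℕ => (d : ℤ)) ++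
  ((List.range (B + 1)).filter (fun d => decide (mind ≤ d) && decide (d ∣ m) &&
    decide (d * d ≤ N) && decide (d % p = p - 1) && ok d)).map (fun d : ℕ => -(d : ℤ))

theorem mem_cands_pos {ok : ℕ → Bool} {N p m B mind d : ℕ} (h1 : d ≤ B) (h2 : mind ≤ d)
    (h3 : d ∣ m) (h4 : d * d ≤ N) (h5 : d % p = 1) (h6 : ok d = true) :
    (d : ℤ) ∈ cands ok N p m B mind := by
  unfold cands
  rw [List.mem_append]
  left
  rw [List.mem_map]
  refine ⟨d, ?_, rfl⟩
  rw [List.mem_filter, List.mem_range]
  refine ⟨by omega, ?_⟩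
  simp only [Bool.and_eq_true, decide_eq_true_eq]
  exact ⟨⟨⟨⟨h2, h3⟩, h4⟩, h5⟩, h6⟩

theorem mem_cands_neg {ok : ℕ → Bool} {N p m B mind d : ℕ} (h1 : d ≤ B) (h2 : mind ≤ d)
    (h3 : d ∣ m) (h4 : d * d ≤ N) (h5 : d % p = p - 1) (h6 : ok d = true) :
    -(d : ℤ) ∈ cands ok N p m B mind := by
  unfold cands
  rw [List.mem_append]
  right
  rw [List.mem_map]
  refine ⟨d, ?_, rfl⟩
  rw [List.mem_filter, List.mem_range]
  refine ⟨by omega, ?_⟩
  simp only [Bool.and_eq_true, decide_eq_true_eq]
  exact ⟨⟨⟨⟨h2, h3⟩, h4⟩, h5⟩, h6⟩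

/-- the search: `true` means that there is no solution -/
def srch (fin : ℤ → ℕ → Bool) : List ℤ → ℕ → ℤ → ℕ → Bool
  | [], r, s, q => (r != 0) || fin s q
  | v :: vs, r, s, q => (List.range (r + 1)).all fun a =>
      srch fin vs (r - a) (s + (a : ℤ) * v) (q + a * (v.natAbs * v.natAbs))

/-- soundness of the search -/
theorem srch_sound {α : Type*} [DecidableEq α] (fin : ℤ → ℕ → Bool) (L : List ℤ) :
    ∀ (T : Finset α) (g : α → ℤ), (∀ x ∈ T, g x ∈ L) → ∀ (s : ℤ) (q : ℕ),
      srch fin L T.card s q = true →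
      fin (s + ∑ x ∈ T, g x) (q + ∑ x ∈ T, (g x).natAbs * (g x).natAbs) = true := by
  induction L with
  | nil =>
    intro T g hg s q h
    have hT : T = ∅ := by
      rw [Finset.eq_empty_iff_forall_notMem]
      intro x hx
      exact absurd (hg x hx) (List.not_mem_nil)
    subst hT
    simp only [srch, Finset.card_empty, bne_self_eq_false, Bool.false_or] at h
    simpa using h
  | cons v vs ih =>
    intro T g hg s q h
    simp only [srch, List.all_eq_true, List.mem_range] at h
    set T1 := T.filter (fun x => g x = v) with hT1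
    set T2 := T.filter (fun x => ¬ g x = v) with hT2
    have hcard : T1.card + T2.card = T.card := Finset.card_filter_add_card_filter_not _
    have h1 := h T1.card (by omega)
    have hr : T.card - T1.card = T2.card := by omega
    rw [hr] at h1
    have hg2 : ∀ x ∈ T2, g x ∈ vs := by
      intro x hx
      rw [hT2, Finset.mem_filter] at hx
      rcases List.mem_cons.1 (hg x hx.1) with h' | h'
      · exact absurd h' hx.2
      · exact h'
    have h2 := ih T2 g hg2 _ _ h1
    have hs1 : ∑ x ∈ T1, g x = (T1.card : ℤ) * v := by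
      rw [Finset.sum_congr rfl (fun x hx => (Finset.mem_filter.1 hx).2), Finset.sum_const,
        nsmul_eq_mul]
    have hs : ∑ x ∈ T, g x = (T1.card : ℤ) * v + ∑ x ∈ T2, g x := by
      rw [← Finset.sum_filter_add_sum_filter_not T (fun x => g x = v) g, ← hs1]
    have hq : ∑ x ∈ T, (g x).natAbs * (g x).natAbs =
        T1.card * (v.natAbs * v.natAbs) + ∑ x ∈ T2, (g x).natAbs * (g x).natAbs := by
      have hq1 : ∑ x ∈ T1, (g x).natAbs * (g x).natAbs = T1.card * (v.natAbs * v.natAbs) := by
        rw [Finset.sum_congr rfl (fun x hx => by rw [(Finset.mem_filter.1 hx).2]),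
          Finset.sum_const, smul_eq_mul]
      rw [← Finset.sum_filter_add_sum_filter_not T (fun x => g x = v)
        (fun x => (g x).natAbs * (g x).natAbs), ← hq1]
    rw [hs, hq, ← add_assoc, ← add_assoc]
    exact h2

/-- the final test when the trivial character is non-exceptional: no exceptional degree fits -/
def finA (ok : ℕ → Bool) (N p m e t mind : ℕ) : ℤ → ℕ → Bool := fun s q =>
  !(decide (mind ≤ (1 + s).natAbs) && decide ((1 + s).natAbs ∣ m) &&
    decide ((1 + s - (e : ℤ)) % (p : ℤ) = 0) &&
    decide (q + 1 + t * ((1 + s).natAbs * (1 + s).natAbs) ≤ N) && ok (1 + s).natAbs)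

/-- the final test when all characters of the block are treated alike -/
def finB (N : ℕ) : ℤ → ℕ → Bool := fun s q => !(decide (1 + s = 0) && decide (q + 1 ≤ N))

/-- the test of one configuration `(e, c)` -/
def chk (ok : ℕ → Bool) (N p m B e c : ℕ) : Bool :=
  if e = p - 1 then
    srch (finB N) (cands ok N p m B (if c = p then 2 else 2 * p)) e 0 0
  else
    srch (finA ok N p m e ((p - 1) / e) (if c = p then 2 else 2 * p))
      (cands ok N p m B (if c = p then 2 else 2 * p)) (e - 1) 0 0

/-- a test of all configurations `(n, e, c)` of a Sylow subgroup of order `p` in a simple group of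
order `p m` -/
def allCfg (p m : ℕ) (f : ℕ → ℕ → Bool) : Bool :=
  (List.range (m + 1)).all fun n =>
    !(decide (n ∣ m) && decide (n % p = 1) && decide (n ≠ 1) &&
      (decide (13 ≤ n) || decide (2 * (p * m) ∣ n.factorial)) &&
      (decide (n ≠ p + 1) || decide (m / n ∣ p - 1))) ||
    (List.range p).all fun e =>
      !(decide (e ∣ Nat.gcd (m / n) (p - 1)) && decide (e ≠ 1)) || f e (p * (m / n) / e)

/-- extraction of one configuration -/
theorem of_allCfg {p m : ℕ} {f : ℕ → ℕ → Bool} (h : allCfg p m f = true) {n k e c : ℕ}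
    (hp : 1 < p) (h1 : n * k = m) (hm : 0 < m) (h2 : n % p = 1) (h3 : n ≠ 1)
    (h4 : 2 * (p * m) ∣ n.factorial) (h5 : e ∣ Nat.gcd k (p - 1)) (h6 : e ≠ 1)
    (h7 : c * e = p * k) (h8 : n = p + 1 → k ∣ p - 1) : f e c = true := by
  unfold allCfg at h
  rw [List.all_eq_true] at h
  have hn0 : 0 < n := by
    rcases Nat.eq_zero_or_pos n with h0 | h0
    · rw [h0, zero_mul] at h1; omega
    · exact h0
  have hnm : n ∣ m := ⟨k, h1.symm⟩
  have hk : m / n = k := by rw [← h1]; exact Nat.mul_div_cancel_left k hn0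
  have hnle : n ≤ m := Nat.le_of_dvd hm hnm
  have h' := h n (List.mem_range.2 (by omega))
  rw [hk] at h'
  have hcond : (decide (n ∣ m) && decide (n % p = 1) && decide (n ≠ 1) &&
      (decide (13 ≤ n) || decide (2 * (p * m) ∣ n.factorial)) &&
      (decide (n ≠ p + 1) || decide (k ∣ p - 1))) = true := by
    simp only [Bool.and_eq_true, Bool.or_eq_true, decide_eq_true_eq]
    refine ⟨⟨⟨⟨hnm, h2⟩, h3⟩, Or.inr h4⟩, ?_⟩
    by_cases hnp : n = p + 1
    · exact Or.inr (h8 hnp)
    · exact Or.inl hnp
  rw [hcond, Bool.not_true, Bool.false_or, List.all_eq_true] at h'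
  have he0 : 0 < e := by
    rcases Nat.eq_zero_or_pos e with h0 | h0
    · rw [h0, Nat.zero_dvd] at h5
      have := Nat.gcd_eq_zero_iff.1 h5
      omega
    · exact h0
  have hep : e < p := by
    have : e ∣ p - 1 := dvd_trans h5 (Nat.gcd_dvd_right _ _)
    have := Nat.le_of_dvd (by omega) this
    omega
  have h'' := h' e (List.mem_range.2 hep)
  have hcond2 : (decide (e ∣ Nat.gcd k (p - 1)) && decide (e ≠ 1)) = true := by
    simp only [Bool.and_eq_true, decide_eq_true_eq]
    exact ⟨h5, h6⟩
  rw [hcond2, Bool.not_true, Bool.false_or] at h''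
  have hc : p * k / e = c := by rw [← h7]; exact Nat.mul_div_cancel c he0
  rw [hc] at h''
  exact h''

/-- the degree equation has no solution, for every configuration -/
def deadFor (ok : ℕ → Bool) (p m B : ℕ) : Bool :=
  allCfg p m fun e c => chk ok (p * m) p m B e c

/-- the only configuration for which the degree equation has a solution is the self-centralizing
one with inertial index `e0` -/
def tiFor (ok : ℕ → Bool) (p m B e0 : ℕ) : Bool :=
  allCfg p m fun e c => chk ok (p * m) p m B e c || (decide (e = e0) && decide (c = p))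

end Cfsg.Agent.Lib.Helper6.OrdL
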