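import Mathlib
import Cfsg.Agent.Lib.Helper6.OrdL2
import Cfsg.Agent.Lib.Helper6.OrdH3
import Cfsg.Agent.Lib.Helper6.OrdH2

/-!
# Simple groups of order `p m`, `p ∤ m`, with a self-centralizing Sylow `p`-subgroup: the degrees
of all irreducible characters modulo `p`
-/

set_option autoImplicit false
set_option maxHeartbeats 1600000

namespace Cfsg.Agent.Lib.Helper6.OrdL

open Cfsg Cfsg.Agent.Lib.Helper8 Cfsg.Agent.Lib.Helper6.OrdB Cfsg.Agent.Lib.Helper6.OrdD
  Cfsg.Agent.Lib.Helper6.OrdK Cfsg.Agent.Lib.Helper6.OrdH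
open scoped ComplexConjugate

universe u

/-- the possible residues of the degrees -/
def okTI (p e0 d : ℕ) : Bool :=
  decide (p ∣ d) || decide (p ∣ d + (p - 1)) || decide (p ∣ d + 1) || decide (p ∣ d + e0) ||
    decide (p ∣ d + (p - e0))

theorem dvd_add_of_modEq {p d : ℕ} {r : ℤ} {s : ℕ} (h : (d : ℤ) ≡ r [ZMOD p])
    (hs : (p : ℤ) ∣ r + (s : ℤ)) : p ∣ d + s := by
  have h1 : (p : ℤ) ∣ (d : ℤ) - r := h.symm.dvd
  have h2 : (p : ℤ) ∣ ((d + s : ℕ) : ℤ) := by
    have : ((d + s : ℕ) : ℤ) = ((d : ℤ) - r) + (r + (s : ℤ)) := by push_cast; ring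
    rw [this]
    exact dvd_add h1 hs
  exact_mod_cast h2

variable {G : Type u} [Group G] [Finite G] [IsSimpleGroup G]

/-- **Self-centralizing Sylow subgroups of prime order**: if the only configuration with a solution
of the degree equation is the self-centralizing one with inertial index `e0`, then the degree of
every irreducible character is `0`, `±1` or `±e0` modulo `p`. -/
theorem ti_degrees (hG : ¬ IsMulCommutative G) (ok : ℕ → Bool)
    (hok : ∀ ψ : IrrCharacter G, ok (charDegree ψ.1) = true) (p m B e0 : ℕ) [hp : Fact p.Prime]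
    (hp2 : p ≠ 2) (hm : 1 < m) (hcard : Nat.card G = p * m) (hpm : ¬ p ∣ m)
    (hB : p * m < (B + 1) * (B + 1)) (h : tiFor ok p m B e0 = true) (ψ : IrrCharacter G) :
    okTI p e0 (charDegree ψ.1) = true := by
  classical
  have : Fintype G := Fintype.ofFinite G
  have : Fintype (IrrCharacter G) := Fintype.ofFinite _
  have hp1 : 1 < p := hp.1.one_lt
  have key : ∀ Q : Sylow p G, Nat.card Q = p ∧
      Nat.card (Subgroup.normalizer ((Q : Subgroup G) : Set G)) = p * e0 ∧
      (Subgroup.centralizer ((Q : Subgroup G) : Set G)).relIndex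
        (Subgroup.normalizer ((Q : Subgroup G) : Set G)) = e0 ∧ e0 ∣ p - 1 ∧
      Nat.card (Subgroup.centralizer ((Q : Subgroup G) : Set G)) = p := by
    intro Q
    obtain ⟨hQcard, n, k, e, c', hn, hnk, hmod, hn1, hfact, hN, he, hediv, he1, hc', hce, h8⟩ :=
      sylow_prime_data hG m hm hcard hpm Q
    have hcfg := of_allCfg h hp1 hnk (by omega) hmod hn1 hfact hediv he1 hce h8
    have hk0 : 0 < k := by
      rcases Nat.eq_zero_or_pos k with h0 | h0
      · rw [h0, mul_zero] at hnk; omega
      · exact h0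
    have hep : e ∣ p - 1 := dvd_trans hediv (Nat.gcd_dvd_right _ _)
    rw [Bool.or_eq_true] at hcfg
    rcases hcfg with hchk | hti
    · exact (chk_false hG ok hok p m B hp2 hcard hpm hB Q hQcard hk0 he hep he1 hc' hce hchk).elim
    · simp only [Bool.and_eq_true, decide_eq_true_eq] at hti
      obtain ⟨hee, hcp⟩ := hti
      subst hee
      subst hcp
      have hke : k = e := by
        have : c' * e = c' * k := hce
        exact (Nat.eq_of_mul_eq_mul_left (by omega) this).symm
      subst hke
      exact ⟨hQcard, hN, he, hep, hc'⟩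
  have hS : ∀ Q : Sylow p G, Nat.card Q = p ∧
      Subgroup.centralizer ((Q : Subgroup G) : Set G) = (Q : Subgroup G) := by
    intro Q
    obtain ⟨hQcard, -, -, -, hCQ⟩ := key Q
    refine ⟨hQcard, ?_⟩
    obtain ⟨x', -, hQx, -⟩ := d1_sylow_data p Q hQcard
    have hQle : (Q : Subgroup G) ≤ Subgroup.centralizer ((Q : Subgroup G) : Set G) := by
      intro a ha
      rw [Subgroup.mem_centralizer_iff]
      intro b hb
      rw [SetLike.mem_coe] at hb
      rw [hQx] at ha hb
      obtain ⟨i, rfl⟩ := Subgroup.mem_zpowers_iff.1 ha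
      obtain ⟨j, rfl⟩ := Subgroup.mem_zpowers_iff.1 hb
      exact ((Commute.refl x').zpow_zpow j i)
    exact (Subgroup.eq_of_le_of_card_ge hQle (by rw [hCQ, hQcard])).symm
  obtain ⟨P⟩ : Nonempty (Sylow p G) := inferInstance
  obtain ⟨hPcard, hN, he, hep, -⟩ := key P
  obtain ⟨x, hx, hPx, hsq⟩ := d1_sylow_data p P hPcard
  obtain ⟨M, hM⟩ := exists_isPModular p
  obtain ⟨c, hcP, hcx, htriv, hXdeg, hYdeg⟩ := exists_TI p M hM P x hx hPx hsq e0 he hS hN hep
  have he0le : e0 ≤ p - 1 := Nat.le_of_dvd (by omega) hep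
  unfold okTI
  simp only [Bool.or_eq_true, decide_eq_true_eq]
  by_cases hψX : ψ ∈ c.X
  · have h1 := hXdeg ψ hψX
    rcases c.hεX ψ hψX with h2 | h2 <;> rw [h2] at h1
    · left; left; left; right
      apply dvd_add_of_modEq h1
      rw [Nat.cast_sub (by omega)]
      exact ⟨1, by push_cast; ring⟩
    · left; left; right
      apply dvd_add_of_modEq h1
      exact ⟨0, by push_cast; ring⟩
  · by_cases hψY : ψ ∈ c.Y
    · have h1 := hYdeg ψ hψY
      rcases c.hε with h2 | h2 <;> rw [h2] at h1
      · right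
        apply dvd_add_of_modEq h1
        rw [Nat.cast_sub (by omega)]
        exact ⟨1, by push_cast; ring⟩
      · left; right
        apply dvd_add_of_modEq h1
        exact ⟨0, by push_cast; ring⟩
    · left; left; left; left
      obtain ⟨n, -, hsum, -⟩ := sum_pow ψ x
      rw [hx] at hsum
      have hxP : x ∈ (c.P : Subgroup G) := by rw [hcP, hPx]; exact Subgroup.mem_zpowers x
      have hvan : ∀ i ∈ Finset.range (p - 1), ψ.1 (x ^ (i + 1)) = 0 := by
        intro i hi
        rw [Finset.mem_range] at hi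
        apply c.vanish_off_block hψX hψY
        rw [c.mem_S]
        refine ⟨pow_mem hxP _, ?_⟩
        intro h1
        have h2 := orderOf_dvd_of_pow_eq_one h1
        rw [hx] at h2
        have := Nat.le_of_dvd (by omega) h2
        omega
      have hp' : p = (p - 1) + 1 := by omega
      rw [hp', Finset.sum_range_succ', Finset.sum_congr rfl hvan, Finset.sum_const_zero, zero_add,
        pow_zero, apply_one, ← hp'] at hsum
      have : charDegree ψ.1 = p * n := by exact_mod_cast hsum
      exact ⟨n, this⟩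

end Cfsg.Agent.Lib.Helper6.OrdL
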