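import Mathlib
import Cfsg.Agent.Lib.Helper6.OrdL1

/-!
# The search for solutions of the degree equation, with a weight accumulator and a final predicate
-/

set_option autoImplicit false
set_option maxHeartbeats 1600000

namespace Cfsg.Agent.Lib.Helper6.OrdL

/-- the search with a second accumulator: the weights of the values -/
def srchW (w : ℕ → ℕ) (fin : ℤ → ℕ → ℕ → Bool) : List ℤ → ℕ → ℤ → ℕ → ℕ → Bool
  | [], r, s, q, q2 => (r != 0) || fin s q q2
  | v :: vs, r, s, q, q2 => (List.range (r + 1)).all fun a =>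
      srchW w fin vs (r - a) (s + (a : ℤ) * v) (q + a * (v.natAbs * v.natAbs))
        (q2 + a * w v.natAbs)

/-- soundness of the search -/
theorem srchW_sound {α : Type*} [DecidableEq α] (w : ℕ → ℕ) (fin : ℤ → ℕ → ℕ → Bool)
    (L : List ℤ) :
    ∀ (T : Finset α) (g : α → ℤ), (∀ x ∈ T, g x ∈ L) → ∀ (s : ℤ) (q q2 : ℕ),
      srchW w fin L T.card s q q2 = true →
      fin (s + ∑ x ∈ T, g x) (q + ∑ x ∈ T, (g x).natAbs * (g x).natAbs)
        (q2 + ∑ x ∈ T, w (g x).natAbs) = true := by
  induction L with
  | nil =>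
    intro T g hg s q q2 h
    have hT : T = ∅ := by
      rw [Finset.eq_empty_iff_forall_notMem]
      intro x hx
      exact absurd (hg x hx) (List.not_mem_nil)
    subst hT
    simp only [srchW, Finset.card_empty, bne_self_eq_false, Bool.false_or] at h
    simpa using h
  | cons v vs ih =>
    intro T g hg s q q2 h
    simp only [srchW, List.all_eq_true, List.mem_range] at h
    set T1 := T.filter (fun x => g x = v) with hT1
    set T2 := T.filter (fun x => ¬ g x = v) with hT2
    have hcard : T1.card + T2.card = T.card := Finset.card_filter_add_card_filter_not _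
    have h1 := h T1.card (by omega)
    have hr : T.card - T1.card = T2.card := by omega
    rw [hr] at h1
    have hg2 : ∀ x ∈ T2, g x ∈ vs := by
      intro x hx
      rw [hT2, Finset.mem_filter] at hx
      rcases List.mem_cons.1 (hg x hx.1) with h' | h'
      · exact absurd h' hx.2
      · exact h'
    have h2 := ih T2 g hg2 _ _ _ h1
    have hs1 : ∑ x ∈ T1, g x = (T1.card : ℤ) * v := by
      rw [Finset.sum_congr rfl (fun x hx => (Finset.mem_filter.1 hx).2), Finset.sum_const,
        nsmul_eq_mul]
    have hs : ∑ x ∈ T, g x = (T1.card : ℤ) * v + ∑ x ∈ T2, g x := by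
      rw [← Finset.sum_filter_add_sum_filter_not T (fun x => g x = v) g, ← hs1]
    have hq : ∑ x ∈ T, (g x).natAbs * (g x).natAbs =
        T1.card * (v.natAbs * v.natAbs) + ∑ x ∈ T2, (g x).natAbs * (g x).natAbs := by
      have hq1 : ∑ x ∈ T1, (g x).natAbs * (g x).natAbs = T1.card * (v.natAbs * v.natAbs) := by
        rw [Finset.sum_congr rfl (fun x hx => by rw [(Finset.mem_filter.1 hx).2]),
          Finset.sum_const, smul_eq_mul]
      rw [← Finset.sum_filter_add_sum_filter_not T (fun x => g x = v)
        (fun x => (g x).natAbs * (g x).natAbs), ← hq1]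
    have hq2 : ∑ x ∈ T, w (g x).natAbs = T1.card * w v.natAbs + ∑ x ∈ T2, w (g x).natAbs := by
      have hq1 : ∑ x ∈ T1, w (g x).natAbs = T1.card * w v.natAbs := by
        rw [Finset.sum_congr rfl (fun x hx => by rw [(Finset.mem_filter.1 hx).2]),
          Finset.sum_const, smul_eq_mul]
      rw [← Finset.sum_filter_add_sum_filter_not T (fun x => g x = v)
        (fun x => w (g x).natAbs), ← hq1]
    rw [hs, hq, hq2, ← add_assoc, ← add_assoc, ← add_assoc]
    exact h2

/-- the final test when the trivial character is non-exceptional: every exceptional degree that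
fits satisfies the predicate -/
def finAW (ok : ℕ → Bool) (R : ℕ → ℕ → Bool) (Nq p m e t mind : ℕ) : ℤ → ℕ → ℕ → Bool :=
  fun s q q2 =>
  !(decide (mind ≤ (1 + s).natAbs) && decide ((1 + s).natAbs ∣ m) &&
    decide ((1 + s - (e : ℤ)) % (p : ℤ) = 0) &&
    decide (q + 1 + t * ((1 + s).natAbs * (1 + s).natAbs) ≤ Nq) && ok (1 + s).natAbs) ||
  R q2 (1 + s).natAbs

/-- the final test when all characters of the block are treated alike -/
def finBW (R : ℕ → ℕ → Bool) (Nq : ℕ) : ℤ → ℕ → ℕ → Bool := fun s q q2 =>
  !(decide (1 + s = 0) && decide (q + 1 ≤ Nq)) || R q2 0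

/-- the test of one configuration `(e, c)` -/
def chkW (ok : ℕ → Bool) (w : ℕ → ℕ) (R : ℕ → ℕ → ℕ → ℕ → Bool) (N Nq p m B e c : ℕ) : Bool :=
  if e = p - 1 then
    srchW w (finBW (R e c) Nq) (cands ok N p m B (if c = p then 2 else 2 * p)) e 0 0 0
  else
    srchW w (finAW ok (R e c) Nq p m e ((p - 1) / e) (if c = p then 2 else 2 * p))
      (cands ok N p m B (if c = p then 2 else 2 * p)) (e - 1) 0 0 0

/-- every solution of the degree equation within the budget, for every configuration, satisfies
the predicate -/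
def allW (ok : ℕ → Bool) (w : ℕ → ℕ) (R : ℕ → ℕ → ℕ → ℕ → Bool) (Nq p m B : ℕ) : Bool :=
  allCfg p m fun e c => chkW ok w R (p * m) Nq p m B e c

end Cfsg.Agent.Lib.Helper6.OrdL
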