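import Mathlib
import Cfsg.Agent.Lib.Helper6.OrdN2
import Cfsg.Agent.Lib.Helper6.OrdP1

/-!
# Simple groups of order `p m`, `p ∤ m`: the degrees of the characters of the principal `p`-block
satisfy every predicate that holds for all solutions of the degree equation found by the search
-/

set_option autoImplicit false
set_option maxHeartbeats 1600000

namespace Cfsg.Agent.Lib.Helper6.OrdL

open Cfsg Cfsg.Agent.Lib.Helper8 Cfsg.Agent.Lib.Helper6.OrdB Cfsg.Agent.Lib.Helper6.OrdD
  Cfsg.Agent.Lib.Helper6.OrdK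
open scoped ComplexConjugate

universe u

variable {G : Type u} [Group G] [Fintype G] [IsSimpleGroup G] [Fintype (IrrCharacter G)]

open Classical in
/-- **The principal block of a Sylow subgroup of prime order**: the degrees of the characters of
the block, for the actual configuration of a Sylow subgroup, form a solution of the degree equation
within the budget, so that they satisfy the predicate verified by the search. -/
theorem chkW_spec (hG : ¬ IsMulCommutative G) (ok : ℕ → Bool) (w : ℕ → ℕ)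
    (R : ℕ → ℕ → ℕ → ℕ → Bool)
    (hok : ∀ ψ : IrrCharacter G, ok (charDegree ψ.1) = true) (p m B Nq : ℕ) [hp : Fact p.Prime]
    (hp2 : p ≠ 2) (hcard : Nat.card G = p * m) (hpm : ¬ p ∣ m)
    (hB : p * m < (B + 1) * (B + 1))
    (hbud : ∀ S : Finset (IrrCharacter G), (∀ ψ ∈ S, ¬ p ∣ charDegree ψ.1) →
      ∑ ψ ∈ S, (charDegree ψ.1) ^ 2 ≤ Nq)
    (P : Sylow p G) {k e c' : ℕ}
    (hk0 : 0 < k) (hep : e ∣ p - 1) (he1 : e ≠ 1)
    (hc' : Nat.card (Subgroup.centralizer ((P : Subgroup G) : Set G)) = c')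
    (hce : c' * e = p * k) (c : D1 G p e) (hcP : c.P = P)
    (hchk : chkW ok w R (p * m) Nq p m B e c' = true) :
    (e = p - 1 → ∃ θ0 ∈ c.Y,
      R e c' (∑ χ ∈ (c.Bf θ0).erase (trivIrr G), w (charDegree χ.1)) 0 = true) ∧
    (e ≠ p - 1 → trivIrr G ∈ c.X ∧ ∃ θ0 ∈ c.Y,
      R e c' (∑ χ ∈ c.Xf.erase (trivIrr G), w (charDegree χ.1)) (charDegree θ0.1) = true) := by
  have hperf : commutator G = ⊤ := commutator_eq_top hG
  have hp3 : 2 < p := lt_of_le_of_ne hp.1.two_le (Ne.symm hp2)
  have he0 : 0 < e := Nat.pos_of_dvd_of_pos hep (by omega)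
  have hele : e ≤ p - 1 := Nat.le_of_dvd (by omega) hep
  -- general facts on degrees
  have hdvd : ∀ ψ : IrrCharacter G, charDegree ψ.1 ∣ p * m := fun ψ => hcard ▸ charDegree_dvd ψ
  have hsq : ∀ ψ : IrrCharacter G, charDegree ψ.1 * charDegree ψ.1 ≤ p * m := by
    intro ψ
    have := sq_le_card ψ
    rw [hcard, pow_two] at this
    exact this
  have hleB : ∀ ψ : IrrCharacter G, charDegree ψ.1 ≤ B := by
    intro ψ
    by_contra hcon
    push Not at hcon
    have h1 : (B + 1) * (B + 1) ≤ charDegree ψ.1 * charDegree ψ.1 := Nat.mul_le_mul hcon hcon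
    have := hsq ψ
    omega
  have hdvdm : ∀ ψ : IrrCharacter G, ¬ p ∣ charDegree ψ.1 → charDegree ψ.1 ∣ m := by
    intro ψ hnd
    exact (Nat.Coprime.dvd_mul_left ((Nat.Prime.coprime_iff_not_dvd hp.1).2 hnd).symm).1 (hdvd ψ)
  -- the lower bound for the degrees
  set mind : ℕ := if c' = p then 2 else 2 * p with hmind
  have hge : ∀ ψ : IrrCharacter G, ψ ∈ c.X ∪ c.Y → ψ ≠ trivIrr G → mind ≤ charDegree ψ.1 := by
    intro ψ hψ hne
    rw [hmind]
    split_ifs with hcp
    · have h1 := charDegree_pos ψ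
      have h2 : charDegree ψ.1 ≠ 1 := fun h => hne (eq_trivIrr_of_charDegree_eq_one hperf ψ h)
      omega
    · apply c.two_mul_le_deg hG _ hψ hne
      rw [hcP]
      intro hpg
      obtain ⟨j, hj⟩ := IsPGroup.iff_card.1 hpg
      rw [hc'] at hj
      have hj1 : j ≤ 1 := by
        by_contra hcon
        push Not at hcon
        have h1 : p ^ 2 ∣ p ^ j := pow_dvd_pow p hcon
        have h2 : p ^ j ∣ p * m := by
          rw [← hj, ← hc', ← hcard]
          exact Subgroup.card_subgroup_dvd_card _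
        have h3 : p * p ∣ p * m := by rw [← pow_two]; exact dvd_trans h1 h2
        exact hpm (Nat.dvd_of_mul_dvd_mul_left hp.1.pos h3)
      interval_cases j
      · rw [pow_zero] at hj
        rw [hj, one_mul] at hce
        have : p ≤ p * k := Nat.le_mul_of_pos_right p hk0
        omega
      · rw [pow_one] at hj
        exact hcp hj
  -- the non-exceptional characters
  have hXmod : ∀ χ ∈ c.X, ¬ p ∣ charDegree χ.1 := by
    intro χ hχ hd
    have h1 := c.hXdeg χ hχ
    have h2 : (charDegree χ.1 : ℤ) ≡ 0 [ZMOD p] := by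
      rw [Int.modEq_zero_iff_dvd]
      exact_mod_cast hd
    have h3 : c.εX χ ≡ 0 [ZMOD p] := h1.symm.trans h2
    rw [Int.modEq_zero_iff_dvd] at h3
    rcases c.hεX χ hχ with h4 | h4 <;> rw [h4] at h3
    · have := Int.le_of_dvd (by norm_num) h3
      omega
    · rw [dvd_neg] at h3
      have := Int.le_of_dvd (by norm_num) h3
      omega
  have hYmod : ∀ θ ∈ c.Y, ¬ p ∣ charDegree θ.1 := by
    intro θ hθ hd
    have h1 := c.hYdeg θ hθ
    have h2 : (charDegree θ.1 : ℤ) ≡ 0 [ZMOD p] := by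
      rw [Int.modEq_zero_iff_dvd]
      exact_mod_cast hd
    have h3 : c.ε * (e : ℤ) ≡ 0 [ZMOD p] := h1.symm.trans h2
    rw [Int.modEq_zero_iff_dvd] at h3
    have h4 : (p : ℤ) ∣ (e : ℤ) := by
      rcases c.hε with h5 | h5 <;> rw [h5] at h3
      · simpa using h3
      · simpa using h3
    have h5 : p ∣ e := by exact_mod_cast h4
    have := Nat.le_of_dvd he0 h5
    omega
  have hcandX : ∀ χ ∈ c.X, χ ≠ trivIrr G →
      c.εX χ * (charDegree χ.1 : ℤ) ∈ cands ok (p * m) p m B mind := by
    intro χ hχ hne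
    exact mem_cands_of hp3 (c.hεX χ hχ) (hleB χ) (hge χ (Or.inl hχ) hne)
      (hdvdm χ (hXmod χ hχ)) (hsq χ) (c.hXdeg χ hχ) (hok χ)
  have h1reg := c.one_reg
  refine ⟨fun hecase => ?_, fun hecase => ?_⟩
  · -- all characters of the block are treated alike
    unfold chkW at hchk
    rw [if_pos hecase, ← hmind] at hchk
    have hYcard : c.Yf.card = 1 := by
      have h1 := c.card_Yf
      exact Nat.eq_of_mul_eq_mul_right he0 (by rw [h1, one_mul]; exact hecase.symm)
    obtain ⟨θ0, hYeq⟩ := Finset.card_eq_one.1 hYcard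
    have hθ0 : θ0 ∈ c.Y := c.mem_Yf.1 (by rw [hYeq]; exact Finset.mem_singleton_self _)
    have hdeg : ∀ χ ∈ c.Bf θ0, (charDegree χ.1 : ℤ) ≡ c.δ θ0 χ [ZMOD p] := by
      intro χ hχ
      rcases (c.mem_Bf θ0).1 hχ with h' | h'
      · rw [h', c.δ_self]
        have h1 := c.hYdeg θ0 hθ0
        have hecast : (e : ℤ) = (p : ℤ) - 1 := by
          rw [hecase, Nat.cast_sub (by omega), Nat.cast_one]
        refine h1.trans ?_
        rw [Int.modEq_iff_dvd]
        exact ⟨-c.ε, by rw [hecast]; ring⟩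
      · rw [c.δ_of_mem_X θ0 hθ0 h']
        exact c.hXdeg χ h'
    have hBsub : ∀ χ ∈ c.Bf θ0, χ ∈ c.X ∪ c.Y := by
      intro χ hχ
      rcases (c.mem_Bf θ0).1 hχ with h' | h'
      · right; rw [h']; exact hθ0
      · left; exact h'
    have hBmod : ∀ χ ∈ c.Bf θ0, ¬ p ∣ charDegree χ.1 := by
      intro χ hχ
      rcases hBsub χ hχ with h' | h'
      · exact hXmod χ h'
      · exact hYmod χ h'
    have htrivB : trivIrr G ∈ c.Bf θ0 := by
      rw [c.mem_Bf]
      rcases c.triv_mem with h' | h'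
      · exact Or.inr h'
      · left
        have : trivIrr G ∈ c.Yf := c.mem_Yf.2 h'
        rw [hYeq, Finset.mem_singleton] at this
        exact this
    have hδtriv : c.δ θ0 (trivIrr G) = 1 := by
      have h2 := hdeg _ htrivB
      rw [charDegree_trivIrr] at h2
      rcases c.δ_cases θ0 htrivB with h1 | h1
      · exact h1
      · exfalso
        rw [h1, Int.modEq_iff_dvd] at h2
        have h3 : (p : ℤ) ∣ 2 := by
          have : (-1 : ℤ) - ((1 : ℕ) : ℤ) = -2 := by norm_num
          rw [this, dvd_neg] at h2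
          exact h2
        have := Int.le_of_dvd (by norm_num) h3
        omega
    have hTcard : ((c.Bf θ0).erase (trivIrr G)).card = e := by
      rw [Finset.card_erase_of_mem htrivB, c.card_Bf θ0 hθ0]
      rfl
    have hTmem : ∀ χ ∈ (c.Bf θ0).erase (trivIrr G), χ ∈ c.Bf θ0 ∧ χ ≠ trivIrr G := by
      intro χ h'
      rw [Finset.mem_erase] at h'
      exact ⟨h'.2, h'.1⟩
    have hcase : ∀ χ ∈ (c.Bf θ0).erase (trivIrr G),
        c.δ θ0 χ * (charDegree χ.1 : ℤ) ∈ cands ok (p * m) p m B mind := by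
      intro χ hχ
      obtain ⟨hB', hne⟩ := hTmem χ hχ
      exact mem_cands_of hp3 (c.δ_cases θ0 hB') (hleB χ) (hge χ (hBsub χ hB') hne)
        (hdvdm χ (hBmod χ hB')) (hsq χ) (hdeg χ hB') (hok χ)
    have hchk' : srchW w (finBW (R e c') Nq) (cands ok (p * m) p m B mind)
        ((c.Bf θ0).erase (trivIrr G)).card 0 0 0 = true := by
      rw [hTcard]
      exact hchk
    have hfin := srchW_sound w (finBW (R e c') Nq) _ _ _ hcase 0 0 0 hchk'
    -- the sum of the signed degrees
    have hs1 : ∑ χ ∈ (c.Bf θ0).erase (trivIrr G), c.δ θ0 χ * (charDegree χ.1 : ℤ) = -1 := by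
      have h' := c.sum_Bf_reg θ0 hθ0 h1reg
      rw [← Finset.add_sum_erase _ _ htrivB, hδtriv] at h'
      simp only [apply_one] at h'
      rw [charDegree_trivIrr] at h'
      have h'' : (1 : ℤ) + ∑ χ ∈ (c.Bf θ0).erase (trivIrr G), c.δ θ0 χ * (charDegree χ.1 : ℤ) = 0 := by
        have : (((1 : ℤ) + ∑ χ ∈ (c.Bf θ0).erase (trivIrr G),
            c.δ θ0 χ * (charDegree χ.1 : ℤ) : ℤ) : ℂ) = 0 := by
          push_cast
          push_cast at h'
          linear_combination h'
        exact_mod_cast this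
      omega
    have hs2 : ∑ χ ∈ (c.Bf θ0).erase (trivIrr G),
        (c.δ θ0 χ * (charDegree χ.1 : ℤ)).natAbs * (c.δ θ0 χ * (charDegree χ.1 : ℤ)).natAbs + 1 ≤
        Nq := by
      have h1 := hbud (c.Bf θ0) hBmod
      rw [← Finset.add_sum_erase _ _ htrivB, charDegree_trivIrr] at h1
      have h2 : ∑ χ ∈ (c.Bf θ0).erase (trivIrr G),
          (c.δ θ0 χ * (charDegree χ.1 : ℤ)).natAbs * (c.δ θ0 χ * (charDegree χ.1 : ℤ)).natAbs =
          ∑ χ ∈ (c.Bf θ0).erase (trivIrr G), (charDegree χ.1) ^ 2 := by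
        refine Finset.sum_congr rfl fun χ hχ => ?_
        rw [natAbs_sign_mul' (c.δ_cases θ0 (hTmem χ hχ).1), pow_two]
      rw [h2]
      omega
    dsimp only [finBW] at hfin
    rw [zero_add, zero_add, zero_add, hs1] at hfin
    simp only [Bool.or_eq_true, Bool.not_eq_true', Bool.and_eq_false_iff,
      decide_eq_false_iff_not] at hfin
    rcases hfin with (h' | h') | h'
    · exact absurd (by norm_num) h'
    · exact absurd hs2 h'
    · have hw : ∑ χ ∈ (c.Bf θ0).erase (trivIrr G), w (c.δ θ0 χ * (charDegree χ.1 : ℤ)).natAbs =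
          ∑ χ ∈ (c.Bf θ0).erase (trivIrr G), w (charDegree χ.1) := by
        refine Finset.sum_congr rfl fun χ hχ => ?_
        rw [natAbs_sign_mul' (c.δ_cases θ0 (hTmem χ hχ).1)]
      rw [hw] at h'
      exact ⟨θ0, hθ0, h'⟩
  · -- the trivial character is non-exceptional
    unfold chkW at hchk
    rw [if_neg hecase, ← hmind] at hchk
    have helt : e < p - 1 := lt_of_le_of_ne hele hecase
    have he2 : 2 * e ≤ p - 1 := by
      obtain ⟨j, hj⟩ := hep
      have hj2 : 2 ≤ j := by
        by_contra hcon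
        push Not at hcon
        interval_cases j <;> omega
      calc 2 * e = e * 2 := by ring
        _ ≤ e * j := Nat.mul_le_mul_left e hj2
        _ = p - 1 := hj.symm
    have htX : trivIrr G ∈ c.X := by
      rcases c.triv_mem with h' | h'
      · exact h'
      · exfalso
        have h1 := c.hYdeg _ h'
        rw [charDegree_trivIrr, Int.modEq_iff_dvd] at h1
        rcases c.hε with h2 | h2 <;> rw [h2] at h1
        · have h3 : (p : ℤ) ∣ (e : ℤ) - 1 := by
            have : (1 : ℤ) * (e : ℤ) - ((1 : ℕ) : ℤ) = (e : ℤ) - 1 := by push_cast; ring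
            rwa [this] at h1
          have h4 : (e : ℤ) - 1 = ((e - 1 : ℕ) : ℤ) := by
            rw [Nat.cast_sub he0]; simp
          rw [h4] at h3
          have h5 : p ∣ e - 1 := by exact_mod_cast h3
          have h6 : 0 < e - 1 := by omega
          have := Nat.le_of_dvd h6 h5
          omega
        · have h3 : (p : ℤ) ∣ (e : ℤ) + 1 := by
            have : (-1 : ℤ) * (e : ℤ) - ((1 : ℕ) : ℤ) = -((e : ℤ) + 1) := by push_cast; ring
            rw [this, dvd_neg] at h1
            exact h1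
          have h5 : p ∣ e + 1 := by exact_mod_cast h3
          have := Nat.le_of_dvd (by omega) h5
          omega
    have hεt : c.εX (trivIrr G) = 1 := by
      have h2 := c.hXdeg _ htX
      rw [charDegree_trivIrr] at h2
      rcases c.hεX _ htX with h1 | h1
      · exact h1
      · exfalso
        rw [h1, Int.modEq_iff_dvd] at h2
        have h3 : (p : ℤ) ∣ 2 := by
          have : (-1 : ℤ) - ((1 : ℕ) : ℤ) = -2 := by norm_num
          rw [this, dvd_neg] at h2
          exact h2
        have := Int.le_of_dvd (by norm_num) h3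
        omega
    have htXf : trivIrr G ∈ c.Xf := c.mem_Xf.2 htX
    have hTcard : (c.Xf.erase (trivIrr G)).card = e - 1 := by
      rw [Finset.card_erase_of_mem htXf, c.card_Xf]
    have hTmem : ∀ χ ∈ c.Xf.erase (trivIrr G), χ ∈ c.X ∧ χ ≠ trivIrr G := by
      intro χ h'
      rw [Finset.mem_erase, c.mem_Xf] at h'
      exact ⟨h'.2, h'.1⟩
    have hcase : ∀ χ ∈ c.Xf.erase (trivIrr G),
        c.εX χ * (charDegree χ.1 : ℤ) ∈ cands ok (p * m) p m B mind := by
      intro χ hχ
      exact hcandX χ (hTmem χ hχ).1 (hTmem χ hχ).2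
    have hchk' : srchW w (finAW ok (R e c') Nq p m e ((p - 1) / e) mind)
        (cands ok (p * m) p m B mind) (c.Xf.erase (trivIrr G)).card 0 0 0 = true := by
      rw [hTcard]
      exact hchk
    have hfin := srchW_sound w (finAW ok (R e c') Nq p m e ((p - 1) / e) mind) _ _ _ hcase 0 0 0 hchk'
    rw [zero_add, zero_add, zero_add] at hfin
    -- an exceptional character
    have hYne : c.Yf.Nonempty := by
      rw [← Finset.card_pos]
      have h1 := c.card_Yf
      by_contra hcon
      push Not at hcon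
      have : c.Yf.card = 0 := by omega
      rw [this, zero_mul] at h1
      omega
    obtain ⟨θ0, hθ0f⟩ := hYne
    have hθ0 := c.mem_Yf.1 hθ0f
    have hθne : θ0 ≠ trivIrr G := fun h' => c.ne_of_mem htX hθ0 h'.symm
    have heq1 := c.sum_reg hθ0 h1reg
    rw [← Finset.add_sum_erase _ _ htXf, hεt, trivIrr_apply, apply_one θ0] at heq1
    have heqZ : c.ε * (charDegree θ0.1 : ℤ) =
        1 + ∑ χ ∈ c.Xf.erase (trivIrr G), c.εX χ * (charDegree χ.1 : ℤ) := by
      have : ((c.ε * (charDegree θ0.1 : ℤ) : ℤ) : ℂ) =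
          ((1 + ∑ χ ∈ c.Xf.erase (trivIrr G), c.εX χ * (charDegree χ.1 : ℤ) : ℤ) : ℂ) := by
        push_cast
        rw [heq1]
        congr 1
        · norm_num
        · refine Finset.sum_congr rfl fun χ _ => ?_
          rw [apply_one χ]
      exact_mod_cast this
    have hYdeg : ∀ θ ∈ c.Yf, charDegree θ.1 = charDegree θ0.1 := by
      intro θ hθ
      have h1 := c.hYagree θ (c.mem_Yf.1 hθ) θ0 hθ0 1 h1reg
      rw [apply_one, apply_one] at h1
      exact_mod_cast h1
    have hYcard : c.Yf.card = (p - 1) / e := by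
      have h1 := c.card_Yf
      rw [← h1]
      exact (Nat.mul_div_cancel _ he0).symm
    have hdisj : Disjoint c.Xf c.Yf := by
      rw [Finset.disjoint_left]
      intro χ h1 h2
      exact c.ne_of_mem (c.mem_Xf.1 h1) (c.mem_Yf.1 h2) rfl
    have hYsum : ∑ θ ∈ c.Yf, (charDegree θ.1) ^ 2 =
        (p - 1) / e * (charDegree θ0.1 * charDegree θ0.1) := by
      rw [Finset.sum_congr rfl (fun θ hθ => by rw [hYdeg θ hθ]), Finset.sum_const, hYcard,
        smul_eq_mul, pow_two]
    have hsq2 : ∑ χ ∈ c.Xf.erase (trivIrr G),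
        (c.εX χ * (charDegree χ.1 : ℤ)).natAbs * (c.εX χ * (charDegree χ.1 : ℤ)).natAbs + 1 +
        (p - 1) / e * (charDegree θ0.1 * charDegree θ0.1) ≤ Nq := by
      have h1 := hbud (c.Xf ∪ c.Yf) (by
        intro ψ hψ
        rcases Finset.mem_union.1 hψ with h' | h'
        · exact hXmod ψ (c.mem_Xf.1 h')
        · exact hYmod ψ (c.mem_Yf.1 h'))
      rw [Finset.sum_union hdisj, ← Finset.add_sum_erase _ _ htXf, charDegree_trivIrr,
        hYsum] at h1
      have h2 : ∑ χ ∈ c.Xf.erase (trivIrr G),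
          (c.εX χ * (charDegree χ.1 : ℤ)).natAbs * (c.εX χ * (charDegree χ.1 : ℤ)).natAbs =
          ∑ χ ∈ c.Xf.erase (trivIrr G), (charDegree χ.1) ^ 2 := by
        refine Finset.sum_congr rfl fun χ hχ => ?_
        rw [natAbs_sign_mul' (c.hεX χ (hTmem χ hχ).1), pow_two]
      rw [h2]
      omega
    dsimp only [finAW] at hfin
    rw [← heqZ, natAbs_sign_mul' c.hε] at hfin
    simp only [Bool.or_eq_true, Bool.not_eq_true', Bool.and_eq_false_iff,
      decide_eq_false_iff_not] at hfin
    rcases hfin with ((((h' | h') | h') | h') | h') | h'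
    · exact absurd (hge θ0 (Or.inr hθ0) hθne) h'
    · exact absurd (hdvdm θ0 (hYmod θ0 hθ0)) h'
    · exfalso
      apply h'
      have h1 := c.hYdeg θ0 hθ0
      have h2 : c.ε * (charDegree θ0.1 : ℤ) ≡ c.ε * (c.ε * (e : ℤ)) [ZMOD p] := h1.mul_left _
      have h3 : c.ε * (c.ε * (e : ℤ)) = (e : ℤ) := by
        rcases c.hε with h4 | h4 <;> rw [h4] <;> ring
      rw [h3] at h2
      exact Int.emod_eq_zero_of_dvd h2.symm.dvd
    · exact absurd hsq2 h'
    · rw [hok θ0] at h'
      exact Bool.noConfusion h'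
    · have hw : ∑ χ ∈ c.Xf.erase (trivIrr G), w (c.εX χ * (charDegree χ.1 : ℤ)).natAbs =
          ∑ χ ∈ c.Xf.erase (trivIrr G), w (charDegree χ.1) := by
        refine Finset.sum_congr rfl fun χ hχ => ?_
        rw [natAbs_sign_mul' (c.hεX χ (hTmem χ hχ).1)]
      rw [hw] at h'
      exact ⟨htX, θ0, hθ0, h'⟩

end Cfsg.Agent.Lib.Helper6.OrdL
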