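import Mathlib
import Cfsg.Agent.Lib.Helper6.OrdL3
import Cfsg.Agent.Lib.Helper6.OrdH5
import Cfsg.Agent.Lib.Helper6.OrdP2

/-!
# Sylow subgroups of prime order: from the general data of the principal block to the
self-centralizing case
-/

set_option autoImplicit false
set_option maxHeartbeats 1600000

namespace Cfsg.Agent.Lib.Helper6.OrdL

open Cfsg Cfsg.Agent.Lib.Helper8 Cfsg.Agent.Lib.Helper6.OrdB Cfsg.Agent.Lib.Helper6.OrdD
  Cfsg.Agent.Lib.Helper6.OrdK Cfsg.Agent.Lib.Helper6.OrdH
open scoped ComplexConjugate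

universe u

section conv

variable {G : Type u} [Group G] [Fintype G] {p e : ℕ} [hp : Fact p.Prime]

/-- the data of the self-centralizing case -/
def toTI (c : D1 G p e)
    (hS : ∀ Q : Sylow p G, Nat.card Q = p ∧
      Subgroup.centralizer ((Q : Subgroup G) : Set G) = (Q : Subgroup G))
    (hN : Nat.card (Subgroup.normalizer ((c.P : Subgroup G) : Set G)) = p * e) : TI G p e :=
  { P := c.P, x := c.x, X := c.X, Y := c.Y, εX := c.εX, ε := c.ε, hS := hS, hN := hN,
    hx := c.hx, hPx := c.hPx, hdisj := c.hdisj, hXc := c.hXc, hYc := c.hYc, hεX := c.hεX,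
    hval := fun χ hχ s hs hs1 => by
      have := c.hval χ hχ s hs hs1 1 (one_mem _) c.one_reg
      rwa [mul_one] at this
    hε := c.hε, hYagree := c.hYagree, hYsum := c.hYsum }

variable (c : D1 G p e)
    (hS : ∀ Q : Sylow p G, Nat.card Q = p ∧
      Subgroup.centralizer ((Q : Subgroup G) : Set G) = (Q : Subgroup G))
    (hN : Nat.card (Subgroup.normalizer ((c.P : Subgroup G) : Set G)) = p * e)

theorem toTI_X : (toTI c hS hN).X = c.X := rfl

theorem toTI_Y : (toTI c hS hN).Y = c.Y := rfl

theorem toTI_x : (toTI c hS hN).x = c.x := rfl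

theorem toTI_P : (toTI c hS hN).P = c.P := rfl

theorem toTI_εX : (toTI c hS hN).εX = c.εX := rfl

theorem toTI_ε : (toTI c hS hN).ε = c.ε := rfl

theorem toTI_Xf [Fintype (IrrCharacter G)] : (toTI c hS hN).Xf = c.Xf := rfl

theorem toTI_Yf [Fintype (IrrCharacter G)] : (toTI c hS hN).Yf = c.Yf := rfl

theorem toTI_Bf [Fintype (IrrCharacter G)] (θ0 : IrrCharacter G) :
    (toTI c hS hN).Bf θ0 = c.Bf θ0 := rfl

theorem toTI_δ [Fintype (IrrCharacter G)] (θ0 : IrrCharacter G) :
    (toTI c hS hN).δ θ0 = c.δ θ0 := rfl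

/-- a character outside the principal block has degree divisible by `p` -/
theorem TI.dvd_deg_of_not_mem (c : TI G p e) {ψ : IrrCharacter G} (hψX : ψ ∉ c.X)
    (hψY : ψ ∉ c.Y) : p ∣ charDegree ψ.1 := by
  have hp1 : 1 < p := hp.1.one_lt
  obtain ⟨n, -, hsum, -⟩ := sum_pow ψ c.x
  rw [c.hx] at hsum
  have hxP : c.x ∈ (c.P : Subgroup G) := by rw [c.hPx]; exact Subgroup.mem_zpowers c.x
  have hvan : ∀ i ∈ Finset.range (p - 1), ψ.1 (c.x ^ (i + 1)) = 0 := by
    intro i hi
    rw [Finset.mem_range] at hi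
    apply c.vanish_off_block hψX hψY
    rw [c.mem_S]
    refine ⟨pow_mem hxP _, ?_⟩
    intro h1
    have h2 := orderOf_dvd_of_pow_eq_one h1
    rw [c.hx] at h2
    have := Nat.le_of_dvd (by omega) h2
    omega
  have hp' : p = (p - 1) + 1 := by omega
  have hr : Finset.range p = Finset.range ((p - 1) + 1) := congrArg Finset.range hp'
  rw [hr, Finset.sum_range_succ', Finset.sum_congr rfl hvan, Finset.sum_const_zero, zero_add,
    pow_zero, apply_one] at hsum
  have : charDegree ψ.1 = p * n := by exact_mod_cast hsum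
  exact ⟨n, this⟩

end conv

variable {G : Type u} [Group G] [Finite G] [IsSimpleGroup G]

/-- **Self-centralizing Sylow subgroups of prime order**: if the only configuration with a solution
of the degree equation is the self-centralizing one with inertial index `e0`, then this is the
configuration of every Sylow `p`-subgroup. -/
theorem ti_cfg (hG : ¬ IsMulCommutative G) (ok : ℕ → Bool)
    (hok : ∀ ψ : IrrCharacter G, ok (charDegree ψ.1) = true) (p m B e0 : ℕ) [hp : Fact p.Prime]
    (hp2 : p ≠ 2) (hm : 1 < m) (hcard : Nat.card G = p * m) (hpm : ¬ p ∣ m)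
    (hB : p * m < (B + 1) * (B + 1)) (h : tiFor ok p m B e0 = true) (Q : Sylow p G) :
    Nat.card Q = p ∧
      Nat.card (Subgroup.normalizer ((Q : Subgroup G) : Set G)) = p * e0 ∧
      (Subgroup.centralizer ((Q : Subgroup G) : Set G)).relIndex
        (Subgroup.normalizer ((Q : Subgroup G) : Set G)) = e0 ∧ e0 ∣ p - 1 ∧
      Nat.card (Subgroup.centralizer ((Q : Subgroup G) : Set G)) = p ∧
      Subgroup.centralizer ((Q : Subgroup G) : Set G) = (Q : Subgroup G) := by
  classical
  have : Fintype G := Fintype.ofFinite G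
  have hp1 : 1 < p := hp.1.one_lt
  obtain ⟨hQcard, n, k, e, c', hn, hnk, hmod, hn1, hfact, hN, he, hediv, he1, hc', hce, h8⟩ :=
    sylow_prime_data hG m hm hcard hpm Q
  have hcfg := of_allCfg h hp1 hnk (by omega) hmod hn1 hfact hediv he1 hce h8
  have hk0 : 0 < k := by
    rcases Nat.eq_zero_or_pos k with h0 | h0
    · rw [h0, mul_zero] at hnk; omega
    · exact h0
  have hep : e ∣ p - 1 := dvd_trans hediv (Nat.gcd_dvd_right _ _)
  rw [Bool.or_eq_true] at hcfg
  rcases hcfg with hchk | hti
  · exact (chk_false hG ok hok p m B hp2 hcard hpm hB Q hQcard hk0 he hep he1 hc' hce hchk).elim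
  · simp only [Bool.and_eq_true, decide_eq_true_eq] at hti
    obtain ⟨hee, hcp⟩ := hti
    subst hee
    subst hcp
    have hke : k = e := by
      have : c' * e = c' * k := hce
      exact (Nat.eq_of_mul_eq_mul_left (by omega) this).symm
    subst hke
    refine ⟨hQcard, hN, he, hep, hc', ?_⟩
    obtain ⟨x', -, hQx, -⟩ := d1_sylow_data c' Q hQcard
    have hQle : (Q : Subgroup G) ≤ Subgroup.centralizer ((Q : Subgroup G) : Set G) := by
      intro a ha
      rw [Subgroup.mem_centralizer_iff]
      intro b hb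
      rw [SetLike.mem_coe] at hb
      rw [hQx] at ha hb
      obtain ⟨i, rfl⟩ := Subgroup.mem_zpowers_iff.1 ha
      obtain ⟨j, rfl⟩ := Subgroup.mem_zpowers_iff.1 hb
      exact ((Commute.refl x').zpow_zpow j i)
    exact (Subgroup.eq_of_le_of_card_ge hQle (by rw [hc', hQcard])).symm

end Cfsg.Agent.Lib.Helper6.OrdL
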