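import Mathlib
import Cfsg.Agent.Lib.Helper6.OrdP3
import Cfsg.Agent.Lib.Helper6.OrdG4

/-!
# Simple groups of order `7920`: the Sylow `11`-subgroups
-/

set_option autoImplicit false
set_option maxHeartbeats 1600000
set_option maxRecDepth 1000000

namespace Cfsg.Agent.Lib.Helper6.OrdQ

open Cfsg Cfsg.Agent.Lib.Helper8 Cfsg.Agent.Lib.Helper6.OrdB Cfsg.Agent.Lib.Helper6.OrdD
  Cfsg.Agent.Lib.Helper6.OrdK Cfsg.Agent.Lib.Helper6.OrdH Cfsg.Agent.Lib.Helper6.OrdL
  Cfsg.Agent.Lib.Helper6.OrdG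
open scoped ComplexConjugate

universe u

/-- characters of `p`-defect zero vanish on `p`-singular elements -/
theorem defect_zero_vanish' {G : Type u} [Group G] [Finite G] (χ : IrrCharacter G) (p a : ℕ)
    (hp : p.Prime) (h1 : p ^ a ∣ Nat.card G) (h2 : ¬ p ^ (a + 1) ∣ Nat.card G)
    (hdeg : p ^ a ∣ charDegree χ.1) (g : G) (hg : p ∣ orderOf g) : χ.1 g = 0 := by
  obtain ⟨n, ρ, hirr, hχ, hn⟩ := exists_rep χ
  have := Cfsg.Agent.S0165.result ρ p a hp h1 h2
    (by rw [Module.finrank_fin_fun, hn]; exact hdeg) g hg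
  rw [← hχ]
  exact this

section fin

variable {G : Type u} [Group G] [Finite G] [IsSimpleGroup G]

/-- the degrees of the irreducible characters are `0`, `±1` or `±5` modulo `11` -/
theorem ok11 (hG : ¬ IsMulCommutative G) (hn : Nat.card G = 7920) (ψ : IrrCharacter G) :
    okTI 11 5 (charDegree ψ.1) = true :=
  ti_degrees hG (fun _ => true) (fun _ => rfl) 11 720 88 5 (hp := ⟨by norm_num⟩) (by norm_num)
    (by norm_num) (by rw [hn]) (by norm_num) (by norm_num) (by decide) ψ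

/-- the Sylow `11`-subgroups are self-centralizing, with normalizer of order `55` -/
theorem cfg11 (hG : ¬ IsMulCommutative G) (hn : Nat.card G = 7920) (Q : Sylow 11 G) :
    Nat.card Q = 11 ∧
      Nat.card (Subgroup.normalizer ((Q : Subgroup G) : Set G)) = 11 * 5 ∧
      (Subgroup.centralizer ((Q : Subgroup G) : Set G)).relIndex
        (Subgroup.normalizer ((Q : Subgroup G) : Set G)) = 5 ∧ 5 ∣ 11 - 1 ∧
      Nat.card (Subgroup.centralizer ((Q : Subgroup G) : Set G)) = 11 ∧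
      Subgroup.centralizer ((Q : Subgroup G) : Set G) = (Q : Subgroup G) :=
  ti_cfg hG (fun _ => true) (fun _ => rfl) 11 720 88 5 (hp := ⟨by norm_num⟩) (by norm_num)
    (by norm_num) (by rw [hn]) (by norm_num) (by norm_num) (by decide) Q

end fin

section fintype

variable {G : Type u} [Group G] [Fintype G] [IsSimpleGroup G] [Fintype (IrrCharacter G)]

open Classical in
/-- the principal `11`-block, with a predicate verified by the search -/
theorem eleven_block (hG : ¬ IsMulCommutative G) (hn : Nat.card G = 7920) (w : ℕ → ℕ)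
    (R : ℕ → ℕ → ℕ → ℕ → Bool)
    (hdec : chkW (fun _ => true) w R (11 * 720) 7920 11 720 88 5 11 = true) :
    ∃ c : TI G 11 5, trivIrr G ∈ c.X ∧
      (∀ χ ∈ c.X, (charDegree χ.1 : ℤ) ≡ c.εX χ [ZMOD 11]) ∧
      (∀ θ ∈ c.Y, (charDegree θ.1 : ℤ) ≡ c.ε * (5 : ℤ) [ZMOD 11]) ∧
      ∃ θ0 ∈ c.Y, R 5 11 (∑ χ ∈ c.Xf.erase (trivIrr G), w (charDegree χ.1))
        (charDegree θ0.1) = true := by
  have h11 : Fact (Nat.Prime 11) := ⟨by norm_num⟩
  obtain ⟨P⟩ : Nonempty (Sylow 11 G) := inferInstance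
  obtain ⟨hPcard, hN, he, hep, hc', hCP⟩ := cfg11 hG hn P
  have hS : ∀ Q : Sylow 11 G, Nat.card Q = 11 ∧
      Subgroup.centralizer ((Q : Subgroup G) : Set G) = (Q : Subgroup G) := by
    intro Q
    obtain ⟨h1, -, -, -, -, h2⟩ := cfg11 hG hn Q
    exact ⟨h1, h2⟩
  obtain ⟨c, hcP⟩ := exists_D1 11 P hPcard 5 he hep
  have hbud : ∀ S : Finset (IrrCharacter G), (∀ ψ ∈ S, ¬ 11 ∣ charDegree ψ.1) →
      ∑ ψ ∈ S, (charDegree ψ.1) ^ 2 ≤ 7920 := by
    intro S _
    rw [← hn]
    exact sum_sq_le S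
  have hspec := chkW_spec hG (fun _ => true) w R (fun _ => rfl) 11 720 88 7920 (by norm_num)
    (by rw [hn]) (by norm_num) (by norm_num) hbud P (k := 5) (by norm_num) hep (by norm_num) hc'
    (by norm_num) c hcP hdec
  obtain ⟨htX, θ0, hθ0, hR⟩ := hspec.2 (by norm_num)
  refine ⟨toTI c hS (by rw [hcP]; exact hN), htX, c.hXdeg, ?_, θ0, hθ0, hR⟩
  intro θ hθ
  have := c.hYdeg θ hθ
  exact_mod_cast this

/-- if some irreducible character has degree `12`, some irreducible character has degree `5` -/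
theorem deg5_of_deg12 (hG : ¬ IsMulCommutative G) (hn : Nat.card G = 7920) (ψ : IrrCharacter G)
    (h12 : charDegree ψ.1 = 12) : ∃ θ : IrrCharacter G, charDegree θ.1 = 5 := by
  classical
  have h11 : Fact (Nat.Prime 11) := ⟨by norm_num⟩
  obtain ⟨c, htX, hXdeg, hYdeg, θ0, hθ0, hR⟩ := eleven_block hG hn
    (fun d => if d = 12 then 1 else 0) (fun _ _ q2 d0 => (q2 == 0) || (d0 == 5)) (by decide)
  have hψX : ψ ∈ c.X := by
    by_contra hX
    by_cases hY : ψ ∈ c.Y
    · have h1 := hYdeg ψ hY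
      rw [h12] at h1
      unfold Int.ModEq at h1
      rcases c.hε with h2 | h2 <;> rw [h2] at h1 <;> norm_num at h1
    · have h1 := TI.dvd_deg_of_not_mem c hX hY
      rw [h12] at h1
      norm_num at h1
  have hne : ψ ≠ trivIrr G := by
    intro h
    rw [h, charDegree_trivIrr] at h12
    norm_num at h12
  have hmem : ψ ∈ c.Xf.erase (trivIrr G) := Finset.mem_erase.2 ⟨hne, c.mem_Xf.2 hψX⟩
  have hpos : 0 < ∑ χ ∈ c.Xf.erase (trivIrr G), (if charDegree χ.1 = 12 then 1 else 0) := by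
    apply Finset.sum_pos'
    · intro χ _
      exact Nat.zero_le _
    · exact ⟨ψ, hmem, by simp [h12]⟩
  have hR' : ((∑ χ ∈ c.Xf.erase (trivIrr G), (if charDegree χ.1 = 12 then 1 else 0)) == 0 ||
      charDegree θ0.1 == 5) = true := hR
  simp only [Bool.or_eq_true, beq_iff_eq] at hR'
  rcases hR' with h | h
  · omega
  · exact ⟨θ0, h⟩

/-- if some irreducible character has degree `5`, no irreducible character has degree `16` -/
theorem no16_of_deg5 (hG : ¬ IsMulCommutative G) (hn : Nat.card G = 7920) (θ : IrrCharacter G)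
    (h5 : charDegree θ.1 = 5) (ψ : IrrCharacter G) : charDegree ψ.1 ≠ 16 := by
  classical
  intro h16
  have h11 : Fact (Nat.Prime 11) := ⟨by norm_num⟩
  obtain ⟨c, htX, hXdeg, hYdeg, θ0, hθ0, -⟩ := eleven_block hG hn
    (fun _ => 0) (fun _ _ _ _ => true) (by decide)
  have h1reg : ¬ 11 ∣ orderOf (1 : G) := by
    rw [orderOf_one]
    norm_num
  have key : ∀ φ : IrrCharacter G, (charDegree φ.1 = 5 ∨ charDegree φ.1 = 16) → φ ∈ c.Y := by
    intro φ hφ
    by_contra hY
    by_cases hX : φ ∈ c.X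
    · have h1 := hXdeg φ hX
      unfold Int.ModEq at h1
      rcases hφ with h | h <;> rw [h] at h1 <;>
        rcases c.hεX φ hX with h2 | h2 <;> rw [h2] at h1 <;> norm_num at h1
    · have h1 := TI.dvd_deg_of_not_mem c hX hY
      rcases hφ with h | h <;> rw [h] at h1 <;> norm_num at h1
  have h1 := c.hYagree θ (key θ (Or.inl h5)) ψ (key ψ (Or.inr h16)) 1 h1reg
  rw [apply_one, apply_one, h5, h16] at h1
  norm_num at h1

end fintype

end Cfsg.Agent.Lib.Helper6.OrdQ
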