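import Mathlib
import Cfsg.Agent.Lib.Helper6.OrdQ1
import Cfsg.Agent.Lib.Helper6.OrdG1

/-!
# Simple groups of order `7920`: no irreducible character of degree `12`
-/

set_option autoImplicit false
set_option maxHeartbeats 1600000
set_option maxRecDepth 1000000

namespace Cfsg.Agent.Lib.Helper6.OrdQ

open Cfsg Cfsg.Agent.Lib.Helper8 Cfsg.Agent.Lib.Helper6.OrdB Cfsg.Agent.Lib.Helper6.OrdD
  Cfsg.Agent.Lib.Helper6.OrdK Cfsg.Agent.Lib.Helper6.OrdH Cfsg.Agent.Lib.Helper6.OrdL
  Cfsg.Agent.Lib.Helper6.OrdG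
open scoped ComplexConjugate

universe u

variable {G : Type u} [Group G] [Fintype G] [IsSimpleGroup G] [Fintype (IrrCharacter G)]

omit [Fintype G] [IsSimpleGroup G] [Fintype (IrrCharacter G)] in
/-- a generator of a Sylow subgroup of prime order commutes with the centralizer -/
theorem commute_of_mem_centralizer {p : ℕ} (P : Sylow p G) {x y : G}
    (hPx : (P : Subgroup G) = Subgroup.zpowers x)
    (hy : y ∈ Subgroup.centralizer ((P : Subgroup G) : Set G)) : Commute x y := by
  have hx : x ∈ ((P : Subgroup G) : Set G) := by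
    rw [hPx]
    exact Subgroup.mem_zpowers x
  exact (Subgroup.mem_centralizer_iff.1 hy x hx)

omit [Fintype (IrrCharacter G)] in
/-- an irreducible character of degree `5` forbids an involution commuting with an element of
order `5` -/
theorem no_invol_of_deg5 (hG : ¬ IsMulCommutative G) (hn : Nat.card G = 7920)
    (θ : IrrCharacter G) (h5 : charDegree θ.1 = 5) {x t : G} (hx : orderOf x = 5)
    (ht : orderOf t = 2) (hcomm : Commute x t) : False := by
  have hperf : commutator G = ⊤ := commutator_eq_top hG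
  have hne : θ ≠ trivIrr G := by
    intro h
    rw [h, charDegree_trivIrr] at h5
    norm_num at h5
  have hord : orderOf (x * t) = 5 * 2 := by
    rw [hcomm.orderOf_mul_eq_mul_orderOf_of_coprime (by rw [hx, ht]; norm_num), hx, ht]
  have hval : ∀ i, ¬ 5 ∣ i → θ.1 ((x * t) ^ i) = 0 := by
    intro i hi
    apply defect_zero_vanish θ 5 (by norm_num) (by rw [hn]; norm_num) (by rw [hn]; norm_num)
      (by rw [h5])
    rw [orderOf_pow' _ (by intro h0; rw [h0] at hi; exact hi (dvd_zero 5)), hord]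
    have hg : Nat.gcd (5 * 2) i ∣ 2 := by
      have h1 : Nat.Coprime 5 i := (Nat.Prime.coprime_iff_not_dvd (by norm_num)).2 hi
      have h2 : Nat.gcd (5 * 2) i ∣ 5 * 2 := Nat.gcd_dvd_left _ _
      have h3 : Nat.Coprime (Nat.gcd (5 * 2) i) 5 :=
        Nat.Coprime.coprime_dvd_left (Nat.gcd_dvd_right _ _) h1.symm
      exact h3.dvd_of_dvd_mul_left h2
    obtain ⟨j, hj⟩ := hg
    have hgpos : 0 < Nat.gcd (5 * 2) i := Nat.gcd_pos_of_pos_left _ (by norm_num)
    refine ⟨j, ?_⟩
    have h4 : 5 * 2 = Nat.gcd (5 * 2) i * (5 * j) := by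
      rw [show Nat.gcd (5 * 2) i * (5 * j) = 5 * (Nat.gcd (5 * 2) i * j) by ring, ← hj]
    exact Nat.div_eq_of_eq_mul_right hgpos h4
  obtain ⟨n, f, hf, hsum, htop, heq⟩ := fix_dim θ hx ht (by norm_num) (by norm_num)
    (by norm_num) hcomm 0 hval
  have ht5 : t ^ 5 = t := by
    have h2 : t ^ 2 = 1 := by rw [← ht]; exact pow_orderOf_eq_one t
    calc t ^ 5 = (t ^ 2) ^ 2 * t := by group
      _ = t := by rw [h2, one_pow, one_mul]
  rw [ht5] at hsum htop
  rw [h5] at hf htop
  have hf5 : f = 5 * n := by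
    have : (f : ℂ) = ((5 * n : ℕ) : ℂ) := by
      push_cast
      linear_combination heq
    exact_mod_cast this
  have hn01 : n = 0 ∨ n = 1 := by omega
  rcases hn01 with h0 | h1
  · -- the involution has no fixed vector: impossible in a perfect group in odd degree
    rw [h0, mul_zero] at hf5
    rw [hf5] at hsum
    have htt : t * t = 1 := by rw [← pow_two, ← ht]; exact pow_orderOf_eq_one t
    obtain ⟨b, hb, hval2, heven⟩ := involution_apply hperf θ htt
    rw [h5] at hb hval2
    rw [Finset.sum_range_succ, Finset.sum_range_one, pow_zero, pow_one, apply_one, h5, hval2] at hsum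
    have : ((5 : ℕ) : ℂ) + (((5 : ℕ) : ℂ) - 2 * (b : ℂ)) = ((2 * 0 : ℕ) : ℂ) := by
      rw [hsum]; push_cast; ring
    have h10 : (10 : ℤ) - 2 * (b : ℤ) = 0 := by
      have h' : (((10 : ℤ) - 2 * (b : ℤ) : ℤ) : ℂ) = 0 := by
        push_cast
        push_cast at this
        linear_combination this
      exact_mod_cast h'
    obtain ⟨r, hr⟩ := heven
    omega
  · -- the involution acts trivially: impossible
    rw [h1, mul_one] at hf5
    have h2 := htop hf5
    have h3 := D1.faithful_of_ne_triv θ hne t h2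
    rw [h3, orderOf_one] at ht
    norm_num at ht

/-- no irreducible character has degree `12` -/
theorem no_deg12 (hG : ¬ IsMulCommutative G) (hn : Nat.card G = 7920) (ψ : IrrCharacter G) :
    charDegree ψ.1 ≠ 12 := by
  classical
  intro h12
  obtain ⟨θ, h5⟩ := deg5_of_deg12 hG hn ψ h12
  have hno16 := no16_of_deg5 hG hn θ h5
  have hp5 : Fact (Nat.Prime 5) := ⟨by norm_num⟩
  obtain ⟨P⟩ : Nonempty (Sylow 5 G) := inferInstance
  obtain ⟨hPcard, n, k, e, c', hn', hnk, hmod, hn1, hfact, hN, he, hediv, he1, hc', hce, h8⟩ :=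
    sylow_prime_data hG 1584 (by norm_num) (by rw [hn]) (by norm_num) P
  have hall : allW (fun d => okTI 11 5 d && (d != 16)) (fun _ => 0)
      (fun _ c _ _ => c % 2 == 0) 7920 5 1584 88 = true := by decide
  have hchk := of_allCfg hall (by norm_num) hnk (by norm_num) hmod hn1 hfact hediv he1 hce h8
  have hk0 : 0 < k := by
    rcases Nat.eq_zero_or_pos k with h0 | h0
    · rw [h0, mul_zero] at hnk; omega
    · exact h0
  have hep : e ∣ 5 - 1 := dvd_trans hediv (Nat.gcd_dvd_right _ _)
  obtain ⟨c, hcP⟩ := exists_D1 5 P hPcard e he hep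
  have hbud : ∀ S : Finset (IrrCharacter G), (∀ ψ ∈ S, ¬ 5 ∣ charDegree ψ.1) →
      ∑ ψ ∈ S, (charDegree ψ.1) ^ 2 ≤ 7920 := by
    intro S _
    rw [← hn]
    exact sum_sq_le S
  have hok : ∀ φ : IrrCharacter G, (fun d => okTI 11 5 d && (d != 16)) (charDegree φ.1) = true := by
    intro φ
    simp only [Bool.and_eq_true, bne_iff_ne]
    exact ⟨ok11 hG hn φ, hno16 φ⟩
  have hspec := chkW_spec hG (fun d => okTI 11 5 d && (d != 16)) (fun _ => 0)
    (fun _ c _ _ => c % 2 == 0) hok 5 1584 88 7920 (by norm_num) (by rw [hn]) (by norm_num)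
    (by norm_num) hbud P hk0 hep he1 hc' hce c hcP hchk
  have heven : c' % 2 = 0 := by
    by_cases hecase : e = 5 - 1
    · obtain ⟨θ0, -, hR⟩ := hspec.1 hecase
      simpa using hR
    · obtain ⟨-, θ0, -, hR⟩ := hspec.2 hecase
      simpa using hR
  -- an involution of the centralizer
  have h2dvd : 2 ∣ Nat.card (Subgroup.centralizer ((P : Subgroup G) : Set G)) := by
    rw [hc']
    exact Nat.dvd_of_mod_eq_zero heven
  obtain ⟨t, ht⟩ := exists_prime_orderOf_dvd_card' 2 h2dvd
  have ht' : orderOf (t : G) = 2 := by rw [Subgroup.orderOf_coe]; exact ht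
  obtain ⟨x, hx, hPx, -⟩ := d1_sylow_data 5 P hPcard
  exact no_invol_of_deg5 hG hn θ h5 hx ht' (commute_of_mem_centralizer P hPx t.2)

end Cfsg.Agent.Lib.Helper6.OrdQ
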