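import Mathlib
import Cfsg.Agent.Lib.Helper6.OrdQ2

/-!
# Simple groups of order `7920`: the Sylow `5`-subgroups
-/

set_option autoImplicit false
set_option maxHeartbeats 1600000
set_option maxRecDepth 1000000

namespace Cfsg.Agent.Lib.Helper6.OrdQ

open Cfsg Cfsg.Agent.Lib.Helper8 Cfsg.Agent.Lib.Helper6.OrdB Cfsg.Agent.Lib.Helper6.OrdD
  Cfsg.Agent.Lib.Helper6.OrdK Cfsg.Agent.Lib.Helper6.OrdH Cfsg.Agent.Lib.Helper6.OrdL
  Cfsg.Agent.Lib.Helper6.OrdG
open scoped ComplexConjugate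

universe u

variable {G : Type u} [Group G] [Fintype G] [IsSimpleGroup G] [Fintype (IrrCharacter G)]

/-- the filter of the degrees: `0`, `±1`, `±5` modulo `11`, and not `12` -/
def ok5 : ℕ → Bool := fun d => okTI 11 5 d && (d != 12)

/-- the predicate on the solutions of the degree equation for the prime `5` -/
def R5 (v : ℕ) : ℕ → ℕ → ℕ → ℕ → Bool := fun e c q2 _ =>
  (e == 4) && (q2 == v) && (c == 180 || c == 55 || c == 30 || c == 5)

theorem all5_11 : allW ok5 (fun d => if d = 11 then 1 else 0) (R5 1) 7920 5 1584 88 = true := by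
  decide

theorem all5_16 : allW ok5 (fun d => if d = 16 then 1 else 0) (R5 2) 7920 5 1584 88 = true := by
  decide

theorem all5_44 : allW ok5 (fun d => if d = 44 then 1 else 0) (R5 1) 7920 5 1584 88 = true := by
  decide

open Classical in
/-- **The Sylow `5`-subgroups** are self-centralizing with normalizer of order `20`, and the
principal `5`-block consists of characters of degrees `1, 11, 16, 16, 44`. -/
theorem five_core (hG : ¬ IsMulCommutative G) (hn : Nat.card G = 7920) (Q : Sylow 5 G) :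
    Nat.card Q = 5 ∧ Nat.card (Subgroup.normalizer ((Q : Subgroup G) : Set G)) = 5 * 4 ∧
    (Subgroup.centralizer ((Q : Subgroup G) : Set G)).relIndex
      (Subgroup.normalizer ((Q : Subgroup G) : Set G)) = 4 ∧
    Nat.card (Subgroup.centralizer ((Q : Subgroup G) : Set G)) = 5 ∧
    ∃ (c : D1 G 5 4) (θ0 : IrrCharacter G), c.P = Q ∧ θ0 ∈ c.Y ∧
      (((c.Bf θ0).erase (trivIrr G)).filter (fun χ => charDegree χ.1 = 11)).card = 1 ∧
      (((c.Bf θ0).erase (trivIrr G)).filter (fun χ => charDegree χ.1 = 16)).card = 2 ∧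
      (((c.Bf θ0).erase (trivIrr G)).filter (fun χ => charDegree χ.1 = 44)).card = 1 := by
  have hno12 := no_deg12 hG hn
  have hp5 : Fact (Nat.Prime 5) := ⟨by norm_num⟩
  obtain ⟨hQcard, n, k, e, c', hn', hnk, hmod, hn1, hfact, hN, he, hediv, he1, hc', hce, h8⟩ :=
    sylow_prime_data hG 1584 (by norm_num) (by rw [hn]) (by norm_num) Q
  have hchk1 := of_allCfg all5_11 (by norm_num) hnk (by norm_num) hmod hn1 hfact hediv he1 hce h8
  have hchk2 := of_allCfg all5_16 (by norm_num) hnk (by norm_num) hmod hn1 hfact hediv he1 hce h8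
  have hchk3 := of_allCfg all5_44 (by norm_num) hnk (by norm_num) hmod hn1 hfact hediv he1 hce h8
  have hk0 : 0 < k := by
    rcases Nat.eq_zero_or_pos k with h0 | h0
    · rw [h0, mul_zero] at hnk; omega
    · exact h0
  have hep : e ∣ 5 - 1 := dvd_trans hediv (Nat.gcd_dvd_right _ _)
  obtain ⟨c, hcP⟩ := exists_D1 5 Q hQcard e he hep
  have hbud : ∀ S : Finset (IrrCharacter G), (∀ ψ ∈ S, ¬ 5 ∣ charDegree ψ.1) →
      ∑ ψ ∈ S, (charDegree ψ.1) ^ 2 ≤ 7920 := by
    intro S _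
    rw [← hn]
    exact sum_sq_le S
  have hok : ∀ φ : IrrCharacter G, ok5 (charDegree φ.1) = true := by
    intro φ
    unfold ok5
    simp only [Bool.and_eq_true, bne_iff_ne]
    exact ⟨ok11 hG hn φ, hno12 φ⟩
  have hspec1 := chkW_spec hG ok5 _ (R5 1) hok 5 1584 88 7920 (by norm_num) (by rw [hn])
    (by norm_num) (by norm_num) hbud Q hk0 hep he1 hc' hce c hcP hchk1
  have hspec2 := chkW_spec hG ok5 _ (R5 2) hok 5 1584 88 7920 (by norm_num) (by rw [hn])
    (by norm_num) (by norm_num) hbud Q hk0 hep he1 hc' hce c hcP hchk2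
  have hspec3 := chkW_spec hG ok5 _ (R5 1) hok 5 1584 88 7920 (by norm_num) (by rw [hn])
    (by norm_num) (by norm_num) hbud Q hk0 hep he1 hc' hce c hcP hchk3
  have he4 : e = 4 := by
    by_contra hecase
    obtain ⟨-, θ0, -, hR⟩ := hspec1.2 hecase
    unfold R5 at hR
    simp only [Bool.and_eq_true, beq_iff_eq] at hR
    exact hecase hR.1.1
  subst he4
  obtain ⟨θ1, hθ1, hR1⟩ := hspec1.1 rfl
  obtain ⟨θ2, hθ2, hR2⟩ := hspec2.1 rfl
  obtain ⟨θ3, hθ3, hR3⟩ := hspec3.1 rfl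
  have hYcard : c.Yf.card = 1 := by
    have := c.card_Yf
    omega
  obtain ⟨θ0, hYeq⟩ := Finset.card_eq_one.1 hYcard
  have hYuniq : ∀ θ ∈ c.Y, θ = θ0 := by
    intro θ hθ
    have : θ ∈ c.Yf := c.mem_Yf.2 hθ
    rw [hYeq, Finset.mem_singleton] at this
    exact this
  rw [hYuniq θ1 hθ1] at hR1
  rw [hYuniq θ2 hθ2] at hR2
  rw [hYuniq θ3 hθ3] at hR3
  have hθ0 : θ0 ∈ c.Y := by rw [← hYuniq θ1 hθ1]; exact hθ1
  unfold R5 at hR1 hR2 hR3
  simp only [Bool.and_eq_true, Bool.or_eq_true, beq_iff_eq] at hR1 hR2 hR3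
  obtain ⟨⟨-, hq1⟩, hcv⟩ := hR1
  obtain ⟨⟨-, hq2⟩, -⟩ := hR2
  obtain ⟨⟨-, hq3⟩, -⟩ := hR3
  rw [← Finset.card_filter] at hq1 hq2 hq3
  -- the centralizer has order `5`
  have hxP : c.x ∈ (c.P : Subgroup G) := c.x_mem
  have hx1 : c.x ≠ 1 := c.x_ne_one
  have hcen : ∀ (q : ℕ), q.Prime → q ≠ 5 → q ∣ c' →
      ∀ χ ∈ c.X, (∀ g : G, q ∣ orderOf g → χ.1 g = 0) → False := by
    intro q hq hq5 hdvd χ hχ hvan
    have hqf : Fact q.Prime := ⟨hq⟩
    have hdvd' : q ∣ Nat.card (Subgroup.centralizer ((Q : Subgroup G) : Set G)) := by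
      rw [hc']; exact hdvd
    obtain ⟨y, hy⟩ := exists_prime_orderOf_dvd_card' q hdvd'
    have hy' : orderOf (y : G) = q := by rw [Subgroup.orderOf_coe]; exact hy
    have hyC : (y : G) ∈ Subgroup.centralizer ((c.P : Subgroup G) : Set G) := by
      rw [hcP]; exact y.2
    have hreg : ¬ 5 ∣ orderOf (y : G) := by
      rw [hy']
      intro h
      exact hq5 ((Nat.prime_dvd_prime_iff_eq (by norm_num) hq).1 h).symm
    have h1 := c.hval χ hχ c.x hxP hx1 (y : G) hyC hreg
    have hcomm : Commute c.x (y : G) := commute_of_mem_centralizer c.P c.hPx hyC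
    have hord : orderOf (c.x * (y : G)) = 5 * q := by
      rw [hcomm.orderOf_mul_eq_mul_orderOf_of_coprime, c.hx, hy']
      rw [c.hx, hy']
      exact (Nat.coprime_primes (by norm_num) hq).2 (Ne.symm hq5)
    rw [hvan _ (by rw [hord]; exact Dvd.intro_left 5 rfl)] at h1
    rcases c.hεX χ hχ with h2 | h2 <;> rw [h2] at h1 <;> norm_num at h1
  have hT16 : 1 < (((c.Bf θ0).erase (trivIrr G)).filter (fun χ => charDegree χ.1 = 16)).card := by
    rw [hq2]; norm_num
  obtain ⟨χ16, hχ16mem, hχ16ne⟩ := Finset.exists_mem_ne hT16 θ0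
  have hmemX : ∀ χ : IrrCharacter G, χ ∈ (c.Bf θ0).erase (trivIrr G) → χ ≠ θ0 → χ ∈ c.X := by
    intro χ hχ hne
    rcases (c.mem_Bf θ0).1 (Finset.mem_erase.1 hχ).2 with h | h
    · exact absurd h hne
    · exact h
  have hc'odd : ¬ 2 ∣ c' := by
    intro h2
    obtain ⟨hm, hd⟩ := Finset.mem_filter.1 hχ16mem
    refine hcen 2 (by norm_num) (by norm_num) h2 χ16 (hmemX χ16 hm hχ16ne) ?_
    intro g hg
    exact defect_zero_vanish' χ16 2 4 (by norm_num) (by rw [hn]; norm_num)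
      (by rw [hn]; norm_num) (by rw [hd]; norm_num) g hg
  have hc'11 : ¬ 11 ∣ c' := by
    intro h11
    obtain ⟨χ11, hχ11⟩ := Finset.card_eq_one.1 hq1
    obtain ⟨χ44, hχ44⟩ := Finset.card_eq_one.1 hq3
    have h11mem : χ11 ∈ ((c.Bf θ0).erase (trivIrr G)).filter (fun χ => charDegree χ.1 = 11) := by
      rw [hχ11]; exact Finset.mem_singleton_self _
    have h44mem : χ44 ∈ ((c.Bf θ0).erase (trivIrr G)).filter (fun χ => charDegree χ.1 = 44) := by
      rw [hχ44]; exact Finset.mem_singleton_self _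
    obtain ⟨hm11, hd11⟩ := Finset.mem_filter.1 h11mem
    obtain ⟨hm44, hd44⟩ := Finset.mem_filter.1 h44mem
    have hvan : ∀ χ : IrrCharacter G, 11 ∣ charDegree χ.1 → ∀ g : G, 11 ∣ orderOf g →
        χ.1 g = 0 := by
      intro χ hd g hg
      exact defect_zero_vanish χ 11 (by norm_num) (by rw [hn]; norm_num)
        (by rw [hn]; norm_num) hd g hg
    by_cases hne : χ11 = θ0
    · have hne44 : χ44 ≠ θ0 := by
        intro h
        rw [← hne] at h
        rw [h, hd11] at hd44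
        norm_num at hd44
      exact hcen 11 (by norm_num) (by norm_num) h11 χ44 (hmemX χ44 hm44 hne44)
        (hvan χ44 (by rw [hd44]; norm_num))
    · exact hcen 11 (by norm_num) (by norm_num) h11 χ11 (hmemX χ11 hm11 hne)
        (hvan χ11 (by rw [hd11]))
  have hc'5 : c' = 5 := by
    rcases hcv with ((h | h) | h) | h
    · rw [h] at hc'odd; norm_num at hc'odd
    · rw [h] at hc'11; norm_num at hc'11
    · rw [h] at hc'odd; norm_num at hc'odd
    · exact h
  have hk4 : k = 4 := by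
    rw [hc'5] at hce
    omega
  rw [hk4] at hN
  rw [hc'5] at hc'
  exact ⟨hQcard, hN, he, hc', c, θ0, hcP, hθ0, hq1, hq2, hq3⟩

end Cfsg.Agent.Lib.Helper6.OrdQ
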