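import Mathlib
import Cfsg.Agent.Lib.Helper9.SmallOrd16
import Cfsg.Agent.Lib.Helper9.SmallOrd11
import Cfsg.Agent.Lib.Helper9.SmallOrd9

/-!
# No simple group of order 5400: general lemmas on Sylow subgroups meeting a given one
-/

set_option autoImplicit false
set_option maxHeartbeats 1600000
set_option linter.unusedSectionVars false

namespace Cfsg.Agent.Lib.Helper6.OrdL

open Subgroup MulAction Cfsg.Agent.Lib.Helper9.SmallOrd

variable {G : Type*} [Group G] [Finite G] {p : ℕ} [hp : Fact p.Prime]

theorem mem_smul_sylow (g : G) (R : Sylow p G) (y : G) :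
    y ∈ ((g • R : Sylow p G) : Subgroup G) ↔ g⁻¹ * y * g ∈ (R : Subgroup G) := by
  rw [Sylow.smul_def, Sylow.pointwise_smul_def, Subgroup.mem_pointwise_smul_iff_inv_smul_mem]
  simp [MulAut.smul_def]

/-- two Sylow subgroups have a non-trivial common element -/
def Meets (P R : Sylow p G) : Prop := ∃ z : G, z ∈ (P : Subgroup G) ∧ z ∈ (R : Subgroup G) ∧ z ≠ 1

theorem meets_iff (P R : Sylow p G) : Meets P R ↔ (P : Subgroup G) ⊓ (R : Subgroup G) ≠ ⊥ := by
  rw [Subgroup.ne_bot_iff_exists_ne_one]
  constructor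
  · rintro ⟨z, hzP, hzR, hz1⟩
    exact ⟨⟨z, hzP, hzR⟩, fun h => hz1 (congrArg Subtype.val h)⟩
  · rintro ⟨⟨z, hzP, hzR⟩, hz1⟩
    exact ⟨z, hzP, hzR, fun h => hz1 (Subtype.ext h)⟩

theorem meets_smul {P R : Sylow p G} {g : G} (hg : g ∈ normalizer ((P : Subgroup G) : Set G))
    (h : Meets P R) : Meets P (g • R) := by
  obtain ⟨z, hzP, hzR, hz1⟩ := h
  refine ⟨g * z * g⁻¹, (mem_normalizer_iff.1 hg z).1 hzP, ?_, ?_⟩
  · rw [mem_smul_sylow]
    have : g⁻¹ * (g * z * g⁻¹) * g = z := by group
    rw [this]
    exact hzR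
  · intro h1
    apply hz1
    have : z = g⁻¹ * (g * z * g⁻¹) * g := by group
    rw [this, h1]
    group

theorem meets_smul_iff {P R : Sylow p G} {g : G} (hg : g ∈ normalizer ((P : Subgroup G) : Set G)) :
    Meets P (g • R) ↔ Meets P R := by
  refine ⟨fun h => ?_, meets_smul hg⟩
  have := meets_smul (inv_mem hg) h
  rwa [inv_smul_smul] at this

theorem smul_ne_of_ne {P R : Sylow p G} {g : G} (hg : g ∈ normalizer ((P : Subgroup G) : Set G))
    (h : R ≠ P) : g • R ≠ P := by
  intro h1
  apply h
  have h2 : g • P = P := Sylow.smul_eq_iff_mem_normalizer.2 hg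
  rw [← h2] at h1
  exact smul_left_cancel g h1

/-- a free action: the order of the group divides the number of points -/
theorem card_dvd_of_free {H X : Type*} [Group H] [MulAction H X]
    (h : ∀ b : X, MulAction.stabilizer H b = ⊥) : Nat.card H ∣ Nat.card X := by
  rw [Nat.card_congr (MulAction.selfEquivOrbitsQuotientProd h), Nat.card_prod]
  exact dvd_mul_left _ _

/-- the Sylow subgroups meeting `P` trivially: their number is divisible by the order of `P` -/
theorem card_not_meets_dvd (P : Sylow p G) :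
    Nat.card (P : Subgroup G) ∣ Nat.card {R : Sylow p G // ¬ Meets P R} := by
  classical
  let act : MulAction (P : Subgroup G) {R : Sylow p G // ¬ Meets P R} :=
    { smul := fun x R => ⟨(x : G) • R.1, fun h =>
        R.2 ((meets_smul_iff (le_normalizer x.2)).1 h)⟩
      one_smul := fun R => Subtype.ext (one_smul G R.1)
      mul_smul := fun a b R => Subtype.ext (mul_smul (a : G) (b : G) R.1) }
  apply card_dvd_of_free
  intro R
  rw [eq_bot_iff]
  intro x hx
  rw [Subgroup.mem_bot]
  have h1 : (x : G) • R.1 = R.1 := congrArg Subtype.val (MulAction.mem_stabilizer_iff.1 hx)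
  have h2 : (x : G) ∈ normalizer ((R.1 : Subgroup G) : Set G) :=
    Sylow.smul_eq_iff_mem_normalizer.1 h1
  have h3 : (x : G) ∈ (P : Subgroup G) ⊓ (R.1 : Subgroup G) := by
    rw [← P.2.inf_normalizer_sylow R.1]
    exact ⟨x.2, h2⟩
  by_contra hx1
  exact R.2 ⟨(x : G), h3.1, h3.2, fun h => hx1 (Subtype.ext h)⟩

/-- an element of prime order `q` of `N(P)` normalizing no other Sylow subgroup meeting `P`: the
number of these Sylow subgroups is divisible by `q` -/
theorem card_meets_dvd {q : ℕ} [hq : Fact q.Prime] (P : Sylow p G) (y : G)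
    (hyN : y ∈ normalizer ((P : Subgroup G) : Set G)) (hy : orderOf y = q)
    (hfix : ∀ R : Sylow p G, R ≠ P → Meets P R →
      y ∉ normalizer ((R : Subgroup G) : Set G)) :
    q ∣ Nat.card {R : Sylow p G // R ≠ P ∧ Meets P R} := by
  classical
  have hTN : zpowers y ≤ normalizer ((P : Subgroup G) : Set G) := by
    rw [Subgroup.zpowers_le]
    exact hyN
  let act : MulAction (zpowers y) {R : Sylow p G // R ≠ P ∧ Meets P R} :=
    { smul := fun x R => ⟨(x : G) • R.1, smul_ne_of_ne (hTN x.2) R.2.1,
        meets_smul (hTN x.2) R.2.2⟩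
      one_smul := fun R => Subtype.ext (one_smul G R.1)
      mul_smul := fun a b R => Subtype.ext (mul_smul (a : G) (b : G) R.1) }
  have hT : IsPGroup q (zpowers y) :=
    IsPGroup.of_card (n := 1) (by rw [Nat.card_zpowers, hy, pow_one])
  have h1 := hT.card_modEq_card_fixedPoints {R : Sylow p G // R ≠ P ∧ Meets P R}
  have h2 : Nat.card (fixedPoints (zpowers y) {R : Sylow p G // R ≠ P ∧ Meets P R}) = 0 := by
    have : IsEmpty (fixedPoints (zpowers y) {R : Sylow p G // R ≠ P ∧ Meets P R}) := by
      refine ⟨fun R => ?_⟩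
      have h3 := R.2 ⟨y, mem_zpowers y⟩
      have h4 : y • R.1.1 = R.1.1 := congrArg Subtype.val h3
      exact hfix R.1.1 R.1.2.1 R.1.2.2 (Sylow.smul_eq_iff_mem_normalizer.1 h4)
    exact Nat.card_of_isEmpty
  rw [h2] at h1
  exact (Nat.modEq_zero_iff_dvd.1 h1)

/-- the decomposition of the set of Sylow subgroups -/
theorem card_sylow_eq_add (P : Sylow p G) (hP : (P : Subgroup G) ≠ ⊥) :
    Nat.card (Sylow p G) = 1 + Nat.card {R : Sylow p G // R ≠ P ∧ Meets P R} +
      Nat.card {R : Sylow p G // ¬ Meets P R} := by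
  classical
  have : Fintype (Sylow p G) := Fintype.ofFinite _
  have hPP : Meets P P := by
    rw [meets_iff, inf_idem]
    exact hP
  rw [Nat.card_eq_fintype_card, Nat.card_eq_fintype_card, Nat.card_eq_fintype_card,
    Fintype.card_subtype, Fintype.card_subtype, ← Finset.card_univ]
  have h1 := Finset.card_filter_add_card_filter_not (s := (Finset.univ : Finset (Sylow p G)))
    (fun R => Meets P R)
  have h2 : (Finset.univ : Finset (Sylow p G)).filter (fun R => Meets P R) =
      insert P ((Finset.univ : Finset (Sylow p G)).filter (fun R => R ≠ P ∧ Meets P R)) := by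
    ext R
    simp only [Finset.mem_filter, Finset.mem_univ, true_and, Finset.mem_insert]
    constructor
    · intro h
      by_cases hR : R = P
      · exact Or.inl hR
      · exact Or.inr ⟨hR, h⟩
    · rintro (h | h)
      · rw [h]; exact hPP
      · exact h.2
  have h3 : P ∉ (Finset.univ : Finset (Sylow p G)).filter (fun R => R ≠ P ∧ Meets P R) := by
    simp
  rw [h2, Finset.card_insert_of_notMem h3] at h1
  omega

/-- a subgroup containing two distinct Sylow subgroups has more than one Sylow subgroup -/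
theorem one_lt_card_sylow_of_two (P Q : Sylow p G) (hPQ : Q ≠ P) (N : Subgroup G)
    (hP : (P : Subgroup G) ≤ N) (hQ : (Q : Subgroup G) ≤ N) : 1 < Nat.card (Sylow p N) := by
  classical
  let P' : Sylow p N := P.subtype hP
  let Q' : Sylow p N := Q.subtype hQ
  have hne : Q' ≠ P' := by
    intro h
    apply hPQ
    have h1 : (Q : Subgroup G).subgroupOf N = (P : Subgroup G).subgroupOf N := by
      have := congrArg (fun S : Sylow p N => (S : Subgroup N)) h
      simpa [P', Q', Sylow.coe_subtype] using this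
    have h2 := (Subgroup.subgroupOf_inj).mp h1
    rw [inf_eq_left.mpr hQ, inf_eq_left.mpr hP] at h2
    exact Sylow.ext h2
  rw [Finite.one_lt_card_iff_nontrivial]
  exact ⟨⟨Q', P', hne⟩⟩

end Cfsg.Agent.Lib.Helper6.OrdL
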