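import Mathlib
import Cfsg.Agent.Lib.Helper6.OrdB1

/-!
# Values of characters at elements of order `3`
-/

set_option autoImplicit false
set_option maxHeartbeats 1600000

namespace Cfsg.Agent.Lib.Helper6.OrdR

open Cfsg Cfsg.Agent.Lib.Helper8 Cfsg.Agent.Lib.Helper6.OrdB
open scoped ComplexConjugate

universe u

/-- the primitive cube root of unity -/
noncomputable def ω : ℂ := ⟨-1 / 2, Real.sqrt 3 / 2⟩

theorem ω_sq : ω * ω = -1 - ω := by
  have h3 : Real.sqrt 3 * Real.sqrt 3 = 3 := Real.mul_self_sqrt (by norm_num)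
  apply Complex.ext
  · simp only [ω, Complex.mul_re, Complex.sub_re, Complex.neg_re, Complex.one_re]
    nlinarith [h3]
  · simp only [ω, Complex.mul_im, Complex.sub_im, Complex.neg_im, Complex.one_im]
    ring

theorem conj_ω : conj ω = -1 - ω := by
  apply Complex.ext
  · simp only [ω, Complex.conj_re, Complex.sub_re, Complex.neg_re, Complex.one_re]
    ring
  · simp only [ω, Complex.conj_im, Complex.sub_im, Complex.neg_im, Complex.one_im]
    ring

theorem ω_im_ne : ω.im ≠ 0 := by
  simp only [ω]
  have : 0 < Real.sqrt 3 := Real.sqrt_pos.2 (by norm_num)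
  positivity

/-- `1` and `ω` are linearly independent over the integers -/
theorem ω_indep {x y : ℤ} (h : (x : ℂ) + (y : ℂ) * ω = 0) : x = 0 ∧ y = 0 := by
  have him := congrArg Complex.im h
  simp only [Complex.add_im, Complex.intCast_im, Complex.mul_im, Complex.intCast_re,
    Complex.zero_im, zero_mul, add_zero, zero_add] at him
  have hy : (y : ℝ) = 0 := by
    rcases mul_eq_zero.1 him with h1 | h1
    · exact h1
    · exact absurd h1 ω_im_ne
  have hy' : y = 0 := by exact_mod_cast hy
  rw [hy'] at h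
  simp only [Int.cast_zero, zero_mul, add_zero] at h
  exact ⟨by exact_mod_cast h, hy'⟩

/-- the cube roots of unity -/
theorem cube_root_cases {μ : ℂ} (h : μ * μ * μ = 1) : μ = 1 ∨ μ = ω ∨ μ = -1 - ω := by
  have h1 : (μ - 1) * ((μ - ω) * (μ - (-1 - ω))) = 0 := by
    linear_combination h - (μ - 1) * ω_sq
  rcases mul_eq_zero.1 h1 with h2 | h2
  · left; linear_combination h2
  · rcases mul_eq_zero.1 h2 with h3 | h3
    · right; left; linear_combination h3
    · right; right; linear_combination h3

/-- a multiset of cube roots of unity: its sum -/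
theorem multiset_cube (s : Multiset ℂ) (hs : ∀ μ ∈ s, μ = 1 ∨ μ = ω ∨ μ = -1 - ω) :
    ∃ a b c : ℕ, a + b + c = Multiset.card s ∧
      s.sum = (a : ℂ) + (b : ℂ) * ω + (c : ℂ) * (-1 - ω) := by
  induction s using Multiset.induction_on with
  | empty => exact ⟨0, 0, 0, by simp, by simp⟩
  | cons x s ih =>
    obtain ⟨a, b, c, hc, hsum⟩ := ih (fun μ hμ => hs μ (Multiset.mem_cons_of_mem hμ))
    rcases hs x (Multiset.mem_cons_self x s) with rfl | rfl | rfl
    · refine ⟨a + 1, b, c, ?_, ?_⟩
      · rw [Multiset.card_cons]; omega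
      · rw [Multiset.sum_cons, hsum]; push_cast; ring
    · refine ⟨a, b + 1, c, ?_, ?_⟩
      · rw [Multiset.card_cons]; omega
      · rw [Multiset.sum_cons, hsum]; push_cast; ring
    · refine ⟨a, b, c + 1, ?_, ?_⟩
      · rw [Multiset.card_cons]; omega
      · rw [Multiset.sum_cons, hsum]; push_cast; ring

section linear

variable {V : Type*} [AddCommGroup V] [Module ℂ V] [FiniteDimensional ℂ V]

/-- the trace of an operator of order dividing `3` -/
theorem order3_trace (A : V →ₗ[ℂ] V) (hA : A * A * A = 1) :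
    ∃ a b c : ℕ, a + b + c = Module.finrank ℂ V ∧
      LinearMap.trace ℂ V A = (a : ℂ) + (b : ℂ) * ω + (c : ℂ) * (-1 - ω) := by
  have hsplit : (LinearMap.charpoly A).Splits := IsAlgClosed.splits _
  have hroots : ∀ μ ∈ (LinearMap.charpoly A).roots, μ = 1 ∨ μ = ω ∨ μ = -1 - ω := by
    intro μ hμ
    have hroot : (LinearMap.charpoly A).IsRoot μ := (Polynomial.mem_roots'.1 hμ).2
    have hev : Module.End.HasEigenvalue A μ :=
      (Module.End.hasEigenvalue_iff_isRoot_charpoly A μ).2 hroot
    obtain ⟨v, hv⟩ := hev.exists_hasEigenvector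
    have h1 : A v = μ • v := hv.apply_eq_smul
    have h2 : (A * A * A) v = (μ * μ * μ) • v := by
      rw [Module.End.mul_apply, Module.End.mul_apply, h1, map_smul, h1, map_smul, map_smul, h1,
        smul_smul, smul_smul]
    rw [hA, Module.End.one_apply] at h2
    have h3 : (μ * μ * μ - 1) • v = 0 := by
      rw [sub_smul, one_smul, ← h2, sub_self]
    have h4 : μ * μ * μ - 1 = 0 := by
      rcases smul_eq_zero.1 h3 with h | h
      · exact h
      · exact absurd h hv.2
    exact cube_root_cases (by linear_combination h4)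
  obtain ⟨a, b, c, hc, hsum⟩ := multiset_cube _ hroots
  have hcard : Multiset.card (LinearMap.charpoly A).roots = Module.finrank ℂ V := by
    rw [IsAlgClosed.card_roots_eq_natDegree, LinearMap.charpoly_natDegree]
  rw [hcard] at hc
  refine ⟨a, b, c, hc, ?_⟩
  rw [Module.End.trace_eq_sum_roots_charpoly_of_splits hsplit, hsum]

end linear

variable {G : Type u} [Group G] [Finite G]

/-- **The value of an irreducible character at an element of order dividing `3`**, in the
coordinates `x + y ω`. -/
theorem order3_apply (χ : IrrCharacter G) {u : G} (hu : u * u * u = 1) :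
    ∃ a b c : ℕ, a + b + c = charDegree χ.1 ∧
      χ.1 u = (((a : ℤ) - (c : ℤ) : ℤ) : ℂ) + (((b : ℤ) - (c : ℤ) : ℤ) : ℂ) * ω := by
  obtain ⟨n, ρ, hirr, hχ, hn⟩ := exists_rep χ
  have hA : ρ u * ρ u * ρ u = 1 := by rw [← map_mul, ← map_mul, hu, map_one]
  obtain ⟨a, b, c, hc, htr⟩ := order3_trace (ρ u) hA
  rw [Module.finrank_fin_fun] at hc
  refine ⟨a, b, c, hn ▸ hc, ?_⟩
  have h1 : χ.1 u = ρ.character u := by rw [hχ]
  rw [h1]
  unfold Representation.character
  rw [htr]
  push_cast
  ring

end Cfsg.Agent.Lib.Helper6.OrdR
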