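import Mathlib
import Cfsg.Agent.Lib.Helper6.OrdQ3
import Cfsg.Agent.Lib.Helper1.ConjCount

/-!
# Simple groups of order `7920`: the centralizer of an involution has order `48`
-/

set_option autoImplicit false
set_option maxHeartbeats 1600000
set_option maxRecDepth 1000000

namespace Cfsg.Agent.Lib.Helper6.OrdQ

open Cfsg Cfsg.Agent.Lib.Helper8 Cfsg.Agent.Lib.Helper6.OrdB Cfsg.Agent.Lib.Helper6.OrdD
  Cfsg.Agent.Lib.Helper6.OrdK Cfsg.Agent.Lib.Helper6.OrdH Cfsg.Agent.Lib.Helper6.OrdL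
  Cfsg.Agent.Lib.Helper6.OrdG Cfsg.Agent.Lib.Helper1
open scoped ComplexConjugate

universe u

section general

variable {G : Type u} [Group G] [Fintype G] {p e : ℕ} [hp : Fact p.Prime]
  [Fintype (IrrCharacter G)]

/-- when the inertial index is `p - 1`, the degrees of the characters of the block are congruent
to their signs -/
theorem deg_modEq_δ (c : D1 G p e) (he : e = p - 1) {θ0 : IrrCharacter G} (hθ0 : θ0 ∈ c.Y)
    {χ : IrrCharacter G} (hχ : χ ∈ c.Bf θ0) :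
    (charDegree χ.1 : ℤ) ≡ c.δ θ0 χ [ZMOD p] := by
  rcases (c.mem_Bf θ0).1 hχ with h | h
  · rw [h, c.δ_self]
    have h1 := c.hYdeg θ0 hθ0
    refine h1.trans ?_
    have hp1 : 1 ≤ p := hp.1.one_lt.le
    have he' : (e : ℤ) = (p : ℤ) - 1 := by
      rw [he, Nat.cast_sub hp1]; simp
    rw [he', Int.modEq_iff_dvd]
    exact ⟨-c.ε, by ring⟩
  · rw [c.δ_of_mem_X θ0 hθ0 h]
    exact c.hXdeg χ h

omit hp in
/-- the signs of the characters of the principal `5`-block from the degrees -/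
theorem δ_of_deg5 [Fact (Nat.Prime 5)] (c : D1 G 5 4) {θ0 : IrrCharacter G} (hθ0 : θ0 ∈ c.Y)
    {χ : IrrCharacter G} (hχ : χ ∈ c.Bf θ0) :
    (charDegree χ.1 % 5 = 1 → c.δ θ0 χ = 1) ∧ (charDegree χ.1 % 5 = 4 → c.δ θ0 χ = -1) := by
  have h := deg_modEq_δ c rfl hθ0 hχ
  unfold Int.ModEq at h
  rcases c.δ_cases θ0 hχ with h1 | h1
  · rw [h1] at h
    refine ⟨fun _ => h1, fun h4 => ?_⟩
    push_cast at h
    omega
  · rw [h1] at h
    refine ⟨fun h4 => ?_, fun _ => h1⟩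
    push_cast at h
    omega

end general

/-- the arithmetic of the class multiplication coefficient -/
theorem arith48 : ∀ b ∈ Finset.range 12, ∀ n ∈ Finset.range 6, ∀ C ∈ Nat.divisors 7920,
    n * C ^ 2 + 23040 * b = 2160 * b ^ 2 + 69120 → C = 48 := by
  decide

variable {G : Type u} [Group G] [Fintype G] [IsSimpleGroup G] [Fintype (IrrCharacter G)]

open Classical in
/-- **The centralizer of an involution** of a simple group of order `7920` has order `48`. -/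
theorem card_centralizer_invol (hG : ¬ IsMulCommutative G) (hn : Nat.card G = 7920) (t : G)
    (ht : orderOf t = 2) : Nat.card (Subgroup.centralizer ({t} : Set G)) = 48 := by
  have hp5 : Fact (Nat.Prime 5) := ⟨by norm_num⟩
  have hperf : commutator G = ⊤ := commutator_eq_top hG
  obtain ⟨P⟩ : Nonempty (Sylow 5 G) := inferInstance
  have hS : ∀ Q : Sylow 5 G, Nat.card Q = 5 ∧
      Subgroup.centralizer ((Q : Subgroup G) : Set G) = (Q : Subgroup G) := by
    intro Q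
    obtain ⟨hQ, -, -, hC, -⟩ := five_core hG hn Q
    refine ⟨hQ, ?_⟩
    obtain ⟨x', -, hQx, -⟩ := d1_sylow_data 5 Q hQ
    have hQle : (Q : Subgroup G) ≤ Subgroup.centralizer ((Q : Subgroup G) : Set G) := by
      intro a ha
      rw [Subgroup.mem_centralizer_iff]
      intro b hb
      rw [SetLike.mem_coe] at hb
      rw [hQx] at ha hb
      obtain ⟨i, rfl⟩ := Subgroup.mem_zpowers_iff.1 ha
      obtain ⟨j, rfl⟩ := Subgroup.mem_zpowers_iff.1 hb
      exact ((Commute.refl x').zpow_zpow j i)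
    exact (Subgroup.eq_of_le_of_card_ge hQle (by rw [hC, hQ])).symm
  obtain ⟨-, hN, -, -, c, θ0, hcP, hθ0, h11, h16, h44⟩ := five_core hG hn P
  have hN' : Nat.card (Subgroup.normalizer ((c.P : Subgroup G) : Set G)) = 5 * 4 := by
    rw [hcP]; exact hN
  have hreg : ¬ 5 ∣ orderOf t := by rw [ht]; norm_num
  have htt : t * t = 1 := by rw [← pow_two, ← ht]; exact pow_orderOf_eq_one t
  -- the trivial character lies in the block
  have hYcard : c.Yf.card = 1 := by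
    have := c.card_Yf
    omega
  have htrivmem : trivIrr G ∈ c.Bf θ0 := by
    rw [c.mem_Bf]
    rcases c.triv_mem with h | h
    · exact Or.inr h
    · left
      exact Finset.card_le_one.1 hYcard.le _ (c.mem_Yf.2 h) _ (c.mem_Yf.2 hθ0)
  have hcardB : ((c.Bf θ0).erase (trivIrr G)).card = 4 := by
    rw [Finset.card_erase_of_mem htrivmem, c.card_Bf θ0 hθ0]
  obtain ⟨B', hB'⟩ : ∃ B', B' = (c.Bf θ0).erase (trivIrr G) := ⟨_, rfl⟩
  rw [← hB'] at h11 h16 h44 hcardB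
  obtain ⟨T11, hT11⟩ : ∃ T, T = B'.filter (fun χ => charDegree χ.1 = 11) := ⟨_, rfl⟩
  obtain ⟨T16, hT16⟩ : ∃ T, T = B'.filter (fun χ => charDegree χ.1 = 16) := ⟨_, rfl⟩
  obtain ⟨T44, hT44⟩ : ∃ T, T = B'.filter (fun χ => charDegree χ.1 = 44) := ⟨_, rfl⟩
  rw [← hT11] at h11
  rw [← hT16] at h16
  rw [← hT44] at h44
  have hd1 : Disjoint T16 T44 := by
    rw [hT16, hT44]
    exact Finset.disjoint_filter.2 (fun χ _ h1 h2 => by rw [h1] at h2; norm_num at h2)
  have hd2 : Disjoint T11 (T16 ∪ T44) := by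
    rw [Finset.disjoint_union_right, hT11, hT16, hT44]
    exact ⟨Finset.disjoint_filter.2 (fun χ _ h1 h2 => by rw [h1] at h2; norm_num at h2),
      Finset.disjoint_filter.2 (fun χ _ h1 h2 => by rw [h1] at h2; norm_num at h2)⟩
  have hpart : T11 ∪ (T16 ∪ T44) = B' := by
    apply Finset.eq_of_subset_of_card_le
    · rw [hT11, hT16, hT44]
      exact Finset.union_subset (Finset.filter_subset _ _)
        (Finset.union_subset (Finset.filter_subset _ _) (Finset.filter_subset _ _))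
    · rw [Finset.card_union_of_disjoint hd2, Finset.card_union_of_disjoint hd1, h11, h16, h44,
        hcardB]
  obtain ⟨χ11, hχ11⟩ := Finset.card_eq_one.1 h11
  obtain ⟨χ44, hχ44⟩ := Finset.card_eq_one.1 h44
  have hsplit : ∀ F : IrrCharacter G → ℂ, ∑ χ ∈ c.Bf θ0, F χ =
      F (trivIrr G) + (F χ11 + (∑ χ ∈ T16, F χ + F χ44)) := by
    intro F
    rw [← Finset.add_sum_erase _ F htrivmem, ← hB', ← hpart, Finset.sum_union hd2,
      Finset.sum_union hd1, hχ11, hχ44, Finset.sum_singleton, Finset.sum_singleton]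
  -- membership and degrees
  have hmemB : ∀ χ : IrrCharacter G, χ ∈ B' → χ ∈ c.Bf θ0 := by
    intro χ hχ
    rw [hB'] at hχ
    exact (Finset.mem_erase.1 hχ).2
  have h11mem : χ11 ∈ B' ∧ charDegree χ11.1 = 11 := by
    have : χ11 ∈ T11 := by rw [hχ11]; exact Finset.mem_singleton_self _
    rw [hT11] at this
    exact Finset.mem_filter.1 this
  have h44mem : χ44 ∈ B' ∧ charDegree χ44.1 = 44 := by
    have : χ44 ∈ T44 := by rw [hχ44]; exact Finset.mem_singleton_self _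
    rw [hT44] at this
    exact Finset.mem_filter.1 this
  have h16mem : ∀ χ ∈ T16, χ ∈ B' ∧ charDegree χ.1 = 16 := by
    intro χ hχ
    rw [hT16] at hχ
    exact Finset.mem_filter.1 hχ
  -- the signs
  have hδ1 : c.δ θ0 (trivIrr G) = 1 :=
    (δ_of_deg5 c hθ0 htrivmem).1 (by rw [charDegree_trivIrr])
  have hδ11 : c.δ θ0 χ11 = 1 :=
    (δ_of_deg5 c hθ0 (hmemB _ h11mem.1)).1 (by rw [h11mem.2])
  have hδ44 : c.δ θ0 χ44 = -1 :=
    (δ_of_deg5 c hθ0 (hmemB _ h44mem.1)).2 (by rw [h44mem.2])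
  -- the values at the involution
  have hv16 : ∀ χ ∈ T16, χ.1 t = 0 := by
    intro χ hχ
    exact defect_zero_vanish' χ 2 4 (by norm_num) (by rw [hn]; norm_num)
      (by rw [hn]; norm_num) (by rw [(h16mem χ hχ).2]; norm_num) t (by rw [ht])
  obtain ⟨b, hb, hχt, -⟩ := involution_apply hperf χ11 htt
  rw [h11mem.2] at hb hχt
  have hsum := c.sum_Bf_reg θ0 hθ0 hreg
  rw [hsplit (fun χ => (c.δ θ0 χ : ℂ) * χ.1 t)] at hsum
  rw [hδ1, hδ11, hδ44, trivIrr_apply,
    Finset.sum_eq_zero (fun χ hχ => by rw [hv16 χ hχ, mul_zero])] at hsum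
  have hχ44t : χ44.1 t = 1 + χ11.1 t := by
    push_cast at hsum
    linear_combination (-1 : ℂ) * hsum
  -- class multiplication
  have hcm : (Nat.card {q : G × G // IsConj t q.1 ∧ IsConj t q.2 ∧ q.1 * q.2 = c.x} : ℂ) *
      (Nat.card G : ℂ) = (Nat.card {g : G // IsConj t g} : ℂ) ^ 2 *
        ∑ χ ∈ c.Bf θ0, (c.δ θ0 χ : ℂ) * (χ.1 t * χ.1 t / χ.1 1) :=
    (toTI c hS hN').class_mult' θ0 hθ0 hreg
  have hcount : Nat.card {q : G × G // IsConj t q.1 ∧ IsConj t q.2 ∧ q.1 * q.2 = c.x} ≤ 5 :=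
    (toTI c hS hN').count_le htt
  rw [hsplit (fun χ => (c.δ θ0 χ : ℂ) * (χ.1 t * χ.1 t / χ.1 1))] at hcm
  rw [hδ1, hδ11, hδ44, trivIrr_apply, trivIrr_apply,
    Finset.sum_eq_zero (fun χ hχ => by rw [hv16 χ hχ, mul_zero, zero_div, mul_zero]),
    apply_one χ11, apply_one χ44, h11mem.2, h44mem.2, hχ44t, hχt, hn] at hcm
  have hkc := card_isConj_mul_card_centralizer t
  rw [hn] at hkc
  have hkcC : (Nat.card {v : G // IsConj t v} : ℂ) *
      (Nat.card (Subgroup.centralizer ({t} : Set G)) : ℂ) = 7920 := by exact_mod_cast hkc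
  obtain ⟨n, hndef⟩ : ∃ n, n = Nat.card {q : G × G // IsConj t q.1 ∧ IsConj t q.2 ∧
      q.1 * q.2 = c.x} := ⟨_, rfl⟩
  obtain ⟨k, hkdef⟩ : ∃ k, k = Nat.card {v : G // IsConj t v} := ⟨_, rfl⟩
  obtain ⟨C, hCdef⟩ : ∃ C, C = Nat.card (Subgroup.centralizer ({t} : Set G)) := ⟨_, rfl⟩
  rw [← hndef] at hcm hcount
  rw [← hkdef] at hcm hkcC hkc
  rw [← hCdef] at hkcC hkc ⊢
  have hfin : (n : ℂ) * (C : ℂ) ^ 2 + 23040 * (b : ℂ) = 2160 * (b : ℂ) ^ 2 + 69120 := by
    push_cast at hcm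
    linear_combination ((C : ℂ) ^ 2 / 7920) * hcm +
      ((1 * (1 * 1 / 1) + (1 * ((11 - 2 * (b : ℂ)) * (11 - 2 * (b : ℂ)) / 11) +
        (0 + (-1) * ((1 + (11 - 2 * (b : ℂ))) * (1 + (11 - 2 * (b : ℂ))) / 44)))) *
        ((k : ℂ) * (C : ℂ) + 7920) / 7920) * hkcC
  have hfinN : n * C ^ 2 + 23040 * b = 2160 * b ^ 2 + 69120 := by exact_mod_cast hfin
  exact arith48 b (Finset.mem_range.2 (by omega)) n (Finset.mem_range.2 (by omega)) C
    (Nat.mem_divisors.2 ⟨Dvd.intro_left k hkc, by norm_num⟩) hfinN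

end Cfsg.Agent.Lib.Helper6.OrdQ
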