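import Mathlib
import Cfsg.Agent.Lib.Helper6.OrdQ4

/-!
# Simple groups of order `7920`: the principal `11`-block
-/

set_option autoImplicit false
set_option maxHeartbeats 1600000
set_option maxRecDepth 1000000

namespace Cfsg.Agent.Lib.Helper6.OrdR

open Cfsg Cfsg.Agent.Lib.Helper8 Cfsg.Agent.Lib.Helper6.OrdB Cfsg.Agent.Lib.Helper6.OrdD
  Cfsg.Agent.Lib.Helper6.OrdK Cfsg.Agent.Lib.Helper6.OrdH Cfsg.Agent.Lib.Helper6.OrdL
  Cfsg.Agent.Lib.Helper6.OrdG Cfsg.Agent.Lib.Helper6.OrdQ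
open scoped ComplexConjugate

universe u

/-- the filter of the degrees: not `12` -/
def ok12 : ℕ → Bool := fun d => d != 12

/-- the predicate on the solutions of the degree equation for the prime `11` -/
def R11 (v : ℕ) : ℕ → ℕ → ℕ → ℕ → Bool := fun _ _ q2 d0 => (q2 == v) && (d0 == 16)

theorem chk11_45 : chkW ok12 (fun d => if d = 45 then 1 else 0) (R11 1) (11 * 720) 7920 11 720 88
    5 11 = true := by
  decide

theorem chk11_10 : chkW ok12 (fun d => if d = 10 then 1 else 0) (R11 3) (11 * 720) 7920 11 720 88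
    5 11 = true := by
  decide

variable {G : Type u} [Group G] [Fintype G] [IsSimpleGroup G] [Fintype (IrrCharacter G)]

open Classical in
/-- **The principal `11`-block** consists of the trivial character, a character of degree `45`, three
characters of degree `10` and two exceptional characters of degree `16`. -/
theorem eleven_core (hG : ¬ IsMulCommutative G) (hn : Nat.card G = 7920) :
    ∃ (c : TI G 11 5) (θ0 : IrrCharacter G), θ0 ∈ c.Y ∧ trivIrr G ∈ c.X ∧
      c.εX (trivIrr G) = 1 ∧ c.ε = 1 ∧ (∀ θ ∈ c.Y, charDegree θ.1 = 16) ∧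
      (∀ χ ∈ c.X, charDegree χ.1 = 45 → c.εX χ = 1) ∧
      (∀ χ ∈ c.X, charDegree χ.1 = 10 → c.εX χ = -1) ∧
      ((c.Xf.erase (trivIrr G)).filter (fun χ => charDegree χ.1 = 45)).card = 1 ∧
      ((c.Xf.erase (trivIrr G)).filter (fun χ => charDegree χ.1 = 10)).card = 3 := by
  have h11 : Fact (Nat.Prime 11) := ⟨by norm_num⟩
  obtain ⟨P⟩ : Nonempty (Sylow 11 G) := inferInstance
  obtain ⟨hPcard, hN, he, hep, hc', hCP⟩ := cfg11 hG hn P
  have hS : ∀ Q : Sylow 11 G, Nat.card Q = 11 ∧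
      Subgroup.centralizer ((Q : Subgroup G) : Set G) = (Q : Subgroup G) := by
    intro Q
    obtain ⟨h1, -, -, -, -, h2⟩ := cfg11 hG hn Q
    exact ⟨h1, h2⟩
  obtain ⟨c, hcP⟩ := exists_D1 11 P hPcard 5 he hep
  have hbud : ∀ S : Finset (IrrCharacter G), (∀ ψ ∈ S, ¬ 11 ∣ charDegree ψ.1) →
      ∑ ψ ∈ S, (charDegree ψ.1) ^ 2 ≤ 7920 := by
    intro S _
    rw [← hn]
    exact sum_sq_le S
  have hok : ∀ φ : IrrCharacter G, ok12 (charDegree φ.1) = true := by
    intro φ
    unfold ok12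
    simp only [bne_iff_ne]
    exact no_deg12 hG hn φ
  have hspec1 := chkW_spec hG ok12 _ (R11 1) hok 11 720 88 7920 (by norm_num)
    (by rw [hn]) (by norm_num) (by norm_num) hbud P (k := 5) (by norm_num) hep (by norm_num) hc'
    (by norm_num) c hcP chk11_45
  have hspec2 := chkW_spec hG ok12 _ (R11 3) hok 11 720 88 7920 (by norm_num)
    (by rw [hn]) (by norm_num) (by norm_num) hbud P (k := 5) (by norm_num) hep (by norm_num) hc'
    (by norm_num) c hcP chk11_10
  obtain ⟨htX, θ1, hθ1, hR1⟩ := hspec1.2 (by norm_num)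
  obtain ⟨-, θ2, hθ2, hR2⟩ := hspec2.2 (by norm_num)
  unfold R11 at hR1 hR2
  simp only [Bool.and_eq_true, beq_iff_eq] at hR1 hR2
  obtain ⟨hq1, hd1⟩ := hR1
  obtain ⟨hq2, -⟩ := hR2
  rw [← Finset.card_filter] at hq1 hq2
  have h1reg : ¬ 11 ∣ orderOf (1 : G) := c.one_reg
  have hYdeg16 : ∀ θ ∈ c.Y, charDegree θ.1 = 16 := by
    intro θ hθ
    have h := c.hYagree θ hθ θ1 hθ1 1 h1reg
    rw [apply_one, apply_one, hd1] at h
    exact_mod_cast h
  have hε : c.ε = 1 := by
    have h := c.hYdeg θ1 hθ1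
    rw [hd1] at h
    unfold Int.ModEq at h
    rcases c.hε with h2 | h2
    · exact h2
    · rw [h2] at h
      norm_num at h
  have hεtriv : c.εX (trivIrr G) = 1 := by
    have h := c.hXdeg _ htX
    rw [charDegree_trivIrr] at h
    unfold Int.ModEq at h
    rcases c.hεX _ htX with h2 | h2
    · exact h2
    · rw [h2] at h
      norm_num at h
  have h45 : ∀ χ ∈ c.X, charDegree χ.1 = 45 → c.εX χ = 1 := by
    intro χ hχ hd
    have h := c.hXdeg χ hχ
    rw [hd] at h
    unfold Int.ModEq at h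
    rcases c.hεX χ hχ with h2 | h2
    · exact h2
    · rw [h2] at h
      norm_num at h
  have h10 : ∀ χ ∈ c.X, charDegree χ.1 = 10 → c.εX χ = -1 := by
    intro χ hχ hd
    have h := c.hXdeg χ hχ
    rw [hd] at h
    unfold Int.ModEq at h
    rcases c.hεX χ hχ with h2 | h2
    · rw [h2] at h
      norm_num at h
    · exact h2
  exact ⟨toTI c hS (by rw [hcP]; exact hN), θ1, hθ1, htX, hεtriv, hε, hYdeg16, h45, h10, hq1, hq2⟩

end Cfsg.Agent.Lib.Helper6.OrdR
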