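import Mathlib
import Cfsg.Agent.Lib.Helper6.OrdH5

/-!
# Self-centralizing Sylow subgroups of prime order: class multiplication of two classes
-/

set_option autoImplicit false
set_option maxHeartbeats 1600000
set_option linter.unusedSectionVars false

namespace Cfsg.Agent.Lib.Helper6.OrdH

open Cfsg Cfsg.Agent.Lib.Helper8 Cfsg.Agent.Lib.Helper6.OrdB Cfsg.Agent.Lib.Helper4
  Cfsg.Agent.Lib.Helper1 Cfsg.Agent.Lib.Helper6.OrdF
open scoped ComplexConjugate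

universe u

namespace TI

variable {G : Type u} [Group G] [Fintype G] {p e : ℕ} [hp : Fact p.Prime] (c : TI G p e)

/-- **The class multiplication identity for two classes.** -/
theorem class_mult2 {θ0 : IrrCharacter G} (hθ0 : θ0 ∈ c.Y) {g h : G} (hg : ¬ p ∣ orderOf g)
    (hh : ¬ p ∣ orderOf h) [Fintype (IrrCharacter G)] :
    (Nat.card {q : G × G // IsConj g q.1 ∧ IsConj h q.2 ∧ q.1 * q.2 = c.x} : ℂ) *
        (Nat.card G : ℂ) =
      (Nat.card {v : G // IsConj g v} : ℂ) * (Nat.card {v : G // IsConj h v} : ℂ) *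
        (∑ χ ∈ c.Xf, (c.εX χ : ℂ) * (χ.1 g * χ.1 h / χ.1 1) -
          (c.ε : ℂ) * (θ0.1 g * θ0.1 h / θ0.1 1)) := by
  classical
  have hG0 : (Nat.card G : ℂ) ≠ 0 := Nat.cast_ne_zero.2 Nat.card_pos.ne'
  have h1reg : ¬ p ∣ orderOf (1 : G) := by
    rw [orderOf_one]
    exact fun h => hp.1.one_lt.ne' (Nat.dvd_one.1 h)
  have h1 := Cfsg.Agent.S0840.result g h c.x
  rw [finsum_eq_sum_of_fintype, c.sum_block] at h1
  · have hx1 : c.x ≠ 1 := (c.mem_S.1 c.x_mem_S).2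
    have hX : ∑ χ ∈ c.Xf, χ.1 g * χ.1 h * conj (χ.1 c.x) / χ.1 1 =
        ∑ χ ∈ c.Xf, (c.εX χ : ℂ) * (χ.1 g * χ.1 h / χ.1 1) := by
      refine Finset.sum_congr rfl fun χ hχ => ?_
      rw [c.hval χ (c.mem_Xf.1 hχ) c.x (c.mem_S.1 c.x_mem_S).1 hx1]
      simp only [map_intCast]
      ring
    have hY : ∑ θ ∈ c.Yf, θ.1 g * θ.1 h * conj (θ.1 c.x) / θ.1 1 =
        (θ0.1 g * θ0.1 h / θ0.1 1) * ∑ θ ∈ c.Yf, conj (θ.1 c.x) := by
      rw [Finset.mul_sum]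
      refine Finset.sum_congr rfl fun θ hθ => ?_
      rw [c.hYagree θ (c.mem_Yf.1 hθ) θ0 hθ0 1 h1reg, c.hYagree θ (c.mem_Yf.1 hθ) θ0 hθ0 g hg,
        c.hYagree θ (c.mem_Yf.1 hθ) θ0 hθ0 h hh]
      ring
    rw [hX, hY, c.sum_exc_x hθ0] at h1
    rw [h1]
    field_simp
    ring
  · intro ψ h2 h3
    rw [c.vanish_off_block h2 h3 c.x_mem_S, map_zero, mul_zero, zero_div]

end TI

end Cfsg.Agent.Lib.Helper6.OrdH
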