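import Mathlib
import Cfsg.Agent.Lib.Helper6.OrdR1
import Cfsg.Agent.Lib.Helper6.OrdR3
import Cfsg.Agent.S4429

/-!
# Simple groups of order `7920`: the relations between the irreducible characters
-/

set_option autoImplicit false
set_option maxHeartbeats 1600000
set_option maxRecDepth 1000000

namespace Cfsg.Agent.Lib.Helper6.OrdR

open Cfsg Cfsg.Agent.Lib.Helper8 Cfsg.Agent.Lib.Helper6.OrdB Cfsg.Agent.Lib.Helper6.OrdD
  Cfsg.Agent.Lib.Helper6.OrdK Cfsg.Agent.Lib.Helper6.OrdH Cfsg.Agent.Lib.Helper6.OrdL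
  Cfsg.Agent.Lib.Helper6.OrdG Cfsg.Agent.Lib.Helper6.OrdQ
open scoped ComplexConjugate

universe u

/-- sums over a set of three elements -/
theorem sum_three' {α : Type*} [DecidableEq α] {x y z : α} (hxy : x ≠ y) (hxz : x ≠ z)
    (hyz : y ≠ z) (F : α → ℂ) : ∑ w ∈ ({x, y, z} : Finset α), F w = F x + F y + F z := by
  rw [Finset.sum_insert (by simp [hxy, hxz]), Finset.sum_pair hyz]
  ring

/-- The irreducible characters of a simple group of order `7920`, with the relations of the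
principal blocks for the primes `5` and `11`. -/
structure Tab (G : Type u) [Group G] [Fintype G] [Fintype (IrrCharacter G)] where
  a1 : IrrCharacter G
  a2 : IrrCharacter G
  a3 : IrrCharacter G
  b : IrrCharacter G
  s1 : IrrCharacter G
  s2 : IrrCharacter G
  c : IrrCharacter G
  d : IrrCharacter G
  f : IrrCharacter G
  x : G
  da1 : charDegree a1.1 = 10
  da2 : charDegree a2.1 = 10
  da3 : charDegree a3.1 = 10
  db : charDegree b.1 = 11
  ds1 : charDegree s1.1 = 16
  ds2 : charDegree s2.1 = 16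
  dc : charDegree c.1 = 44
  dd : charDegree d.1 = 45
  df : charDegree f.1 = 55
  hsum : ∀ F : IrrCharacter G → ℂ, ∑ χ : IrrCharacter G, F χ =
      F (trivIrr G) + F a1 + F a2 + F a3 + F b + F s1 + F s2 + F c + F d + F f
  rel11 : ∀ g : G, ¬ 11 ∣ orderOf g → 1 + d.1 g - a1.1 g - a2.1 g - a3.1 g - s1.1 g = 0
  agree : ∀ g : G, ¬ 11 ∣ orderOf g → s1.1 g = s2.1 g
  rel5 : ∀ g : G, ¬ 5 ∣ orderOf g → 1 + b.1 g + s1.1 g + s2.1 g - c.1 g = 0
  cm11 : ∀ g h : G, ¬ 11 ∣ orderOf g → ¬ 11 ∣ orderOf h →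
      (Nat.card {q : G × G // IsConj g q.1 ∧ IsConj h q.2 ∧ q.1 * q.2 = x} : ℂ) * 7920 =
        (Nat.card {v : G // IsConj g v} : ℂ) * (Nat.card {v : G // IsConj h v} : ℂ) *
        (1 + d.1 g * d.1 h / 45 - a1.1 g * a1.1 h / 10 - a2.1 g * a2.1 h / 10
          - a3.1 g * a3.1 h / 10 - s1.1 g * s1.1 h / 16)

variable {G : Type u} [Group G] [Fintype G] [IsSimpleGroup G] [Fintype (IrrCharacter G)]

open Classical in
/-- **The character table data** of a simple group of order `7920`. -/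
theorem exists_tab (hG : ¬ IsMulCommutative G) (hn : Nat.card G = 7920) : Nonempty (Tab G) := by
  have h11 : Fact (Nat.Prime 11) := ⟨by norm_num⟩
  have h5 : Fact (Nat.Prime 5) := ⟨by norm_num⟩
  obtain ⟨c11, θ0, hθ0, htX, hεt, hε, hY16, h45s, h10s, hc45, hc10⟩ := eleven_core hG hn
  obtain ⟨P5⟩ : Nonempty (Sylow 5 G) := inferInstance
  obtain ⟨-, -, -, -, c5, θ5, -, hθ5, hq11, hq16, hq44⟩ := five_core hG hn P5
  obtain ⟨-, hcnt⟩ := Cfsg.Agent.S4429.result (G := G) hn
  have hD : ∀ n : ℕ,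
      (Finset.univ.filter (fun χ : IrrCharacter G => charDegree χ.1 = n)).card =
      (if n = 1 ∨ n = 11 ∨ n = 44 ∨ n = 45 ∨ n = 55 then 1 else if n = 10 then 3
        else if n = 16 then 2 else 0) := by
    intro n
    have h := hcnt n
    rw [Nat.card_eq_fintype_card, Fintype.card_subtype] at h
    exact h
  -- the principal `11`-block
  have hXcard : c11.Xf.card = 5 := c11.card_Xf
  have htXf : trivIrr G ∈ c11.Xf := c11.mem_Xf.2 htX
  obtain ⟨B, hB⟩ : ∃ B, B = c11.Xf.erase (trivIrr G) := ⟨_, rfl⟩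
  have hBcard : B.card = 4 := by rw [hB, Finset.card_erase_of_mem htXf, hXcard]
  rw [← hB] at hc45 hc10
  obtain ⟨T45, hT45⟩ : ∃ T, T = B.filter (fun χ => charDegree χ.1 = 45) := ⟨_, rfl⟩
  obtain ⟨T10, hT10⟩ : ∃ T, T = B.filter (fun χ => charDegree χ.1 = 10) := ⟨_, rfl⟩
  rw [← hT45] at hc45
  rw [← hT10] at hc10
  have hdis : Disjoint T45 T10 := by
    rw [hT45, hT10]
    exact Finset.disjoint_filter.2 (fun χ _ h1 h2 => by rw [h1] at h2; norm_num at h2)
  have hpart : T45 ∪ T10 = B := by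
    apply Finset.eq_of_subset_of_card_le
    · rw [hT45, hT10]
      exact Finset.union_subset (Finset.filter_subset _ _) (Finset.filter_subset _ _)
    · rw [Finset.card_union_of_disjoint hdis, hc45, hc10, hBcard]
  obtain ⟨d, hd⟩ := Finset.card_eq_one.1 hc45
  obtain ⟨a1, a2, a3, h12, h13, h23, ha⟩ := Finset.card_eq_three.1 hc10
  have hXsum : ∀ F : IrrCharacter G → ℂ, ∑ χ ∈ c11.Xf, F χ =
      F (trivIrr G) + (F d + (F a1 + F a2 + F a3)) := by
    intro F
    rw [← Finset.add_sum_erase _ F htXf, ← hB, ← hpart, Finset.sum_union hdis, hd, ha,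
      Finset.sum_singleton, sum_three' h12 h13 h23]
  have hdmem : d ∈ B ∧ charDegree d.1 = 45 := by
    have : d ∈ T45 := by rw [hd]; exact Finset.mem_singleton_self _
    rw [hT45] at this
    exact Finset.mem_filter.1 this
  have hamem : ∀ χ : IrrCharacter G, χ ∈ T10 → χ ∈ B ∧ charDegree χ.1 = 10 := by
    intro χ hχ
    rw [hT10] at hχ
    exact Finset.mem_filter.1 hχ
  have ha1 := hamem a1 (by rw [ha]; simp)
  have ha2 := hamem a2 (by rw [ha]; simp)
  have ha3 := hamem a3 (by rw [ha]; simp)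
  have hBX : ∀ χ : IrrCharacter G, χ ∈ B → χ ∈ c11.X := by
    intro χ hχ
    rw [hB] at hχ
    exact c11.mem_Xf.1 (Finset.mem_erase.1 hχ).2
  have hXdeg : ∀ χ : IrrCharacter G, χ ∈ c11.X →
      charDegree χ.1 = 1 ∨ charDegree χ.1 = 45 ∨ charDegree χ.1 = 10 := by
    intro χ hχ
    by_cases h1 : χ = trivIrr G
    · left; rw [h1, charDegree_trivIrr]
    · have : χ ∈ B := by
        rw [hB]
        exact Finset.mem_erase.2 ⟨h1, c11.mem_Xf.2 hχ⟩
      rw [← hpart, Finset.mem_union, hT45, hT10, Finset.mem_filter, Finset.mem_filter] at this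
      rcases this with h | h
      · right; left; exact h.2
      · right; right; exact h.2
  -- the principal `5`-block
  have hYcard5 : c5.Yf.card = 1 := by
    have := c5.card_Yf
    omega
  have htriv5 : trivIrr G ∈ c5.Bf θ5 := by
    rw [c5.mem_Bf]
    rcases c5.triv_mem with h | h
    · exact Or.inr h
    · left
      exact Finset.card_le_one.1 hYcard5.le _ (c5.mem_Yf.2 h) _ (c5.mem_Yf.2 hθ5)
  have hcardB5 : ((c5.Bf θ5).erase (trivIrr G)).card = 4 := by
    rw [Finset.card_erase_of_mem htriv5, c5.card_Bf θ5 hθ5]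
  obtain ⟨B', hB'⟩ : ∃ B', B' = (c5.Bf θ5).erase (trivIrr G) := ⟨_, rfl⟩
  rw [← hB'] at hq11 hq16 hq44 hcardB5
  obtain ⟨T11, hT11⟩ : ∃ T, T = B'.filter (fun χ => charDegree χ.1 = 11) := ⟨_, rfl⟩
  obtain ⟨T16, hT16⟩ : ∃ T, T = B'.filter (fun χ => charDegree χ.1 = 16) := ⟨_, rfl⟩
  obtain ⟨T44, hT44⟩ : ∃ T, T = B'.filter (fun χ => charDegree χ.1 = 44) := ⟨_, rfl⟩
  rw [← hT11] at hq11
  rw [← hT16] at hq16
  rw [← hT44] at hq44
  have hd1 : Disjoint T16 T44 := by
    rw [hT16, hT44]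
    exact Finset.disjoint_filter.2 (fun χ _ h1 h2 => by rw [h1] at h2; norm_num at h2)
  have hd2 : Disjoint T11 (T16 ∪ T44) := by
    rw [Finset.disjoint_union_right, hT11, hT16, hT44]
    exact ⟨Finset.disjoint_filter.2 (fun χ _ h1 h2 => by rw [h1] at h2; norm_num at h2),
      Finset.disjoint_filter.2 (fun χ _ h1 h2 => by rw [h1] at h2; norm_num at h2)⟩
  have hpart5 : T11 ∪ (T16 ∪ T44) = B' := by
    apply Finset.eq_of_subset_of_card_le
    · rw [hT11, hT16, hT44]
      exact Finset.union_subset (Finset.filter_subset _ _)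
        (Finset.union_subset (Finset.filter_subset _ _) (Finset.filter_subset _ _))
    · rw [Finset.card_union_of_disjoint hd2, Finset.card_union_of_disjoint hd1, hq11, hq16, hq44,
        hcardB5]
  obtain ⟨b, hb⟩ := Finset.card_eq_one.1 hq11
  obtain ⟨c, hc⟩ := Finset.card_eq_one.1 hq44
  obtain ⟨s1, s2, hs12, hs⟩ := Finset.card_eq_two.1 hq16
  have hsplit5 : ∀ F : IrrCharacter G → ℂ, ∑ χ ∈ c5.Bf θ5, F χ =
      F (trivIrr G) + (F b + ((F s1 + F s2) + F c)) := by
    intro F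
    rw [← Finset.add_sum_erase _ F htriv5, ← hB', ← hpart5, Finset.sum_union hd2,
      Finset.sum_union hd1, hb, hc, hs, Finset.sum_singleton, Finset.sum_singleton,
      Finset.sum_pair hs12]
  have hmemB5 : ∀ χ : IrrCharacter G, χ ∈ B' → χ ∈ c5.Bf θ5 := by
    intro χ hχ
    rw [hB'] at hχ
    exact (Finset.mem_erase.1 hχ).2
  have hbmem : b ∈ B' ∧ charDegree b.1 = 11 := by
    have : b ∈ T11 := by rw [hb]; exact Finset.mem_singleton_self _
    rw [hT11] at this
    exact Finset.mem_filter.1 this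
  have hcmem : c ∈ B' ∧ charDegree c.1 = 44 := by
    have : c ∈ T44 := by rw [hc]; exact Finset.mem_singleton_self _
    rw [hT44] at this
    exact Finset.mem_filter.1 this
  have hsmem : ∀ χ : IrrCharacter G, χ ∈ T16 → χ ∈ B' ∧ charDegree χ.1 = 16 := by
    intro χ hχ
    rw [hT16] at hχ
    exact Finset.mem_filter.1 hχ
  have hs1 := hsmem s1 (by rw [hs]; simp)
  have hs2 := hsmem s2 (by rw [hs]; simp)
  have hδ1 : c5.δ θ5 (trivIrr G) = 1 :=
    (δ_of_deg5 c5 hθ5 htriv5).1 (by rw [charDegree_trivIrr])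
  have hδb : c5.δ θ5 b = 1 := (δ_of_deg5 c5 hθ5 (hmemB5 _ hbmem.1)).1 (by rw [hbmem.2])
  have hδs1 : c5.δ θ5 s1 = 1 := (δ_of_deg5 c5 hθ5 (hmemB5 _ hs1.1)).1 (by rw [hs1.2])
  have hδs2 : c5.δ θ5 s2 = 1 := (δ_of_deg5 c5 hθ5 (hmemB5 _ hs2.1)).1 (by rw [hs2.2])
  have hδc : c5.δ θ5 c = -1 := (δ_of_deg5 c5 hθ5 (hmemB5 _ hcmem.1)).2 (by rw [hcmem.2])
  -- the characters of degree `16` are the exceptional characters for the prime `11`
  have hsY : ∀ χ : IrrCharacter G, charDegree χ.1 = 16 → χ ∈ c11.Y := by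
    intro χ hχ
    by_contra hY
    by_cases hX : χ ∈ c11.X
    · rcases hXdeg χ hX with h | h | h <;> rw [hχ] at h <;> norm_num at h
    · have := TI.dvd_deg_of_not_mem c11 hX hY
      rw [hχ] at this
      norm_num at this
  have hs1Y := hsY s1 hs1.2
  have hs2Y := hsY s2 hs2.2
  have hagree : ∀ g : G, ¬ 11 ∣ orderOf g → θ0.1 g = s1.1 g ∧ s1.1 g = s2.1 g := by
    intro g hg
    exact ⟨c11.hYagree θ0 hθ0 s1 hs1Y g hg, c11.hYagree s1 hs1Y s2 hs2Y g hg⟩
  have h1reg : ¬ 11 ∣ orderOf (1 : G) := by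
    rw [orderOf_one]
    norm_num
  -- the global sum
  have hdegmem : ∀ χ : IrrCharacter G,
      charDegree χ.1 ∈ ({1, 10, 11, 16, 44, 45, 55} : Finset ℕ) := by
    intro χ
    have h1 : χ ∈ Finset.univ.filter (fun ψ : IrrCharacter G => charDegree ψ.1 = charDegree χ.1) :=
      Finset.mem_filter.2 ⟨Finset.mem_univ _, rfl⟩
    have h2 := Finset.card_pos.2 ⟨χ, h1⟩
    rw [hD] at h2
    simp only [Finset.mem_insert, Finset.mem_singleton]
    split_ifs at h2 with h3 h4 h5
    · rcases h3 with h | h | h | h | h <;> simp [h]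
    · simp [h4]
    · simp [h5]
    · omega
  have hDeq : ∀ (n : ℕ) (S : Finset (IrrCharacter G)), (∀ χ ∈ S, charDegree χ.1 = n) →
      (Finset.univ.filter (fun χ : IrrCharacter G => charDegree χ.1 = n)).card ≤ S.card →
      Finset.univ.filter (fun χ : IrrCharacter G => charDegree χ.1 = n) = S := by
    intro n S hS hle
    symm
    apply Finset.eq_of_subset_of_card_le
    · intro χ hχ
      exact Finset.mem_filter.2 ⟨Finset.mem_univ _, hS χ hχ⟩
    · exact hle
  have hD1 := hDeq 1 {trivIrr G} (by simp [charDegree_trivIrr]) (by rw [hD]; simp)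
  have hD10 := hDeq 10 {a1, a2, a3} (by
    intro χ hχ
    simp only [Finset.mem_insert, Finset.mem_singleton] at hχ
    rcases hχ with rfl | rfl | rfl
    · exact ha1.2
    · exact ha2.2
    · exact ha3.2) (by rw [hD, ← ha, hc10]; simp)
  have hD11 := hDeq 11 {b} (by simp [hbmem.2]) (by rw [hD]; simp)
  have hD16 := hDeq 16 {s1, s2} (by
    intro χ hχ
    simp only [Finset.mem_insert, Finset.mem_singleton] at hχ
    rcases hχ with rfl | rfl
    · exact hs1.2
    · exact hs2.2) (by rw [hD, ← hs, hq16]; simp)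
  have hD44 := hDeq 44 {c} (by simp [hcmem.2]) (by rw [hD]; simp)
  have hD45 := hDeq 45 {d} (by simp [hdmem.2]) (by rw [hD]; simp)
  have hc55 := hD 55
  simp only [] at hc55
  norm_num at hc55
  obtain ⟨f, hf⟩ := Finset.card_eq_one.1 hc55
  have hfdeg : charDegree f.1 = 55 := by
    have : f ∈ Finset.univ.filter (fun χ : IrrCharacter G => charDegree χ.1 = 55) := by
      rw [hf]; exact Finset.mem_singleton_self _
    exact (Finset.mem_filter.1 this).2
  have hgsum : ∀ F : IrrCharacter G → ℂ, ∑ χ : IrrCharacter G, F χ =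
      F (trivIrr G) + F a1 + F a2 + F a3 + F b + F s1 + F s2 + F c + F d + F f := by
    intro F
    rw [← Finset.sum_fiberwise_of_maps_to (s := (Finset.univ : Finset (IrrCharacter G)))
      (t := ({1, 10, 11, 16, 44, 45, 55} : Finset ℕ)) (g := fun χ => charDegree χ.1)
      (fun χ _ => hdegmem χ) F]
    rw [Finset.sum_insert (by decide), Finset.sum_insert (by decide), Finset.sum_insert (by decide),
      Finset.sum_insert (by decide), Finset.sum_insert (by decide), Finset.sum_insert (by decide),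
      Finset.sum_singleton, hD1, hD10, hD11, hD16, hD44, hD45, hf, Finset.sum_singleton,
      Finset.sum_singleton, Finset.sum_singleton, Finset.sum_singleton, Finset.sum_singleton,
      sum_three' h12 h13 h23, Finset.sum_pair hs12]
    ring
  -- the relations
  have hεd : c11.εX d = 1 := h45s d (hBX d hdmem.1) hdmem.2
  have hεa1 : c11.εX a1 = -1 := h10s a1 (hBX a1 ha1.1) ha1.2
  have hεa2 : c11.εX a2 = -1 := h10s a2 (hBX a2 ha2.1) ha2.2
  have hεa3 : c11.εX a3 = -1 := h10s a3 (hBX a3 ha3.1) ha3.2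
  refine ⟨{ a1 := a1, a2 := a2, a3 := a3, b := b, s1 := s1, s2 := s2, c := c, d := d, f := f,
            x := c11.x, da1 := ha1.2, da2 := ha2.2, da3 := ha3.2, db := hbmem.2, ds1 := hs1.2,
            ds2 := hs2.2, dc := hcmem.2, dd := hdmem.2, df := hfdeg, hsum := hgsum,
            rel11 := ?_, agree := fun g hg => (hagree g hg).2, rel5 := ?_, cm11 := ?_ }⟩
  · intro g hg
    have h := c11.sum_Bf_reg θ0 hθ0 hg
    rw [c11.sum_Bf θ0 hθ0 (fun χ => χ.1 g), hXsum, hεt, hεd, hεa1, hεa2, hεa3, hε,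
      trivIrr_apply, (hagree g hg).1] at h
    push_cast at h
    linear_combination h
  · intro g hg
    have h := c5.sum_Bf_reg θ5 hθ5 hg
    rw [hsplit5, hδ1, hδb, hδs1, hδs2, hδc, trivIrr_apply] at h
    push_cast at h
    linear_combination h
  · intro g h hg hh
    have hcm := c11.class_mult2 hθ0 hg hh
    rw [hXsum, hεt, hεd, hεa1, hεa2, hεa3, hε, trivIrr_apply, trivIrr_apply, trivIrr_apply,
      (hagree g hg).1, (hagree h hh).1, (hagree 1 h1reg).1, apply_one d, apply_one a1,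
      apply_one a2, apply_one a3, apply_one s1, hdmem.2, ha1.2, ha2.2, ha3.2, hs1.2, hn] at hcm
    push_cast at hcm ⊢
    linear_combination hcm

end Cfsg.Agent.Lib.Helper6.OrdR
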