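import Mathlib

/-!
# Simple groups of order `7920`: the arithmetic of the values at an element of order `3`

The values of the irreducible characters at an element of order `3` are written `x + y ω`. The
search below runs over the multiplicities of the eigenvalues for the three characters of degree
`10` and the character of degree `11`; the other values are determined by the relations of the
principal blocks for `5` and `11` and by the orthogonality with the column of the identity.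
-/

set_option autoImplicit false
set_option maxHeartbeats 1600000
set_option maxRecDepth 1000000

namespace Cfsg.Agent.Lib.Helper6.OrdR

/-- the norm of `x + y ω` -/
def nrm (x y : ℤ) : ℤ := x * x - x * y + y * y

/-- the square of `x + y ω`: the coefficient of `1` -/
def sq0 (x y : ℤ) : ℤ := x * x - y * y

/-- the square of `x + y ω`: the coefficient of `ω` -/
def sq1 (x y : ℤ) : ℤ := 2 * x * y - y * y

theorem nrm_nonneg (x y : ℤ) : 0 ≤ nrm x y := by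
  unfold nrm
  nlinarith [sq_nonneg (2 * x - y), sq_nonneg y]

/-- the value of the characters of degree `16` -/
def xsv (x1 x2 x3 : ℤ) : ℤ := 1 - (x1 + x2 + x3)

def ysv (y1 y2 y3 : ℤ) : ℤ := -(y1 + y2 + y3)

/-- the value of the character of degree `44` -/
def xcv (x1 x2 x3 xb : ℤ) : ℤ := 1 + xb + 2 * xsv x1 x2 x3

def ycv (y1 y2 y3 yb : ℤ) : ℤ := yb + 2 * ysv y1 y2 y3

/-- `-55` times the value of the character of degree `55` -/
def t0v (x1 x2 x3 xb : ℤ) : ℤ :=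
  1 + 10 * (x1 + x2 + x3) + 11 * xb + 32 * xsv x1 x2 x3 + 44 * xcv x1 x2 x3 xb

def t1v (y1 y2 y3 yb : ℤ) : ℤ :=
  10 * (y1 + y2 + y3) + 11 * yb + 32 * ysv y1 y2 y3 + 44 * ycv y1 y2 y3 yb

/-- the order of the centralizer -/
def Cv (x1 y1 x2 y2 x3 y3 xb yb : ℤ) : ℤ :=
  1 + nrm x1 y1 + nrm x2 y2 + nrm x3 y3 + nrm xb yb + 2 * nrm (xsv x1 x2 x3) (ysv y1 y2 y3)
    + nrm (xcv x1 x2 x3 xb) (ycv y1 y2 y3 yb)
    + nrm (-(t0v x1 x2 x3 xb / 55)) (-(t1v y1 y2 y3 yb / 55))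

/-- the sum of the squares of the values -/
def S0v (x1 y1 x2 y2 x3 y3 xb yb : ℤ) : ℤ :=
  1 + sq0 x1 y1 + sq0 x2 y2 + sq0 x3 y3 + sq0 xb yb + 2 * sq0 (xsv x1 x2 x3) (ysv y1 y2 y3)
    + sq0 (xcv x1 x2 x3 xb) (ycv y1 y2 y3 yb)
    + sq0 (-(t0v x1 x2 x3 xb / 55)) (-(t1v y1 y2 y3 yb / 55))

def S1v (x1 y1 x2 y2 x3 y3 xb yb : ℤ) : ℤ :=
  sq1 x1 y1 + sq1 x2 y2 + sq1 x3 y3 + sq1 xb yb + 2 * sq1 (xsv x1 x2 x3) (ysv y1 y2 y3)
    + sq1 (xcv x1 x2 x3 xb) (ycv y1 y2 y3 yb)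
    + sq1 (-(t0v x1 x2 x3 xb / 55)) (-(t1v y1 y2 y3 yb / 55))

/-- all multiplicities of the eigenvalues of an operator of order `3` in dimension `d` -/
def cube (d : ℕ) (P : ℤ → ℤ → Bool) : Bool :=
  (List.range (d + 1)).all fun a => (List.range (d + 1 - a)).all fun b =>
    P ((a : ℤ) - ((d - a - b : ℕ) : ℤ)) ((b : ℤ) - ((d - a - b : ℕ) : ℤ))

theorem cube_sound {d : ℕ} {P : ℤ → ℤ → Bool} (h : cube d P = true) (a b c : ℕ)
    (habc : a + b + c = d) : P ((a : ℤ) - (c : ℤ)) ((b : ℤ) - (c : ℤ)) = true := by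
  unfold cube at h
  rw [List.all_eq_true] at h
  have h1 := h a (List.mem_range.2 (by omega))
  rw [List.all_eq_true] at h1
  have h2 := h1 b (List.mem_range.2 (by omega))
  have hc : d - a - b = c := by omega
  rw [hc] at h2
  exact h2

/-- the final test -/
def fin3 (x1 y1 x2 y2 x3 y3 xb yb : ℤ) : Bool :=
  !(decide (t0v x1 x2 x3 xb % 55 = 0) && decide (t1v y1 y2 y3 yb % 55 = 0) &&
    decide (S1v x1 y1 x2 y2 x3 y3 xb yb = 0) &&
    (decide (S0v x1 y1 x2 y2 x3 y3 xb yb = 0) ||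
      decide (S0v x1 y1 x2 y2 x3 y3 xb yb = Cv x1 y1 x2 y2 x3 y3 xb yb))) ||
  (decide (Cv x1 y1 x2 y2 x3 y3 xb yb ≠ 36) && decide (Cv x1 y1 x2 y2 x3 y3 xb yb ≠ 72) &&
    decide (Cv x1 y1 x2 y2 x3 y3 xb yb ≠ 144))

/-- the search -/
def chk3 : Bool :=
  cube 10 fun x1 y1 => decide (80 < 8 * nrm x1 y1) ||
  cube 10 fun x2 y2 => decide (80 < 8 * (nrm x1 y1 + nrm x2 y2)) ||
  cube 10 fun x3 y3 =>
    decide (80 < 8 * (nrm x1 y1 + nrm x2 y2 + nrm x3 y3) +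
      5 * nrm (xsv x1 x2 x3) (ysv y1 y2 y3)) ||
  cube 11 fun xb yb => fin3 x1 y1 x2 y2 x3 y3 xb yb

theorem chk3_true : chk3 = true := by
  decide

/-- **The arithmetic of the column of an element of order `3`.** -/
theorem order3_arith (a1 b1 c1 a2 b2 c2 a3 b3 c3 ab bb cb : ℕ) (h1 : a1 + b1 + c1 = 10)
    (h2 : a2 + b2 + c2 = 10) (h3 : a3 + b3 + c3 = 10) (hb : ab + bb + cb = 11)
    (x1 y1 x2 y2 x3 y3 xb yb : ℤ) (hx1 : x1 = (a1 : ℤ) - (c1 : ℤ)) (hy1 : y1 = (b1 : ℤ) - (c1 : ℤ))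
    (hx2 : x2 = (a2 : ℤ) - (c2 : ℤ)) (hy2 : y2 = (b2 : ℤ) - (c2 : ℤ))
    (hx3 : x3 = (a3 : ℤ) - (c3 : ℤ)) (hy3 : y3 = (b3 : ℤ) - (c3 : ℤ))
    (hxb : xb = (ab : ℤ) - (cb : ℤ)) (hyb : yb = (bb : ℤ) - (cb : ℤ))
    (hpos : 8 * (nrm x1 y1 + nrm x2 y2 + nrm x3 y3) + 5 * nrm (xsv x1 x2 x3) (ysv y1 y2 y3) ≤ 80)
    (ht0 : t0v x1 x2 x3 xb % 55 = 0) (ht1 : t1v y1 y2 y3 yb % 55 = 0)
    (hS1 : S1v x1 y1 x2 y2 x3 y3 xb yb = 0)
    (hS0 : S0v x1 y1 x2 y2 x3 y3 xb yb = 0 ∨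
      S0v x1 y1 x2 y2 x3 y3 xb yb = Cv x1 y1 x2 y2 x3 y3 xb yb) :
    Cv x1 y1 x2 y2 x3 y3 xb yb ≠ 36 ∧ Cv x1 y1 x2 y2 x3 y3 xb yb ≠ 72 ∧
      Cv x1 y1 x2 y2 x3 y3 xb yb ≠ 144 := by
  have n1 := nrm_nonneg x1 y1
  have n2 := nrm_nonneg x2 y2
  have n3 := nrm_nonneg x3 y3
  have ns := nrm_nonneg (xsv x1 x2 x3) (ysv y1 y2 y3)
  have e1 := cube_sound chk3_true a1 b1 c1 h1
  rw [← hx1, ← hy1, Bool.or_eq_true, decide_eq_true_eq] at e1
  rcases e1 with e1 | e1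
  · omega
  have e2 := cube_sound e1 a2 b2 c2 h2
  rw [← hx2, ← hy2, Bool.or_eq_true, decide_eq_true_eq] at e2
  rcases e2 with e2 | e2
  · omega
  have e3 := cube_sound e2 a3 b3 c3 h3
  rw [← hx3, ← hy3, Bool.or_eq_true, decide_eq_true_eq] at e3
  rcases e3 with e3 | e3
  · omega
  have e4 := cube_sound e3 ab bb cb hb
  rw [← hxb, ← hyb] at e4
  unfold fin3 at e4
  simp only [Bool.or_eq_true, Bool.not_eq_true', Bool.and_eq_true, decide_eq_true_eq,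
    Bool.and_eq_false_iff, Bool.or_eq_false_iff, decide_eq_false_iff_not] at e4
  rcases e4 with e4 | e4
  · exfalso
    rcases e4 with ((e4 | e4) | e4) | e4
    · exact e4 ht0
    · exact e4 ht1
    · exact e4 hS1
    · rcases hS0 with h | h
      · exact e4.1 h
      · exact e4.2 h
  · exact ⟨e4.1.1, e4.1.2, e4.2⟩

end Cfsg.Agent.Lib.Helper6.OrdR
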