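import Mathlib
import Cfsg.Agent.Lib.Helper6.OrdR2
import Cfsg.Agent.Lib.Helper6.OrdR4
import Cfsg.Agent.Lib.Helper6.OrdR5
import Cfsg.Agent.Lib.Helper4.Characters

/-!
# Simple groups of order `7920`: the centralizer of an element of order `3`
-/

set_option autoImplicit false
set_option maxHeartbeats 1600000
set_option maxRecDepth 1000000

namespace Cfsg.Agent.Lib.Helper6.OrdR

open Cfsg Cfsg.Agent.Lib.Helper8 Cfsg.Agent.Lib.Helper6.OrdB Cfsg.Agent.Lib.Helper6.OrdD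
  Cfsg.Agent.Lib.Helper6.OrdK Cfsg.Agent.Lib.Helper6.OrdH Cfsg.Agent.Lib.Helper6.OrdL
  Cfsg.Agent.Lib.Helper6.OrdG Cfsg.Agent.Lib.Helper6.OrdQ Cfsg.Agent.Lib.Helper1
open scoped ComplexConjugate

universe u

theorem nrm_eq (x y : ℤ) :
    ((x : ℂ) + (y : ℂ) * ω) * conj ((x : ℂ) + (y : ℂ) * ω) = ((nrm x y : ℤ) : ℂ) := by
  simp only [map_add, map_mul, map_intCast, conj_ω]
  unfold nrm
  push_cast
  linear_combination (-(y : ℂ) ^ 2) * ω_sq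

theorem sq_eq (x y : ℤ) :
    ((x : ℂ) + (y : ℂ) * ω) * ((x : ℂ) + (y : ℂ) * ω) =
      ((sq0 x y : ℤ) : ℂ) + ((sq1 x y : ℤ) : ℂ) * ω := by
  unfold sq0 sq1
  push_cast
  linear_combination ((y : ℂ) ^ 2) * ω_sq

theorem centralizer_inv {G : Type*} [Group G] (u : G) :
    Subgroup.centralizer ({u⁻¹} : Set G) = Subgroup.centralizer ({u} : Set G) := by
  ext g
  rw [Subgroup.mem_centralizer_singleton_iff, Subgroup.mem_centralizer_singleton_iff]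
  constructor
  · intro h
    calc g * u = u * (u⁻¹ * g) * u := by group
      _ = u * (g * u⁻¹) * u := by rw [h]
      _ = u * g := by group
  · intro h
    calc g * u⁻¹ = u⁻¹ * (u * g) * u⁻¹ := by group
      _ = u⁻¹ * (g * u) * u⁻¹ := by rw [h]
      _ = u⁻¹ * g := by group

variable {G : Type u} [Group G] [Fintype G] [Fintype (IrrCharacter G)]

/-- **The centralizer of an element of order `3`** does not have order `36`, `72` or `144`. -/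
theorem order3_centralizer (hn : Nat.card G = 7920) (T : Tab G) {u : G} (hu : orderOf u = 3) :
    Nat.card (Subgroup.centralizer ({u} : Set G)) ≠ 36 ∧
      Nat.card (Subgroup.centralizer ({u} : Set G)) ≠ 72 ∧
      Nat.card (Subgroup.centralizer ({u} : Set G)) ≠ 144 := by
  classical
  have hu3 : u * u * u = 1 := by
    have := pow_orderOf_eq_one u
    rw [hu, pow_three'] at this
    exact this
  have hu1 : u ≠ 1 := by
    intro h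
    rw [h, orderOf_one] at hu
    norm_num at hu
  have hr11 : ¬ 11 ∣ orderOf u := by rw [hu]; norm_num
  have hr11' : ¬ 11 ∣ orderOf u⁻¹ := by rw [orderOf_inv, hu]; norm_num
  have hr5 : ¬ 5 ∣ orderOf u := by rw [hu]; norm_num
  have hinv : ∀ χ : IrrCharacter G, χ.1 u⁻¹ = conj (χ.1 u) := fun χ =>
    Cfsg.Agent.Lib.Helper4.isCharacter_inv (Cfsg.Agent.Lib.Helper4.isCharacter_of_irr χ.2) u
  -- the coordinates of the values
  obtain ⟨a1, b1, c1, h1, hv1⟩ := order3_apply T.a1 hu3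
  obtain ⟨a2, b2, c2, h2, hv2⟩ := order3_apply T.a2 hu3
  obtain ⟨a3, b3, c3, h3, hv3⟩ := order3_apply T.a3 hu3
  obtain ⟨ab, bb, cb, hb, hvb⟩ := order3_apply T.b hu3
  obtain ⟨af, bf, cf, -, hvf⟩ := order3_apply T.f hu3
  rw [T.da1] at h1
  rw [T.da2] at h2
  rw [T.da3] at h3
  rw [T.db] at hb
  obtain ⟨x1, hx1⟩ : ∃ x : ℤ, x = (a1 : ℤ) - (c1 : ℤ) := ⟨_, rfl⟩
  obtain ⟨y1, hy1⟩ : ∃ x : ℤ, x = (b1 : ℤ) - (c1 : ℤ) := ⟨_, rfl⟩
  obtain ⟨x2, hx2⟩ : ∃ x : ℤ, x = (a2 : ℤ) - (c2 : ℤ) := ⟨_, rfl⟩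
  obtain ⟨y2, hy2⟩ : ∃ x : ℤ, x = (b2 : ℤ) - (c2 : ℤ) := ⟨_, rfl⟩
  obtain ⟨x3, hx3⟩ : ∃ x : ℤ, x = (a3 : ℤ) - (c3 : ℤ) := ⟨_, rfl⟩
  obtain ⟨y3, hy3⟩ : ∃ x : ℤ, x = (b3 : ℤ) - (c3 : ℤ) := ⟨_, rfl⟩
  obtain ⟨xb, hxb⟩ : ∃ x : ℤ, x = (ab : ℤ) - (cb : ℤ) := ⟨_, rfl⟩
  obtain ⟨yb, hyb⟩ : ∃ x : ℤ, x = (bb : ℤ) - (cb : ℤ) := ⟨_, rfl⟩
  obtain ⟨xf, hxf⟩ : ∃ x : ℤ, x = (af : ℤ) - (cf : ℤ) := ⟨_, rfl⟩
  obtain ⟨yf, hyf⟩ : ∃ x : ℤ, x = (bf : ℤ) - (cf : ℤ) := ⟨_, rfl⟩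
  rw [← hx1, ← hy1] at hv1
  rw [← hx2, ← hy2] at hv2
  rw [← hx3, ← hy3] at hv3
  rw [← hxb, ← hyb] at hvb
  rw [← hxf, ← hyf] at hvf
  have hvd : T.d.1 u = 0 :=
    defect_zero_vanish' T.d 3 2 (by norm_num) (by rw [hn]; norm_num) (by rw [hn]; norm_num)
      (by rw [T.dd]; norm_num) u (by rw [hu])
  have hvs : T.s1.1 u = ((xsv x1 x2 x3 : ℤ) : ℂ) + ((ysv y1 y2 y3 : ℤ) : ℂ) * ω := by
    have h := T.rel11 u hr11
    rw [hvd, hv1, hv2, hv3] at h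
    unfold xsv ysv
    push_cast
    linear_combination (-1 : ℂ) * h
  have hvs2 : T.s2.1 u = ((xsv x1 x2 x3 : ℤ) : ℂ) + ((ysv y1 y2 y3 : ℤ) : ℂ) * ω := by
    rw [← T.agree u hr11]; exact hvs
  have hvc : T.c.1 u = ((xcv x1 x2 x3 xb : ℤ) : ℂ) + ((ycv y1 y2 y3 yb : ℤ) : ℂ) * ω := by
    have h := T.rel5 u hr5
    rw [hvs2, hvs, hvb] at h
    unfold xcv ycv
    push_cast
    linear_combination (-1 : ℂ) * h
  -- orthogonality with the column of the identity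
  have hcol1 := column_orthogonality (1 : G) u
  have hnc : ¬ IsConj (1 : G) u := by
    intro h
    exact hu1 (isConj_one_right.1 h)
  rw [classIndicator, if_neg hnc, mul_zero, T.hsum] at hcol1
  simp only [apply_one, T.da1, T.da2, T.da3, T.db, T.ds1, T.ds2, T.dc, T.dd, T.df,
    trivIrr_apply, Complex.conj_natCast, map_one] at hcol1
  rw [hv1, hv2, hv3, hvb, hvs, hvs2, hvc, hvd, hvf] at hcol1
  have hcolz : ((t0v x1 x2 x3 xb + 55 * xf : ℤ) : ℂ) + ((t1v y1 y2 y3 yb + 55 * yf : ℤ) : ℂ) * ω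
      = 0 := by
    unfold t0v t1v
    push_cast at hcol1 ⊢
    linear_combination hcol1
  obtain ⟨ht0, ht1⟩ := ω_indep hcolz
  -- the norm of the column
  obtain ⟨C, hCdef⟩ : ∃ C, C = Nat.card (Subgroup.centralizer ({u} : Set G)) := ⟨_, rfl⟩
  rw [← hCdef]
  have hcol2 := column_orthogonality u u
  rw [classIndicator, if_pos (IsConj.refl u), mul_one, T.hsum, ← hCdef] at hcol2
  rw [hv1, hv2, hv3, hvb, hvs, hvs2, hvc, hvd, hvf, trivIrr_apply] at hcol2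
  simp only [nrm_eq, map_one, mul_one, map_zero, mul_zero] at hcol2
  have hC : (C : ℤ) = 1 + nrm x1 y1 + nrm x2 y2 + nrm x3 y3 + nrm xb yb
      + 2 * nrm (xsv x1 x2 x3) (ysv y1 y2 y3) + nrm (xcv x1 x2 x3 xb) (ycv y1 y2 y3 yb)
      + nrm xf yf := by
    have : ((C : ℤ) : ℂ) = ((1 + nrm x1 y1 + nrm x2 y2 + nrm x3 y3 + nrm xb yb
      + 2 * nrm (xsv x1 x2 x3) (ysv y1 y2 y3) + nrm (xcv x1 x2 x3 xb) (ycv y1 y2 y3 yb)
      + nrm xf yf : ℤ) : ℂ) := by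
      push_cast
      linear_combination (-1 : ℂ) * hcol2
    exact_mod_cast this
  -- the squares
  have hcol3 := column_orthogonality u⁻¹ u
  rw [centralizer_inv, ← hCdef, T.hsum] at hcol3
  simp only [hinv, Complex.conj_conj] at hcol3
  rw [hv1, hv2, hv3, hvb, hvs, hvs2, hvc, hvd, hvf, trivIrr_apply] at hcol3
  simp only [sq_eq, mul_one, mul_zero] at hcol3
  obtain ⟨ι, hι, hιdef⟩ : ∃ ι : ℤ, (ι = 0 ∨ ι = 1) ∧ classIndicator u⁻¹ u = (ι : ℂ) := by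
    unfold classIndicator
    split_ifs
    · exact ⟨1, Or.inr rfl, by simp⟩
    · exact ⟨0, Or.inl rfl, by simp⟩
  rw [hιdef] at hcol3
  have hsqz : ((1 + sq0 x1 y1 + sq0 x2 y2 + sq0 x3 y3 + sq0 xb yb
        + 2 * sq0 (xsv x1 x2 x3) (ysv y1 y2 y3) + sq0 (xcv x1 x2 x3 xb) (ycv y1 y2 y3 yb)
        + sq0 xf yf - (C : ℤ) * ι : ℤ) : ℂ) +
      ((sq1 x1 y1 + sq1 x2 y2 + sq1 x3 y3 + sq1 xb yb
        + 2 * sq1 (xsv x1 x2 x3) (ysv y1 y2 y3) + sq1 (xcv x1 x2 x3 xb) (ycv y1 y2 y3 yb)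
        + sq1 xf yf : ℤ) : ℂ) * ω = 0 := by
    push_cast
    linear_combination hcol3
  obtain ⟨hS0, hS1⟩ := ω_indep hsqz
  -- the class multiplication coefficient
  have hcm := T.cm11 u u⁻¹ hr11 hr11'
  simp only [hinv] at hcm
  rw [hv1, hv2, hv3, hvs, hvd] at hcm
  simp only [nrm_eq, map_zero, mul_zero, zero_div, add_zero] at hcm
  obtain ⟨n, hndef⟩ : ∃ n, n = Nat.card {q : G × G // IsConj u q.1 ∧ IsConj u⁻¹ q.2 ∧
      q.1 * q.2 = T.x} := ⟨_, rfl⟩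
  obtain ⟨k, hkdef⟩ : ∃ k, k = Nat.card {v : G // IsConj u v} := ⟨_, rfl⟩
  obtain ⟨k', hk'def⟩ : ∃ k, k = Nat.card {v : G // IsConj u⁻¹ v} := ⟨_, rfl⟩
  rw [← hndef, ← hkdef, ← hk'def] at hcm
  have hk0 : 0 < k := by
    rw [hkdef]
    have : Nonempty {v : G // IsConj u v} := ⟨⟨u, IsConj.refl u⟩⟩
    exact Nat.card_pos
  have hk'0 : 0 < k' := by
    rw [hk'def]
    have : Nonempty {v : G // IsConj u⁻¹ v} := ⟨⟨u⁻¹, IsConj.refl _⟩⟩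
    exact Nat.card_pos
  have hq : (n : ℚ) * 7920 = (k : ℚ) * (k' : ℚ) *
      (1 - (nrm x1 y1 : ℚ) / 10 - (nrm x2 y2 : ℚ) / 10 - (nrm x3 y3 : ℚ) / 10
        - (nrm (xsv x1 x2 x3) (ysv y1 y2 y3) : ℚ) / 16) := by
    exact_mod_cast hcm
  have hpos : 8 * (nrm x1 y1 + nrm x2 y2 + nrm x3 y3) + 5 * nrm (xsv x1 x2 x3) (ysv y1 y2 y3)
      ≤ 80 := by
    have hkk : 0 < (k : ℚ) * (k' : ℚ) := by positivity
    have hn0 : 0 ≤ (n : ℚ) * 7920 := by positivity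
    rw [hq] at hn0
    have hE := nonneg_of_mul_nonneg_right hn0 hkk
    have : ((8 * (nrm x1 y1 + nrm x2 y2 + nrm x3 y3)
        + 5 * nrm (xsv x1 x2 x3) (ysv y1 y2 y3) : ℤ) : ℚ) ≤ 80 := by
      push_cast
      linarith
    exact_mod_cast this
  -- the arithmetic
  have hxf' : xf = -(t0v x1 x2 x3 xb / 55) := by omega
  have hyf' : yf = -(t1v y1 y2 y3 yb / 55) := by omega
  have hCv : Cv x1 y1 x2 y2 x3 y3 xb yb = (C : ℤ) := by
    unfold Cv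
    rw [← hxf', ← hyf', hC]
  have hS0v : S0v x1 y1 x2 y2 x3 y3 xb yb = (C : ℤ) * ι := by
    unfold S0v
    rw [← hxf', ← hyf']
    linarith
  have hS1v : S1v x1 y1 x2 y2 x3 y3 xb yb = 0 := by
    unfold S1v
    rw [← hxf', ← hyf']
    exact hS1
  have hfin := order3_arith a1 b1 c1 a2 b2 c2 a3 b3 c3 ab bb cb h1 h2 h3 hb x1 y1 x2 y2 x3 y3
    xb yb hx1 hy1 hx2 hy2 hx3 hy3 hxb hyb hpos (by omega) (by omega) hS1v (by
      rw [hS0v, hCv]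
      rcases hι with h | h
      · left; rw [h, mul_zero]
      · right; rw [h, mul_one])
  rw [hCv] at hfin
  refine ⟨?_, ?_, ?_⟩
  · intro h; exact hfin.1 (by rw [h]; rfl)
  · intro h; exact hfin.2.1 (by rw [h]; rfl)
  · intro h; exact hfin.2.2 (by rw [h]; rfl)

end Cfsg.Agent.Lib.Helper6.OrdR
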