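import Mathlib
import Cfsg.Agent.Lib.Helper6.OrdR6
import Cfsg.Agent.Lib.Helper6.OrdL5
import Cfsg.Agent.Lib.Helper3.SylowCount

/-!
# Simple groups of order `7920`: the normalizer of a Sylow `3`-subgroup has order `144`
-/

set_option autoImplicit false
set_option maxHeartbeats 1600000
set_option maxRecDepth 1000000

namespace Cfsg.Agent.Lib.Helper6.OrdR

open Cfsg Cfsg.Agent.Lib.Helper8 Cfsg.Agent.Lib.Helper6.OrdB Cfsg.Agent.Lib.Helper6.OrdD
  Cfsg.Agent.Lib.Helper6.OrdK Cfsg.Agent.Lib.Helper6.OrdH Cfsg.Agent.Lib.Helper6.OrdL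
  Cfsg.Agent.Lib.Helper6.OrdG Cfsg.Agent.Lib.Helper6.OrdQ Cfsg.Agent.Lib.Helper1
open scoped ComplexConjugate

universe u

section general

variable {G : Type u} [Group G]

/-- an element `a` with `a ^ p = 1` that normalizes a subgroup with fewer than `p` elements
centralizes it -/
theorem commute_of_normalizes_small' (p : ℕ) (hp : p.Prime) (a : G) (ha : a ^ p = 1)
    (Q : Subgroup G) [Finite Q] (hQ : Nat.card Q < p) (hn : ∀ x ∈ Q, a * x * a⁻¹ ∈ Q) (x : G)
    (hx : x ∈ Q) : Commute a x := by
  classical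
  have hpow : ∀ i : ℕ, a ^ i * x * (a ^ i)⁻¹ ∈ Q := by
    intro i
    induction i with
    | zero => simpa using hx
    | succ i ih =>
      have h1 := hn _ ih
      have h2 : a * (a ^ i * x * (a ^ i)⁻¹) * a⁻¹ = a ^ (i + 1) * x * (a ^ (i + 1))⁻¹ := by
        rw [pow_succ', mul_inv_rev]
        group
      rw [h2] at h1
      exact h1
  have : Fintype Q := Fintype.ofFinite Q
  let f : Fin p → Q := fun i => ⟨a ^ (i : ℕ) * x * (a ^ (i : ℕ))⁻¹, hpow i⟩
  have hcard : Fintype.card Q < Fintype.card (Fin p) := by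
    rw [Fintype.card_fin, ← Nat.card_eq_fintype_card]
    exact hQ
  obtain ⟨i, j, hij, hf⟩ := Fintype.exists_ne_map_eq_of_card_lt f hcard
  have key : ∀ i j : ℕ, i < j → j < p → a ^ i * x * (a ^ i)⁻¹ = a ^ j * x * (a ^ j)⁻¹ →
      Commute a x := by
    intro i j hij hj h
    have hd : a ^ (j - i) * x = x * a ^ (j - i) := by
      have hj' : a ^ j = a ^ i * a ^ (j - i) := by
        rw [← pow_add]
        congr 1
        omega
      rw [hj', mul_inv_rev] at h
      have h3 : x = a ^ (j - i) * x * (a ^ (j - i))⁻¹ := by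
        have h4 : (a ^ i)⁻¹ * (a ^ i * x * (a ^ i)⁻¹) * a ^ i =
            (a ^ i)⁻¹ * (a ^ i * a ^ (j - i) * x * ((a ^ (j - i))⁻¹ * (a ^ i)⁻¹)) * a ^ i := by
          rw [h]
        have h5 : (a ^ i)⁻¹ * (a ^ i * x * (a ^ i)⁻¹) * a ^ i = x := by group
        have h6 : (a ^ i)⁻¹ * (a ^ i * a ^ (j - i) * x * ((a ^ (j - i))⁻¹ * (a ^ i)⁻¹)) * a ^ i =
            a ^ (j - i) * x * (a ^ (j - i))⁻¹ := by group
        rw [h5, h6] at h4
        exact h4
      calc a ^ (j - i) * x = a ^ (j - i) * x * (a ^ (j - i))⁻¹ * a ^ (j - i) := by group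
        _ = x * a ^ (j - i) := by rw [← h3]
    have hcop : Nat.Coprime (j - i) p := by
      refine (Nat.Coprime.symm ?_)
      rw [Nat.Prime.coprime_iff_not_dvd hp]
      intro hdvd
      have := Nat.le_of_dvd (by omega) hdvd
      omega
    obtain ⟨u, -, hu⟩ := Nat.exists_mul_mod_eq_one_of_coprime hcop hp.one_lt
    have hau : a ^ ((j - i) * u) = a := by
      have h1 : (j - i) * u = p * ((j - i) * u / p) + 1 := by
        have := Nat.div_add_mod ((j - i) * u) p
        omega
      rw [h1, pow_add, pow_mul, ha, one_pow, one_mul, pow_one]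
    have hc : Commute (a ^ (j - i)) x := hd
    have := hc.pow_left u
    rw [← pow_mul, hau] at this
    exact this
  have hf' : a ^ (i : ℕ) * x * (a ^ (i : ℕ))⁻¹ = a ^ (j : ℕ) * x * (a ^ (j : ℕ))⁻¹ :=
    congrArg Subtype.val hf
  have hne : (i : ℕ) ≠ (j : ℕ) := fun h => hij (Fin.ext h)
  rcases Nat.lt_or_gt_of_ne hne with h | h
  · exact key i j h j.2 hf'
  · exact key j i h i.2 hf'.symm

theorem divisors_144 : ∀ C ∈ Nat.divisors 144, 9 ∣ C → C ≠ 36 → C ≠ 72 → C ≠ 144 →
    C = 9 ∨ C = 18 := by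
  decide

theorem divisors_880 : ∀ n ∈ Nat.divisors 880, n % 9 = 1 → n = 1 ∨ n = 10 ∨ n = 55 := by
  decide

end general

variable {G : Type u} [Group G] [Fintype G] [IsSimpleGroup G] [Fintype (IrrCharacter G)]

/-- the configuration of the Sylow `5`-subgroups -/
theorem exists_ti5 (hG : ¬ IsMulCommutative G) (hn : Nat.card G = 7920) :
    Nonempty (TI G 5 4) := by
  have hp5 : Fact (Nat.Prime 5) := ⟨by norm_num⟩
  obtain ⟨P⟩ : Nonempty (Sylow 5 G) := inferInstance
  have hS : ∀ Q : Sylow 5 G, Nat.card Q = 5 ∧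
      Subgroup.centralizer ((Q : Subgroup G) : Set G) = (Q : Subgroup G) := by
    intro Q
    obtain ⟨hQ, -, -, hC, -⟩ := five_core hG hn Q
    refine ⟨hQ, ?_⟩
    obtain ⟨x', -, hQx, -⟩ := d1_sylow_data 5 Q hQ
    have hQle : (Q : Subgroup G) ≤ Subgroup.centralizer ((Q : Subgroup G) : Set G) := by
      intro a ha
      rw [Subgroup.mem_centralizer_iff]
      intro b hb
      rw [SetLike.mem_coe] at hb
      rw [hQx] at ha hb
      obtain ⟨i, rfl⟩ := Subgroup.mem_zpowers_iff.1 ha
      obtain ⟨j, rfl⟩ := Subgroup.mem_zpowers_iff.1 hb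
      exact ((Commute.refl x').zpow_zpow j i)
    exact (Subgroup.eq_of_le_of_card_ge hQle (by rw [hC, hQ])).symm
  obtain ⟨-, hN, -, -, c, θ0, hcP, -⟩ := five_core hG hn P
  exact ⟨toTI c hS (by rw [hcP]; exact hN)⟩

/-- the centralizer of a non-trivial `{2, 3}`-element is a `{2, 3}`-group -/
theorem card_centralizer_dvd_144 (hG : ¬ IsMulCommutative G) (hn : Nat.card G = 7920) {t : G}
    (ht1 : t ≠ 1) (h5 : ¬ 5 ∣ orderOf t) (h11 : ¬ 11 ∣ orderOf t) :
    Nat.card (Subgroup.centralizer ({t} : Set G)) ∣ 144 := by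
  have hp5 : Fact (Nat.Prime 5) := ⟨by norm_num⟩
  have hp11 : Fact (Nat.Prime 11) := ⟨by norm_num⟩
  obtain ⟨c5⟩ := exists_ti5 hG hn
  obtain ⟨c11, -⟩ := eleven_core hG hn
  have hn5 := c5.not_dvd_card_centralizer h5 ht1
  have hn11 := c11.not_dvd_card_centralizer h11 ht1
  have hdvd : Nat.card (Subgroup.centralizer ({t} : Set G)) ∣ 144 * 55 := by
    have := Subgroup.card_subgroup_dvd_card (Subgroup.centralizer ({t} : Set G))
    rw [hn] at this
    exact this
  have hcop : (Nat.card (Subgroup.centralizer ({t} : Set G))).Coprime 55 := by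
    have h55 : (55 : ℕ) = 5 * 11 := by norm_num
    rw [h55]
    exact Nat.Coprime.mul_right
      ((Nat.Prime.coprime_iff_not_dvd (by norm_num)).2 hn5).symm
      ((Nat.Prime.coprime_iff_not_dvd (by norm_num)).2 hn11).symm
  exact hcop.dvd_of_dvd_mul_right hdvd

omit [IsSimpleGroup G] [Fintype (IrrCharacter G)] in
/-- a Sylow `3`-subgroup has order `9` and is commutative -/
theorem sylow3_card (hn : Nat.card G = 7920) (P : Sylow 3 G) : Nat.card P = 9 := by
  have hp3 : Fact (Nat.Prime 3) := ⟨by norm_num⟩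
  have := Cfsg.Agent.Lib.Helper3.sylow_card_eq_of_card_eq P 2 880 (by rw [hn]; norm_num) (by norm_num)
  rw [this]
  norm_num

omit [IsSimpleGroup G] [Fintype (IrrCharacter G)] in
theorem sylow3_comm (hn : Nat.card G = 7920) (P : Sylow 3 G) {a b : G}
    (ha : a ∈ (P : Subgroup G)) (hb : b ∈ (P : Subgroup G)) : a * b = b * a := by
  have hp3 : Fact (Nat.Prime 3) := ⟨by norm_num⟩
  have hc : Nat.card (P : Subgroup G) = 3 ^ 2 := by
    have := Cfsg.Agent.Lib.Helper3.sylow_card_eq_of_card_eq P 2 880 (by rw [hn]; norm_num) (by norm_num)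
    exact this
  have := IsPGroup.commutative_of_card_eq_prime_sq hc ⟨a, ha⟩ ⟨b, hb⟩
  exact congrArg Subtype.val this

/-- **The centralizer of an element of order `3`** has order `9` or `18`. -/
theorem card_centralizer_order3 (hG : ¬ IsMulCommutative G) (hn : Nat.card G = 7920) {u : G}
    (hu : orderOf u = 3) :
    Nat.card (Subgroup.centralizer ({u} : Set G)) = 9 ∨
      Nat.card (Subgroup.centralizer ({u} : Set G)) = 18 := by
  have hp3 : Fact (Nat.Prime 3) := ⟨by norm_num⟩
  obtain ⟨T⟩ := exists_tab hG hn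
  obtain ⟨h36, h72, h144⟩ := order3_centralizer hn T hu
  have hu1 : u ≠ 1 := by
    intro h
    rw [h, orderOf_one] at hu
    norm_num at hu
  have hdvd := card_centralizer_dvd_144 hG hn hu1 (by rw [hu]; norm_num) (by rw [hu]; norm_num)
  have hpg : IsPGroup 3 (Subgroup.zpowers u) :=
    IsPGroup.of_card (n := 1) (by rw [Nat.card_zpowers, hu, pow_one])
  obtain ⟨P, hP⟩ := hpg.exists_le_sylow
  have huP : u ∈ (P : Subgroup G) := hP (Subgroup.mem_zpowers u)
  have hle : (P : Subgroup G) ≤ Subgroup.centralizer ({u} : Set G) := by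
    intro g hg
    rw [Subgroup.mem_centralizer_singleton_iff]
    exact sylow3_comm hn P hg huP
  have h9 : 9 ∣ Nat.card (Subgroup.centralizer ({u} : Set G)) := by
    have := Subgroup.card_dvd_of_le hle
    rw [sylow3_card hn P] at this
    exact this
  exact divisors_144 _ (Nat.mem_divisors.2 ⟨hdvd, by norm_num⟩) h9 h36 h72 h144

/-- **The Sylow `3`-subgroups intersect trivially.** -/
theorem sylow3_ti (hG : ¬ IsMulCommutative G) (hn : Nat.card G = 7920) (P R : Sylow 3 G)
    (hne : R ≠ P) : ¬ Meets P R := by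
  have hp3 : Fact (Nat.Prime 3) := ⟨by norm_num⟩
  rintro ⟨z, hzP, hzR, hz1⟩
  -- an element of order `3` in the intersection
  obtain ⟨u, huP, huR, hu⟩ : ∃ u : G, u ∈ (P : Subgroup G) ∧ u ∈ (R : Subgroup G) ∧
      orderOf u = 3 := by
    have hdvd : orderOf z ∣ 9 := by
      have := (P : Subgroup G).orderOf_dvd_natCard hzP
      rw [sylow3_card hn P] at this
      exact this
    have hz1' : orderOf z ≠ 1 := fun h => hz1 (orderOf_eq_one_iff.1 h)
    have hle : orderOf z ≤ 9 := Nat.le_of_dvd (by norm_num) hdvd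
    have hpos : 0 < orderOf z := Nat.pos_of_dvd_of_pos hdvd (by norm_num)
    have hcases : orderOf z = 3 ∨ orderOf z = 9 := by
      interval_cases h : orderOf z <;> omega
    rcases hcases with h | h
    · exact ⟨z, hzP, hzR, h⟩
    · refine ⟨z ^ 3, pow_mem hzP 3, pow_mem hzR 3, ?_⟩
      rw [orderOf_pow' z (by norm_num), h]
      norm_num
  have hPle : (P : Subgroup G) ≤ Subgroup.centralizer ({u} : Set G) := by
    intro g hg
    rw [Subgroup.mem_centralizer_singleton_iff]
    exact sylow3_comm hn P hg huP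
  have hRle : (R : Subgroup G) ≤ Subgroup.centralizer ({u} : Set G) := by
    intro g hg
    rw [Subgroup.mem_centralizer_singleton_iff]
    exact sylow3_comm hn R hg huR
  have h1 := one_lt_card_sylow_of_two P R hne _ hPle hRle
  -- but the centralizer has only one Sylow `3`-subgroup
  obtain ⟨Q⟩ : Nonempty (Sylow 3 (Subgroup.centralizer ({u} : Set G))) := inferInstance
  have hidx : (Q : Subgroup (Subgroup.centralizer ({u} : Set G))).index = 1 ∨
      (Q : Subgroup (Subgroup.centralizer ({u} : Set G))).index = 2 := by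
    have hmul := Subgroup.card_mul_index (Q : Subgroup (Subgroup.centralizer ({u} : Set G)))
    rcases card_centralizer_order3 hG hn hu with hc | hc
    · have hQ := Cfsg.Agent.Lib.Helper3.sylow_card_eq_of_card_eq Q 2 1 (by rw [hc]; norm_num) (by norm_num)
      rw [hQ, hc] at hmul
      left
      omega
    · have hQ := Cfsg.Agent.Lib.Helper3.sylow_card_eq_of_card_eq Q 2 2 (by rw [hc]; norm_num) (by norm_num)
      rw [hQ, hc] at hmul
      right
      omega
  have h2 := Sylow.card_dvd_index Q
  have h3 := card_sylow_modEq_one 3 (Subgroup.centralizer ({u} : Set G))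
  unfold Nat.ModEq at h3
  rcases hidx with h | h
  · rw [h] at h2
    have := Nat.le_of_dvd (by norm_num) h2
    omega
  · rw [h] at h2
    have := Nat.le_of_dvd (by norm_num) h2
    interval_cases h4 : Nat.card (Sylow 3 (Subgroup.centralizer ({u} : Set G))) <;> omega

/-- **The normalizer of a Sylow `3`-subgroup** of a simple group of order `7920` has order `144`. -/
theorem card_normalizer_sylow3 (hG : ¬ IsMulCommutative G) (hn : Nat.card G = 7920)
    (P : Sylow 3 G) : Nat.card (Subgroup.normalizer ((P : Subgroup G) : Set G)) = 144 := by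
  have hp3 : Fact (Nat.Prime 3) := ⟨by norm_num⟩
  have hPcard := sylow3_card hn P
  have hPne : (P : Subgroup G) ≠ ⊥ := by
    intro h
    rw [h, Subgroup.card_bot] at hPcard
    norm_num at hPcard
  -- the number of Sylow subgroups is `1` modulo `9`
  have hadd := card_sylow_eq_add P hPne
  have hempty : IsEmpty {R : Sylow 3 G // R ≠ P ∧ Meets P R} :=
    ⟨fun R => sylow3_ti hG hn P R.1 R.2.1 R.2.2⟩
  have h0 : Nat.card {R : Sylow 3 G // R ≠ P ∧ Meets P R} = 0 := Nat.card_of_isEmpty
  rw [h0, add_zero] at hadd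
  obtain ⟨j, hj⟩ := card_not_meets_dvd P
  rw [hPcard] at hj
  rw [hj] at hadd
  have hidx : (P : Subgroup G).index = 880 := by
    have := Subgroup.card_mul_index (P : Subgroup G)
    rw [hPcard, hn] at this
    omega
  have hdvd := Sylow.card_dvd_index P
  rw [hidx] at hdvd
  have hcases := divisors_880 _ (Nat.mem_divisors.2 ⟨hdvd, by norm_num⟩) (by omega)
  have hnorm : Nat.card (Sylow 3 G) =
      (Subgroup.normalizer ((P : Subgroup G) : Set G)).index := Sylow.card_eq_index_normalizer P
  have hmul := Subgroup.card_mul_index (Subgroup.normalizer ((P : Subgroup G) : Set G))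
  rw [← hnorm, hn] at hmul
  rcases hcases with h | h | h
  · -- a normal Sylow subgroup
    exfalso
    rw [h] at hnorm
    have htop := Subgroup.index_eq_one.1 hnorm.symm
    have hnormal : (P : Subgroup G).Normal := Subgroup.normalizer_eq_top_iff.1 htop
    rcases hnormal.eq_bot_or_eq_top with hb | ht
    · exact hPne hb
    · rw [ht, Subgroup.card_top, hn] at hPcard
      norm_num at hPcard
  · -- an element of order `11` in the normalizer
    exfalso
    rw [h] at hmul
    have hN : Nat.card (Subgroup.normalizer ((P : Subgroup G) : Set G)) = 792 := by omega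
    have hp11 : Fact (Nat.Prime 11) := ⟨by norm_num⟩
    obtain ⟨y, hy⟩ := exists_prime_orderOf_dvd_card' (G := Subgroup.normalizer
      ((P : Subgroup G) : Set G)) 11 (by rw [hN]; norm_num)
    have hy' : orderOf (y : G) = 11 := by rw [Subgroup.orderOf_coe]; exact hy
    obtain ⟨v, hv⟩ := exists_prime_orderOf_dvd_card' (G := (P : Subgroup G)) 3
      (by rw [hPcard]; norm_num)
    have hv' : orderOf (v : G) = 3 := by rw [Subgroup.orderOf_coe]; exact hv
    have hcomm : Commute (y : G) (v : G) := by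
      refine commute_of_normalizes_small' 11 (by norm_num) (y : G) ?_ (P : Subgroup G)
        (by rw [hPcard]; norm_num) ?_ (v : G) v.2
      · rw [← hy']; exact pow_orderOf_eq_one _
      · intro x hx
        exact (Subgroup.mem_normalizer_iff.1 y.2 x).1 hx
    have hyC : (y : G) ∈ Subgroup.centralizer ({(v : G)} : Set G) := by
      rw [Subgroup.mem_centralizer_singleton_iff]
      exact hcomm.eq
    have h11 : 11 ∣ Nat.card (Subgroup.centralizer ({(v : G)} : Set G)) := by
      rw [← hy']
      exact Subgroup.orderOf_dvd_natCard _ hyC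
    rcases card_centralizer_order3 hG hn hv' with hc | hc <;> rw [hc] at h11 <;> norm_num at h11
  · rw [h] at hmul
    omega

end Cfsg.Agent.Lib.Helper6.OrdR
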