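import Mathlib
import Cfsg.Agent.Lib.Helper6.OrdR7

/-!
# Simple groups of order `7920`: the values of the irreducible character of degree `11`
-/

set_option autoImplicit false
set_option maxHeartbeats 1600000
set_option maxRecDepth 1000000

namespace Cfsg.Agent.Lib.Helper6.OrdS

open Cfsg Cfsg.Agent.Lib.Helper8 Cfsg.Agent.Lib.Helper6.OrdB Cfsg.Agent.Lib.Helper6.OrdD
  Cfsg.Agent.Lib.Helper6.OrdK Cfsg.Agent.Lib.Helper6.OrdH Cfsg.Agent.Lib.Helper6.OrdL
  Cfsg.Agent.Lib.Helper6.OrdG Cfsg.Agent.Lib.Helper6.OrdQ Cfsg.Agent.Lib.Helper6.OrdF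
  Cfsg.Agent.Lib.Helper1
open scoped ComplexConjugate

universe u

/-- the arithmetic of the class multiplication coefficient, second part -/
theorem arith48b (b n : ℕ) (hb : b ≤ 11) (hn : n ≤ 5)
    (h : n * 48 ^ 2 + 23040 * b = 2160 * b ^ 2 + 69120) : b = 4 := by
  interval_cases b <;> omega

/-- four complex numbers with sum `4` and sum of squared norms `4` are all `1` -/
theorem eq_one_of_sums {α : Type*} (S : Finset α) (F : α → ℂ) (h4 : S.card = 4)
    (h1 : ∑ s ∈ S, F s = 4) (h2 : ∑ s ∈ S, F s * conj (F s) = 4) : ∀ s ∈ S, F s = 1 := by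
  have h1c : ∑ s ∈ S, conj (F s) = 4 := by
    have := congrArg conj h1
    rw [map_sum] at this
    rw [this]
    exact Complex.conj_ofNat 4
  have h3 : ∑ s ∈ S, (F s - 1) * conj (F s - 1) = 0 := by
    have : ∀ s ∈ S, (F s - 1) * conj (F s - 1) = F s * conj (F s) - F s - conj (F s) + 1 := by
      intro s _
      rw [map_sub, map_one]
      ring
    rw [Finset.sum_congr rfl this, Finset.sum_add_distrib, Finset.sum_sub_distrib,
      Finset.sum_sub_distrib, h1, h2, h1c, Finset.sum_const, h4]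
    norm_num
  have h4' : ∑ s ∈ S, Complex.normSq (F s - 1) = 0 := by
    have : ((∑ s ∈ S, Complex.normSq (F s - 1) : ℝ) : ℂ) = 0 := by
      rw [Complex.ofReal_sum, ← h3]
      refine Finset.sum_congr rfl fun s _ => ?_
      rw [Complex.mul_conj]
    exact_mod_cast this
  intro s hs
  have := (Finset.sum_eq_zero_iff_of_nonneg (fun s _ => Complex.normSq_nonneg (F s - 1))).1 h4' s hs
  rw [Complex.normSq_eq_zero] at this
  linear_combination this

variable {G : Type u} [Group G] [Fintype G] [IsSimpleGroup G] [Fintype (IrrCharacter G)]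

open Classical in
/-- **The character of degree `11`** of a simple group of order `7920`: its values at the
elements of order `2`, `5` and `11`. -/
theorem chi11_values (hG : ¬ IsMulCommutative G) (hn : Nat.card G = 7920) :
    ∃ χ : IrrCharacter G, charDegree χ.1 = 11 ∧ (∀ t : G, orderOf t = 2 → χ.1 t = 3) ∧
      (∀ y : G, orderOf y = 5 → χ.1 y = 1) ∧ (∀ x : G, orderOf x = 11 → χ.1 x = 0) := by
  have hp5 : Fact (Nat.Prime 5) := ⟨by norm_num⟩
  have hperf : commutator G = ⊤ := commutator_eq_top hG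
  obtain ⟨P⟩ : Nonempty (Sylow 5 G) := inferInstance
  have hS : ∀ Q : Sylow 5 G, Nat.card Q = 5 ∧
      Subgroup.centralizer ((Q : Subgroup G) : Set G) = (Q : Subgroup G) := by
    intro Q
    obtain ⟨hQ, -, -, hC, -⟩ := five_core hG hn Q
    refine ⟨hQ, ?_⟩
    obtain ⟨x', -, hQx, -⟩ := d1_sylow_data 5 Q hQ
    have hQle : (Q : Subgroup G) ≤ Subgroup.centralizer ((Q : Subgroup G) : Set G) := by
      intro a ha
      rw [Subgroup.mem_centralizer_iff]
      intro b hb
      rw [SetLike.mem_coe] at hb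
      rw [hQx] at ha hb
      obtain ⟨i, rfl⟩ := Subgroup.mem_zpowers_iff.1 ha
      obtain ⟨j, rfl⟩ := Subgroup.mem_zpowers_iff.1 hb
      exact ((Commute.refl x').zpow_zpow j i)
    exact (Subgroup.eq_of_le_of_card_ge hQle (by rw [hC, hQ])).symm
  obtain ⟨-, hN, -, -, c, θ0, hcP, hθ0, h11, h16, h44⟩ := five_core hG hn P
  have hN' : Nat.card (Subgroup.normalizer ((c.P : Subgroup G) : Set G)) = 5 * 4 := by
    rw [hcP]; exact hN
  -- the trivial character lies in the block
  have hYcard : c.Yf.card = 1 := by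
    have := c.card_Yf
    omega
  have htrivmem : trivIrr G ∈ c.Bf θ0 := by
    rw [c.mem_Bf]
    rcases c.triv_mem with h | h
    · exact Or.inr h
    · left
      exact Finset.card_le_one.1 hYcard.le _ (c.mem_Yf.2 h) _ (c.mem_Yf.2 hθ0)
  have hcardB : ((c.Bf θ0).erase (trivIrr G)).card = 4 := by
    rw [Finset.card_erase_of_mem htrivmem, c.card_Bf θ0 hθ0]
  obtain ⟨B', hB'⟩ : ∃ B', B' = (c.Bf θ0).erase (trivIrr G) := ⟨_, rfl⟩
  rw [← hB'] at h11 h16 h44 hcardB
  obtain ⟨T11, hT11⟩ : ∃ T, T = B'.filter (fun χ => charDegree χ.1 = 11) := ⟨_, rfl⟩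
  obtain ⟨T16, hT16⟩ : ∃ T, T = B'.filter (fun χ => charDegree χ.1 = 16) := ⟨_, rfl⟩
  obtain ⟨T44, hT44⟩ : ∃ T, T = B'.filter (fun χ => charDegree χ.1 = 44) := ⟨_, rfl⟩
  rw [← hT11] at h11
  rw [← hT16] at h16
  rw [← hT44] at h44
  have hd1 : Disjoint T16 T44 := by
    rw [hT16, hT44]
    exact Finset.disjoint_filter.2 (fun χ _ h1 h2 => by rw [h1] at h2; norm_num at h2)
  have hd2 : Disjoint T11 (T16 ∪ T44) := by
    rw [Finset.disjoint_union_right, hT11, hT16, hT44]
    exact ⟨Finset.disjoint_filter.2 (fun χ _ h1 h2 => by rw [h1] at h2; norm_num at h2),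
      Finset.disjoint_filter.2 (fun χ _ h1 h2 => by rw [h1] at h2; norm_num at h2)⟩
  have hpart : T11 ∪ (T16 ∪ T44) = B' := by
    apply Finset.eq_of_subset_of_card_le
    · rw [hT11, hT16, hT44]
      exact Finset.union_subset (Finset.filter_subset _ _)
        (Finset.union_subset (Finset.filter_subset _ _) (Finset.filter_subset _ _))
    · rw [Finset.card_union_of_disjoint hd2, Finset.card_union_of_disjoint hd1, h11, h16, h44,
        hcardB]
  obtain ⟨χ11, hχ11⟩ := Finset.card_eq_one.1 h11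
  obtain ⟨χ44, hχ44⟩ := Finset.card_eq_one.1 h44
  have hsplit : ∀ F : IrrCharacter G → ℂ, ∑ χ ∈ c.Bf θ0, F χ =
      F (trivIrr G) + (F χ11 + (∑ χ ∈ T16, F χ + F χ44)) := by
    intro F
    rw [← Finset.add_sum_erase _ F htrivmem, ← hB', ← hpart, Finset.sum_union hd2,
      Finset.sum_union hd1, hχ11, hχ44, Finset.sum_singleton, Finset.sum_singleton]
  -- membership and degrees
  have hmemB : ∀ χ : IrrCharacter G, χ ∈ B' → χ ∈ c.Bf θ0 := by
    intro χ hχ
    rw [hB'] at hχ
    exact (Finset.mem_erase.1 hχ).2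
  have h11mem : χ11 ∈ B' ∧ charDegree χ11.1 = 11 := by
    have : χ11 ∈ T11 := by rw [hχ11]; exact Finset.mem_singleton_self _
    rw [hT11] at this
    exact Finset.mem_filter.1 this
  have h44mem : χ44 ∈ B' ∧ charDegree χ44.1 = 44 := by
    have : χ44 ∈ T44 := by rw [hχ44]; exact Finset.mem_singleton_self _
    rw [hT44] at this
    exact Finset.mem_filter.1 this
  have h16mem : ∀ χ ∈ T16, χ ∈ B' ∧ charDegree χ.1 = 16 := by
    intro χ hχ
    rw [hT16] at hχ
    exact Finset.mem_filter.1 hχ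
  -- the signs
  have hδ1 : c.δ θ0 (trivIrr G) = 1 :=
    (δ_of_deg5 c hθ0 htrivmem).1 (by rw [charDegree_trivIrr])
  have hδ11 : c.δ θ0 χ11 = 1 :=
    (δ_of_deg5 c hθ0 (hmemB _ h11mem.1)).1 (by rw [h11mem.2])
  have hδ44 : c.δ θ0 χ44 = -1 :=
    (δ_of_deg5 c hθ0 (hmemB _ h44mem.1)).2 (by rw [h44mem.2])
  refine ⟨χ11, h11mem.2, ?_, ?_, ?_⟩
  · -- the involutions
    intro t ht
    have hreg : ¬ 5 ∣ orderOf t := by rw [ht]; norm_num
    have htt : t * t = 1 := by rw [← pow_two, ← ht]; exact pow_orderOf_eq_one t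
    have hv16 : ∀ χ ∈ T16, χ.1 t = 0 := by
      intro χ hχ
      exact defect_zero_vanish' χ 2 4 (by norm_num) (by rw [hn]; norm_num)
        (by rw [hn]; norm_num) (by rw [(h16mem χ hχ).2]; norm_num) t (by rw [ht])
    obtain ⟨b, hb, hχt, -⟩ := involution_apply hperf χ11 htt
    rw [h11mem.2] at hb hχt
    have hsum := c.sum_Bf_reg θ0 hθ0 hreg
    rw [hsplit (fun χ => (c.δ θ0 χ : ℂ) * χ.1 t)] at hsum
    rw [hδ1, hδ11, hδ44, trivIrr_apply,
      Finset.sum_eq_zero (fun χ hχ => by rw [hv16 χ hχ, mul_zero])] at hsum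
    have hχ44t : χ44.1 t = 1 + χ11.1 t := by
      push_cast at hsum
      linear_combination (-1 : ℂ) * hsum
    have hcm : (Nat.card {q : G × G // IsConj t q.1 ∧ IsConj t q.2 ∧ q.1 * q.2 = c.x} : ℂ) *
        (Nat.card G : ℂ) = (Nat.card {g : G // IsConj t g} : ℂ) ^ 2 *
          ∑ χ ∈ c.Bf θ0, (c.δ θ0 χ : ℂ) * (χ.1 t * χ.1 t / χ.1 1) :=
      (toTI c hS hN').class_mult' θ0 hθ0 hreg
    have hcount : Nat.card {q : G × G // IsConj t q.1 ∧ IsConj t q.2 ∧ q.1 * q.2 = c.x} ≤ 5 :=
      (toTI c hS hN').count_le htt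
    rw [hsplit (fun χ => (c.δ θ0 χ : ℂ) * (χ.1 t * χ.1 t / χ.1 1))] at hcm
    rw [hδ1, hδ11, hδ44, trivIrr_apply, trivIrr_apply,
      Finset.sum_eq_zero (fun χ hχ => by rw [hv16 χ hχ, mul_zero, zero_div, mul_zero]),
      apply_one χ11, apply_one χ44, h11mem.2, h44mem.2, hχ44t, hχt, hn] at hcm
    have hkc := card_isConj_mul_card_centralizer t
    rw [hn, card_centralizer_invol hG hn t ht] at hkc
    have hkcC : (Nat.card {v : G // IsConj t v} : ℂ) * 48 = 7920 := by exact_mod_cast hkc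
    obtain ⟨n, hndef⟩ : ∃ n, n = Nat.card {q : G × G // IsConj t q.1 ∧ IsConj t q.2 ∧
        q.1 * q.2 = c.x} := ⟨_, rfl⟩
    obtain ⟨k, hkdef⟩ : ∃ k, k = Nat.card {v : G // IsConj t v} := ⟨_, rfl⟩
    rw [← hndef] at hcm hcount
    rw [← hkdef] at hcm hkcC hkc
    have hfin : (n : ℂ) * 48 ^ 2 + 23040 * (b : ℂ) = 2160 * (b : ℂ) ^ 2 + 69120 := by
      push_cast at hcm
      linear_combination ((48 : ℂ) ^ 2 / 7920) * hcm +
        ((1 * (1 * 1 / 1) + (1 * ((11 - 2 * (b : ℂ)) * (11 - 2 * (b : ℂ)) / 11) +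
          (0 + (-1) * ((1 + (11 - 2 * (b : ℂ))) * (1 + (11 - 2 * (b : ℂ))) / 44)))) *
          ((k : ℂ) * 48 + 7920) / 7920) * hkcC
    have hfinN : n * 48 ^ 2 + 23040 * b = 2160 * b ^ 2 + 69120 := by exact_mod_cast hfin
    have hb4 := arith48b b n hb hcount hfinN
    rw [hχt, hb4]
    norm_num
  · -- the elements of order `5`
    intro y hy
    -- the values on the non-identity elements of `P`
    have hval : ∀ s : G, s ∈ (c.P : Subgroup G) → s ≠ 1 → χ11.1 s = 1 := by
      intro s hs hs1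
      rcases (c.mem_Bf θ0).1 (hmemB _ h11mem.1) with h | h
      · -- the exceptional character
        have hε : c.ε = -1 := by
          have := hδ11
          rw [h, c.δ_self] at this
          omega
        obtain ⟨hs1', hs2'⟩ := (toTI c hS hN').sums_exc (θ := θ0) hθ0
        have hcard : (toTI c hS hN').S.card = 4 := (toTI c hS hN').card_S
        have hεT : (toTI c hS hN').ε = -1 := hε
        rw [hεT] at hs1'
        have h1 : ∑ s ∈ (toTI c hS hN').S, θ0.1 s = 4 := by
          rw [hs1']; push_cast; norm_num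
        have h2 : ∑ s ∈ (toTI c hS hN').S, θ0.1 s * conj (θ0.1 s) = 4 := by
          rw [hs2']; push_cast; norm_num
        have := eq_one_of_sums _ (fun s => θ0.1 s) hcard h1 h2 s
          ((toTI c hS hN').mem_S.2 ⟨hs, hs1⟩)
        rw [h]
        exact this
      · have := c.hval χ11 h s hs hs1 1 (one_mem _) c.one_reg
        rw [mul_one] at this
        rw [this]
        have h3 := hδ11
        rw [c.δ_of_mem_X θ0 hθ0 h] at h3
        rw [h3]
        simp
    obtain ⟨Q, hyQ, -⟩ := exists_sylow_mem hS (g := y) (by rw [hy])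
    obtain ⟨v, hv⟩ := MulAction.exists_smul_eq G c.P Q
    rw [← hv, OrdF.mem_smul_sylow] at hyQ
    have hy1 : v⁻¹ * y * v ≠ 1 := by
      intro h
      have : y = 1 := by
        have h2 : y = v * (v⁻¹ * y * v) * v⁻¹ := by group
        rw [h2, h]; group
      rw [this, orderOf_one] at hy
      norm_num at hy
    have hcf := isClassFunction_irr χ11.2 y v⁻¹
    rw [inv_inv] at hcf
    rw [← hcf]
    exact hval _ hyQ hy1
  · -- the elements of order `11`
    intro x hx
    exact defect_zero_vanish' χ11 11 1 (by norm_num) (by rw [hn]; norm_num)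
      (by rw [hn]; norm_num) (by rw [h11mem.2]; norm_num) x (by rw [hx])

end Cfsg.Agent.Lib.Helper6.OrdS
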