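import Mathlib

/-!
# A subgroup from a representation: the stabilizer of the fixed points of a subgroup

Let `ρ` be a complex representation of a finite group `G`, let `Y ≤ B` be subgroups and `s` an
involution normalizing `Y` such that `s` acts trivially on the fixed points of `Y` (a condition on
the character).  If `B` has non-zero fixed points and `G` has none, then the elements of `G`
fixing the fixed points of `B` form a proper subgroup containing `B` and `s`.
-/

set_option autoImplicit false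

namespace Cfsg.Agent.Lib.Helper6.OrdS

section linalg

variable {V : Type*} [AddCommGroup V] [Module ℂ V] [FiniteDimensional ℂ V]

/-- an endomorphism with `F * F = c • F`, `c ≠ 0`, of trace zero vanishes -/
theorem eq_zero_of_mul_self_eq_smul (F : Module.End ℂ V) (c : ℂ) (hc : c ≠ 0)
    (hF : F * F = c • F) (htr : LinearMap.trace ℂ V F = 0) : F = 0 := by
  have he : IsIdempotentElem (c⁻¹ • F) := by
    show c⁻¹ • F * c⁻¹ • F = c⁻¹ • F
    rw [smul_mul_smul_comm, hF, smul_smul, mul_assoc, inv_mul_cancel₀ hc, mul_one]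
  have h0 : c⁻¹ • F = 0 :=
    LinearMap.IsIdempotentElem.eq_zero_of_trace_eq_zero he (by rw [map_smul, htr, smul_zero])
  have : F = c • (c⁻¹ • F) := by rw [smul_smul, mul_inv_cancel₀ hc, one_smul]
  rw [this, h0, smul_zero]

end linalg

open Classical in
/-- the sum of the operators of the elements of a subgroup -/
noncomputable def opSum {V : Type*} [AddCommGroup V] [Module ℂ V] {G : Type*} [Group G]
    [Fintype G] (ρ : Representation ℂ G V) (H : Subgroup G) : Module.End ℂ V :=
  ∑ g ∈ (Finset.univ : Finset G).filter (fun g => g ∈ H), ρ g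

section rep

variable {V : Type*} [AddCommGroup V] [Module ℂ V] {G : Type*} [Group G] [Fintype G]
  (ρ : Representation ℂ G V)

open Classical in
theorem mul_opSum (H : Subgroup G) {g : G} (hg : g ∈ H) : ρ g * opSum ρ H = opSum ρ H := by
  unfold opSum
  rw [Finset.mul_sum]
  refine Finset.sum_bij' (fun h _ => g * h) (fun h _ => g⁻¹ * h) ?_ ?_ ?_ ?_ ?_
  · intro h hh
    rw [Finset.mem_filter] at hh ⊢
    exact ⟨Finset.mem_univ _, H.mul_mem hg hh.2⟩
  · intro h hh
    rw [Finset.mem_filter] at hh ⊢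
    exact ⟨Finset.mem_univ _, H.mul_mem (H.inv_mem hg) hh.2⟩
  · intro h _; group
  · intro h _; group
  · intro h _
    rw [map_mul]

open Classical in
theorem opSum_mul_opSum {H K : Subgroup G} (hHK : H ≤ K) :
    opSum ρ H * opSum ρ K = (Nat.card H : ℂ) • opSum ρ K := by
  have h1 : opSum ρ H * opSum ρ K =
      ∑ g ∈ (Finset.univ : Finset G).filter (fun g => g ∈ H), opSum ρ K := by
    conv_lhs => unfold opSum
    rw [Finset.sum_mul]
    refine Finset.sum_congr rfl fun g hg => ?_
    rw [Finset.mem_filter] at hg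
    have := mul_opSum ρ K (hHK hg.2)
    unfold opSum at this ⊢
    exact this
  rw [h1, Finset.sum_const, ← Nat.cast_smul_eq_nsmul ℂ]
  congr 2
  rw [Nat.card_eq_fintype_card, Fintype.card_subtype]

open Classical in
theorem trace_opSum [FiniteDimensional ℂ V] (H : Subgroup G) :
    LinearMap.trace ℂ V (opSum ρ H) =
      ∑ g ∈ (Finset.univ : Finset G).filter (fun g => g ∈ H), ρ.character g := by
  unfold opSum
  rw [map_sum]
  rfl

open Classical in
theorem trace_mul_opSum [FiniteDimensional ℂ V] (H : Subgroup G) (s : G) :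
    LinearMap.trace ℂ V (ρ s * opSum ρ H) =
      ∑ g ∈ (Finset.univ : Finset G).filter (fun g => g ∈ H), ρ.character (s * g) := by
  unfold opSum
  rw [Finset.mul_sum, map_sum]
  refine Finset.sum_congr rfl fun g _ => ?_
  rw [← map_mul]
  rfl

open Classical in
/-- an involution normalizing `H` commutes with the sum over `H` -/
theorem comm_opSum (H : Subgroup G) {s : G} (hs : s * s = 1) (hsH : ∀ y ∈ H, s * y * s⁻¹ ∈ H) :
    ρ s * opSum ρ H = opSum ρ H * ρ s := by
  have hsinv : s⁻¹ = s := inv_eq_of_mul_eq_one_left hs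
  unfold opSum
  rw [Finset.mul_sum, Finset.sum_mul]
  refine Finset.sum_bij' (fun h _ => s * h * s⁻¹) (fun h _ => s * h * s⁻¹) ?_ ?_ ?_ ?_ ?_
  · intro h hh
    rw [Finset.mem_filter] at hh ⊢
    exact ⟨Finset.mem_univ _, hsH h hh.2⟩
  · intro h hh
    rw [Finset.mem_filter] at hh ⊢
    exact ⟨Finset.mem_univ _, hsH h hh.2⟩
  · intro h _
    rw [hsinv]
    calc s * (s * h * s) * s = (s * s) * h * (s * s) := by group
      _ = h := by rw [hs]; group
  · intro h _
    rw [hsinv]
    calc s * (s * h * s) * s = (s * s) * h * (s * s) := by group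
      _ = h := by rw [hs]; group
  · intro h _
    rw [← map_mul, ← map_mul]
    congr 1
    group

open Classical in
/-- **The stabilizer of the fixed points of `B`.** -/
theorem exists_subgroup_of_rep [FiniteDimensional ℂ V] (B Y : Subgroup G) (hYB : Y ≤ B) (s : G)
    (hs : s * s = 1) (hsY : ∀ y ∈ Y, s * y * s⁻¹ ∈ Y)
    (h1 : ∑ g ∈ (Finset.univ : Finset G).filter (fun g => g ∈ Y), ρ.character g =
      ∑ g ∈ (Finset.univ : Finset G).filter (fun g => g ∈ Y), ρ.character (s * g))
    (h2 : ∑ g : G, ρ.character g = 0)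
    (h3 : ∑ g ∈ (Finset.univ : Finset G).filter (fun g => g ∈ B), ρ.character g ≠ 0) :
    ∃ L : Subgroup G, B ≤ L ∧ s ∈ L ∧ L ≠ ⊤ := by
  have hnY : (Nat.card Y : ℂ) ≠ 0 := Nat.cast_ne_zero.2 Nat.card_pos.ne'
  have hnG : (Nat.card (⊤ : Subgroup G) : ℂ) ≠ 0 := Nat.cast_ne_zero.2 Nat.card_pos.ne'
  obtain ⟨T, hT⟩ : ∃ T, T = opSum ρ Y := ⟨_, rfl⟩
  obtain ⟨S, hS⟩ : ∃ S, S = ρ s := ⟨_, rfl⟩
  obtain ⟨n, hn⟩ : ∃ n : ℂ, n = (Nat.card Y : ℂ) := ⟨_, rfl⟩
  have hTT : T * T = n • T := by rw [hT, hn]; exact opSum_mul_opSum ρ le_rfl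
  have hSS : S * S = 1 := by rw [hS, ← map_mul, hs, map_one]
  have hST : S * T = T * S := by rw [hS, hT]; exact comm_opSum ρ Y hs hsY
  -- the key identity
  have hF : (T - S * T) * (T - S * T) = (2 * n) • (T - S * T) := by
    have e1 : T * (S * T) = n • (S * T) := by
      rw [← mul_assoc, ← hST, mul_assoc, hTT, mul_smul_comm]
    have e2 : S * T * T = n • (S * T) := by
      rw [mul_assoc, hTT, mul_smul_comm]
    have e3 : S * T * (S * T) = n • T := by
      calc S * T * (S * T) = S * (T * S) * T := by simp only [mul_assoc]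
        _ = S * (S * T) * T := by rw [hST]
        _ = (S * S) * (T * T) := by simp only [mul_assoc]
        _ = n • T := by rw [hSS, one_mul, hTT]
    rw [sub_mul, mul_sub, mul_sub, hTT, e1, e2, e3]
    module
  have htr : LinearMap.trace ℂ V (T - S * T) = 0 := by
    rw [map_sub, hT, hS, trace_opSum, trace_mul_opSum, h1, sub_self]
  have hF0 := eq_zero_of_mul_self_eq_smul (T - S * T) (2 * n)
    (mul_ne_zero two_ne_zero (hn ▸ hnY)) hF htr
  have hSTT : S * T = T := (sub_eq_zero.1 hF0).symm
  -- `s` fixes the fixed points of `B`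
  have hYBm : T * opSum ρ B = n • opSum ρ B := by rw [hT, hn]; exact opSum_mul_opSum ρ hYB
  have hsB : ρ s * opSum ρ B = opSum ρ B := by
    have : n • (ρ s * opSum ρ B) = n • opSum ρ B := by
      rw [← mul_smul_comm, ← hYBm, ← mul_assoc, ← hS, hSTT]
    exact smul_right_injective _ (hn ▸ hnY) this
  let L : Subgroup G :=
    { carrier := {g | ρ g * opSum ρ B = opSum ρ B}
      mul_mem' := by
        intro a b ha hb
        rw [Set.mem_ofPred_eq] at ha hb ⊢
        rw [map_mul, mul_assoc, hb, ha]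
      one_mem' := by
        rw [Set.mem_ofPred_eq, map_one, one_mul]
      inv_mem' := by
        intro a ha
        rw [Set.mem_ofPred_eq] at ha ⊢
        conv_lhs => rw [← ha]
        rw [← mul_assoc, ← map_mul, inv_mul_cancel, map_one, one_mul] }
  refine ⟨L, fun g hg => mul_opSum ρ B hg, hsB, ?_⟩
  intro htop
  have hall : ∀ g : G, ρ g * opSum ρ B = opSum ρ B := by
    intro g
    have : g ∈ L := by rw [htop]; trivial
    exact this
  have hGB : opSum ρ ⊤ * opSum ρ B = (Nat.card (⊤ : Subgroup G) : ℂ) • opSum ρ B := by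
    conv_lhs => unfold opSum
    rw [Finset.sum_mul]
    have : ∀ g ∈ (Finset.univ : Finset G).filter (fun g => g ∈ (⊤ : Subgroup G)),
        ρ g * (∑ g ∈ (Finset.univ : Finset G).filter (fun g => g ∈ B), ρ g) = opSum ρ B := by
      intro g _
      have := hall g
      unfold opSum at this ⊢
      exact this
    rw [Finset.sum_congr rfl this, Finset.sum_const, ← Nat.cast_smul_eq_nsmul ℂ]
    congr 2
    rw [Nat.card_eq_fintype_card, Fintype.card_subtype]
  have hGG : opSum ρ ⊤ * opSum ρ ⊤ = (Nat.card (⊤ : Subgroup G) : ℂ) • opSum ρ ⊤ :=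
    opSum_mul_opSum ρ le_rfl
  have htrG : LinearMap.trace ℂ V (opSum ρ ⊤) = 0 := by
    rw [trace_opSum, ← h2]
    refine Finset.sum_congr ?_ fun _ _ => rfl
    exact Finset.filter_true_of_mem (fun g _ => Subgroup.mem_top g)
  have hG0 := eq_zero_of_mul_self_eq_smul (opSum ρ ⊤) _ hnG hGG htrG
  rw [hG0, zero_mul] at hGB
  have hB0 : opSum ρ B = 0 := by
    rcases smul_eq_zero.1 hGB.symm with h | h
    · exact absurd h hnG
    · exact h
  apply h3
  rw [← trace_opSum, hB0, map_zero]

end rep

end Cfsg.Agent.Lib.Helper6.OrdS
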