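import Mathlib
import Cfsg.Agent.Lib.Helper6.OrdS3
import Cfsg.Agent.Lib.Helper6.OrdR7

/-!
# Simple groups of order `7920`: generators of the normalizers of the Sylow `11`- and
`5`-subgroups
-/

set_option autoImplicit false
set_option maxHeartbeats 1600000
set_option maxRecDepth 1000000

namespace Cfsg.Agent.Lib.Helper6.OrdS

open Cfsg Cfsg.Agent.Lib.Helper8 Cfsg.Agent.Lib.Helper6.OrdB Cfsg.Agent.Lib.Helper6.OrdD
  Cfsg.Agent.Lib.Helper6.OrdK Cfsg.Agent.Lib.Helper6.OrdH Cfsg.Agent.Lib.Helper6.OrdL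
  Cfsg.Agent.Lib.Helper6.OrdG Cfsg.Agent.Lib.Helper6.OrdQ Cfsg.Agent.Lib.Helper6.OrdF

universe u

theorem fermat11 : ∀ k : ℕ, k < 11 → 1 ≡ k ^ 11 [MOD 11] → k = 1 := by decide

theorem pow5_mod11 : ∀ k : ℕ, k < 11 → 1 ≡ k ^ 5 [MOD 11] →
    k = 1 ∨ k = 3 ∨ k = 4 ∨ k = 5 ∨ k = 9 := by decide

variable {G : Type u} [Group G] [Fintype G] [IsSimpleGroup G] [Fintype (IrrCharacter G)]

/-- the elements of the normalizer of a Sylow `11`-subgroup outside the subgroup have order `5` -/
theorem orderOf_of_mem_normalizer11 (hG : ¬ IsMulCommutative G) (hn : Nat.card G = 7920)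
    (P : Sylow 11 G) {h : G} (hh : h ∈ Subgroup.normalizer ((P : Subgroup G) : Set G))
    (hP : h ∉ (P : Subgroup G)) : orderOf h = 5 := by
  have h11 : Fact (Nat.Prime 11) := ⟨by norm_num⟩
  have h5 : Fact (Nat.Prime 5) := ⟨by norm_num⟩
  obtain ⟨hPcard, hN, -, -, -, hCP⟩ := cfg11 hG hn P
  obtain ⟨x, hx, hPx, -⟩ := d1_sylow_data 11 P hPcard
  have h55 : h ^ 55 = 1 := by
    have := pow_card_eq_one' (G := ↥(Subgroup.normalizer ((P : Subgroup G) : Set G)))
      (x := ⟨h, hh⟩)
    rw [hN] at this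
    have h2 := congrArg Subtype.val this
    simpa using h2
  have hu11 : (h ^ 5) ^ 11 = 1 := by rw [← pow_mul]; exact h55
  have huN : h ^ 5 ∈ Subgroup.normalizer ((P : Subgroup G) : Set G) := Subgroup.pow_mem _ hh 5
  have hxP : x ∈ (P : Subgroup G) := by rw [hPx]; exact Subgroup.mem_zpowers x
  have hux : h ^ 5 * x * (h ^ 5)⁻¹ ∈ Subgroup.zpowers x := by
    rw [← hPx]
    exact (Subgroup.mem_normalizer_iff.1 huN x).1 hxP
  obtain ⟨k, hk, hkx⟩ := exists_pow_of_mem_zpowers hx (by norm_num) hux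
  have h1 := conj_pow_pow hkx 11 1
  rw [hu11, one_mul, inv_one, mul_one, one_mul] at h1
  have h2 : 1 ≡ k ^ 11 [MOD 11] := by
    have := pow_eq_pow_iff_modEq.1 h1
    rwa [hx] at this
  have hk1 := fermat11 k hk h2
  rw [hk1, pow_one] at hkx
  have hcomm : h ^ 5 * x = x * h ^ 5 := by
    calc h ^ 5 * x = h ^ 5 * x * (h ^ 5)⁻¹ * h ^ 5 := by group
      _ = x * h ^ 5 := by rw [hkx]
  have huP : h ^ 5 ∈ (P : Subgroup G) := by
    rw [← hCP, hPx]
    exact mem_centralizer_zpowers hcomm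
  have hh1 : h ≠ 1 := by
    rintro rfl
    exact hP (one_mem _)
  by_cases hu1 : h ^ 5 = 1
  · exact orderOf_eq_prime hu1 hh1
  · exfalso
    have huo : orderOf (h ^ 5) = 11 := orderOf_eq_prime hu11 hu1
    have hPu := sylow_eq_zpowers P hPcard huP huo
    apply hP
    rw [← hCP, hPu]
    apply mem_centralizer_zpowers
    rw [← pow_succ, ← pow_succ']

/-- an element of order `5` acting on a Sylow `11`-subgroup as the fourth power -/
theorem exists_b (hG : ¬ IsMulCommutative G) (hn : Nat.card G = 7920) (P : Sylow 11 G) {a : G}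
    (ha : orderOf a = 11) (hPa : (P : Subgroup G) = Subgroup.zpowers a) :
    ∃ b : G, b ∈ Subgroup.normalizer ((P : Subgroup G) : Set G) ∧ orderOf b = 5 ∧
      b * a * b⁻¹ = a ^ 4 := by
  have h11 : Fact (Nat.Prime 11) := ⟨by norm_num⟩
  have h5 : Fact (Nat.Prime 5) := ⟨by norm_num⟩
  obtain ⟨hPcard, hN, -, -, -, hCP⟩ := cfg11 hG hn P
  obtain ⟨b0', hb0'⟩ := exists_prime_orderOf_dvd_card' (G :=
    ↥(Subgroup.normalizer ((P : Subgroup G) : Set G))) 5 (by rw [hN]; norm_num)
  obtain ⟨b0, hb0N⟩ := b0'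
  rw [Subgroup.orderOf_mk] at hb0'
  have haP : a ∈ (P : Subgroup G) := by rw [hPa]; exact Subgroup.mem_zpowers a
  have hba : b0 * a * b0⁻¹ ∈ Subgroup.zpowers a := by
    rw [← hPa]
    exact (Subgroup.mem_normalizer_iff.1 hb0N a).1 haP
  obtain ⟨k, hk, hka⟩ := exists_pow_of_mem_zpowers ha (by norm_num) hba
  have hb05 : b0 ^ 5 = 1 := by rw [← hb0']; exact pow_orderOf_eq_one b0
  have h1 := conj_pow_pow hka 5 1
  rw [hb05, one_mul, inv_one, mul_one, one_mul] at h1
  have h2 : 1 ≡ k ^ 5 [MOD 11] := by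
    have := pow_eq_pow_iff_modEq.1 h1
    rwa [ha] at this
  have hkne : k ≠ 1 := by
    rintro rfl
    rw [pow_one] at hka
    have hcomm : b0 * a = a * b0 := by
      calc b0 * a = b0 * a * b0⁻¹ * b0 := by group
        _ = a * b0 := by rw [hka]
    have hb0P : b0 ∈ (P : Subgroup G) := by
      rw [← hCP, hPa]
      exact mem_centralizer_zpowers hcomm
    have := orderOf_dvd_natCard (⟨b0, hb0P⟩ : (P : Subgroup G))
    rw [Subgroup.orderOf_mk, hb0', hPcard] at this
    norm_num at this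
  have key : ∀ j : ℕ, Nat.Coprime 5 j → k ^ j ≡ 4 [MOD 11] →
      ∃ b : G, b ∈ Subgroup.normalizer ((P : Subgroup G) : Set G) ∧ orderOf b = 5 ∧
        b * a * b⁻¹ = a ^ 4 := by
    intro j hj hkj
    refine ⟨b0 ^ j, Subgroup.pow_mem _ hb0N j, ?_, ?_⟩
    · have := Nat.Coprime.orderOf_pow (y := b0) (m := j) (by rw [hb0']; exact hj)
      rw [this, hb0']
    · have h3 := conj_pow_pow hka j 1
      rw [pow_one, one_mul] at h3
      rw [h3]
      apply pow_eq_pow_iff_modEq.2
      rw [ha]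
      exact hkj
  rcases pow5_mod11 k hk h2 with rfl | rfl | rfl | rfl | rfl
  · exact absurd rfl hkne
  · exact key 4 (by norm_num) (by decide)
  · exact key 1 (by norm_num) (by decide)
  · exact key 3 (by norm_num) (by decide)
  · exact key 2 (by norm_num) (by decide)


open Classical in
/-- an element of order `4` acting on a Sylow `5`-subgroup as the square -/
theorem exists_c (hG : ¬ IsMulCommutative G) (hn : Nat.card G = 7920) (Q : Sylow 5 G) {b : G}
    (hb : orderOf b = 5) (hQb : (Q : Subgroup G) = Subgroup.zpowers b) :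
    ∃ c : G, c ∈ Subgroup.normalizer ((Q : Subgroup G) : Set G) ∧ c * b * c⁻¹ = b ^ 2 ∧
      c ^ 4 = 1 ∧ orderOf c = 4 := by
  have h5 : Fact (Nat.Prime 5) := ⟨by norm_num⟩
  obtain ⟨hQcard, hN, -, hC, -⟩ := five_core hG hn Q
  have hCQ : Subgroup.centralizer ((Q : Subgroup G) : Set G) = (Q : Subgroup G) := by
    have hQle : (Q : Subgroup G) ≤ Subgroup.centralizer ((Q : Subgroup G) : Set G) := by
      intro u hu
      rw [hQb] at hu ⊢
      obtain ⟨i, rfl⟩ := Subgroup.mem_zpowers_iff.1 hu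
      apply mem_centralizer_zpowers
      exact ((Commute.refl b).zpow_left i).eq
    exact (Subgroup.eq_of_le_of_card_ge hQle (by rw [hC, hQcard])).symm
  have hbQ : b ∈ (Q : Subgroup G) := by rw [hQb]; exact Subgroup.mem_zpowers b
  have hb5 : b ^ 5 = 1 := by rw [← hb]; exact pow_orderOf_eq_one b
  have hb1 : b ≠ 1 := by
    rintro rfl
    rw [orderOf_one] at hb
    norm_num at hb
  -- the conjugates of `b` under the normalizer
  obtain ⟨s, hs⟩ : ∃ s : Finset G, s = (Finset.univ : Finset G).filter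
      (fun g => g ∈ Subgroup.normalizer ((Q : Subgroup G) : Set G)) := ⟨_, rfl⟩
  have hscard : s.card = 20 := by
    rw [hs, ← Fintype.card_subtype, ← Nat.card_eq_fintype_card]
    exact hN
  obtain ⟨q, hq⟩ : ∃ q : Finset G, q = (Finset.univ : Finset G).filter
      (fun g => g ∈ (Q : Subgroup G)) := ⟨_, rfl⟩
  have hqcard : q.card = 5 := by
    rw [hq, ← Fintype.card_subtype, ← Nat.card_eq_fintype_card]
    exact hQcard
  have hfib : ∀ v ∈ s.image (fun g => g * b * g⁻¹),
      (s.filter (fun g => g * b * g⁻¹ = v)).card ≤ 5 := by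
    intro v hv
    obtain ⟨g0, -, rfl⟩ := Finset.mem_image.1 hv
    rw [← hqcard]
    apply Finset.card_le_card_of_injOn (fun g => g0⁻¹ * g)
    · intro g hg
      rw [Finset.mem_coe, Finset.mem_filter] at hg
      rw [Finset.mem_coe, hq, Finset.mem_filter]
      refine ⟨Finset.mem_univ _, ?_⟩
      rw [← hCQ, hQb]
      apply mem_centralizer_zpowers
      have h1 : g * b * g⁻¹ = g0 * b * g0⁻¹ := hg.2
      calc g0⁻¹ * g * b = g0⁻¹ * (g * b * g⁻¹) * g := by group
        _ = g0⁻¹ * (g0 * b * g0⁻¹) * g := by rw [h1]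
        _ = b * (g0⁻¹ * g) := by group
    · intro g _ g' _ h
      exact mul_left_cancel h
  have h20 := Finset.card_le_mul_card_image s 5 hfib
  rw [hscard] at h20
  have himg : s.image (fun g => g * b * g⁻¹) ⊆ {b, b ^ 2, b ^ 3, b ^ 4} := by
    intro v hv
    obtain ⟨g, hg, rfl⟩ := Finset.mem_image.1 hv
    rw [hs, Finset.mem_filter] at hg
    have h1 : g * b * g⁻¹ ∈ Subgroup.zpowers b := by
      rw [← hQb]
      exact (Subgroup.mem_normalizer_iff.1 hg.2 b).1 hbQ
    obtain ⟨k, hk, hkb⟩ := exists_pow_of_mem_zpowers hb (by norm_num) h1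
    rw [hkb]
    have hk0 : k ≠ 0 := by
      rintro rfl
      rw [pow_zero] at hkb
      apply hb1
      calc b = g⁻¹ * (g * b * g⁻¹) * g := by group
        _ = 1 := by rw [hkb]; group
    interval_cases k
    · exact absurd rfl hk0
    · simp
    · simp
    · simp
    · simp
  have hcard4 : ({b, b ^ 2, b ^ 3, b ^ 4} : Finset G).card ≤ 4 := Finset.card_le_four
  have heq : s.image (fun g => g * b * g⁻¹) = {b, b ^ 2, b ^ 3, b ^ 4} := by
    apply Finset.eq_of_subset_of_card_le himg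
    omega
  have hb2 : b ^ 2 ∈ s.image (fun g => g * b * g⁻¹) := by
    rw [heq]; simp
  obtain ⟨c, hc, hcb⟩ := Finset.mem_image.1 hb2
  rw [hs, Finset.mem_filter] at hc
  have hcN := hc.2
  -- `c ^ 4 = 1`
  have h16 := conj_pow_pow hcb 4 1
  have hb16 : b ^ (1 * 2 ^ 4) = b := by
    calc b ^ (1 * 2 ^ 4) = (b ^ 5) ^ 3 * b := by
          rw [← pow_mul, ← pow_succ]; norm_num
      _ = b := by rw [hb5, one_pow, one_mul]
  rw [hb16, pow_one] at h16
  have hc4comm : c ^ 4 * b = b * c ^ 4 := by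
    calc c ^ 4 * b = c ^ 4 * b * (c ^ 4)⁻¹ * c ^ 4 := by group
      _ = b * c ^ 4 := by rw [h16]
  have hc4Q : c ^ 4 ∈ Subgroup.zpowers b := by
    rw [← hQb, ← hCQ, hQb]
    exact mem_centralizer_zpowers hc4comm
  obtain ⟨i, hi, hci⟩ := exists_pow_of_mem_zpowers hb (by norm_num) hc4Q
  have h2i := conj_pow_pow hcb 1 i
  rw [pow_one, pow_one, ← hci] at h2i
  have h3 : c * c ^ 4 * c⁻¹ = c ^ 4 := by group
  rw [h3, hci] at h2i
  have h4 : i ≡ i * 2 [MOD 5] := by
    have := pow_eq_pow_iff_modEq.1 h2i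
    rwa [hb] at this
  have hi0 : i = 0 := by
    unfold Nat.ModEq at h4
    omega
  rw [hi0, pow_zero] at hci
  -- the order of `c`
  have hc2 : c ^ 2 ≠ 1 := by
    intro h
    have h5' := conj_pow_pow hcb 2 1
    rw [h, one_mul, inv_one, mul_one] at h5'
    have := pow_eq_pow_iff_modEq.1 h5'
    rw [hb] at this
    unfold Nat.ModEq at this
    omega
  have hco : orderOf c = 4 := by
    have hdvd : orderOf c ∣ 4 := orderOf_dvd_of_pow_eq_one hci
    have h4div : (4 : ℕ).divisors = {1, 2, 4} := by decide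
    have hmem : orderOf c ∈ (4 : ℕ).divisors := Nat.mem_divisors.2 ⟨hdvd, by norm_num⟩
    rw [h4div] at hmem
    simp only [Finset.mem_insert, Finset.mem_singleton] at hmem
    rcases hmem with h | h | h
    · exfalso
      apply hc2
      rw [orderOf_eq_one_iff.1 h, one_pow]
    · exfalso
      apply hc2
      rw [← h]
      exact pow_orderOf_eq_one c
    · exact h
  exact ⟨c, hcN, hcb, hci, hco⟩

/-- a subgroup generated by two elements whose orders are coprime with product the order of a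
subgroup containing them -/
theorem closure_pair_eq {H : Subgroup G} {x y : G} (hx : x ∈ H) (hy : y ∈ H)
    (hcop : Nat.Coprime (orderOf x) (orderOf y)) (hcard : Nat.card H = orderOf x * orderOf y) :
    Subgroup.closure {x, y} = H := by
  have hle : Subgroup.closure {x, y} ≤ H := by
    rw [Subgroup.closure_le]
    intro z hz
    rcases hz with rfl | rfl
    · exact hx
    · exact hy
  apply Subgroup.eq_of_le_of_card_ge hle
  have hxc : x ∈ Subgroup.closure {x, y} := Subgroup.subset_closure (by simp)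
  have hyc : y ∈ Subgroup.closure {x, y} := Subgroup.subset_closure (by simp)
  have h1 := orderOf_dvd_natCard (⟨x, hxc⟩ : Subgroup.closure {x, y})
  have h2 := orderOf_dvd_natCard (⟨y, hyc⟩ : Subgroup.closure {x, y})
  rw [Subgroup.orderOf_mk] at h1 h2
  rw [hcard]
  exact Nat.le_of_dvd Nat.card_pos (hcop.mul_dvd_of_dvd_of_dvd h1 h2)

end Cfsg.Agent.Lib.Helper6.OrdS
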