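import Mathlib
import Cfsg.Agent.Lib.Helper6.OrdS1
import Cfsg.Agent.Lib.Helper6.OrdS2
import Cfsg.Agent.Lib.Helper6.OrdS4
import Cfsg.Agent.Lib.Helper4.Characters

/-!
# Simple groups of order `7920`: a subgroup of index `12`
-/

set_option autoImplicit false
set_option maxHeartbeats 1600000
set_option maxRecDepth 1000000

namespace Cfsg.Agent.Lib.Helper6.OrdS

open Cfsg Cfsg.Agent.Lib.Helper8 Cfsg.Agent.Lib.Helper6.OrdB Cfsg.Agent.Lib.Helper6.OrdD
  Cfsg.Agent.Lib.Helper6.OrdK Cfsg.Agent.Lib.Helper6.OrdH Cfsg.Agent.Lib.Helper6.OrdL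
  Cfsg.Agent.Lib.Helper6.OrdG Cfsg.Agent.Lib.Helper6.OrdQ Cfsg.Agent.Lib.Helper6.OrdF
open scoped ComplexConjugate

universe u

theorem divisors_144_mod11 : ∀ n ∈ Nat.divisors 144, n % 11 = 1 → n = 1 ∨ n = 12 ∨ n = 144 := by
  decide

variable {G : Type u} [Group G] [Fintype G] [IsSimpleGroup G] [Fintype (IrrCharacter G)]

open Classical in
/-- **A subgroup of order `660`** containing the normalizer of a Sylow `11`-subgroup and an
involution inverting an element of order `5` of this normalizer. -/
theorem exists_card660 (hG : ¬ IsMulCommutative G) (hn : Nat.card G = 7920) (P : Sylow 11 G)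
    {y s : G} (hy : orderOf y = 5) (hyN : y ∈ Subgroup.normalizer ((P : Subgroup G) : Set G))
    (hs : orderOf s = 2) (hsy : s * y * s⁻¹ = y ^ 4) :
    ∃ L : Subgroup G, Subgroup.normalizer ((P : Subgroup G) : Set G) ≤ L ∧ s ∈ L ∧
      Nat.card L = 660 := by
  have h11 : Fact (Nat.Prime 11) := ⟨by norm_num⟩
  have h5 : Fact (Nat.Prime 5) := ⟨by norm_num⟩
  have h2' : Fact (Nat.Prime 2) := ⟨by norm_num⟩
  obtain ⟨hPcard, hN, -, -, -, hCP⟩ := cfg11 hG hn P
  obtain ⟨χ, hdeg, hχ2, hχ5, hχ11⟩ := chi11_values hG hn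
  obtain ⟨n, ρ, -, hρχ, -⟩ := exists_rep χ
  have hss : s * s = 1 := by rw [← pow_two, ← hs]; exact pow_orderOf_eq_one s
  have hs1 : s ≠ 1 := by
    rintro rfl
    rw [orderOf_one] at hs
    norm_num at hs
  have hy5 : y ^ 5 = 1 := by rw [← hy]; exact pow_orderOf_eq_one y
  have hsinv : s⁻¹ = s := inv_eq_of_mul_eq_one_left hss
  -- `s` inverts the elements of `⟨y⟩`
  have hsz : ∀ z ∈ Subgroup.zpowers y, s * z * s⁻¹ = z⁻¹ := by
    intro z hz
    obtain ⟨k, -, rfl⟩ := exists_pow_of_mem_zpowers hy (by norm_num) hz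
    have := conj_pow_pow hsy 1 k
    rw [pow_one, pow_one] at this
    rw [this]
    symm
    rw [inv_eq_iff_mul_eq_one, ← pow_add]
    have : k + k * 4 = 5 * k := by ring
    rw [this, pow_mul, hy5, one_pow]
  have hsY : ∀ z ∈ Subgroup.zpowers y, s * z * s⁻¹ ∈ Subgroup.zpowers y := by
    intro z hz
    rw [hsz z hz]
    exact Subgroup.inv_mem _ hz
  have hYcard : ((Finset.univ : Finset G).filter (fun g => g ∈ Subgroup.zpowers y)).card = 5 := by
    rw [← Fintype.card_subtype, ← Nat.card_eq_fintype_card]
    show Nat.card (Subgroup.zpowers y) = 5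
    rw [Nat.card_zpowers, hy]
  have hzo : ∀ z ∈ Subgroup.zpowers y, z ≠ 1 → orderOf z = 5 := by
    intro z hz hz1
    apply orderOf_eq_prime _ hz1
    obtain ⟨k, -, rfl⟩ := exists_pow_of_mem_zpowers hy (by norm_num) hz
    rw [← pow_mul, mul_comm, pow_mul, hy5, one_pow]
  -- the first trace condition
  have h1 : ∑ g ∈ (Finset.univ : Finset G).filter (fun g => g ∈ Subgroup.zpowers y),
      ρ.character g =
      ∑ g ∈ (Finset.univ : Finset G).filter (fun g => g ∈ Subgroup.zpowers y),
        ρ.character (s * g) := by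
    rw [hρχ]
    have hL : ∀ g ∈ (Finset.univ : Finset G).filter (fun g => g ∈ Subgroup.zpowers y),
        χ.1 g = 1 + (if g = 1 then (10 : ℂ) else 0) := by
      intro g hg
      rw [Finset.mem_filter] at hg
      by_cases hg1 : g = 1
      · rw [if_pos hg1, hg1, apply_one, hdeg]; norm_num
      · rw [if_neg hg1, hχ5 g (hzo g hg.2 hg1), add_zero]
    have hR : ∀ g ∈ (Finset.univ : Finset G).filter (fun g => g ∈ Subgroup.zpowers y),
        χ.1 (s * g) = 3 := by
      intro g hg
      rw [Finset.mem_filter] at hg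
      apply hχ2
      apply orderOf_eq_prime
      · have := hsz g hg.2
        rw [pow_two]
        calc s * g * (s * g) = (s * g * s) * g := by group
          _ = (s * g * s⁻¹) * g := by rw [hsinv]
          _ = 1 := by rw [this]; group
      · intro h
        have hgs : g = s := by
          have : g = s⁻¹ := eq_inv_of_mul_eq_one_right h
          rw [this, hsinv]
        have h5 := hzo g hg.2 (by rw [hgs]; exact hs1)
        rw [hgs, hs] at h5
        norm_num at h5
    rw [Finset.sum_congr rfl hL, Finset.sum_congr rfl hR, Finset.sum_add_distrib,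
      Finset.sum_const, Finset.sum_const, hYcard, Finset.sum_ite_eq' , if_pos]
    · norm_num
    · rw [Finset.mem_filter]
      exact ⟨Finset.mem_univ _, one_mem _⟩
  -- orthogonality to the trivial character
  have h2 : ∑ g : G, ρ.character g = 0 := by
    rw [hρχ]
    have hne : χ ≠ trivIrr G := by
      intro h
      rw [h, charDegree_trivIrr] at hdeg
      norm_num at hdeg
    have := Cfsg.Agent.Lib.Helper4.classInner_irr_ne χ.2 (trivIrr G).2
      (fun h => hne (Subtype.ext h))
    unfold classInner at this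
    have hG0 : (Nat.card G : ℂ)⁻¹ ≠ 0 := inv_ne_zero (Nat.cast_ne_zero.2 Nat.card_pos.ne')
    rcases mul_eq_zero.1 this with h | h
    · exact absurd h hG0
    · rw [← h]
      refine Finset.sum_congr rfl fun g _ => ?_
      rw [trivIrr_apply, map_one, mul_one]
  -- the fixed points of the normalizer
  have hNcard : ((Finset.univ : Finset G).filter
      (fun g => g ∈ Subgroup.normalizer ((P : Subgroup G) : Set G))).card = 55 := by
    rw [← Fintype.card_subtype, ← Nat.card_eq_fintype_card]
    exact hN
  have hPcard' : ((Finset.univ : Finset G).filter (fun g => g ∈ (P : Subgroup G))).card = 11 := by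
    rw [← Fintype.card_subtype, ← Nat.card_eq_fintype_card]
    exact hPcard
  have h3 : ∑ g ∈ (Finset.univ : Finset G).filter
      (fun g => g ∈ Subgroup.normalizer ((P : Subgroup G) : Set G)), ρ.character g ≠ 0 := by
    rw [hρχ]
    have hF : ∀ g ∈ (Finset.univ : Finset G).filter
        (fun g => g ∈ Subgroup.normalizer ((P : Subgroup G) : Set G)),
        χ.1 g = (if g = 1 then (11 : ℂ) else 0) + (if g ∈ (P : Subgroup G) then 0 else 1) := by
      intro g hg
      rw [Finset.mem_filter] at hg
      by_cases hgP : g ∈ (P : Subgroup G)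
      · rw [if_pos hgP, add_zero]
        by_cases hg1 : g = 1
        · rw [if_pos hg1, hg1, apply_one, hdeg]; norm_num
        · rw [if_neg hg1]
          apply hχ11
          apply orderOf_eq_prime _ hg1
          have := pow_card_eq_one' (G := ↥(P : Subgroup G)) (x := ⟨g, hgP⟩)
          rw [hPcard] at this
          have h2 := congrArg Subtype.val this
          simpa using h2
      · rw [if_neg hgP]
        have hg1 : g ≠ 1 := by
          rintro rfl
          exact hgP (one_mem _)
        rw [if_neg hg1, zero_add]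
        exact hχ5 g (orderOf_of_mem_normalizer11 hG hn P hg.2 hgP)
    rw [Finset.sum_congr rfl hF, Finset.sum_add_distrib, Finset.sum_ite_eq', if_pos
      (by rw [Finset.mem_filter]; exact ⟨Finset.mem_univ _, one_mem _⟩),
      Finset.sum_ite, Finset.sum_const_zero, Finset.sum_const, zero_add]
    have hsub : ((Finset.univ : Finset G).filter
        (fun g => g ∈ Subgroup.normalizer ((P : Subgroup G) : Set G))).filter
        (fun g => g ∈ (P : Subgroup G)) =
        (Finset.univ : Finset G).filter (fun g => g ∈ (P : Subgroup G)) := by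
      ext g
      simp only [Finset.mem_filter, Finset.mem_univ, true_and]
      exact ⟨fun h => h.2, fun h => ⟨Subgroup.le_normalizer h, h⟩⟩
    have hcard := Finset.card_filter_add_card_filter_not (s := (Finset.univ : Finset G).filter
        (fun g => g ∈ Subgroup.normalizer ((P : Subgroup G) : Set G)))
        (fun g => g ∈ (P : Subgroup G))
    rw [hsub, hPcard', hNcard] at hcard
    have h44 : (((Finset.univ : Finset G).filter
        (fun g => g ∈ Subgroup.normalizer ((P : Subgroup G) : Set G))).filter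
        (fun g => ¬ g ∈ (P : Subgroup G))).card = 44 := by omega
    rw [h44]
    norm_num
  obtain ⟨L, hBL, hsL, hLtop⟩ := exists_subgroup_of_rep ρ
    (Subgroup.normalizer ((P : Subgroup G) : Set G)) (Subgroup.zpowers y)
    ((Subgroup.zpowers_le).2 hyN) s hss hsY h1 h2 h3
  refine ⟨L, hBL, hsL, ?_⟩
  obtain ⟨m, hm, hLm⟩ := card_of_normalizer_le P L hBL
  rw [hN] at hLm
  have hdvd : Nat.card L ∣ 7920 := by
    rw [← hn]; exact Subgroup.card_subgroup_dvd_card L
  have h2dvd : 2 ∣ Nat.card L := by
    have := orderOf_dvd_natCard (⟨s, hsL⟩ : L)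
    rwa [Subgroup.orderOf_mk, hs] at this
  have hne : Nat.card L ≠ 7920 := by
    intro h
    apply hLtop
    apply Subgroup.eq_top_of_card_eq
    rw [h, hn]
  rw [hLm] at hdvd h2dvd hne ⊢
  have hm144 : m ∣ 144 := by
    have : 11 * 5 * m ∣ 11 * 5 * 144 := by norm_num at hdvd ⊢; exact hdvd
    exact Nat.dvd_of_mul_dvd_mul_left (by norm_num) this
  have hmm : m % 11 = 1 := hm
  rcases divisors_144_mod11 m (Nat.mem_divisors.2 ⟨hm144, by norm_num⟩) hmm with rfl | rfl | rfl
  · norm_num at h2dvd
  · norm_num
  · norm_num at hne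

end Cfsg.Agent.Lib.Helper6.OrdS
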