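import Mathlib
import Cfsg.Agent.Lib.Helper6.OrdS5

/-!
# Simple groups of order `7920`: the configuration `(L, a, b, c)`

A subgroup `L` of index `12`, an element `a` of order `11` and an element `b` of order `5` of
`L` with `b a b⁻¹ = a ^ 4`, and an element `c` of order `4` outside `L` with `c b c⁻¹ = b ^ 2`,
generating the group.
-/

set_option autoImplicit false
set_option maxHeartbeats 1600000
set_option maxRecDepth 1000000

namespace Cfsg.Agent.Lib.Helper6.OrdS

open Cfsg Cfsg.Agent.Lib.Helper8 Cfsg.Agent.Lib.Helper6.OrdB Cfsg.Agent.Lib.Helper6.OrdD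
  Cfsg.Agent.Lib.Helper6.OrdK Cfsg.Agent.Lib.Helper6.OrdH Cfsg.Agent.Lib.Helper6.OrdL
  Cfsg.Agent.Lib.Helper6.OrdG Cfsg.Agent.Lib.Helper6.OrdQ Cfsg.Agent.Lib.Helper6.OrdF

universe u

/-- the configuration -/
structure Cfg (G : Type u) [Group G] where
  L : Subgroup G
  a : G
  b : G
  c : G
  hL : L.index = 12
  ha : orderOf a = 11
  hb : orderOf b = 5
  haL : a ∈ L
  hbL : b ∈ L
  hcL : c ∉ L
  hba : b * a * b⁻¹ = a ^ 4
  hcb : c * b * c⁻¹ = b ^ 2
  hc4 : c ^ 4 = 1
  hgen : Subgroup.closure {a, b, c} = ⊤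

variable {G : Type u} [Group G] [Fintype G] [IsSimpleGroup G] [Fintype (IrrCharacter G)]

/-- **The configuration exists** in every simple group of order `7920`. -/
theorem exists_cfg (hG : ¬ IsMulCommutative G) (hn : Nat.card G = 7920) : Nonempty (Cfg G) := by
  have h11 : Fact (Nat.Prime 11) := ⟨by norm_num⟩
  have h5 : Fact (Nat.Prime 5) := ⟨by norm_num⟩
  have h2 : Fact (Nat.Prime 2) := ⟨by norm_num⟩
  obtain ⟨P⟩ : Nonempty (Sylow 11 G) := inferInstance
  obtain ⟨hPcard, hN, -, -, -, hCP⟩ := cfg11 hG hn P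
  obtain ⟨a, ha, hPa, -⟩ := d1_sylow_data 11 P hPcard
  obtain ⟨b, hbN, hb, hba⟩ := exists_b hG hn P ha hPa
  -- the Sylow `5`-subgroup generated by `b`
  have hpg : IsPGroup 5 (Subgroup.zpowers b) :=
    IsPGroup.of_card (n := 1) (by rw [Nat.card_zpowers, hb, pow_one])
  obtain ⟨Q, hQ⟩ := hpg.exists_le_sylow
  have hbQ : b ∈ (Q : Subgroup G) := hQ (Subgroup.mem_zpowers b)
  obtain ⟨hQcard, hN5, -, -, -⟩ := five_core hG hn Q
  have hQb := sylow_eq_zpowers Q hQcard hbQ hb
  obtain ⟨c, hcN, hcb, hc4, hco⟩ := exists_c hG hn Q hb hQb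
  -- the involution
  have hs2 : (c ^ 2) ^ 2 = 1 := by rw [← pow_mul]; exact hc4
  have hs1 : c ^ 2 ≠ 1 := by
    intro h
    have := orderOf_dvd_of_pow_eq_one h
    rw [hco] at this
    norm_num at this
  have hso : orderOf (c ^ 2) = 2 := orderOf_eq_prime hs2 hs1
  have hsb : c ^ 2 * b * (c ^ 2)⁻¹ = b ^ 4 := by
    have := conj_pow_pow hcb 2 1
    rw [pow_one] at this
    rw [this]
    norm_num
  obtain ⟨L, hNL, hsL, hLcard⟩ := exists_card660 hG hn P hb hbN hso hsb
  have haP : a ∈ (P : Subgroup G) := by rw [hPa]; exact Subgroup.mem_zpowers a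
  have haN : a ∈ Subgroup.normalizer ((P : Subgroup G) : Set G) := Subgroup.le_normalizer haP
  have hbN5 : b ∈ Subgroup.normalizer ((Q : Subgroup G) : Set G) := Subgroup.le_normalizer hbQ
  have hclP : Subgroup.closure {a, b} = Subgroup.normalizer ((P : Subgroup G) : Set G) :=
    closure_pair_eq haN hbN (by rw [ha, hb]; norm_num) (by rw [hN, ha, hb])
  have hclQ : Subgroup.closure {b, c} = Subgroup.normalizer ((Q : Subgroup G) : Set G) :=
    closure_pair_eq hbN5 hcN (by rw [hb, hco]; norm_num) (by rw [hN5, hb, hco])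
  -- no subgroup of order `660` contains the normalizer of `Q`
  have hno : ∀ H : Subgroup G, Nat.card H = 660 →
      ¬ Subgroup.normalizer ((Q : Subgroup G) : Set G) ≤ H := by
    intro H hH hle
    obtain ⟨m, hm, hHm⟩ := card_of_normalizer_le Q H hle
    rw [hH, hN5] at hHm
    have : m = 33 := by omega
    rw [this] at hm
    exact absurd hm (by decide)
  have hLidx : L.index = 12 := by
    have := Subgroup.card_mul_index L
    rw [hLcard, hn] at this
    omega
  have hcL : c ∉ L := by
    intro hc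
    apply hno L hLcard
    rw [← hclQ, Subgroup.closure_le]
    intro z hz
    rcases hz with rfl | rfl
    · exact hNL hbN
    · exact hc
  -- generation
  have hgen : Subgroup.closure {a, b, c} = ⊤ := by
    have hab : Subgroup.normalizer ((P : Subgroup G) : Set G) ≤ Subgroup.closure {a, b, c} := by
      rw [← hclP]
      apply Subgroup.closure_mono
      intro z hz
      rcases hz with rfl | rfl
      · simp
      · simp
    have hbc : Subgroup.normalizer ((Q : Subgroup G) : Set G) ≤ Subgroup.closure {a, b, c} := by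
      rw [← hclQ]
      apply Subgroup.closure_mono
      intro z hz
      rcases hz with rfl | rfl
      · simp
      · simp
    obtain ⟨m, hm, hHm⟩ := card_of_normalizer_le P _ hab
    rw [hN] at hHm
    have hdvd : Nat.card (Subgroup.closure {a, b, c}) ∣ 7920 := by
      rw [← hn]; exact Subgroup.card_subgroup_dvd_card _
    have h4dvd : 4 ∣ Nat.card (Subgroup.closure {a, b, c}) := by
      have hc : c ∈ Subgroup.closure {a, b, c} := Subgroup.subset_closure (by simp)
      have := orderOf_dvd_natCard (⟨c, hc⟩ : Subgroup.closure {a, b, c})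
      rwa [Subgroup.orderOf_mk, hco] at this
    have hm144 : m ∣ 144 := by
      rw [hHm] at hdvd
      have : 11 * 5 * m ∣ 11 * 5 * 144 := by norm_num at hdvd ⊢; exact hdvd
      exact Nat.dvd_of_mul_dvd_mul_left (by norm_num) this
    have hmm : m % 11 = 1 := hm
    rcases divisors_144_mod11 m (Nat.mem_divisors.2 ⟨hm144, by norm_num⟩) hmm with rfl | rfl | rfl
    · rw [hHm] at h4dvd
      norm_num at h4dvd
    · exfalso
      exact hno _ (by rw [hHm]) hbc
    · apply Subgroup.eq_top_of_card_eq
      rw [hHm, hn]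
  exact ⟨{ L := L, a := a, b := b, c := c, hL := hLidx, ha := ha, hb := hb,
           haL := hNL haN, hbL := hNL hbN, hcL := hcL, hba := hba, hcb := hcb, hc4 := hc4,
           hgen := hgen }⟩

end Cfsg.Agent.Lib.Helper6.OrdS
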