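import Mathlib
import Cfsg.Agent.Lib.Helper6.OrdS6

/-!
# Simple groups of order `7920`: the permutation representation of degree `12`

The action on the cosets of the subgroup of index `12`, labelled by `ℤ/11 ∪ {∞}` by means of the
element of order `11`.
-/

set_option autoImplicit false
set_option maxHeartbeats 1600000
set_option maxRecDepth 1000000

namespace Cfsg.Agent.Lib.Helper6.OrdS

universe u

/-- the table of `x ↦ x + 1` on `ℤ/11 ∪ {∞}` -/
def TA : Fin 12 → Fin 12 := ![1, 2, 3, 4, 5, 6, 7, 8, 9, 10, 0, 11]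

/-- the table of `x ↦ 4 x` on `ℤ/11 ∪ {∞}` -/
def TB : Fin 12 → Fin 12 := ![0, 4, 8, 1, 5, 9, 2, 6, 10, 3, 7, 11]

theorem TB_fix : ∀ i : Fin 12, TB i = i → i = 0 ∨ i = 11 := by decide

variable {G : Type u} [Group G] [Finite G] [IsSimpleGroup G]

namespace Cfg

variable (K : Cfg G)

/-- the fixed point of `L` -/
def inf : G ⧸ K.L := ((1 : G) : G ⧸ K.L)

theorem smul_inf_iff (g : G) : g • K.inf = K.inf ↔ g ∈ K.L := by
  unfold inf
  rw [MulAction.Quotient.smul_coe, smul_eq_mul, mul_one, QuotientGroup.eq, mul_one,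
    inv_mem_iff]

theorem card_quot : Nat.card (G ⧸ K.L) = 12 := K.hL

instance : Finite (G ⧸ K.L) := inferInstance

/-- the action is faithful -/
theorem faithful {g : G} (h : ∀ ω : G ⧸ K.L, g • ω = ω) : g = 1 := by
  have hker : (MulAction.toPermHom G (G ⧸ K.L)).ker = ⊥ := by
    rcases (inferInstance : ((MulAction.toPermHom G (G ⧸ K.L)).ker).Normal).eq_bot_or_eq_top
      with h1 | h1
    · exact h1
    · exfalso
      have hall : ∀ x : G, x ∈ K.L := by
        intro x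
        rw [← K.smul_inf_iff]
        have hx : x ∈ (MulAction.toPermHom G (G ⧸ K.L)).ker := by rw [h1]; trivial
        rw [MonoidHom.mem_ker] at hx
        have := congrArg (fun σ : Equiv.Perm (G ⧸ K.L) => σ K.inf) hx
        simpa using this
      have : K.L = ⊤ := by
        ext x
        simp [hall x]
      have h12 := K.hL
      rw [this, Subgroup.index_top] at h12
      norm_num at h12
  have hg : g ∈ (MulAction.toPermHom G (G ⧸ K.L)).ker := by
    rw [MonoidHom.mem_ker]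
    ext ω
    simpa using h ω
  rw [hker] at hg
  exact Subgroup.mem_bot.1 hg

/-- the powers of `g` fix the points fixed by `g` -/
theorem fixed_of_mem_zpowers {g : G} {ω : G ⧸ K.L} (h : g • ω = ω) (x : Subgroup.zpowers g) :
    x • ω = ω := by
  have hle : Subgroup.zpowers g ≤ MulAction.stabilizer G ω :=
    Subgroup.zpowers_le.2 (MulAction.mem_stabilizer_iff.2 h)
  have := hle x.2
  rw [MulAction.mem_stabilizer_iff] at this
  exact this

/-- a second fixed point of `b` -/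
theorem exists_fixed_b : ∃ ω0 : G ⧸ K.L, ω0 ≠ K.inf ∧ K.b • ω0 = ω0 := by
  have h5 : Fact (Nat.Prime 5) := ⟨by norm_num⟩
  have hpg : IsPGroup 5 (Subgroup.zpowers K.b) :=
    IsPGroup.of_card (n := 1) (by rw [Nat.card_zpowers, K.hb, pow_one])
  have hmod := hpg.card_modEq_card_fixedPoints (G ⧸ K.L)
  rw [K.card_quot] at hmod
  by_contra hcon
  push Not at hcon
  have hsub : Subsingleton (MulAction.fixedPoints (Subgroup.zpowers K.b) (G ⧸ K.L)) := by
    refine ⟨fun x y => ?_⟩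
    have hx : (x : G ⧸ K.L) = K.inf := by
      by_contra hne
      apply hcon x hne
      have := x.2 ⟨K.b, Subgroup.mem_zpowers _⟩
      exact this
    have hy : (y : G ⧸ K.L) = K.inf := by
      by_contra hne
      apply hcon y hne
      have := y.2 ⟨K.b, Subgroup.mem_zpowers _⟩
      exact this
    exact Subtype.ext (hx.trans hy.symm)
  have hle : Nat.card (MulAction.fixedPoints (Subgroup.zpowers K.b) (G ⧸ K.L)) ≤ 1 :=
    Finite.card_le_one_iff_subsingleton.2 hsub
  unfold Nat.ModEq at hmod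
  omega

/-- `a` has no fixed point besides `∞` -/
theorem a_smul_ne {ω0 : G ⧸ K.L} (hω0 : ω0 ≠ K.inf) : K.a • ω0 ≠ ω0 := by
  intro hfix
  have h11 : Fact (Nat.Prime 11) := ⟨by norm_num⟩
  have hpg : IsPGroup 11 (Subgroup.zpowers K.a) :=
    IsPGroup.of_card (n := 1) (by rw [Nat.card_zpowers, K.ha, pow_one])
  have hmod := hpg.card_modEq_card_fixedPoints (G ⧸ K.L)
  rw [K.card_quot] at hmod
  have hinf : K.inf ∈ MulAction.fixedPoints (Subgroup.zpowers K.a) (G ⧸ K.L) :=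
    fun x => K.fixed_of_mem_zpowers ((K.smul_inf_iff K.a).2 K.haL) x
  have hω : ω0 ∈ MulAction.fixedPoints (Subgroup.zpowers K.a) (G ⧸ K.L) :=
    fun x => K.fixed_of_mem_zpowers hfix x
  have hnt : Nontrivial (MulAction.fixedPoints (Subgroup.zpowers K.a) (G ⧸ K.L)) :=
    ⟨⟨ω0, hω⟩, ⟨K.inf, hinf⟩, fun h => hω0 (congrArg Subtype.val h)⟩
  have h1 : 1 < Nat.card (MulAction.fixedPoints (Subgroup.zpowers K.a) (G ⧸ K.L)) :=
    Finite.one_lt_card
  have hall : ∀ ω : G ⧸ K.L, ω ∈ MulAction.fixedPoints (Subgroup.zpowers K.a) (G ⧸ K.L) := by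
    intro ω
    by_contra hne
    have := Finite.card_subtype_lt (p := fun ω : G ⧸ K.L =>
      ω ∈ MulAction.fixedPoints (Subgroup.zpowers K.a) (G ⧸ K.L)) hne
    rw [K.card_quot] at this
    have h2 : Nat.card (MulAction.fixedPoints (Subgroup.zpowers K.a) (G ⧸ K.L)) < 12 := this
    unfold Nat.ModEq at hmod
    omega
  have ha1 : K.a = 1 := by
    apply K.faithful
    intro ω
    exact hall ω ⟨K.a, Subgroup.mem_zpowers _⟩
  have := K.ha
  rw [ha1, orderOf_one] at this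
  norm_num at this

/-- the points `a ^ n • ω0` -/
def pt (ω0 : G ⧸ K.L) (n : ℕ) : G ⧸ K.L := K.a ^ n • ω0

theorem a_smul_pt (ω0 : G ⧸ K.L) (n : ℕ) : K.a • K.pt ω0 n = K.pt ω0 (n + 1) := by
  unfold pt
  rw [smul_smul, ← pow_succ']

theorem pt_add (ω0 : G ⧸ K.L) (n : ℕ) : K.pt ω0 (n + 11) = K.pt ω0 n := by
  unfold pt
  have h11 : K.a ^ 11 = 1 := by rw [← K.ha]; exact pow_orderOf_eq_one _
  rw [pow_add, h11, mul_one]

theorem b_smul_pt {ω0 : G ⧸ K.L} (hb : K.b • ω0 = ω0) (n : ℕ) :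
    K.b • K.pt ω0 n = K.pt ω0 (n * 4) := by
  unfold pt
  have h := conj_pow_pow K.hba 1 n
  rw [pow_one, pow_one] at h
  have h2 : K.b * K.a ^ n = K.a ^ (n * 4) * K.b := by
    rw [← h]; group
  rw [smul_smul, h2, ← smul_smul, hb]

theorem pt_ne_inf {ω0 : G ⧸ K.L} (hω0 : ω0 ≠ K.inf) (n : ℕ) : K.pt ω0 n ≠ K.inf := by
  unfold pt
  intro h
  apply hω0
  have h2 : (K.a ^ n)⁻¹ • (K.a ^ n • ω0) = (K.a ^ n)⁻¹ • K.inf := by rw [h]
  rw [inv_smul_smul] at h2
  rw [h2]
  exact (K.smul_inf_iff _).2 (K.L.inv_mem (K.L.pow_mem K.haL n))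

theorem pt_inj {ω0 : G ⧸ K.L} (hω0 : ω0 ≠ K.inf) {i j : ℕ} (hi : i < 11) (hj : j < 11)
    (h : K.pt ω0 i = K.pt ω0 j) : i = j := by
  have key : ∀ i j : ℕ, i < j → j < 11 → K.pt ω0 i = K.pt ω0 j → False := by
    intro i j hij hj h
    unfold pt at h
    have hd : K.a ^ (j - i) • ω0 = ω0 := by
      have h2 : (K.a ^ i)⁻¹ • (K.a ^ i • ω0) = (K.a ^ i)⁻¹ • (K.a ^ j • ω0) := by rw [h]
      rw [inv_smul_smul, smul_smul] at h2
      have h3 : (K.a ^ i)⁻¹ * K.a ^ j = K.a ^ (j - i) := by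
        have : K.a ^ j = K.a ^ i * K.a ^ (j - i) := by
          rw [← pow_add]; congr 1; omega
        rw [this]; group
      rw [h3] at h2
      exact h2.symm
    have hcop : Nat.Coprime (j - i) 11 := by
      refine (Nat.Coprime.symm ?_)
      rw [Nat.Prime.coprime_iff_not_dvd (by norm_num)]
      intro hdvd
      have := Nat.le_of_dvd (by omega) hdvd
      omega
    obtain ⟨u, -, hu⟩ := Nat.exists_mul_mod_eq_one_of_coprime hcop (by norm_num)
    have h11 : K.a ^ 11 = 1 := by rw [← K.ha]; exact pow_orderOf_eq_one _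
    have hau : K.a ^ ((j - i) * u) = K.a := by
      have h1 : (j - i) * u = 11 * ((j - i) * u / 11) + 1 := by
        have := Nat.div_add_mod ((j - i) * u) 11
        omega
      rw [h1, pow_add, pow_mul, h11, one_pow, one_mul, pow_one]
    apply K.a_smul_ne hω0
    have hst : K.a ^ (j - i) ∈ MulAction.stabilizer G ω0 := MulAction.mem_stabilizer_iff.2 hd
    have := (MulAction.stabilizer G ω0).pow_mem hst u
    rw [← pow_mul, hau, MulAction.mem_stabilizer_iff] at this
    exact this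
  rcases Nat.lt_trichotomy i j with h1 | h1 | h1
  · exact (key i j h1 hj h).elim
  · exact h1
  · exact (key j i h1 hi h.symm).elim

/-- the labelling of the cosets -/
def lab (ω0 : G ⧸ K.L) (i : Fin 12) : G ⧸ K.L := if i = 11 then K.inf else K.pt ω0 i.val

theorem lab_injective {ω0 : G ⧸ K.L} (hω0 : ω0 ≠ K.inf) : Function.Injective (K.lab ω0) := by
  intro i j h
  unfold lab at h
  by_cases hi : i = 11
  · by_cases hj : j = 11
    · rw [hi, hj]
    · rw [if_pos hi, if_neg hj] at h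
      exact absurd h.symm (K.pt_ne_inf hω0 _)
  · by_cases hj : j = 11
    · rw [if_neg hi, if_pos hj] at h
      exact absurd h (K.pt_ne_inf hω0 _)
    · rw [if_neg hi, if_neg hj] at h
      have hi' : i.val < 11 := by
        have : i.val ≠ 11 := fun h => hi (Fin.ext h)
        omega
      have hj' : j.val < 11 := by
        have : j.val ≠ 11 := fun h => hj (Fin.ext h)
        omega
      exact Fin.ext (K.pt_inj hω0 hi' hj' h)

theorem lab_bijective {ω0 : G ⧸ K.L} (hω0 : ω0 ≠ K.inf) : Function.Bijective (K.lab ω0) := by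
  have : Fintype (G ⧸ K.L) := Fintype.ofFinite _
  rw [Fintype.bijective_iff_injective_and_card]
  refine ⟨K.lab_injective hω0, ?_⟩
  rw [Fintype.card_fin, ← Nat.card_eq_fintype_card, K.card_quot]

theorem a_smul_lab (ω0 : G ⧸ K.L) (i : Fin 12) : K.a • K.lab ω0 i = K.lab ω0 (TA i) := by
  have hinf : K.a • K.inf = K.inf := (K.smul_inf_iff _).2 K.haL
  have h0 := K.pt_add ω0 0
  fin_cases i <;> simp [lab, TA, hinf, a_smul_pt, h0]

theorem b_smul_lab {ω0 : G ⧸ K.L} (hb : K.b • ω0 = ω0) (i : Fin 12) :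
    K.b • K.lab ω0 i = K.lab ω0 (TB i) := by
  have hinf : K.b • K.inf = K.inf := (K.smul_inf_iff _).2 K.hbL
  have h1 := K.pt_add ω0
  fin_cases i
  · simp [lab, TB, K.b_smul_pt hb]
  · simp [lab, TB, K.b_smul_pt hb]
  · simp [lab, TB, K.b_smul_pt hb]
  · simp [lab, TB, K.b_smul_pt hb]; exact h1 1
  · simp [lab, TB, K.b_smul_pt hb]; rw [← h1 5]
  · simp [lab, TB, K.b_smul_pt hb]; rw [← h1 9]
  · simp [lab, TB, K.b_smul_pt hb]; rw [← h1 2, ← h1 13]
  · simp [lab, TB, K.b_smul_pt hb]; rw [← h1 6, ← h1 17]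
  · simp [lab, TB, K.b_smul_pt hb]; rw [← h1 10, ← h1 21]
  · simp [lab, TB, K.b_smul_pt hb]; rw [← h1 3, ← h1 14, ← h1 25]
  · simp [lab, TB, K.b_smul_pt hb]; rw [← h1 7, ← h1 18, ← h1 29]
  · simp [lab, TB, hinf]

/-- the fixed points of `b` -/
theorem fixed_b {ω0 : G ⧸ K.L} (hω0 : ω0 ≠ K.inf) (hb : K.b • ω0 = ω0) {ω : G ⧸ K.L}
    (h : K.b • ω = ω) : ω = K.inf ∨ ω = ω0 := by
  obtain ⟨i, rfl⟩ := (K.lab_bijective hω0).2 ω
  rw [K.b_smul_lab hb] at h
  have := K.lab_injective hω0 h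
  rcases TB_fix i this with rfl | rfl
  · right; simp [lab, pt]
  · left; simp [lab]

/-- `c` permutes the fixed points of `b` -/
theorem c_smul_fixed {ω : G ⧸ K.L} (h : K.b • ω = ω) : K.b • (K.c • ω) = K.c • ω := by
  have h1 : K.b ^ 2 * K.c = K.c * K.b := by rw [← K.hcb]; group
  have h2 : K.b ^ 2 • (K.c • ω) = K.c • ω := by rw [smul_smul, h1, ← smul_smul, h]
  have hb5 : K.b ^ 5 = 1 := by rw [← K.hb]; exact pow_orderOf_eq_one _
  have h3 : (K.b ^ 2) ^ 3 = K.b := by
    rw [← pow_mul]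
    calc K.b ^ (2 * 3) = K.b ^ 5 * K.b := by rw [← pow_succ]
      _ = K.b := by rw [hb5, one_mul]
  have hst : K.b ^ 2 ∈ MulAction.stabilizer G (K.c • ω) := MulAction.mem_stabilizer_iff.2 h2
  have := (MulAction.stabilizer G (K.c • ω)).pow_mem hst 3
  rw [h3, MulAction.mem_stabilizer_iff] at this
  exact this

/-- `c` interchanges the two fixed points of `b` -/
theorem c_smul_swap {ω0 : G ⧸ K.L} (hω0 : ω0 ≠ K.inf) (hb : K.b • ω0 = ω0) :
    K.c • K.inf = ω0 ∧ K.c • ω0 = K.inf := by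
  have hbinf : K.b • K.inf = K.inf := (K.smul_inf_iff _).2 K.hbL
  have h1 : K.c • K.inf = ω0 := by
    rcases K.fixed_b hω0 hb (K.c_smul_fixed hbinf) with h | h
    · exact absurd ((K.smul_inf_iff _).1 h) K.hcL
    · exact h
  refine ⟨h1, ?_⟩
  rcases K.fixed_b hω0 hb (K.c_smul_fixed hb) with h | h
  · exact h
  · exfalso
    apply hω0
    have : K.c • ω0 = K.c • K.inf := by rw [h, h1]
    exact smul_left_cancel _ this

/-- the permutation representation on the labels -/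
noncomputable def perm {ω0 : G ⧸ K.L} (hω0 : ω0 ≠ K.inf) : G →* Equiv.Perm (Fin 12) :=
  ((Equiv.ofBijective _ (K.lab_bijective hω0)).symm.permCongrHom.toMonoidHom).comp
    (MulAction.toPermHom G (G ⧸ K.L))

theorem lab_perm {ω0 : G ⧸ K.L} (hω0 : ω0 ≠ K.inf) (g : G) (i : Fin 12) :
    K.lab ω0 (K.perm hω0 g i) = g • K.lab ω0 i := by
  unfold perm
  simp only [MonoidHom.coe_comp, MulEquiv.coe_toMonoidHom, Function.comp_apply]
  show K.lab ω0 ((Equiv.ofBijective _ (K.lab_bijective hω0)).symm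
    (g • (Equiv.ofBijective _ (K.lab_bijective hω0)) i)) = _
  exact (Equiv.ofBijective _ (K.lab_bijective hω0)).apply_symm_apply _

theorem perm_eq_of_smul {ω0 : G ⧸ K.L} (hω0 : ω0 ≠ K.inf) {g : G} {T : Fin 12 → Fin 12}
    (h : ∀ i, g • K.lab ω0 i = K.lab ω0 (T i)) (i : Fin 12) : K.perm hω0 g i = T i := by
  apply K.lab_injective hω0
  rw [K.lab_perm hω0, h]

theorem perm_injective {ω0 : G ⧸ K.L} (hω0 : ω0 ≠ K.inf) : Function.Injective (K.perm hω0) := by
  rw [injective_iff_map_eq_one]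
  intro g hg
  apply K.faithful
  intro ω
  obtain ⟨i, rfl⟩ := (K.lab_bijective hω0).2 ω
  rw [← K.lab_perm hω0, hg]
  rfl

/-- **The permutation representation of degree `12`.** -/
theorem exists_perm_rep : ∃ φ : G →* Equiv.Perm (Fin 12), Function.Injective φ ∧
    (∀ i, φ K.a i = TA i) ∧ (∀ i, φ K.b i = TB i) ∧ φ K.c 11 = 0 ∧ φ K.c 0 = 11 := by
  obtain ⟨ω0, hω0, hb⟩ := K.exists_fixed_b
  obtain ⟨hc1, hc2⟩ := K.c_smul_swap hω0 hb
  refine ⟨K.perm hω0, K.perm_injective hω0, K.perm_eq_of_smul hω0 (K.a_smul_lab ω0),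
    K.perm_eq_of_smul hω0 (K.b_smul_lab hb), ?_, ?_⟩
  · apply K.lab_injective hω0
    rw [K.lab_perm hω0]
    have h11 : K.lab ω0 11 = K.inf := by simp [lab]
    have h0 : K.lab ω0 0 = ω0 := by simp [lab, pt]
    rw [h11, h0, hc1]
  · apply K.lab_injective hω0
    rw [K.lab_perm hω0]
    have h11 : K.lab ω0 11 = K.inf := by simp [lab]
    have h0 : K.lab ω0 0 = ω0 := by simp [lab, pt]
    rw [h11, h0, hc2]

end Cfg

end Cfsg.Agent.Lib.Helper6.OrdS
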