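import Mathlib
import Cfsg.Agent.Lib.Helper6.OrdS7

/-!
# The permutations of `ℤ/11 ∪ {∞}` interchanging `0` and `∞` and normalizing `x ↦ 4 x`

Such a permutation `γ` with `γ (4 x) = 5 γ (x)` is determined by `γ 1` and `γ 2`.  If the group
generated by `x ↦ x + 1`, `x ↦ 4 x` and `γ` has exponent dividing `7920` and `γ ^ 4 = 1`, then
there are ten possibilities for `γ`.
-/

set_option autoImplicit false
set_option maxHeartbeats 4000000
set_option maxRecDepth 1000000

namespace Cfsg.Agent.Lib.Helper6.OrdS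

/-- the inverse of `TA` -/
def TAi : Fin 12 → Fin 12 := ![10, 0, 1, 2, 3, 4, 5, 6, 7, 8, 9, 11]

/-- the inverse of `TB` -/
def TBi : Fin 12 → Fin 12 := ![0, 3, 6, 9, 1, 4, 7, 10, 2, 5, 8, 11]

/-- the table of `γ` in terms of `γ 1` and `γ 2` -/
def TC (f1 f2 : Fin 12) : Fin 12 → Fin 12 :=
  ![11, f1, f2, TB (TB (TB f1)), TB (TB f1), TB (TB (TB (TB f1))), TB (TB (TB f2)), TB f2,
    TB (TB f2), TB f1, TB (TB (TB (TB f2))), 0]

/-- the permutation `x ↦ x + 1` -/
def permA : Equiv.Perm (Fin 12) := ⟨TA, TAi, by decide, by decide⟩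

/-- the permutation `x ↦ 4 x` -/
def permB : Equiv.Perm (Fin 12) := ⟨TB, TBi, by decide, by decide⟩

theorem TB_pow5 : ∀ i : Fin 12, TB (TB (TB (TB (TB i)))) = i := by decide

/-- `γ` is determined by `γ 1` and `γ 2` -/
theorem eq_TC (γ : Equiv.Perm (Fin 12)) (h11 : γ 11 = 0) (h0 : γ 0 = 11)
    (hrel : ∀ i, γ (TB i) = TB (TB (γ i))) : ∀ i, γ i = TC (γ 1) (γ 2) i := by
  have h4 : γ 4 = TB (TB (γ 1)) := hrel 1
  have h5 : γ 5 = TB (TB (γ 4)) := hrel 4
  have h9 : γ 9 = TB (TB (γ 5)) := hrel 5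
  have h3 : γ 3 = TB (TB (γ 9)) := hrel 9
  have h8 : γ 8 = TB (TB (γ 2)) := hrel 2
  have h10 : γ 10 = TB (TB (γ 8)) := hrel 8
  have h7 : γ 7 = TB (TB (γ 10)) := hrel 10
  have h6 : γ 6 = TB (TB (γ 7)) := hrel 7
  intro i
  fin_cases i
  · exact h0
  · rfl
  · rfl
  · show γ 3 = TB (TB (TB (γ 1)))
    rw [h3, h9, h5, h4, TB_pow5]
  · exact h4
  · show γ 5 = TB (TB (TB (TB (γ 1))))
    rw [h5, h4]
  · show γ 6 = TB (TB (TB (γ 2)))
    rw [h6, h7, h10, h8, TB_pow5]
  · show γ 7 = TB (γ 2)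
    rw [h7, h10, h8, TB_pow5]
  · exact h8
  · show γ 9 = TB (γ 1)
    rw [h9, h5, h4, TB_pow5]
  · show γ 10 = TB (TB (TB (TB (γ 2))))
    rw [h10, h8]
  · exact h11

/-- the three tables -/
def tabs (f1 f2 : Fin 12) : Fin 3 → Fin 12 → Fin 12 := ![TA, TB, TC f1 f2]

/-- evaluation of a word in the tables at a point -/
def evw (T : Fin 3 → Fin 12 → Fin 12) (w : List (Fin 3)) (x : Fin 12) : Fin 12 :=
  w.foldr (fun j acc => T j acc) x

/-- the three generators -/
def gens (γ : Equiv.Perm (Fin 12)) : Fin 3 → Equiv.Perm (Fin 12) := ![permA, permB, γ]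

/-- evaluation of a word in the generators -/
def evalP (γ : Equiv.Perm (Fin 12)) (w : List (Fin 3)) : Equiv.Perm (Fin 12) :=
  (w.map (gens γ)).prod

theorem evalP_apply (γ : Equiv.Perm (Fin 12)) (f1 f2 : Fin 12) (hγ : ∀ i, γ i = TC f1 f2 i)
    (w : List (Fin 3)) (x : Fin 12) : evalP γ w x = evw (tabs f1 f2) w x := by
  induction w with
  | nil => rfl
  | cons j w ih =>
    unfold evalP evw at ih ⊢
    rw [List.map_cons, List.prod_cons, List.foldr_cons, Equiv.Perm.mul_apply, ih]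
    fin_cases j
    · rfl
    · rfl
    · exact hγ _

/-- the words used in the refutations -/
def words : List (List (Fin 3)) :=
  [[0, 0, 2, 0, 2], [0, 2, 0, 2, 2], [0, 0, 2, 1, 1], [0, 1, 0, 2], [0, 0, 1, 2], [0, 1, 2],
   [0, 0, 2, 1], [0, 2], [0, 2, 1], [0, 0, 0, 2], [0, 0, 1, 2, 1]]

/-- the ten possibilities -/
def validB (f1 f2 : Fin 12) : Bool :=
  decide ((f1, f2) ∈ [((2 : Fin 12), (4 : Fin 12)), (2, 5), (6, 1), (6, 4), (7, 1), (7, 3), (8, 5),
    (8, 9), (10, 3), (10, 9)])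

/-- refutation by the fourth power of `γ` -/
def certA (f1 f2 : Fin 12) : Bool :=
  (List.finRange 12).any fun x => decide ((TC f1 f2)^[4] x ≠ x)

/-- refutation by a cycle of length `7` -/
def certB (f1 f2 : Fin 12) : Bool :=
  words.any fun w => (List.finRange 12).any fun x =>
    decide ((evw (tabs f1 f2) w)^[7] x = x) && decide ((evw (tabs f1 f2) w)^[3] x ≠ x)

/-- the check of a pair `(γ 1, γ 2)` -/
def chk (f1 f2 : Fin 12) : Bool := validB f1 f2 || (certA f1 f2 || certB f1 f2)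

theorem chk_all : ∀ f1 f2 : Fin 12, chk f1 f2 = true := by decide

/-- iterating a function with a cycle of length `7` -/
theorem iterate_7920 {f : Fin 12 → Fin 12} {x : Fin 12} (h7 : f^[7] x = x) :
    f^[7920] x = f^[3] x := by
  have h : (7920 : ℕ) = 3 + 7 * 1131 := by norm_num
  rw [h, Function.iterate_add_apply, Function.iterate_mul]
  congr 1
  exact Function.iterate_fixed h7 1131

/-- **The ten possibilities** for `γ`. -/
theorem gamma_valid (γ : Equiv.Perm (Fin 12)) (h11 : γ 11 = 0) (h0 : γ 0 = 11)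
    (hrel : ∀ i, γ (TB i) = TB (TB (γ i))) (h4 : γ ^ 4 = 1)
    (hord : ∀ w : List (Fin 3), (evalP γ w) ^ 7920 = 1) :
    validB (γ 1) (γ 2) = true ∧ ∀ i, γ i = TC (γ 1) (γ 2) i := by
  have hγ := eq_TC γ h11 h0 hrel
  refine ⟨?_, hγ⟩
  have hchk := chk_all (γ 1) (γ 2)
  unfold chk at hchk
  rw [Bool.or_eq_true, Bool.or_eq_true] at hchk
  rcases hchk with h | h | h
  · exact h
  · exfalso
    unfold certA at h
    rw [List.any_eq_true] at h
    obtain ⟨x, -, hx⟩ := h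
    rw [decide_eq_true_eq] at hx
    apply hx
    have hfun : TC (γ 1) (γ 2) = ⇑γ := funext fun i => (hγ i).symm
    rw [hfun, Equiv.Perm.iterate_eq_pow, h4]
    rfl
  · exfalso
    unfold certB at h
    rw [List.any_eq_true] at h
    obtain ⟨w, -, hw⟩ := h
    rw [List.any_eq_true] at hw
    obtain ⟨x, -, hx⟩ := hw
    rw [Bool.and_eq_true, decide_eq_true_eq, decide_eq_true_eq] at hx
    obtain ⟨hx7, hx3⟩ := hx
    apply hx3
    have hfun : evw (tabs (γ 1) (γ 2)) w = ⇑(evalP γ w) :=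
      funext fun i => (evalP_apply γ _ _ hγ w i).symm
    rw [← iterate_7920 hx7, hfun, Equiv.Perm.iterate_eq_pow, hord w]
    rfl

end Cfsg.Agent.Lib.Helper6.OrdS
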