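import Mathlib
import Cfsg.Agent.Lib.Helper6.OrdS8

/-!
# Simple groups of order `7920`: uniqueness

Every simple group of order `7920` is isomorphic to the subgroup of the symmetric group of
degree `12` generated by three explicit permutations.
-/

set_option autoImplicit false
set_option maxHeartbeats 4000000
set_option maxRecDepth 1000000

namespace Cfsg.Agent.Lib.Helper6.OrdS

universe u

/-- multiplication by `k` on `ℤ/11 ∪ {∞}` -/
def TT (k : ℕ) : Fin 12 → Fin 12 :=
  fun x => if x = 11 then 11 else ⟨(k * x.val) % 11, by omega⟩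

/-- the standard third generator -/
def permC0 : Equiv.Perm (Fin 12) :=
  ⟨TC 10 3, ![11, 7, 3, 2, 8, 6, 4, 9, 5, 10, 1, 0], by decide, by decide⟩

/-- the standard copy of the simple group of order `7920` -/
def K0 : Subgroup (Equiv.Perm (Fin 12)) := Subgroup.closure {permA, permB, permC0}

/-- conjugation of a representation into the standard copy -/
theorem conj_std {G : Type u} [Group G] (φ : G →* Equiv.Perm (Fin 12))
    (hinj : Function.Injective φ) (a b c : G) (ha : a ^ 11 = 1)
    (hgen : Subgroup.closure {a, b, c} = ⊤) (hA : ∀ i, φ a i = TA i) (hB : ∀ i, φ b i = TB i)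
    (f1 f2 : Fin 12) (hC : ∀ i, φ c i = TC f1 f2 i) (k m : ℕ) (hkm : k * m % 11 = 1)
    (h0 : ∀ i, TT m (TT k i) = i) (h0' : ∀ i, TT k (TT m i) = i)
    (h1 : ∀ i, TT k (TA^[m] (TT m i)) = TA i) (h2 : ∀ i, TT k (TB (TT m i)) = TB i)
    (h3 : ∀ i, TT k (TC f1 f2 (TT m i)) = TC 10 3 i) : Nonempty (G ≃* K0) := by
  obtain ⟨τ, hτ⟩ : ∃ τ : Equiv.Perm (Fin 12), τ = ⟨TT k, TT m, h0, h0'⟩ := ⟨_, rfl⟩
  have hτ1 : ∀ i, τ i = TT k i := by intro i; rw [hτ]; rfl
  have hτ2 : ∀ i, τ⁻¹ i = TT m i := by intro i; rw [hτ]; rfl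
  obtain ⟨ψ, hψdef⟩ : ∃ ψ : G →* Equiv.Perm (Fin 12),
      ψ = (MulAut.conj τ).toMonoidHom.comp φ := ⟨_, rfl⟩
  have hψ : ∀ g i, ψ g i = τ (φ g (τ⁻¹ i)) := by
    intro g i
    rw [hψdef]
    simp [MulAut.conj_apply]
  have hψinj : Function.Injective ψ := by
    rw [hψdef]
    exact (MulAut.conj τ).injective.comp hinj
  have hψa : ψ (a ^ m) = permA := by
    ext i
    rw [hψ, map_pow, ← Equiv.Perm.iterate_eq_pow]
    have hfun : ⇑(φ a) = TA := funext hA
    rw [hfun, hτ1, hτ2, h1]
    rfl
  have hψb : ψ b = permB := by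
    ext i
    rw [hψ, hB, hτ1, hτ2, h2]
    rfl
  have hψc : ψ c = permC0 := by
    ext i
    rw [hψ, hC, hτ1, hτ2, h3]
    rfl
  have hgen' : Subgroup.closure {a ^ m, b, c} = ⊤ := by
    rw [eq_top_iff, ← hgen, Subgroup.closure_le]
    intro z hz
    rcases hz with rfl | rfl | rfl
    · have h5 : z = (z ^ m) ^ k := by
        rw [← pow_mul]
        have h6 : m * k = 11 * (m * k / 11) + 1 := by
          have := Nat.div_add_mod (m * k) 11
          rw [mul_comm m k] at this ⊢
          omega
        rw [h6, pow_add, pow_mul, ha, one_pow, one_mul, pow_one]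
      have hmem : (z ^ m) ^ k ∈ Subgroup.closure {z ^ m, b, c} :=
        Subgroup.pow_mem _ (Subgroup.subset_closure (by simp)) k
      rw [← h5] at hmem
      exact hmem
    · exact Subgroup.subset_closure (by simp)
    · exact Subgroup.subset_closure (by simp)
  have hrange : ψ.range = K0 := by
    rw [MonoidHom.range_eq_map, ← hgen', MonoidHom.map_closure, Set.image_insert_eq,
      Set.image_insert_eq, Set.image_singleton, hψa, hψb, hψc]
    rfl
  exact ⟨(MonoidHom.ofInjective hψinj).trans (MulEquiv.subgroupCongr hrange)⟩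

open Cfsg in
/-- **Uniqueness of the simple group of order `7920`.** -/
theorem iso_K0 {G : Type u} [Group G] [Finite G] [IsSimpleGroup G] (hn : Nat.card G = 7920) :
    Nonempty (G ≃* K0) := by
  classical
  have : Fintype G := Fintype.ofFinite G
  have : Fintype (IrrCharacter G) := Fintype.ofFinite _
  have hnc : ¬ IsMulCommutative G := by
    intro hc
    letI : CommGroup G := { (inferInstance : Group G) with mul_comm := hc.is_comm.comm }
    have hp : (Nat.card G).Prime := IsSimpleGroup.prime_card (α := G)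
    rw [hn] at hp
    norm_num at hp
  obtain ⟨K⟩ := exists_cfg hnc hn
  obtain ⟨φ, hinj, hA, hB, hc11, hc0⟩ := K.exists_perm_rep
  have ha11 : K.a ^ 11 = 1 := by rw [← K.ha]; exact pow_orderOf_eq_one _
  have hrel : ∀ i, φ K.c (TB i) = TB (TB (φ K.c i)) := by
    intro i
    have h1 : K.c * K.b = K.b * K.b * K.c := by
      rw [← pow_two, ← K.hcb]; group
    have h2 := congrArg (fun σ : Equiv.Perm (Fin 12) => σ i) (congrArg φ h1)
    simp only [map_mul, Equiv.Perm.mul_apply] at h2
    rw [hB, hB, hB] at h2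
    exact h2
  have h4 : φ K.c ^ 4 = 1 := by rw [← map_pow, K.hc4, map_one]
  have hgens : (fun j => φ ((![K.a, K.b, K.c] : Fin 3 → G) j)) = gens (φ K.c) := by
    funext j
    fin_cases j
    · exact Equiv.ext hA
    · exact Equiv.ext hB
    · rfl
  have hord : ∀ w : List (Fin 3), (evalP (φ K.c) w) ^ 7920 = 1 := by
    intro w
    have h1 : evalP (φ K.c) w = φ ((w.map (![K.a, K.b, K.c] : Fin 3 → G)).prod) := by
      unfold evalP
      rw [map_list_prod, List.map_map, ← hgens]
      rfl
    rw [h1, ← map_pow]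
    have h2 : ((w.map (![K.a, K.b, K.c] : Fin 3 → G)).prod) ^ 7920 = 1 := by
      rw [← hn]; exact pow_card_eq_one'
    rw [h2, map_one]
  obtain ⟨hval, hγ⟩ := gamma_valid (φ K.c) hc11 hc0 hrel h4 hord
  unfold validB at hval
  rw [decide_eq_true_eq] at hval
  simp only [List.mem_cons, List.not_mem_nil, or_false] at hval
  rcases hval with h | h | h | h | h | h | h | h | h | h
  · obtain ⟨e1, e2⟩ := Prod.mk.inj h
    rw [e1, e2] at hγ
    exact conj_std φ hinj K.a K.b K.c ha11 K.hgen hA hB 2 4 hγ 10 10 (by decide) (by decide)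
      (by decide) (by decide) (by decide) (by decide)
  · obtain ⟨e1, e2⟩ := Prod.mk.inj h
    rw [e1, e2] at hγ
    exact conj_std φ hinj K.a K.b K.c ha11 K.hgen hA hB 2 5 hγ 9 5 (by decide) (by decide)
      (by decide) (by decide) (by decide) (by decide)
  · obtain ⟨e1, e2⟩ := Prod.mk.inj h
    rw [e1, e2] at hγ
    exact conj_std φ hinj K.a K.b K.c ha11 K.hgen hA hB 6 1 hγ 8 7 (by decide) (by decide)
      (by decide) (by decide) (by decide) (by decide)
  · obtain ⟨e1, e2⟩ := Prod.mk.inj h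
    rw [e1, e2] at hγ
    exact conj_std φ hinj K.a K.b K.c ha11 K.hgen hA hB 6 4 hγ 5 9 (by decide) (by decide)
      (by decide) (by decide) (by decide) (by decide)
  · obtain ⟨e1, e2⟩ := Prod.mk.inj h
    rw [e1, e2] at hγ
    exact conj_std φ hinj K.a K.b K.c ha11 K.hgen hA hB 7 1 hγ 4 3 (by decide) (by decide)
      (by decide) (by decide) (by decide) (by decide)
  · obtain ⟨e1, e2⟩ := Prod.mk.inj h
    rw [e1, e2] at hγ
    exact conj_std φ hinj K.a K.b K.c ha11 K.hgen hA hB 7 3 hγ 2 6 (by decide) (by decide)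
      (by decide) (by decide) (by decide) (by decide)
  · obtain ⟨e1, e2⟩ := Prod.mk.inj h
    rw [e1, e2] at hγ
    exact conj_std φ hinj K.a K.b K.c ha11 K.hgen hA hB 8 5 hγ 7 8 (by decide) (by decide)
      (by decide) (by decide) (by decide) (by decide)
  · obtain ⟨e1, e2⟩ := Prod.mk.inj h
    rw [e1, e2] at hγ
    exact conj_std φ hinj K.a K.b K.c ha11 K.hgen hA hB 8 9 hγ 3 4 (by decide) (by decide)
      (by decide) (by decide) (by decide) (by decide)
  · obtain ⟨e1, e2⟩ := Prod.mk.inj h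
    rw [e1, e2] at hγ
    exact conj_std φ hinj K.a K.b K.c ha11 K.hgen hA hB 10 3 hγ 1 1 (by decide) (by decide)
      (by decide) (by decide) (by decide) (by decide)
  · obtain ⟨e1, e2⟩ := Prod.mk.inj h
    rw [e1, e2] at hγ
    exact conj_std φ hinj K.a K.b K.c ha11 K.hgen hA hB 10 9 hγ 6 2 (by decide) (by decide)
      (by decide) (by decide) (by decide) (by decide)

end Cfsg.Agent.Lib.Helper6.OrdS
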