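import Mathlib
import Cfsg.Prelude.Def_Spor_Mathieu
import Cfsg.Agent.Lib.Helper6.CGr3
import Cfsg.Agent.Lib.Helper6.OrdS9
import Cfsg.Agent.Lib.Helper6.OrdQ3
import Cfsg.Agent.S0387
import Cfsg.Agent.S0388

/-!
# Commuting graphs: the smallest Mathieu group is determined by its commuting graph
-/

set_option autoImplicit false
set_option linter.style.haveILetI false

namespace Cfsg.Agent.Lib.Helper6.CGr

open Cfsg MulAction Subgroup
open scoped Pointwise

noncomputable section

theorem sqDodecad_mem : Cfsg.Spor.squareDodecad ∈ dodecads :=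
  ⟨⟨qrWord 0, Submodule.subset_span (Or.inl ⟨0, rfl⟩), rfl⟩, by decide⟩

theorem zero_mem_sqDodecad : (some 0 : GolayPt) ∈ Cfsg.Spor.squareDodecad := by decide

/-- the smallest Mathieu group, as a subgroup of the group of the code -/
abbrev M11s : Subgroup ↥M24 :=
  stabilizer M24 Cfsg.Spor.squareDodecad ⊓ stabilizer M24 (some 0 : GolayPt)

/-- the two descriptions -/
def isoM11s : ↥Cfsg.Spor.M11 ≃* ↥M11s where
  toFun g := ⟨⟨g.1, g.2.1.1⟩, Subgroup.mem_inf.mpr
    ⟨mem_stabilizer_iff.mpr (mem_stabilizer_iff.mp g.2.1.2),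
      mem_stabilizer_iff.mpr (mem_stabilizer_iff.mp g.2.2)⟩⟩
  invFun g := ⟨g.1.1, ⟨⟨g.1.2, mem_stabilizer_iff.mpr (mem_stabilizer_iff.mp
    (Subgroup.mem_inf.mp g.2).1)⟩, mem_stabilizer_iff.mpr (mem_stabilizer_iff.mp
    (Subgroup.mem_inf.mp g.2).2)⟩⟩
  left_inv _ := rfl
  right_inv _ := rfl
  map_mul' _ _ := rfl

theorem card_sporM11 : Nat.card ↥Cfsg.Spor.M11 = 7920 := by
  rw [Nat.card_congr isoM11s.toEquiv]
  exact Cfsg.Agent.S0387.result _ sqDodecad_mem _ zero_mem_sqDodecad

theorem isSimpleGroup_sporM11 : IsSimpleGroup ↥Cfsg.Spor.M11 := by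
  haveI : IsSimpleGroup ↥M11s := Cfsg.Agent.S0388.result _ sqDodecad_mem _ zero_mem_sqDodecad
  exact isoM11s.isSimpleGroup

end

universe u

/-- in a simple group of order `7920`, the centralizers of order divisible by `11` or by `5`
have orders `11` and `5` -/
theorem centralizers_of_simple {G : Type u} [Group G] [Finite G] [IsSimpleGroup G]
    (hn : Nat.card G = 7920) :
    (∀ g : G, g ≠ 1 → 11 ∣ Nat.card (centralizer ({g} : Set G)) →
      Nat.card (centralizer ({g} : Set G)) = 11) ∧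
    (∀ g : G, g ≠ 1 → 5 ∣ Nat.card (centralizer ({g} : Set G)) →
      Nat.card (centralizer ({g} : Set G)) = 5) := by
  classical
  have : Fintype G := Fintype.ofFinite G
  have : Fintype (IrrCharacter G) := Fintype.ofFinite _
  haveI : Fact (Nat.Prime 11) := ⟨by norm_num⟩
  haveI : Fact (Nat.Prime 5) := ⟨by norm_num⟩
  have hnc : ¬ IsMulCommutative G := by
    intro hc
    letI : CommGroup G := { (inferInstance : Group G) with mul_comm := hc.is_comm.comm }
    have hp : (Nat.card G).Prime := IsSimpleGroup.prime_card (α := G)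
    rw [hn] at hp
    norm_num at hp
  constructor
  · intro g hg hd
    apply card_centralizer_of_dvd (p := 11) _ hg hd
    intro Q
    obtain ⟨h1, -, -, -, h2, -⟩ := Cfsg.Agent.Lib.Helper6.OrdQ.cfg11 hnc hn Q
    exact ⟨h1, h2⟩
  · intro g hg hd
    apply card_centralizer_of_dvd (p := 5) _ hg hd
    intro Q
    obtain ⟨h1, -, -, h2, -⟩ := Cfsg.Agent.Lib.Helper6.OrdQ.five_core hnc hn Q
    exact ⟨h1, h2⟩

/-- **A finite group with the commuting graph of a simple group of order `7920`** is simple of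
order `7920`. -/
theorem simple_of_graph {H : Type*} {G : Type u} [Group H] [Finite H] [Group G] [Finite G]
    [IsSimpleGroup G] (hn : Nat.card G = 7920)
    (f : {h : H // h ≠ 1} ≃ {g : G // g ≠ 1})
    (hf : ∀ x y : {h : H // h ≠ 1}, (x : H) * y = y * x ↔ ((f x) : G) * (f y) = (f y) * (f x)) :
    IsSimpleGroup H ∧ Nat.card H = 7920 := by
  have hnH : Nat.card H = 7920 := by rw [card_eq f, hn]
  obtain ⟨hG11, hG5⟩ := centralizers_of_simple hn
  have key : ∀ (p : ℕ) (y : H), p.Prime → orderOf y = p →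
      (∀ g : G, g ≠ 1 → p ∣ Nat.card (centralizer ({g} : Set G)) →
        Nat.card (centralizer ({g} : Set G)) = p) →
      Nat.card (centralizer ({y} : Set H)) = p := by
    intro p y hp hy hG
    have hy1 : y ≠ 1 := by
      rintro rfl
      rw [orderOf_one] at hy
      exact hp.one_lt.ne hy
    have h1 := card_centralizer_eq f hf ⟨y, hy1⟩
    have h2 : p ∣ Nat.card (centralizer ({y} : Set H)) := by
      have hmem : y ∈ centralizer ({y} : Set H) := mem_centralizer_singleton_iff.2 rfl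
      have := orderOf_dvd_natCard (⟨y, hmem⟩ : centralizer ({y} : Set H))
      rwa [Subgroup.orderOf_mk, hy] at this
    rw [h1] at h2 ⊢
    exact hG _ (f ⟨y, hy1⟩).2 h2
  exact ⟨isSimpleGroup_of_centralizers hnH
    (fun y hy => key 11 y (by norm_num) hy hG11)
    (fun y hy => key 5 y (by norm_num) hy hG5), hnH⟩

/-- **The smallest Mathieu group is determined by its commuting graph.** -/
theorem iso_of_graph {H : Type*} [Group H] [Finite H]
    (f : {h : H // h ≠ 1} ≃ {g : ↥Cfsg.Spor.M11 // g ≠ 1})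
    (hf : ∀ x y : {h : H // h ≠ 1}, (x : H) * y = y * x ↔
      ((f x) : ↥Cfsg.Spor.M11) * (f y) = (f y) * (f x)) :
    Nonempty (H ≃* ↥Cfsg.Spor.M11) := by
  haveI := isSimpleGroup_sporM11
  haveI : Finite ↥Cfsg.Spor.M11 :=
    Nat.finite_of_card_ne_zero (by rw [card_sporM11]; norm_num)
  obtain ⟨hs, hnH⟩ := simple_of_graph card_sporM11 f hf
  haveI := hs
  obtain ⟨e1⟩ := Cfsg.Agent.Lib.Helper6.OrdS.iso_K0 (G := H) hnH
  obtain ⟨e2⟩ := Cfsg.Agent.Lib.Helper6.OrdS.iso_K0 (G := ↥Cfsg.Spor.M11) card_sporM11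
  exact ⟨e1.trans e2.symm⟩

end Cfsg.Agent.Lib.Helper6.CGr
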