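import Mathlib
import Cfsg.Agent.Lib.Helper6.CGr3
import Cfsg.Agent.Lib.Helper3.SylowCount
import Cfsg.Agent.Lib.Helper1.PrimSimple1

/-!
# Numbers of elements of given orders: congruences from the conjugation action of a `p`-subgroup
-/

set_option autoImplicit false
set_option linter.style.haveILetI false
set_option warn.classDefReducibility false

namespace Cfsg.Agent.Lib.Helper6.CGr

open Subgroup

variable {G : Type*} [Group G]

theorem orderOf_conj_eq (u g : G) : orderOf (u * g * u⁻¹) = orderOf g :=
  orderOf_injective (MulAut.conj u).toMonoidHom (MulAut.conj u).injective g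

/-- the action by conjugation of a subgroup on the elements of a given order -/
def conjActionOrder (P : Subgroup G) (n : ℕ) : MulAction P {g : G // orderOf g = n} where
  smul u g := ⟨(u : G) * g * (u : G)⁻¹, by rw [orderOf_conj_eq]; exact g.2⟩
  one_smul g := by
    apply Subtype.ext
    show ((1 : P) : G) * g * ((1 : P) : G)⁻¹ = g
    simp
  mul_smul a b g := by
    apply Subtype.ext
    show ((a * b : P) : G) * g * ((a * b : P) : G)⁻¹ =
      (a : G) * ((b : G) * g * (b : G)⁻¹) * (a : G)⁻¹
    simp [mul_assoc]

theorem centralizer_zpowers_eq (y : G) :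
    centralizer ((zpowers y : Subgroup G) : Set G) = centralizer ({y} : Set G) := by
  apply le_antisymm
  · exact Subgroup.centralizer_le (by
      intro a ha
      rw [Set.mem_singleton_iff] at ha
      rw [ha]
      exact mem_zpowers y)
  · intro a ha
    exact Cfsg.Agent.Lib.Helper6.OrdS.mem_centralizer_zpowers (mem_centralizer_singleton_iff.1 ha)

variable [Finite G]

/-- **Fixed point congruence**: the number of elements of order `n` is congruent modulo `p` to the
number of those centralizing a given `p`-subgroup -/
theorem card_orderOf_modEq {p : ℕ} [Fact p.Prime] (P : Subgroup G) (hP : IsPGroup p P) (n : ℕ) :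
    Nat.card {g : G // orderOf g = n} ≡
      Nat.card {g : centralizer (P : Set G) // orderOf g = n} [MOD p] := by
  letI := conjActionOrder P n
  have h1 := hP.card_modEq_card_fixedPoints {g : G // orderOf g = n}
  have e : MulAction.fixedPoints P {g : G // orderOf g = n} ≃
      {g : centralizer (P : Set G) // orderOf g = n} :=
    { toFun := fun g => ⟨⟨g.1.1, by
          rw [mem_centralizer_iff]
          intro u hu
          have h2 := g.2 ⟨u, hu⟩
          have h3 : u * g.1.1 * u⁻¹ = g.1.1 := congrArg Subtype.val h2
          calc u * g.1.1 = (u * g.1.1 * u⁻¹) * u := by group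
            _ = g.1.1 * u := by rw [h3]⟩, by
          rw [← Subgroup.orderOf_coe]; exact g.1.2⟩
      invFun := fun g => ⟨⟨g.1.1, by rw [Subgroup.orderOf_coe]; exact g.2⟩, by
          intro u
          apply Subtype.ext
          show (u : G) * g.1.1 * (u : G)⁻¹ = g.1.1
          have h2 := mem_centralizer_iff.1 g.1.2 u u.2
          rw [h2]; group⟩
      left_inv := fun g => rfl
      right_inv := fun g => rfl }
  rw [Nat.card_congr e] at h1
  exact h1

/-- if the Sylow `p`-subgroups have order `p` and are self-centralizing, the number of elements of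
order `n` is divisible by `p` for `n ≠ 1, p` -/
theorem dvd_card_orderOf_of_self_centralizing {p : ℕ} [hp : Fact p.Prime] (Q : Sylow p G)
    (hC : Nat.card (centralizer ((Q : Subgroup G) : Set G)) = p) (n : ℕ) (hn1 : n ≠ 1)
    (hnp : n ≠ p) : p ∣ Nat.card {g : G // orderOf g = n} := by
  have h := card_orderOf_modEq (Q : Subgroup G) Q.2 n
  have h0 : Nat.card {g : centralizer ((Q : Subgroup G) : Set G) // orderOf g = n} = 0 := by
    rw [Nat.card_eq_zero]
    left
    constructor
    rintro ⟨g, hg⟩
    have h2 := orderOf_dvd_natCard g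
    rw [hC, hg] at h2
    rcases (Nat.dvd_prime hp.1).1 h2 with h | h
    · exact hn1 h
    · exact hnp h
  rw [h0] at h
  exact (Nat.modEq_zero_iff_dvd).1 h

theorem card_orderOf_one : Nat.card {g : G // orderOf g = 1} = 1 := by
  rw [Nat.card_eq_one_iff_unique]
  refine ⟨⟨fun a b => ?_⟩, ⟨⟨1, orderOf_one⟩⟩⟩
  apply Subtype.ext
  rw [orderOf_eq_one_iff.1 a.2, orderOf_eq_one_iff.1 b.2]

/-- the elements whose order lies in a finite set of integers -/
theorem card_orderOf_mem (F : Finset ℕ) :
    Nat.card {g : G // orderOf g ∈ F} = ∑ n ∈ F, Nat.card {g : G // orderOf g = n} := by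
  classical
  have : Fintype G := Fintype.ofFinite G
  rw [Nat.card_eq_fintype_card, Fintype.card_subtype]
  have hmaps : Set.MapsTo (fun g : G => orderOf g)
      ((Finset.univ.filter (fun g : G => orderOf g ∈ F) : Finset G) : Set G) (F : Set ℕ) := by
    intro g hg
    simpa using hg
  rw [Finset.card_eq_sum_card_fiberwise hmaps]
  apply Finset.sum_congr rfl
  intro n hn
  rw [Nat.card_eq_fintype_card, Fintype.card_subtype, Finset.filter_filter]
  congr 1
  ext g
  simp only [Finset.mem_filter, Finset.mem_univ, true_and]
  constructor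
  · rintro ⟨-, h⟩; exact h
  · intro h; exact ⟨h ▸ hn, h⟩

/-- the elements of order prime to the index of a normal subgroup lie in it -/
theorem mem_of_coprime_index (N : Subgroup G) [N.Normal] (g : G)
    (h : Nat.Coprime (orderOf g) N.index) : g ∈ N := by
  have h1 : (QuotientGroup.mk g : G ⧸ N) ^ N.index = 1 := by
    rw [← QuotientGroup.mk_pow, QuotientGroup.eq_one_iff]
    exact N.pow_index_mem g
  have h2 : (QuotientGroup.mk g : G ⧸ N) ^ orderOf g = 1 := by
    rw [← QuotientGroup.mk_pow, pow_orderOf_eq_one, QuotientGroup.mk_one]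
  have h3 : orderOf (QuotientGroup.mk g : G ⧸ N) ∣ Nat.gcd (orderOf g) N.index :=
    Nat.dvd_gcd (orderOf_dvd_of_pow_eq_one h2) (orderOf_dvd_of_pow_eq_one h1)
  rw [h, Nat.dvd_one, orderOf_eq_one_iff, QuotientGroup.eq_one_iff] at h3
  exact h3

end Cfsg.Agent.Lib.Helper6.CGr
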