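import Mathlib
import Cfsg.Agent.Lib.Helper6.CGr5
import Cfsg.Agent.Lib.Helper6.CGr4

/-!
# A group of order `7920` with the same set of numbers of elements of each order as a simple group
of order `7920` is simple
-/

set_option autoImplicit false
set_option linter.style.haveILetI false

namespace Cfsg.Agent.Lib.Helper6.CGr

open Subgroup

universe u

/-- the number of Sylow subgroups from the order of a normalizer -/
theorem card_sylow_of_card_normalizer {G : Type*} [Group G] [Finite G] {p : ℕ} [Fact p.Prime]
    (P : Sylow p G) : Nat.card (Sylow p G) * Nat.card (normalizer ((P : Subgroup G) : Set G)) =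
      Nat.card G := by
  rw [Sylow.card_eq_index_normalizer P]
  exact (normalizer ((P : Subgroup G) : Set G)).index_mul_card

/-- the property of the numbers of elements of each order in a simple group of order `7920` -/
def NseProp (c : ℕ) : Prop :=
  (c = 1 ∨ c = 1440 ∨ 11 ∣ c) ∧ (c = 1 ∨ c = 1584 ∨ 5 ∣ c)

theorem nseProp_of_simple {M : Type u} [Group M] [Finite M] [IsSimpleGroup M]
    (hn : Nat.card M = 7920) (n : ℕ) : NseProp (Nat.card {g : M // orderOf g = n}) := by
  classical
  have : Fintype M := Fintype.ofFinite M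
  have : Fintype (IrrCharacter M) := Fintype.ofFinite _
  haveI : Fact (Nat.Prime 11) := ⟨by norm_num⟩
  haveI : Fact (Nat.Prime 5) := ⟨by norm_num⟩
  have hnc : ¬ IsMulCommutative M := by
    intro hc
    letI : CommGroup M := { (inferInstance : Group M) with mul_comm := hc.is_comm.comm }
    have hp : (Nat.card M).Prime := IsSimpleGroup.prime_card (α := M)
    rw [hn] at hp
    norm_num at hp
  obtain ⟨Q11⟩ : Nonempty (Sylow 11 M) := inferInstance
  obtain ⟨Q5⟩ : Nonempty (Sylow 5 M) := inferInstance
  obtain ⟨hc11, hN11, -, -, hC11, -⟩ := Cfsg.Agent.Lib.Helper6.OrdQ.cfg11 hnc hn Q11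
  obtain ⟨hc5, hN5, -, hC5, -⟩ := Cfsg.Agent.Lib.Helper6.OrdQ.five_core hnc hn Q5
  by_cases h1 : n = 1
  · subst h1
    rw [card_orderOf_one]
    exact ⟨Or.inl rfl, Or.inl rfl⟩
  constructor
  · by_cases h11 : n = 11
    · subst h11
      right; left
      rw [Cfsg.Agent.Lib.Helper3.card_orderOf_eq_prime Q11 hc11]
      have h2 := card_sylow_of_card_normalizer Q11
      rw [hN11, hn] at h2
      have : Nat.card (Sylow 11 M) = 144 := by omega
      rw [this]
    · right; right
      exact dvd_card_orderOf_of_self_centralizing Q11 hC11 n h1 h11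
  · by_cases h5 : n = 5
    · subst h5
      right; left
      rw [Cfsg.Agent.Lib.Helper3.card_orderOf_eq_prime Q5 hc5]
      have h2 := card_sylow_of_card_normalizer Q5
      rw [hN5, hn] at h2
      have : Nat.card (Sylow 5 M) = 396 := by omega
      rw [this]
    · right; right
      exact dvd_card_orderOf_of_self_centralizing Q5 hC5 n h1 h5

section main

variable {G : Type*} [Group G] [Finite G]

/-- the index of a normal subgroup of order divisible by `11` -/
theorem index_eq_one_or_five (hn : Nat.card G = 7920)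
    (h11 : ∀ y : G, orderOf y = 11 → Nat.card (centralizer ({y} : Set G)) = 11)
    (N : Subgroup G) [hN : N.Normal] (h11N : 11 ∣ Nat.card N) : N.index = 1 ∨ N.index = 5 := by
  haveI : Fact (Nat.Prime 11) := ⟨by norm_num⟩
  obtain ⟨S, hSN, hSc, hidx⟩ := exists_sylow_frattini N 11
  have hNd : Nat.card N ∣ 7920 := by rw [← hn]; exact Subgroup.card_subgroup_dvd_card N
  have hS11 : Nat.card S = 11 := by
    have hk : 0 < (Nat.card N).factorization 11 :=
      (Nat.Prime.factorization_pos_of_dvd (by norm_num) Nat.card_pos.ne' h11N)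
    have hk2 : (Nat.card N).factorization 11 < 2 := by
      by_contra hcon
      push Not at hcon
      have h1 : 11 ^ 2 ∣ Nat.card S := by rw [hSc]; exact pow_dvd_pow 11 hcon
      have h2 : 11 ^ 2 ∣ 7920 := h1.trans ((Subgroup.card_dvd_of_le hSN).trans hNd)
      norm_num at h2
    have : (Nat.card N).factorization 11 = 1 := by omega
    rw [hSc, this, pow_one]
  have hNm := card_normalizer_eleven hn h11 S hS11
  rw [hNm] at hidx
  have h1 := N.index_mul_card
  rw [hn] at h1
  obtain ⟨c, hc⟩ := h11N
  have hmem : N.index ∈ Nat.divisors 55 := by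
    rw [Nat.mem_divisors]; exact ⟨hidx, by norm_num⟩
  have hdiv : Nat.divisors 55 = {1, 5, 11, 55} := by decide
  rw [hdiv] at hmem
  simp only [Finset.mem_insert, Finset.mem_singleton] at hmem
  rcases hmem with h | h | h | h
  · exact Or.inl h
  · exact Or.inr h
  · rw [h, hc] at h1; omega
  · rw [h, hc] at h1; omega

/-- **Simplicity from the numbers of elements of each order.** -/
theorem isSimpleGroup_of_nseProp (hn : Nat.card G = 7920)
    (hprop : ∀ n : ℕ, 0 < Nat.card {g : G // orderOf g = n} →
      NseProp (Nat.card {g : G // orderOf g = n})) : IsSimpleGroup G := by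
  classical
  haveI : Fact (Nat.Prime 11) := ⟨by norm_num⟩
  haveI : Fact (Nat.Prime 5) := ⟨by norm_num⟩
  haveI : Fact (Nat.Prime 3) := ⟨by norm_num⟩
  haveI : Fact (Nat.Prime 2) := ⟨by norm_num⟩
  haveI : Nontrivial G := by
    rw [← Finite.one_lt_card_iff_nontrivial, hn]; norm_num
  have hpos : ∀ (n : ℕ) (g : G), orderOf g = n → 0 < Nat.card {g : G // orderOf g = n} := by
    intro n g hg
    haveI : Nonempty {g : G // orderOf g = n} := ⟨⟨g, hg⟩⟩
    exact Nat.card_pos
  -- the Sylow `11`-subgroups
  have hS11 : ∀ P : Sylow 11 G, Nat.card P = 11 :=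
    fun P => by
      have := card_sylow_of_eq (H := G) 11 1 720 (by rw [hn]; norm_num) (by norm_num) P
      rwa [pow_one] at this
  have hm11 : Nat.card {g : G // orderOf g = 11} = 1440 := by
    obtain ⟨P⟩ : Nonempty (Sylow 11 G) := inferInstance
    have h1 := Cfsg.Agent.Lib.Helper3.card_orderOf_eq_prime P (hS11 P)
    have h2 : Nat.card (Sylow 11 G) ≡ 1 [MOD 11] := card_sylow_modEq_one 11 G
    unfold Nat.ModEq at h2
    have h3 : 0 < Nat.card {g : G // orderOf g = 11} := by
      rw [h1]
      have : 0 < Nat.card (Sylow 11 G) := Nat.card_pos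
      omega
    obtain ⟨h4, -⟩ := hprop 11 h3
    rw [h1] at h4 ⊢
    omega
  have hN11 : ∀ P : Sylow 11 G, Nat.card (normalizer ((P : Subgroup G) : Set G)) = 55 := by
    intro P
    have h1 := Cfsg.Agent.Lib.Helper3.card_orderOf_eq_prime P (hS11 P)
    rw [hm11] at h1
    have h2 := card_sylow_of_card_normalizer P
    rw [hn] at h2
    have h3 : Nat.card (Sylow 11 G) = 144 := by omega
    rw [h3] at h2
    omega
  -- the elements of order `11` are self-centralizing
  have h11 : ∀ y : G, orderOf y = 11 → Nat.card (centralizer ({y} : Set G)) = 11 := by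
    intro y hy
    have hfac : Nat.card (zpowers y) = 11 ^ (Nat.card G).factorization 11 := by
      have h1 : Nat.card G = 11 ^ 1 * 720 := by rw [hn]; norm_num
      rw [Nat.card_zpowers, hy, h1, Nat.factorization_mul (by norm_num) (by norm_num),
        Nat.Prime.factorization_pow (by norm_num)]
      simp [Nat.factorization_eq_zero_of_not_dvd (show ¬ 11 ∣ 720 by norm_num)]
    set Q : Sylow 11 G := Sylow.ofCard (zpowers y) hfac with hQ
    have hQP : (Q : Subgroup G) = zpowers y := Sylow.coe_ofCard _ hfac
    rw [← centralizer_zpowers_eq, ← hQP]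
    have hle : centralizer ((Q : Subgroup G) : Set G) ≤ normalizer ((Q : Subgroup G) : Set G) :=
      Subgroup.centralizer_le_normalizer _
    have hd1 : Nat.card (centralizer ((Q : Subgroup G) : Set G)) ∣ 55 := by
      rw [← hN11 Q]; exact Subgroup.card_dvd_of_le hle
    have hyC : y ∈ centralizer ((Q : Subgroup G) : Set G) := by
      rw [hQP]
      exact Cfsg.Agent.Lib.Helper6.OrdS.mem_centralizer_zpowers rfl
    have hd2 : 11 ∣ Nat.card (centralizer ((Q : Subgroup G) : Set G)) := by
      have := orderOf_dvd_natCard (⟨y, hyC⟩ : centralizer ((Q : Subgroup G) : Set G))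
      rwa [Subgroup.orderOf_mk, hy] at this
    have hmem : Nat.card (centralizer ((Q : Subgroup G) : Set G)) ∈ Nat.divisors 55 := by
      rw [Nat.mem_divisors]; exact ⟨hd1, by norm_num⟩
    have hdiv : Nat.divisors 55 = {1, 5, 11, 55} := by decide
    rw [hdiv] at hmem
    simp only [Finset.mem_insert, Finset.mem_singleton] at hmem
    rcases hmem with h | h | h | h
    · rw [h] at hd2; omega
    · rw [h] at hd2; omega
    · exact h
    · exfalso
      -- an element of order `55`
      obtain ⟨x, hx⟩ := exists_prime_orderOf_dvd_card'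
        (G := centralizer ((Q : Subgroup G) : Set G)) 5 (by rw [h]; norm_num)
      have hx' : orderOf (x : G) = 5 := by rw [Subgroup.orderOf_coe, hx]
      have hcomm : Commute (x : G) y := by
        have := mem_centralizer_iff.1 x.2 y (by rw [SetLike.mem_coe, hQP]; exact mem_zpowers y)
        exact this.symm
      have h55 : orderOf ((x : G) * y) = 55 := by
        rw [hcomm.orderOf_mul_eq_mul_orderOf_of_coprime (by rw [hx', hy]; norm_num), hx', hy]
      have hgC : (x : G) * y ∈ centralizer ((Q : Subgroup G) : Set G) := mul_mem x.2 hyC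
      have hcyc : IsCyclic (centralizer ((Q : Subgroup G) : Set G)) :=
        isCyclic_of_orderOf_eq_card (⟨(x : G) * y, hgC⟩ : centralizer ((Q : Subgroup G) : Set G))
          (by rw [Subgroup.orderOf_mk, h55, h])
      have hcount : Nat.card {g : centralizer ((Q : Subgroup G) : Set G) // orderOf g = 55} =
          40 := by
        have : Fintype (centralizer ((Q : Subgroup G) : Set G)) := Fintype.ofFinite _
        rw [Nat.card_eq_fintype_card, Fintype.card_subtype,
          IsCyclic.card_orderOf_eq_totient (by rw [← Nat.card_eq_fintype_card, h])]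
        decide
      have hmod := card_orderOf_modEq (Q : Subgroup G) Q.2 55
      rw [hcount] at hmod
      unfold Nat.ModEq at hmod
      obtain ⟨h4, -⟩ := hprop 55 (hpos 55 _ h55)
      omega
  -- the numbers of elements of orders `2` and `3`
  have hd2 := Cfsg.Agent.Lib.Helper1.PrimSimple.card_orderOf_eq_prime_mod (G := G) 2
    (by rw [hn]; norm_num)
  have hd3 := Cfsg.Agent.Lib.Helper1.PrimSimple.card_orderOf_eq_prime_mod (G := G) 3
    (by rw [hn]; norm_num)
  obtain ⟨z, hz⟩ := exists_prime_orderOf_dvd_card' (G := G) 2 (by rw [hn]; norm_num)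
  obtain ⟨t, ht⟩ := exists_prime_orderOf_dvd_card' (G := G) 3 (by rw [hn]; norm_num)
  obtain ⟨y, hy⟩ := exists_prime_orderOf_dvd_card' (G := G) 11 (by rw [hn]; norm_num)
  have hp2 := hprop 2 (hpos 2 z hz)
  have hp3 := hprop 3 (hpos 3 t ht)
  have hm2 : Nat.card {g : G // orderOf g = 2} ≠ 1 := by
    intro h1
    have hss : Subsingleton {g : G // orderOf g = 2} := (Nat.card_eq_one_iff_unique.1 h1).1
    have h2 : (⟨y * z * y⁻¹, by rw [orderOf_conj_eq]; exact hz⟩ : {g : G // orderOf g = 2}) =
        ⟨z, hz⟩ := Subsingleton.elim _ _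
    have h3 : y * z * y⁻¹ = z := congrArg Subtype.val h2
    have h4 : z ∈ centralizer ({y} : Set G) := by
      rw [mem_centralizer_singleton_iff]
      calc z * y = (y * z * y⁻¹) * y := by rw [h3]
        _ = y * z := by group
    have h5 := orderOf_dvd_natCard (⟨z, h4⟩ : centralizer ({y} : Set G))
    rw [Subgroup.orderOf_mk, hz, h11 y hy] at h5
    omega
  refine { toNontrivial := inferInstance, eq_bot_or_eq_top_of_normal := fun N hN => ?_ }
  by_cases h11N : 11 ∣ Nat.card N
  · right
    rcases index_eq_one_or_five hn h11 N h11N with h | h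
    · exact Subgroup.index_eq_one.1 h
    · exfalso
      have h1 := N.index_mul_card
      rw [hn, h] at h1
      have hNc : Nat.card N = 1584 := by omega
      -- the elements of orders `1`, `2`, `3`, `11` lie in `N`
      have hmemN : ∀ g : G, orderOf g ∈ ({1, 2, 3, 11} : Finset ℕ) → g ∈ N := by
        intro g hg
        apply mem_of_coprime_index N g
        rw [h]
        simp only [Finset.mem_insert, Finset.mem_singleton] at hg
        rcases hg with h' | h' | h' | h' <;> rw [h'] <;> norm_num
      have hinj : Function.Injective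
          (fun g : {g : G // orderOf g ∈ ({1, 2, 3, 11} : Finset ℕ)} =>
            (⟨g.1, hmemN g.1 g.2⟩ : N)) := by
        intro a b hab
        apply Subtype.ext
        exact congrArg (fun x : N => (x : G)) hab
      have hle := Nat.card_le_card_of_injective _ hinj
      rw [card_orderOf_mem, hNc] at hle
      have hsum : ∑ n ∈ ({1, 2, 3, 11} : Finset ℕ), Nat.card {g : G // orderOf g = n} =
          Nat.card {g : G // orderOf g = 1} + (Nat.card {g : G // orderOf g = 2} +
          (Nat.card {g : G // orderOf g = 3} + Nat.card {g : G // orderOf g = 11})) := by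
        rw [Finset.sum_insert (by decide), Finset.sum_insert (by decide),
          Finset.sum_insert (by decide), Finset.sum_singleton]
      rw [hsum, card_orderOf_one, hm11] at hle
      unfold NseProp at hp2 hp3
      omega
  · left
    exact eq_bot_of_not_dvd hn h11 N h11N

end main

/-- **A group with the order and the set of numbers of elements of each order of a simple group of
order `7920`** is simple. -/
theorem simple_of_nse {G : Type*} {M : Type u} [Group G] [Finite G] [Group M] [Finite M]
    [IsSimpleGroup M] (hn : Nat.card M = 7920) (hcard : Nat.card G = Nat.card M)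
    (hnse : {c : ℕ | 0 < c ∧ ∃ n : ℕ, c = Nat.card {g : G // orderOf g = n}} =
      {c : ℕ | 0 < c ∧ ∃ n : ℕ, c = Nat.card {g : M // orderOf g = n}}) :
    IsSimpleGroup G ∧ Nat.card G = 7920 := by
  have hnG : Nat.card G = 7920 := by rw [hcard, hn]
  refine ⟨isSimpleGroup_of_nseProp hnG ?_, hnG⟩
  intro n hpos
  have hmem : Nat.card {g : G // orderOf g = n} ∈
      {c : ℕ | 0 < c ∧ ∃ n : ℕ, c = Nat.card {g : G // orderOf g = n}} := ⟨hpos, n, rfl⟩
  rw [hnse] at hmem
  obtain ⟨-, n', hn'⟩ := hmem
  rw [hn']
  exact nseProp_of_simple hn n'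

/-- **The smallest Mathieu group is determined by its order and the set of the numbers of
elements of each order.** -/
theorem iso_of_nse {G : Type*} [Group G] [Finite G]
    (hcard : Nat.card G = Nat.card ↥Cfsg.Spor.M11)
    (hnse : {c : ℕ | 0 < c ∧ ∃ n : ℕ, c = Nat.card {g : G // orderOf g = n}} =
      {c : ℕ | 0 < c ∧ ∃ n : ℕ, c = Nat.card {g : ↥Cfsg.Spor.M11 // orderOf g = n}}) :
    Nonempty (G ≃* ↥Cfsg.Spor.M11) := by
  haveI := isSimpleGroup_sporM11
  haveI : Finite ↥Cfsg.Spor.M11 :=
    Nat.finite_of_card_ne_zero (by rw [card_sporM11]; norm_num)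
  obtain ⟨hs, hnG⟩ := simple_of_nse card_sporM11 hcard hnse
  haveI := hs
  obtain ⟨e1⟩ := Cfsg.Agent.Lib.Helper6.OrdS.iso_K0 (G := G) hnG
  obtain ⟨e2⟩ := Cfsg.Agent.Lib.Helper6.OrdS.iso_K0 (G := ↥Cfsg.Spor.M11) card_sporM11
  exact ⟨e1.trans e2.symm⟩

end Cfsg.Agent.Lib.Helper6.CGr
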