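import Mathlib

set_option autoImplicit false

namespace Cfsg.Agent.Lib.Helper6

/-- `|X + Y| · |X ∩ Y| = |X| · |Y|` for subgroups of an additive commutative group. -/
theorem addSubgroup_card_sup_mul_card_inf {V : Type*} [AddCommGroup V] (X Y : AddSubgroup V) :
    Nat.card ↥(X ⊔ Y) * Nat.card ↥(X ⊓ Y) = Nat.card X * Nat.card Y := by
  have h1 : Y.relIndex (X ⊔ Y) = Y.relIndex X := AddSubgroup.relIndex_sup_right X Y
  have h2 : (X ⊓ Y).relIndex X = Y.relIndex X := AddSubgroup.inf_relIndex_left X Y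
  have h3 : Nat.card Y * Y.relIndex (X ⊔ Y) = Nat.card ↥(X ⊔ Y) := by
    rw [← AddSubgroup.relIndex_bot_left, ← AddSubgroup.relIndex_bot_left]
    exact AddSubgroup.relIndex_mul_relIndex _ _ _ bot_le le_sup_right
  have h4 : Nat.card ↥(X ⊓ Y) * (X ⊓ Y).relIndex X = Nat.card X := by
    rw [← AddSubgroup.relIndex_bot_left, ← AddSubgroup.relIndex_bot_left]
    exact AddSubgroup.relIndex_mul_relIndex _ _ _ bot_le inf_le_left
  rw [← h3, ← h4, h1, h2]; ring

end Cfsg.Agent.Lib.Helper6
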