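import Mathlib
import Cfsg.Agent.Lib.Lead.ThompsonTransfer
import Cfsg.Agent.Lib.Helper4.TransferInv

set_option autoImplicit false

/-! Transfer of a central involution of a Sylow 2-subgroup into a quotient of order two. -/

namespace Cfsg.Agent.Lib.Helper6

open Cfsg.Agent.Lib.Lead Cfsg.Agent.Lib.Helper4 MulAction

/-- If `z` is a central involution of a Sylow 2-subgroup `P`, `Q` has index two in `P`, and no
`N_G(P)`-conjugate of `z` lies in `Q`, then `G` has a normal subgroup of index two missing `z`. -/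
theorem central_transfer {G : Type*} [Group G] [Finite G] (P : Sylow 2 G) (Q : Subgroup G)
    (hQi : Q.relIndex (P : Subgroup G) = 2) (z : G) (hzP : z ∈ (P : Subgroup G)) (hz2 : z ^ 2 = 1)
    (hzc : ∀ s ∈ (P : Subgroup G), s * z = z * s)
    (hN : ∀ g ∈ Subgroup.normalizer ((P : Subgroup G) : Set G), g⁻¹ * z * g ∉ Q) :
    ∃ M : Subgroup G, M.Normal ∧ M.index = 2 ∧ z ∉ M := by
  classical
  let ϕ : (P : Subgroup G) →* ℤˣ := signOfIndexTwo (P : Subgroup G) Q hQi
  let V : G →* ℤˣ := MonoidHom.transfer ϕ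
  letI : Fintype (G ⧸ (P : Subgroup G)) := Fintype.ofFinite _
  set B : G → Prop := fun g => g⁻¹ * z * g ∈ (P : Subgroup G) ∧ g⁻¹ * z * g ∉ Q with hB
  have hQn : (Q.subgroupOf (P : Subgroup G)).Normal := Subgroup.normal_of_index_eq_two hQi
  have hconj : ∀ a s : G, s ∈ (P : Subgroup G) → a ∈ (P : Subgroup G) → a ∈ Q →
      s⁻¹ * a * s ∈ Q := by
    intro a s hs ha haQ
    have := hQn.conj_mem ⟨a, ha⟩ (Subgroup.mem_subgroupOf.mpr haQ) ⟨s⁻¹, inv_mem hs⟩
    simpa [Subgroup.mem_subgroupOf] using this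
  have hBr1 : ∀ g s, s ∈ (P : Subgroup G) → B g → B (g * s) := by
    intro g s hs hg
    have e : (g * s)⁻¹ * z * (g * s) = s⁻¹ * (g⁻¹ * z * g) * s := by group
    simp only [hB, e]
    obtain ⟨h1, h2⟩ := hg
    have h3 : s⁻¹ * (g⁻¹ * z * g) * s ∈ (P : Subgroup G) :=
      mul_mem (mul_mem (inv_mem hs) h1) hs
    refine ⟨h3, fun h4 => h2 ?_⟩
    have := hconj _ s⁻¹ (inv_mem hs) h3 h4
    have e2 : s⁻¹⁻¹ * (s⁻¹ * (g⁻¹ * z * g) * s) * s⁻¹ = g⁻¹ * z * g := by group
    rwa [e2] at this
  have hBr : ∀ g s, s ∈ (P : Subgroup G) → (B (g * s) ↔ B g) := by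
    intro g s hs
    refine ⟨fun h => ?_, hBr1 g s hs⟩
    have := hBr1 (g * s) s⁻¹ (inv_mem hs) h
    rwa [mul_inv_cancel_right] at this
  have hBl : ∀ g s, s ∈ (P : Subgroup G) → (B (s * g) ↔ B g) := by
    intro g s hs
    have e : (s * g)⁻¹ * z * (s * g) = g⁻¹ * z * g := by
      have h := hzc s hs
      calc (s * g)⁻¹ * z * (s * g) = g⁻¹ * (s⁻¹ * (z * s)) * g := by group
        _ = g⁻¹ * (s⁻¹ * (s * z)) * g := by rw [h]
        _ = _ := by group
    simp only [hB, e]
  -- the invariant set of cosets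
  let F : SubMulAction (P : Subgroup G) (G ⧸ (P : Subgroup G)) :=
    { carrier := {x | B x.out}
      smul_mem' := by
        intro s x hx
        show B (s • x).out
        have h1 : s • x = (((s : G) * x.out : G) : G ⧸ (P : Subgroup G)) := by
          conv_lhs => rw [← QuotientGroup.out_eq' x]
          rfl
        obtain ⟨t, ht⟩ := QuotientGroup.mk_out_eq_mul (P : Subgroup G) ((s : G) * x.out)
        rw [h1, ht, hBr _ _ t.2, hBl _ _ s.2]
        exact hx }
  have hmemF : ∀ x : G ⧸ (P : Subgroup G), x ∈ F ↔ B x.out := fun x => Iff.rfl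
  -- fixed points of P on cosets lie in F
  have hfixF : ∀ x : G ⧸ (P : Subgroup G), x ∈ fixedPoints (P : Subgroup G) (G ⧸ (P : Subgroup G)) →
      x ∈ F := by
    intro x hx
    rw [hmemF]
    rw [← QuotientGroup.out_eq' x, Sylow.mem_fixedPoints_mul_left_cosets_iff_mem_normalizer] at hx
    refine ⟨?_, hN _ hx⟩
    have hx' := inv_mem hx
    rw [Subgroup.mem_normalizer_iff] at hx'
    have := (hx' z).mp hzP
    simpa using this
  -- parity
  have hcard1 := P.2.card_modEq_card_fixedPoints (p := 2) (α := F)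
  have hcard2 := P.2.card_modEq_card_fixedPoints (p := 2) (α := G ⧸ (P : Subgroup G))
  have hcard3 : Nat.card (fixedPoints (P : Subgroup G) F) =
      Nat.card (fixedPoints (P : Subgroup G) (G ⧸ (P : Subgroup G))) := by
    refine Nat.card_eq_of_bijective
      (fun y => ⟨y.1.1, fun s => by
        have := y.2 s
        exact congrArg Subtype.val this⟩) ⟨?_, ?_⟩
    · intro a b hab
      have h := congrArg Subtype.val hab
      exact Subtype.ext (Subtype.ext h)
    · intro x
      refine ⟨⟨⟨x.1, hfixF x.1 x.2⟩, fun s => ?_⟩, rfl⟩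
      apply Subtype.ext
      exact x.2 s
  have hodd : Odd (Nat.card F) := by
    rw [← Nat.not_even_iff_odd, even_iff_two_dvd]
    intro h2
    have h3 : 2 ∣ Nat.card (G ⧸ (P : Subgroup G)) := by
      rw [Nat.dvd_iff_mod_eq_zero] at h2 ⊢
      have e1 : Nat.card F % 2 = Nat.card (fixedPoints (P : Subgroup G) F) % 2 := hcard1
      have e2 : Nat.card (G ⧸ (P : Subgroup G)) % 2 =
        Nat.card (fixedPoints (P : Subgroup G) (G ⧸ (P : Subgroup G))) % 2 := hcard2
      rw [e2, ← hcard3, ← e1, h2]
    rw [← Subgroup.index_eq_card] at h3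
    exact P.not_dvd_index h3
  have hz2' : z ^ 2 = 1 := hz2
  have hVz : V z = -1 := by
    show MonoidHom.transfer ϕ z = -1
    rw [transfer_involution (P : Subgroup G) ϕ z hz2
      (fun x => if B x.out then (-1 : ℤˣ) else 1)]
    · rw [Finset.prod_ite, Finset.prod_const_one, mul_one, Finset.prod_const]
      have hfilt : (Finset.univ.filter (fun x : G ⧸ (P : Subgroup G) => z • x = x)).filter
          (fun x => B x.out) = Finset.univ.filter (fun x : G ⧸ (P : Subgroup G) => B x.out) := by
        ext x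
        simp only [Finset.mem_filter, Finset.mem_univ, true_and, and_iff_right_iff_imp]
        intro hx
        conv_lhs => rw [← QuotientGroup.out_eq' x]
        conv_rhs => rw [← QuotientGroup.out_eq' x]
        show ((z * x.out : G) : G ⧸ (P : Subgroup G)) = ((x.out : G) : G ⧸ (P : Subgroup G))
        rw [QuotientGroup.eq]
        have := inv_mem hx.1
        convert this using 1
        group
      rw [hfilt]
      have hc : (Finset.univ.filter (fun x : G ⧸ (P : Subgroup G) => B x.out)).card = Nat.card F := by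
        rw [Nat.card_eq_fintype_card]
        exact (Fintype.card_of_subtype _ (fun x => by simp [hmemF])).symm
      rw [hc]
      exact hodd.neg_one_pow
    · intro x hx h
      rw [signOfIndexTwo_apply]
      by_cases hq : x.out⁻¹ * z * x.out ∈ Q
      · have : ¬ B x.out := fun hb => hb.2 hq
        simp [this, hq]
      · have : B x.out := ⟨h, hq⟩
        simp [this, hq]
  refine ⟨V.ker, MonoidHom.normal_ker V, ?_, ?_⟩
  · rw [Subgroup.index_ker]
    have hr : V.range = ⊤ := by
      rw [eq_top_iff]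
      intro x _
      rcases Int.units_eq_one_or x with h | h
      · rw [h]; exact V.range.one_mem
      · rw [h]; exact ⟨z, hVz⟩
    rw [hr, Subgroup.card_top, Nat.card_eq_fintype_card, Fintype.card_units_int]
  · intro hmem
    rw [MonoidHom.mem_ker, hVz] at hmem
    exact absurd hmem (by decide)

end Cfsg.Agent.Lib.Helper6
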