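import Mathlib
import Cfsg.Prelude.Def_PLocal

set_option autoImplicit false

namespace Cfsg.Agent.Lib.Helper6

open Cfsg

variable {G : Type*} [Group G]

/-- Key computation: if `x` commutes with `c = r⁻¹ x r x⁻¹`, then `x^k r x^{-k} = r c^k`. -/
theorem conj_pow_of_commute (x r : G) (hc : Commute x (r⁻¹ * x * r * x⁻¹)) (k : ℕ) :
    x ^ k * r * (x ^ k)⁻¹ = r * (r⁻¹ * x * r * x⁻¹) ^ k := by
  induction k with
  | zero => simp
  | succ k ih =>
    set c := r⁻¹ * x * r * x⁻¹ with hcdef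
    have hck : Commute x (c ^ k) := hc.pow_right k
    calc x ^ (k + 1) * r * (x ^ (k + 1))⁻¹
        = x * (x ^ k * r * (x ^ k)⁻¹) * x⁻¹ := by rw [pow_succ']; group
      _ = x * (r * c ^ k) * x⁻¹ := by rw [ih]
      _ = (x * r * x⁻¹) * (x * c ^ k * x⁻¹) := by group
      _ = (r * c) * (c ^ k) := by
          have h1 : x * r * x⁻¹ = r * c := by rw [hcdef]; group
          have h2 : x * c ^ k * x⁻¹ = c ^ k := by rw [hck.eq]; group
          rw [h1, h2]
      _ = r * c ^ (k + 1) := by rw [pow_succ', mul_assoc]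

/-- A `p'`-element that commutes with `c = r⁻¹ x r x⁻¹`, where `c` is a `p`-element, commutes with `r`. -/
theorem commute_of_commute_comm {p : ℕ} [Fact p.Prime] (x r : G) (hx : (orderOf x).Coprime p)
    (hc : Commute x (r⁻¹ * x * r * x⁻¹)) (hcp : ∃ k : ℕ, orderOf (r⁻¹ * x * r * x⁻¹) = p ^ k) :
    x * r = r * x := by
  have hp : p.Prime := Fact.out
  have hx0 : orderOf x ≠ 0 := by
    intro h0
    rw [h0, Nat.coprime_zero_left] at hx
    exact hp.one_lt.ne' hx
  have h1 := conj_pow_of_commute x r hc (orderOf x)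
  rw [pow_orderOf_eq_one] at h1
  simp only [one_mul, inv_one, mul_one] at h1
  have h2 : (r⁻¹ * x * r * x⁻¹) ^ orderOf x = 1 := by
    have := congrArg (fun t => r⁻¹ * t) h1
    simpa using this.symm
  obtain ⟨k, hk⟩ := hcp
  have h3 : orderOf (r⁻¹ * x * r * x⁻¹) ∣ orderOf x := orderOf_dvd_of_pow_eq_one h2
  rw [hk] at h3
  have h4 : p ^ k = 1 := by
    have hcop : (p ^ k).Coprime (orderOf x) := (Nat.Coprime.pow_left k hx.symm)
    exact Nat.Coprime.eq_one_of_dvd hcop h3
  have h5 : r⁻¹ * x * r * x⁻¹ = 1 := by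
    rw [← orderOf_eq_one_iff, hk, h4]
  have : x * r = r * (r⁻¹ * x * r * x⁻¹) * x := by group
  rw [this, h5, mul_one]

/-- Stability lemma, ascending chain version. -/
theorem commute_of_stabilizes_chain {p : ℕ} [Fact p.Prime] (x : G) (hx : (orderOf x).Coprime p)
    (A : ℕ → Subgroup G) (h0 : A 0 = ⊥) (n : ℕ) (hp : ∀ i ≤ n, IsPGroup p (A i))
    (hstep : ∀ i < n, ∀ r ∈ A (i + 1), r⁻¹ * x * r * x⁻¹ ∈ A i) :
    ∀ i ≤ n, ∀ r ∈ A i, x * r = r * x := by
  intro i
  induction i with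
  | zero =>
    intro _ r hr
    rw [h0, Subgroup.mem_bot] at hr
    rw [hr]; simp
  | succ i ih =>
    intro hi r hr
    have hc : r⁻¹ * x * r * x⁻¹ ∈ A i := hstep i (by omega) r hr
    have hcomm : Commute x (r⁻¹ * x * r * x⁻¹) := ih (by omega) _ hc
    have hcp : ∃ k : ℕ, orderOf (r⁻¹ * x * r * x⁻¹) = p ^ k := by
      obtain ⟨k, hk⟩ := (hp i (by omega)) ⟨_, hc⟩
      have : orderOf (r⁻¹ * x * r * x⁻¹) ∣ p ^ k := by
        apply orderOf_dvd_of_pow_eq_one
        have := congrArg Subtype.val hk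
        simpa using this
      obtain ⟨j, _, hj⟩ := (Nat.dvd_prime_pow (Fact.out : p.Prime)).mp this
      exact ⟨j, hj⟩
    exact commute_of_commute_comm x r hx hcomm hcp

/-- In a finite group: if every `p'`-element of `L` lies in a `p`-group `R`... then `L` is a `p`-group.
More precisely: if every element of `L` of order prime to `p` is trivial, `L` is a `p`-group. -/
theorem isPGroup_of_pPrime_elements_trivial {p : ℕ} [Fact p.Prime] [Finite G] (L : Subgroup G)
    (h : ∀ x ∈ L, (orderOf x).Coprime p → x = 1) : IsPGroup p L := by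
  have hp : p.Prime := Fact.out
  intro ⟨x, hxL⟩
  have hx0 : orderOf x ≠ 0 := (orderOf_pos x).ne'
  obtain ⟨a, m, hm, hxm⟩ := Nat.exists_eq_pow_mul_and_not_dvd hx0 p hp.ne_one
  refine ⟨a, ?_⟩
  have hy : orderOf (x ^ p ^ a) = m := by
    rw [orderOf_pow' x (pow_ne_zero a hp.ne_zero), hxm, Nat.gcd_eq_right (Dvd.intro _ rfl)]
    exact Nat.mul_div_cancel_left m (pow_pos hp.pos a)
  have hy1 : x ^ p ^ a = 1 := by
    apply h _ (L.pow_mem hxL _)
    rw [hy]
    exact ((Nat.Prime.coprime_iff_not_dvd hp).mpr hm).symm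
  ext
  simpa using hy1

end Cfsg.Agent.Lib.Helper6
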