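import Mathlib
import Cfsg.Agent.Lib.Helper6.PCore
import Cfsg.Agent.Lib.Helper6.Stability

set_option autoImplicit false

namespace Cfsg.Agent.Lib.Helper6

open Cfsg

variable {G : Type*} [Group G]

/-- `G` has characteristic `p`. -/
def IsCharP (p : ℕ) (G : Type*) [Group G] : Prop :=
  Subgroup.centralizer (pCore p G : Set G) ≤ pCore p G

theorem isCharP_iff (p : ℕ) : IsCharP p G ↔ Subgroup.centralizer (pCore p G : Set G) ≤ pCore p G :=
  Iff.rfl

theorem IsCharP.of_equiv {p : ℕ} {H : Type*} [Group H] (e : G ≃* H) (h : IsCharP p G) :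
    IsCharP p H := by
  intro x hx
  rw [← pCore_map_equiv p e]
  refine ⟨e.symm x, h ?_, by simp⟩
  rw [Subgroup.mem_centralizer_iff]
  intro y hy
  have hy' : e y ∈ pCore p H := by
    rw [← pCore_map_equiv p e]; exact ⟨y, hy, rfl⟩
  have := (Subgroup.mem_centralizer_iff.mp hx) (e y) hy'
  apply e.injective
  simpa using this

/-- a `p'`-element which is a `p`-element is trivial -/
theorem eq_one_of_coprime_of_mem_pGroup {p : ℕ} {P : Subgroup G} (hP : IsPGroup p P) {x : G}
    (hx : x ∈ P) (hc : (orderOf x).Coprime p) : x = 1 := by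
  obtain ⟨k, hk⟩ := hP ⟨x, hx⟩
  have hk' : x ^ p ^ k = 1 := by
    have := congrArg Subtype.val hk
    simpa using this
  have hdvd : orderOf x ∣ p ^ k := orderOf_dvd_of_pow_eq_one hk'
  have : orderOf x = 1 := Nat.Coprime.eq_one_of_dvd (Nat.Coprime.pow_right k hc) hdvd
  exact orderOf_eq_one_iff.mp this

/-- If `G` is finite of characteristic `p` and `O_p(G)` normalizes the subgroup `L`, then `L` has
characteristic `p`. -/
theorem IsCharP.of_pCore_le_normalizer {p : ℕ} [Fact p.Prime] [Finite G] (hG : IsCharP p G)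
    (L : Subgroup G) (hL : pCore p G ≤ Subgroup.normalizer (L : Set G)) : IsCharP p L := by
  -- `C = C_L(O_p(L))` is normal in `L`; it suffices that it is a `p`-group
  have hCn : (Subgroup.centralizer (pCore p L : Set L)).Normal := inferInstance
  suffices hCp : IsPGroup p (Subgroup.centralizer (pCore p L : Set L)) from le_pCore hCn hCp
  -- `Q ⊓ L` is a normal `p`-subgroup of `L`
  have hQL : ((pCore p G) ⊓ L).subgroupOf L ≤ pCore p L := by
    apply le_pCore
    · constructor
      intro n hn g
      rw [Subgroup.mem_subgroupOf] at hn ⊢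
      refine ⟨?_, ?_⟩
      · have := (inferInstance : (pCore p G).Normal).conj_mem _ hn.1 (g : G)
        simpa using this
      · simp only [Subgroup.coe_mul, InvMemClass.coe_inv]
        exact L.mul_mem (L.mul_mem g.2 hn.2) (L.inv_mem g.2)
    · have : IsPGroup p ((pCore p G) ⊓ L : Subgroup G) := (pCore_isPGroup p).to_le inf_le_left
      exact this.comap_subtype
  apply isPGroup_of_pPrime_elements_trivial
  intro x hxC hxc
  -- the element of `G`
  have hxc' : (orderOf (x : G)).Coprime p := by rwa [Subgroup.orderOf_coe]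
  let A : ℕ → Subgroup G := fun i => if i = 0 then ⊥ else if i = 1 then pCore p G ⊓ L else pCore p G
  have hA0 : A 0 = ⊥ := by simp [A]
  have hA1 : A 1 = pCore p G ⊓ L := by simp [A]
  have hA2 : A 2 = pCore p G := by simp [A]
  have hAp : ∀ i ≤ 2, IsPGroup p (A i) := by
    intro i hi
    interval_cases i
    · rw [hA0]; exact IsPGroup.of_bot
    · rw [hA1]; exact (pCore_isPGroup p).to_le inf_le_left
    · rw [hA2]; exact pCore_isPGroup p
  have hstep : ∀ i < 2, ∀ r ∈ A (i + 1), r⁻¹ * (x : G) * r * (x : G)⁻¹ ∈ A i := by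
    intro i hi r hr
    interval_cases i
    · rw [hA0, Subgroup.mem_bot]
      rw [zero_add, hA1] at hr
      -- r ∈ Q ⊓ L ≤ O_p(L), centralized by x
      have hr' : (⟨r, hr.2⟩ : L) ∈ pCore p L := hQL (by rw [Subgroup.mem_subgroupOf]; exact hr)
      have := (Subgroup.mem_centralizer_iff.mp hxC) _ hr'
      have h2 : r * (x : G) = (x : G) * r := by
        have := congrArg Subtype.val this
        simpa using this
      calc r⁻¹ * (x : G) * r * (x : G)⁻¹ = r⁻¹ * ((x : G) * r) * (x : G)⁻¹ := by group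
        _ = r⁻¹ * (r * (x : G)) * (x : G)⁻¹ := by rw [h2]
        _ = 1 := by group
    · rw [hA1]
      have hr2 : r ∈ pCore p G := by simpa [hA2] using hr
      refine ⟨?_, ?_⟩
      · have h1 : (x : G) * r * (x : G)⁻¹ ∈ pCore p G :=
          (inferInstance : (pCore p G).Normal).conj_mem _ hr2 _
        have h2 : r⁻¹ * (x : G) * r * (x : G)⁻¹ = r⁻¹ * ((x : G) * r * (x : G)⁻¹) := by group
        rw [h2]
        exact Subgroup.mul_mem _ (Subgroup.inv_mem _ hr2) h1
      · have hrn := hL (Subgroup.inv_mem _ hr2)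
        have h1 : r⁻¹ * (x : G) * r⁻¹⁻¹ ∈ L := (Subgroup.mem_normalizer_iff.mp hrn (x : G)).mp x.2
        rw [inv_inv] at h1
        exact L.mul_mem h1 (L.inv_mem x.2)
  have hcomm := commute_of_stabilizes_chain (x : G) hxc' A hA0 2 hAp hstep 2 (le_refl 2)
  have hxCG : (x : G) ∈ Subgroup.centralizer (pCore p G : Set G) := by
    rw [Subgroup.mem_centralizer_iff]
    intro r hr
    exact (hcomm r (by rw [hA2]; exact hr)).symm
  have hxQ : (x : G) ∈ pCore p G := hG hxCG
  have := eq_one_of_coprime_of_mem_pGroup (pCore_isPGroup p) hxQ hxc'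
  exact Subtype.ext this

theorem IsCharP.of_normal {p : ℕ} [Fact p.Prime] [Finite G] (hG : IsCharP p G)
    (L : Subgroup G) [hL : L.Normal] : IsCharP p L :=
  hG.of_pCore_le_normalizer L (by rw [Subgroup.normalizer_eq_top_iff.mpr hL]; exact le_top)

theorem IsCharP.of_isSubnormal {p : ℕ} [Fact p.Prime] [Finite G] (hG : IsCharP p G)
    (L : Subgroup G) (hL : L.IsSubnormal) : IsCharP p L := by
  induction hL with
  | top => exact hG.of_equiv Subgroup.topEquiv.symm
  | step H K hle _ hN ih =>
    have h1 : IsCharP p (H.subgroupOf K) := ih.of_normal (H.subgroupOf K)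
    exact h1.of_equiv (Subgroup.subgroupOfEquivOfLe hle)

end Cfsg.Agent.Lib.Helper6
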