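import Mathlib
import Cfsg.Agent.Lib.Helper6.CharP
import Cfsg.Agent.Lib.Helper3.CharP1

set_option autoImplicit false

/-! Characteristic `p`: subgroups containing a centric normal subgroup of a Sylow subgroup. -/

namespace Cfsg.Agent.Lib.Helper6

open Cfsg

variable {G : Type*} [Group G]

/-- elements normalizing `B` and acting trivially on the cosets `rB`, `r ∈ A` -/
def cosetKernel (A B : Subgroup G) : Subgroup G where
  carrier := {g | g ∈ Subgroup.normalizer (B : Set G) ∧ ∀ r ∈ A, r⁻¹ * g * r * g⁻¹ ∈ B}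
  one_mem' := ⟨Subgroup.one_mem _, fun r _ => by simp⟩
  mul_mem' := by
    rintro g h ⟨hg1, hg2⟩ ⟨hh1, hh2⟩
    refine ⟨Subgroup.mul_mem _ hg1 hh1, fun r hr => ?_⟩
    have e : r⁻¹ * (g * h) * r * (g * h)⁻¹ =
        (r⁻¹ * g * r * g⁻¹) * (g * (r⁻¹ * h * r * h⁻¹) * g⁻¹) := by group
    rw [e]
    exact B.mul_mem (hg2 r hr) ((Subgroup.mem_normalizer_iff.mp hg1 _).mp (hh2 r hr))
  inv_mem' := by
    rintro g ⟨hg1, hg2⟩
    refine ⟨Subgroup.inv_mem _ hg1, fun r hr => ?_⟩
    have e : r⁻¹ * g⁻¹ * r * g⁻¹⁻¹ = g⁻¹ * (r⁻¹ * g * r * g⁻¹)⁻¹ * g⁻¹⁻¹ := by group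
    rw [e]
    exact (Subgroup.mem_normalizer_iff.mp (Subgroup.inv_mem _ hg1) _).mp (B.inv_mem (hg2 r hr))

theorem mem_cosetKernel {A B : Subgroup G} {g : G} :
    g ∈ cosetKernel A B ↔
      g ∈ Subgroup.normalizer (B : Set G) ∧ ∀ r ∈ A, r⁻¹ * g * r * g⁻¹ ∈ B := Iff.rfl

theorem conj_mem_cosetKernel {A B : Subgroup G} {l g : G} (hlA : ∀ a ∈ A, l⁻¹ * a * l ∈ A)
    (hlB : l ∈ Subgroup.normalizer (B : Set G)) (hg : g ∈ cosetKernel A B) :
    l * g * l⁻¹ ∈ cosetKernel A B := by
  obtain ⟨hg1, hg2⟩ := hg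
  refine ⟨mul_mem (mul_mem hlB hg1) (inv_mem hlB), fun r hr => ?_⟩
  have e : r⁻¹ * (l * g * l⁻¹) * r * (l * g * l⁻¹)⁻¹ =
      l * ((l⁻¹ * r * l)⁻¹ * g * (l⁻¹ * r * l) * g⁻¹) * l⁻¹ := by group
  rw [e]
  exact (Subgroup.mem_normalizer_iff.mp hlB _).mp (hg2 _ (hlA r hr))

/-- In a group of characteristic `p`, a normal subgroup `Q` of a Sylow `p`-subgroup `T` with
`C_T(Q) ≤ Q` is centralized by no nontrivial `p'`-element. -/
theorem eq_one_of_coprime_of_mem_centralizer_centric {p : ℕ} [Fact p.Prime] [Finite G]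
    (hG : Subgroup.centralizer (pCore p G : Set G) ≤ pCore p G) (T : Sylow p G) (Q : Subgroup G)
    (hQT : Q ≤ (T : Subgroup G))
    (hC : (T : Subgroup G) ⊓ Subgroup.centralizer (Q : Set G) ≤ Q) {x : G}
    (hx : x ∈ Subgroup.centralizer (Q : Set G)) (hc : (orderOf x).Coprime p) : x = 1 := by
  have hPT : pCore p G ≤ T := pCore_le_sylow T
  have hQp : IsPGroup p Q := T.isPGroup'.to_le hQT
  have hPn : Subgroup.normalizer ((pCore p G : Subgroup G) : Set G) = ⊤ :=
    Subgroup.normalizer_eq_top_iff.mpr (pCore_normal p G)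
  have h1 : x ∈ Subgroup.centralizer ((pCore p G : Subgroup G) : Set G) := by
    apply Cfsg.Agent.Lib.Helper3.mem_centralizer_of_coprime (Q := pCore p G) (P := Q)
      (pCore_isPGroup p) hQp (by rw [hPn]; exact le_top) hc (by rw [hPn]; trivial) hx
    rw [Subgroup.mem_centralizer_iff]
    intro r hr
    have hrQ : r ∈ Q := hC ⟨hPT hr.1, hr.2⟩
    exact Subgroup.mem_centralizer_iff.mp hx r hrQ
  exact eq_one_of_coprime_of_mem_pGroup (pCore_isPGroup p) (hG h1) hc

/-- In a group of characteristic `p`, every subgroup containing a normal subgroup `Q` of a Sylow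
`p`-subgroup `T` with `C_T(Q) ≤ Q` has characteristic `p`. -/
theorem isCharP_of_centric_le {p : ℕ} [Fact p.Prime] [Finite G]
    (hG : Subgroup.centralizer (pCore p G : Set G) ≤ pCore p G) (T : Sylow p G) (Q : Subgroup G)
    (hQT : Q ≤ (T : Subgroup G)) (hQn : (T : Subgroup G) ≤ Subgroup.normalizer (Q : Set G))
    (hC : (T : Subgroup G) ⊓ Subgroup.centralizer (Q : Set G) ≤ Q) (L : Subgroup G) (hQL : Q ≤ L) :
    Subgroup.centralizer (pCore p ↥L : Set ↥L) ≤ pCore p ↥L := by
  classical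
  have hPnorm : (pCore p G).Normal := pCore_normal p G
  have hPT : pCore p G ≤ T := pCore_le_sylow T
  have hCn : (Subgroup.centralizer (pCore p L : Set L)).Normal := inferInstance
  suffices hCp : IsPGroup p (Subgroup.centralizer (pCore p L : Set L)) from le_pCore hCn hCp
  -- `P ⊓ L` is a normal `p`-subgroup of `L`
  have hQL' : ((pCore p G) ⊓ L).subgroupOf L ≤ pCore p L := by
    apply le_pCore
    · constructor
      intro n hn g
      rw [Subgroup.mem_subgroupOf] at hn ⊢
      refine ⟨?_, ?_⟩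
      · have := hPnorm.conj_mem _ hn.1 (g : G)
        simpa using this
      · simp only [Subgroup.coe_mul, InvMemClass.coe_inv]
        exact L.mul_mem (L.mul_mem g.2 hn.2) (L.inv_mem g.2)
    · have : IsPGroup p ((pCore p G) ⊓ L : Subgroup G) := (pCore_isPGroup p).to_le inf_le_left
      exact this.comap_subtype
  -- elements of `L` normalize `P ⊓ L`
  have hLnorm : ∀ l ∈ L, l ∈ Subgroup.normalizer (((pCore p G) ⊓ L : Subgroup G) : Set G) := by
    intro l hl
    rw [Subgroup.mem_normalizer_iff]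
    intro b
    constructor
    · rintro ⟨hb1, hb2⟩
      exact ⟨hPnorm.conj_mem _ hb1 l, L.mul_mem (L.mul_mem hl hb2) (L.inv_mem hl)⟩
    · rintro ⟨hb1, hb2⟩
      refine ⟨?_, ?_⟩
      · have := hPnorm.conj_mem _ hb1 l⁻¹
        simpa [mul_assoc] using this
      · have := L.mul_mem (L.mul_mem (L.inv_mem hl) hb2) hl
        simpa [mul_assoc] using this
  have hPconj : ∀ l : G, ∀ a ∈ pCore p G, l⁻¹ * a * l ∈ pCore p G := by
    intro l a ha
    have := hPnorm.conj_mem _ ha l⁻¹
    simpa using this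
  -- the normal `p`-subgroup `E`
  set E : Subgroup L := (cosetKernel (pCore p G) ((pCore p G) ⊓ L)).subgroupOf L ⊓
    Subgroup.centralizer (pCore p L : Set L) with hE
  have hKn : ((cosetKernel (pCore p G) ((pCore p G) ⊓ L)).subgroupOf L).Normal := by
    constructor
    intro n hn l
    rw [Subgroup.mem_subgroupOf] at hn ⊢
    simp only [Subgroup.coe_mul, InvMemClass.coe_inv]
    exact conj_mem_cosetKernel (hPconj _) (hLnorm _ l.2) hn
  have hEn : E.Normal := Subgroup.normal_inf_normal _ _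
  -- elements of the centralizer commute with `P ⊓ L`
  have hcentPL : ∀ g : L, g ∈ Subgroup.centralizer (pCore p L : Set L) →
      ∀ r ∈ (pCore p G) ⊓ L, r * (g : G) = (g : G) * r := by
    intro g hg r hr
    have hr' : (⟨r, hr.2⟩ : L) ∈ pCore p L := hQL' (by rw [Subgroup.mem_subgroupOf]; exact hr)
    have := (Subgroup.mem_centralizer_iff.mp hg) _ hr'
    have := congrArg Subtype.val this
    simpa using this
  have hEp : IsPGroup p E := by
    apply isPGroup_of_pPrime_elements_trivial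
    intro g hgE hgc
    have hgc' : (orderOf (g : G)).Coprime p := by rwa [Subgroup.orderOf_coe]
    obtain ⟨hgK, hgD⟩ := Subgroup.mem_inf.mp hgE
    rw [Subgroup.mem_subgroupOf] at hgK
    let A : ℕ → Subgroup G := fun i =>
      if i = 0 then ⊥ else if i = 1 then pCore p G ⊓ L else pCore p G
    have hA0 : A 0 = ⊥ := by simp [A]
    have hA1 : A 1 = pCore p G ⊓ L := by simp [A]
    have hA2 : A 2 = pCore p G := by simp [A]
    have hAp : ∀ i ≤ 2, IsPGroup p (A i) := by
      intro i hi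
      interval_cases i
      · rw [hA0]; exact IsPGroup.of_bot
      · rw [hA1]; exact (pCore_isPGroup p).to_le inf_le_left
      · rw [hA2]; exact pCore_isPGroup p
    have hstep : ∀ i < 2, ∀ r ∈ A (i + 1), r⁻¹ * (g : G) * r * (g : G)⁻¹ ∈ A i := by
      intro i hi r hr
      interval_cases i
      · rw [hA0, Subgroup.mem_bot]
        rw [zero_add, hA1] at hr
        have h2 := hcentPL g hgD r hr
        calc r⁻¹ * (g : G) * r * (g : G)⁻¹ = r⁻¹ * ((g : G) * r) * (g : G)⁻¹ := by group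
          _ = r⁻¹ * (r * (g : G)) * (g : G)⁻¹ := by rw [h2]
          _ = 1 := by group
      · rw [hA1]
        have hr2 : r ∈ pCore p G := by simpa [hA2] using hr
        exact hgK.2 r hr2
    have hcomm := commute_of_stabilizes_chain (g : G) hgc' A hA0 2 hAp hstep 2 (le_refl 2)
    have hgCG : (g : G) ∈ Subgroup.centralizer (pCore p G : Set G) := by
      rw [Subgroup.mem_centralizer_iff]
      intro r hr
      exact (hcomm r (by rw [hA2]; exact hr)).symm
    have := eq_one_of_coprime_of_mem_pGroup (pCore_isPGroup p) (hG hgCG) hgc'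
    exact Subtype.ext this
  have hER : E ≤ pCore p L := le_pCore hEn hEp
  -- now the `p'`-elements of the centralizer are trivial
  apply isPGroup_of_pPrime_elements_trivial
  intro x hxC hxc
  have hxc' : (orderOf (x : G)).Coprime p := by rwa [Subgroup.orderOf_coe]
  have hxQ : (x : G) ∈ Subgroup.centralizer (Q : Set G) := by
    rw [Subgroup.mem_centralizer_iff]
    intro q hq
    have hqL : q ∈ L := hQL hq
    -- `q` lies in the coset kernel
    have hqK : q ∈ cosetKernel (pCore p G) ((pCore p G) ⊓ L) := by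
      refine ⟨hLnorm q hqL, fun r hr => ?_⟩
      refine Subgroup.mem_inf.mpr ⟨?_, ?_⟩
      · have h1 : q * r * q⁻¹ ∈ pCore p G := hPnorm.conj_mem _ hr q
        have e : r⁻¹ * q * r * q⁻¹ = r⁻¹ * (q * r * q⁻¹) := by group
        rw [e]
        exact (pCore p G).mul_mem ((pCore p G).inv_mem hr) h1
      · have hrn := hQn (hPT ((pCore p G).inv_mem hr))
        have h1 : r⁻¹ * q * r⁻¹⁻¹ ∈ Q := (Subgroup.mem_normalizer_iff.mp hrn q).mp hq
        rw [inv_inv] at h1
        exact hQL (Q.mul_mem h1 (Q.inv_mem hq))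
    have hxqK : (x : G) * q * (x : G)⁻¹ ∈ cosetKernel (pCore p G) ((pCore p G) ⊓ L) :=
      conj_mem_cosetKernel (hPconj _) (hLnorm _ x.2) hqK
    have hcK : q⁻¹ * (x : G) * q * (x : G)⁻¹ ∈ cosetKernel (pCore p G) ((pCore p G) ⊓ L) := by
      have := mul_mem (inv_mem hqK) hxqK
      convert this using 1
      group
    have hcL : q⁻¹ * (x : G) * q * (x : G)⁻¹ ∈ L :=
      L.mul_mem (L.mul_mem (L.mul_mem (L.inv_mem hqL) x.2) hqL) (L.inv_mem x.2)
    have hcD : (⟨q⁻¹ * (x : G) * q * (x : G)⁻¹, hcL⟩ : L) ∈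
        Subgroup.centralizer (pCore p L : Set L) := by
      have h1 := hCn.conj_mem x hxC (⟨q, hqL⟩ : L)⁻¹
      have h2 := mul_mem h1 (inv_mem hxC)
      convert h2 using 1
      apply Subtype.ext
      simp
    have hcE : (⟨q⁻¹ * (x : G) * q * (x : G)⁻¹, hcL⟩ : L) ∈ E :=
      Subgroup.mem_inf.mpr ⟨Subgroup.mem_subgroupOf.mpr hcK, hcD⟩
    have hcR := hER hcE
    have hcomm : Commute (x : G) (q⁻¹ * (x : G) * q * (x : G)⁻¹) := by
      have := (Subgroup.mem_centralizer_iff.mp hxC) _ hcR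
      have := congrArg Subtype.val this
      simp only [Subgroup.coe_mul] at this
      exact this.symm
    have hcp : ∃ k : ℕ, orderOf (q⁻¹ * (x : G) * q * (x : G)⁻¹) = p ^ k := by
      obtain ⟨k, hk⟩ := IsPGroup.iff_orderOf.mp (pCore_isPGroup (G := L) p) ⟨_, hcR⟩
      rw [Subgroup.orderOf_mk, ← Subgroup.orderOf_coe] at hk
      exact ⟨k, hk⟩
    exact (commute_of_commute_comm (x : G) q hxc' hcomm hcp).symm
  have := eq_one_of_coprime_of_mem_centralizer_centric hG T Q hQT hC hxQ hxc'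
  exact Subtype.ext this

end Cfsg.Agent.Lib.Helper6
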