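import Mathlib
import Cfsg.Agent.Lib.Helper8.Chr8Defs
import Cfsg.Prelude.Def_Solvable
import Cfsg.Agent.Lib.Helper9.PCore
import Cfsg.Agent.Lib.Helper1.LinearChar

set_option autoImplicit false

/-! S4751 package K2b: consequences of `Spec`. -/

namespace Cfsg.Agent.Lib.Helper8.Chr8

open Cfsg Cfsg.Agent.Lib.Helper8.RDG
open scoped ComplexConjugate

universe u

variable {G : Type u} [Group G] [Finite G]

omit [Finite G] in
/-- k2b: the dual group is finite. -/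
theorem k2b_finite_dual {χ : G → ℂ} (P : Subgroup G) [P.Normal]
    {L : Finset (↥P →* ℂˣ)} (hS : Spec χ P L) : Finite (↥P →* ℂˣ) := by
  classical
  have h : (Set.univ : Set (↥P →* ℂˣ)).Finite := by
    refine Set.Finite.subset (insert (1 : ↥P →* ℂˣ) L).finite_toSet ?_
    intro l _
    by_cases hl : l = 1
    · simp [hl]
    · simp [hS.all_mem l hl]
  exact Set.finite_univ_iff.mp h

omit [Finite G] in
/-- k2b: the dual group has the order of `P`. -/
theorem k2b_card_dual {χ : G → ℂ} (P : Subgroup G) [P.Normal]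
    {L : Finset (↥P →* ℂˣ)} (hS : Spec χ P L) : Nat.card (↥P →* ℂˣ) = Nat.card P := by
  classical
  haveI := k2b_finite_dual P hS
  haveI : Fintype (↥P →* ℂˣ) := Fintype.ofFinite _
  rw [Nat.card_eq_fintype_card, ← hS.card, ← Finset.card_univ]
  have h : (Finset.univ : Finset (↥P →* ℂˣ)) = insert (1 : ↥P →* ℂˣ) L := by
    ext l
    by_cases hl : l = 1
    · simp [hl]
    · simp [hS.all_mem l hl]
  rw [h, Finset.card_insert_of_notMem hS.one_notMem]

/-- k2b: every member of `L` has `p`-th power `1`. -/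
theorem k2b_pow_hom {p : ℕ} [Fact p.Prime] {χ : G → ℂ} (P : Subgroup G) [P.Normal]
    (hPp : IsPGroup p P) {L : Finset (↥P →* ℂˣ)} (hS : Spec χ P L) :
    ∀ m ∈ L, m ^ p = 1 := by
  classical
  haveI := k2b_finite_dual P hS
  have hp : p.Prime := Fact.out
  have hcard : Nat.card (↥P →* ℂˣ) = Nat.card P := k2b_card_dual P hS
  have hdvd : p ∣ Nat.card (↥P →* ℂˣ) := by
    rw [hcard]
    obtain ⟨n, hn⟩ := IsPGroup.iff_card.mp hPp
    have h3 : 3 ≤ Nat.card P := by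
      have := hS.card
      have := hS.two_le
      omega
    rw [hn] at h3 ⊢
    rcases Nat.eq_zero_or_pos n with h0 | h0
    · subst h0
      simp at h3
    · exact dvd_pow_self p (by omega)
  obtain ⟨l0, hl0⟩ := exists_prime_orderOf_dvd_card' p hdvd
  have hl0ne : l0 ≠ 1 := by
    intro h
    rw [h, orderOf_one] at hl0
    exact hp.one_lt.ne hl0
  have hl0L : l0 ∈ L := hS.all_mem l0 hl0ne
  have hl0p : l0 ^ p = 1 := by
    rw [← hl0]
    exact pow_orderOf_eq_one l0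
  intro m hm
  obtain ⟨g, hg⟩ := hS.trans l0 hl0L m hm
  rw [hg, ← conjHom_pow_hom, hl0p, conjHom_one_hom]

/-- (A2) exponent `p` (Cauchy in the dual group `↥P →* ℂˣ`, transitivity, faithfulness). -/
theorem spec_pow_eq_one {p : ℕ} [Fact p.Prime] {χ : G → ℂ} (hH : Hyp p χ) (P : Subgroup G) [P.Normal]
    (hPp : IsPGroup p P) {L : Finset (↥P →* ℂˣ)} (hS : Spec χ P L) : ∀ x ∈ P, x ^ p = 1 := by
  classical
  intro x hx
  apply hH.faith
  have hpow := k2b_pow_hom P hPp hS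
  have h1 : χ (x ^ p) = ∑ l ∈ L, (((l (⟨x, hx⟩ ^ p : ↥P) : ℂˣ)) : ℂ) := by
    have := hS.res (⟨x, hx⟩ ^ p : ↥P)
    simpa using this
  rw [h1, hS.deg]
  have h2 : ∀ l ∈ L, (((l (⟨x, hx⟩ ^ p : ↥P) : ℂˣ)) : ℂ) = 1 := by
    intro l hl
    have h3 : l (⟨x, hx⟩ ^ p : ↥P) = (l ^ p) ⟨x, hx⟩ := by
      rw [map_pow]
      rfl
    rw [h3, hpow l hl]
    simp
  rw [Finset.sum_congr rfl h2]
  simp

/-- (A4) -/
theorem spec_inf_center {p : ℕ} [Fact p.Prime] {χ : G → ℂ} (hH : Hyp p χ) (P : Subgroup G) [P.Normal]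
    (hPp : IsPGroup p P) {L : Finset (↥P →* ℂˣ)} (hS : Spec χ P L) : P ⊓ Subgroup.center G = ⊥ := by
  classical
  rw [eq_bot_iff]
  intro z hz
  rw [Subgroup.mem_bot]
  by_contra hz1
  obtain ⟨hzP, hzZ⟩ := hz
  have hp : p.Prime := Fact.out
  -- `p ∣ orderOf z`
  have hord : p ∣ orderOf z := by
    obtain ⟨k, hk⟩ := (IsPGroup.iff_orderOf.mp hPp) ⟨z, hzP⟩
    have hk' : orderOf z = p ^ k := by
      rw [← hk]
      exact (Subgroup.orderOf_mk z hzP).symm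
    rw [hk']
    rcases Nat.eq_zero_or_pos k with h0 | h0
    · exfalso
      subst h0
      rw [pow_zero, orderOf_eq_one_iff] at hk'
      exact hz1 hk'
    · exact dvd_pow_self p (by omega)
  have hn1 : ‖χ z‖ = 1 := hH.unit z hord
  -- a member of `L`
  have hLne : L.Nonempty := by
    rw [← Finset.card_pos]
    have := hS.two_le
    omega
  obtain ⟨l0, hl0⟩ := hLne
  have hall : ∀ m ∈ L, (((m ⟨z, hzP⟩ : ℂˣ)) : ℂ) = (((l0 ⟨z, hzP⟩ : ℂˣ)) : ℂ) := by
    intro m hm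
    obtain ⟨g, hg⟩ := hS.trans l0 hl0 m hm
    rw [hg, conjHom_apply]
    congr 3
    have := (Subgroup.mem_center_iff.mp hzZ) g
    show g * z * g⁻¹ = z
    rw [this, mul_inv_cancel_right]
  have hχz : χ z = (L.card : ℂ) * (((l0 ⟨z, hzP⟩ : ℂˣ)) : ℂ) := by
    have := hS.res ⟨z, hzP⟩
    rw [Finset.sum_congr rfl hall] at this
    simpa using this
  have hunit : ‖(((l0 ⟨z, hzP⟩ : ℂˣ)) : ℂ)‖ = 1 := by
    have hfin : (⟨z, hzP⟩ : ↥P) ^ orderOf (⟨z, hzP⟩ : ↥P) = 1 := pow_orderOf_eq_one _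
    have hpos : orderOf (⟨z, hzP⟩ : ↥P) ≠ 0 := (orderOf_pos _).ne'
    refine Complex.norm_eq_one_of_pow_eq_one (n := orderOf (⟨z, hzP⟩ : ↥P)) ?_ hpos
    rw [← Units.val_pow_eq_pow_val, ← map_pow, hfin, map_one, Units.val_one]
  rw [hχz, norm_mul, hunit, mul_one, Complex.norm_natCast] at hn1
  have h2 := hS.two_le
  have : (2 : ℝ) ≤ (L.card : ℝ) := by exact_mod_cast h2
  linarith

omit [Finite G] in
/-- k2b: a degree-one character that is not the principal one is `lin l` with `l ∈ L`. -/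
theorem k2b_lin_mem {χ : G → ℂ} (P : Subgroup G) [P.Normal]
    {L : Finset (↥P →* ℂˣ)} (hS : Spec χ P L) (lam : ↥P → ℂ)
    (hlam : Cfsg.IsCharacter ↥P lam) (hlam1 : lam 1 = 1) (hlamne : lam ≠ (fun _ => (1 : ℂ))) :
    ∃ l ∈ L, lam = fun x => (((l x : ℂˣ)) : ℂ) := by
  obtain ⟨n, ρ, rfl⟩ := hlam
  have hn : n = 1 := by
    rw [Representation.char_one] at hlam1
    simpa using hlam1
  subst hn
  have hirr : Cfsg.IsIrrCharacter ↥P ρ.character :=
    ⟨1, ρ, Cfsg.Agent.Lib.Helper1.irreducible_of_finrank_eq_one ρ (by simp), rfl⟩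
  obtain ⟨l, hl⟩ := Cfsg.Agent.Lib.Helper1.exists_hom_of_isIrrCharacter hirr hlam1
  refine ⟨l, ?_, hl⟩
  apply hS.all_mem
  intro h1
  apply hlamne
  rw [hl, h1]
  funext x
  simp

set_option linter.unusedSectionVars false in
/-- (A5) in the shape of the statement. -/
theorem spec_trans_fun {χ : G → ℂ} (P : Subgroup G) [P.Normal]
    {L : Finset (↥P →* ℂˣ)} (hS : Spec χ P L) (lam mu : ↥P → ℂ)
    (hlam : Cfsg.IsCharacter ↥P lam) (hlam1 : lam 1 = 1) (hlamne : lam ≠ (fun _ => (1 : ℂ)))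
    (hmu : Cfsg.IsCharacter ↥P mu) (hmu1 : mu 1 = 1) (hmune : mu ≠ (fun _ => (1 : ℂ))) :
    ∃ g : G, ∀ (x : G) (hx : x ∈ P) (hgx : g * x * g⁻¹ ∈ P), mu ⟨x, hx⟩ = lam ⟨g * x * g⁻¹, hgx⟩ := by
  obtain ⟨l, hlL, rfl⟩ := k2b_lin_mem P hS lam hlam hlam1 hlamne
  obtain ⟨m, hmL, rfl⟩ := k2b_lin_mem P hS mu hmu hmu1 hmune
  obtain ⟨g, hg⟩ := hS.trans l hlL m hmL
  refine ⟨g, fun x hx hgx => ?_⟩
  show (((m ⟨x, hx⟩ : ℂˣ)) : ℂ) = (((l ⟨g * x * g⁻¹, hgx⟩ : ℂˣ)) : ℂ)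
  rw [hg, conjHom_apply]

/-- the centre is a `p'`-group when `P = O_p(G)` meets it trivially. -/
theorem center_coprime {p : ℕ} [Fact p.Prime]
    (hPZ : Cfsg.pCore p G ⊓ Subgroup.center G = ⊥) : (Nat.card (Subgroup.center G)).Coprime p := by
  have hp : p.Prime := Fact.out
  rw [Nat.coprime_comm, Nat.Prime.coprime_iff_not_dvd hp]
  intro hdvd
  obtain ⟨z, hz⟩ := exists_prime_orderOf_dvd_card' p hdvd
  have hzG : orderOf (z : G) = p := by
    rw [Subgroup.orderOf_coe]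
    exact hz
  have hN : (Subgroup.zpowers (z : G)).Normal := by
    refine ⟨fun n hn g => ?_⟩
    have hnc : n ∈ Subgroup.center G := (Subgroup.zpowers_le.2 z.2) hn
    have h1 : g * n * g⁻¹ = n := by
      rw [(Subgroup.mem_center_iff.mp hnc) g, mul_inv_cancel_right]
    rw [h1]
    exact hn
  have hNp : IsPGroup p (Subgroup.zpowers (z : G)) := by
    apply IsPGroup.of_card (n := 1)
    rw [Nat.card_zpowers, hzG, pow_one]
  have hle : Subgroup.zpowers (z : G) ≤ Cfsg.pCore p G := Cfsg.Agent.Lib.Helper9.le_pCore hN hNp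
  have hmem : (z : G) ∈ Cfsg.pCore p G ⊓ Subgroup.center G :=
    ⟨hle (Subgroup.mem_zpowers _), z.2⟩
  rw [hPZ, Subgroup.mem_bot] at hmem
  rw [hmem, orderOf_one] at hzG
  exact hp.one_lt.ne hzG

end Cfsg.Agent.Lib.Helper8.Chr8
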