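import Mathlib
import Cfsg.Agent.Lib.Lead.Coprime

set_option autoImplicit false

/-! A 1-cocycle with values in an abelian group of exponent `p` that vanishes on a subgroup of index
prime to `p` is a coboundary (concrete form inside an ambient group). -/

namespace Cfsg.Agent.Lib.Helper6

open Cfsg.Agent.Lib.Lead
open scoped IsMulCommutative

section
variable {H : Type*} [Group H]

theorem exists_coboundary_of_sylow_trivial [Finite H] {p : ℕ} [hp : Fact p.Prime]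
    (W K T : Subgroup H) [IsMulCommutative W] (hWp : ∀ w ∈ W, w ^ p = 1)
    (hKW : K ≤ Subgroup.normalizer (W : Set H)) (hTK : T ≤ K)
    (hidx : (T.relIndex K).Coprime p) (z : H) (hzW : ∀ k ∈ K, k * z * k⁻¹ * z⁻¹ ∈ W)
    (hzT : ∀ t ∈ T, t * z * t⁻¹ = z) :
    ∃ w ∈ W, ∀ k ∈ K, k * z * k⁻¹ * z⁻¹ = k * w * k⁻¹ * w⁻¹ := by
  classical
  let δ : ↥K → ↥W := fun k => ⟨k * z * (k : H)⁻¹ * z⁻¹, hzW k k.2⟩
  let cW : ↥K → (↥W →* ↥W) := fun g => conjHom W (g : H) (hKW g.2)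
  have hδ_mul : ∀ g k : ↥K, δ (g * k) = cW g (δ k) * δ g := by
    intro g k
    apply Subtype.ext
    simp only [δ, cW, Subgroup.coe_mul, conjHom_coe]
    group
  have hδ_T : ∀ (k t : ↥K), (t : H) ∈ T → δ (k * t) = δ k := by
    intro k t ht
    rw [hδ_mul]
    have h1 : δ t = 1 := by
      apply Subtype.ext
      simp only [δ, Subgroup.coe_one]
      rw [hzT t ht, mul_inv_cancel]
    rw [h1, map_one, one_mul]
  set T' : Subgroup ↥K := T.subgroupOf K with hT'
  let F : ↥K ⧸ T' → ↥W := Quotient.lift δ (by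
    intro a b hab
    have h1 : a⁻¹ * b ∈ T' := QuotientGroup.leftRel_apply.mp hab
    have h2 : b = a * (a⁻¹ * b) := by group
    rw [h2]
    exact (hδ_T a (a⁻¹ * b) (Subgroup.mem_subgroupOf.mp h1)).symm)
  have hF_mk : ∀ k : ↥K, F (k : ↥K ⧸ T') = δ k := fun k => rfl
  haveI : Fintype (↥K ⧸ T') := Fintype.ofFinite _
  set s : ↥W := ∏ c : ↥K ⧸ T', F c with hs
  set n : ℕ := Fintype.card (↥K ⧸ T') with hn
  have hn' : n = T.relIndex K := by
    rw [hn, ← Nat.card_eq_fintype_card]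
    rfl
  -- the key identity
  have key : ∀ g : ↥K, s = cW g s * δ g ^ n := by
    intro g
    have h1 : ∏ c : ↥K ⧸ T', F (g • c) = s := by
      rw [hs]
      exact Fintype.prod_equiv (MulAction.toPerm g) _ _ (fun c => rfl)
    have h2 : ∏ c : ↥K ⧸ T', F (g • c) = ∏ c : ↥K ⧸ T', (cW g (F c) * δ g) := by
      apply Finset.prod_congr rfl
      intro c _
      induction c using QuotientGroup.induction_on with
      | H k =>
        have : g • (k : ↥K ⧸ T') = ((g * k : ↥K) : ↥K ⧸ T') := rfl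
        rw [this, hF_mk, hF_mk, hδ_mul]
    calc s = ∏ c : ↥K ⧸ T', F (g • c) := h1.symm
      _ = ∏ c : ↥K ⧸ T', (cW g (F c) * δ g) := h2
      _ = cW g s * δ g ^ n := by
        rw [Finset.prod_mul_distrib, Finset.prod_const, Finset.card_univ, ← map_prod]
  -- invert `n` modulo `p`
  have hcop : n.Coprime p := by rw [hn']; exact hidx
  have hpowW : ∀ w : ↥W, w ^ p = 1 := by
    intro w
    apply Subtype.ext
    simpa using hWp w w.2
  obtain ⟨m, hm⟩ : ∃ m : ℕ, ∀ w : ↥W, (w ^ n) ^ m = w := by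
    have h1 : ∀ w : ↥W, ∃ m : ℕ, (w ^ n) ^ m = w := by
      intro w
      apply exists_pow_eq_self_of_coprime
      have hdvd : orderOf w ∣ p := orderOf_dvd_of_pow_eq_one (hpowW w)
      exact (Nat.Coprime.coprime_dvd_right hdvd hcop)
    -- uniform exponent: use Bezout
    obtain ⟨m, -, hm⟩ := Nat.exists_mul_mod_eq_one_of_coprime hcop hp.out.one_lt
    refine ⟨m, fun w => ?_⟩
    rw [← pow_mul]
    have h2 : w ^ (n * m) = w ^ (n * m % p) := by
      conv_lhs => rw [← Nat.div_add_mod (n * m) p, pow_add, pow_mul, hpowW, one_pow, one_mul]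
    rw [h2, hm, pow_one]
  -- the coboundary
  obtain ⟨w, hw⟩ : ∃ w : ↥W, w = (s ^ m)⁻¹ := ⟨_, rfl⟩
  refine ⟨(w : H), w.2, ?_⟩
  intro k hk
  have h1 := key ⟨k, hk⟩
  -- δ k = (δ k ^ n) ^ m = (s * (cW k s)⁻¹) ^ m
  have h2 : δ ⟨k, hk⟩ ^ n = s * (cW ⟨k, hk⟩ s)⁻¹ := by
    rw [eq_mul_inv_iff_mul_eq, mul_comm]
    exact h1.symm
  have h3 : δ ⟨k, hk⟩ = cW ⟨k, hk⟩ w * w⁻¹ := by
    rw [hw, ← hm (δ ⟨k, hk⟩), h2, mul_pow, inv_pow, map_inv, map_pow, inv_inv, mul_comm]
  have h4 := congrArg Subtype.val h3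
  simp only [δ, cW, conjHom_coe, Subgroup.coe_mul, Subgroup.coe_inv] at h4
  exact h4

end

end Cfsg.Agent.Lib.Helper6
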