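import Mathlib
import Cfsg.Agent.Lib.Helper2.PStInd
import Cfsg.Agent.Lib.Helper4.FusionLift3
import Cfsg.Agent.Lib.Helper7.CstrK1
import Cfsg.Agent.Lib.Helper7.CstrK3
import Cfsg.Agent.Lib.Helper8.CstrK2
import Cfsg.Agent.Lib.Helper3.CstrK4
import Cfsg.Agent.Lib.Lead.OddStable2
import Cfsg.Agent.Lib.Helper8.PStC
import Cfsg.Agent.Lib.Helper5.PStB
import Cfsg.Agent.Lib.Helper3.CstrK6

set_option autoImplicit false

/-!
# S5280, package K5: in the class `InS`, some `Q ≤ S` with `C_S(Q) ≤ Q` has a normalizer controlling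
strong fusion in `S`
-/

namespace Cfsg.Agent.Lib.Helper6.CstrK5

open Cfsg Cfsg.Agent.Lib.Helper2.PSt Cfsg.Agent.Lib.Lead Cfsg.Agent.Lib.Lead.SCF
  Cfsg.Agent.Lib.Helper4
open Cfsg.Agent.Lib.Helper7.CstrK1 Cfsg.Agent.Lib.Helper7.CstrK3 Cfsg.Agent.Lib.Helper8.CstrK2
  Cfsg.Agent.Lib.Helper3.CstrK4

universe u

variable {p : ℕ} [Fact p.Prime]

theorem ctl_of_normal_self {Y : Type*} [Group Y] (Q S : Subgroup Y) [Q.Normal] : Ctl Q S := by
  intro A g _ _
  exact ⟨g, by rw [Subgroup.normalizer_eq_top]; exact Subgroup.mem_top g, fun a _ => rfl⟩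

theorem hasCtlCentric_of_normalizer {Y : Type*} [Group Y] {Q S : Subgroup Y}
    (hSQ : S ≤ Subgroup.normalizer (Q : Set Y)) (hc : Ctl Q S)
    (h : Cfsg.Agent.Lib.Helper3.CstrK6.HasCtlCentric (S.subgroupOf (Subgroup.normalizer (Q : Set Y)))) : Cfsg.Agent.Lib.Helper3.CstrK6.HasCtlCentric S := by
  obtain ⟨Q', hQ'S, hSQ', hc', hcen⟩ := h
  refine ⟨Q'.map (Subgroup.normalizer (Q : Set Y)).subtype, ?_, ?_, ctl_trans hSQ hc Q' hc', ?_⟩
  · rintro _ ⟨x, hx, rfl⟩
    exact Subgroup.mem_subgroupOf.mp (hQ'S hx)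
  · intro s hs
    have h1 : (⟨s, hSQ hs⟩ : ↥(Subgroup.normalizer (Q : Set Y))) ∈
        Subgroup.normalizer (Q' : Set ↥(Subgroup.normalizer (Q : Set Y))) :=
      hSQ' (Subgroup.mem_subgroupOf.mpr hs)
    exact Subgroup.le_normalizer_map (Subgroup.normalizer (Q : Set Y)).subtype
      ⟨⟨s, hSQ hs⟩, h1, rfl⟩
  · intro x hx
    obtain ⟨hxS, hxC⟩ := Subgroup.mem_inf.mp hx
    have hxH : x ∈ Subgroup.normalizer (Q : Set Y) := hSQ hxS
    have h1 : (⟨x, hxH⟩ : ↥(Subgroup.normalizer (Q : Set Y))) ∈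
        S.subgroupOf (Subgroup.normalizer (Q : Set Y)) ⊓
          Subgroup.centralizer (Q' : Set ↥(Subgroup.normalizer (Q : Set Y))) := by
      refine Subgroup.mem_inf.mpr ⟨Subgroup.mem_subgroupOf.mpr hxS, ?_⟩
      rw [Subgroup.mem_centralizer_iff]
      intro q hq
      apply Subtype.ext
      rw [Subgroup.mem_centralizer_iff] at hxC
      exact hxC q.1 ⟨q, hq, rfl⟩
    exact ⟨⟨x, hxH⟩, hcen h1, rfl⟩

theorem normalizer_le_normalizer_sup {Y : Type*} [Group Y] (Q R : Subgroup Y) [R.Normal] :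
    Subgroup.normalizer (Q : Set Y) ≤ Subgroup.normalizer ((Q ⊔ R : Subgroup Y) : Set Y) := by
  intro x hx
  rw [Subgroup.mem_normalizer_iff_map_conj_eq] at hx ⊢
  rw [Subgroup.map_sup, hx, Subgroup.Normal.map_conj_eq]

/-- K5: the main induction -/
theorem hasCtlCentric_of_inS (hp : p ≠ 2)
    (hD : ∀ (Z : Type u) [Group Z] [Finite Z], InS p Z → ZJ.Stab22 p Z) :
    ∀ n : ℕ, ∀ (Y : Type u) [Group Y] [Finite Y], Nat.card Y = n → InS p Y →
      ∀ S : Sylow p Y, Cfsg.Agent.Lib.Helper3.CstrK6.HasCtlCentric (S : Subgroup Y) := by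
  intro n
  induction n using Nat.strong_induction_on with
  | _ n ih =>
  intro Y _ _ hn hY S
  classical
  have hSp : IsPGroup p (S : Subgroup Y) := S.isPGroup'
  -- a maximal candidate
  obtain ⟨Q, ⟨hQS, hSQ, hQc⟩, hQmax⟩ :=
    (wellFounded_gt (α := Subgroup Y)).has_min
      {Q : Subgroup Y | Q ≤ (S : Subgroup Y) ∧
        (S : Subgroup Y) ≤ Subgroup.normalizer (Q : Set Y) ∧ Ctl Q (S : Subgroup Y)}
      ⟨⊥, bot_le, by rw [Subgroup.normalizer_eq_top]; exact le_top, ctl_of_normal_self ⊥ _⟩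
  by_cases hH : Subgroup.normalizer (Q : Set Y) = ⊤
  swap
  · -- step 1: descend to the normalizer
    apply hasCtlCentric_of_normalizer hSQ hQc
    have hlt : Nat.card ↥(Subgroup.normalizer (Q : Set Y)) < n := by
      rw [← hn]
      exact Cfsg.Agent.Lib.Helper4.card_subgroup_lt_of_ne_top hH
    have h1 := ih _ hlt ↥(Subgroup.normalizer (Q : Set Y)) rfl
      (Cfsg.Agent.Lib.Helper5.PStB.inS_subgroup hY _) (S.subtype hSQ)
    rwa [Sylow.coe_subtype] at h1
  -- step 2: `Q = O_p(Y)`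
  have hQn : Q.Normal := Subgroup.normalizer_eq_top_iff.mp hH
  have hRn : (pCore p Y).Normal := Cfsg.Agent.Lib.Lead.pCore_normal p
  have hRS : pCore p Y ≤ (S : Subgroup Y) := Cfsg.Agent.Lib.Helper6.pCore_le_sylow S
  have hQR : Q ≤ pCore p Y := Cfsg.Agent.Lib.Helper6.le_pCore hQn (hSp.to_le hQS)
  have hRmem : pCore p Y ∈ {Q : Subgroup Y | Q ≤ (S : Subgroup Y) ∧
      (S : Subgroup Y) ≤ Subgroup.normalizer (Q : Set Y) ∧ Ctl Q (S : Subgroup Y)} :=
    ⟨hRS, by rw [Subgroup.normalizer_eq_top]; exact le_top, ctl_of_normal_self _ _⟩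
  have hQeq : Q = pCore p Y := by
    by_contra hne
    exact hQmax _ hRmem (lt_of_le_of_ne hQR hne)
  by_cases hcen : (S : Subgroup Y) ⊓ Subgroup.centralizer ((pCore p Y : Subgroup Y) : Set Y) ≤
      pCore p Y
  · exact ⟨pCore p Y, hRmem.1, hRmem.2.1, hRmem.2.2, hcen⟩
  -- step 3: the centralizer of `O_p(Y)`
  exfalso
  set R : Subgroup Y := pCore p Y with hR
  set C : Subgroup Y := Subgroup.centralizer (R : Set Y) with hC
  have hCn : C.Normal := by rw [hC]; infer_instance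
  have hT : IsPGroup p (((S : Subgroup Y) ⊓ C).subgroupOf C) :=
    (hSp.to_le inf_le_left).comap_subtype
  have hTi : ¬ p ∣ (((S : Subgroup Y) ⊓ C).subgroupOf C).index := by
    have h1 : SylIn p (⊤ : Subgroup Y) (S : Subgroup Y) :=
      ⟨le_top, hSp, by rw [Subgroup.relIndex_top_right]; exact S.not_dvd_index⟩
    have h2 := sylIn_inf_normal (le_top : C ≤ ⊤)
      (by rw [Subgroup.normalizer_eq_top]) h1
    exact h2.2.2
  let T' : Sylow p ↥C := hT.toSylow hTi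
  have hT' : (T' : Subgroup ↥C) = ((S : Subgroup Y) ⊓ C).subgroupOf C := IsPGroup.toSylow_coe _ _
  set Z : Subgroup ↥C := pCore p ↥C with hZ
  have hZn : Z.Normal := Cfsg.Agent.Lib.Lead.pCore_normal p
  have hZR : Z.map C.subtype ≤ R := OddStable.pCore_map_subtype_le_of_normal C
  have hZc : Z ≤ Subgroup.center ↥C := by
    intro z hz
    rw [Subgroup.mem_center_iff]
    intro c
    apply Subtype.ext
    have h1 : (z : Y) ∈ R := hZR ⟨z, hz, rfl⟩
    have h2 : (c : Y) ∈ Subgroup.centralizer (R : Set Y) := c.2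
    rw [Subgroup.mem_centralizer_iff] at h2
    exact (h2 _ h1).symm
  have hZT : Z ≤ (T' : Subgroup ↥C) := Cfsg.Agent.Lib.Helper6.pCore_le_sylow T'
  have hG1 : (T' : Subgroup ↥C) ⊔ Subgroup.centralizer ((pCore p ↥C : Subgroup ↥C) : Set ↥C) = ⊤ := by
    have : Subgroup.centralizer ((pCore p ↥C : Subgroup ↥C) : Set ↥C) = ⊤ := by
      rw [Subgroup.centralizer_eq_top_iff_subset]
      exact hZc
    rw [this, sup_top_eq]
  have hInS : InS p (↥C ⧸ Z) :=
    Cfsg.Agent.Lib.Helper8.PStC.inS_quot_pCore (Cfsg.Agent.Lib.Helper5.PStB.inS_subgroup hY C) T' hG1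
  let Tb : Sylow p (↥C ⧸ Z) := T'.mapSurjective (QuotientGroup.mk'_surjective Z)
  have hTb : (Tb : Subgroup (↥C ⧸ Z)) = (T' : Subgroup ↥C).map (QuotientGroup.mk' Z) :=
    Sylow.coe_mapSurjective _ _
  have hctlb := Cfsg.Agent.Lib.Helper2.PStInd.ctl_zj_of_inS hp hD hInS Tb
  rw [hTb] at hctlb
  set Wb : Subgroup (↥C ⧸ Z) :=
    Cfsg.centerThompsonAOf ((T' : Subgroup ↥C).map (QuotientGroup.mk' Z)) with hWb
  set Q0' : Subgroup ↥C := Wb.comap (QuotientGroup.mk' Z) with hQ0'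
  have hWbT : Wb ≤ (T' : Subgroup ↥C).map (QuotientGroup.mk' Z) := by
    rw [hWb, ZJ.centerThompsonAOf_eq]; exact ZJ.wsub_le 0 _
  have hZQ0 : Z ≤ Q0' := by
    intro z hz
    rw [hQ0', Subgroup.mem_comap]
    have : QuotientGroup.mk' Z z = 1 := (QuotientGroup.eq_one_iff z).mpr hz
    rw [this]; exact Subgroup.one_mem _
  have hQ0T : Q0' ≤ (T' : Subgroup ↥C) := by
    intro x hx
    obtain ⟨t, ht, htx⟩ := hWbT (Subgroup.mem_comap.mp hx)
    have h1 : t⁻¹ * x ∈ Z := by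
      rw [← QuotientGroup.eq_one_iff, QuotientGroup.mk_mul, QuotientGroup.mk_inv]
      change (QuotientGroup.mk' Z t)⁻¹ * QuotientGroup.mk' Z x = 1
      rw [htx]; simp
    have : x = t * (t⁻¹ * x) := by group
    rw [this]
    exact Subgroup.mul_mem _ ht (hZT h1)
  have hTQ0 : (T' : Subgroup ↥C) ≤ Subgroup.normalizer (Q0' : Set ↥C) := by
    intro t ht
    have h1 : QuotientGroup.mk' Z t ∈ Subgroup.normalizer (Wb : Set (↥C ⧸ Z)) := by
      rw [Subgroup.mem_normalizer_iff_map_conj_eq, hWb, ZJ.centerThompsonAOf_eq]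
      have h2 := ZJ.wsub_map_of_injective 0 ((T' : Subgroup ↥C).map (QuotientGroup.mk' Z))
        (MulAut.conj (QuotientGroup.mk' Z t)).toMonoidHom (MulAut.conj _).injective
      have h3 : ((T' : Subgroup ↥C).map (QuotientGroup.mk' Z)).map
          (MulAut.conj (QuotientGroup.mk' Z t)).toMonoidHom =
          (T' : Subgroup ↥C).map (QuotientGroup.mk' Z) := by
        have h4 : QuotientGroup.mk' Z t ∈ Subgroup.normalizer
            (((T' : Subgroup ↥C).map (QuotientGroup.mk' Z) : Subgroup (↥C ⧸ Z)) : Set (↥C ⧸ Z)) :=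
          Subgroup.le_normalizer ⟨t, ht, rfl⟩
        exact Subgroup.mem_normalizer_iff_map_conj_eq.mp h4
      rw [h3] at h2
      exact h2
    exact Subgroup.le_normalizer_comap (QuotientGroup.mk' Z) (Subgroup.mem_comap.mpr h1)
  have hQ0map : Q0'.map (QuotientGroup.mk' Z) = Wb :=
    Subgroup.map_comap_eq_self_of_surjective (QuotientGroup.mk'_surjective Z) Wb
  -- K2
  have hctl1 : Ctl Q0' (T' : Subgroup ↥C) := by
    apply ctl_of_central_quotient T' Z Q0' hZc (Cfsg.Agent.Lib.Helper6.pCore_isPGroup p) hZQ0 hQ0T hTQ0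
    rw [hQ0map]
    exact hctlb
  -- K4 + K3
  set Q0 : Subgroup Y := Q0'.map C.subtype with hQ0
  have hQ0SC : Q0 ≤ (S : Subgroup Y) ⊓ C := by
    rintro _ ⟨x, hx, rfl⟩
    have := hQ0T hx
    rw [hT'] at this
    exact Subgroup.mem_subgroupOf.mp this
  have hNN : Subgroup.normalizer ((((S : Subgroup Y) ⊓ C : Subgroup Y)) : Set Y) ≤
      Subgroup.normalizer (Q0 : Set Y) := by
    intro n hn'
    have hnC : ∀ c ∈ C, n * c * n⁻¹ ∈ C := fun c hc => hCn.conj_mem c hc n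
    have hnZ : ∀ (c : ↥C), c ∈ Z → (⟨n * c * n⁻¹, hnC c c.2⟩ : ↥C) ∈ Z := by
      intro c hc
      have h1 : (MulAut.conjNormal n : MulAut ↥C) c ∈ Z := by
        have hchar : Z.Characteristic := OddStable.pCore_characteristic' p
        have := Subgroup.characteristic_iff_map_le.mp hchar (MulAut.conjNormal n)
        exact this ⟨c, hc, rfl⟩
      exact h1
    have hnT : ∀ (c : ↥C), c ∈ (T' : Subgroup ↥C) →
        (⟨n * c * n⁻¹, hnC c c.2⟩ : ↥C) ∈ (T' : Subgroup ↥C) := by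
      intro c hc
      rw [hT', Subgroup.mem_subgroupOf] at hc ⊢
      exact (Subgroup.mem_normalizer_iff.mp hn' _).mp hc
    apply Subgroup.mem_normalizer_fintype
    rintro _ ⟨c, hc, rfl⟩
    exact ⟨⟨n * c * n⁻¹, hnC c c.2⟩, conj_mem_comap_zj C Z (T' : Subgroup ↥C) n hnC hnZ hnT c hc, rfl⟩
  have hctl2 : Ctl Q0 (S : Subgroup Y) := by
    apply ctl_of_normal S C Q0 hQ0SC hNN
    have h1 : Q0.subgroupOf C = Q0' := by
      rw [hQ0]
      exact Subgroup.comap_map_eq_self_of_injective C.subtype_injective Q0'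
    rw [h1, ← hT']
    exact hctl1
  -- step 6
  have hSN : (S : Subgroup Y) ≤ Subgroup.normalizer ((((S : Subgroup Y) ⊓ C : Subgroup Y)) : Set Y) := by
    intro s hs
    rw [Subgroup.mem_normalizer_iff]
    intro x
    constructor
    · rintro ⟨hx1, hx2⟩
      exact ⟨Subgroup.mul_mem _ (Subgroup.mul_mem _ hs hx1) (Subgroup.inv_mem _ hs),
        hCn.conj_mem x hx2 s⟩
    · rintro ⟨hx1, hx2⟩
      refine ⟨?_, ?_⟩
      · have : x = s⁻¹ * (s * x * s⁻¹) * s := by group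
        rw [this]
        exact Subgroup.mul_mem _ (Subgroup.mul_mem _ (Subgroup.inv_mem _ hs) hx1) hs
      · have : x = s⁻¹ * (s * x * s⁻¹) * s⁻¹⁻¹ := by group
        rw [this]
        exact hCn.conj_mem _ hx2 s⁻¹
  have hQ1mem : Q0 ⊔ R ∈ {Q : Subgroup Y | Q ≤ (S : Subgroup Y) ∧
      (S : Subgroup Y) ≤ Subgroup.normalizer (Q : Set Y) ∧ Ctl Q (S : Subgroup Y)} :=
    ⟨sup_le (hQ0SC.trans inf_le_left) hRS,
      (hSN.trans hNN).trans (normalizer_le_normalizer_sup Q0 R),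
      ctl_mono (normalizer_le_normalizer_sup Q0 R) hctl2⟩
  have hQ0R : Q0 ≤ R := by
    by_contra hne
    apply hQmax _ hQ1mem
    rw [hQeq]
    refine lt_of_le_of_ne le_sup_right ?_
    intro heq
    apply hne
    rw [heq]
    exact le_sup_left
  -- contradiction
  have hQ0Z : Q0' ≤ Z := by
    have hn1 : ((R ⊓ C).subgroupOf C).Normal := by
      have : (R ⊓ C).Normal := inferInstance
      exact Subgroup.Normal.subgroupOf this C
    have hp1 : IsPGroup p ((R ⊓ C).subgroupOf C) :=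
      ((Cfsg.Agent.Lib.Helper6.pCore_isPGroup (G := Y) p).to_le inf_le_left).comap_subtype
    have h1 : (R ⊓ C).subgroupOf C ≤ Z := Cfsg.Agent.Lib.Helper6.le_pCore hn1 hp1
    intro x hx
    apply h1
    rw [Subgroup.mem_subgroupOf]
    exact ⟨hQ0R ⟨x, hx, rfl⟩, x.2⟩
  have hWbot : Wb = ⊥ := by
    rw [← hQ0map, Subgroup.map_eq_bot_iff, QuotientGroup.ker_mk']
    exact hQ0Z
  have hTbne : (T' : Subgroup ↥C).map (QuotientGroup.mk' Z) ≠ ⊥ := by
    intro hbot
    apply hcen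
    rw [Subgroup.map_eq_bot_iff, QuotientGroup.ker_mk'] at hbot
    intro x hx
    have hxC : x ∈ C := hx.2
    have h1 : (⟨x, hxC⟩ : ↥C) ∈ (T' : Subgroup ↥C) := by
      rw [hT', Subgroup.mem_subgroupOf]; exact hx
    exact hZR ⟨⟨x, hxC⟩, hbot h1, rfl⟩
  have hWne : Wb ≠ ⊥ := by
    rw [hWb, ZJ.centerThompsonAOf_eq]
    exact ZJ.wsub_ne_bot 0 (dvd_zero p) _ ((T'.isPGroup').map _) hTbne
  exact hWne hWbot

end Cfsg.Agent.Lib.Helper6.CstrK5
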