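import Mathlib
import Cfsg.Agent.Lib.Helper6.Stability
import Cfsg.Agent.Lib.Helper6.SylowIdx

set_option autoImplicit false

namespace Cfsg.Agent.Lib.Helper6

variable {G : Type*} [Group G]

/-- If a Sylow `p`-subgroup `P` is cyclic and its normalizer centralizes a nontrivial element of `P`,
then the normalizer of `P` centralizes `P`. -/
theorem normalizer_le_centralizer_of_cyclic_of_fixed {p : ℕ} [Fact p.Prime] [Finite G] (P : Sylow p G)
    (hcyc : IsCyclic (P : Subgroup G)) (x : G) (hxP : x ∈ (P : Subgroup G)) (hx1 : x ≠ 1)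
    (hN : ∀ g ∈ Subgroup.normalizer ((P : Subgroup G) : Set G), g * x = x * g) :
    Subgroup.normalizer ((P : Subgroup G) : Set G) ≤
      Subgroup.centralizer ((P : Subgroup G) : Set G) := by
  have hp : p.Prime := Fact.out
  obtain ⟨⟨a, haP⟩, ha⟩ := hcyc.exists_generator
  have hgen : ∀ y ∈ (P : Subgroup G), ∃ j : ℤ, a ^ j = y := by
    intro y hy
    obtain ⟨j, hj⟩ := Subgroup.mem_zpowers_iff.mp (ha ⟨y, hy⟩)
    exact ⟨j, by simpa using congrArg Subtype.val hj⟩
  have hpow : ∀ h ∈ Subgroup.normalizer ((P : Subgroup G) : Set G),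
      ∃ m : ℤ, ∀ y ∈ (P : Subgroup G), h * y * h⁻¹ = y ^ m := by
    intro h hh
    have h1 : h * a * h⁻¹ ∈ (P : Subgroup G) := (Subgroup.mem_normalizer_iff.mp hh a).mp haP
    obtain ⟨m, hm⟩ := hgen _ h1
    refine ⟨m, ?_⟩
    intro y hy
    obtain ⟨j, rfl⟩ := hgen y hy
    rw [← conj_zpow, ← hm, ← zpow_mul, ← zpow_mul, mul_comm]
  have hxord : ∃ k : ℕ, k ≠ 0 ∧ orderOf x = p ^ k := by
    obtain ⟨k, hk⟩ := IsPGroup.iff_orderOf.mp P.isPGroup' ⟨x, hxP⟩
    rw [Subgroup.orderOf_mk] at hk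
    refine ⟨k, ?_, hk⟩
    rintro rfl
    rw [pow_zero, orderOf_eq_one_iff] at hk
    exact hx1 hk
  have hdiv : ∀ h ∈ Subgroup.normalizer ((P : Subgroup G) : Set G), ∀ m : ℤ,
      (∀ y ∈ (P : Subgroup G), h * y * h⁻¹ = y ^ m) → (p : ℤ) ∣ m - 1 := by
    intro h hh m hm
    have h1 : x ^ m = x := by
      rw [← hm x hxP, hN h hh]; group
    have h2 : x ^ (m - 1) = 1 := by rw [zpow_sub_one, h1, mul_inv_cancel]
    have h3 : (orderOf x : ℤ) ∣ m - 1 := orderOf_dvd_iff_zpow_eq_one.mpr h2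
    obtain ⟨k, hk0, hk⟩ := hxord
    refine dvd_trans ?_ h3
    rw [hk]
    push_cast
    exact dvd_pow_self _ hk0
  have haord : ∃ n : ℕ, orderOf a = p ^ n := by
    obtain ⟨k, hk⟩ := IsPGroup.iff_orderOf.mp P.isPGroup' ⟨a, haP⟩
    rw [Subgroup.orderOf_mk] at hk
    exact ⟨k, hk⟩
  -- elements of order prime to p
  have hp' : ∀ h ∈ Subgroup.normalizer ((P : Subgroup G) : Set G), (orderOf h).Coprime p →
      ∀ y ∈ (P : Subgroup G), h * y = y * h := by
    intro h hh hcop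
    obtain ⟨m, hm⟩ := hpow h hh
    obtain ⟨t, ht⟩ := hdiv h hh m hm
    obtain ⟨n, hn⟩ := haord
    have hchain := commute_of_stabilizes_chain (p := p) h hcop
      (fun i => Subgroup.zpowers (a ^ (p ^ (n - i))))
      (by simp [← hn, pow_orderOf_eq_one]) n
      (fun i _ => P.isPGroup'.to_le (Subgroup.zpowers_le.mpr (Subgroup.pow_mem _ haP _)))
      (by
        intro i hi r hr
        obtain ⟨j, rfl⟩ := Subgroup.mem_zpowers_iff.mp hr
        have hrP : (a ^ p ^ (n - (i + 1))) ^ j ∈ (P : Subgroup G) :=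
          Subgroup.zpow_mem _ (Subgroup.pow_mem _ haP _) _
        have e1 : ((a ^ p ^ (n - (i + 1))) ^ j)⁻¹ * h * (a ^ p ^ (n - (i + 1))) ^ j * h⁻¹
            = ((a ^ p ^ (n - (i + 1))) ^ j) ^ (m - 1) := by
          have := hm _ hrP
          set r := (a ^ p ^ (n - (i + 1))) ^ j with hr
          calc r⁻¹ * h * r * h⁻¹ = r⁻¹ * (h * r * h⁻¹) := by group
            _ = r⁻¹ * r ^ m := by rw [this]
            _ = r ^ (m - 1) := by
              rw [← zpow_neg_one, ← zpow_add]; congr 1; ring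
        rw [e1, ht]
        have e2 : n - i = (n - (i + 1)) + 1 := by omega
        rw [Subgroup.mem_zpowers_iff]
        refine ⟨j * t, ?_⟩
        rw [e2, pow_succ, pow_mul, ← zpow_natCast (a ^ p ^ (n - (i + 1))) p, ← zpow_mul,
          ← zpow_mul]
        congr 1
        ring)
      n le_rfl
    intro y hy
    apply hchain
    obtain ⟨j, rfl⟩ := hgen y hy
    simp only [Nat.sub_self, pow_zero, pow_one]
    exact Subgroup.zpow_mem_zpowers a j
  -- elements of p-power order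
  have hpel : ∀ h ∈ Subgroup.normalizer ((P : Subgroup G) : Set G), (∃ k : ℕ, orderOf h = p ^ k) →
      ∀ y ∈ (P : Subgroup G), h * y = y * h := by
    intro h hh hk
    have hz : IsPGroup p (Subgroup.zpowers h) := isPGroup_zpowers_of_orderOf hk
    have hsup : IsPGroup p (Subgroup.zpowers h ⊔ (P : Subgroup G) : Subgroup G) :=
      hz.to_sup_of_normal_right' P.isPGroup' (Subgroup.zpowers_le.mpr hh)
    have hEq : (Subgroup.zpowers h ⊔ (P : Subgroup G) : Subgroup G) = P :=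
      P.is_maximal' hsup le_sup_right
    have hhP : h ∈ (P : Subgroup G) := by
      rw [← hEq]; exact Subgroup.mem_sup_left (Subgroup.mem_zpowers h)
    intro y hy
    obtain ⟨i, rfl⟩ := hgen h hhP
    obtain ⟨j, rfl⟩ := hgen y hy
    rw [← zpow_add, ← zpow_add, add_comm]
  intro g hg
  have hg0 : orderOf g ≠ 0 := (orderOf_pos g).ne'
  obtain ⟨e, m', hm', hgm⟩ := Nat.exists_eq_pow_mul_and_not_dvd hg0 p hp.ne_one
  have hcop : Nat.Coprime (p ^ e) m' := Nat.Coprime.pow_left _ ((Nat.Prime.coprime_iff_not_dvd hp).mpr hm')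
  have ho1 : orderOf (g ^ p ^ e) = m' := by
    rw [orderOf_pow' g (pow_ne_zero e hp.ne_zero), hgm, Nat.gcd_eq_right (Dvd.intro _ rfl)]
    exact Nat.mul_div_cancel_left m' (pow_pos hp.pos e)
  have ho2 : orderOf (g ^ m') = p ^ e := by
    have hm0 : m' ≠ 0 := by
      rintro rfl
      exact hm' (dvd_zero p)
    rw [orderOf_pow' g hm0, hgm, Nat.gcd_eq_right (Dvd.intro_left _ rfl)]
    exact Nat.mul_div_cancel _ (Nat.pos_of_ne_zero hm0)
  have hN1 : g ^ p ^ e ∈ Subgroup.normalizer ((P : Subgroup G) : Set G) := Subgroup.pow_mem _ hg _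
  have hN2 : g ^ m' ∈ Subgroup.normalizer ((P : Subgroup G) : Set G) := Subgroup.pow_mem _ hg _
  have hc1 : g ^ p ^ e ∈ Subgroup.centralizer ((P : Subgroup G) : Set G) := by
    rw [Subgroup.mem_centralizer_iff]
    intro y hy
    refine (hp' _ hN1 ?_ y hy).symm
    rw [ho1]
    exact ((Nat.Prime.coprime_iff_not_dvd hp).mpr hm').symm
  have hc2 : g ^ m' ∈ Subgroup.centralizer ((P : Subgroup G) : Set G) := by
    rw [Subgroup.mem_centralizer_iff]
    intro y hy
    exact (hpel _ hN2 ⟨e, ho2⟩ y hy).symm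
  obtain ⟨u, v, huv⟩ := (Nat.isCoprime_iff_coprime.mpr hcop)
  have hgdec : g = (g ^ p ^ e) ^ u * (g ^ m') ^ v := by
    conv_lhs => rw [← zpow_one g, ← huv]
    rw [zpow_add, zpow_mul', zpow_mul', zpow_natCast, zpow_natCast]
  rw [hgdec]
  exact Subgroup.mul_mem _ (Subgroup.zpow_mem _ hc1 _) (Subgroup.zpow_mem _ hc2 _)

end Cfsg.Agent.Lib.Helper6
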