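import Cfsg.Agent.Lib.Helper6.DC1
import Cfsg.Prelude.Def_SporadicB

set_option autoImplicit false

namespace Cfsg.Agent.Lib.Helper6.DC

/-! # Double covers: the criterion with a central involution in the commutator subgroup -/

section abstract2
variable {H U K : Type*} [Group H] [Group U] [Group K]

/-- a subgroup of the centre is normal -/
theorem normal_of_le_center' {N : Subgroup H} (h : N ≤ Subgroup.center H) : N.Normal := by
  refine ⟨fun n hn g => ?_⟩
  have hc := Subgroup.mem_center_iff.mp (h hn) g
  rw [hc, mul_inv_cancel_right]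
  exact hn

/-- the powers of an involution -/
theorem zpow_of_sq {a : H} (ha : a * a = 1) (k : ℤ) : a ^ k = 1 ∨ a ^ k = a := by
  have h2 : a ^ (2 : ℤ) = 1 := by rw [zpow_ofNat, pow_two, ha]
  rcases Int.emod_two_eq_zero_or_one k with h | h
  · left
    have : k = 2 * (k / 2) := by omega
    rw [this, zpow_mul, h2, one_zpow]
  · right
    have : k = 2 * (k / 2) + 1 := by omega
    rw [this, zpow_add, zpow_mul, h2, one_zpow, one_mul, zpow_one]

theorem mem_zpowers_of_sq {a x : H} (ha : a * a = 1) (hx : x ∈ Subgroup.zpowers a) :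
    x = 1 ∨ x = a := by
  obtain ⟨k, rfl⟩ := Subgroup.mem_zpowers_iff.mp hx
  exact zpow_of_sq ha k

/-- in a commutative group two involutions whose product has order dividing three are equal -/
theorem eq_of_braid {A : Type*} [CommGroup A] {x y : A} (hx : x * x = 1) (hy : y * y = 1)
    (hxy : (x * y) ^ 3 = 1) : x = y := by
  have h1 : (x * y) ^ 3 = x * y := by
    rw [mul_pow, pow_succ, pow_two, hx, one_mul, pow_succ, pow_two, hy, one_mul]
  rw [h1] at hxy
  calc x = x * (y * y) := by rw [hy, mul_one]
    _ = (x * y) * y := by rw [mul_assoc]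
    _ = y := by rw [hxy, one_mul]

/-- a subgroup of index two contains the commutator subgroup -/
theorem commutator_le_of_index_two {L : Subgroup H} (h2 : L.index = 2) : commutator H ≤ L := by
  rw [commutator_eq_closure, Subgroup.closure_le]
  rintro _ ⟨x, y, rfl⟩
  rw [SetLike.mem_coe, commutatorElement_def, Subgroup.mul_mem_iff_of_index_two h2,
    Subgroup.mul_mem_iff_of_index_two h2, Subgroup.mul_mem_iff_of_index_two h2,
    Subgroup.inv_mem_iff, Subgroup.inv_mem_iff]
  tauto

/-- the criterion: a central involution `a` of `H` lying in the commutator subgroup, with the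
quotient by it isomorphic to a centreless group `U` -/
theorem nonsplit_of_quotient [Finite H] (a : H) (hac : a ∈ Subgroup.center H) (ha : a * a = 1)
    (ha1 : a ≠ 1) (N : Subgroup H) [N.Normal] (hN : N = Subgroup.zpowers a)
    (γ : U →* H ⧸ N) (hγ : Function.Bijective γ) (hZU : Subgroup.center U = ⊥)
    (β : U ≃* K) (hcomm : a ∈ commutator H) : Cfsg.IsNonsplitDoubleCover H K := by
  have ho : orderOf a = 2 := orderOf_eq_prime (by rw [pow_two]; exact ha) ha1
  have hcN : Nat.card N = 2 := by rw [hN, Nat.card_zpowers, ho]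
  have hNle : N ≤ Subgroup.center H := by
    rw [hN, Subgroup.zpowers_le]
    exact hac
  let e : U ≃* H ⧸ N := MulEquiv.ofBijective γ hγ
  have hle : Subgroup.center H ≤ N := by
    intro x hx
    rw [← QuotientGroup.eq_one_iff]
    have h1 : e.symm (QuotientGroup.mk x) ∈ Subgroup.center U := by
      rw [Subgroup.mem_center_iff]
      intro u
      apply e.injective
      rw [map_mul, map_mul, MulEquiv.apply_symm_apply]
      obtain ⟨y, hy⟩ := QuotientGroup.mk_surjective (e u)
      rw [← hy, ← QuotientGroup.mk_mul, ← QuotientGroup.mk_mul,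
        (Subgroup.mem_center_iff.mp hx) y]
    rw [hZU, Subgroup.mem_bot] at h1
    have h2 := congrArg e h1
    rw [MulEquiv.apply_symm_apply, map_one] at h2
    exact h2
  have heq : Subgroup.center H = N := le_antisymm hle hNle
  have hc2 : Nat.card (Subgroup.center H) = 2 := by rw [heq]; exact hcN
  refine ⟨hc2, ⟨?_⟩, ?_⟩
  · exact (QuotientGroup.quotientMulEquivOfEq heq).trans (e.symm.trans β)
  · intro L hL
    have h2 : L.index = 2 := index_two_of_complement hc2 hL
    have h3 : a ∈ L := commutator_le_of_index_two h2 hcomm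
    have h4 : a ∈ Subgroup.center H ⊓ L := ⟨hac, h3⟩
    rw [hL.disjoint.eq_bot, Subgroup.mem_bot] at h4
    exact ha1 h4

end abstract2

end Cfsg.Agent.Lib.Helper6.DC
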