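import Mathlib
import Cfsg.Prelude.Def_PLocal
import Cfsg.Agent.Lib.Helper6.ChermakDelgado4
import Cfsg.Agent.Lib.Helper6.Conj2

set_option autoImplicit false

namespace Cfsg.Agent.Lib.Helper6

open scoped Pointwise commutatorElement

theorem card_le_of_fibers {α β : Type*} [Finite α] [Finite β] (f : α → β) (n : ℕ)
    (h : ∀ a₀ : α, Nat.card {a // f a = f a₀} ≤ n) : Nat.card α ≤ n * Nat.card β := by
  classical
  haveI := Fintype.ofFinite α
  haveI := Fintype.ofFinite β
  rw [Nat.card_eq_fintype_card, Nat.card_eq_fintype_card, ← Finset.card_univ, ← Finset.card_univ]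
  apply Finset.card_le_mul_card_image_of_maps_to (f := f) (fun a _ => Finset.mem_univ _)
  intro b _
  by_cases hb : ∃ a₀, f a₀ = b
  · obtain ⟨a₀, rfl⟩ := hb
    have := h a₀
    rw [Nat.card_eq_fintype_card, Fintype.card_subtype] at this
    exact this
  · push Not at hb
    have : (Finset.univ.filter (fun a => f a = b)) = ∅ := by
      ext a; simp [hb a]
    rw [this]; simp

section Repl

variable {P : Type*} [Group P]

/-- the iterated commutators `[B, A, ..., A]` -/
def iterComm (B A : Subgroup P) : ℕ → Subgroup P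
  | 0 => B
  | i + 1 => ⁅iterComm B A i, A⁆

theorem iterComm_le (B A : Subgroup P) (hAB : A ≤ Subgroup.normalizer (B : Set P)) :
    ∀ i, iterComm B A i ≤ B
  | 0 => le_rfl
  | i + 1 => by
    show ⁅iterComm B A i, A⁆ ≤ B
    have h1 : ⁅iterComm B A i, A⁆ ≤ ⁅B, A⁆ := Subgroup.commutator_mono (iterComm_le B A hAB i) le_rfl
    refine h1.trans ?_
    rw [Subgroup.commutator_le]
    intro b hb a ha
    have h2 : a * b⁻¹ * a⁻¹ ∈ B := (Subgroup.mem_normalizer_iff.mp (hAB ha) b⁻¹).mp (B.inv_mem hb)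
    have h3 : ⁅b, a⁆ = b * (a * b⁻¹ * a⁻¹) := by rw [commutatorElement_def]; group
    rw [h3]
    exact B.mul_mem hb h2

theorem iterComm_le_lcs (B A : Subgroup P) :
    ∀ i, iterComm B A i ≤ (⊤ : Subgroup P).lowerCentralSeries i
  | 0 => le_top
  | i + 1 => Subgroup.commutator_mono (iterComm_le_lcs B A i) le_top

theorem exists_iterComm_eq_bot [Finite P] {p : ℕ} [Fact p.Prime] (hP : IsPGroup p P)
    (B A : Subgroup P) : ∃ n, iterComm B A n = ⊥ := by
  haveI : Group.IsNilpotent P := hP.isNilpotent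
  obtain ⟨n, hn⟩ := Subgroup.nilpotent_iff_lowerCentralSeries.mp (inferInstance : Group.IsNilpotent P)
  exact ⟨n, eq_bot_iff.mpr (hn ▸ iterComm_le_lcs B A n)⟩

theorem commutatorElement_mul_right' (x y z : P) : ⁅x, y * z⁆ = ⁅x, y⁆ * (y * ⁅x, z⁆ * y⁻¹) := by
  simp only [commutatorElement_def]; group

theorem card_mul_relIndex_of_le {K H : Subgroup P} (h : K ≤ H) :
    Nat.card ↥K * K.relIndex H = Nat.card ↥H := by
  rw [← Subgroup.relIndex_bot_left, ← Subgroup.relIndex_bot_left]
  exact Subgroup.relIndex_mul_relIndex _ _ _ bot_le h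

/-- Thompson's Replacement Theorem. -/
theorem thompson_replacement [Finite P] {p : ℕ} [Fact p.Prime] (hP : IsPGroup p P)
    (A B : Subgroup P) (hA : A ∈ maxAbelianSubgroups P) (hB : IsMulCommutative B)
    (hAB : A ≤ Subgroup.normalizer (B : Set P)) (hBA : ¬ B ≤ Subgroup.normalizer (A : Set P)) :
    ∃ A' ∈ maxAbelianSubgroups P, A ⊓ B < A' ⊓ B ∧ A' ≤ Subgroup.normalizer (A : Set P) := by
  classical
  obtain ⟨n, hn⟩ := exists_iterComm_eq_bot hP B A
  have hex : ∃ i, iterComm B A i ≤ Subgroup.normalizer (A : Set P) := ⟨n, hn ▸ bot_le⟩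
  have hi₀spec := Nat.find_spec hex
  have hi₀pos : Nat.find hex ≠ 0 := by
    intro h0
    rw [h0] at hi₀spec
    exact hBA hi₀spec
  obtain ⟨i, hi⟩ : ∃ i, Nat.find hex = i + 1 := Nat.exists_eq_succ_of_ne_zero hi₀pos
  have hnot : ¬ iterComm B A i ≤ Subgroup.normalizer (A : Set P) :=
    Nat.find_min hex (by omega)
  have hsucc : ⁅iterComm B A i, A⁆ ≤ Subgroup.normalizer (A : Set P) := by
    rw [hi] at hi₀spec; exact hi₀spec
  obtain ⟨x, hxi, hxN⟩ := SetLike.not_le_iff_exists.mp hnot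
  have hAab := hA.1
  have hcommA : ∀ a ∈ A, ∀ b ∈ A, a * b = b * a := fun a ha b hb =>
    mul_comm_of_isMulCommutative hAab ha hb
  -- the subgroup M = [x, A]
  set M := Subgroup.closure {m | ∃ a ∈ A, ⁅x, a⁆ = m} with hM
  have hgen : ∀ a ∈ A, ⁅x, a⁆ ∈ M := fun a ha => Subgroup.subset_closure ⟨a, ha, rfl⟩
  have hMB : M ≤ B := by
    rw [hM, Subgroup.closure_le]
    rintro _ ⟨a, ha, rfl⟩
    exact iterComm_le B A hAB (i + 1) (Subgroup.commutator_mem_commutator hxi ha)
  have hMN : M ≤ Subgroup.normalizer (A : Set P) := by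
    rw [hM, Subgroup.closure_le]
    rintro _ ⟨a, ha, rfl⟩
    exact hsucc (Subgroup.commutator_mem_commutator hxi ha)
  have hMab : IsMulCommutative M := isMulCommutative_of_le hB hMB
  have hcommM : ∀ a ∈ M, ∀ b ∈ M, a * b = b * a := fun a ha b hb =>
    mul_comm_of_isMulCommutative hMab ha hb
  have hMnotA : ¬ M ≤ A := by
    intro hMA
    apply hxN
    apply mem_normalizer_of_forall_conj_mem
    intro a ha
    have : x * a * x⁻¹ = ⁅x, a⁆ * a := by rw [commutatorElement_def]; group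
    rw [this]
    exact A.mul_mem (hMA (hgen a ha)) ha
  -- C = C_A(M)
  set C := A ⊓ Subgroup.centralizer (M : Set P) with hC
  have hkey : ∀ c ∈ A, ⁅x, c⁆ ∈ A → c ∈ C := by
    intro c hc hxc
    refine ⟨hc, ?_⟩
    have hle : M ≤ Subgroup.centralizer ({c} : Set P) := by
      rw [hM, Subgroup.closure_le]
      rintro _ ⟨a', ha', rfl⟩
      rw [SetLike.mem_coe, Subgroup.mem_centralizer_iff]
      intro y hy
      have hyc : y = c := hy
      rw [hyc]
      have e1 := commutatorElement_mul_right' x c a'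
      have e2 := commutatorElement_mul_right' x a' c
      have e3 : a' * ⁅x, c⁆ * a'⁻¹ = ⁅x, c⁆ := by
        rw [hcommA a' ha' _ hxc]; group
      rw [e3] at e2
      rw [hcommA c hc a' ha', e2] at e1
      have hw : c * ⁅x, a'⁆ * c⁻¹ ∈ M := by
        have h1 : c * ⁅x, a'⁆ * c⁻¹ = ⁅x, c⁆⁻¹ * ⁅x, c * a'⁆ := by
          rw [commutatorElement_mul_right' x c a']; group
        rw [h1]
        exact M.mul_mem (M.inv_mem (hgen c hc)) (hgen _ (A.mul_mem hc ha'))
      have h2 : ⁅x, c⁆ * ⁅x, a'⁆ = ⁅x, c⁆ * (c * ⁅x, a'⁆ * c⁻¹) := by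
        rw [← e1]
        exact hcommM _ (hgen c hc) _ (hgen a' ha')
      have h3 := mul_left_cancel h2
      calc c * ⁅x, a'⁆ = (c * ⁅x, a'⁆ * c⁻¹) * c := by group
        _ = ⁅x, a'⁆ * c := by rw [← h3]
    show c ∈ Subgroup.centralizer (M : Set P)
    rw [Subgroup.mem_centralizer_iff]
    intro m hm
    exact (Subgroup.mem_centralizer_iff.mp (hle hm) c rfl).symm
  have hCab : IsMulCommutative C := isMulCommutative_of_le hAab inf_le_left
  have hCM : C ≤ Subgroup.centralizer (M : Set P) := inf_le_right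
  have hMC : M ≤ Subgroup.centralizer (C : Set P) := Subgroup.le_centralizer_iff.mp hCM
  have hA'ab : IsMulCommutative ↥(M ⊔ C) := isMulCommutative_sup hMab hCab hMC
  -- the counting
  have hcount : Nat.card ↥A ≤ Nat.card ↥C * A.relIndex M := by
    let f : A → M ⧸ A.subgroupOf M := fun a => QuotientGroup.mk ⟨⁅x, (a : P)⁆, hgen a a.2⟩
    have hfib : ∀ a₀ : A, Nat.card {a // f a = f a₀} ≤ Nat.card ↥C := by
      intro a₀
      have hmem : ∀ a : A, f a = f a₀ → (a : P)⁻¹ * (a₀ : P) ∈ C := by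
        intro a hfa
        have h1 : ⁅x, (a : P)⁆⁻¹ * ⁅x, (a₀ : P)⁆ ∈ A := by
          have := QuotientGroup.eq.mp hfa
          rw [Subgroup.mem_subgroupOf] at this
          simpa using this
        have h2 : ⁅x, (a : P)⁆⁻¹ * ⁅x, (a₀ : P)⁆ = (a : P) * ⁅x, (a : P)⁻¹ * (a₀ : P)⁆ * (a : P)⁻¹ := by
          simp only [commutatorElement_def]; group
        rw [h2] at h1
        have h3 : ⁅x, (a : P)⁻¹ * (a₀ : P)⁆ ∈ A := by
          have := A.mul_mem (A.mul_mem (A.inv_mem a.2) h1) a.2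
          simpa [mul_assoc] using this
        exact hkey _ (A.mul_mem (A.inv_mem a.2) a₀.2) h3
      let g : {a // f a = f a₀} → C := fun a => ⟨(a.1 : P)⁻¹ * (a₀ : P), hmem a.1 a.2⟩
      have hg : Function.Injective g := by
        intro a b hab
        have h1 : (a.1 : P)⁻¹ * (a₀ : P) = (b.1 : P)⁻¹ * (a₀ : P) := congrArg Subtype.val hab
        have h2 : (a.1 : P)⁻¹ = (b.1 : P)⁻¹ := mul_right_cancel h1
        exact Subtype.ext (Subtype.ext (inv_injective h2))
      exact Nat.card_le_card_of_injective g hg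
    have := card_le_of_fibers f (Nat.card ↥C) hfib
    exact this
  have hinf : C ⊓ M = A ⊓ M := by
    apply le_antisymm (inf_le_inf_right _ inf_le_left)
    intro y hy
    refine ⟨⟨hy.1, ?_⟩, hy.2⟩
    show y ∈ Subgroup.centralizer (M : Set P)
    rw [Subgroup.mem_centralizer_iff]
    intro m hm
    exact hcommM m hm y hy.2
  have hCnorm : C ≤ Subgroup.normalizer (M : Set P) :=
    hCM.trans (Subgroup.centralizer_le_normalizer _)
  have hcard1 := card_sup_mul_card_inf_of_le_normalizer C M hCnorm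
  rw [hinf] at hcard1
  have hcard2 : Nat.card ↥(A ⊓ M) * A.relIndex M = Nat.card ↥M := by
    rw [← Subgroup.inf_relIndex_right A M]
    exact card_mul_relIndex_of_le inf_le_right
  have hcard3 : Nat.card ↥A ≤ Nat.card ↥(M ⊔ C) := by
    have hpos : 0 < Nat.card ↥(A ⊓ M) := Nat.card_pos
    apply Nat.le_of_mul_le_mul_right _ hpos
    rw [sup_comm, hcard1, ← hcard2]
    calc Nat.card ↥A * Nat.card ↥(A ⊓ M) ≤ (Nat.card ↥C * A.relIndex M) * Nat.card ↥(A ⊓ M) :=
          Nat.mul_le_mul_right _ hcount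
      _ = Nat.card ↥C * (Nat.card ↥(A ⊓ M) * A.relIndex M) := by ring
  refine ⟨M ⊔ C, ⟨hA'ab, fun B' hB' => (hA.2 B' hB').trans hcard3⟩, ?_, ?_⟩
  · have hle : A ⊓ B ≤ (M ⊔ C) ⊓ B := by
      refine le_inf ?_ inf_le_right
      refine le_trans ?_ le_sup_right
      intro y hy
      refine ⟨hy.1, ?_⟩
      show y ∈ Subgroup.centralizer (M : Set P)
      rw [Subgroup.mem_centralizer_iff]
      intro m hm
      exact mul_comm_of_isMulCommutative hB (hMB hm) hy.2
    refine lt_of_le_of_ne hle ?_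
    intro heq
    apply hMnotA
    have : M ≤ (M ⊔ C) ⊓ B := le_inf le_sup_left hMB
    rw [← heq] at this
    exact this.trans inf_le_left
  · exact sup_le hMN (inf_le_left.trans Subgroup.le_normalizer)

end Repl

end Cfsg.Agent.Lib.Helper6
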