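import Mathlib
import Cfsg.Prelude.Def_DStar
import Cfsg.Prelude.Def_PLocal
import Cfsg.Agent.Lib.Helper6.ThompsonRepl
import Cfsg.Agent.Lib.Helper6.Comm
import Cfsg.Agent.Lib.Helper6.Conj
import Cfsg.Agent.Lib.Lead.Nilpotent
import Cfsg.Agent.S3061

set_option autoImplicit false

namespace Cfsg.Agent.Lib.Helper6

open scoped Pointwise commutatorElement

section DStar

variable {S : Type*} [Group S]

theorem dStarFamily_map_conj {A : Subgroup S} (hA : A ∈ dStarFamily S) (g : S) :
    A.map (MulAut.conj g).toMonoidHom ∈ dStarFamily S := by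
  obtain ⟨hAc, hAf⟩ := hA
  refine ⟨?_, ?_⟩
  · refine ⟨⟨fun a b => ?_⟩⟩
    obtain ⟨a', ha', hae⟩ := a.2
    obtain ⟨b', hb', hbe⟩ := b.2
    apply Subtype.ext
    show (a : S) * (b : S) = (b : S) * (a : S)
    rw [← hae, ← hbe, ← map_mul, ← map_mul, mul_comm_of_isMulCommutative hAc ha' hb']
  · intro x hx
    set ψ := (MulAut.conj g⁻¹).toMonoidHom with hψ
    have h1 : (A.map (MulAut.conj g).toMonoidHom ⊔ Subgroup.zpowers x).map ψ =
        A ⊔ Subgroup.zpowers (g⁻¹ * x * g) := by
      rw [Subgroup.map_sup, hψ, map_conj_map_conj, inv_mul_cancel, map_conj_one, MonoidHom.map_zpowers]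
      congr 2
      simp [MulAut.conj_apply]
    have h2 : ⁅⁅A ⊔ Subgroup.zpowers (g⁻¹ * x * g), A ⊔ Subgroup.zpowers (g⁻¹ * x * g)⁆,
        A ⊔ Subgroup.zpowers (g⁻¹ * x * g)⁆ = ⊥ := by
      rw [← h1, ← Subgroup.map_commutator, ← Subgroup.map_commutator, hx, Subgroup.map_bot]
    have h3 := hAf _ h2
    intro a ha
    have ha' : g⁻¹ * a * g ∈ A := mem_map_conj.mp ha
    have h4 := h3 _ ha'
    calc a * x = g * ((g⁻¹ * a * g) * (g⁻¹ * x * g)) * g⁻¹ := by group
      _ = g * ((g⁻¹ * x * g) * (g⁻¹ * a * g)) * g⁻¹ := by rw [h4]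
      _ = x * a := by group

theorem dStar_map_conj_le (g : S) : (dStar S).map (MulAut.conj g).toMonoidHom ≤ dStar S := by
  rw [Subgroup.map_le_iff_le_comap]
  unfold dStar
  apply sSup_le
  intro A hA
  rw [← Subgroup.map_le_iff_le_comap]
  exact le_sSup (dStarFamily_map_conj hA g)

instance dStar_normal : (dStar S).Normal := by
  refine ⟨fun n hn g => ?_⟩
  apply dStar_map_conj_le g
  exact ⟨n, hn, by simp [MulAut.conj_apply]⟩

theorem center_mem_dStarFamily : Subgroup.center S ∈ dStarFamily S := by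
  refine ⟨inferInstance, ?_⟩
  intro x _ a ha
  exact (Subgroup.mem_center_iff.mp ha x).symm

/-- if a normal member `D` of the family normalizes the abelian subgroup `A`, then `A` centralizes `D` -/
theorem le_centralizer_of_normalizes {D A : Subgroup S} (hD : D ∈ dStarFamily S) [D.Normal]
    (hA : IsMulCommutative A) (hDA : D ≤ Subgroup.normalizer (A : Set S)) :
    A ≤ Subgroup.centralizer (D : Set S) := by
  obtain ⟨hDc, hDf⟩ := hD
  intro a ha
  rw [Subgroup.mem_centralizer_iff]
  intro d hd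
  refine hDf a ?_ d hd
  set X := Subgroup.zpowers a with hX
  have hXA : X ≤ A := Subgroup.zpowers_le.mpr ha
  set N := D ⊓ A with hN
  have hDN : D ≤ Subgroup.normalizer (N : Set S) := by
    intro d' hd'
    rw [Subgroup.mem_normalizer_iff]
    intro n
    have h1 := Subgroup.mem_normalizer_iff.mp (hDA hd') n
    have h2 : d' * n * d'⁻¹ ∈ D ↔ n ∈ D := by
      constructor
      · intro h
        have := D.mul_mem (D.mul_mem (D.inv_mem hd') h) hd'
        simpa [mul_assoc] using this
      · intro h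
        exact D.mul_mem (D.mul_mem hd' h) (D.inv_mem hd')
    constructor
    · intro hn
      exact ⟨h2.mpr hn.1, h1.mp hn.2⟩
    · intro hn
      exact ⟨h2.mp hn.1, h1.mpr hn.2⟩
  have hAN : A ≤ Subgroup.normalizer (N : Set S) := by
    intro a' ha'
    rw [Subgroup.mem_normalizer_iff]
    intro n
    have h1 : a' * n * a'⁻¹ ∈ A ↔ n ∈ A := by
      constructor
      · intro h
        have := A.mul_mem (A.mul_mem (A.inv_mem ha') h) ha'
        simpa [mul_assoc] using this
      · intro h
        exact A.mul_mem (A.mul_mem ha' h) (A.inv_mem ha')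
    have h2 : a' * n * a'⁻¹ ∈ D ↔ n ∈ D := by
      constructor
      · intro h
        have := (inferInstance : D.Normal).conj_mem _ h a'⁻¹
        simpa [mul_assoc] using this
      · intro h
        exact (inferInstance : D.Normal).conj_mem _ h a'
    constructor
    · intro hn
      exact ⟨h2.mpr hn.1, h1.mpr hn.2⟩
    · intro hn
      exact ⟨h2.mp hn.1, h1.mp hn.2⟩
  have hXN : X ≤ Subgroup.normalizer (N : Set S) := hXA.trans hAN
  have hDD : ⁅D, D⁆ ≤ N := by
    rw [Subgroup.commutator_self_eq_bot_iff.mpr hDc]; exact bot_le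
  have hXX : ⁅X, X⁆ ≤ N := by
    have hc : IsMulCommutative X := by rw [hX]; infer_instance
    rw [Subgroup.commutator_self_eq_bot_iff.mpr hc]; exact bot_le
  have hDX : ⁅D, X⁆ ≤ N := by
    refine le_inf ?_ ?_
    · exact Subgroup.commutator_le_left D X
    · have h1 : ⁅D, X⁆ ≤ ⁅D, A⁆ := Subgroup.commutator_mono le_rfl hXA
      refine h1.trans ?_
      rw [Subgroup.commutator_le]
      intro d' hd' a' ha'
      have h2 : d' * a' * d'⁻¹ ∈ A := (Subgroup.mem_normalizer_iff.mp (hDA hd') a').mp ha'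
      have h3 : ⁅d', a'⁆ = (d' * a' * d'⁻¹) * a'⁻¹ := by rw [commutatorElement_def]
      rw [h3]
      exact A.mul_mem h2 (A.inv_mem ha')
  have hXD : ⁅X, D⁆ ≤ N := by rw [Subgroup.commutator_comm]; exact hDX
  have h1 : ⁅D ⊔ X, D⁆ ≤ N := commutator_sup_left_le D D X N hDD hXD hDN hXN
  have h2 : ⁅D ⊔ X, X⁆ ≤ N := commutator_sup_left_le X D X N hDX hXX hDN hXN
  have h3 : ⁅D ⊔ X, D ⊔ X⁆ ≤ N := commutator_sup_right_le (D ⊔ X) D X N h1 h2 hDN hXN
  have h4 : N ≤ Subgroup.centralizer ((D ⊔ X : Subgroup S) : Set S) := by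
    rw [centralizer_sup_eq]
    refine le_inf ?_ ?_
    · exact inf_le_left.trans (le_centralizer_of_isMulCommutative hDc)
    · exact inf_le_right.trans ((le_centralizer_of_isMulCommutative hA).trans
        (Subgroup.centralizer_le (fun y hy => hXA hy)))
  exact Subgroup.commutator_eq_bot_iff_le_centralizer.mpr (h3.trans h4)

theorem dStar_le_center_thompsonA [Finite S] {p : ℕ} [Fact p.Prime] (hS : IsPGroup p S) :
    dStar S ≤ thompsonSubgroupA S ⊓ Subgroup.centralizer (thompsonSubgroupA S : Set S) := by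
  classical
  have hD : dStar S ∈ dStarFamily S := Cfsg.Agent.S3061.result hS
  have hall : ∀ A ∈ maxAbelianSubgroups S, A ≤ Subgroup.centralizer (dStar S : Set S) := by
    by_contra hcon
    push Not at hcon
    haveI : Nonempty {A : Subgroup S // A ∈ maxAbelianSubgroups S ∧
        ¬ A ≤ Subgroup.centralizer (dStar S : Set S)} := by
      obtain ⟨A, hA, hAn⟩ := hcon
      exact ⟨⟨A, hA, hAn⟩⟩
    obtain ⟨⟨A, hA, hAn⟩, hmax⟩ := Finite.exists_max
      (fun A : {A : Subgroup S // A ∈ maxAbelianSubgroups S ∧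
        ¬ A ≤ Subgroup.centralizer (dStar S : Set S)} => Nat.card ↥(A.1 ⊓ dStar S))
    have hDA : ¬ dStar S ≤ Subgroup.normalizer (A : Set S) :=
      fun h => hAn (le_centralizer_of_normalizes hD hA.1 h)
    have hAD : A ≤ Subgroup.normalizer (dStar S : Set S) := by
      rw [Subgroup.normalizer_eq_top]; exact le_top
    obtain ⟨A', hA', hlt, hA'N⟩ := thompson_replacement hS A (dStar S) hA hD.1 hAD hDA
    have hcardlt : Nat.card ↥(A ⊓ dStar S) < Nat.card ↥(A' ⊓ dStar S) := by
      by_contra hge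
      push Not at hge
      exact hlt.ne (Subgroup.eq_of_le_of_card_ge hlt.le hge)
    by_cases hA'c : A' ≤ Subgroup.centralizer (dStar S : Set S)
    · have h1 : dStar S ≤ A' := by
        rw [← maxAbelian_centralizer_eq hA']
        exact Subgroup.le_centralizer_iff.mp hA'c
      exact hDA (h1.trans hA'N)
    · have := hmax ⟨A', hA', hA'c⟩
      simp only at this
      omega
  obtain ⟨A₀, hA₀⟩ := exists_maxAbelian (S := S)
  refine le_inf ?_ ?_
  · have h1 : dStar S ≤ A₀ := by
      rw [← maxAbelian_centralizer_eq hA₀]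
      exact Subgroup.le_centralizer_iff.mp (hall A₀ hA₀)
    exact h1.trans (le_sSup hA₀)
  · rw [Subgroup.le_centralizer_iff]
    exact sSup_le hall

/-- a maximal normal abelian subgroup of a finite `p`-group is self-centralizing -/
theorem centralizer_eq_of_max_normal_abelian [Finite S] {p : ℕ} [Fact p.Prime] (hS : IsPGroup p S)
    (A : Subgroup S) [hAn : A.Normal] (hAab : IsMulCommutative A)
    (hmax : ∀ B : Subgroup S, B.Normal → IsMulCommutative B → A ≤ B → B = A) :
    Subgroup.centralizer (A : Set S) = A := by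
  apply le_antisymm _ (le_centralizer_of_isMulCommutative hAab)
  by_contra hnot
  obtain ⟨x₀, hx₀C, hx₀A⟩ := SetLike.not_le_iff_exists.mp hnot
  -- the image of the centralizer in the quotient is a nontrivial normal subgroup
  haveI hCn : (Subgroup.centralizer (A : Set S)).Normal := by
    refine ⟨fun n hn g => ?_⟩
    rw [Subgroup.mem_centralizer_iff] at hn ⊢
    intro a ha
    have ha' : g⁻¹ * a * g ∈ A := by
      have := hAn.conj_mem a ha g⁻¹
      simpa using this
    have := hn _ ha'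
    calc a * (g * n * g⁻¹) = g * ((g⁻¹ * a * g) * n) * g⁻¹ := by group
      _ = g * (n * (g⁻¹ * a * g)) * g⁻¹ := by rw [this]
      _ = g * n * g⁻¹ * a := by group
  haveI : Group.IsNilpotent (S ⧸ A) := (hS.to_quotient A).isNilpotent
  set C' := (Subgroup.centralizer (A : Set S)).map (QuotientGroup.mk' A) with hC'
  haveI : C'.Normal := Subgroup.Normal.map hCn _ (QuotientGroup.mk'_surjective A)
  have hC'ne : C' ≠ ⊥ := by
    intro h
    have h1 : (QuotientGroup.mk' A) x₀ ∈ C' := ⟨x₀, hx₀C, rfl⟩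
    rw [h, Subgroup.mem_bot] at h1
    exact hx₀A ((QuotientGroup.eq_one_iff x₀).mp h1)
  have hne := Cfsg.Agent.Lib.Lead.inf_center_ne_bot C' hC'ne
  obtain ⟨y, hy1⟩ := (Subgroup.ne_bot_iff_exists_ne_one).mp hne
  obtain ⟨hyC, hyZ⟩ := y.2
  obtain ⟨x, hxC, hxy⟩ := hyC
  have hxA : x ∉ A := by
    intro hx
    apply hy1
    apply Subtype.ext
    show (y : S ⧸ A) = 1
    rw [← hxy]
    exact (QuotientGroup.eq_one_iff x).mpr hx
  haveI hzn : (Subgroup.zpowers (y : S ⧸ A)).Normal := by
    refine ⟨fun n hn g => ?_⟩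
    have hnZ : n ∈ Subgroup.center (S ⧸ A) := (Subgroup.zpowers_le.mpr hyZ) hn
    have : g * n * g⁻¹ = n := by
      rw [Subgroup.mem_center_iff.mp hnZ g]; group
    rw [this]; exact hn
  set B := (Subgroup.zpowers (y : S ⧸ A)).comap (QuotientGroup.mk' A) with hB
  have hBn : B.Normal := Subgroup.Normal.comap hzn _
  have hAB : A ≤ B := by
    intro a ha
    show (QuotientGroup.mk' A) a ∈ Subgroup.zpowers (y : S ⧸ A)
    have : (QuotientGroup.mk' A) a = 1 := (QuotientGroup.eq_one_iff a).mpr ha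
    rw [this]; exact Subgroup.one_mem _
  have hxB : x ∈ B := by
    show (QuotientGroup.mk' A) x ∈ Subgroup.zpowers (y : S ⧸ A)
    rw [hxy]; exact Subgroup.mem_zpowers _
  have hBle : B ≤ A ⊔ Subgroup.zpowers x := by
    intro b hb
    have hb' : (QuotientGroup.mk' A) b ∈ Subgroup.zpowers (y : S ⧸ A) := hb
    obtain ⟨k, hk⟩ := Subgroup.mem_zpowers_iff.mp hb'
    have h1 : (QuotientGroup.mk' A) ((x ^ k)⁻¹ * b) = 1 := by
      rw [map_mul, map_inv, map_zpow, hxy, hk]; group
    have h2 : (x ^ k)⁻¹ * b ∈ A := (QuotientGroup.eq_one_iff _).mp h1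
    have h3 : b = x ^ k * ((x ^ k)⁻¹ * b) := by group
    rw [h3]
    exact Subgroup.mul_mem _ (Subgroup.mem_sup_right (Subgroup.zpow_mem _ (Subgroup.mem_zpowers x) k))
      (Subgroup.mem_sup_left h2)
  have hsupab : IsMulCommutative ↥(A ⊔ Subgroup.zpowers x) := by
    apply isMulCommutative_sup hAab (isMulCommutative_zpowers x)
    rw [Subgroup.le_centralizer_iff, Subgroup.zpowers_le]
    exact hxC
  have hBab : IsMulCommutative B := isMulCommutative_of_le hsupab hBle
  have := hmax B hBn hBab hAB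
  rw [this] at hxB
  exact hxA hxB

end DStar

end Cfsg.Agent.Lib.Helper6
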