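import Mathlib
import Cfsg.Prelude.Def_Transfer

set_option autoImplicit false

namespace Cfsg.Agent.Lib.Helper6

open Cfsg

variable {G : Type*} [Group G]

theorem isElementaryAbelian_of_le {p : ℕ} {A B : Subgroup G} (hB : IsElementaryAbelian p B)
    (hAB : A ≤ B) : IsElementaryAbelian p A := by
  obtain ⟨hc, hp⟩ := hB
  refine ⟨⟨⟨fun a b => ?_⟩⟩, fun a ha => hp a (hAB ha)⟩
  have := hc.is_comm.comm (⟨a.1, hAB a.2⟩ : B) ⟨b.1, hAB b.2⟩
  have h2 : (a : G) * (b : G) = (b : G) * (a : G) := congrArg Subtype.val this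
  exact Subtype.ext h2

theorem isElementaryAbelian_closure {p : ℕ} {T : Set G}
    (hcomm : ∀ a ∈ T, ∀ b ∈ T, a * b = b * a) (hp : ∀ a ∈ T, a ^ p = 1) :
    IsElementaryAbelian p (Subgroup.closure T) := by
  have hc : IsMulCommutative (Subgroup.closure T) := Subgroup.isMulCommutative_closure hcomm
  refine ⟨hc, ?_⟩
  intro a ha
  induction ha using Subgroup.closure_induction with
  | mem x hx => exact hp x hx
  | one => exact one_pow p
  | mul x y hx hy hxp hyp =>
    have h1 : Commute x y := by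
      have := hc.is_comm.comm (⟨x, hx⟩ : Subgroup.closure T) ⟨y, hy⟩
      exact congrArg Subtype.val this
    rw [h1.mul_pow, hxp, hyp, mul_one]
  | inv x _ hxp => rw [inv_pow, hxp, inv_one]

theorem isElementaryAbelian_iff_forall {p : ℕ} {A : Subgroup G} :
    IsElementaryAbelian p A ↔ (∀ a ∈ A, ∀ b ∈ A, a * b = b * a) ∧ ∀ a ∈ A, a ^ p = 1 := by
  constructor
  · rintro ⟨hc, hp⟩
    refine ⟨fun a ha b hb => ?_, hp⟩
    have := hc.is_comm.comm (⟨a, ha⟩ : A) ⟨b, hb⟩
    exact congrArg Subtype.val this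
  · rintro ⟨hc, hp⟩
    exact ⟨⟨⟨fun a b => Subtype.ext (hc a.1 a.2 b.1 b.2)⟩⟩, hp⟩

end Cfsg.Agent.Lib.Helper6
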