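import Mathlib
import Cfsg.Agent.Lib.Helper1.Hexa1
import Cfsg.Agent.Lib.Helper1.MatCode3

set_option autoImplicit false

namespace Cfsg.Agent.Lib.Helper6.F4Mat

open Cfsg.Agent.Lib.Helper1.Hexa Cfsg.Agent.Lib.Helper1.MatCode

/-! # Matrices over the field with four elements, as matrices of twice the size over `ZMod 2` -/

/-- the regular representation of the field with four elements -/
def rfun : F4 → Matrix (Fin 2) (Fin 2) (ZMod 2)
  | .z => 0
  | .o => 1
  | .w => !![0, 1; 1, 1]
  | .w2 => !![1, 1; 1, 0]

/-- the regular representation, as a homomorphism of rings -/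
def rr : F4 →+* Matrix (Fin 2) (Fin 2) (ZMod 2) where
  toFun := rfun
  map_one' := rfl
  map_mul' := by decide
  map_zero' := rfl
  map_add' := by decide

theorem rr_injective : Function.Injective rr := rr.injective

section rho
variable {I : Type*} [Fintype I] [DecidableEq I] {m : ℕ}

/-- matrices over the field with four elements as matrices over `ZMod 2` -/
def rho (e : I × Fin 2 ≃ Fin m) : Matrix I I F4 →+* Matrix (Fin m) (Fin m) (ZMod 2) :=
  ((Matrix.reindexRingEquiv (ZMod 2) e).toRingHom.comp
    (Matrix.compRingEquiv I (Fin 2) (ZMod 2)).toRingHom).comp rr.mapMatrix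

theorem rho_apply (e : I × Fin 2 ≃ Fin m) (A : Matrix I I F4) (i j : Fin m) :
    rho e A i j = rfun (A (e.symm i).1 (e.symm j).1) (e.symm i).2 (e.symm j).2 := rfl

theorem rho_injective (e : I × Fin 2 ≃ Fin m) : Function.Injective (rho e) := by
  intro A B h
  ext i j
  apply rr_injective
  ext a b
  have := congrFun (congrFun h (e (i, a))) (e (j, b))
  rw [rho_apply, rho_apply, Equiv.symm_apply_apply, Equiv.symm_apply_apply] at this
  exact this

end rho

end Cfsg.Agent.Lib.Helper6.F4Mat
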