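import Mathlib

set_option autoImplicit false

namespace Cfsg.Agent.Lib.Helper6.M24Syl

section pc
variable {G : Type*} [Group G]

/-- the subgroup generated by `gen k`, `a ≤ k < b` -/
def C (gen : ℕ → G) (a b : ℕ) : Subgroup G := Subgroup.closure (gen '' Set.Ico a b)

theorem gen_mem_C (gen : ℕ → G) {a b k : ℕ} (h1 : a ≤ k) (h2 : k < b) : gen k ∈ C gen a b :=
  Subgroup.subset_closure ⟨k, ⟨h1, h2⟩, rfl⟩

theorem C_mono (gen : ℕ → G) {a b a' b' : ℕ} (h1 : a' ≤ a) (h2 : b ≤ b') :
    C gen a b ≤ C gen a' b' :=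
  Subgroup.closure_mono (Set.image_mono (Set.Ico_subset_Ico h1 h2))

theorem C_le (gen : ℕ → G) {a b : ℕ} (H : Subgroup G) (h : ∀ k, a ≤ k → k < b → gen k ∈ H) :
    C gen a b ≤ H := by
  unfold C
  rw [Subgroup.closure_le]
  rintro _ ⟨k, ⟨h1, h2⟩, rfl⟩
  exact h k h1 h2

/-- word product -/
def wp (gen : ℕ → G) (w : List ℕ) : G := (w.map gen).prod

theorem wp_nil (gen : ℕ → G) : wp gen [] = 1 := rfl

theorem wp_cons (gen : ℕ → G) (k : ℕ) (w : List ℕ) : wp gen (k :: w) = gen k * wp gen w := by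
  simp [wp]

theorem wp_append (gen : ℕ → G) (w w' : List ℕ) : wp gen (w ++ w') = wp gen w * wp gen w' := by
  simp [wp]

theorem wp_mem (gen : ℕ → G) {a b : ℕ} (w : List ℕ) (h : ∀ k ∈ w, a ≤ k ∧ k < b) :
    wp gen w ∈ C gen a b := by
  induction w with
  | nil => exact (C gen a b).one_mem
  | cons k w ih =>
    rw [wp_cons]
    exact (C gen a b).mul_mem (gen_mem_C gen (h k (List.mem_cons_self ..)).1 (h k (List.mem_cons_self ..)).2)
      (ih (fun i hi => h i (List.mem_cons_of_mem _ hi)))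

variable [Finite G]

theorem pc_step (gen : ℕ → G) (n : ℕ)
    (hconj : ∀ j, j < n → gen n * gen j * (gen n)⁻¹ ∈ C gen 0 n)
    (hsq : gen n * gen n ∈ C gen 0 n) :
    ∀ y ∈ C gen 0 (n + 1), y ∈ C gen 0 n ∨ y * (gen n)⁻¹ ∈ C gen 0 n := by
  set t := gen n with ht
  set T := C gen 0 n with hT
  have hTc : ∀ x ∈ T, t * x * t⁻¹ ∈ T := by
    have : T ≤ T.comap (MulAut.conj t).toMonoidHom := by
      apply C_le
      intro k _ hk
      rw [Subgroup.mem_comap]
      exact hconj k hk
    intro x hx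
    exact this hx
  have key : ∀ y ∈ Submonoid.closure (gen '' Set.Ico 0 (n + 1)), y ∈ T ∨ y * t⁻¹ ∈ T := by
    intro y hy
    induction hy using Submonoid.closure_induction_left with
    | one => exact Or.inl T.one_mem
    | mul_left g hg y _ ih =>
      obtain ⟨j, ⟨-, hj⟩, rfl⟩ := hg
      rcases Nat.lt_succ_iff_lt_or_eq.mp hj with hj | rfl
      · have hg : gen j ∈ T := gen_mem_C gen (Nat.zero_le _) hj
        rcases ih with h | h
        · exact Or.inl (T.mul_mem hg h)
        · right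
          rw [mul_assoc]
          exact T.mul_mem hg h
      · rcases ih with h | h
        · exact Or.inr (hTc y h)
        · left
          have : t * y = (t * (y * t⁻¹) * t⁻¹) * (t * t) := by group
          rw [this]
          exact T.mul_mem (hTc _ h) hsq
  intro y hy
  have hy' : y ∈ (C gen 0 (n + 1)).toSubmonoid := hy
  unfold C at hy'
  rw [Subgroup.closure_toSubmonoid_of_finite] at hy'
  exact key y hy'

theorem pc_sq (gen : ℕ → G) (n : ℕ)
    (hconj : ∀ j, j < n → gen n * gen j * (gen n)⁻¹ ∈ C gen 0 n)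
    (hsq : gen n * gen n ∈ C gen 0 n) :
    ∀ y ∈ C gen 0 (n + 1), y * y ∈ C gen 0 n := by
  have hTc : ∀ x ∈ C gen 0 n, gen n * x * (gen n)⁻¹ ∈ C gen 0 n := by
    have : C gen 0 n ≤ (C gen 0 n).comap (MulAut.conj (gen n)).toMonoidHom := by
      apply C_le
      intro k _ hk
      rw [Subgroup.mem_comap]
      exact hconj k hk
    intro x hx
    exact this hx
  intro y hy
  rcases pc_step gen n hconj hsq y hy with h | h
  · exact (C gen 0 n).mul_mem h h
  · have : y * y = (y * (gen n)⁻¹) * (gen n * (y * (gen n)⁻¹) * (gen n)⁻¹) * (gen n * gen n) := by group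
    rw [this]
    exact (C gen 0 n).mul_mem ((C gen 0 n).mul_mem h (hTc _ h)) hsq

theorem pc_pow (gen : ℕ → G) (N : ℕ)
    (h : ∀ n < N, (∀ j, j < n → gen n * gen j * (gen n)⁻¹ ∈ C gen 0 n) ∧
      gen n * gen n ∈ C gen 0 n) :
    ∀ m ≤ N, ∀ y ∈ C gen 0 m, y ^ 2 ^ m = 1 := by
  intro m
  induction m with
  | zero =>
    intro _ y hy
    have : C gen 0 0 = ⊥ := by
      unfold C
      rw [Set.Ico_self, Set.image_empty, Subgroup.closure_empty]
    rw [this, Subgroup.mem_bot] at hy
    rw [hy, one_pow]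
  | succ m ih =>
    intro hm y hy
    have h1 := pc_sq gen m (h m hm).1 (h m hm).2 y hy
    have h2 := ih (Nat.le_of_succ_le hm) _ h1
    rw [pow_succ', pow_mul, sq]
    exact h2

theorem pc_isPGroup (gen : ℕ → G) (N : ℕ)
    (h : ∀ n < N, (∀ j, j < n → gen n * gen j * (gen n)⁻¹ ∈ C gen 0 n) ∧
      gen n * gen n ∈ C gen 0 n) : IsPGroup 2 (C gen 0 N) := by
  intro y
  refine ⟨N, ?_⟩
  apply Subtype.ext
  rw [Subgroup.coe_pow]
  exact pc_pow gen N h N le_rfl y.1 y.2

end pc

section perm
variable {X : Type*}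

/-- lower bound for the order of a permutation group from a partial orbit and a subgroup of the
stabilizer -/
theorem lb [Fintype X] [DecidableEq X] (H K : Subgroup (Equiv.Perm X)) (hKH : K ≤ H) (b : X) (hK : ∀ k ∈ K, k b = b)
    (l : List (Equiv.Perm X)) (hl : ∀ f ∈ l, f ∈ H) (hinj : (l.map (fun f => f b)).Nodup) :
    l.length * Nat.card K ≤ Nat.card H := by
  have h1 : Nat.card (Fin l.length × K) = l.length * Nat.card K := by
    rw [Nat.card_prod, Nat.card_eq_fintype_card, Fintype.card_fin]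
  rw [← h1]
  refine Nat.card_le_card_of_injective
    (fun x : Fin l.length × K => (⟨l[x.1] * x.2.1, H.mul_mem (hl _ (List.getElem_mem _)) (hKH x.2.2)⟩ : H)) ?_
  rintro ⟨i, ⟨k, hk⟩⟩ ⟨i', ⟨k', hk'⟩⟩ heq
  have heq' : l[i] * k = l[i'] * k' := congrArg Subtype.val heq
  have h2 := congrArg (fun f : Equiv.Perm X => f b) heq'
  simp only [Equiv.Perm.mul_apply] at h2
  rw [hK k hk, hK k' hk'] at h2
  have h3 : i = i' := by
    have h4 := (List.nodup_iff_injective_get.mp hinj)
    have hi : i.val < (l.map (fun f => f b)).length := by rw [List.length_map]; exact i.2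
    have hi' : i'.val < (l.map (fun f => f b)).length := by rw [List.length_map]; exact i'.2
    have h5 : (l.map (fun f => f b)).get ⟨i.val, hi⟩ = (l.map (fun f => f b)).get ⟨i'.val, hi'⟩ := by
      simp only [List.get_eq_getElem, List.getElem_map]
      exact h2
    have := h4 h5
    exact Fin.ext (Fin.mk.inj this)
  subst h3
  have h6 : k = k' := mul_left_cancel heq'
  subst h6
  rfl

/-- two points are related if some element of `H` carries one to the other -/
def Rel (H : Subgroup (Equiv.Perm X)) (x y : X) : Prop := ∃ s ∈ H, s x = y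

theorem Rel.symm {H : Subgroup (Equiv.Perm X)} {x y : X} (h : Rel H x y) : Rel H y x := by
  obtain ⟨s, hs, rfl⟩ := h
  exact ⟨s⁻¹, H.inv_mem hs, by simp⟩

theorem Rel.trans {H : Subgroup (Equiv.Perm X)} {x y z : X} (h : Rel H x y) (h' : Rel H y z) :
    Rel H x z := by
  obtain ⟨s, hs, rfl⟩ := h
  obtain ⟨s', hs', rfl⟩ := h'
  exact ⟨s' * s, H.mul_mem hs' hs, rfl⟩

theorem Rel.conj {H : Subgroup (Equiv.Perm X)} {γ : Equiv.Perm X} (hγ : γ ∈ Subgroup.normalizer (H : Set (Equiv.Perm X))) {x y : X}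
    (h : Rel H x y) : Rel H (γ x) (γ y) := by
  obtain ⟨s, hs, rfl⟩ := h
  refine ⟨γ * s * γ⁻¹, (Subgroup.mem_normalizer_iff.mp hγ s).mp hs, ?_⟩
  simp

theorem Rel.conj_iff {H : Subgroup (Equiv.Perm X)} {γ : Equiv.Perm X} (hγ : γ ∈ Subgroup.normalizer (H : Set (Equiv.Perm X))) {x y : X} :
    Rel H (γ x) (γ y) ↔ Rel H x y := by
  constructor
  · intro h
    have := Rel.conj ((Subgroup.normalizer (H : Set (Equiv.Perm X))).inv_mem hγ) h
    simpa using this
  · exact Rel.conj hγ

/-- if the relation is described by a labelling, a normalizing element preserves the sizes of the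
classes -/
theorem card_fiber_eq [Fintype X] [DecidableEq X] {H : Subgroup (Equiv.Perm X)} {γ : Equiv.Perm X} (hγ : γ ∈ Subgroup.normalizer (H : Set (Equiv.Perm X)))
    (lab : X → ℕ) (hlab : ∀ x y, Rel H x y ↔ lab x = lab y) (x : X) :
    (Finset.univ.filter (fun y => lab y = lab (γ x))).card =
      (Finset.univ.filter (fun y => lab y = lab x)).card := by
  have : Finset.univ.filter (fun y => lab y = lab (γ x)) =
      (Finset.univ.filter (fun y => lab y = lab x)).image γ := by
    ext y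
    simp only [Finset.mem_filter, Finset.mem_univ, true_and, Finset.mem_image]
    constructor
    · intro h
      refine ⟨γ⁻¹ y, ?_, by simp⟩
      rw [← hlab, ← Rel.conj_iff hγ, hlab]
      simpa using h
    · rintro ⟨z, hz, rfl⟩
      rw [← hlab, Rel.conj_iff hγ, hlab]
      exact hz
  rw [this, Finset.card_image_of_injective _ γ.injective]

end perm

end Cfsg.Agent.Lib.Helper6.M24Syl
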