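import Mathlib
import Cfsg.Agent.Lib.Lead.MaxClass5

set_option autoImplicit false
open Pointwise

namespace Cfsg.Agent.Lib.Helper6.FixedOrd

/-- all prime factors of `n` exceed `p` -/
def BigPrimes (p n : ℕ) : Prop := ∀ q : ℕ, q.Prime → q ∣ n → p < q

theorem BigPrimes.of_dvd {p n m : ℕ} (h : BigPrimes p n) (hm : m ∣ n) : BigPrimes p m :=
  fun q hq hqm => h q hq (hqm.trans hm)

theorem BigPrimes.eq_one_of_dvd {p n d m : ℕ} (h : BigPrimes p n) (hdn : d ∣ n) (hdm : d ∣ m)
    (hm : ∀ q : ℕ, q.Prime → q ∣ m → q ≤ p) : d = 1 := by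
  by_contra hd
  obtain ⟨q, hq, hqd⟩ := Nat.exists_prime_and_dvd hd
  have h1 := h q hq (hqd.trans hdn)
  have h2 := hm q hq (hqd.trans hdm)
  omega

section abstract

variable {A T : Type*} [Group A] [Group T] [MulDistribMulAction A T]

/-- an automorphism whose order has only prime factors above `p` fixes every coset of an
invariant subgroup of index at most `p` -/
theorem inv_mul_smul_mem_of_index_le (p : ℕ) (K : Subgroup T) (hK0 : K.index ≠ 0) (hK : K.index ≤ p)
    (a : A) (ha : a • K = K) (hord : BigPrimes p (orderOf a)) (x : T) : x⁻¹ * a • x ∈ K := by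
  classical
  haveI : K.FiniteIndex := ⟨hK0⟩
  haveI : Finite (T ⧸ K) := Subgroup.finite_quotient_of_finiteIndex
  let B : Subgroup A := MulAction.stabilizer A K
  have haB : a ∈ B := MulAction.mem_stabilizer_iff.mpr ha
  haveI : MulAction.QuotientAction B K := by
    constructor
    intro b x y hxy
    have hb : (b : A) • K = K := MulAction.mem_stabilizer_iff.mp b.2
    have h1 : (b • x)⁻¹ * b • y = (b : A) • (x⁻¹ * y) := by
      rw [Subgroup.smul_def, Subgroup.smul_def, smul_mul', smul_inv']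
    rw [h1, ← hb]
    exact Subgroup.smul_mem_pointwise_smul _ _ _ hxy
  let σ : Equiv.Perm (T ⧸ K) := MulAction.toPermHom B (T ⧸ K) ⟨a, haB⟩
  have h1 : orderOf σ ∣ orderOf a := by
    have := orderOf_map_dvd (MulAction.toPermHom B (T ⧸ K)) (⟨a, haB⟩ : B)
    rwa [Subgroup.orderOf_mk] at this
  have h2 : orderOf σ ∣ (Nat.card (T ⧸ K)).factorial := by
    have := orderOf_dvd_natCard σ
    rwa [Nat.card_perm] at this
  have h3 : orderOf σ = 1 := by
    apply hord.eq_one_of_dvd h1 h2
    intro q hq hqd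
    have := (hq.dvd_factorial).mp hqd
    rw [← Subgroup.index_eq_card] at this
    omega
  have h4 : σ = 1 := orderOf_eq_one_iff.mp h3
  have h5 : σ (x : T ⧸ K) = (x : T ⧸ K) := by rw [h4]; rfl
  have h6 : σ (x : T ⧸ K) = ((a • x : T) : T ⧸ K) := rfl
  rw [h6] at h5
  exact QuotientGroup.eq.mp h5.symm

end abstract


section concrete

variable {G : Type*} [Group G] [Finite G] {p : ℕ} [hp : Fact p.Prime]

/-- Lemma C: a `p'`-element with big prime factors normalising `T` and `K ≤ T` of index at most `p`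
acts trivially on the cosets of `K` in `T`. -/
theorem conj_coset_fixed (T K : Subgroup G) (hKT : K ≤ T) (hidx : K.relIndex T ≤ p) (b : G)
    (hbT : b ∈ Subgroup.normalizer (T : Set G)) (hbK : b ∈ Subgroup.normalizer (K : Set G))
    (hord : BigPrimes p (orderOf b)) (x : G) (hx : x ∈ T) : x⁻¹ * (b * x * b⁻¹) ∈ K := by
  have h0 : (K.subgroupOf T).index ≠ 0 := Subgroup.FiniteIndex.index_ne_zero
  have ha : (⟨b, hbT⟩ : Subgroup.normalizer (T : Set G)) • K.subgroupOf T = K.subgroupOf T := by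
    ext y
    rw [Subgroup.mem_pointwise_smul_iff_inv_smul_mem, Subgroup.mem_subgroupOf, Subgroup.mem_subgroupOf]
    have h1 : (((⟨b, hbT⟩ : Subgroup.normalizer (T : Set G))⁻¹ • y : T) : G) = b⁻¹ * y * b⁻¹⁻¹ := rfl
    rw [h1]
    exact ((Subgroup.mem_normalizer_iff.mp (Subgroup.inv_mem _ hbK)) (y : G)).symm
  have hord' : BigPrimes p (orderOf (⟨b, hbT⟩ : Subgroup.normalizer (T : Set G))) := by
    rw [Subgroup.orderOf_mk]; exact hord
  have := inv_mul_smul_mem_of_index_le p (K.subgroupOf T) h0 hidx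
    (⟨b, hbT⟩ : Subgroup.normalizer (T : Set G)) ha hord' ⟨x, hx⟩
  exact Subgroup.mem_subgroupOf.mp this

/-- Lemma B: a `p'`-element with big prime factors normalising a cyclic `p`-subgroup centralises it -/
theorem centralizes_cyclic (C : Subgroup G) (hC : IsPGroup p C) (hcyc : IsCyclic C) (b : G)
    (hb : b ∈ Subgroup.normalizer (C : Set G)) (hord : BigPrimes p (orderOf b)) :
    b ∈ Subgroup.centralizer (C : Set G) := by
  set φ := C.normalizerMonoidHom ⟨b, hb⟩ with hφ
  have h1 : orderOf φ ∣ orderOf b := by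
    have := orderOf_map_dvd C.normalizerMonoidHom (⟨b, hb⟩ : Subgroup.normalizer (C : Set G))
    rwa [Subgroup.orderOf_mk] at this
  have h2 : orderOf φ ∣ Nat.card (MulAut C) := orderOf_dvd_natCard φ
  obtain ⟨m, hm⟩ := IsPGroup.iff_card.mp hC
  have h3 : orderOf φ = 1 := by
    apply hord.eq_one_of_dvd h1 h2
    intro q hq hqd
    rw [IsCyclic.card_mulAut, hm] at hqd
    rcases Nat.eq_zero_or_pos m with h0 | h0
    · rw [h0, pow_zero, Nat.totient_one] at hqd
      exact absurd (Nat.dvd_one.mp hqd) hq.ne_one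
    · rw [Nat.totient_prime_pow hp.out h0] at hqd
      rcases (Nat.Prime.dvd_mul hq).mp hqd with h | h
      · have := (Nat.prime_dvd_prime_iff_eq hq hp.out).mp (hq.dvd_of_dvd_pow h)
        omega
      · have := Nat.le_of_dvd (by have := hp.out.one_lt; omega) h
        omega
  have h4 : (⟨b, hb⟩ : Subgroup.normalizer (C : Set G)) ∈ C.normalizerMonoidHom.ker :=
    orderOf_eq_one_iff.mp h3
  rw [Subgroup.normalizerMonoidHom_ker, Subgroup.mem_subgroupOf] at h4
  exact h4

/-- subgroups of every intermediate order, relative version -/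
theorem exists_between (T H : Subgroup G) (hHT : H ≤ T) {n m : ℕ} (hH : Nat.card H = p ^ n)
    (hT : p ^ m ∣ Nat.card T) (hnm : n ≤ m) :
    ∃ E : Subgroup G, H ≤ E ∧ E ≤ T ∧ Nat.card E = p ^ m := by
  have h1 : Nat.card (H.subgroupOf T) = p ^ n := by
    rw [← hH]; exact Nat.card_congr (Subgroup.subgroupOfEquivOfLe hHT).toEquiv
  obtain ⟨K, hK, hle⟩ := Sylow.exists_subgroup_card_pow_prime_le p hT (H.subgroupOf T) h1 hnm
  refine ⟨K.map T.subtype, ?_, Subgroup.map_subtype_le K, ?_⟩
  · intro x hx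
    exact ⟨⟨x, hHT hx⟩, hle (Subgroup.mem_subgroupOf.mpr hx), rfl⟩
  · rw [← hK]
    exact (Nat.card_congr (K.equivMapOfInjective T.subtype T.subtype_injective).toEquiv).symm

end concrete

end Cfsg.Agent.Lib.Helper6.FixedOrd
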