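import Mathlib
import Cfsg.Agent.Lib.Lead.MaxClass5
import Cfsg.Agent.Lib.Lead.CoprimeSylow4

set_option autoImplicit false
open Pointwise

namespace Cfsg.Agent.Lib.Helper6.FixedOrd

section sc

variable {G : Type*} [Group G] [Finite G] {p : ℕ} [hp : Fact p.Prime]

/-- the closure condition of the statement: `E` is strongly closed in its normaliser -/
def SC (E : Subgroup G) : Prop :=
  ∀ g : G, E.map (MulAut.conj g).toMonoidHom ⊓ Subgroup.normalizer (E : Set G) ≤ E

theorem mem_map_conj {E : Subgroup G} {g y : G} (hy : y ∈ E) :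
    g * y * g⁻¹ ∈ E.map (MulAut.conj g).toMonoidHom :=
  Subgroup.mem_map.mpr ⟨y, hy, by simp [MulAut.conj_apply]⟩

/-- Lemma E': if `b` normalises `T ≤ N(E)` then `b` normalises `T ⊓ E`. -/
theorem SC.inf_normalized {E : Subgroup G} (h : SC E) (T : Subgroup G)
    (hTE : T ≤ Subgroup.normalizer (E : Set G)) (b : G)
    (hb : b ∈ Subgroup.normalizer (T : Set G)) :
    b ∈ Subgroup.normalizer ((T ⊓ E : Subgroup G) : Set G) := by
  apply Cfsg.Agent.Lib.Lead.mem_normalizer_of_conj_mem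
  intro y hy
  have h1 : b * y * b⁻¹ ∈ T := (Subgroup.mem_normalizer_iff.mp hb y).mp hy.1
  exact ⟨h1, h b ⟨mem_map_conj hy.2, hTE h1⟩⟩

/-- Lemma E: if `b` normalises `T` with `E ≤ T ≤ N(E)` then `b` normalises `E`. -/
theorem SC.normalized {E : Subgroup G} (h : SC E) (T : Subgroup G) (hET : E ≤ T)
    (hTE : T ≤ Subgroup.normalizer (E : Set G)) (b : G)
    (hb : b ∈ Subgroup.normalizer (T : Set G)) :
    b ∈ Subgroup.normalizer (E : Set G) := by
  have := h.inf_normalized T hTE b hb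
  rwa [inf_eq_right.mpr hET] at this

/-- Lemma D: a strongly closed subgroup of a `p`-group `P` is normal in `P`. -/
theorem SC.le_normalizer {E : Subgroup G} (h : SC E) (P : Subgroup G) (hP : IsPGroup p P)
    (hEP : E ≤ P) : P ≤ Subgroup.normalizer (E : Set G) := by
  by_contra hcon
  set N := P ⊓ Subgroup.normalizer (E : Set G) with hN
  have hlt : N < P := lt_of_le_of_ne inf_le_left (fun heq => hcon (heq ▸ inf_le_right))
  have hgrow := Cfsg.Agent.Lib.Lead.pgroup_normalizer_grows p P N hP hlt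
  obtain ⟨u, hu, huN⟩ := SetLike.exists_of_lt hgrow
  apply huN
  refine ⟨hu.1, ?_⟩
  apply Cfsg.Agent.Lib.Lead.mem_normalizer_of_conj_mem
  intro y hy
  have hyN : y ∈ N := ⟨hEP hy, Subgroup.le_normalizer hy⟩
  have h1 : u * y * u⁻¹ ∈ N := (Subgroup.mem_normalizer_iff.mp hu.2 y).mp hyN
  exact h u ⟨mem_map_conj hy, h1.2⟩

end sc

end Cfsg.Agent.Lib.Helper6.FixedOrd
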