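import Mathlib
import Cfsg.Agent.Lib.Helper6.FixedOrd1
import Cfsg.Agent.Lib.Helper6.FixedOrd2
import Cfsg.Agent.Lib.Lead.Frattini
import Cfsg.Agent.Lib.Lead.CoprimeFrattini
import Cfsg.Agent.Lib.Lead.CoprimeSylow
import Cfsg.Agent.Lib.Helper4.OmegaGen

set_option autoImplicit false
open Pointwise

namespace Cfsg.Agent.Lib.Helper6.FixedOrd

section hyp

variable {G : Type*} [Group G] [Finite G] {p : ℕ} [hp : Fact p.Prime]

/-- the hypothesis of the theorem on subgroups of fixed order `p ^ k` of the `p`-group `P` -/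
structure Hyp (p : ℕ) (P : Subgroup G) (k : ℕ) : Prop where
  isP : IsPGroup p P
  one_le : 1 ≤ k
  dvd : p ^ (k + 1) ∣ Nat.card P
  sc : ∀ E : Subgroup G, E ≤ P → (Nat.card E = p ^ k ∨ (p ^ k = 2 ∧ Nat.card E = 4)) → SC E

theorem mem_map_frattini (F : Subgroup G) (y : G) (hy : y ∈ F)
    (h : ∀ M : Subgroup F, IsCoatom M → y ∈ M.map F.subtype) :
    y ∈ (frattini F).map F.subtype := by
  refine ⟨⟨y, hy⟩, ?_, rfl⟩
  rw [SetLike.mem_coe, Cfsg.Agent.Lib.Lead.mem_frattini_iff]
  intro M hM
  obtain ⟨z, hz, hzy⟩ := h M hM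
  have : z = ⟨y, hy⟩ := Subtype.ext hzy
  rwa [← this]

/-- a maximal subgroup of a `p`-subgroup `F`, seen in `G`: its order -/
theorem card_coatom_map (F : Subgroup G) (hF : IsPGroup p F) (M : Subgroup F) (hM : IsCoatom M) :
    Nat.card (M.map F.subtype) * p = Nat.card F ∧ (M.map F.subtype).relIndex F = p := by
  obtain ⟨_, hMi⟩ := Cfsg.Agent.Lib.Lead.coatom_normal_index_of_isPGroup hF hM
  have h1 : Nat.card (M.map F.subtype) = Nat.card M :=
    (Nat.card_congr (M.equivMapOfInjective F.subtype F.subtype_injective).toEquiv).symm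
  have h2 := M.card_mul_index
  rw [hMi] at h2
  refine ⟨by rw [h1, h2], ?_⟩
  have h3 : (M.map F.subtype).subgroupOf F = M :=
    Subgroup.comap_map_eq_self_of_injective F.subtype_injective M
  unfold Subgroup.relIndex
  rw [h3, hMi]

theorem normalizer_sup_of_mem {E₁ E₂ : Subgroup G} {b : G}
    (h1 : b ∈ Subgroup.normalizer (E₁ : Set G)) (h2 : b ∈ Subgroup.normalizer (E₂ : Set G)) :
    b ∈ Subgroup.normalizer ((E₁ ⊔ E₂ : Subgroup G) : Set G) := by
  rw [Cfsg.Agent.Lib.Lead.mem_normalizer_iff_conj_smul] at h1 h2 ⊢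
  rw [Subgroup.smul_sup, h1, h2]


variable {P : Subgroup G} {k : ℕ}

/-- (F-a) subgroups of the critical orders are normalised by whatever normalises a subgroup
of `P` containing them -/
theorem Hyp.normalizes (H : Hyp p P k) (T : Subgroup G) (hTP : T ≤ P) (E : Subgroup G) (hET : E ≤ T)
    (hcard : Nat.card E = p ^ k ∨ (p ^ k = 2 ∧ Nat.card E = 4)) (b : G)
    (hb : b ∈ Subgroup.normalizer (T : Set G)) : b ∈ Subgroup.normalizer (E : Set G) := by
  have hsc := H.sc E (hET.trans hTP) hcard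
  exact hsc.normalized T hET (hTP.trans (hsc.le_normalizer P H.isP (hET.trans hTP))) b hb

theorem BigPrimes.coprime {n : ℕ} (h : BigPrimes p n) : Nat.Coprime n p := by
  rw [Nat.coprime_comm, Nat.Prime.coprime_iff_not_dvd hp.out]
  intro hd
  exact lt_irrefl p (h p hp.out hd)

/-- (F-b') an invariant subgroup of order `p ^ (k + 1)` is centralised -/
theorem Hyp.centralizes_of_card (H : Hyp p P k) (T : Subgroup G) (hTP : T ≤ P) (F : Subgroup G)
    (hFT : F ≤ T) (hF : Nat.card F = p ^ (k + 1)) (b : G)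
    (hbT : b ∈ Subgroup.normalizer (T : Set G)) (hbF : b ∈ Subgroup.normalizer (F : Set G))
    (hord : BigPrimes p (orderOf b)) :
    Subgroup.zpowers b ≤ Subgroup.centralizer (F : Set G) := by
  have hFp : IsPGroup p F := H.isP.to_le (hFT.trans hTP)
  apply Cfsg.Agent.Lib.Lead.coprime_trivial_on_frattini_quotient (Subgroup.zpowers b) F
    (Subgroup.zpowers_le.mpr hbF)
  · rw [Nat.card_zpowers]
    have hΦp : IsPGroup p (frattini F) := hFp.to_subgroup _
    obtain ⟨j, hj⟩ := IsPGroup.iff_card.mp hΦp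
    rw [hj]
    exact Nat.Coprime.pow_right j hord.coprime
  · intro a ha y hy
    have haT : a ∈ Subgroup.normalizer (T : Set G) := (Subgroup.zpowers_le.mpr hbT) ha
    have haF : a ∈ Subgroup.normalizer (F : Set G) := (Subgroup.zpowers_le.mpr hbF) ha
    have horda : BigPrimes p (orderOf a) := hord.of_dvd (orderOf_dvd_of_mem_zpowers ha)
    have hmemF : a * y * a⁻¹ * y⁻¹ ∈ F :=
      F.mul_mem ((Subgroup.mem_normalizer_iff.mp haF y).mp hy) (F.inv_mem hy)
    apply mem_map_frattini F _ hmemF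
    intro M hM
    obtain ⟨hc1, hc2⟩ := card_coatom_map F hFp M hM
    have hMcard : Nat.card (M.map F.subtype) = p ^ k := by
      rw [hF, pow_succ] at hc1
      exact Nat.eq_of_mul_eq_mul_right hp.out.pos hc1
    have hMF : M.map F.subtype ≤ F := Subgroup.map_subtype_le M
    have haM : a ∈ Subgroup.normalizer ((M.map F.subtype : Subgroup G) : Set G) :=
      H.normalizes T hTP _ (hMF.trans hFT) (Or.inl hMcard) a haT
    have := conj_coset_fixed F (M.map F.subtype) hMF hc2.le a haF haM horda y⁻¹ (F.inv_mem hy)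
    have h2 := Subgroup.inv_mem _ this
    have e : (y⁻¹⁻¹ * (a * y⁻¹ * a⁻¹))⁻¹ = a * y * a⁻¹ * y⁻¹ := by group
    rwa [e] at h2


theorem card_lt_of_lt {A B : Subgroup G} (h : A < B) : Nat.card A < Nat.card B := by
  by_contra hcon
  push Not at hcon
  exact h.ne (Subgroup.eq_of_le_of_card_ge h.le hcon)

/-- (F-b) a non-cyclic subgroup of order `p ^ k` of a larger invariant subgroup is centralised -/
theorem Hyp.centralizes_noncyclic (H : Hyp p P k) (T : Subgroup G) (hTP : T ≤ P)
    (hT : p ^ (k + 1) ∣ Nat.card T) (E : Subgroup G) (hET : E ≤ T) (hE : Nat.card E = p ^ k)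
    (hnc : ¬ IsCyclic E) (b : G) (hbT : b ∈ Subgroup.normalizer (T : Set G))
    (hord : BigPrimes p (orderOf b)) : b ∈ Subgroup.centralizer (E : Set G) := by
  obtain ⟨F, hEF, hFT, hF⟩ := exists_between T E hET hE hT (Nat.le_succ k)
  have hFnc : ¬ IsCyclic F := by
    intro hc
    exact hnc (isCyclic_of_injective (Subgroup.inclusion hEF) (Subgroup.inclusion_injective hEF))
  have hne : E ≠ F := by
    intro h
    rw [h, hF] at hE
    have := Nat.pow_right_injective hp.out.two_le hE
    omega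
  obtain ⟨y, hyF, hyE⟩ := SetLike.exists_of_lt (lt_of_le_of_ne hEF hne)
  have hzF : Subgroup.zpowers y ≤ F := Subgroup.zpowers_le.mpr hyF
  have hzd : Nat.card (Subgroup.zpowers y) ∣ p ^ (k + 1) := by
    rw [← hF]; exact Subgroup.card_dvd_of_le hzF
  obtain ⟨j, hj, hjc⟩ := (Nat.dvd_prime_pow hp.out).mp hzd
  have hjk : j ≤ k := by
    by_contra hcon
    have hj' : j = k + 1 := by omega
    have : Subgroup.zpowers y = F := by
      apply Subgroup.eq_of_le_of_card_ge hzF
      rw [hjc, hj', hF]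
    apply hFnc
    rw [← this]
    infer_instance
  obtain ⟨E₂, hzE₂, hE₂F, hE₂⟩ := exists_between F (Subgroup.zpowers y) hzF hjc
    (by rw [hF]; exact pow_dvd_pow p (Nat.le_succ k)) hjk
  have hsup : E ⊔ E₂ = F := by
    apply Subgroup.eq_of_le_of_card_ge (sup_le hEF hE₂F)
    have hlt : E < E ⊔ E₂ := by
      refine lt_of_le_of_ne le_sup_left ?_
      intro h
      apply hyE
      rw [h]
      exact Subgroup.mem_sup_right (hzE₂ (Subgroup.mem_zpowers y))
    have h1 := card_lt_of_lt hlt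
    have h2 : Nat.card (E ⊔ E₂ : Subgroup G) ∣ p ^ (k + 1) := by
      rw [← hF]; exact Subgroup.card_dvd_of_le (sup_le hEF hE₂F)
    obtain ⟨i, hi, hic⟩ := (Nat.dvd_prime_pow hp.out).mp h2
    rw [hE, hic] at h1
    have h3 : k < i := (Nat.pow_lt_pow_iff_right hp.out.one_lt).mp h1
    have h4 : i = k + 1 := by omega
    rw [hF, hic, h4]
  have hbE : b ∈ Subgroup.normalizer (E : Set G) := H.normalizes T hTP E hET (Or.inl hE) b hbT
  have hbE₂ : b ∈ Subgroup.normalizer (E₂ : Set G) :=
    H.normalizes T hTP E₂ (hE₂F.trans hFT) (Or.inl hE₂) b hbT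
  have hbF : b ∈ Subgroup.normalizer (F : Set G) := by
    rw [← hsup]; exact normalizer_sup_of_mem hbE hbE₂
  have h5 := H.centralizes_of_card T hTP F hFT hF b hbT hbF hord
  exact Subgroup.centralizer_le hEF (h5 (Subgroup.mem_zpowers b))


/-- (F1) elements of order `p` (or `4`) of a large invariant subgroup are centralised -/
theorem Hyp.commute_of_small_order (H : Hyp p P k) (T : Subgroup G) (hTP : T ≤ P)
    (hT : p ^ (k + 1) ∣ Nat.card T) (b : G) (hbT : b ∈ Subgroup.normalizer (T : Set G))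
    (hord : BigPrimes p (orderOf b)) (x : G) (hx : x ∈ T)
    (hxo : x ^ p = 1 ∨ (p = 2 ∧ x ^ 4 = 1)) : b * x = x * b := by
  have hzT : Subgroup.zpowers x ≤ T := Subgroup.zpowers_le.mpr hx
  have hd2 : orderOf x ∣ p ^ 2 := by
    rcases hxo with h | ⟨hp2, h4⟩
    · exact (orderOf_dvd_of_pow_eq_one h).trans (dvd_pow_self p two_ne_zero)
    · rw [hp2]; exact orderOf_dvd_of_pow_eq_one h4
  obtain ⟨j, hj2, hjo⟩ := (Nat.dvd_prime_pow hp.out).mp hd2
  have hcard : Nat.card (Subgroup.zpowers x) = p ^ j := by rw [Nat.card_zpowers, hjo]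
  have hTk : p ^ k ∣ Nat.card T := (pow_dvd_pow p (Nat.le_succ k)).trans hT
  suffices hs : ∃ E : Subgroup G, x ∈ E ∧ E ≤ T ∧ b ∈ Subgroup.normalizer (E : Set G) ∧
      (IsCyclic E ∨ Nat.card E = p ^ k) by
    obtain ⟨E, hxE, hET, hbE, hE⟩ := hs
    have hcen : b ∈ Subgroup.centralizer (E : Set G) := by
      by_cases hc : IsCyclic E
      · exact centralizes_cyclic E (H.isP.to_le (hET.trans hTP)) hc b hbE hord
      · exact H.centralizes_noncyclic T hTP hT E hET (hE.resolve_left hc) hc b hbT hord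
    exact (Subgroup.mem_centralizer_iff.mp hcen x hxE).symm
  by_cases hjk : j ≤ k
  · obtain ⟨E, hzE, hET, hE⟩ := exists_between T (Subgroup.zpowers x) hzT hcard hTk hjk
    exact ⟨E, hzE (Subgroup.mem_zpowers x), hET, H.normalizes T hTP E hET (Or.inl hE) b hbT,
      Or.inr hE⟩
  · have hk1 := H.one_le
    have hj : j = 2 := by omega
    have hk : k = 1 := by omega
    rcases hxo with h | ⟨hp2, h4⟩
    · exfalso
      have h1 := orderOf_dvd_of_pow_eq_one h
      rw [hjo, hj] at h1
      have h2 := Nat.le_of_dvd hp.out.pos h1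
      have h3 : p < p ^ 2 := by
        have := hp.out.one_lt
        nlinarith
      omega
    · refine ⟨Subgroup.zpowers x, Subgroup.mem_zpowers x, hzT, ?_, Or.inl inferInstance⟩
      apply H.normalizes T hTP _ hzT _ b hbT
      right
      rw [hcard, hj, hk, hp2]
      exact ⟨by norm_num, by norm_num⟩

/-- (F) a large invariant subgroup of `P` is centralised by `p'`-elements with big prime factors -/
theorem Hyp.centralizes_large (H : Hyp p P k) (T : Subgroup G) (hTP : T ≤ P)
    (hT : p ^ (k + 1) ∣ Nat.card T) (b : G) (hbT : b ∈ Subgroup.normalizer (T : Set G))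
    (hord : BigPrimes p (orderOf b)) : b ∈ Subgroup.centralizer (T : Set G) := by
  have h1 := Cfsg.Agent.Lib.Helper4.coprime_centralizes_of_omega_gen (p := p)
    (Subgroup.zpowers b) T (by rw [Nat.card_zpowers]; exact hord.coprime) (H.isP.to_le hTP)
    (Subgroup.zpowers_le.mpr hbT) (by
      intro x hx hxo a ha
      exact H.commute_of_small_order T hTP hT a ((Subgroup.zpowers_le.mpr hbT) ha)
        (hord.of_dvd (orderOf_dvd_of_mem_zpowers ha)) x hx hxo)
  exact h1 (Subgroup.mem_zpowers b)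


/-- **Key lemma**: a `p'`-element (with big prime factors) normalising `T ≤ P` moves the elements
of `T` only inside `Φ(P)`. -/
theorem Hyp.key (H : Hyp p P k) (T : Subgroup G) (hTP : T ≤ P) (b : G)
    (hbT : b ∈ Subgroup.normalizer (T : Set G)) (hord : BigPrimes p (orderOf b)) (x : G)
    (hx : x ∈ T) : x⁻¹ * (b * x * b⁻¹) ∈ (frattini P).map P.subtype := by
  obtain ⟨j, hj⟩ := IsPGroup.iff_card.mp (H.isP.to_le hTP)
  by_cases hjk : j ≤ k
  · have hmemT : x⁻¹ * (b * x * b⁻¹) ∈ T :=
      T.mul_mem (T.inv_mem hx) ((Subgroup.mem_normalizer_iff.mp hbT x).mp hx)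
    apply mem_map_frattini P _ (hTP hmemT)
    intro M hM
    obtain ⟨hc1, hc2⟩ := card_coatom_map P H.isP M hM
    have hM'P : M.map P.subtype ≤ P := Subgroup.map_subtype_le M
    have hM'k : p ^ k ∣ Nat.card (M.map P.subtype) := by
      obtain ⟨n, hn⟩ := IsPGroup.iff_card.mp (H.isP.to_le hM'P)
      have h1 := H.dvd
      rw [← hc1, hn, ← pow_succ] at h1
      have h2 := (Nat.pow_dvd_pow_iff_le_right hp.out.one_lt).mp h1
      rw [hn]
      exact pow_dvd_pow p (by omega)
    have hKd : Nat.card (T ⊓ M.map P.subtype : Subgroup G) ∣ p ^ j := by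
      rw [← hj]; exact Subgroup.card_dvd_of_le inf_le_left
    obtain ⟨i, hij, hi⟩ := (Nat.dvd_prime_pow hp.out).mp hKd
    obtain ⟨E, hKE, hEM', hE⟩ := exists_between (M.map P.subtype) (T ⊓ M.map P.subtype)
      inf_le_right hi hM'k (hij.trans hjk)
    have hTE : T ⊓ E = T ⊓ M.map P.subtype :=
      le_antisymm (le_inf inf_le_left (inf_le_right.trans hEM')) (le_inf inf_le_left hKE)
    have hsc := H.sc E (hEM'.trans hM'P) (Or.inl hE)
    have hPN := hsc.le_normalizer P H.isP (hEM'.trans hM'P)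
    have hbK : b ∈ Subgroup.normalizer ((T ⊓ M.map P.subtype : Subgroup G) : Set G) := by
      rw [← hTE]; exact hsc.inf_normalized T (hTP.trans hPN) b hbT
    have hidx : (T ⊓ M.map P.subtype).relIndex T ≤ p := by
      rw [Subgroup.inf_relIndex_left]
      have := Subgroup.relIndex_le_of_le_right (H := M.map P.subtype) hTP
        (by rw [hc2]; exact hp.out.ne_zero)
      rwa [hc2] at this
    have := conj_coset_fixed T (T ⊓ M.map P.subtype) inf_le_left hidx b hbT hbK hord x hx
    exact this.2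
  · have hT : p ^ (k + 1) ∣ Nat.card T := by
      rw [hj]; exact pow_dvd_pow p (by omega)
    have hcen := H.centralizes_large T hTP hT b hbT hord
    have h1 : x * b = b * x := Subgroup.mem_centralizer_iff.mp hcen x hx
    have e : x⁻¹ * (b * x * b⁻¹) = 1 := by
      rw [← h1]; group
    rw [e]
    exact one_mem _

end hyp

end Cfsg.Agent.Lib.Helper6.FixedOrd
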