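import Mathlib
import Cfsg.Agent.Lib.Helper6.FixedOrd3
import Cfsg.Agent.Lib.Helper4.Alperin
import Cfsg.Agent.Lib.Lead.TateE
import Cfsg.Agent.Lib.Lead.Focal2

set_option autoImplicit false
open Pointwise
open scoped commutatorElement

namespace Cfsg.Agent.Lib.Helper6.FixedOrd

section final

variable {G : Type*} [Group G] [Finite G] {p : ℕ} [hp : Fact p.Prime]

/-- a subgroup containing a subgroup of index prime to `p` in `M` and all the `p'`-elements of `M`
contains `M` -/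
theorem le_of_sylow_le_of_pprime_mem (M Q S : Subgroup G) (hQ : ¬ p ∣ Q.relIndex M)
    (hQS : Q ≤ S) (hS : ∀ g ∈ M, (orderOf g).Coprime p → g ∈ S) : M ≤ S := by
  have h1 : Q.subgroupOf M ⊔ Cfsg.pResidual p M = ⊤ :=
    Cfsg.Agent.Lib.Lead.sup_eq_top_of_coprime_index _ _ hQ (Cfsg.Agent.Lib.Lead.pResidual_index p)
  have h2 : Q.subgroupOf M ≤ S.subgroupOf M := fun x hx => hQS hx
  have h3 : Cfsg.pResidual p M ≤ S.subgroupOf M := by
    unfold Cfsg.pResidual
    rw [Subgroup.closure_le]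
    intro g hg
    have hg' : (orderOf g).Coprime p := hg
    rw [← Subgroup.orderOf_coe] at hg'
    exact hS g g.2 hg'
  have h4 : (⊤ : Subgroup M) ≤ S.subgroupOf M := h1 ▸ sup_le h2 h3
  intro x hx
  exact h4 (Subgroup.mem_top (⟨x, hx⟩ : M))

variable {k : ℕ}

/-- step (c): normalisers of fully normalised subgroups move elements only inside `Φ(P)` -/
theorem Hyp.step (P : Sylow p G) (H : Hyp p (P : Subgroup G) k)
    (hbig : ∀ b : G, (orderOf b).Coprime p → BigPrimes p (orderOf b))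
    (T : Subgroup G) (hTP : T ≤ (P : Subgroup G))
    (hT : ¬ p ∣ ((P : Subgroup G) ⊓ Subgroup.normalizer (T : Set G)).relIndex
      (Subgroup.normalizer (T : Set G))) (n : G) (hn : n ∈ Subgroup.normalizer (T : Set G))
    (x : G) (hx : x ∈ T) :
    x⁻¹ * (n * x * n⁻¹) ∈ (frattini (P : Subgroup G)).map (P : Subgroup G).subtype := by
  set Φ := (frattini (P : Subgroup G)).map (P : Subgroup G).subtype with hΦ
  have hconj : ∀ m ∈ Subgroup.normalizer (T : Set G), ∀ y ∈ T, m * y * m⁻¹ ∈ T :=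
    fun m hm y hy => (Subgroup.mem_normalizer_iff.mp hm y).mp hy
  let S : Subgroup G :=
    { carrier := {m | m ∈ Subgroup.normalizer (T : Set G) ∧ ∀ y ∈ T, y⁻¹ * (m * y * m⁻¹) ∈ Φ}
      one_mem' := ⟨one_mem _, fun y _ => by simp⟩
      mul_mem' := by
        rintro a b ⟨haN, ha⟩ ⟨hbN, hb⟩
        refine ⟨Subgroup.mul_mem _ haN hbN, fun y hy => ?_⟩
        have h1 := hb y hy
        have h2 := ha (b * y * b⁻¹) (hconj b hbN y hy)
        have e : y⁻¹ * (a * b * y * (a * b)⁻¹) =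
            (y⁻¹ * (b * y * b⁻¹)) * ((b * y * b⁻¹)⁻¹ * (a * (b * y * b⁻¹) * a⁻¹)) := by group
        rw [e]
        exact Φ.mul_mem h1 h2
      inv_mem' := by
        rintro a ⟨haN, ha⟩
        refine ⟨Subgroup.inv_mem _ haN, fun y hy => ?_⟩
        have h1 := ha (a⁻¹ * y * a⁻¹⁻¹) (hconj a⁻¹ (Subgroup.inv_mem _ haN) y hy)
        have e : y⁻¹ * (a⁻¹ * y * a⁻¹⁻¹) =
            ((a⁻¹ * y * a⁻¹⁻¹)⁻¹ * (a * (a⁻¹ * y * a⁻¹⁻¹) * a⁻¹))⁻¹ := by group
        rw [e]
        exact Φ.inv_mem h1 }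
  have hle : Subgroup.normalizer (T : Set G) ≤ S := by
    apply le_of_sylow_le_of_pprime_mem (p := p) _ _ S hT
    · rintro u ⟨huP, huN⟩
      refine ⟨huN, fun y hy => ?_⟩
      have hyP : y ∈ (P : Subgroup G) := hTP hy
      have h1 : ⁅(⟨y, hyP⟩ : (P : Subgroup G))⁻¹, ⟨u, huP⟩⁆ ∈ commutator (P : Subgroup G) := by
        rw [commutator_def]
        exact Subgroup.commutator_mem_commutator (Subgroup.mem_top _) (Subgroup.mem_top _)
      have h2 := Cfsg.Agent.Lib.Lead.commutator_le_frattini_of_isPGroup P.isPGroup' h1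
      refine ⟨_, h2, ?_⟩
      simp [commutatorElement_def, mul_assoc]
    · intro g hg hcop
      exact ⟨hg, fun y hy => H.key T hTP g hg (hbig g hcop) y hy⟩
  exact (hle hn).2 x hx


open Cfsg.Agent.Lib.Helper4 in
/-- fusion in `P` moves elements only inside `Φ(P)` -/
theorem Hyp.fusion (P : Sylow p G) (H : Hyp p (P : Subgroup G) k)
    (hbig : ∀ b : G, (orderOf b).Coprime p → BigPrimes p (orderOf b))
    (x : G) (hx : x ∈ (P : Subgroup G)) (g : G) (hg : g⁻¹ * x * g ∈ (P : Subgroup G)) :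
    x⁻¹ * (g⁻¹ * x * g) ∈ (frattini (P : Subgroup G)).map (P : Subgroup G).subtype := by
  set Φ := (frattini (P : Subgroup G)).map (P : Subgroup G).subtype with hΦ
  set 𝓕 : Set (Subgroup G) := {T | T ≤ (P : Subgroup G) ∧
    ¬ p ∣ ((P : Subgroup G) ⊓ Subgroup.normalizer (T : Set G)).relIndex
      (Subgroup.normalizer (T : Set G))} with h𝓕def
  have h𝓕 : ∀ T ∈ 𝓕, T ≤ (P : Subgroup G) := fun T hT => hT.1
  have hext : ∀ T : Subgroup G, T ≤ (P : Subgroup G) → ∃ U' ∈ 𝓕,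
      (∃ g : G, Cfsg.Agent.Lib.Helper7.cj g T = U') ∧
      ¬ p ∣ ((P : Subgroup G) ⊓ Subgroup.normalizer ((U' : Subgroup G) : Set G)).relIndex
        (Subgroup.normalizer ((U' : Subgroup G) : Set G)) := by
    intro T hT
    obtain ⟨c, hc1, hc2, -⟩ := exists_extremal_conj P T hT
    exact ⟨_, ⟨hc1, hc2⟩, ⟨c, rfl⟩, hc2⟩
  have hvia : Via 𝓕 ({x} : Set G) g := by
    apply alperin_set P 𝓕 h𝓕 hext
    · intro y hy
      rw [Set.mem_singleton_iff] at hy
      rw [hy]; exact hx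
    · rintro _ ⟨y, hy, rfl⟩
      rw [Set.mem_singleton_iff] at hy
      rw [hy]; exact hg
  have main : ∀ (A : Set G) (g : G), Via 𝓕 A g → ∀ y ∈ A, y⁻¹ * (g⁻¹ * y * g) ∈ Φ := by
    intro A g hv
    induction hv with
    | nil A =>
      intro y _
      simp
    | cons A T n g' hT hn hAT _ ih =>
      intro y hy
      have hyT : y ∈ T := hAT hy
      have h1 := H.step P hbig T hT.1 hT.2 n⁻¹ (Subgroup.inv_mem _ hn) y hyT
      have h2 := ih (n⁻¹ * y * n) ⟨y, hy, rfl⟩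
      have e : y⁻¹ * ((n * g')⁻¹ * y * (n * g')) =
          (y⁻¹ * (n⁻¹ * y * n⁻¹⁻¹)) * ((n⁻¹ * y * n)⁻¹ * (g'⁻¹ * (n⁻¹ * y * n) * g')) := by group
      rw [e]
      exact Φ.mul_mem h1 h2
  exact main _ g hvia x rfl

/-- the theorem in the non-cyclic case -/
theorem Hyp.hasNormalPComplement (P : Sylow p G) (H : Hyp p (P : Subgroup G) k)
    (hbig : ∀ b : G, (orderOf b).Coprime p → BigPrimes p (orderOf b)) :
    Cfsg.HasNormalPComplement p G := by
  set Φ := (frattini (P : Subgroup G)).map (P : Subgroup G).subtype with hΦ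
  have hfoc : (P : Subgroup G).focalSubgroup ≤ Φ := by
    rw [Subgroup.focalSubgroup_def, Subgroup.closure_le]
    rintro g ⟨hgP, x, hxP, u, rfl⟩
    have h1 : u⁻¹⁻¹ * x⁻¹ * u⁻¹ ∈ (P : Subgroup G) := by
      have e : u⁻¹⁻¹ * x⁻¹ * u⁻¹ = x⁻¹ * ⁅x, u⁆ := by rw [commutatorElement_def]; group
      rw [e]
      exact Subgroup.mul_mem _ (Subgroup.inv_mem _ hxP) hgP
    have h2 := H.fusion P hbig x⁻¹ (Subgroup.inv_mem _ hxP) u⁻¹ h1
    have e : x⁻¹⁻¹ * (u⁻¹⁻¹ * x⁻¹ * u⁻¹) = ⁅x, u⁆ := by rw [commutatorElement_def]; group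
    rw [SetLike.mem_coe, ← e]
    exact h2
  obtain ⟨hfeq, N, hNn, hNP, hsup⟩ :=
    Cfsg.Agent.Lib.Lead.exists_normal_of_coprime (P : Subgroup G)
      (Cfsg.Agent.Lib.Lead.sylow_focal_coprime P)
  haveI := hNn
  have hidx : ∃ j : ℕ, N.index = p ^ j := by
    have h1 : N.relIndex (N ⊔ (P : Subgroup G)) = N.relIndex (P : Subgroup G) := by
      rw [sup_comm]
      exact Cfsg.Agent.Lib.Lead.relIndex_sup_of_le_normalizer _ N (by
        rw [Subgroup.normalizer_eq_top_iff.mpr hNn]; exact le_top)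
    rw [hsup, Subgroup.relIndex_top_right] at h1
    have h2 : N.relIndex (P : Subgroup G) ∣ Nat.card (P : Subgroup G) :=
      Subgroup.index_dvd_card _
    obtain ⟨n, hn⟩ := IsPGroup.iff_card.mp P.2
    rw [hn] at h2
    obtain ⟨j, -, hj⟩ := (Nat.dvd_prime_pow hp.out).mp h2
    exact ⟨j, by rw [h1, hj]⟩
  have hKN : Cfsg.pResidual p G ≤ N := by
    unfold Cfsg.pResidual
    rw [Subgroup.closure_le]
    intro g hg
    exact Cfsg.Agent.Lib.Lead.mem_of_coprime_orderOf N hidx g hg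
  have hfr : Cfsg.Agent.Lib.Lead.Tate.R (p := p) (P : Subgroup G) ≤ frattini (P : Subgroup G) := by
    intro r hr
    have hrK : (r : G) ∈ Cfsg.pResidual p G := hr
    have h1 : (r : G) ∈ N ⊓ (P : Subgroup G) := ⟨hKN hrK, r.2⟩
    rw [hNP, ← hfeq] at h1
    obtain ⟨y, hy, hyr⟩ := hfoc h1
    have : y = r := Subtype.ext hyr
    rwa [← this]
  exact Cfsg.Agent.Lib.Lead.hasNormalPComplement_of_R_eq_bot P
    (Cfsg.Agent.Lib.Lead.Tate.R_eq_bot P hfr)

end final

end Cfsg.Agent.Lib.Helper6.FixedOrd
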