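import Mathlib

set_option autoImplicit false

namespace Cfsg.Agent.Lib.Helper6.FixedOrd

open Polynomial in
/-- an additive endomorphism of a nontrivial finite elementary abelian `p`-group whose
`(p - 1)`-st power is the identity has an eigenvector -/
theorem exists_eigenvector_of_pow_eq_aux {A : Type*} [AddCommGroup A] [Finite A] [Nontrivial A]
    (p : ℕ) [hp : Fact p.Prime] [Module (ZMod p) A] (f : A →+ A)
    (hf : ∀ x : A, f^[p - 1] x = x) : ∃ μ : ℕ, ∃ x : A, x ≠ 0 ∧ f x = μ • x := by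
  classical
  haveI : Module.Finite (ZMod p) A := Module.Finite.of_finite
  set F : Module.End (ZMod p) A := f.toZModLinearMap p with hF
  have hFpow : ∀ n : ℕ, ∀ x : A, (F ^ n : A →ₗ[ZMod p] A) x = f^[n] x := by
    intro n x
    rw [Module.End.pow_apply]
    rfl
  have hF1 : F ^ (p - 1) = 1 := by
    ext x
    rw [hFpow, hf]
    rfl
  have hFp : F ^ p = F := by
    have h1 : F ^ p = F ^ (p - 1) * F := by
      rw [← pow_succ]
      congr 1
      have := hp.out.one_lt
      omega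
    rw [h1, hF1, one_mul]
  have haeval : aeval F (X ^ p - X : (ZMod p)[X]) = 0 := by
    rw [map_sub, map_pow, aeval_X, hFp, sub_self]
  have hdvd : minpoly (ZMod p) F ∣ (X ^ p - X : (ZMod p)[X]) := minpoly.dvd _ _ haeval
  have hne : (X ^ p - X : (ZMod p)[X]) ≠ 0 := FiniteField.X_pow_card_sub_X_ne_zero _ hp.out.one_lt
  have hsplit : (X ^ p - X : (ZMod p)[X]).Splits := by
    rw [splits_iff_card_roots]
    have h1 := FiniteField.roots_X_pow_card_sub_X (ZMod p)
    rw [ZMod.card p] at h1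
    rw [h1, FiniteField.X_pow_card_sub_X_natDegree_eq _ hp.out.one_lt]
    simp [ZMod.card p]
  have hmsplit : (minpoly (ZMod p) F).Splits := hsplit.of_dvd hne hdvd
  have hint : IsIntegral (ZMod p) F := Algebra.IsIntegral.isIntegral F
  have hdeg : (minpoly (ZMod p) F).degree ≠ 0 := (minpoly.degree_pos hint).ne'
  obtain ⟨μ, hμ⟩ := hmsplit.exists_eval_eq_zero hdeg
  have hev : F.HasEigenvalue μ := Module.End.hasEigenvalue_of_isRoot hμ
  obtain ⟨v, hv⟩ := hev.exists_hasEigenvector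
  refine ⟨μ.val, v, hv.2, ?_⟩
  have h2 : F v = μ • v := hv.apply_eq_smul
  have h3 : F v = f v := rfl
  rw [← h3, h2]
  conv_lhs => rw [← ZMod.natCast_zmod_val μ]
  exact Nat.cast_smul_eq_nsmul (ZMod p) μ.val v

/-- an additive endomorphism of a nontrivial finite elementary abelian `p`-group whose
`(p - 1)`-st power is the identity has an eigenvector -/
theorem exists_eigenvector_of_pow_eq {A : Type*} [AddCommGroup A] [Finite A] [Nontrivial A]
    (p : ℕ) [hp : Fact p.Prime] (hA : ∀ x : A, p • x = 0) (f : A →+ A)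
    (hf : ∀ x : A, f^[p - 1] x = x) : ∃ μ : ℕ, ∃ x : A, x ≠ 0 ∧ f x = μ • x :=
  @exists_eigenvector_of_pow_eq_aux A _ _ _ p hp (AddCommGroup.zmodModule hA) f hf

/-- multiplicative version -/
theorem exists_eigenvector_of_pow_eq_mul {W : Type*} [CommGroup W] [Finite W] [Nontrivial W]
    (p : ℕ) [hp : Fact p.Prime] (hW : ∀ x : W, x ^ p = 1) (φ : W →* W)
    (hφ : ∀ x : W, φ^[p - 1] x = x) : ∃ μ : ℕ, ∃ x : W, x ≠ 1 ∧ φ x = x ^ μ := by
  obtain ⟨μ, x, hx, hfx⟩ := exists_eigenvector_of_pow_eq (A := Additive W) p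
    (fun x => hW (Additive.toMul x)) (MonoidHom.toAdditive φ) (fun x => hφ (Additive.toMul x))
  exact ⟨μ, Additive.toMul x, hx, hfx⟩

/-- a single element `g` acting on a nontrivial normal elementary abelian `p`-subgroup `W`, with
`g ^ (p - 1)` acting trivially, has an eigenvector in `W` -/
theorem exists_eigenvector_conj {G : Type*} [Group G] [Finite G] (p : ℕ) [hp : Fact p.Prime]
    (W : Subgroup G) [hWn : W.Normal] (hWne : W ≠ ⊥) (hWc : ∀ x ∈ W, ∀ y ∈ W, x * y = y * x)
    (hWp : ∀ x ∈ W, x ^ p = 1) (g : G) (hg : ∀ w ∈ W, g ^ (p - 1) * w = w * g ^ (p - 1)) :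
    ∃ μ : ℕ, ∃ w ∈ W, w ≠ 1 ∧ g * w * g⁻¹ = w ^ μ := by
  let inst : CommGroup W :=
    { (inferInstance : Group W) with
      mul_comm := fun x y => Subtype.ext (hWc x x.2 y y.2) }
  haveI : Nontrivial W := (Subgroup.nontrivial_iff_ne_bot W).mpr hWne
  let φ : W →* W := (MulAut.conjNormal g : W ≃* W).toMonoidHom
  have hφ : ∀ (n : ℕ) (x : W), ((φ^[n] x : W) : G) = g ^ n * x * (g ^ n)⁻¹ := by
    intro n
    induction n with
    | zero => intro x; simp
    | succ n ih =>
      intro x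
      rw [Function.iterate_succ_apply']
      have h1 : ((φ (φ^[n] x) : W) : G) = g * ((φ^[n] x : W) : G) * g⁻¹ := rfl
      rw [h1, ih, pow_succ']
      group
  obtain ⟨μ, x, hx, hfx⟩ := @exists_eigenvector_of_pow_eq_mul W inst _ _ p hp
    (fun x => Subtype.ext (hWp x x.2)) φ (by
      intro x
      apply Subtype.ext
      rw [hφ, hg x x.2]
      group)
  refine ⟨μ, x, x.2, fun h => hx (Subtype.ext h), ?_⟩
  have h1 : ((φ x : W) : G) = g * x * g⁻¹ := rfl
  rw [← h1, hfx]
  rfl

end Cfsg.Agent.Lib.Helper6.FixedOrd
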