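import Mathlib
import Cfsg.Agent.Lib.Helper6.FixedOrd4
import Cfsg.Agent.Lib.Helper6.FixedOrd5
import Cfsg.Agent.Lib.Lead.Nilpotent
import Cfsg.Agent.Lib.Lead.FrobNPC3
import Cfsg.Agent.Lib.Lead.HallTools
import Cfsg.Agent.Lib.Helper2.Supersolvable

set_option autoImplicit false
open Pointwise
open scoped commutatorElement

namespace Cfsg.Agent.Lib.Helper6.FixedOrd

section pa

variable {G : Type*} [Group G] [Finite G] {p : ℕ} [hp : Fact p.Prime]

/-- `G` acts on the normal `p`-subgroup `E` as a `p`-group extended by an abelian group of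
exponent dividing `p - 1` -/
def PA (p : ℕ) (E : Subgroup G) : Prop :=
  ∃ L : Subgroup G, L.Normal ∧ (∀ g h : G, ⁅g, h⁆ ∈ L) ∧ (∀ g : G, g ^ (p - 1) ∈ L) ∧
    ∀ b ∈ L, (orderOf b).Coprime p → b ∈ Subgroup.centralizer (E : Set G)

/-- common eigenvector: a nontrivial normal elementary abelian `p`-subgroup centralised by `L`
contains a normal subgroup of order `p` -/
theorem exists_normal_zpowers (L : Subgroup G) (hcomm : ∀ g h : G, ⁅g, h⁆ ∈ L)
    (hpow : ∀ g : G, g ^ (p - 1) ∈ L) :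
    ∀ (n : ℕ) (W : Subgroup G), W.Normal → W ≠ ⊥ → Nat.card W = n →
      (∀ x ∈ W, ∀ y ∈ W, x * y = y * x) → (∀ x ∈ W, x ^ p = 1) →
      (∀ l ∈ L, ∀ w ∈ W, l * w = w * l) →
      ∃ v ∈ W, v ≠ 1 ∧ (Subgroup.zpowers v).Normal := by
  intro n
  induction n using Nat.strong_induction_on with
  | _ n ih =>
  intro W hWn hWne hcard hWc hWp hLW
  by_cases hsc : ∀ g : G, ∃ μ : ℕ, ∀ w ∈ W, g * w * g⁻¹ = w ^ μ
  · obtain ⟨v, hv1⟩ := (Subgroup.ne_bot_iff_exists_ne_one).mp hWne
    refine ⟨v, v.2, fun h => hv1 (Subtype.ext h), ⟨?_⟩⟩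
    intro y hy g
    obtain ⟨μ, hμ⟩ := hsc g
    have hyW : y ∈ W := (Subgroup.zpowers_le.mpr v.2) hy
    rw [hμ y hyW]
    exact Subgroup.pow_mem _ hy μ
  · push Not at hsc
    obtain ⟨g, hg⟩ := hsc
    obtain ⟨μ, w₀, hw₀W, hw₀1, hw₀⟩ := exists_eigenvector_conj p W hWne hWc hWp g
      (fun w hw => hLW _ (hpow g) w hw)
    let W' : Subgroup G :=
      { carrier := {w | w ∈ W ∧ g * w * g⁻¹ = w ^ μ}
        one_mem' := ⟨one_mem _, by simp⟩
        mul_mem' := by
          rintro x y ⟨hx, hx'⟩ ⟨hy, hy'⟩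
          refine ⟨W.mul_mem hx hy, ?_⟩
          have hc : Commute x y := hWc x hx y hy
          rw [hc.mul_pow, ← hx', ← hy']
          group
        inv_mem' := by
          rintro x ⟨hx, hx'⟩
          refine ⟨W.inv_mem hx, ?_⟩
          rw [inv_pow, ← hx']
          group }
    have hW'W : W' ≤ W := fun w hw => hw.1
    have hW'n : W'.Normal := by
      constructor
      rintro w ⟨hw, hw'⟩ h
      refine ⟨hWn.conj_mem w hw h, ?_⟩
      have hc : ⁅g⁻¹, h⁻¹⁆ ∈ L := hcomm _ _
      have hcw := hLW _ hc w hw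
      have e1 : g * (h * w * h⁻¹) * g⁻¹ = h * (g * (⁅g⁻¹, h⁻¹⁆ * w) * ⁅g⁻¹, h⁻¹⁆⁻¹ * g⁻¹) * h⁻¹ := by
        rw [commutatorElement_def]; group
      rw [e1, hcw]
      have e2 : g * (w * ⁅g⁻¹, h⁻¹⁆) * ⁅g⁻¹, h⁻¹⁆⁻¹ * g⁻¹ = g * w * g⁻¹ := by group
      rw [e2, hw', conj_pow]
    have hW'ne : W' ≠ ⊥ := by
      intro h
      have : w₀ ∈ W' := ⟨hw₀W, hw₀⟩
      rw [h, Subgroup.mem_bot] at this
      exact hw₀1 this
    have hlt : W' < W := by
      refine lt_of_le_of_ne hW'W ?_
      intro heq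
      obtain ⟨w, hwW, hw⟩ := hg μ
      rw [← heq] at hwW
      exact hw hwW.2
    have hcardlt : Nat.card W' < n := hcard ▸ card_lt_of_lt hlt
    obtain ⟨v, hvW', hv1, hvn⟩ := ih _ hcardlt W' hW'n hW'ne rfl
      (fun x hx y hy => hWc x (hW'W hx) y (hW'W hy)) (fun x hx => hWp x (hW'W hx))
      (fun l hl w hw => hLW l hl w (hW'W hw))
    exact ⟨v, hW'W hvW', hv1, hvn⟩


/-- the fixed points of `L` on a nontrivial normal `p`-subgroup `E` are nontrivial when the
`p'`-elements of `L` centralise `E` -/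
theorem inf_centralizer_ne_bot (E : Subgroup G) [hEn : E.Normal] (hE : IsPGroup p E) (hne : E ≠ ⊥)
    (L : Subgroup G)
    (hL : ∀ b ∈ L, (orderOf b).Coprime p → b ∈ Subgroup.centralizer (E : Set G)) :
    E ⊓ Subgroup.centralizer (L : Set G) ≠ ⊥ := by
  obtain ⟨S'⟩ : Nonempty (Sylow p L) := inferInstance
  set S : Subgroup G := (S' : Subgroup L).map L.subtype with hS
  have hSL : S ≤ L := Subgroup.map_subtype_le _
  have hSp : IsPGroup p S := S'.isPGroup'.map _
  have hSidx : ¬ p ∣ S.relIndex L := by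
    have : S.subgroupOf L = (S' : Subgroup L) :=
      Subgroup.comap_map_eq_self_of_injective L.subtype_injective _
    unfold Subgroup.relIndex
    rw [this]
    exact S'.not_dvd_index
  set W : Subgroup G := E ⊔ S with hW
  have hWp : IsPGroup p W := IsPGroup.to_sup_of_normal_left hE hSp
  haveI : Group.IsNilpotent W := hWp.isNilpotent
  have hEW : E ≤ W := le_sup_left
  haveI : (E.subgroupOf W).Normal := hEn.subgroupOf W
  have hne' : E.subgroupOf W ≠ ⊥ := by
    intro h
    apply hne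
    rw [Subgroup.subgroupOf_eq_bot] at h
    exact (disjoint_self.mp (h.mono_right hEW))
  have h1 := Cfsg.Agent.Lib.Lead.inf_center_ne_bot (E.subgroupOf W) hne'
  obtain ⟨z, hz1⟩ := (Subgroup.ne_bot_iff_exists_ne_one).mp h1
  have hzE : ((z : W) : G) ∈ E := Subgroup.mem_subgroupOf.mp z.2.1
  have hzc : ∀ w ∈ W, w * ((z : W) : G) = ((z : W) : G) * w := by
    intro w hw
    have := Subgroup.mem_center_iff.mp z.2.2 ⟨w, hw⟩
    exact congrArg Subtype.val this
  have hLc : L ≤ Subgroup.centralizer ({((z : W) : G)} : Set G) := by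
    apply le_of_sylow_le_of_pprime_mem (p := p) L S _ hSidx
    · intro s hs
      rw [Subgroup.mem_centralizer_iff]
      intro y hy
      rw [Set.mem_singleton_iff] at hy
      rw [hy]
      exact (hzc s (Subgroup.mem_sup_right hs)).symm
    · intro g hg hcop
      rw [Subgroup.mem_centralizer_iff]
      intro y hy
      rw [Set.mem_singleton_iff] at hy
      rw [hy]
      exact Subgroup.mem_centralizer_iff.mp (hL g hg hcop) _ hzE
  intro hbot
  have hmem : ((z : W) : G) ∈ E ⊓ Subgroup.centralizer (L : Set G) := by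
    refine ⟨hzE, ?_⟩
    show ((z : W) : G) ∈ Subgroup.centralizer (L : Set G)
    rw [Subgroup.mem_centralizer_iff]
    intro l hl
    exact (Subgroup.mem_centralizer_iff.mp (hLc hl) _ rfl).symm
  rw [hbot, Subgroup.mem_bot] at hmem
  apply hz1
  apply Subtype.ext
  apply Subtype.ext
  exact hmem


/-- (1a) under `PA`, a nontrivial normal `p`-subgroup contains a normal subgroup of order `p` -/
theorem PA.exists_normal_card_prime {E : Subgroup G} (hPA : PA p E) [hEn : E.Normal]
    (hE : IsPGroup p E) (hne : E ≠ ⊥) :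
    ∃ N : Subgroup G, N ≤ E ∧ N.Normal ∧ Nat.card N = p := by
  obtain ⟨L, hLn, hcomm, hpow, hL⟩ := hPA
  haveI := hLn
  set E₁ : Subgroup G := E ⊓ Subgroup.centralizer (L : Set G) with hE₁
  have hE₁n : E₁.Normal := Subgroup.normal_inf_normal _ _
  have hE₁ne : E₁ ≠ ⊥ := inf_centralizer_ne_bot E hE hne L hL
  have hE₁p : IsPGroup p E₁ := hE.to_le inf_le_left
  let V : Subgroup G :=
    { carrier := {x | x ∈ E₁ ∧ (∀ y ∈ E₁, y * x = x * y) ∧ x ^ p = 1}
      one_mem' := ⟨one_mem _, by simp, by simp⟩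
      mul_mem' := by
        rintro x y ⟨hx, hxc, hxp⟩ ⟨hy, hyc, hyp⟩
        refine ⟨E₁.mul_mem hx hy, ?_, ?_⟩
        · intro z hz
          rw [← mul_assoc, hxc z hz, mul_assoc, hyc z hz, mul_assoc]
        · have hc : Commute x y := (hxc y hy).symm
          rw [hc.mul_pow, hxp, hyp, one_mul]
      inv_mem' := by
        rintro x ⟨hx, hxc, hxp⟩
        refine ⟨E₁.inv_mem hx, ?_, by rw [inv_pow, hxp, inv_one]⟩
        intro z hz
        have := hxc z hz
        calc z * x⁻¹ = x⁻¹ * (x * z) * x⁻¹ := by group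
          _ = x⁻¹ * (z * x) * x⁻¹ := by rw [this]
          _ = x⁻¹ * z := by group }
  have hVE₁ : V ≤ E₁ := fun x hx => hx.1
  have hVn : V.Normal := by
    constructor
    rintro x ⟨hx, hxc, hxp⟩ g
    refine ⟨hE₁n.conj_mem x hx g, ?_, by rw [conj_pow, hxp]; group⟩
    intro z hz
    have hz' : g⁻¹ * z * g ∈ E₁ := by
      have := hE₁n.conj_mem z hz g⁻¹
      simpa using this
    have := hxc _ hz'
    calc z * (g * x * g⁻¹) = g * ((g⁻¹ * z * g) * x) * g⁻¹ := by group
      _ = g * (x * (g⁻¹ * z * g)) * g⁻¹ := by rw [this]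
      _ = g * x * g⁻¹ * z := by group
  have hVne : V ≠ ⊥ := by
    haveI : Nontrivial E₁ := (Subgroup.nontrivial_iff_ne_bot E₁).mpr hE₁ne
    haveI : Nontrivial (Subgroup.center E₁) := hE₁p.center_nontrivial
    have hZp : IsPGroup p (Subgroup.center E₁) := hE₁p.to_subgroup _
    have hdvd : p ∣ Nat.card (Subgroup.center E₁) := by
      rcases hZp.card_eq_or_dvd with h | h
      · exact absurd h (Finite.one_lt_card_iff_nontrivial.mpr inferInstance).ne'
      · exact h
    obtain ⟨z, hz⟩ := exists_prime_orderOf_dvd_card' p hdvd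
    intro hbot
    have hmem : (((z : Subgroup.center E₁) : E₁) : G) ∈ V := by
      refine ⟨(z : E₁).2, ?_, ?_⟩
      · intro y hy
        have := Subgroup.mem_center_iff.mp z.2 ⟨y, hy⟩
        exact congrArg Subtype.val this
      · have h1 : z ^ p = 1 := by rw [← hz]; exact pow_orderOf_eq_one z
        have h2 := congrArg (fun t : Subgroup.center E₁ => ((t : E₁) : G)) h1
        simpa using h2
    rw [hbot, Subgroup.mem_bot] at hmem
    have hz1 : z = 1 := by
      apply Subtype.ext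
      apply Subtype.ext
      exact hmem
    rw [hz1, orderOf_one] at hz
    exact hp.out.one_lt.ne hz
  obtain ⟨v, hvV, hv1, hvn⟩ := exists_normal_zpowers (p := p) L hcomm hpow _ V hVn hVne rfl
    (fun x hx y hy => (hy.2.1 x hx.1)) (fun x hx => hx.2.2)
    (fun l hl w hw => by
      have := Subgroup.mem_centralizer_iff.mp (hVE₁ hw).2 l hl
      exact this)
  refine ⟨Subgroup.zpowers v, ?_, hvn, ?_⟩
  · rw [Subgroup.zpowers_le]
    exact (hVE₁ hvV).1
  · rw [Nat.card_zpowers]
    exact orderOf_eq_prime hvV.2.2 hv1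


/-- (1b) `PA` passes to quotients -/
theorem PA.map {E : Subgroup G} (hPA : PA p E) (N : Subgroup G) [N.Normal] :
    PA p (E.map (QuotientGroup.mk' N)) := by
  obtain ⟨L, hLn, hcomm, hpow, hL⟩ := hPA
  have hsurj : Function.Surjective (QuotientGroup.mk' N) := QuotientGroup.mk'_surjective N
  refine ⟨L.map (QuotientGroup.mk' N), hLn.map _ hsurj, ?_, ?_, ?_⟩
  · intro a b
    obtain ⟨g, rfl⟩ := hsurj a
    obtain ⟨h, rfl⟩ := hsurj b
    rw [← map_commutatorElement]
    exact Subgroup.mem_map_of_mem _ (hcomm g h)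
  · intro a
    obtain ⟨g, rfl⟩ := hsurj a
    rw [← map_pow]
    exact Subgroup.mem_map_of_mem _ (hpow g)
  · rintro _ ⟨l, hl, rfl⟩ hcop
    obtain ⟨u, v, huv, hu, hv, ⟨j, hj⟩, hvcop⟩ := Cfsg.Agent.Lib.Lead.exists_ppart_decomp' p l
    have hu1 : QuotientGroup.mk' N u = 1 := by
      have h1 : orderOf (QuotientGroup.mk' N u) ∣ p ^ j := by
        apply orderOf_dvd_of_pow_eq_one
        rw [← map_pow, hj, map_one]
      have h2 : orderOf (QuotientGroup.mk' N u) ∣ orderOf (QuotientGroup.mk' N l) := by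
        apply orderOf_dvd_of_mem_zpowers
        rw [← MonoidHom.map_zpowers]
        exact Subgroup.mem_map_of_mem _ hu
      have h3 : (orderOf (QuotientGroup.mk' N l)).Coprime (p ^ j) := Nat.Coprime.pow_right j hcop
      exact orderOf_eq_one_iff.mp (Nat.eq_one_of_dvd_coprimes h3 h2 h1)
    have hlv : QuotientGroup.mk' N l = QuotientGroup.mk' N v := by
      rw [huv, map_mul, hu1, one_mul]
    have hvL : v ∈ L := (Subgroup.zpowers_le.mpr hl) hv
    have hvc := hL v hvL hvcop
    rw [hlv, Subgroup.mem_centralizer_iff]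
    rintro _ ⟨y, hy, rfl⟩
    rw [← map_mul, ← map_mul, Subgroup.mem_centralizer_iff.mp hvc y hy]

end pa

universe u

/-- **Theorem 1**: under `PA`, a normal `p`-subgroup is reachable by a normal series with cyclic
steps -/
theorem ssReach_of_PA_aux (p : ℕ) [hp : Fact p.Prime] : ∀ (n : ℕ) (G : Type u) [Group G] [Finite G]
    (E : Subgroup G) [E.Normal], IsPGroup p E → PA p E → Nat.card E = n →
    Cfsg.Agent.Lib.Helper2.SSReach E := by
  intro n
  induction n using Nat.strong_induction_on with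
  | _ n ih =>
  intro G _ _ E hEn hE hPA hcard
  by_cases hne : E = ⊥
  · rw [hne]; exact Cfsg.Agent.Lib.Helper2.SSReach.bot
  · obtain ⟨N, hNE, hNn, hNcard⟩ := hPA.exists_normal_card_prime hE hne
    haveI := hNn
    have hsurj : Function.Surjective (QuotientGroup.mk' N) := QuotientGroup.mk'_surjective N
    haveI : (E.map (QuotientGroup.mk' N)).Normal := hEn.map _ hsurj
    have hcard' : Nat.card (E.map (QuotientGroup.mk' N)) < n := by
      have h1 := Cfsg.Agent.Lib.Lead.card_map_mul_card_inf_ker (QuotientGroup.mk' N) E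
      rw [QuotientGroup.ker_mk', inf_eq_right.mpr hNE, hNcard, hcard] at h1
      have h2 : 0 < Nat.card (E.map (QuotientGroup.mk' N)) := Nat.card_pos
      have := hp.out.two_le
      nlinarith
    have h1 := ih _ hcard' (G ⧸ N) (E.map (QuotientGroup.mk' N)) (hE.map _) (hPA.map N) rfl
    haveI : IsCyclic N := isCyclic_of_prime_card hNcard
    have hker : Cfsg.Agent.Lib.Helper2.SSReach (QuotientGroup.mk' N).ker := by
      rw [QuotientGroup.ker_mk']
      exact Cfsg.Agent.Lib.Helper2.ssReach_of_cyclic_normal N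
    have h2 := Cfsg.Agent.Lib.Helper2.SSReach.comap (QuotientGroup.mk' N) hsurj hker h1
    rwa [Subgroup.comap_map_eq, QuotientGroup.ker_mk', sup_eq_left.mpr hNE] at h2


end Cfsg.Agent.Lib.Helper6.FixedOrd
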