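import Mathlib
import Cfsg.Agent.Lib.Helper6.FixedOrd6
import Cfsg.Agent.Lib.Lead.CyclicP

set_option autoImplicit false
open Pointwise
open scoped commutatorElement

namespace Cfsg.Agent.Lib.Helper6.FixedOrd

section lsub

universe u

variable {G : Type u} [Group G] [Finite G] {p : ℕ} [hp : Fact p.Prime]

/-- the elements acting trivially on every `G`-normal section of order `p` of `E` -/
def Lsub (p : ℕ) (E : Subgroup G) : Subgroup G where
  carrier := {g | ∀ T K : Subgroup G, T.Normal → K.Normal → K ≤ T → T ≤ E → K.relIndex T = p →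
      ∀ x ∈ T, x⁻¹ * (g * x * g⁻¹) ∈ K}
  one_mem' := by
    intro T K _ _ _ _ _ x _
    simp
  mul_mem' := by
    intro a b ha hb T K hT hK hKT hTE hidx x hx
    have h1 := hb T K hT hK hKT hTE hidx x hx
    have h2 := ha T K hT hK hKT hTE hidx (b * x * b⁻¹) (hT.conj_mem x hx b)
    have e : x⁻¹ * (a * b * x * (a * b)⁻¹) =
        (x⁻¹ * (b * x * b⁻¹)) * ((b * x * b⁻¹)⁻¹ * (a * (b * x * b⁻¹) * a⁻¹)) := by group
    rw [e]
    exact K.mul_mem h1 h2
  inv_mem' := by
    intro a ha T K hT hK hKT hTE hidx x hx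
    have hx' : a⁻¹ * x * a⁻¹⁻¹ ∈ T := hT.conj_mem x hx a⁻¹
    have h1 := ha T K hT hK hKT hTE hidx _ hx'
    have e : x⁻¹ * (a⁻¹ * x * a⁻¹⁻¹) =
        ((a⁻¹ * x * a⁻¹⁻¹)⁻¹ * (a * (a⁻¹ * x * a⁻¹⁻¹) * a⁻¹))⁻¹ := by group
    rw [e]
    exact K.inv_mem h1

theorem mem_Lsub {E : Subgroup G} {g : G} : g ∈ Lsub p E ↔
    ∀ T K : Subgroup G, T.Normal → K.Normal → K ≤ T → T ≤ E → K.relIndex T = p →
      ∀ x ∈ T, x⁻¹ * (g * x * g⁻¹) ∈ K := Iff.rfl

theorem Lsub_normal (E : Subgroup G) : (Lsub p E).Normal := by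
  constructor
  intro a ha h
  rw [mem_Lsub] at ha ⊢
  intro T K hT hK hKT hTE hidx x hx
  have hx' : h⁻¹ * x * h ∈ T := by
    have := hT.conj_mem x hx h⁻¹
    simpa using this
  have h1 := ha T K hT hK hKT hTE hidx _ hx'
  have h2 := hK.conj_mem _ h1 h
  have e : h * ((h⁻¹ * x * h)⁻¹ * (a * (h⁻¹ * x * h) * a⁻¹)) * h⁻¹ =
      x⁻¹ * (h * a * h⁻¹ * x * (h * a * h⁻¹)⁻¹) := by group
  rwa [e] at h2

/-- the action on a normal section of order `p` factors through an abelian group of exponent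
`p - 1` -/
theorem section_action (T K : Subgroup G) [hT : T.Normal] [hK : K.Normal] (hKT : K ≤ T)
    (hidx : K.relIndex T = p) :
    ∃ (A : Type u) (_ : Group A) (ψ : G →* A), (∀ a b : A, a * b = b * a) ∧
      (∀ a : A, a ^ (p - 1) = 1) ∧
      ∀ g : G, ψ g = 1 → ∀ x ∈ T, x⁻¹ * (g * x * g⁻¹) ∈ K := by
  have hsurj : Function.Surjective (QuotientGroup.mk' K) := QuotientGroup.mk'_surjective K
  haveI hNn : (T.map (QuotientGroup.mk' K)).Normal := hT.map _ hsurj
  have hcard : Nat.card (T.map (QuotientGroup.mk' K)) = p := by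
    have h1 := Cfsg.Agent.Lib.Lead.card_map_mul_card_inf_ker (QuotientGroup.mk' K) T
    rw [QuotientGroup.ker_mk', inf_eq_right.mpr hKT] at h1
    have h2 : K.relIndex T * Nat.card K = Nat.card T := by
      have h3 := (K.subgroupOf T).card_mul_index
      have h4 : Nat.card (K.subgroupOf T) = Nat.card K :=
        Nat.card_congr (Subgroup.subgroupOfEquivOfLe hKT).toEquiv
      rw [h4, mul_comm] at h3
      exact h3
    rw [hidx, ← h1] at h2
    have h3 : 0 < Nat.card K := Nat.card_pos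
    exact (Nat.eq_of_mul_eq_mul_right h3 h2).symm
  haveI : IsCyclic (T.map (QuotientGroup.mk' K)) := isCyclic_of_prime_card hcard
  refine ⟨MulAut ↥(T.map (QuotientGroup.mk' K)), inferInstance,
    (MulAut.conjNormal (H := T.map (QuotientGroup.mk' K))).comp (QuotientGroup.mk' K), ?_, ?_, ?_⟩
  · intro a b
    apply (IsCyclic.mulAutMulEquiv (T.map (QuotientGroup.mk' K))).injective
    rw [map_mul, map_mul, mul_comm]
  · intro a
    have h1 : Nat.card (MulAut ↥(T.map (QuotientGroup.mk' K))) = p - 1 := by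
      rw [IsCyclic.card_mulAut, hcard, Nat.totient_prime hp.out]
    rw [← h1]
    exact pow_card_eq_one'
  · intro g hg x hx
    have h1 : MulAut.conjNormal (H := T.map (QuotientGroup.mk' K)) (QuotientGroup.mk' K g) = 1 := hg
    have hxm : QuotientGroup.mk' K x ∈ T.map (QuotientGroup.mk' K) := Subgroup.mem_map_of_mem _ hx
    have h2 := congrArg (fun e : MulAut ↥(T.map (QuotientGroup.mk' K)) =>
      ((e ⟨QuotientGroup.mk' K x, hxm⟩ : T.map (QuotientGroup.mk' K)) : G ⧸ K)) h1
    simp only [MulAut.conjNormal_apply, MulAut.one_apply] at h2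
    rw [← map_mul, ← map_inv, ← map_mul] at h2
    exact QuotientGroup.eq.mp h2.symm

theorem commutator_mem_Lsub (E : Subgroup G) (g h : G) : ⁅g, h⁆ ∈ Lsub p E := by
  rw [mem_Lsub]
  intro T K hT hK hKT _ hidx x hx
  haveI := hT
  haveI := hK
  obtain ⟨A, _, ψ, hc, _, hψ⟩ := section_action (p := p) T K hKT hidx
  apply hψ _ _ x hx
  rw [map_commutatorElement, commutatorElement_def, hc (ψ g) (ψ h)]
  group

theorem pow_mem_Lsub (E : Subgroup G) (g : G) : g ^ (p - 1) ∈ Lsub p E := by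
  rw [mem_Lsub]
  intro T K hT hK hKT _ hidx x hx
  haveI := hT
  haveI := hK
  obtain ⟨A, _, ψ, _, he, hψ⟩ := section_action (p := p) T K hKT hidx
  apply hψ _ _ x hx
  rw [map_pow, he]


/-- (G2) `p'`-elements of `Lsub` centralise the normal cyclic subgroups of `E` (`p` odd) -/
theorem centralizes_cyclic_of_mem_Lsub (hp2 : p ≠ 2) (E C : Subgroup G) (hCE : C ≤ E)
    (hEp : IsPGroup p E) [hCn : C.Normal] (hcyc : IsCyclic C) (b : G) (hb : b ∈ Lsub p E)
    (hcop : (orderOf b).Coprime p) : b ∈ Subgroup.centralizer (C : Set G) := by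
  have hCp : IsPGroup p C := hEp.to_le hCE
  have hcomm : ∀ x ∈ C, ∀ y ∈ C, x * y = y * x := by
    intro x hx y hy
    have := (IsCyclic.commutative (α := C)).is_comm.comm ⟨x, hx⟩ ⟨y, hy⟩
    exact congrArg Subtype.val this
  let C₁ : Subgroup G :=
    { carrier := {x | x ∈ C ∧ x ^ p = 1}
      one_mem' := ⟨one_mem _, one_pow _⟩
      mul_mem' := by
        rintro x y ⟨hx, hxp⟩ ⟨hy, hyp⟩
        refine ⟨C.mul_mem hx hy, ?_⟩
        have hc : Commute x y := hcomm x hx y hy
        rw [hc.mul_pow, hxp, hyp, one_mul]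
      inv_mem' := by
        rintro x ⟨hx, hxp⟩
        exact ⟨C.inv_mem hx, by rw [inv_pow, hxp, inv_one]⟩ }
  have hC₁C : C₁ ≤ C := fun x hx => hx.1
  have hC₁n : C₁.Normal := by
    constructor
    rintro x ⟨hx, hxp⟩ g
    exact ⟨hCn.conj_mem x hx g, by rw [conj_pow, hxp]; group⟩
  have hC₁le : Nat.card C₁ ≤ p := by
    have h1 := Cfsg.Agent.Lib.Lead.card_le_of_forall_pow_eq_one (C := C) (C₁.subgroupOf C) p
      hp.out.pos (by
        intro x hx
        apply Subtype.ext
        have := (Subgroup.mem_subgroupOf.mp hx).2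
        simpa using this)
    have h2 : Nat.card (C₁.subgroupOf C) = Nat.card C₁ :=
      Nat.card_congr (Subgroup.subgroupOfEquivOfLe hC₁C).toEquiv
    rwa [h2] at h1
  have h1 := Cfsg.Agent.Lib.Helper4.coprime_centralizes_of_omega_gen (p := p)
    (Subgroup.zpowers b) C (by rw [Nat.card_zpowers]; exact hcop) hCp
    (by
      rw [Subgroup.zpowers_le, Subgroup.normalizer_eq_top_iff.mpr hCn]
      exact Subgroup.mem_top b)
    (by
      intro x hx hxo a ha
      rcases hxo with hxp | ⟨h2, _⟩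
      swap
      · exact absurd h2 hp2
      by_cases hx1 : x = 1
      · rw [hx1, mul_one, one_mul]
      have hxC₁ : x ∈ C₁ := ⟨hx, hxp⟩
      have hcard : Nat.card C₁ = p := by
        have hd : Nat.card C₁ ∣ Nat.card C := Subgroup.card_dvd_of_le hC₁C
        obtain ⟨m, hm⟩ := IsPGroup.iff_card.mp hCp
        rw [hm] at hd
        obtain ⟨i, -, hi⟩ := (Nat.dvd_prime_pow hp.out).mp hd
        rcases Nat.eq_zero_or_pos i with h0 | h0
        · exfalso
          rw [h0, pow_zero] at hi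
          have hbot : C₁ = ⊥ := Subgroup.card_eq_one.mp hi
          rw [hbot, Subgroup.mem_bot] at hxC₁
          exact hx1 hxC₁
        · have h3 : p ≤ p ^ i := by
            calc p = p ^ 1 := (pow_one p).symm
              _ ≤ p ^ i := Nat.pow_le_pow_right hp.out.pos h0
          omega
      have haL : a ∈ Lsub p E := (Subgroup.zpowers_le.mpr hb) ha
      have h3 := haL C₁ ⊥ hC₁n Subgroup.normal_bot bot_le (hC₁C.trans hCE)
        (by rw [Subgroup.relIndex_bot_left, hcard]) x hxC₁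
      rw [Subgroup.mem_bot] at h3
      have e : a * x = x * (x⁻¹ * (a * x * a⁻¹)) * a := by group
      rw [e, h3, mul_one])
  exact h1 (Subgroup.mem_zpowers b)


/-- the hypothesis: all subgroups of `E` of the critical orders are normal in `G` -/
structure NHyp (p : ℕ) (E : Subgroup G) (k : ℕ) : Prop where
  isP : IsPGroup p E
  one_le : 1 ≤ k
  dvd : p ^ (k + 1) ∣ Nat.card E
  nor : ∀ F : Subgroup G, F ≤ E → (Nat.card F = p ^ k ∨ (p ^ k = 2 ∧ Nat.card F = 4)) → F.Normal

variable {E : Subgroup G} {k : ℕ}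

/-- (G3) a normal subgroup of order `p ^ (k + 1)` is centralised -/
theorem NHyp.centralizes_of_card (H : NHyp p E k) (F : Subgroup G) (hFE : F ≤ E)
    (hF : Nat.card F = p ^ (k + 1)) [hFn : F.Normal] (b : G) (hb : b ∈ Lsub p E)
    (hcop : (orderOf b).Coprime p) :
    Subgroup.zpowers b ≤ Subgroup.centralizer (F : Set G) := by
  have hFp : IsPGroup p F := H.isP.to_le hFE
  apply Cfsg.Agent.Lib.Lead.coprime_trivial_on_frattini_quotient (Subgroup.zpowers b) F
    (by
      rw [Subgroup.normalizer_eq_top_iff.mpr hFn]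
      exact le_top)
  · rw [Nat.card_zpowers]
    have hΦp : IsPGroup p (frattini F) := hFp.to_subgroup _
    obtain ⟨j, hj⟩ := IsPGroup.iff_card.mp hΦp
    rw [hj]
    exact Nat.Coprime.pow_right j hcop
  · intro a ha y hy
    have haL : a ∈ Lsub p E := (Subgroup.zpowers_le.mpr hb) ha
    have hmemF : a * y * a⁻¹ * y⁻¹ ∈ F := F.mul_mem (hFn.conj_mem y hy a) (F.inv_mem hy)
    apply mem_map_frattini F _ hmemF
    intro M hM
    obtain ⟨hc1, hc2⟩ := card_coatom_map F hFp M hM
    have hMcard : Nat.card (M.map F.subtype) = p ^ k := by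
      rw [hF, pow_succ] at hc1
      exact Nat.eq_of_mul_eq_mul_right hp.out.pos hc1
    have hMF : M.map F.subtype ≤ F := Subgroup.map_subtype_le M
    have hMn : (M.map F.subtype).Normal := H.nor _ (hMF.trans hFE) (Or.inl hMcard)
    have := haL F (M.map F.subtype) hFn hMn hMF hFE hc2 y⁻¹ (F.inv_mem hy)
    have h2 := Subgroup.inv_mem _ this
    have e : (y⁻¹⁻¹ * (a * y⁻¹ * a⁻¹))⁻¹ = a * y * a⁻¹ * y⁻¹ := by group
    rwa [e] at h2

/-- (G4) a non-cyclic subgroup of order `p ^ k` is centralised -/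
theorem NHyp.centralizes_noncyclic (H : NHyp p E k) (E₀ : Subgroup G) (hE₀E : E₀ ≤ E)
    (hE₀ : Nat.card E₀ = p ^ k) (hnc : ¬ IsCyclic E₀) (b : G) (hb : b ∈ Lsub p E)
    (hcop : (orderOf b).Coprime p) : b ∈ Subgroup.centralizer (E₀ : Set G) := by
  obtain ⟨F, hEF, hFE, hF⟩ := exists_between E E₀ hE₀E hE₀ H.dvd (Nat.le_succ k)
  have hFnc : ¬ IsCyclic F := by
    intro hc
    exact hnc (isCyclic_of_injective (Subgroup.inclusion hEF) (Subgroup.inclusion_injective hEF))
  have hne : E₀ ≠ F := by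
    intro h
    rw [h, hF] at hE₀
    have := Nat.pow_right_injective hp.out.two_le hE₀
    omega
  obtain ⟨y, hyF, hyE⟩ := SetLike.exists_of_lt (lt_of_le_of_ne hEF hne)
  have hzF : Subgroup.zpowers y ≤ F := Subgroup.zpowers_le.mpr hyF
  have hzd : Nat.card (Subgroup.zpowers y) ∣ p ^ (k + 1) := by
    rw [← hF]; exact Subgroup.card_dvd_of_le hzF
  obtain ⟨j, hj, hjc⟩ := (Nat.dvd_prime_pow hp.out).mp hzd
  have hjk : j ≤ k := by
    by_contra hcon
    have hj' : j = k + 1 := by omega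
    have : Subgroup.zpowers y = F := by
      apply Subgroup.eq_of_le_of_card_ge hzF
      rw [hjc, hj', hF]
    apply hFnc
    rw [← this]
    infer_instance
  obtain ⟨E₂, hzE₂, hE₂F, hE₂⟩ := exists_between F (Subgroup.zpowers y) hzF hjc
    (by rw [hF]; exact pow_dvd_pow p (Nat.le_succ k)) hjk
  have hsup : E₀ ⊔ E₂ = F := by
    apply Subgroup.eq_of_le_of_card_ge (sup_le hEF hE₂F)
    have hlt : E₀ < E₀ ⊔ E₂ := by
      refine lt_of_le_of_ne le_sup_left ?_
      intro h
      apply hyE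
      rw [h]
      exact Subgroup.mem_sup_right (hzE₂ (Subgroup.mem_zpowers y))
    have h1 := card_lt_of_lt hlt
    have h2 : Nat.card (E₀ ⊔ E₂ : Subgroup G) ∣ p ^ (k + 1) := by
      rw [← hF]; exact Subgroup.card_dvd_of_le (sup_le hEF hE₂F)
    obtain ⟨i, hi, hic⟩ := (Nat.dvd_prime_pow hp.out).mp h2
    rw [hE₀, hic] at h1
    have h3 : k < i := (Nat.pow_lt_pow_iff_right hp.out.one_lt).mp h1
    have h4 : i = k + 1 := by omega
    rw [hF, hic, h4]
  haveI hn1 : E₀.Normal := H.nor E₀ hE₀E (Or.inl hE₀)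
  haveI hn2 : E₂.Normal := H.nor E₂ (hE₂F.trans hFE) (Or.inl hE₂)
  haveI hFn : F.Normal := by
    rw [← hsup]; exact Subgroup.sup_normal E₀ E₂
  have h5 := H.centralizes_of_card F hFE hF b hb hcop
  exact Subgroup.centralizer_le hEF (h5 (Subgroup.mem_zpowers b))

/-- (G6) for odd `p`, the `p'`-elements of `Lsub` centralise `E` -/
theorem NHyp.centralizes (H : NHyp p E k) [hEn : E.Normal] (hp2 : p ≠ 2) (b : G)
    (hb : b ∈ Lsub p E) (hcop : (orderOf b).Coprime p) :
    b ∈ Subgroup.centralizer (E : Set G) := by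
  have hEk : p ^ k ∣ Nat.card E := (pow_dvd_pow p (Nat.le_succ k)).trans H.dvd
  have h1 := Cfsg.Agent.Lib.Helper4.coprime_centralizes_of_omega_gen (p := p)
    (Subgroup.zpowers b) E (by rw [Nat.card_zpowers]; exact hcop) H.isP
    (by
      rw [Subgroup.normalizer_eq_top_iff.mpr hEn]
      exact le_top)
    (by
      intro x hx hxo a ha
      rcases hxo with hxp | ⟨h2, _⟩
      swap
      · exact absurd h2 hp2
      have haL : a ∈ Lsub p E := (Subgroup.zpowers_le.mpr hb) ha
      have hacop : (orderOf a).Coprime p :=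
        hcop.coprime_dvd_left (orderOf_dvd_of_mem_zpowers ha)
      have hzE : Subgroup.zpowers x ≤ E := Subgroup.zpowers_le.mpr hx
      have hd : orderOf x ∣ p ^ 1 := by rw [pow_one]; exact orderOf_dvd_of_pow_eq_one hxp
      obtain ⟨j, hj1, hjo⟩ := (Nat.dvd_prime_pow hp.out).mp hd
      have hcard : Nat.card (Subgroup.zpowers x) = p ^ j := by rw [Nat.card_zpowers, hjo]
      obtain ⟨E₀, hzE₀, hE₀E, hE₀⟩ := exists_between E (Subgroup.zpowers x) hzE hcard hEk
        (hj1.trans H.one_le)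
      have hxE₀ : x ∈ E₀ := hzE₀ (Subgroup.mem_zpowers x)
      haveI hE₀n : E₀.Normal := H.nor E₀ hE₀E (Or.inl hE₀)
      have hcen : a ∈ Subgroup.centralizer (E₀ : Set G) := by
        by_cases hc : IsCyclic E₀
        · exact centralizes_cyclic_of_mem_Lsub hp2 E E₀ hE₀E H.isP hc a haL hacop
        · exact H.centralizes_noncyclic E₀ hE₀E hE₀ hc a haL hacop
      exact (Subgroup.mem_centralizer_iff.mp hcen x hxE₀).symm)
  exact h1 (Subgroup.mem_zpowers b)

/-- **Theorem 2**: a normal `p`-subgroup all of whose subgroups of a fixed intermediate order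
are normal in `G` satisfies `PA` -/
theorem NHyp.pa (H : NHyp p E k) [hEn : E.Normal] : PA p E := by
  by_cases hp2 : p = 2
  · refine ⟨⊤, inferInstance, fun _ _ => Subgroup.mem_top _, fun _ => Subgroup.mem_top _, ?_⟩
    intro b _ hcop
    have HH : Hyp p E k := by
      refine ⟨H.isP, H.one_le, H.dvd, ?_⟩
      intro F hFE hF g
      have hFn := H.nor F hFE hF
      rintro x ⟨⟨y, hy, rfl⟩, -⟩
      exact hFn.conj_mem y hy g
    have hbig : BigPrimes p (orderOf b) := by
      intro q hq hqd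
      have h1 : q ≠ p := by
        rintro rfl
        exact hq.one_lt.ne' (Nat.Coprime.eq_one_of_dvd hcop.symm hqd)
      have := hq.two_le
      omega
    exact HH.centralizes_large E le_rfl H.dvd b (by
      rw [Subgroup.normalizer_eq_top_iff.mpr hEn]; exact Subgroup.mem_top b) hbig
  · exact ⟨Lsub p E, Lsub_normal E, commutator_mem_Lsub E, pow_mem_Lsub E,
      fun b hb hcop => H.centralizes hp2 b hb hcop⟩

end lsub

end Cfsg.Agent.Lib.Helper6.FixedOrd
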