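import Mathlib
import Cfsg.Agent.Lib.Helper6.FixedOrd7
import Cfsg.Agent.S3031
import Cfsg.Agent.Lib.Lead.FrobNPC5
import Cfsg.Agent.Lib.Helper6.SylowIdx

set_option autoImplicit false
open Pointwise
open scoped commutatorElement

namespace Cfsg.Agent.Lib.Helper6.FixedOrd

section parts

universe u

variable {G : Type u} [Group G] [Finite G]

/-- the hypothesis of the supersolvability theorem on the normal subgroup `E` -/
def HypS (E : Subgroup G) : Prop :=
  ∀ (p : ℕ), p.Prime → ∀ P : Subgroup G, P ≤ E → IsPGroup p P → ¬ p ∣ P.relIndex E → ¬ IsCyclic ↥P →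
    ∃ D : Subgroup G, D ≤ P ∧ 1 < Nat.card D ∧ Nat.card D < Nat.card P ∧
      ∀ F : Subgroup G, F ≤ P → (Nat.card F = Nat.card D ∨ (Nat.card D = 2 ∧ Nat.card F = 4)) →
        ∀ g : G, F.map (MulAut.conj g).toMonoidHom ⊓ Subgroup.normalizer (F : Set G) ≤ F

theorem card_map_subtype' (E : Subgroup G) (F : Subgroup E) :
    Nat.card (F.map E.subtype) = Nat.card F :=
  (Nat.card_congr (F.equivMapOfInjective E.subtype E.subtype_injective).toEquiv).symm

theorem relIndex_map_subtype (E : Subgroup G) (F : Subgroup E) :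
    (F.map E.subtype).relIndex E = F.index := by
  have : (F.map E.subtype).subgroupOf E = F :=
    Subgroup.comap_map_eq_self_of_injective E.subtype_injective _
  unfold Subgroup.relIndex
  rw [this]

/-- (A) a nontrivial normal subgroup satisfying `HypS` has a normal `p`-complement, normal in `G`,
for its smallest prime divisor `p` -/
theorem HypS.exists_complement {E : Subgroup G} [hEn : E.Normal] (h : HypS E) (hne : E ≠ ⊥) :
    ∃ p : ℕ, p.Prime ∧ ∃ K : Subgroup G, K.Normal ∧ K ≤ E ∧ Nat.card K < Nat.card E ∧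
      (Nat.card K).Coprime p ∧ ∃ m : ℕ, K.relIndex E = p ^ m := by
  have hcard1 : Nat.card E ≠ 1 := fun h1 => hne (Subgroup.card_eq_one.mp h1)
  set p := (Nat.card E).minFac with hpdef
  have hpp : p.Prime := Nat.minFac_prime hcard1
  haveI : Fact p.Prime := ⟨hpp⟩
  have hdiv : p ∣ Nat.card E := Nat.minFac_dvd _
  have hmin : ∀ q : ℕ, q.Prime → q ∣ Nat.card E → p ≤ q := fun q hq hqd =>
    Nat.minFac_le_of_dvd hq.two_le hqd
  obtain ⟨PE⟩ : Nonempty (Sylow p E) := inferInstance
  set P : Subgroup G := (PE : Subgroup E).map E.subtype with hP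
  have hPE : P ≤ E := Subgroup.map_subtype_le _
  have hPp : IsPGroup p P := PE.isPGroup'.map _
  have hPidx : ¬ p ∣ P.relIndex E := by
    rw [hP, relIndex_map_subtype]; exact PE.not_dvd_index
  have hmem : ∀ x : E, (x : G) ∈ P ↔ x ∈ (PE : Subgroup E) := by
    intro x
    constructor
    · rintro ⟨y, hy, hyx⟩
      have : y = x := Subtype.ext hyx
      rwa [← this]
    · intro hx; exact ⟨x, hx, rfl⟩
  have hres : Cfsg.HasNormalPComplement p E := by
    apply Cfsg.Agent.S3031.result hdiv hmin PE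
    by_cases hc : IsCyclic ↥P
    · left
      exact isCyclic_of_surjective _
        (((PE : Subgroup E).equivMapOfInjective E.subtype E.subtype_injective).symm.surjective)
    · right
      obtain ⟨D, hDP, hD1, hDlt, hsc⟩ := h p hpp P hPE hPp hPidx hc
      have hDE : D ≤ E := hDP.trans hPE
      have hcD : Nat.card (D.subgroupOf E) = Nat.card D :=
        Nat.card_congr (Subgroup.subgroupOfEquivOfLe hDE).toEquiv
      have hcP : Nat.card (PE : Subgroup E) = Nat.card P := (card_map_subtype' E _).symm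
      refine ⟨D.subgroupOf E, ?_, by rw [hcD]; exact hD1, by rw [hcD, hcP]; exact hDlt, ?_⟩
      · intro x hx
        exact (hmem x).mp (hDP (Subgroup.mem_subgroupOf.mp hx))
      · intro F' hF'P hF' g' x' hx'
        have hFP : F'.map E.subtype ≤ P := Subgroup.map_mono hF'P
        have hcF : Nat.card (F'.map E.subtype) = Nat.card F' := card_map_subtype' E F'
        have hsc' := hsc (F'.map E.subtype) hFP (by rw [hcF, ← hcD]; exact hF') (g' : G)
        have hx1 : (x' : G) ∈ (F'.map E.subtype).map (MulAut.conj (g' : G)).toMonoidHom := by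
          obtain ⟨y', hy', hyx⟩ := hx'.1
          refine ⟨(y' : G), ⟨y', hy', rfl⟩, ?_⟩
          rw [← hyx]
          simp [MulAut.conj_apply]
        have hx2 : (x' : G) ∈ Subgroup.normalizer ((F'.map E.subtype : Subgroup G) : Set G) := by
          apply Cfsg.Agent.Lib.Lead.mem_normalizer_of_conj_mem
          rintro _ ⟨z', hz', rfl⟩
          have := (Subgroup.mem_normalizer_iff.mp hx'.2 z').mp hz'
          exact ⟨_, this, by simp⟩
        obtain ⟨w', hw', hwx⟩ := hsc' ⟨hx1, hx2⟩
        have : w' = x' := Subtype.ext hwx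
        rwa [← this]
  obtain ⟨P₁, N, hNn, hc⟩ := hres
  haveI := hNn
  have hidx := Cfsg.Agent.Lib.Lead.index_eq_pow_of_isComplement' P₁ N hc
  have hcop := Cfsg.Agent.Lib.Lead.card_coprime_of_isComplement' P₁ N hc
  obtain ⟨m, hm⟩ := hidx
  have hcardK : Nat.card (N.map E.subtype) = Nat.card N := card_map_subtype' E N
  refine ⟨p, hpp, N.map E.subtype, ?_, Subgroup.map_subtype_le _, ?_, by rw [hcardK]; exact hcop,
    m, by rw [relIndex_map_subtype, hm]⟩
  · constructor
    rintro _ ⟨n, hn, rfl⟩ g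
    have hgE : g * (n : G) * g⁻¹ ∈ E := hEn.conj_mem _ n.2 g
    refine ⟨⟨g * (n : G) * g⁻¹, hgE⟩, ?_, rfl⟩
    apply Cfsg.Agent.Lib.Lead.mem_of_coprime_orderOf N ⟨m, hm⟩
    have h1 : orderOf (⟨g * (n : G) * g⁻¹, hgE⟩ : E) = orderOf n := by
      rw [← Subgroup.orderOf_coe, ← Subgroup.orderOf_coe]
      exact Cfsg.Agent.Lib.Lead.orderOf_conj' g (n : G)
    rw [h1]
    exact hcop.coprime_dvd_left (orderOf_dvd_natCard (⟨n, hn⟩ : N) |> fun h => by
      rwa [Subgroup.orderOf_mk] at h)
  · rw [hcardK]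
    have h1 := N.card_mul_index
    rw [hm] at h1
    have hm0 : m ≠ 0 := by
      intro h0
      rw [h0, pow_zero, mul_one] at h1
      have h2 : p ∣ Nat.card N := h1 ▸ hdiv
      have := Nat.Coprime.eq_one_of_dvd hcop.symm h2
      exact hpp.one_lt.ne' this
    have h2 : 1 < p ^ m := Nat.one_lt_pow hm0 hpp.one_lt
    have h3 : 0 < Nat.card N := Nat.card_pos
    nlinarith


/-- (B) the hypothesis passes to the normal `p`-complement -/
theorem HypS.of_complement {E K : Subgroup G} (h : HypS E) (hKE : K ≤ E) {p : ℕ} (hp : p.Prime)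
    (hcop : (Nat.card K).Coprime p) {m : ℕ} (hidx : K.relIndex E = p ^ m) : HypS K := by
  intro r hr R hRK hRr hRidx hRnc
  by_cases hrp : r = p
  · exfalso
    apply hRnc
    haveI : Fact r.Prime := ⟨hr⟩
    obtain ⟨j, hj⟩ := IsPGroup.iff_card.mp hRr
    have hd : Nat.card R ∣ Nat.card K := Subgroup.card_dvd_of_le hRK
    have h1 : Nat.card R = 1 := by
      apply Nat.Coprime.eq_one_of_dvd _ hd
      rw [hj, hrp]
      exact Nat.Coprime.pow_left j hcop.symm
    have hbot : R = ⊥ := Subgroup.card_eq_one.mp h1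
    rw [hbot]
    infer_instance
  · apply h r hr R (hRK.trans hKE) hRr _ hRnc
    intro hd
    rw [← Subgroup.relIndex_mul_relIndex R K E hRK hKE, hidx] at hd
    rcases (Nat.Prime.dvd_mul hr).mp hd with h1 | h1
    · exact hRidx h1
    · exact hrp ((Nat.prime_dvd_prime_iff_eq hr hp).mp (hr.dvd_of_dvd_pow h1))


/-- (C) in the quotient by the normal `p`-complement `K`, the image of `E` is reachable -/
theorem HypS.ssReach_quotient {E K : Subgroup G} [hEn : E.Normal] [hKn : K.Normal] (h : HypS E)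
    (hKE : K ≤ E) {p : ℕ} [hp : Fact p.Prime] (hcop : (Nat.card K).Coprime p) {m : ℕ}
    (hidx : K.relIndex E = p ^ m) :
    Cfsg.Agent.Lib.Helper2.SSReach (E.map (QuotientGroup.mk' K)) := by
  have hsurj : Function.Surjective (QuotientGroup.mk' K) := QuotientGroup.mk'_surjective K
  haveI hĒn : (E.map (QuotientGroup.mk' K)).Normal := hEn.map _ hsurj
  have hcardE : p ^ m * Nat.card K = Nat.card E := by
    have h3 := (K.subgroupOf E).card_mul_index
    have h4 : Nat.card (K.subgroupOf E) = Nat.card K :=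
      Nat.card_congr (Subgroup.subgroupOfEquivOfLe hKE).toEquiv
    rw [h4, mul_comm] at h3
    rw [← hidx]
    exact h3
  have hcardĒ : Nat.card (E.map (QuotientGroup.mk' K)) = p ^ m := by
    have h1 := Cfsg.Agent.Lib.Lead.card_map_mul_card_inf_ker (QuotientGroup.mk' K) E
    rw [QuotientGroup.ker_mk', inf_eq_right.mpr hKE, ← hcardE] at h1
    exact Nat.eq_of_mul_eq_mul_right Nat.card_pos h1
  have hĒp : IsPGroup p (E.map (QuotientGroup.mk' K)) := IsPGroup.of_card hcardĒ
  obtain ⟨PE⟩ : Nonempty (Sylow p E) := inferInstance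
  set P : Subgroup G := (PE : Subgroup E).map E.subtype with hP
  have hPE : P ≤ E := Subgroup.map_subtype_le _
  have hPp : IsPGroup p P := PE.isPGroup'.map _
  have hPidx : ¬ p ∣ P.relIndex E := by
    rw [hP, relIndex_map_subtype]; exact PE.not_dvd_index
  have hcardP : Nat.card P = p ^ m := by
    obtain ⟨a, ha⟩ := IsPGroup.iff_card.mp hPp
    have h1 : P.relIndex E * Nat.card P = Nat.card E := by
      have h3 := (P.subgroupOf E).card_mul_index
      have h4 : Nat.card (P.subgroupOf E) = Nat.card P :=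
        Nat.card_congr (Subgroup.subgroupOfEquivOfLe hPE).toEquiv
      rw [h4, mul_comm] at h3
      exact h3
    rw [ha]
    have hcopr : (P.relIndex E).Coprime p :=
      ((Nat.Prime.coprime_iff_not_dvd hp.out).mpr hPidx).symm
    have hd1 : p ^ a ∣ p ^ m := by
      have : p ^ a ∣ p ^ m * Nat.card K := by
        rw [hcardE, ← h1, ha]; exact dvd_mul_left _ _
      exact (Nat.Coprime.pow_left a hcop.symm).dvd_of_dvd_mul_right this
    have hd2 : p ^ m ∣ p ^ a := by
      have : p ^ m ∣ P.relIndex E * p ^ a := by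
        rw [← ha, h1, ← hcardE]; exact dvd_mul_right _ _
      exact (Nat.Coprime.pow_left m hcopr.symm).dvd_of_dvd_mul_left this
    exact Nat.dvd_antisymm hd1 hd2
  have hPK : P ⊓ K = ⊥ := by
    apply (Subgroup.disjoint_of_coprime_natCard _).eq_bot
    rw [hcardP]
    exact Nat.Coprime.pow_left m hcop.symm
  have hcard_map : ∀ F : Subgroup G, F ≤ P →
      Nat.card (F.map (QuotientGroup.mk' K)) = Nat.card F := by
    intro F hF
    have h1 := Cfsg.Agent.Lib.Lead.card_map_mul_card_inf_ker (QuotientGroup.mk' K) F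
    have h2 : F ⊓ K = ⊥ := le_bot_iff.mp (hPK ▸ inf_le_inf_right K hF)
    rw [QuotientGroup.ker_mk', h2, Subgroup.card_bot, mul_one] at h1
    exact h1
  have hmapP : P.map (QuotientGroup.mk' K) = E.map (QuotientGroup.mk' K) := by
    apply Subgroup.eq_of_le_of_card_ge (Subgroup.map_mono hPE)
    rw [hcard_map P le_rfl, hcardP, hcardĒ]
  by_cases hc : IsCyclic ↥P
  · haveI : IsCyclic ↥(E.map (QuotientGroup.mk' K)) := by
      rw [← hmapP]
      exact isCyclic_of_surjective _ ((QuotientGroup.mk' K).subgroupMap_surjective P)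
    exact Cfsg.Agent.Lib.Helper2.ssReach_of_cyclic_normal _
  · obtain ⟨D, hDP, hD1, hDlt, hsc⟩ := h p hp.out P hPE hPp hPidx hc
    obtain ⟨k, hk⟩ := IsPGroup.iff_card.mp (hPp.to_le hDP)
    have hk1 : 1 ≤ k := by
      rcases Nat.eq_zero_or_pos k with h0 | h0
      · rw [hk, h0, pow_zero] at hD1; omega
      · exact h0
    have hkm : k < m := by
      rw [hk, hcardP] at hDlt
      exact (Nat.pow_lt_pow_iff_right hp.out.one_lt).mp hDlt
    have HN : NHyp p (E.map (QuotientGroup.mk' K)) k := by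
      refine ⟨hĒp, hk1, by rw [hcardĒ]; exact pow_dvd_pow p hkm, ?_⟩
      intro Fb hFbE hcFb
      set F : Subgroup G := Fb.comap (QuotientGroup.mk' K) ⊓ P with hF
      have hFP : F ≤ P := inf_le_right
      have hFmap : F.map (QuotientGroup.mk' K) = Fb := by
        apply le_antisymm
        · rintro _ ⟨y, hy, rfl⟩
          exact hy.1
        · intro yb hyb
          have h1 : yb ∈ P.map (QuotientGroup.mk' K) := by rw [hmapP]; exact hFbE hyb
          obtain ⟨y, hyP, rfl⟩ := h1
          exact ⟨y, ⟨hyb, hyP⟩, rfl⟩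
      have hcF : Nat.card F = Nat.card Fb := by rw [← hcard_map F hFP, hFmap]
      have hSC : SC F := hsc F hFP (by rw [hcF, hk]; exact hcFb)
      have hPN : P ≤ Subgroup.normalizer (F : Set G) := hSC.le_normalizer P hPp hFP
      constructor
      intro yb hyb gb
      obtain ⟨g, rfl⟩ := hsurj gb
      rw [← hFmap] at hyb ⊢
      obtain ⟨y, hy, rfl⟩ := hyb
      have hFgE : F.map (MulAut.conj g).toMonoidHom ≤ E := by
        rintro _ ⟨f, hf, rfl⟩
        exact hEn.conj_mem f (hPE (hFP hf)) g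
      obtain ⟨c, hcE, R, hRE, hRp, hPR, hle⟩ := Cfsg.Agent.Lib.Helper6.exists_common_pGroup E P
        (F.map (MulAut.conj g).toMonoidHom) hPE hFgE hPp ((hPp.to_le hFP).map _)
      have hRP : R = P := Cfsg.Agent.Lib.Helper6.eq_of_not_dvd_relIndex hPR hRE hRp hPidx
      have hFcg : ∀ f ∈ F, (c * g) * f * (c * g)⁻¹ ∈ F := by
        intro f hf
        have h1 : c * (g * f * g⁻¹) * c⁻¹ ∈ R := hle (mem_map_conj (mem_map_conj hf))
        rw [hRP] at h1
        have e : c * (g * f * g⁻¹) * c⁻¹ = (c * g) * f * (c * g)⁻¹ := by group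
        rw [e] at h1
        exact hSC (c * g) ⟨mem_map_conj hf, hPN h1⟩
      have hcinv : QuotientGroup.mk' K c⁻¹ ∈ P.map (QuotientGroup.mk' K) := by
        rw [hmapP]
        exact Subgroup.mem_map_of_mem _ (E.inv_mem hcE)
      obtain ⟨u, hu, hπu⟩ := hcinv
      have hy' := hFcg y hy
      have huy : u * ((c * g) * y * (c * g)⁻¹) * u⁻¹ ∈ F :=
        (Subgroup.mem_normalizer_iff.mp (hPN hu) _).mp hy'
      refine ⟨_, huy, ?_⟩
      have key : ∀ a b z : G, QuotientGroup.mk' K a = QuotientGroup.mk' K b →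
          QuotientGroup.mk' K (a * z * a⁻¹) = QuotientGroup.mk' K (b * z * b⁻¹) := by
        intro a b z hab
        simp only [map_mul, map_inv, hab]
      rw [key u c⁻¹ _ hπu]
      have e : c⁻¹ * ((c * g) * y * (c * g)⁻¹) * c⁻¹⁻¹ = g * y * g⁻¹ := by group
      rw [e]
      simp only [map_mul, map_inv]
    exact ssReach_of_PA_aux p _ (G ⧸ K) (E.map (QuotientGroup.mk' K)) hĒp HN.pa rfl


end parts

universe u

/-- **Theorem S**: a normal subgroup satisfying `HypS` is reachable by a normal series of `G` with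
cyclic steps -/
theorem HypS.ssReach_aux : ∀ (n : ℕ) (G : Type u) [Group G] [Finite G] (E : Subgroup G) [E.Normal],
    HypS E → Nat.card E = n → Cfsg.Agent.Lib.Helper2.SSReach E := by
  intro n
  induction n using Nat.strong_induction_on with
  | _ n ih =>
  intro G _ _ E hEn h hcard
  by_cases hne : E = ⊥
  · rw [hne]; exact Cfsg.Agent.Lib.Helper2.SSReach.bot
  · obtain ⟨p, hpp, K, hKn, hKE, hKlt, hcop, m, hidx⟩ := h.exists_complement hne
    haveI : Fact p.Prime := ⟨hpp⟩
    haveI := hKn
    have h1 : Cfsg.Agent.Lib.Helper2.SSReach K :=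
      ih (Nat.card K) (hcard ▸ hKlt) G K (h.of_complement hKE hpp hcop hidx) rfl
    have h2 := h.ssReach_quotient hKE hcop hidx
    have hsurj : Function.Surjective (QuotientGroup.mk' K) := QuotientGroup.mk'_surjective K
    have hker : Cfsg.Agent.Lib.Helper2.SSReach (QuotientGroup.mk' K).ker := by
      rw [QuotientGroup.ker_mk']; exact h1
    have h3 := Cfsg.Agent.Lib.Helper2.SSReach.comap (QuotientGroup.mk' K) hsurj hker h2
    rwa [Subgroup.comap_map_eq, QuotientGroup.ker_mk', sup_eq_left.mpr hKE] at h3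

end Cfsg.Agent.Lib.Helper6.FixedOrd
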