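import Mathlib
import Cfsg.Agent.Lib.Helper6.ThompsonRepl

set_option autoImplicit false

namespace Cfsg.Agent.Lib.Helper6

/-- a finite group acting freely on a finite set: the order of the group divides the size of the set -/
theorem card_dvd_of_free {Z F : Type*} [Group Z] [MulAction Z F] [Finite Z] [Finite F]
    (hfree : ∀ (z : Z) (f : F), z • f = f → z = 1) : Nat.card Z ∣ Nat.card F := by
  classical
  haveI : Fintype (MulAction.orbitRel.Quotient Z F) := Fintype.ofFinite _
  have hcard : ∀ ω : MulAction.orbitRel.Quotient Z F,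
      Nat.card (MulAction.orbit Z (Quotient.out ω)) = Nat.card Z := by
    intro ω
    have h1 := MulAction.index_stabilizer Z (Quotient.out ω)
    have h2 : MulAction.stabilizer Z (Quotient.out ω) = ⊥ := by
      rw [eq_bot_iff]
      intro z hz
      rw [Subgroup.mem_bot]
      exact hfree z _ (MulAction.mem_stabilizer_iff.mp hz)
    rw [h2, Subgroup.index_bot] at h1
    rw [Nat.card_coe_set_eq, ← h1]
  rw [Nat.card_congr (MulAction.selfEquivSigmaOrbits Z F), Nat.card_sigma]
  simp only [hcard]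
  rw [Finset.sum_const, smul_eq_mul]
  exact Dvd.intro_left _ rfl

section L

variable {G : Type*} [Group G] [Finite G] {Ω : Type*} [Finite Ω] [MulAction G Ω]

/-- a `p`-subgroup centralizing `g` fixes every fixed point of `g`, when `g` has fewer than `p`
fixed points -/
theorem smul_eq_of_pgroup_commute {p : ℕ} [Fact p.Prime] {g : G} {T : Subgroup G} (hT : IsPGroup p T)
    (hcomm : ∀ t ∈ T, t * g = g * t) (hlt : Nat.card (MulAction.fixedBy Ω g) < p)
    {ω : Ω} (hω : g • ω = ω) {t : G} (ht : t ∈ T) : t • ω = ω := by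
  have hsub : MulAction.orbit T ω ⊆ MulAction.fixedBy Ω g := by
    rintro _ ⟨s, rfl⟩
    rw [MulAction.mem_fixedBy]
    show g • ((s : G) • ω) = (s : G) • ω
    rw [← mul_smul, ← hcomm s s.2, mul_smul, hω]
  have h1 : (MulAction.orbit T ω).ncard ≤ Nat.card (MulAction.fixedBy Ω g) := by
    rw [Nat.card_coe_set_eq]
    exact Set.ncard_le_ncard hsub (Set.toFinite _)
  have h2 : (MulAction.orbit T ω).ncard ∣ Nat.card T := by
    rw [← MulAction.index_stabilizer]
    exact Subgroup.index_dvd_card _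
  obtain ⟨n, hn⟩ := hT.exists_card_eq
  rw [hn] at h2
  obtain ⟨i, -, hi⟩ := (Nat.dvd_prime_pow (Fact.out : p.Prime)).mp h2
  have hi0 : i = 0 := by
    by_contra h0
    have : p ≤ p ^ i := Nat.le_self_pow h0 p
    omega
  rw [hi0, pow_zero, Set.ncard_eq_one] at hi
  obtain ⟨a, ha⟩ := hi
  have h3 : ω ∈ MulAction.orbit T ω := MulAction.mem_orbit_self ω
  have h4 : (⟨t, ht⟩ : T) • ω ∈ MulAction.orbit T ω := MulAction.mem_orbit ω _
  rw [ha] at h3 h4
  have h3' : ω = a := h3
  have h4' : (⟨t, ht⟩ : T) • ω = a := h4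
  rw [h3'] at h4' ⊢
  exact h4'

end L

section Two

variable {G : Type*} [Group G] [Finite G] {Ω : Type*} [Finite Ω] [MulAction G Ω]

theorem card_fixedBy_conj (x d : G) :
    Nat.card (MulAction.fixedBy Ω (x * d * x⁻¹)) = Nat.card (MulAction.fixedBy Ω d) := by
  symm
  apply Nat.card_congr
  apply Equiv.subtypeEquiv (MulAction.toPerm x)
  intro ω
  rw [MulAction.mem_fixedBy, MulAction.mem_fixedBy]
  show d • ω = ω ↔ (x * d * x⁻¹) • (x • ω) = x • ω
  rw [← mul_smul, inv_mul_cancel_right, mul_smul]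
  constructor
  · intro h; rw [h]
  · intro h; exact smul_left_cancel x h

/-- a transitive group in which nonidentity elements fix at most two points and some element fixes
exactly two has even order -/
theorem two_dvd_card_of_fixity_two (htr : MulAction.IsPretransitive G Ω)
    (hfix : ∀ g : G, g ≠ 1 → Nat.card (MulAction.fixedBy Ω g) ≤ 2)
    (hex : ∃ g : G, g ≠ 1 ∧ Nat.card (MulAction.fixedBy Ω g) = 2) : 2 ∣ Nat.card G := by
  classical
  by_contra hodd
  obtain ⟨g₀, hg₀1, hg₀⟩ := hex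
  rw [Nat.card_coe_set_eq, Set.ncard_eq_two] at hg₀
  obtain ⟨α, β, hαβ, hFix₀⟩ := hg₀
  have hg₀α : g₀ • α = α := by
    have : α ∈ MulAction.fixedBy Ω g₀ := by rw [hFix₀]; simp
    exact this
  have hg₀β : g₀ • β = β := by
    have : β ∈ MulAction.fixedBy Ω g₀ := by rw [hFix₀]; simp
    exact this
  set D : Subgroup G := MulAction.stabilizer G α ⊓ MulAction.stabilizer G β with hD
  have hDmem : ∀ x : G, x ∈ D ↔ x • α = α ∧ x • β = β := by
    intro x
    rw [hD, Subgroup.mem_inf, MulAction.mem_stabilizer_iff, MulAction.mem_stabilizer_iff]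
  have hg₀D : g₀ ∈ D := (hDmem g₀).mpr ⟨hg₀α, hg₀β⟩
  have hpair : ({α, β} : Set Ω).ncard = 2 := Set.ncard_pair hαβ
  have hFixD : ∀ d ∈ D, d ≠ 1 → MulAction.fixedBy Ω d = {α, β} := by
    intro d hd hd1
    obtain ⟨h1, h2⟩ := (hDmem d).mp hd
    symm
    apply Set.eq_of_subset_of_ncard_le _ _ (Set.toFinite _)
    · intro ω hω
      rcases hω with rfl | hω
      · exact h1
      · have : ω = β := hω
        rw [this]; exact h2
    · rw [hpair, ← Nat.card_coe_set_eq]
      exact hfix d hd1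
  have hoddord : ∀ x : G, ¬ 2 ∣ orderOf x := fun x h => hodd (h.trans (orderOf_dvd_natCard x))
  have hswap : ∀ x : G, x • α = β → x • β = α → False := by
    intro x h1 h2
    have hx2 : (x ^ 2) • α = α := by rw [pow_two, mul_smul, h1, h2]
    have hx2j : ∀ j : ℕ, ((x ^ 2) ^ j) • α = α := by
      intro j
      induction j with
      | zero => simp
      | succ j ih => rw [pow_succ, mul_smul, hx2, ih]
    rcases Nat.even_or_odd' (orderOf x) with ⟨j, hj | hj⟩
    · exact hoddord x ⟨j, hj⟩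
    · have h3 : x ^ orderOf x = 1 := pow_orderOf_eq_one x
      have h4 : (x ^ orderOf x) • α = β := by
        rw [hj, pow_succ', pow_mul, mul_smul, hx2j, h1]
      rw [h3, one_smul] at h4
      exact hαβ h4
  have hmal : ∀ x d : G, d ∈ D → d ≠ 1 → x * d * x⁻¹ ∈ D → x ∈ D := by
    intro x d hd hd1 hxd
    have hne : x * d * x⁻¹ ≠ 1 := by
      intro h
      apply hd1
      have : d = x⁻¹ * (x * d * x⁻¹) * x := by group
      rw [this, h]; group
    have hF := hFixD _ hxd hne
    obtain ⟨h1, h2⟩ := (hDmem d).mp hd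
    have hxα : x • α ∈ MulAction.fixedBy Ω (x * d * x⁻¹) := by
      rw [MulAction.mem_fixedBy, ← mul_smul, inv_mul_cancel_right, mul_smul, h1]
    have hxβ : x • β ∈ MulAction.fixedBy Ω (x * d * x⁻¹) := by
      rw [MulAction.mem_fixedBy, ← mul_smul, inv_mul_cancel_right, mul_smul, h2]
    rw [hF] at hxα hxβ
    have hne' : x • α ≠ x • β := fun h => hαβ (smul_left_cancel x h)
    rw [hDmem]
    rcases hxα with ha | ha <;> rcases hxβ with hb | hb
    · exact absurd (ha.trans hb.symm) hne'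
    · exact ⟨ha, hb⟩
    · exact (hswap x ha hb).elim
    · exact absurd (ha.trans hb.symm) hne'
  -- counting
  haveI : Fintype G := Fintype.ofFinite G
  haveI : Fintype Ω := Fintype.ofFinite Ω
  set Efin : Finset G := Finset.univ.filter (fun g => g ≠ 1 ∧ Nat.card (MulAction.fixedBy Ω g) = 2)
    with hE
  let ψ : G × {d : D // d ≠ 1} → {g : G // g ∈ Efin} := fun a =>
    ⟨a.1 * (a.2.1 : G) * a.1⁻¹, by
      rw [hE, Finset.mem_filter]
      refine ⟨Finset.mem_univ _, ?_, ?_⟩
      · intro h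
        apply a.2.2
        apply Subtype.ext
        have : (a.2.1 : G) = a.1⁻¹ * (a.1 * (a.2.1 : G) * a.1⁻¹) * a.1 := by group
        rw [this, h]; simp
      · rw [card_fixedBy_conj, hFixD _ a.2.1.2 (fun h => a.2.2 (Subtype.ext h)), Nat.card_coe_set_eq,
          hpair]⟩
  have hψ : ∀ a, ((ψ a : {g : G // g ∈ Efin}) : G) = a.1 * (a.2.1 : G) * a.1⁻¹ := fun a => rfl
  have hfib : ∀ a₀ : G × {d : D // d ≠ 1}, Nat.card {a // ψ a = ψ a₀} ≤ Nat.card D := by
    intro a₀
    have hkey : ∀ a : {a // ψ a = ψ a₀}, a₀.1⁻¹ * a.1.1 ∈ D := by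
      intro a
      have h1 : a.1.1 * (a.1.2.1 : G) * a.1.1⁻¹ = a₀.1 * (a₀.2.1 : G) * a₀.1⁻¹ := by
        have := congrArg Subtype.val a.2
        rwa [hψ, hψ] at this
      apply hmal _ (a.1.2.1 : G) a.1.2.1.2 (fun h => a.1.2.2 (Subtype.ext h))
      have : a₀.1⁻¹ * a.1.1 * (a.1.2.1 : G) * (a₀.1⁻¹ * a.1.1)⁻¹ =
          a₀.1⁻¹ * (a.1.1 * (a.1.2.1 : G) * a.1.1⁻¹) * a₀.1 := by group
      rw [this, h1]
      have : a₀.1⁻¹ * (a₀.1 * (a₀.2.1 : G) * a₀.1⁻¹) * a₀.1 = (a₀.2.1 : G) := by group
      rw [this]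
      exact a₀.2.1.2
    apply Nat.card_le_card_of_injective (fun a => (⟨a₀.1⁻¹ * a.1.1, hkey a⟩ : D))
    intro a b hab
    have h1 : a₀.1⁻¹ * a.1.1 = a₀.1⁻¹ * b.1.1 := congrArg Subtype.val hab
    have h2 : a.1.1 = b.1.1 := mul_left_cancel h1
    have h3 : a.1.1 * (a.1.2.1 : G) * a.1.1⁻¹ = b.1.1 * (b.1.2.1 : G) * b.1.1⁻¹ := by
      have ha := congrArg Subtype.val a.2
      have hb := congrArg Subtype.val b.2
      rw [hψ, hψ] at ha hb
      rw [ha, hb]
    rw [h2] at h3
    have h4 : (a.1.2.1 : G) = (b.1.2.1 : G) := by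
      have := mul_right_cancel h3
      exact mul_left_cancel this
    apply Subtype.ext
    apply Prod.ext h2
    apply Subtype.ext
    apply Subtype.ext
    exact h4
  have hcount := card_le_of_fibers ψ (Nat.card D) hfib
  rw [Nat.card_prod] at hcount
  have hDsharp : Nat.card {d : D // d ≠ 1} + 1 = Nat.card D := by
    haveI : Fintype D := Fintype.ofFinite D
    rw [Nat.card_eq_fintype_card, Nat.card_eq_fintype_card,
      Fintype.card_subtype_compl (fun d : D => d = 1), Fintype.card_subtype_eq]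
    have : 0 < Fintype.card D := Fintype.card_pos
    omega
  have hDsharp_pos : 0 < Nat.card {d : D // d ≠ 1} := by
    haveI : Nonempty {d : D // d ≠ 1} := ⟨⟨⟨g₀, hg₀D⟩, fun h => hg₀1 (congrArg Subtype.val h)⟩⟩
    exact Nat.card_pos
  have hEcard : Nat.card {g : G // g ∈ Efin} = Efin.card := by
    rw [Nat.card_eq_fintype_card, Fintype.card_coe]
  -- Burnside
  haveI : ∀ g : G, Fintype (MulAction.fixedBy Ω g) := fun g => Fintype.ofFinite _
  haveI : Fintype (Quotient (MulAction.orbitRel G Ω)) := Fintype.ofFinite _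
  have hburn := MulAction.sum_card_fixedBy_eq_card_orbits_mul_card_group G Ω
  have horb : Fintype.card (Quotient (MulAction.orbitRel G Ω)) = 1 := by
    rw [Fintype.card_eq_one_iff]
    refine ⟨Quotient.mk'' α, ?_⟩
    intro q
    induction q using Quotient.inductionOn' with | _ ω => ?_
    apply Quotient.sound'
    rw [MulAction.orbitRel_apply]
    obtain ⟨g, hg⟩ := MulAction.exists_smul_eq G α ω
    exact ⟨g, hg⟩
  rw [horb, one_mul] at hburn
  have h1E : (1 : G) ∉ Efin := by
    rw [hE, Finset.mem_filter]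
    intro h
    exact h.2.1 rfl
  have hsum : Fintype.card (MulAction.fixedBy Ω (1 : G)) + 2 * Efin.card ≤ Fintype.card G := by
    rw [← hburn]
    calc Fintype.card (MulAction.fixedBy Ω (1 : G)) + 2 * Efin.card
        = ∑ g ∈ insert 1 Efin, Fintype.card (MulAction.fixedBy Ω g) := by
          rw [Finset.sum_insert h1E]
          congr 1
          rw [mul_comm, ← smul_eq_mul, ← Finset.sum_const]
          apply Finset.sum_congr rfl
          intro g hg
          rw [hE, Finset.mem_filter] at hg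
          rw [← Nat.card_eq_fintype_card]
          exact hg.2.2.symm
      _ ≤ ∑ g, Fintype.card (MulAction.fixedBy Ω g) :=
          Finset.sum_le_sum_of_subset (Finset.subset_univ _)
  have hm1 : 0 < Fintype.card (MulAction.fixedBy Ω (1 : G)) := by
    apply Fintype.card_pos_iff.mpr
    exact ⟨⟨α, by simp⟩⟩
  rw [hEcard] at hcount
  have hGc : Fintype.card G = Nat.card G := (Nat.card_eq_fintype_card).symm
  rw [hGc] at hsum
  set c := Nat.card {d : D // d ≠ 1} with hc
  set e := Efin.card with he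
  set n := Nat.card G with hn
  rw [← hDsharp] at hcount
  -- n * c ≤ (c + 1) * e, m1 + 2 e ≤ n
  have h5 : 2 * e + 1 ≤ n := by omega
  have h6 : 2 * (n * c) ≤ (c + 1) * (2 * e) := by nlinarith
  have h7 : (c + 1) * (2 * e) + (c + 1) ≤ (c + 1) * n := by nlinarith
  nlinarith

end Two

end Cfsg.Agent.Lib.Helper6
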