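import Mathlib
import Cfsg.Prelude.Def_CaseTheorems
import Cfsg.Agent.Lib.Lead.CoprimeFrattini
import Cfsg.Agent.Lib.Lead.Frattini
import Cfsg.Agent.Lib.Lead.Core
import Cfsg.Agent.Lib.Helper6.PCore
import Cfsg.Agent.Lib.Helper9.ElemAbAut1

set_option autoImplicit false

/-!
# The action of a group on the Frattini quotient of a normal `2`-subgroup

`X / O_2(X)` acts faithfully on `O_2(X) / Φ(O_2(X))` when `C_X(O_2(X)) ≤ O_2(X)`; if the Frattini
quotient has order at most `16`, this embeds `X / O_2(X)` into `GL_4(2)`.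
-/

namespace Cfsg.Agent.Lib.Helper6.FrattAct

open Cfsg

/-- automorphisms of `Q` act on `Q ⧸ N` for a characteristic subgroup `N` -/
noncomputable def autQuot {Q : Type*} [Group Q] (N : Subgroup Q) [hN : N.Characteristic] :
    MulAut Q →* MulAut (Q ⧸ N) where
  toFun φ := QuotientGroup.congr N N φ (Subgroup.characteristic_iff_map_eq.mp hN φ)
  map_one' := by
    ext q
    induction q using QuotientGroup.induction_on with
    | H q => rfl
  map_mul' φ ψ := by
    ext q
    induction q using QuotientGroup.induction_on with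
    | H q => rfl

theorem autQuot_mk {Q : Type*} [Group Q] (N : Subgroup Q) [hN : N.Characteristic] (φ : MulAut Q)
    (q : Q) : autQuot N φ (QuotientGroup.mk q) = QuotientGroup.mk (φ q) := rfl

variable {X : Type*} [Group X]

/-- the action of `X` on the Frattini quotient of a normal subgroup -/
noncomputable def frAct (Q : Subgroup X) [Q.Normal] : X →* MulAut (↥Q ⧸ frattini ↥Q) :=
  (autQuot (frattini ↥Q)).comp MulAut.conjNormal

theorem frAct_mk (Q : Subgroup X) [Q.Normal] (x : X) (q : ↥Q) :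
    frAct Q x (QuotientGroup.mk q) = QuotientGroup.mk (MulAut.conjNormal x q) := rfl

theorem frAct_eq_one_iff (Q : Subgroup X) [Q.Normal] (x : X) :
    frAct Q x = 1 ↔ ∀ q : ↥Q, MulAut.conjNormal x q * q⁻¹ ∈ frattini ↥Q := by
  constructor
  · intro h q
    have h1 := congrArg (fun f : MulAut (↥Q ⧸ frattini ↥Q) => f (QuotientGroup.mk q)) h
    simp only [MulAut.one_apply] at h1
    rw [frAct_mk] at h1
    rw [← QuotientGroup.eq_one_iff, QuotientGroup.mk_mul, h1, QuotientGroup.mk_inv,
      mul_inv_cancel]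
  · intro h
    ext v
    induction v using QuotientGroup.induction_on with
    | H q =>
      rw [frAct_mk, MulAut.one_apply]
      have := h q
      rw [← QuotientGroup.eq_one_iff, QuotientGroup.mk_mul, QuotientGroup.mk_inv,
        mul_inv_eq_one] at this
      exact this

/-- elements acting trivially on the Frattini quotient of `O_2(X)` lie in `O_2(X)` when
`C_X(O_2(X)) ≤ O_2(X)` (proof as in `Helper4.TIFamily5`) -/
theorem mem_pCore_of_trivial_on_frattini_quotient [Finite X]
    (hcent : Subgroup.centralizer ((pCore 2 X : Subgroup X) : Set X) ≤ pCore 2 X) (b : X)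
    (hb : ∀ q ∈ pCore 2 X, b * q * b⁻¹ * q⁻¹ ∈ (frattini ↥(pCore 2 X)).map (pCore 2 X).subtype) :
    b ∈ pCore 2 X := by
  classical
  set Q := pCore 2 X with hQ
  have hQn : Q.Normal := Cfsg.Agent.Lib.Lead.pCore_normal 2
  have hQ2 : IsPGroup 2 ↥Q := Cfsg.Agent.Lib.Helper6.pCore_isPGroup 2
  set Φ : Subgroup X := (frattini ↥Q).map Q.subtype with hΦ
  have hΦn : Φ.Normal := by
    rw [← Subgroup.normalizer_eq_top_iff, eq_top_iff]
    refine le_trans ?_ (Cfsg.Agent.Lib.Lead.le_normalizer_map_characteristic Q (frattini ↥Q))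
    rw [Subgroup.normalizer_eq_top_iff.mpr hQn]
  -- the subgroup of elements acting trivially on `Q/Φ`
  let C : Subgroup X :=
    { carrier := {x | ∀ q ∈ Q, x * q * x⁻¹ * q⁻¹ ∈ Φ}
      one_mem' := by
        intro q _
        simp only [one_mul, inv_one, mul_one, mul_inv_cancel]
        exact Φ.one_mem
      mul_mem' := by
        intro x y hx hy q hq
        have h1 : x * (y * q * y⁻¹ * q⁻¹) * x⁻¹ ∈ Φ := hΦn.conj_mem _ (hy q hq) x
        have h2 := hx q hq
        have e : x * y * q * (x * y)⁻¹ * q⁻¹ =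
            (x * (y * q * y⁻¹ * q⁻¹) * x⁻¹) * (x * q * x⁻¹ * q⁻¹) := by group
        rw [e]; exact Φ.mul_mem h1 h2
      inv_mem' := by
        intro x hx q hq
        have hq' : x⁻¹ * q * x ∈ Q := by
          have := hQn.conj_mem q hq x⁻¹
          rwa [inv_inv] at this
        have h1 := hx _ hq'
        have e : x⁻¹ * q * x⁻¹⁻¹ * q⁻¹ = (x * (x⁻¹ * q * x) * x⁻¹ * (x⁻¹ * q * x)⁻¹)⁻¹ := by group
        rw [e]; exact Φ.inv_mem h1 }
  have hCmem : ∀ x, x ∈ C ↔ ∀ q ∈ Q, x * q * x⁻¹ * q⁻¹ ∈ Φ := fun _ => Iff.rfl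
  have hCn : C.Normal := by
    refine ⟨?_⟩
    intro x hx g
    rw [hCmem] at hx ⊢
    intro q hq
    have hq' : g⁻¹ * q * g ∈ Q := by
      have := hQn.conj_mem q hq g⁻¹
      rwa [inv_inv] at this
    have h1 := hΦn.conj_mem _ (hx _ hq') g
    have e : g * x * g⁻¹ * q * (g * x * g⁻¹)⁻¹ * q⁻¹ =
        g * (x * (g⁻¹ * q * g) * x⁻¹ * (g⁻¹ * q * g)⁻¹) * g⁻¹ := by group
    rw [e]; exact h1
  have hC2 : IsPGroup 2 ↥C := by
    have hcard : Nat.card ↥C = 2 ^ (Nat.card ↥C).primeFactorsList.length := by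
      apply Nat.eq_prime_pow_of_unique_prime_dvd Nat.card_pos.ne'
      intro r hr hrd
      by_contra hr2
      haveI : Fact r.Prime := ⟨hr⟩
      obtain ⟨y, hy⟩ := exists_prime_orderOf_dvd_card' r hrd
      set Y : Subgroup X := Subgroup.zpowers (y : X) with hY
      have hYcard : Nat.card ↥Y = r := by
        rw [hY, Nat.card_zpowers, Subgroup.orderOf_coe, hy]
      have hYN : Y ≤ Subgroup.normalizer (Q : Set X) := by
        rw [Subgroup.normalizer_eq_top_iff.mpr hQn]; exact le_top
      have hcop : (Nat.card ↥Y).Coprime (Nat.card ↥(frattini ↥Q)) := by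
        rw [hYcard]
        obtain ⟨k, hk⟩ := IsPGroup.iff_card.mp (hQ2.to_subgroup (frattini ↥Q))
        rw [hk]
        apply Nat.Coprime.pow_right
        exact (Nat.coprime_primes hr Nat.prime_two).mpr hr2
      have hYC : Y ≤ C := by
        rw [hY, Subgroup.zpowers_le]
        exact y.2
      have htriv : ∀ a ∈ Y, ∀ k ∈ Q, a * k * a⁻¹ * k⁻¹ ∈ (frattini ↥Q).map Q.subtype :=
        fun a ha k hk => (hCmem a).mp (hYC ha) k hk
      have h1 := Cfsg.Agent.Lib.Lead.coprime_trivial_on_frattini_quotient Y Q hYN hcop htriv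
      have h2 : (y : X) ∈ Q := hcent (h1 (Subgroup.mem_zpowers _))
      obtain ⟨k, hk⟩ := IsPGroup.iff_orderOf.mp hQ2 ⟨(y : X), h2⟩
      rw [Subgroup.orderOf_mk, Subgroup.orderOf_coe, hy] at hk
      have h3 : r ∣ 2 ^ k := by rw [← hk]
      have h4 := (Nat.prime_dvd_prime_iff_eq hr Nat.prime_two).mp (hr.dvd_of_dvd_pow h3)
      exact hr2 h4
    exact IsPGroup.of_card hcard
  have hCQ : C ≤ Q := Cfsg.Agent.Lib.Helper6.le_pCore hCn hC2
  exact hCQ ((hCmem b).mpr hb)

/-- the kernel of the action on the Frattini quotient of `O_2(X)` is `O_2(X)` -/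
theorem frAct_ker [Finite X]
    (hcent : Subgroup.centralizer ((pCore 2 X : Subgroup X) : Set X) ≤ pCore 2 X) :
    (frAct (pCore 2 X)).ker = pCore 2 X := by
  have hQ2 : IsPGroup 2 ↥(pCore 2 X) := Cfsg.Agent.Lib.Helper6.pCore_isPGroup 2
  apply le_antisymm
  · intro b hb
    rw [MonoidHom.mem_ker, frAct_eq_one_iff] at hb
    apply mem_pCore_of_trivial_on_frattini_quotient hcent
    intro q hq
    refine ⟨_, hb ⟨q, hq⟩, ?_⟩
    simp [MulAut.conjNormal_apply]
  · intro b hb
    rw [MonoidHom.mem_ker, frAct_eq_one_iff]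
    intro q
    have h1 : (⟨b, hb⟩ : ↥(pCore 2 X)) * q * (⟨b, hb⟩ : ↥(pCore 2 X))⁻¹ * q⁻¹ ∈
        commutator ↥(pCore 2 X) := by
      rw [commutator_def]
      exact Subgroup.commutator_mem_commutator (Subgroup.mem_top _) (Subgroup.mem_top _)
    have h2 := Cfsg.Agent.Lib.Lead.commutator_le_frattini_of_isPGroup hQ2 h1
    have e : MulAut.conjNormal b q * q⁻¹ =
        (⟨b, hb⟩ : ↥(pCore 2 X)) * q * (⟨b, hb⟩ : ↥(pCore 2 X))⁻¹ * q⁻¹ := by
      apply Subtype.ext
      simp [MulAut.conjNormal_apply]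
    rw [e]
    exact h2

/-- the Frattini quotient of a `p`-group is commutative -/
theorem frattini_quot_comm {P : Type*} [Group P] [Finite P] {p : ℕ} [Fact p.Prime]
    (hP : IsPGroup p P) (a b : P ⧸ frattini P) : a * b = b * a := by
  induction a using QuotientGroup.induction_on with
  | H a =>
    induction b using QuotientGroup.induction_on with
    | H b =>
      rw [← QuotientGroup.mk_mul, ← QuotientGroup.mk_mul, QuotientGroup.eq]
      have h1 : a⁻¹ * b * a⁻¹⁻¹ * b⁻¹ ∈ commutator P := by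
        rw [commutator_def]
        exact Subgroup.commutator_mem_commutator (Subgroup.mem_top _) (Subgroup.mem_top _)
      have h2 := Cfsg.Agent.Lib.Lead.commutator_le_frattini_of_isPGroup hP h1
      have e : (a * b)⁻¹ * (b * a) = b⁻¹ * (a⁻¹ * b * a⁻¹⁻¹ * b⁻¹) * b⁻¹⁻¹ := by group
      rw [e]
      have hn : (frattini P).Normal := inferInstance
      exact hn.conj_mem _ h2 b⁻¹

/-- the Frattini quotient of a `p`-group has exponent `p` -/
theorem frattini_quot_pow {P : Type*} [Group P] [Finite P] {p : ℕ} [Fact p.Prime]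
    (hP : IsPGroup p P) (a : P ⧸ frattini P) : a ^ p = 1 := by
  induction a using QuotientGroup.induction_on with
  | H a =>
    rw [← QuotientGroup.mk_pow, QuotientGroup.eq_one_iff]
    exact Cfsg.Agent.Lib.Lead.pow_mem_frattini_of_isPGroup hP a

/-- automorphisms of `V` act on `V × C` -/
def autProdLeft (V C : Type*) [Group V] [Group C] : MulAut V →* MulAut (V × C) where
  toFun φ := MulEquiv.prodCongr φ (MulEquiv.refl C)
  map_one' := by
    ext ⟨v, c⟩ <;> rfl
  map_mul' φ ψ := by
    ext ⟨v, c⟩ <;> rfl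

theorem autProdLeft_injective (V C : Type*) [Group V] [Group C] :
    Function.Injective (autProdLeft V C) := by
  intro φ ψ h
  ext v
  have := congrArg (fun f : MulAut (V × C) => (f (v, 1)).1) h
  exact this

theorem two_nsmul_zmod_two : ∀ z : ZMod 2, (2 : ℕ) • z = 0 := by decide

/-- the automorphism group of an elementary abelian `2`-group of order at most `16` embeds in
`GL_4(2)` -/
theorem exists_mulAut_embedding_GL4 {V : Type*} [Group V] [Finite V]
    (hc : ∀ a b : V, a * b = b * a) (h2 : ∀ a : V, a ^ 2 = 1) (hcard : Nat.card V ≤ 16) :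
    ∃ f : MulAut V →* GL (Fin 4) (ZMod 2), Function.Injective f := by
  haveI : Fact (Nat.Prime 2) := ⟨Nat.prime_two⟩
  have hV2 : IsPGroup 2 V := by
    intro a
    exact ⟨1, by rw [pow_one]; exact h2 a⟩
  obtain ⟨r, hr⟩ := IsPGroup.iff_card.mp hV2
  have hr4 : r ≤ 4 := by
    by_contra hlt
    rw [not_le] at hlt
    have : 2 ^ 5 ≤ 2 ^ r := Nat.pow_le_pow_right (by norm_num) hlt
    rw [← hr] at this
    omega
  let C := Multiplicative (Fin (4 - r) → ZMod 2)
  have hCcard : Nat.card C = 2 ^ (4 - r) := by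
    show Nat.card (Multiplicative (Fin (4 - r) → ZMod 2)) = 2 ^ (4 - r)
    rw [Nat.card_eq_fintype_card]
    simp [Fintype.card_multiplicative, ZMod.card]
  have hWcard : Nat.card (V × C) = 2 ^ 4 := by
    rw [Nat.card_prod, hr, hCcard, ← pow_add]
    congr 1
    omega
  have hWc : ∀ a b : V × C, a * b = b * a := by
    rintro ⟨a1, a2⟩ ⟨b1, b2⟩
    rw [Prod.mk_mul_mk, Prod.mk_mul_mk, hc a1 b1, mul_comm a2 b2]
  have hW2 : ∀ a : V × C, a ^ 2 = 1 := by
    rintro ⟨a1, a2⟩
    rw [Prod.pow_mk, h2 a1]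
    refine Prod.ext rfl ?_
    show a2 ^ 2 = 1
    apply Multiplicative.toAdd.injective
    funext i
    show (2 : ℕ) • (Multiplicative.toAdd a2) i = 0
    exact two_nsmul_zmod_two _
  obtain ⟨e⟩ := Cfsg.Agent.H9EA.nonempty_mulAut_equiv_GL (H := V × C) 2 4 hWc hW2 hWcard
  refine ⟨e.toMonoidHom.comp (autProdLeft V C), ?_⟩
  intro a b hab
  exact autProdLeft_injective V C (e.injective hab)

end Cfsg.Agent.Lib.Helper6.FrattAct
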