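import Mathlib
import Cfsg.Prelude.Def_Characters
import Cfsg.Agent.Lib.Helper4.Characters
import Cfsg.Agent.Lib.Helper4.CharBound
import Cfsg.Agent.Lib.Helper1.CharFound3
import Cfsg.Agent.Lib.Helper1.CharFound5
import Cfsg.Agent.Lib.Helper1.CharFound6
import Cfsg.Agent.Lib.Helper1.LinearChar
import Cfsg.Agent.S0139

set_option autoImplicit false

/-!
# S4427, package (M): the main assembly of Brauer's argument

Given the output of the "projective cover" lemma (L) (natural numbers `m ξ` bounded by the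
multiplicities of `ξ` in `1_Q^G`, `1_R^G` and by the degree, with `m 1 = 1` and `∑ m ξ ξ`
vanishing on `p`-singular elements), a group of order `p^a n` with exactly `n` `p`-regular
elements, `n = |Q||R|` with `|Q|`, `|R|` coprime, has a normal subgroup of order `n`.
-/

namespace Cfsg.Agent.Lib.Helper6.FrobM

open scoped ComplexConjugate
open Cfsg Cfsg.Agent.Lib.Helper4 Cfsg.Agent.Lib.Helper1

/-- the purely numerical core of steps (5), (6). -/
theorem frobM_core {ι : Type*} [Fintype ι] (P : ℝ) (a d : ι → ℝ) (m u v : ι → ℕ)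
    (h1 : ∑ i, a i ^ 2 = P) (h2 : ∑ i, a i * d i = P) (h3 : ∑ i, a i * (m i : ℝ) = P)
    (h4 : ∑ i, (u i : ℝ) * (v i : ℝ) = P)
    (hmu : ∀ i, m i ≤ u i) (hmv : ∀ i, m i ≤ v i) (hmd : ∀ i, (m i : ℝ) ≤ d i) :
    (∀ i, a i = m i) ∧ ∀ i, a i = 0 ∨ a i = d i := by
  have hm2 : ∑ i, (m i : ℝ) ^ 2 ≤ P := by
    rw [← h4]
    apply Finset.sum_le_sum
    intro i _
    have h5 : (m i : ℝ) ≤ u i := by exact_mod_cast hmu i
    have h6 : (m i : ℝ) ≤ v i := by exact_mod_cast hmv i
    have h7 : (0 : ℝ) ≤ m i := Nat.cast_nonneg _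
    rw [sq]
    exact mul_le_mul h5 h6 h7 (h7.trans h5)
  have hsq : ∑ i, (a i - m i) ^ 2 ≤ 0 := by
    have : ∑ i, (a i - m i) ^ 2 = ∑ i, a i ^ 2 - 2 * ∑ i, a i * (m i : ℝ) + ∑ i, (m i : ℝ) ^ 2 := by
      rw [Finset.mul_sum, ← Finset.sum_sub_distrib, ← Finset.sum_add_distrib]
      apply Finset.sum_congr rfl
      intro i _
      ring
    rw [this, h1, h3]
    linarith
  have hzero : ∀ i, (a i - m i) ^ 2 = 0 := by
    have h0 : ∑ i, (a i - m i) ^ 2 = 0 :=
      le_antisymm hsq (Finset.sum_nonneg fun i _ => sq_nonneg _)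
    intro i
    exact (Finset.sum_eq_zero_iff_of_nonneg fun i _ => sq_nonneg _).1 h0 i (Finset.mem_univ i)
  have ham : ∀ i, a i = m i := by
    intro i
    have := hzero i
    have h8 : a i - m i = 0 := by
      rcases sq_eq_zero_iff.1 this with h
      exact h
    linarith
  refine ⟨ham, ?_⟩
  have hs : ∑ i, a i * (d i - a i) = 0 := by
    have : ∑ i, a i * (d i - a i) = ∑ i, a i * d i - ∑ i, a i ^ 2 := by
      rw [← Finset.sum_sub_distrib]
      apply Finset.sum_congr rfl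
      intro i _
      ring
    rw [this, h1, h2, sub_self]
  have hnn : ∀ i ∈ (Finset.univ : Finset ι), 0 ≤ a i * (d i - a i) := by
    intro i _
    have h7 : (0 : ℝ) ≤ m i := Nat.cast_nonneg _
    rw [ham i]
    exact mul_nonneg h7 (sub_nonneg.2 (hmd i))
  intro i
  have h9 := (Finset.sum_eq_zero_iff_of_nonneg hnn).1 hs i (Finset.mem_univ i)
  rcases mul_eq_zero.1 h9 with h | h
  · exact Or.inl h
  · right
    linarith


section Theta

variable {G : Type*} [Group G] [Fintype G]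

/-- `p^a` on the `p`-regular elements, `0` on the `p`-singular ones. -/
noncomputable def theta (p a : ℕ) : G → ℂ :=
  fun x => if p ∣ orderOf x then 0 else ((p ^ a : ℕ) : ℂ)

theorem theta_isClassFunction (p a : ℕ) : IsClassFunction G (theta (G := G) p a) := by
  intro g h
  unfold theta
  have h1 : orderOf (h * g * h⁻¹) = orderOf g := by
    have := (MulAut.conj h).orderOf_eq g
    simpa [MulAut.conj_apply] using this
  rw [h1]

theorem theta_inv (p a : ℕ) (x : G) : theta p a x⁻¹ = theta p a x := by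
  unfold theta
  rw [orderOf_inv]

theorem theta_conj (p a : ℕ) (x : G) : conj (theta p a x) = theta p a x := by
  unfold theta
  split_ifs <;> simp

theorem theta_one (p a : ℕ) (hp : p.Prime) : theta (G := G) p a 1 = ((p ^ a : ℕ) : ℂ) := by
  unfold theta
  rw [orderOf_one, if_neg]
  exact hp.one_lt.ne' ∘ Nat.dvd_one.1

/-- the `p`-regular elements -/
noncomputable def regSet (G : Type*) [Group G] [Fintype G] (p : ℕ) : Finset G := by
  classical
  exact Finset.univ.filter (fun x : G => ¬ p ∣ orderOf x)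

theorem mem_regSet (p : ℕ) (x : G) : x ∈ regSet G p ↔ ¬ p ∣ orderOf x := by
  classical
  unfold regSet
  simp

theorem card_regSet (p : ℕ) : (regSet G p).card = Nat.card {g : G // ¬ p ∣ orderOf g} := by
  classical
  unfold regSet
  rw [Nat.card_eq_fintype_card, Fintype.card_subtype]

theorem sum_theta_mul (p a : ℕ) (f : G → ℂ) :
    ∑ x, theta p a x * f x = ((p ^ a : ℕ) : ℂ) * ∑ x ∈ regSet G p, f x := by
  classical
  unfold regSet
  rw [Finset.mul_sum, Finset.sum_filter]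
  apply Finset.sum_congr rfl
  intro x _
  unfold theta
  by_cases h : p ∣ orderOf x
  · simp [h]
  · simp [h]

/-- `[θ, ξ]` is real. -/
theorem classInner_theta_conj (p a : ℕ) {ξ : G → ℂ} (hξ : IsCharacter G ξ) :
    conj (classInner (theta p a) ξ) = classInner (theta p a) ξ := by
  rw [classInner_def, map_mul, map_inv₀, map_natCast, map_sum]
  congr 1
  apply Fintype.sum_equiv (Equiv.inv G)
  intro x
  simp only [Equiv.inv_apply, map_mul, Complex.conj_conj, theta_conj]
  rw [theta_inv, isCharacter_inv hξ, Complex.conj_conj]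

theorem classInner_theta_eq (p a : ℕ) (ξ : G → ℂ) :
    classInner (theta p a) ξ =
      (Nat.card G : ℂ)⁻¹ * (((p ^ a : ℕ) : ℂ) * ∑ x ∈ regSet G p, conj (ξ x)) := by
  rw [classInner_def, sum_theta_mul]

end Theta


section Identities

variable {G : Type*} [Group G] [Fintype G]

/-- (1): `[θ,θ] = p^a`. -/
theorem classInner_theta_theta (p a n : ℕ) (hn : n ≠ 0) (hp : p.Prime)
    (hG : Nat.card G = p ^ a * n) (hK : (regSet G p).card = n) :
    classInner (theta (G := G) p a) (theta p a) = ((p ^ a : ℕ) : ℂ) := by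
  rw [classInner_theta_eq]
  have h1 : ∑ x ∈ regSet G p, conj (theta p a x) = (n : ℂ) * ((p ^ a : ℕ) : ℂ) := by
    rw [← hK, ← nsmul_eq_mul, ← Finset.sum_const]
    apply Finset.sum_congr rfl
    intro x hx
    rw [theta_conj]
    unfold theta
    rw [if_neg ((mem_regSet p x).1 hx)]
  rw [h1, hG]
  have hp0 : (p : ℂ) ^ a ≠ 0 := pow_ne_zero _ (by exact_mod_cast hp.ne_zero)
  have hn0 : (n : ℂ) ≠ 0 := by exact_mod_cast hn
  push_cast
  field_simp

theorem trivial_isIrr : IsIrrCharacter G (fun _ => (1 : ℂ)) := by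
  have := isIrrCharacter_of_hom (1 : G →* ℂˣ)
  exact this

theorem sum_irr_eq (ξ : IrrCharacter G) :
    ∑ x : G, (ξ : G → ℂ) x = (Nat.card G : ℂ) * (if (ξ : G → ℂ) = (fun _ => (1 : ℂ)) then 1 else 0) := by
  have h := classInner_irr ξ.2 (trivial_isIrr (G := G))
  rw [classInner_def] at h
  have hG0 : (Nat.card G : ℂ) ≠ 0 := Nat.cast_ne_zero.2 Nat.card_pos.ne'
  rw [← h, ← mul_assoc, mul_inv_cancel₀ hG0, one_mul]
  apply Finset.sum_congr rfl
  intro x _
  simp

variable [Fintype (IrrCharacter G)]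

/-- (4): `∑ a_ξ m_ξ = p^a`. -/
theorem sum_mult_phi (p a n : ℕ) (hn : n ≠ 0) (hp : p.Prime) (hG : Nat.card G = p ^ a * n)
    (m : IrrCharacter G → ℕ)
    (hm1 : ∀ ξ : IrrCharacter G, (ξ : G → ℂ) = (fun _ => 1) → m ξ = 1)
    (hvan : ∀ g : G, p ∣ orderOf g → ∑ ξ : IrrCharacter G, (m ξ : ℂ) * (ξ : G → ℂ) g = 0) :
    ∑ ξ : IrrCharacter G, classInner (theta p a) (ξ : G → ℂ) * (m ξ : ℂ) = ((p ^ a : ℕ) : ℂ) := by
  classical
  set Φ : G → ℂ := ∑ ξ : IrrCharacter G, (m ξ : ℂ) • (ξ : G → ℂ) with hΦdef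
  have hΦ : ∀ g, Φ g = ∑ ξ : IrrCharacter G, (m ξ : ℂ) * (ξ : G → ℂ) g := by
    intro g
    rw [hΦdef, Finset.sum_apply]
    simp only [Pi.smul_apply, smul_eq_mul]
  have way2 : classInner (theta p a) Φ =
      ∑ ξ : IrrCharacter G, classInner (theta p a) (ξ : G → ℂ) * (m ξ : ℂ) := by
    rw [hΦdef, classInner_sum_right]
    apply Finset.sum_congr rfl
    intro ξ _
    rw [classInner_smul_right, Complex.conj_natCast, mul_comm]
  rw [← way2, classInner_theta_eq]
  have h1 : ∑ x ∈ regSet G p, conj (Φ x) = ∑ x : G, conj (Φ x) := by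
    apply Finset.sum_subset (Finset.subset_univ _)
    intro x _ hx
    have : p ∣ orderOf x := by
      by_contra h
      exact hx ((mem_regSet p x).2 h)
    rw [hΦ, hvan x this, map_zero]
  have h2 : ∑ x : G, Φ x = (Nat.card G : ℂ) := by
    simp only [hΦ]
    rw [Finset.sum_comm]
    simp only [← Finset.mul_sum, sum_irr_eq]
    rw [Finset.sum_eq_single (⟨fun _ => 1, trivial_isIrr⟩ : IrrCharacter G)]
    · rw [hm1 _ rfl]
      simp
    · intro ξ _ hne
      have : (ξ : G → ℂ) ≠ (fun _ => (1 : ℂ)) := fun h => hne (Subtype.ext h)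
      simp [this]
    · intro h
      exact absurd (Finset.mem_univ _) h
  rw [h1, ← map_sum, h2, Complex.conj_natCast, hG]
  have hp0 : (p : ℂ) ^ a ≠ 0 := pow_ne_zero _ (by exact_mod_cast hp.ne_zero)
  have hn0 : (n : ℂ) ≠ 0 := by exact_mod_cast hn
  push_cast
  field_simp

/-- (2): `∑ u_ξ v_ξ = p^a` (number of `(Q,R)` double cosets). -/
theorem sum_uv (p a n : ℕ) (hn : n ≠ 0) (hG : Nat.card G = p ^ a * n)
    (Q R : Subgroup G) [Fintype Q] [Fintype R] (hQR : Nat.card Q * Nat.card R = n)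
    (hcop : (Nat.card Q).Coprime (Nat.card R))
    (u v : IrrCharacter G → ℕ)
    (hu : ∀ ξ : IrrCharacter G, (u ξ : ℂ) = (Nat.card Q : ℂ)⁻¹ * ∑ y : Q, (ξ : G → ℂ) (y : G))
    (hv : ∀ ξ : IrrCharacter G, (v ξ : ℂ) = (Nat.card R : ℂ)⁻¹ * ∑ z : R, (ξ : G → ℂ) (z : G)) :
    ∑ ξ : IrrCharacter G, (u ξ : ℂ) * (v ξ : ℂ) = ((p ^ a : ℕ) : ℂ) := by
  classical
  have key : ∀ ξ : IrrCharacter G, (u ξ : ℂ) * (v ξ : ℂ) =
      (Nat.card Q : ℂ)⁻¹ * (Nat.card R : ℂ)⁻¹ *
        ∑ y : Q, ∑ z : R, (ξ : G → ℂ) (y : G) * conj ((ξ : G → ℂ) (z : G)) := by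
    intro ξ
    have hv' : (v ξ : ℂ) = (Nat.card R : ℂ)⁻¹ * ∑ z : R, conj ((ξ : G → ℂ) (z : G)) := by
      rw [← Complex.conj_natCast (v ξ), hv ξ, map_mul, map_inv₀, Complex.conj_natCast, map_sum]
    rw [hu ξ, hv', ← Finset.sum_mul_sum]
    ring
  simp only [key]
  rw [← Finset.mul_sum, Finset.sum_comm]
  have h1 : ∀ y : Q, ∑ ξ : IrrCharacter G, ∑ z : R,
      (ξ : G → ℂ) (y : G) * conj ((ξ : G → ℂ) (z : G)) =
      ∑ z : R, (Nat.card (Subgroup.centralizer ({(z : G)} : Set G)) : ℂ) *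
        classIndicator (z : G) (y : G) := by
    intro y
    rw [Finset.sum_comm]
    apply Finset.sum_congr rfl
    intro z _
    exact column_orthogonality (z : G) (y : G)
  simp only [h1]
  have h2 : ∀ (y : Q) (z : R), (y ≠ 1 ∨ z ≠ 1) → classIndicator (z : G) (y : G) = 0 := by
    intro y z hyz
    unfold classIndicator
    rw [if_neg]
    intro hc
    obtain ⟨c, hc⟩ := isConj_iff.1 hc
    have ho : orderOf (y : G) = orderOf (z : G) := by
      rw [← hc]
      have := (MulAut.conj c).orderOf_eq (z : G)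
      simpa [MulAut.conj_apply] using this
    have hy : orderOf (y : G) ∣ Nat.card Q := by
      rw [Subgroup.orderOf_coe]
      exact orderOf_dvd_natCard y
    have hz : orderOf (z : G) ∣ Nat.card R := by
      rw [Subgroup.orderOf_coe]
      exact orderOf_dvd_natCard z
    have h1' : orderOf (y : G) = 1 :=
      Nat.eq_one_of_dvd_coprimes hcop hy (ho ▸ hz)
    have hy1 : (y : G) = 1 := orderOf_eq_one_iff.1 h1'
    have hz1 : (z : G) = 1 := orderOf_eq_one_iff.1 (ho ▸ h1')
    rcases hyz with h | h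
    · exact h (Subtype.ext hy1)
    · exact h (Subtype.ext hz1)
  rw [Finset.sum_eq_single (1 : Q)]
  · rw [Finset.sum_eq_single (1 : R)]
    · have hcen : Subgroup.centralizer ({((1 : R) : G)} : Set G) = ⊤ := by
        ext x
        simp [Subgroup.mem_centralizer_iff]
      have hind : classIndicator (((1 : R) : G)) (((1 : Q) : G)) = 1 := by
        unfold classIndicator
        simp
      rw [hcen, hind, Subgroup.card_top, hG, mul_one]
      have hn0 : (n : ℂ) ≠ 0 := by exact_mod_cast hn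
      have hQR' : (Nat.card Q : ℂ) * (Nat.card R : ℂ) = n := by exact_mod_cast hQR
      have hQ0 : (Nat.card Q : ℂ) ≠ 0 := by
        intro h
        rw [h, zero_mul] at hQR'
        exact hn0 hQR'.symm
      have hR0 : (Nat.card R : ℂ) ≠ 0 := by
        intro h
        rw [h, mul_zero] at hQR'
        exact hn0 hQR'.symm
      push_cast
      rw [← hQR']
      field_simp
    · intro z _ hz
      rw [h2 1 z (Or.inr hz), mul_zero]
    · intro h
      exact absurd (Finset.mem_univ _) h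
  · intro y _ hy
    apply Finset.sum_eq_zero
    intro z _
    rw [h2 y z (Or.inl hy), mul_zero]
  · intro h
    exact absurd (Finset.mem_univ _) h

end Identities


section Final

variable {G : Type*} [Group G] [Fintype G] [Fintype (IrrCharacter G)]

/-- **Package (M) of S4427.**  Brauer's assembly: from the numbers `m ξ` delivered by the
projective-cover lemma (L) to a normal subgroup of order `n`. -/
theorem frobenius_of_L (p : ℕ) (hp : p.Prime) (a n : ℕ)
    (hG : Nat.card G = p ^ a * n) (hcount : Nat.card {g : G // ¬ p ∣ orderOf g} = n)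
    (Q R : Subgroup G) [Fintype Q] [Fintype R] (hQR : Nat.card Q * Nat.card R = n)
    (hcop : (Nat.card Q).Coprime (Nat.card R))
    (m u v : IrrCharacter G → ℕ)
    (hu : ∀ ξ : IrrCharacter G, (u ξ : ℂ) = (Nat.card Q : ℂ)⁻¹ * ∑ y : Q, (ξ : G → ℂ) (y : G))
    (hv : ∀ ξ : IrrCharacter G, (v ξ : ℂ) = (Nat.card R : ℂ)⁻¹ * ∑ z : R, (ξ : G → ℂ) (z : G))
    (hmu : ∀ ξ, m ξ ≤ u ξ) (hmv : ∀ ξ, m ξ ≤ v ξ)
    (hmd : ∀ ξ : IrrCharacter G, (m ξ : ℝ) ≤ ((ξ : G → ℂ) 1).re)
    (hm1 : ∀ ξ : IrrCharacter G, (ξ : G → ℂ) = (fun _ => 1) → m ξ = 1)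
    (hvan : ∀ g : G, p ∣ orderOf g → ∑ ξ : IrrCharacter G, (m ξ : ℂ) * (ξ : G → ℂ) g = 0) :
    ∃ N : Subgroup G, N.Normal ∧ Nat.card N = n := by
  classical
  have hn : n ≠ 0 := by
    rw [← hcount]
    haveI : Nonempty {g : G // ¬ p ∣ orderOf g} :=
      ⟨⟨1, by rw [orderOf_one]; exact hp.one_lt.ne' ∘ Nat.dvd_one.1⟩⟩
    exact Nat.card_pos.ne'
  have hK : (regSet G p).card = n := by rw [card_regSet, hcount]
  have hcf : IsClassFunction G (theta (G := G) p a) := theta_isClassFunction p a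
  let A : IrrCharacter G → ℝ := fun ξ => (classInner (theta p a) (ξ : G → ℂ)).re
  have hA : ∀ ξ : IrrCharacter G, classInner (theta p a) (ξ : G → ℂ) = (A ξ : ℂ) := fun ξ =>
    ((Complex.conj_eq_iff_re).1 (classInner_theta_conj p a (isCharacter_of_irr ξ.2))).symm
  let d : IrrCharacter G → ℝ := fun ξ => ((ξ : G → ℂ) 1).re
  have hd : ∀ ξ : IrrCharacter G, (ξ : G → ℂ) 1 = (d ξ : ℂ) := by
    intro ξ
    obtain ⟨k, hk⟩ := isCharacter_apply_one (isCharacter_of_irr ξ.2)
    simp only [d]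
    rw [hk]
    simp
  have hexp := class_function_expansion (theta (G := G) p a) hcf
  have hexpx : ∀ x : G, theta p a x = ∑ ξ : IrrCharacter G, (A ξ : ℂ) * (ξ : G → ℂ) x := by
    intro x
    have h := congrFun hexp x
    rw [Finset.sum_apply] at h
    simp only [Pi.smul_apply, smul_eq_mul, hA] at h
    exact h
  have h1 : ∑ ξ, A ξ ^ 2 = ((p ^ a : ℕ) : ℝ) := by
    have hpars := classInner_eq_sum_mult (theta (G := G) p a) (theta p a) hcf
    rw [classInner_theta_theta p a n hn hp hG hK] at hpars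
    have h : ∀ ξ : IrrCharacter G, classInner (theta p a) (ξ : G → ℂ) *
        classInner (ξ : G → ℂ) (theta p a) = ((A ξ ^ 2 : ℝ) : ℂ) := by
      intro ξ
      rw [← classInner_conj_symm (theta p a), hA ξ, Complex.conj_ofReal]
      push_cast
      ring
    simp only [h] at hpars
    exact_mod_cast hpars.symm
  have h2 : ∑ ξ, A ξ * d ξ = ((p ^ a : ℕ) : ℝ) := by
    have h := hexpx 1
    rw [theta_one p a hp] at h
    simp only [hd] at h
    exact_mod_cast h.symm
  have h3 : ∑ ξ, A ξ * (m ξ : ℝ) = ((p ^ a : ℕ) : ℝ) := by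
    have h := sum_mult_phi p a n hn hp hG m hm1 hvan
    simp only [hA] at h
    exact_mod_cast h
  have h4 : ∑ ξ, (u ξ : ℝ) * (v ξ : ℝ) = ((p ^ a : ℕ) : ℝ) := by
    have h := sum_uv p a n hn hG Q R hQR hcop u v hu hv
    exact_mod_cast h
  obtain ⟨_, hzd⟩ := frobM_core _ A d m u v h1 h2 h3 h4 hmu hmv hmd
  have hp0 : ((p ^ a : ℕ) : ℂ) ≠ 0 := by exact_mod_cast (pow_pos hp.pos a).ne'
  have hn0 : (n : ℂ) ≠ 0 := by exact_mod_cast hn
  -- characters with nonzero multiplicity are trivial on the `p`-regular elements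
  have hkey : ∀ ξ : IrrCharacter G, A ξ ≠ 0 → ∀ x ∈ regSet G p,
      (ξ : G → ℂ) x = (ξ : G → ℂ) 1 := by
    intro ξ hξ x hx
    have hAd : A ξ = d ξ := (hzd ξ).resolve_left hξ
    have hc := isCharacter_of_irr ξ.2
    have e1 := classInner_theta_eq p a (ξ : G → ℂ)
    rw [hA ξ, hAd, hG] at e1
    have e2 : ∑ x ∈ regSet G p, conj ((ξ : G → ℂ) x) = (n : ℂ) * (d ξ : ℂ) := by
      have h : (((p ^ a * n : ℕ) : ℂ))⁻¹ * (((p ^ a : ℕ) : ℂ) *
          ∑ x ∈ regSet G p, conj ((ξ : G → ℂ) x)) =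
          (n : ℂ)⁻¹ * ∑ x ∈ regSet G p, conj ((ξ : G → ℂ) x) := by
        rw [Nat.cast_mul, mul_inv, mul_assoc, ← mul_assoc _ ((p ^ a : ℕ) : ℂ), mul_comm (n : ℂ)⁻¹,
          mul_assoc, ← mul_assoc, inv_mul_cancel₀ hp0, one_mul]
      rw [h] at e1
      rw [e1, ← mul_assoc, mul_inv_cancel₀ hn0, one_mul]
    have e3 : ∑ x ∈ regSet G p, ((ξ : G → ℂ) x).re = ∑ x ∈ regSet G p, ((ξ : G → ℂ) 1).re := by
      have h := congrArg Complex.re e2
      rw [Complex.re_sum] at h
      simp only [Complex.conj_re] at h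
      rw [h, Finset.sum_const, nsmul_eq_mul, hK]
      simp [d]
    have e4 := (Finset.sum_eq_sum_iff_of_le (fun x _ => isCharacter_re_le hc x)).1 e3 x hx
    exact isCharacter_eq_of_re_eq hc x e4
  choose dim ρ hirr hchar using fun ξ : IrrCharacter G => ξ.2
  let N : Subgroup G := ⨅ ξ : {ξ : IrrCharacter G // A ξ ≠ 0}, MonoidHom.ker (ρ ξ.1)
  have hNn : N.Normal := Subgroup.normal_iInf_normal fun ξ => MonoidHom.normal_ker _
  have hker : ∀ (ξ : IrrCharacter G) (x : G),
      x ∈ MonoidHom.ker (ρ ξ) ↔ (ξ : G → ℂ) x = (ξ : G → ℂ) 1 := by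
    intro ξ x
    rw [MonoidHom.mem_ker, ← hchar ξ, Representation.char_one]
    exact (Cfsg.Agent.S0139.result (ρ ξ) x).symm
  have hmem : ∀ x : G, x ∈ N ↔ ¬ p ∣ orderOf x := by
    intro x
    constructor
    · intro hx hdiv
      have hx' : ∀ ξ : IrrCharacter G, A ξ ≠ 0 → (ξ : G → ℂ) x = (ξ : G → ℂ) 1 := by
        intro ξ hξ
        have := (Subgroup.mem_iInf.1 hx) ⟨ξ, hξ⟩
        exact (hker ξ x).1 this
      have hx1 : theta p a x = theta p a (1 : G) := by
        rw [hexpx x, hexpx 1]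
        apply Finset.sum_congr rfl
        intro ξ _
        by_cases h : A ξ = 0
        · rw [h]
          simp
        · rw [hx' ξ h]
      rw [theta_one p a hp] at hx1
      have h0 : theta p a x = 0 := by
        unfold theta
        rw [if_pos hdiv]
      rw [h0] at hx1
      exact hp0 hx1.symm
    · intro hx
      rw [Subgroup.mem_iInf]
      intro ξ
      rw [hker]
      exact hkey ξ.1 ξ.2 x ((mem_regSet p x).2 hx)
  refine ⟨N, hNn, ?_⟩
  rw [← hcount]
  exact Nat.card_congr (Equiv.subtypeEquivRight hmem)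

end Final

end Cfsg.Agent.Lib.Helper6.FrobM
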