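import Mathlib
import Cfsg.Prelude.Def_G2
import Cfsg.Agent.Lib.Helper6.G2O_Defs
import Cfsg.Agent.Lib.Helper6.G2O_Defs2
import Cfsg.Agent.Lib.Helper6.G2O_SL3
set_option autoImplicit false

/-!
# S4632 swarm, package ORBIT: `|G₂(F)| = #(nontrivial idempotents) * |SL₃(F)|` from transitivity and the stabiliser
-/

namespace Cfsg.Agent.Lib.Helper6.G2O

open Cfsg Cfsg.Lie Matrix

variable {F : Type*} [Field F]

/-- the action of `G₂(F)` on the nontrivial idempotents -/
@[reducible] def idemAction : MulAction (G2 F) {x : Fin 8 → F // IsNTIdem x} where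
  smul g x := ⟨act g x.1, isNTIdem_act g x.2⟩
  one_smul x := Subtype.ext (act_one x.1)
  mul_smul g h x := Subtype.ext (act_mul g h x.1)

/-- PK-ORBIT -/
theorem card_G2_eq_mul [Fintype F]
    (htrans : ∀ x : Fin 8 → F, IsNTIdem x → ∃ g : G2 F, act g e1 = x)
    (hstab : ∀ g : G2 F, act g e1 = e1 → ∃ A : SpecialLinearGroup (Fin 3) F, iota A = g) :
    Nat.card (G2 F) = Nat.card {x : Fin 8 → F // IsNTIdem x} * Nat.card (SpecialLinearGroup (Fin 3) F) := by
  letI : MulAction (G2 F) {x : Fin 8 → F // IsNTIdem x} := idemAction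
  set x0 : {x : Fin 8 → F // IsNTIdem x} := ⟨e1, isNTIdem_e1⟩ with hx0
  have hsmul : ∀ (g : G2 F) (x : {x : Fin 8 → F // IsNTIdem x}), ((g • x : {x : Fin 8 → F // IsNTIdem x}) : Fin 8 → F)
      = act g x.1 := fun g x => rfl
  have horb : MulAction.orbit (G2 F) x0 = Set.univ := by
    apply Set.eq_univ_of_forall
    rintro ⟨x, hx⟩
    obtain ⟨g, hg⟩ := htrans x hx
    exact ⟨g, Subtype.ext hg⟩
  have hst : MulAction.stabilizer (G2 F) x0 = (iota : SpecialLinearGroup (Fin 3) F →* G2 F).range := by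
    ext g
    rw [MulAction.mem_stabilizer_iff, MonoidHom.mem_range]
    constructor
    · intro h
      have h1 : act g e1 = e1 := by
        have := congrArg Subtype.val h
        rwa [hsmul] at this
      exact hstab g h1
    · rintro ⟨A, rfl⟩
      apply Subtype.ext
      rw [hsmul]
      exact act_iota_e1 A
  have h1 := (MulAction.stabilizer (G2 F) x0).card_mul_index
  rw [MulAction.index_stabilizer, horb, Set.ncard_univ, hst,
    ← Nat.card_congr (MonoidHom.ofInjective (iota_injective (F := F))).toEquiv] at h1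
  rw [← h1, mul_comm]

end Cfsg.Agent.Lib.Helper6.G2O
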