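import Mathlib
import Cfsg.Prelude.Def_G2
import Cfsg.Agent.Lib.Helper3.SylAbGen
import Cfsg.Agent.Lib.Helper6.G2O_Defs
import Cfsg.Agent.Lib.Helper6.G2O_Defs2
import Cfsg.Agent.Lib.Helper9.G2O_Mu2
import Cfsg.Agent.Lib.Lead.G2O_CD
import Cfsg.Agent.Lib.Helper2.G2O_TCARD
import Cfsg.Agent.Lib.Helper9.G2O_S2CARD
import Cfsg.Agent.Lib.Helper9.G2O_STIL
import Cfsg.Agent.Lib.Helper7.G2O_SQ
set_option autoImplicit false

/-!
# S4632 swarm: the 2-subgroup `P0 F = Phi (Stil F)` of `G₂(F)`: its order and `GenSq`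
-/

namespace Cfsg.Agent.Lib.Helper6.G2O

open Cfsg Cfsg.Lie Matrix Cfsg.Agent.Lib.Helper3.SylAb
open scoped commutatorElement

/-- PK-GENMAP: squares are commutators modulo the kernel ⇒ `GenSq` of the image -/
theorem genSq_map_of_sq_mem {G G' : Type*} [Group G] [Group G'] (f : G →* G') (H : Subgroup G)
    (h : ∀ s ∈ H, ∃ z ∈ f.ker, s ^ 2 * z ∈ ⁅H, H⁆) : GenSq (H.map f) := by
  rintro y ⟨s, hs, rfl⟩
  obtain ⟨z, hz, hsz⟩ := h s hs
  rw [← Subgroup.map_commutator]
  refine ⟨s ^ 2 * z, hsz, ?_⟩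
  rw [map_mul, map_pow, MonoidHom.mem_ker.mp hz, mul_one]

/-- cardinality of the image of a subgroup -/
theorem card_map_mul_card_inf_ker {G G' : Type*} [Group G] [Group G'] [Finite G] (f : G →* G') (H : Subgroup G) :
    Nat.card (H.map f) * Nat.card (H ⊓ f.ker : Subgroup G) = Nat.card H := by
  have h1 : (f.comp H.subtype).range = H.map f := by
    rw [MonoidHom.range_comp, Subgroup.range_subtype]
  have h2 : Nat.card (f.comp H.subtype).ker = Nat.card (H ⊓ f.ker : Subgroup G) := by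
    have e : (f.comp H.subtype).ker = (f.ker).subgroupOf H := by
      ext x
      rw [MonoidHom.mem_ker, Subgroup.mem_subgroupOf, MonoidHom.mem_ker]
      rfl
    rw [e, inf_comm]
    exact Nat.card_congr (Subgroup.subgroupOfEquivOfLe (inf_le_right : f.ker ⊓ H ≤ H)).toEquiv.symm |>.symm ▸ by
      rw [Subgroup.inf_subgroupOf_right]
  have h3 := (f.comp H.subtype).ker.card_mul_index
  rw [Subgroup.index_ker, h1, h2] at h3
  rw [← h3, mul_comm]

variable {F : Type*} [Field F]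

/-- the subgroup `Stil F` inside `detEq F` -/
def StilD (F : Type*) [Field F] : Subgroup (detEq F) := (Stil F).subgroupOf (detEq F)

/-- the 2-subgroup `P0 F = Phi (Stil F)` -/
noncomputable def P0 (F : Type*) [Field F] : Subgroup (G2 F) := (StilD F).map Phi

theorem map_subtype_StilD : (StilD F).map (detEq F).subtype = Stil F := by
  unfold StilD
  rw [Subgroup.map_subgroupOf_eq_of_le Stil_le_detEq]

theorem genSq_P0 (hF : (2 : F) ≠ 0) (hu : ∃ u ∈ T2 F, Matrix.GeneralLinearGroup.det u = -1) : GenSq (P0 F) := by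
  apply genSq_map_of_sq_mem
  intro s hs
  have hs' : (s : GL (Fin 2) F × GL (Fin 2) F) ∈ Stil F := Subgroup.mem_subgroupOf.mp hs
  obtain ⟨z, hz, hsz⟩ := sq_mem_commutator_Stil hF hu s hs'
  refine ⟨⟨z, Zc_le_detEq hz⟩, ?_, ?_⟩
  · rw [Phi_ker, Subgroup.mem_subgroupOf]
    exact hz
  · have h1 : ⁅Stil F, Stil F⁆ = (⁅StilD F, StilD F⁆).map (detEq F).subtype := by
      rw [Subgroup.map_commutator, map_subtype_StilD]
    rw [h1] at hsz
    obtain ⟨y, hy, e⟩ := hsz
    have : y = s ^ 2 * ⟨z, Zc_le_detEq hz⟩ := Subtype.ext e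
    rwa [← this]

theorem card_P0_mul [Fintype F] :
    Nat.card (P0 F) * Nat.card (Stil F ⊓ Zc F : Subgroup (GL (Fin 2) F × GL (Fin 2) F)) = Nat.card (Stil F) := by
  have h1 := card_map_mul_card_inf_ker (Phi : detEq F →* G2 F) (StilD F)
  have h2 : Nat.card (StilD F) = Nat.card (Stil F) :=
    Nat.card_congr (Subgroup.subgroupOfEquivOfLe Stil_le_detEq).toEquiv
  have h3 : Nat.card (StilD F ⊓ (Phi : detEq F →* G2 F).ker : Subgroup (detEq F)) =
      Nat.card (Stil F ⊓ Zc F : Subgroup (GL (Fin 2) F × GL (Fin 2) F)) := by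
    rw [Phi_ker]
    have e : (StilD F ⊓ (Zc F).subgroupOf (detEq F) : Subgroup (detEq F)) =
        (Stil F ⊓ Zc F : Subgroup (GL (Fin 2) F × GL (Fin 2) F)).subgroupOf (detEq F) := by
      unfold StilD Subgroup.subgroupOf
      rw [Subgroup.comap_inf]
    rw [e]
    exact Nat.card_congr (Subgroup.subgroupOfEquivOfLe (inf_le_left.trans Stil_le_detEq)).toEquiv
  rw [h2, h3] at h1
  exact h1

/-- the order of `P0 F` -/
theorem card_P0 [Fintype F] (hF : Odd (Fintype.card F)) :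
    Nat.card (P0 F) = 2 ^ (2 * padicValNat 2 (Fintype.card F ^ 2 - 1)) := by
  have h1 := card_P0_mul (F := F)
  have h2 := card_Stil_mul (F := F) hF
  have h3 := card_Stil_inf_Zc (F := F) hF
  have h4 := card_S2 (F := F) hF
  have h5 := card_mu2 (F := F)
  have h6 := val2_card_Tplus (F := F) hF
  set t := padicValNat 2 (Nat.card (Tplus F)) with ht
  set v := padicValNat 2 (Fintype.card F ^ 2 - 1) with hv
  set w := padicValNat 2 (Fintype.card F - 1) with hw
  rw [h3, h5] at h1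
  rw [h5, h4] at h2
  -- |P0| * 2^w = |Stil|, |Stil| * 2^w = (2 * 2^t)^2
  have h7 : Nat.card (P0 F) * (2 ^ w * 2 ^ w) = 2 ^ (2 * v) * (2 ^ w * 2 ^ w) := by
    calc Nat.card (P0 F) * (2 ^ w * 2 ^ w) = (Nat.card (P0 F) * 2 ^ w) * 2 ^ w := by ring
      _ = (2 * 2 ^ t) ^ 2 := by rw [h1, h2]
      _ = 2 ^ (2 * (t + 1)) := by
          rw [show 2 * (t + 1) = (t + 1) * 2 by ring, pow_mul, pow_succ]; ring
      _ = 2 ^ (2 * v) * (2 ^ w * 2 ^ w) := by rw [h6, ← pow_add, ← pow_add]; congr 1; ring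
  exact Nat.eq_of_mul_eq_mul_right (by positivity) h7

end Cfsg.Agent.Lib.Helper6.G2O
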