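import Mathlib
import Cfsg.Prelude.Def_G2
import Cfsg.Agent.Lib.Helper6.G2O_Defs
set_option autoImplicit false

/-!
# S4632 swarm, package ROOT: the swap automorphism `sigma` and the root automorphisms `tau c` of the Zorn algebra
-/

namespace Cfsg.Agent.Lib.Helper6.G2O

open Cfsg Cfsg.Lie Matrix

variable {F : Type*} [Field F]

/-- the underlying map of `sigma` -/
def sigmaFun (x : Fin 8 → F) : Fin 8 → F := mk8 (x 7) (-zB F x) (-zA F x) (x 0)

/-- `sigma` as a linear map -/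
def sigmaL : (Fin 8 → F) →ₗ[F] (Fin 8 → F) where
  toFun := sigmaFun
  map_add' x y := by
    ext i; fin_cases i <;> simp [sigmaFun, mk8] <;> ring
  map_smul' r x := by
    ext i; fin_cases i <;> simp [sigmaFun, mk8]

theorem sigmaL_apply (x : Fin 8 → F) : sigmaL x = sigmaFun x := rfl

theorem sigmaFun_mk8 (α β : F) (a b : Fin 3 → F) : sigmaFun (mk8 α a b β) = mk8 β (-b) (-a) α := by
  unfold sigmaFun
  rw [zA_mk8, zB_mk8]
  rfl

theorem sigmaFun_sigmaFun (x : Fin 8 → F) : sigmaFun (sigmaFun x) = x := by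
  rw [← mk8_eta x, sigmaFun_mk8, sigmaFun_mk8, neg_neg, neg_neg]

theorem sigmaFun_zornMul (x y : Fin 8 → F) :
    sigmaFun (zornMul x y) = zornMul (sigmaFun x) (sigmaFun y) := by
  rw [← mk8_eta x, ← mk8_eta y, zornMul_mk8, sigmaFun_mk8, sigmaFun_mk8, sigmaFun_mk8, zornMul_mk8]
  congr 1
  · rw [dot3_neg_left, dot3_neg_right, neg_neg, dot3_comm]; ring
  · rw [cross3_neg_left, cross3_neg_right, neg_neg]; module
  · rw [cross3_neg_left, cross3_neg_right, neg_neg]; module
  · rw [dot3_neg_left, dot3_neg_right, neg_neg, dot3_comm]; ring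

theorem sigmaL_sigmaL (x : Fin 8 → F) : sigmaL (sigmaL x) = x := sigmaFun_sigmaFun x

theorem sigmaL_zornMul (x y : Fin 8 → F) : sigmaL (zornMul x y) = zornMul (sigmaL x) (sigmaL y) :=
  sigmaFun_zornMul x y

/-- the swap automorphism `[[α, a], [b, β]] ↦ [[β, -b], [-a, α]]` -/
def sigma : G2 F := ofLinear sigmaL sigmaL sigmaL_sigmaL sigmaL_zornMul

theorem act_sigma (α β : F) (a b : Fin 3 → F) : act (sigma : G2 F) (mk8 α a b β) = mk8 β (-b) (-a) α := by
  unfold sigma
  rw [act_ofLinear, sigmaL_apply, sigmaFun_mk8]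

theorem sigma_mul_sigma : (sigma : G2 F) * sigma = 1 := by
  apply ext_act
  intro x
  rw [act_mul, act_one, ← mk8_eta x, act_sigma, act_sigma, neg_neg, neg_neg]

theorem act_sigma_e1 : act (sigma : G2 F) e1 = e2 := by
  unfold e1 e2
  rw [act_sigma]; simp

/-- the underlying map of `tau c` -/
def tauFun (c : Fin 3 → F) (x : Fin 8 → F) : Fin 8 → F :=
  ![x 0 - (x 4 * c 0 + x 5 * c 1 + x 6 * c 2),
    x 1 + (x 0 - x 7) * c 0 - (x 4 * c 0 + x 5 * c 1 + x 6 * c 2) * c 0,
    x 2 + (x 0 - x 7) * c 1 - (x 4 * c 0 + x 5 * c 1 + x 6 * c 2) * c 1,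
    x 3 + (x 0 - x 7) * c 2 - (x 4 * c 0 + x 5 * c 1 + x 6 * c 2) * c 2,
    x 4 + (c 1 * x 3 - c 2 * x 2),
    x 5 + (c 2 * x 1 - c 0 * x 3),
    x 6 + (c 0 * x 2 - c 1 * x 1),
    x 7 + (x 4 * c 0 + x 5 * c 1 + x 6 * c 2)]

/-- `tau c` as a linear map -/
def tauL (c : Fin 3 → F) : (Fin 8 → F) →ₗ[F] (Fin 8 → F) where
  toFun := tauFun c
  map_add' x y := by
    ext i; fin_cases i <;> simp [tauFun] <;> ring
  map_smul' r x := by
    ext i; fin_cases i <;> simp [tauFun] <;> ring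

theorem tauL_apply (c : Fin 3 → F) (x : Fin 8 → F) : tauL c x = tauFun c x := rfl

theorem tauFun_mk8 (c : Fin 3 → F) (α β : F) (a b : Fin 3 → F) :
    tauFun c (mk8 α a b β) =
      mk8 (α - dot3 b c) (a + (α - β) • c - dot3 b c • c) (b + cross3 c a) (β + dot3 b c) := by
  ext i; fin_cases i <;> simp [tauFun, mk8, dot3, cross3] <;> ring

theorem tauL_neg_tauL (c : Fin 3 → F) (x : Fin 8 → F) : tauL (-c) (tauL c x) = x := by
  show tauFun (-c) (tauFun c x) = x
  ext i; fin_cases i <;> simp [tauFun] <;> ring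

theorem tauL_zornMul (c : Fin 3 → F) (x y : Fin 8 → F) :
    tauL c (zornMul x y) = zornMul (tauL c x) (tauL c y) := by
  show tauFun c (zornMul x y) = zornMul (tauFun c x) (tauFun c y)
  ext i; fin_cases i <;> simp [tauFun, zornMul, dot3, cross3] <;> ring

/-- the root automorphism
`[[α, a], [b, β]] ↦ [[α - b·c, a + (α - β) c - (b·c) c], [b + c × a, β + b·c]]` -/
def tau (c : Fin 3 → F) : G2 F := ofLinear (tauL c) (tauL (-c)) (tauL_neg_tauL c) (tauL_zornMul c)

theorem act_tau (c : Fin 3 → F) (α β : F) (a b : Fin 3 → F) :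
    act (tau c) (mk8 α a b β) =
      mk8 (α - dot3 b c) (a + (α - β) • c - dot3 b c • c) (b + cross3 c a) (β + dot3 b c) := by
  unfold tau
  rw [act_ofLinear, tauL_apply, tauFun_mk8]

/-- the opposite root automorphism `sigma * tau d * sigma` -/
def tau' (d : Fin 3 → F) : G2 F := sigma * tau d * sigma

theorem act_tau' (d : Fin 3 → F) (α β : F) (a b : Fin 3 → F) :
    act (tau' d) (mk8 α a b β) =
      mk8 (α - dot3 a d) (a + cross3 d b) (b + (α - β) • d - dot3 a d • d) (β + dot3 a d) := by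
  unfold tau'
  rw [act_mul, act_mul, act_sigma, act_tau, act_sigma]
  congr 1
  · rw [dot3_neg_left]; ring
  · rw [cross3_neg_right]; module
  · rw [dot3_neg_left]; module
  · rw [dot3_neg_left]; ring

end Cfsg.Agent.Lib.Helper6.G2O
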