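import Mathlib
import Cfsg.Prelude.Def_G2
import Cfsg.Agent.Lib.Helper6.G2O_Defs
import Cfsg.Agent.Lib.Helper6.G2O_Defs2
import Cfsg.Agent.Lib.Helper6.G2O_Root
import Cfsg.Agent.Lib.Helper1.G2O_COUNT
set_option autoImplicit false

/-!
# S4632 swarm, package TRANS: `G₂(F)` is transitive on the nontrivial idempotents of the Zorn algebra
-/

namespace Cfsg.Agent.Lib.Helper6.G2O

open Cfsg Cfsg.Lie Matrix

variable {F : Type*} [Field F]

/-- a vector with prescribed dot product with a nonzero vector -/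
theorem exists_dot3_eq {b : Fin 3 → F} (hb : b ≠ 0) (r : F) : ∃ c : Fin 3 → F, dot3 b c = r := by
  have : ∃ i, b i ≠ 0 := by
    by_contra h
    push Not at h
    exact hb (funext h)
  obtain ⟨i, hi⟩ := this
  refine ⟨Pi.single i (r / b i), ?_⟩
  fin_cases i
  · have hi' : b 0 ≠ 0 := hi
    simp [dot3]; field_simp
  · have hi' : b 1 ≠ 0 := hi
    simp [dot3]; field_simp
  · have hi' : b 2 ≠ 0 := hi
    simp [dot3]; field_simp

/-- step 3 -/
theorem exists_act_eq_e1_of_b {b : Fin 3 → F} : ∃ g : G2 F, act g (mk8 1 0 b 0) = e1 := by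
  refine ⟨tau' (-b), ?_⟩
  rw [act_tau']
  unfold e1
  congr 1
  · simp
  · rw [cross3_neg_left, cross3_self]; simp
  · simp
  · simp

/-- step 2 -/
theorem exists_act_eq_e1_of_one_zero {a b : Fin 3 → F} (h : dot3 a b = 0) :
    ∃ g : G2 F, act g (mk8 1 a b 0) = e1 := by
  obtain ⟨g, hg⟩ := exists_act_eq_e1_of_b (F := F) (b := b)
  refine ⟨g * tau (-a), ?_⟩
  rw [act_mul, act_tau]
  have h1 : dot3 b (-a) = 0 := by rw [dot3_neg_right, dot3_comm, h, neg_zero]
  rw [h1, cross3_neg_left, cross3_self]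
  have e1' : a + ((1 : F) - 0) • (-a) - (0 : F) • (-a) = 0 := by
    ext i; simp
  rw [e1']
  simp only [sub_zero, neg_zero, add_zero]
  exact hg

/-- `G₂(F)` is transitive on the nontrivial idempotents -/
theorem exists_act_eq_e1 {x : Fin 8 → F} (hx : IsNTIdem x) : ∃ g : G2 F, act g x = e1 := by
  obtain ⟨α, a, b, β, rfl⟩ : ∃ α a b β, x = mk8 α a b β := ⟨_, _, _, _, (mk8_eta x).symm⟩
  have hx' := (isNTIdem_mk8_iff α β a b).mp hx
  obtain ⟨h1, h2⟩ := hx'
  -- reduce to α = 1, β = 0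
  have key : ∀ y : Fin 8 → F, IsNTIdem y → y 0 = 1 → y 7 = 0 → ∃ g : G2 F, act g y = e1 := by
    intro y hy h0 h7
    obtain ⟨α', a', b', β', rfl⟩ : ∃ α a b β, y = mk8 α a b β := ⟨_, _, _, _, (mk8_eta y).symm⟩
    rw [mk8_apply_0] at h0
    rw [mk8_apply_7] at h7
    subst h0 h7
    have := ((isNTIdem_mk8_iff 1 0 a' b').mp hy).2
    rw [mul_zero] at this
    exact exists_act_eq_e1_of_one_zero this.symm
  by_cases hb : b = 0
  · by_cases ha : a = 0
    · subst ha hb
      rw [dot3_zero_left] at h2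
      rcases mul_eq_zero.mp h2 with h3 | h3
      · -- α = 0, β = 1 : x = e2
        subst h3
        rw [zero_add] at h1
        subst h1
        refine ⟨sigma, ?_⟩
        rw [act_sigma]
        unfold e1
        simp
      · subst h3
        rw [add_zero] at h1
        subst h1
        exact ⟨1, act_one _⟩
    · obtain ⟨d, hd⟩ := exists_dot3_eq ha (α - 1)
      obtain ⟨g, hg⟩ := key (act (tau' d) (mk8 α a b β)) (isNTIdem_act _ hx)
        (by rw [act_tau', mk8_apply_0, hd]; ring)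
        (by rw [act_tau', mk8_apply_7, hd]; linear_combination h1)
      exact ⟨g * tau' d, by rw [act_mul, hg]⟩
  · obtain ⟨c, hc⟩ := exists_dot3_eq hb (α - 1)
    obtain ⟨g, hg⟩ := key (act (tau c) (mk8 α a b β)) (isNTIdem_act _ hx)
      (by rw [act_tau, mk8_apply_0, hc]; ring)
      (by rw [act_tau, mk8_apply_7, hc]; linear_combination h1)
    exact ⟨g * tau c, by rw [act_mul, hg]⟩

/-- PK-TRANS -/
theorem exists_act_e1_eq {x : Fin 8 → F} (hx : IsNTIdem x) : ∃ g : G2 F, act g e1 = x := by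
  obtain ⟨g, hg⟩ := exists_act_eq_e1 hx
  exact ⟨g⁻¹, by rw [← hg, act_inv_act]⟩

end Cfsg.Agent.Lib.Helper6.G2O
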