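import Mathlib
import Cfsg.Prelude.Def_G2
import Cfsg.Agent.Lib.Helper3.SylAbGen
import Cfsg.Agent.Lib.Helper1.SLCard
import Cfsg.Agent.Lib.Helper7.OrdTwoAdicG2
import Cfsg.Agent.Lib.Helper6.G2O_Defs
import Cfsg.Agent.Lib.Helper6.G2O_Defs2
import Cfsg.Agent.Lib.Helper6.G2O_SL3
import Cfsg.Agent.Lib.Helper6.G2O_Trans
import Cfsg.Agent.Lib.Helper6.G2O_Orbit
import Cfsg.Agent.Lib.Helper6.G2O_P0
import Cfsg.Agent.Lib.Helper3.G2O_STAB
set_option autoImplicit false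

/-!
# S4632: the order of `G₂(F)` (octonion model) and the Sylow 2-subgroups for odd `|F|`
-/

namespace Cfsg.Agent.Lib.Helper6.G2O

open Cfsg Cfsg.Lie Matrix Cfsg.Agent.Lib.Helper3.SylAb

variable {F : Type*} [Field F]

theorem card_arith (q N : ℕ) (h1 : 1 < q)
    (hN : (q - 1) * N = (q ^ 3 - 1) * (q ^ 3 - q) * (q ^ 3 - q ^ 2)) :
    (q ^ 6 + q ^ 3) * N = q ^ 6 * (q ^ 6 - 1) * (q ^ 2 - 1) := by
  have hq1 : 1 ≤ q := h1.le
  have e0 : ((q - 1 : ℕ) : ℤ) = (q : ℤ) - 1 := by rw [Nat.cast_sub hq1]; simp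
  have e1 : ((q ^ 3 - 1 : ℕ) : ℤ) = (q : ℤ) ^ 3 - 1 := by
    rw [Nat.cast_sub (Nat.one_le_pow _ _ hq1)]; simp
  have e2 : ((q ^ 3 - q : ℕ) : ℤ) = (q : ℤ) ^ 3 - q := by
    rw [Nat.cast_sub (Nat.le_self_pow (by norm_num) q)]; simp
  have e3 : ((q ^ 3 - q ^ 2 : ℕ) : ℤ) = (q : ℤ) ^ 3 - (q : ℤ) ^ 2 := by
    rw [Nat.cast_sub (Nat.pow_le_pow_right hq1 (by norm_num))]; simp
  have e4 : ((q ^ 6 - 1 : ℕ) : ℤ) = (q : ℤ) ^ 6 - 1 := by
    rw [Nat.cast_sub (Nat.one_le_pow _ _ hq1)]; simp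
  have e5 : ((q ^ 2 - 1 : ℕ) : ℤ) = (q : ℤ) ^ 2 - 1 := by
    rw [Nat.cast_sub (Nat.one_le_pow _ _ hq1)]; simp
  have hN' : ((q : ℤ) - 1) * (N : ℤ) = ((q : ℤ) ^ 3 - 1) * ((q : ℤ) ^ 3 - q) * ((q : ℤ) ^ 3 - (q : ℤ) ^ 2) := by
    rw [← e0, ← e1, ← e2, ← e3]
    exact_mod_cast hN
  have hne : ((q : ℤ) - 1) ≠ 0 := by
    have : (1 : ℤ) < q := by exact_mod_cast h1
    omega
  have key : (((q ^ 6 + q ^ 3) * N : ℕ) : ℤ) = ((q ^ 6 * (q ^ 6 - 1) * (q ^ 2 - 1) : ℕ) : ℤ) := by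
    rw [Nat.cast_mul, Nat.cast_mul, Nat.cast_mul, e4, e5]
    push_cast
    apply mul_left_cancel₀ hne
    linear_combination ((q : ℤ) ^ 6 + (q : ℤ) ^ 3) * hN'
  exact_mod_cast key

/-- the order of `G₂(F)` in the octonion model -/
theorem card_G2 [Fintype F] :
    Nat.card (G2 F) = Fintype.card F ^ 6 * (Fintype.card F ^ 6 - 1) * (Fintype.card F ^ 2 - 1) := by
  have h1 := card_G2_eq_mul (F := F) (fun x hx => exists_act_e1_eq hx) exists_iota_eq_of_act_e1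
  rw [card_isNTIdem] at h1
  rw [h1]
  apply card_arith _ _ Fintype.one_lt_card
  have h2 := Cfsg.Agent.Lib.Helper1.card_SL_field (F := F) 3 (by norm_num)
  rw [h2, Fin.prod_univ_three]
  simp

theorem two_ne_zero_of_odd_card [Fintype F] (hF : Odd (Fintype.card F)) : (2 : F) ≠ 0 := by
  intro h
  have hc : CharP F 2 := CharTwo.of_one_ne_zero_of_two_eq_zero one_ne_zero h
  obtain ⟨n, -, hn⟩ := FiniteField.card F 2
  rw [hn] at hF
  have : Even (2 ^ (n : ℕ)) := (Nat.even_pow' n.ne_zero).mpr even_two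
  exact (Nat.not_even_iff_odd.mpr hF) this

/-- the Sylow 2-subgroups of `G₂(F)`, `|F|` odd, have an elementary abelian abelianisation -/
theorem sqComm_G2 [Fintype F] (hF : Odd (Fintype.card F)) : SqComm (G2 F) := by
  have hq1 : 1 < Fintype.card F := Fintype.one_lt_card
  have h2 : (2 : F) ≠ 0 := two_ne_zero_of_odd_card hF
  have hu : ∃ u ∈ T2 F, Matrix.GeneralLinearGroup.det u = -1 :=
    exists_mem_T2_det_eq (-1 : Fˣ) ⟨1, by simp⟩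
  have hP := card_P0 (F := F) hF
  have : Fact (Nat.Prime 2) := ⟨Nat.prime_two⟩
  apply sqComm_of_subgroup (P0 F) (IsPGroup.of_card hP) _ (genSq_P0 h2 hu)
  apply Cfsg.Agent.Lib.Helper7.OrdTwoAdic.not_two_dvd_index_of_card
  rw [hP, card_G2, Cfsg.Agent.Lib.Helper7.OrdTwoAdic.val2_card_G2 hF hq1]

end Cfsg.Agent.Lib.Helper6.G2O
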