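import Mathlib
import Cfsg.Prelude.Def_BaumannBlocks
import Cfsg.Prelude.Def_PLocal
import Cfsg.Agent.Lib.Helper6.ChermakDelgado4

set_option autoImplicit false

/-! S3008: parts (a), (c), (d). -/

namespace Cfsg.Agent.Lib.Helper6

open scoped Pointwise
open Cfsg

variable {S : Type*} [Group S]

/-- `Q J(P)` is centrally large for a centrally large `Q`. -/
theorem glue_cl_sup_thompsonA [Finite S] (Q : Subgroup S) (hQ : IsCentrallyLarge Q) :
    IsCentrallyLarge (Q ⊔ thompsonSubgroupA S) := by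
  obtain ⟨A₀, hA₀⟩ := exists_maxAbelian (S := S)
  have h1 : IsCentrallyLarge (sSup ((fun A => Q ⊔ A) '' maxAbelianSubgroups S)) := by
    have hne : ((fun A => Q ⊔ A) '' maxAbelianSubgroups S).Nonempty := ⟨Q ⊔ A₀, A₀, hA₀, rfl⟩
    refine isCentrallyLarge_sSup _ hne ?_
    rintro _ ⟨A, hA, rfl⟩
    exact (cl_maxAbelian Q A hQ hA).2.1
  have h2 : sSup ((fun A => Q ⊔ A) '' maxAbelianSubgroups S) = Q ⊔ thompsonSubgroupA S := by
    apply le_antisymm
    · apply sSup_le
      rintro _ ⟨A, hA, rfl⟩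
      exact sup_le_sup_left (le_sSup hA) Q
    · apply sup_le
      · exact le_sup_left.trans (le_sSup ⟨A₀, hA₀, rfl⟩)
      · apply sSup_le
        intro A hA
        exact le_sup_right.trans (le_sSup ⟨A, hA, rfl⟩)
  rw [← h2]
  exact h1

/-- (a): `C_P(Z(J(P))) ≤ Q J(P)` for every centrally large `Q`. -/
theorem glue_centralizer_center_thompsonA_le [Finite S] (Q : Subgroup S) (hQ : IsCentrallyLarge Q) :
    Subgroup.centralizer ((thompsonSubgroupA S ⊓ Subgroup.centralizer (thompsonSubgroupA S : Set S) :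
      Subgroup S) : Set S) ≤ Q ⊔ thompsonSubgroupA S := by
  have hQ₁ := glue_cl_sup_thompsonA Q hQ
  obtain ⟨A₀, hA₀⟩ := exists_maxAbelian (S := S)
  have hJle : thompsonSubgroupA S ≤ Q ⊔ thompsonSubgroupA S := le_sup_right
  have hC : Subgroup.centralizer ((Q ⊔ thompsonSubgroupA S : Subgroup S) : Set S) ≤
      thompsonSubgroupA S ⊓ Subgroup.centralizer (thompsonSubgroupA S : Set S) := by
    refine le_inf ?_ (Subgroup.centralizer_le (fun y hy => hJle hy))
    have h1 : Subgroup.centralizer ((Q ⊔ thompsonSubgroupA S : Subgroup S) : Set S) ≤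
        Subgroup.centralizer (A₀ : Set S) :=
      Subgroup.centralizer_le (fun y hy => hJle (le_sSup hA₀ hy))
    rw [maxAbelian_centralizer_eq hA₀] at h1
    exact h1.trans (le_sSup hA₀)
  obtain ⟨hQ1, -⟩ := isCentrallyLarge_centralizer _ hQ₁
  obtain ⟨-, hCC⟩ := cd_centralizer _ hQ1
  have h5 := Subgroup.centralizer_le (fun y hy => hC hy)
  rw [← hCC] at h5
  exact h5

/-- (c) -/
theorem glue_mcl_abelian_of_card [Finite S] (hJ : thompsonSubgroupA S = ⊤)
    (hd : ∀ A ∈ maxAbelianSubgroups S,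
      Nat.card ↥A ^ 2 = Nat.card S * Nat.card ↥(Subgroup.center S))
    (Q : Subgroup S) (hQ : IsMinimalCentrallyLarge Q) : IsMulCommutative ↥Q := by
  obtain ⟨A₀, hA₀⟩ := exists_maxAbelian (S := S)
  have htop : IsCentrallyLarge (⊤ : Subgroup S) := by
    have := glue_cl_sup_thompsonA Q hQ.1
    rwa [hJ, sup_top_eq] at this
  have hzt : zm (⊤ : Subgroup S) = Nat.card S * Nat.card ↥(Subgroup.center S) := by
    rw [zm_eq, Subgroup.card_top, top_inf_eq, Subgroup.coe_top, Subgroup.centralizer_univ]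
  have hA₀cl : IsCentrallyLarge A₀ := by
    show zm A₀ = _
    have h1 : zm (⊤ : Subgroup S) = maxCentralProduct S := htop
    rw [zm_of_isMulCommutative hA₀.1, ← h1, hzt, ← hd A₀ hA₀, sq]
  obtain ⟨R, hR, hRle⟩ := exists_isMinimalCentrallyLarge_le A₀ hA₀cl
  have hRab : IsMulCommutative ↥R := isMulCommutative_of_le hA₀.1 hRle
  exact ((min_cl_abelian_iff R hR hRab Q).mp hQ).1

/-- (d) -/
theorem glue_centralizer_center_thompsonA_eq [Finite S]
    (hab : ∀ Q : Subgroup S, IsMinimalCentrallyLarge Q → IsMulCommutative ↥Q) :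
    Subgroup.centralizer ((thompsonSubgroupA S ⊓ Subgroup.centralizer (thompsonSubgroupA S : Set S) :
      Subgroup S) : Set S) = thompsonSubgroupA S := by
  obtain ⟨R₀, hR₀⟩ := exists_isCentrallyLarge (S := S)
  obtain ⟨R, hR, -⟩ := exists_isMinimalCentrallyLarge_le R₀ hR₀
  have hRab := hab R hR
  obtain ⟨A₀, hA₀⟩ := exists_maxAbelian (S := S)
  have hJ : IsCentrallyLarge (thompsonSubgroupA S) := by
    have hne : (maxAbelianSubgroups S).Nonempty := ⟨A₀, hA₀⟩
    refine isCentrallyLarge_sSup _ hne ?_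
    intro A hA
    exact ((min_cl_abelian_iff R hR hRab A).mpr hA).1
  apply le_antisymm
  · have := glue_centralizer_center_thompsonA_le _ hJ
    rwa [sup_idem] at this
  · rw [Subgroup.le_centralizer_iff]
    exact inf_le_right

end Cfsg.Agent.Lib.Helper6
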