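import Mathlib
import Cfsg.Prelude.Def_Solvable
import Cfsg.Prelude.Def_CaseTheorems
import Cfsg.Agent.Lib.Helper6.PPrimeCore

set_option autoImplicit false

/-! S4385, package A1: the quotient by the odd core when `|X : C_X(Q)| = 6`. -/

namespace Cfsg.Agent.Lib.Helper8.GDih

open Cfsg Cfsg.Agent.Lib.Helper6

variable {X : Type*} [Group X] [Finite X]

/-- a 2-element whose `m`-th power is trivial, `m` odd, is trivial -/
theorem a1_eq_one_of_pow {Q : Subgroup X} (hQ2 : IsPGroup 2 Q) {m : ℕ} (hm : Odd m) {q : X}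
    (hq : q ∈ Q) (hqm : q ^ m = 1) : q = 1 := by
  obtain ⟨j, hj⟩ := hQ2 ⟨q, hq⟩
  have hj' : q ^ 2 ^ j = 1 := by
    have := congrArg Subtype.val hj
    simpa using this
  have h1 : orderOf q ∣ m := orderOf_dvd_of_pow_eq_one hqm
  have h2 : orderOf q ∣ 2 ^ j := orderOf_dvd_of_pow_eq_one hj'
  have hcop : Nat.Coprime (2 ^ j) m := by
    apply Nat.Coprime.pow_left
    rcases hm with ⟨r, rfl⟩
    simp
  have h3 : orderOf q ∣ 1 := by
    have := Nat.dvd_gcd h2 h1
    rwa [hcop] at this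
  exact orderOf_eq_one_iff.mp (Nat.dvd_one.mp h3)

/-- the normal complement to the central Sylow 2-subgroup `Q` of `C_X(Q)` -/
theorem a1_exists_complement (Q : Subgroup X) [Q.Normal] (hQ2 : IsPGroup 2 Q)
    (hQab : ∀ a ∈ Q, ∀ b ∈ Q, a * b = b * a) (m : ℕ) (hm : Odd m)
    (hC : Nat.card (Subgroup.centralizer (Q : Set X)) = Nat.card Q * m) :
    ∃ K : Subgroup X, K.Normal ∧ Nat.card K = m ∧
      ∀ c ∈ Subgroup.centralizer (Q : Set X), ∃ q ∈ Q, ∃ k ∈ K, c = q * k := by
  classical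
  set C : Subgroup X := Subgroup.centralizer (Q : Set X) with hCdef
  have hQC : Q ≤ C := by
    intro a ha
    rw [hCdef, Subgroup.mem_centralizer_iff]
    intro b hb
    exact hQab b hb a ha
  have hCn : C.Normal := Subgroup.normal_centralizer
  set Q' : Subgroup ↥C := Q.subgroupOf C with hQ'
  have hQ'n : Q'.Normal := Subgroup.normal_subgroupOf
  have hcQ' : Nat.card Q' = Nat.card Q :=
    Nat.card_congr (Subgroup.subgroupOfEquivOfLe hQC).toEquiv
  have hQpos : 0 < Nat.card Q := Nat.card_pos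
  have hidx : Q'.index = m := by
    have h1 := Subgroup.card_mul_index Q'
    rw [hcQ', hC] at h1
    exact Nat.eq_of_mul_eq_mul_left hQpos h1
  have hcop : Nat.Coprime (Nat.card Q') Q'.index := by
    rw [hcQ', hidx]
    have : Fact (Nat.Prime 2) := ⟨Nat.prime_two⟩
    obtain ⟨j, hj⟩ := (IsPGroup.iff_card (p := 2) (G := ↥Q)).mp hQ2
    rw [hj]
    apply Nat.Coprime.pow_left
    rcases hm with ⟨r, rfl⟩
    simp
  obtain ⟨K₀, hK₀⟩ := Subgroup.exists_right_complement'_of_coprime hcop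
  have hcK₀ : Nat.card K₀ = m := by
    have := hK₀.symm.index_eq_card
    rw [← this, hidx]
  -- characterisation of `K₀`
  have hchar : ∀ c : ↥C, c ∈ K₀ ↔ (c : X) ^ m = 1 := by
    intro c
    constructor
    · intro hc
      have h1 : (⟨c, hc⟩ : ↥K₀) ^ Nat.card K₀ = 1 := pow_card_eq_one'
      rw [hcK₀] at h1
      have h2 := congrArg (fun z : ↥K₀ => ((z : ↥C) : X)) h1
      simpa using h2
    · intro hc
      obtain ⟨⟨⟨q, hq⟩, ⟨k, hk⟩⟩, hqk, -⟩ :=
        (Subgroup.isComplement'_def.mp hK₀).existsUnique c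
      simp only at hqk
      have hqQ : (q : X) ∈ Q := Subgroup.mem_subgroupOf.mp hq
      have hcomm : Commute (q : X) (k : X) := by
        have hkC : (k : X) ∈ Subgroup.centralizer (Q : Set X) := k.2
        rw [Subgroup.mem_centralizer_iff] at hkC
        exact hkC _ hqQ
      have hkm : (k : X) ^ m = 1 := by
        have h1 : (⟨k, hk⟩ : ↥K₀) ^ Nat.card K₀ = 1 := pow_card_eq_one'
        rw [hcK₀] at h1
        have h2 := congrArg (fun z : ↥K₀ => ((z : ↥C) : X)) h1
        simpa using h2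
      have hqm : (q : X) ^ m = 1 := by
        have h1 : (c : X) = (q : X) * (k : X) := by
          rw [← hqk]; rfl
        rw [h1, hcomm.mul_pow, hkm, mul_one] at hc
        exact hc
      have hq1 : (q : X) = 1 := a1_eq_one_of_pow hQ2 hm hqQ hqm
      have hq1' : q = 1 := Subtype.ext hq1
      rw [← hqk, hq1', one_mul]
      exact hk
  refine ⟨K₀.map C.subtype, ?_, ?_, ?_⟩
  · constructor
    intro c hc x
    obtain ⟨c', hc', rfl⟩ := Subgroup.mem_map.mp hc
    have h1 : ((c' : X)) ^ m = 1 := (hchar c').mp hc'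
    have h2 : x * (c' : X) * x⁻¹ ∈ C := hCn.conj_mem _ c'.2 x
    have h3 : (x * (c' : X) * x⁻¹) ^ m = 1 := by
      rw [conj_pow, h1, mul_one, mul_inv_cancel]
    exact Subgroup.mem_map.mpr ⟨⟨_, h2⟩, (hchar ⟨_, h2⟩).mpr h3, rfl⟩
  · rw [Nat.card_congr (Subgroup.equivMapOfInjective K₀ C.subtype
      (Subgroup.subtype_injective C)).toEquiv.symm]
    exact hcK₀
  · intro c hc
    obtain ⟨⟨⟨q, hq⟩, ⟨k, hk⟩⟩, hqk, -⟩ :=
      (Subgroup.isComplement'_def.mp hK₀).existsUnique (⟨c, hc⟩ : ↥C)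
    simp only at hqk
    refine ⟨(q : X), Subgroup.mem_subgroupOf.mp hq, (k : X),
      Subgroup.mem_map.mpr ⟨k, hk, rfl⟩, ?_⟩
    have := congrArg (fun z : ↥C => (z : X)) hqk
    simpa using this.symm

/-- **A1**: the quotient by the odd core. -/
theorem a1_oddCore_quot (Q : Subgroup X) [Q.Normal]
    (hQ2 : IsPGroup 2 Q) (hQab : ∀ a ∈ Q, ∀ b ∈ Q, a * b = b * a)
    (hidx : (Subgroup.centralizer (Q : Set X)).index = 6) (n k : ℕ) (hn : Odd n)
    (hX : Nat.card X = n * 2 ^ k) (hQc : Nat.card Q * 2 = 2 ^ k) :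
    Nat.card (X ⧸ Cfsg.oddCore X) = 3 * 2 ^ k ∧
    Nat.card (Q.map (QuotientGroup.mk' (Cfsg.oddCore X))) = Nat.card Q ∧
    ∀ a : X ⧸ Cfsg.oddCore X,
      (∀ q ∈ Q.map (QuotientGroup.mk' (Cfsg.oddCore X)), a * q = q * a) →
      a ∈ Q.map (QuotientGroup.mk' (Cfsg.oddCore X)) := by
  classical
  have : Fact (Nat.Prime 2) := ⟨Nat.prime_two⟩
  set C : Subgroup X := Subgroup.centralizer (Q : Set X) with hCdef
  set O : Subgroup X := Cfsg.oddCore X with hOdef
  have hQC : Q ≤ C := by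
    intro a ha
    rw [hCdef, Subgroup.mem_centralizer_iff]
    intro b hb
    exact hQab b hb a ha
  have hQpos : 0 < Nat.card Q := Nat.card_pos
  -- `|C| = |Q| * m`
  have hQdvd : Nat.card Q ∣ Nat.card C := Subgroup.card_dvd_of_le hQC
  obtain ⟨m, hm⟩ := hQdvd
  have hCX : Nat.card C * 6 = Nat.card X := by
    rw [← hidx]; exact Subgroup.card_mul_index C
  have hn3 : n = 3 * m := by
    have h1 : Nat.card Q * m * 6 = n * (Nat.card Q * 2) := by
      rw [← hm, hCX, hX, hQc]
    have h2 : Nat.card Q * (m * 3 * 2) = Nat.card Q * (n * 2) := by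
      rw [← mul_assoc, ← mul_assoc] at *
      nlinarith [h1]
    have h3 := Nat.eq_of_mul_eq_mul_left hQpos h2
    omega
  have hmodd : Odd m := by
    rw [hn3] at hn
    exact (Nat.odd_mul.mp hn).2
  obtain ⟨K, hKn, hKc, hKdec⟩ := a1_exists_complement Q hQ2 hQab m hmodd hm
  have hmpos : 0 < m := by
    rcases hmodd with ⟨r, rfl⟩; omega
  -- `K ≤ O`
  have hKO : K ≤ O := by
    apply le_pPrimeCore hKn
    rw [hKc]
    rcases hmodd with ⟨r, rfl⟩
    simp
  have hOcop : (Nat.card O).Coprime 2 := pPrimeCore_coprime 2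
  have hQO : Q ⊓ O = ⊥ := isPGroup_inf_coprime_eq_bot hOcop hQ2
  have hOn : O.Normal := Cfsg.pPrimeCore_normal 2 X
  have hQn : Q.Normal := inferInstance
  have hdisj : Disjoint Q O := disjoint_iff.mpr hQO
  -- `O ≤ C`
  have hOC : O ≤ C := by
    intro o ho
    rw [hCdef, Subgroup.mem_centralizer_iff]
    intro q hq
    exact (Subgroup.commute_of_normal_of_disjoint Q O hQn hOn hdisj q o hq ho).eq
  -- `|O| = m`
  have hOdvd : Nat.card O ∣ m := by
    have h1 : Nat.card O ∣ Nat.card Q * m := hm ▸ Subgroup.card_dvd_of_le hOC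
    obtain ⟨j, hj⟩ := (IsPGroup.iff_card (p := 2) (G := ↥Q)).mp hQ2
    rw [hj] at h1
    exact (Nat.Coprime.pow_right j hOcop).dvd_of_dvd_mul_left h1
  have hOc : Nat.card O = m := by
    apply Nat.dvd_antisymm hOdvd
    rw [← hKc]
    exact Subgroup.card_dvd_of_le hKO
  refine ⟨?_, ?_, ?_⟩
  · have h1 := Subgroup.card_eq_card_quotient_mul_card_subgroup O
    rw [hX, hOc, hn3] at h1
    have h2 : m * (3 * 2 ^ k) = m * Nat.card (X ⧸ O) := by
      rw [mul_comm m (Nat.card (X ⧸ O)), ← h1]; ring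
    exact (Nat.eq_of_mul_eq_mul_left hmpos h2).symm
  · -- the restriction of the quotient map to `Q` is injective
    have hinj : Function.Injective ((QuotientGroup.mk' O).comp Q.subtype) := by
      rw [injective_iff_map_eq_one]
      intro q hq
      have h1 : (q : X) ∈ O := by
        have : (QuotientGroup.mk' O) (q : X) = 1 := hq
        rwa [QuotientGroup.mk'_apply, QuotientGroup.eq_one_iff] at this
      have h2 : (q : X) ∈ Q ⊓ O := ⟨q.2, h1⟩
      rw [hQO, Subgroup.mem_bot] at h2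
      exact Subtype.ext h2
    have hrange : Q.map (QuotientGroup.mk' O) = ((QuotientGroup.mk' O).comp Q.subtype).range := by
      rw [MonoidHom.range_comp, Subgroup.range_subtype]
    rw [hrange]
    exact Nat.card_congr (MonoidHom.ofInjective hinj).toEquiv.symm
  · intro a ha
    obtain ⟨a, rfl⟩ := QuotientGroup.mk'_surjective O a
    -- `a` centralises `Q`
    have haC : a ∈ C := by
      rw [hCdef, Subgroup.mem_centralizer_iff]
      intro q hq
      have h1 := ha ((QuotientGroup.mk' O) q) (Subgroup.mem_map_of_mem _ hq)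
      have h2 : a * q * a⁻¹ * q⁻¹ ∈ O := by
        have : (QuotientGroup.mk' O) (a * q * a⁻¹ * q⁻¹) = 1 := by
          rw [map_mul, map_mul, map_mul, h1, map_inv, map_inv]
          group
        rwa [QuotientGroup.mk'_apply, QuotientGroup.eq_one_iff] at this
      have h3 : a * q * a⁻¹ * q⁻¹ ∈ Q :=
        Q.mul_mem (hQn.conj_mem q hq a) (Q.inv_mem hq)
      have h4 : a * q * a⁻¹ * q⁻¹ ∈ Q ⊓ O := ⟨h3, h2⟩
      rw [hQO, Subgroup.mem_bot] at h4
      have h5 : a * q = q * a := by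
        have := congrArg (fun z => z * q * a) h4
        simpa [mul_assoc] using this
      exact h5.symm
    obtain ⟨q, hq, c, hc, rfl⟩ := hKdec a haC
    refine Subgroup.mem_map.mpr ⟨q, hq, ?_⟩
    rw [map_mul]
    have : (QuotientGroup.mk' O) c = 1 := by
      rw [QuotientGroup.mk'_apply, QuotientGroup.eq_one_iff]
      exact hKO hc
    rw [this, mul_one]

end Cfsg.Agent.Lib.Helper8.GDih
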