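import Mathlib
import Cfsg.Prelude.Def_Solvable
import Cfsg.Prelude.Def_CaseTheorems

set_option autoImplicit false

/-! S4385, package A2: `|X : C_X(Q)| = 6`. -/

namespace Cfsg.Agent.Lib.Helper8.GDih

/-- abstract version: a group generated by `r` of order 3 and `a` of order 2 inverting it
has order 6 -/
theorem a2_card_six {Y : Type*} [Group Y] [Finite Y] (a r : Y) (ha : a * a = 1) (ha1 : a ≠ 1)
    (hr3 : r ^ 3 = 1) (hr1 : r ≠ 1) (hinv : a * r * a⁻¹ = r⁻¹)
    (hgen : Subgroup.closure {a, r} = ⊤) : Nat.card Y = 6 := by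
  classical
  have hainv : a⁻¹ = a := inv_eq_of_mul_eq_one_right ha
  have hrinv : r⁻¹ = r ^ 2 := by
    apply inv_eq_of_mul_eq_one_right
    rw [← pow_succ']; exact hr3
  have har : a * r = r ^ 2 * a := by
    have h1 : a * r = r⁻¹ * a := by
      have := congrArg (fun z => z * a) hinv
      simpa [mul_assoc] using this
    rw [h1, hrinv]
  have har' : a * r ^ 2 = r * a := by
    rw [pow_two, ← mul_assoc, har, mul_assoc, har, ← mul_assoc, ← pow_add]
    have : r ^ (2 + 2) = r := by
      rw [show 2 + 2 = 3 + 1 from rfl, pow_succ, hr3, one_mul]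
    rw [this]
  -- normal form
  have hform : ∀ g : Y, ∃ i : ℕ, g = r ^ i ∨ g = r ^ i * a := by
    intro g
    have hg : g ∈ Subgroup.closure ({a, r} : Set Y) := by rw [hgen]; trivial
    induction hg using Subgroup.closure_induction_right with
    | one => exact ⟨0, Or.inl (by simp)⟩
    | mul_right x hx y hy ih =>
      obtain ⟨i, hi | hi⟩ := ih
      · rcases hy with rfl | hy
        · exact ⟨i, Or.inr (by rw [hi])⟩
        · rw [Set.mem_singleton_iff] at hy
          subst hy
          exact ⟨i + 1, Or.inl (by rw [hi, pow_succ])⟩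
      · rcases hy with rfl | hy
        · exact ⟨i, Or.inl (by rw [hi, mul_assoc, ha, mul_one])⟩
        · rw [Set.mem_singleton_iff] at hy
          subst hy
          exact ⟨i + 2, Or.inr (by rw [hi, mul_assoc, har, ← mul_assoc, ← pow_add])⟩
    | mul_inv_cancel x hx y hy ih =>
      obtain ⟨i, hi | hi⟩ := ih
      · rcases hy with rfl | hy
        · exact ⟨i, Or.inr (by rw [hi, hainv])⟩
        · rw [Set.mem_singleton_iff] at hy
          subst hy
          exact ⟨i + 2, Or.inl (by rw [hi, hrinv, ← pow_add])⟩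
      · rcases hy with rfl | hy
        · exact ⟨i, Or.inl (by rw [hi, hainv, mul_assoc, ha, mul_one])⟩
        · rw [Set.mem_singleton_iff] at hy
          subst hy
          exact ⟨i + 1, Or.inr (by rw [hi, hrinv, mul_assoc, har', ← mul_assoc, ← pow_succ])⟩
  -- upper bound
  have hle : Nat.card Y ≤ 6 := by
    let f : Fin 3 × Fin 2 → Y := fun ij => r ^ (ij.1 : ℕ) * a ^ (ij.2 : ℕ)
    have hf : Function.Surjective f := by
      intro g
      obtain ⟨i, hi | hi⟩ := hform g
      · refine ⟨(⟨i % 3, Nat.mod_lt _ (by norm_num)⟩, 0), ?_⟩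
        simp only [f]
        rw [hi, pow_eq_pow_mod i hr3]
        simp
      · refine ⟨(⟨i % 3, Nat.mod_lt _ (by norm_num)⟩, 1), ?_⟩
        simp only [f]
        rw [hi, pow_eq_pow_mod i hr3]
        simp
    have := Nat.card_le_card_of_surjective f hf
    simpa using this
  -- divisibility
  have : Fact (Nat.Prime 2) := ⟨Nat.prime_two⟩
  have : Fact (Nat.Prime 3) := ⟨Nat.prime_three⟩
  have ho3 : orderOf r = 3 := orderOf_eq_prime hr3 hr1
  have ho2 : orderOf a = 2 := orderOf_eq_prime (by rw [pow_two]; exact ha) ha1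
  have h3 : 3 ∣ Nat.card Y := ho3 ▸ orderOf_dvd_natCard r
  have h2 : 2 ∣ Nat.card Y := ho2 ▸ orderOf_dvd_natCard a
  have h6 : 6 ∣ Nat.card Y := by
    have : Nat.Coprime 2 3 := by norm_num
    exact this.mul_dvd_of_dvd_of_dvd h2 h3
  have hpos : 0 < Nat.card Y := Nat.card_pos
  obtain ⟨c, hc⟩ := h6
  have : c = 1 := by nlinarith
  omega

variable {X : Type*} [Group X] [Finite X]

/-- **A2**: the centraliser of `Q` has index 6. -/
theorem a2_index_six (Q : Subgroup X) [Q.Normal]
    (hQab : ∀ a ∈ Q, ∀ b ∈ Q, a * b = b * a) (a r : X) (ha : a * a = 1)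
    (hinv : a * r * a⁻¹ = r⁻¹) (hgen : Q ⊔ Subgroup.closure {a, r} = ⊤)
    (hr3 : r ^ 3 ∈ Subgroup.centralizer (Q : Set X)) (hr : r ∉ Subgroup.centralizer (Q : Set X))
    (ha' : a ∉ Subgroup.centralizer (Q : Set X)) :
    (Subgroup.centralizer (Q : Set X)).index = 6 := by
  classical
  set C : Subgroup X := Subgroup.centralizer (Q : Set X) with hCdef
  have hCn : C.Normal := Subgroup.normal_centralizer
  have hQC : Q ≤ C := by
    intro x hx
    rw [hCdef, Subgroup.mem_centralizer_iff]
    intro y hy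
    exact hQab y hy x hx
  rw [Subgroup.index_eq_card]
  set π : X →* X ⧸ C := QuotientGroup.mk' C with hπ
  have hker : ∀ x : X, π x = 1 ↔ x ∈ C := by
    intro x
    rw [hπ, QuotientGroup.mk'_apply, QuotientGroup.eq_one_iff]
  apply a2_card_six (π a) (π r)
  · rw [← map_mul, ha, map_one]
  · intro h; exact ha' ((hker a).mp h)
  · rw [← map_pow]; exact (hker _).mpr hr3
  · intro h; exact hr ((hker r).mp h)
  · rw [← map_inv, ← map_mul, ← map_mul, hinv, map_inv]
  · have h1 : (Q ⊔ Subgroup.closure {a, r}).map π = ⊤ := by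
      rw [hgen]
      exact Subgroup.map_top_of_surjective π (QuotientGroup.mk'_surjective C)
    rw [Subgroup.map_sup, MonoidHom.map_closure, Set.image_pair] at h1
    have h2 : Q.map π = ⊥ := by
      rw [Subgroup.eq_bot_iff_forall]
      rintro _ ⟨q, hq, rfl⟩
      exact (hker q).mpr (hQC hq)
    rw [h2, bot_sup_eq] at h1
    exact h1

end Cfsg.Agent.Lib.Helper8.GDih
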