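import Mathlib
import Cfsg.Prelude.Def_Solvable
import Cfsg.Prelude.Def_CaseTheorems
import Cfsg.Agent.Lib.Helper6.PCore

set_option autoImplicit false

/-! S4385, package D0: the dihedral quotient `H / O_2(H)`. -/

namespace Cfsg.Agent.Lib.Helper8.GDih

open Cfsg Cfsg.Agent.Lib.Helper6
open scoped Pointwise

/-- every central element of a dihedral group squares to `1` -/
theorem d0_center_sq {n : ℕ} (c : DihedralGroup n) (hc : c ∈ Subgroup.center (DihedralGroup n)) :
    c * c = 1 := by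
  rcases c with i | i
  · have h1 := (Subgroup.mem_center_iff.mp hc) (DihedralGroup.sr 0)
    rw [DihedralGroup.sr_mul_r, DihedralGroup.r_mul_sr] at h1
    have h2 : (0 : ZMod n) + i = 0 - i := DihedralGroup.sr.inj h1
    rw [DihedralGroup.r_mul_r, DihedralGroup.one_def]
    congr 1
    have : i = -i := by simpa using h2
    linear_combination this
  · exact DihedralGroup.sr_mul_self i

/-- a subgroup of a dihedral group `D_n`, `n` odd, containing `sr i` and `sr (i + 2)` is everything -/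
theorem d0_dihedral_top {n : ℕ} (hn : Odd n) (M : Subgroup (DihedralGroup n)) (i : ZMod n)
    (h1 : DihedralGroup.sr i ∈ M) (h2 : DihedralGroup.sr (i + 1 + 1) ∈ M) : M = ⊤ := by
  have hnpos : 0 < n := by rcases hn with ⟨r, rfl⟩; omega
  have : NeZero n := ⟨by omega⟩
  have hr2 : DihedralGroup.r (2 : ZMod n) ∈ M := by
    have := M.mul_mem h1 h2
    rw [DihedralGroup.sr_mul_sr] at this
    have h : i + 1 + 1 - i = (2 : ZMod n) := by ring
    rwa [h] at this
  have hr2m : ∀ m : ℕ, DihedralGroup.r ((2 : ZMod n) * (m : ZMod n)) ∈ M := by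
    intro m
    have := M.pow_mem hr2 m
    rwa [DihedralGroup.r_pow] at this
  have hcop : Nat.Coprime 2 n := by
    rcases hn with ⟨r, rfl⟩; simp
  have h2inv : (2 : ZMod n) * (2 : ZMod n)⁻¹ = 1 := by
    have := ZMod.coe_mul_inv_eq_one 2 hcop
    simpa using this
  have hr : ∀ j : ZMod n, DihedralGroup.r j ∈ M := by
    intro j
    have := hr2m ((2 : ZMod n)⁻¹ * j).val
    rw [ZMod.natCast_zmod_val, ← mul_assoc, h2inv, one_mul] at this
    exact this
  rw [eq_top_iff]
  intro g _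
  rcases g with j | j
  · exact hr j
  · have := M.mul_mem h1 (hr (j - i))
    rw [DihedralGroup.sr_mul_r] at this
    have h : i + (j - i) = j := by ring
    rwa [h] at this

variable {K : Type*} [Group K] [Finite K]

/-- the abstract statement inside `K = ↥H` -/
theorem d0_abstract (hO : Cfsg.pCore 2 K ≠ ⊥) (n : ℕ) (hn : 2 ≤ n)
    (e : K ⧸ Cfsg.pCore 2 K ≃* DihedralGroup n)
    (P : Subgroup K) (hP : IsPGroup 2 P) (hPsyl : ¬ 2 ∣ P.index) :
    ∃ x : K, P ⊔ MulAut.conj x⁻¹ • P = ⊤ ∧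
      (P ⊓ MulAut.conj x⁻¹ • P).relIndex (MulAut.conj x⁻¹ • P) = 2 ∧
      P ⊓ MulAut.conj x⁻¹ • P ≠ ⊥ := by
  classical
  have : Fact (Nat.Prime 2) := ⟨Nat.prime_two⟩
  have : NeZero n := ⟨by omega⟩
  set Q : Subgroup K := Cfsg.pCore 2 K with hQdef
  have hQn : Q.Normal := Cfsg.pCore_normal 2 K
  have hQ2 : IsPGroup 2 Q := pCore_isPGroup 2
  set φ : K →* DihedralGroup n := e.toMonoidHom.comp (QuotientGroup.mk' Q) with hφ
  have hφs : Function.Surjective φ := by
    rw [hφ]
    exact e.surjective.comp (QuotientGroup.mk'_surjective Q)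
  have hker : ∀ g : K, φ g = 1 ↔ g ∈ Q := by
    intro g
    rw [hφ]
    simp only [MonoidHom.coe_comp, Function.comp_apply, MulEquiv.coe_toMonoidHom,
      QuotientGroup.mk'_apply]
    rw [MulEquiv.map_eq_one_iff, QuotientGroup.eq_one_iff]
  have hkerφ : φ.ker = Q := by
    ext g; rw [MonoidHom.mem_ker]; exact hker g
  -- Step 1: `n` is odd
  have hnodd : Odd n := by
    by_contra hne
    rw [Nat.not_odd_iff_even] at hne
    obtain ⟨m, hm⟩ := hne
    -- the preimage of the centre is a normal 2-subgroup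
    set N : Subgroup K := (Subgroup.center (DihedralGroup n)).comap φ with hN
    have hNn : N.Normal := Subgroup.Normal.comap inferInstance φ
    have hN2 : IsPGroup 2 N := by
      rintro ⟨g, hg⟩
      have hg' : φ g ∈ Subgroup.center (DihedralGroup n) := hg
      have h1 : φ (g * g) = 1 := by rw [map_mul]; exact d0_center_sq _ hg'
      have h2 : g * g ∈ Q := (hker _).mp h1
      obtain ⟨j, hj⟩ := hQ2 ⟨g * g, h2⟩
      refine ⟨j + 1, ?_⟩
      have h3 : (g * g) ^ 2 ^ j = 1 := by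
        have := congrArg Subtype.val hj
        simpa using this
      apply Subtype.ext
      simp only [Subgroup.coe_pow, Subgroup.coe_one]
      rw [pow_succ, pow_mul', pow_two]
      exact h3
    have hNQ : N ≤ Q := le_pCore hNn hN2
    -- but the centre contains `r m ≠ 1`
    have hz : DihedralGroup.r (m : ZMod n) ∈ Subgroup.center (DihedralGroup n) := by
      rw [Subgroup.mem_center_iff]
      intro g
      rcases g with j | j
      · rw [DihedralGroup.r_mul_r, DihedralGroup.r_mul_r, add_comm]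
      · rw [DihedralGroup.sr_mul_r, DihedralGroup.r_mul_sr]
        congr 1
        have h0 : ((m : ZMod n) + (m : ZMod n)) = 0 := by
          have : ((m + m : ℕ) : ZMod n) = 0 := by rw [← hm]; exact ZMod.natCast_self n
          rwa [Nat.cast_add] at this
        linear_combination h0
    obtain ⟨g, hg⟩ := hφs (DihedralGroup.r (m : ZMod n))
    have hgN : g ∈ N := by
      show φ g ∈ Subgroup.center (DihedralGroup n)
      rw [hg]; exact hz
    have hgQ := hNQ hgN
    rw [← hker, hg, DihedralGroup.one_def] at hgQ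
    have h3 : (m : ZMod n) = 0 := DihedralGroup.r.inj hgQ
    rw [ZMod.natCast_eq_zero_iff] at h3
    have : n ≤ m := Nat.le_of_dvd (by omega) h3
    omega
  -- Step 2: 2-subgroups of odd index
  have hidxQ : Q.index = 2 * n := by
    rw [Subgroup.index_eq_card, Nat.card_congr e.toEquiv, DihedralGroup.nat_card]
  have hsyl : ∀ R : Subgroup K, IsPGroup 2 R → ¬ 2 ∣ R.index →
      Q ≤ R ∧ Q.relIndex R = 2 ∧ R.index = n := by
    intro R hR hRi
    have hQR : Q ≤ R := by
      have := pCore_le_sylow (hR.toSylow hRi)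
      rwa [IsPGroup.toSylow_coe] at this
    have h1 := Subgroup.relIndex_mul_index hQR
    rw [hidxQ] at h1
    obtain ⟨j, hj⟩ := (IsPGroup.iff_card (p := 2) (G := ↥R)).mp hR
    have h2 : Q.relIndex R ∣ 2 ^ j := hj ▸ Subgroup.relIndex_dvd_card Q R
    obtain ⟨a, -, ha⟩ := (Nat.dvd_prime_pow Nat.prime_two).mp h2
    rw [ha] at h1 ⊢
    have hRodd : Odd R.index := by
      rw [← Nat.not_even_iff_odd, even_iff_two_dvd]; exact hRi
    rcases a with _ | _ | a
    · exfalso
      rw [pow_zero, one_mul] at h1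
      rw [h1] at hRi; exact hRi (dvd_mul_right 2 n)
    · refine ⟨hQR, by norm_num, ?_⟩
      rw [zero_add, pow_one] at h1
      exact Nat.eq_of_mul_eq_mul_left (by norm_num) h1
    · exfalso
      have h3 : 2 ^ (a + 1 + 1) * R.index = 2 * (2 * (2 ^ a * R.index)) := by ring
      rw [h3] at h1
      have h4 : 2 * (2 ^ a * R.index) = n := Nat.eq_of_mul_eq_mul_left (by norm_num) h1
      rw [← h4] at hnodd
      exact (Nat.not_even_iff_odd.mpr hnodd) (even_two_mul _)
  obtain ⟨hQP, hQPi, hPi⟩ := hsyl P hP hPsyl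
  -- an element of `P` outside `Q`
  have hPQ : ¬ P ≤ Q := by
    intro h
    have := Subgroup.relIndex_eq_one.mpr h
    rw [hQPi] at this; omega
  obtain ⟨g₀, hg₀P, hg₀Q⟩ := SetLike.not_le_iff_exists.mp hPQ
  have hg₀1 : φ g₀ ≠ 1 := fun h => hg₀Q ((hker g₀).mp h)
  obtain ⟨i, hi⟩ : ∃ i : ZMod n, φ g₀ = DihedralGroup.sr i := by
    rcases hφg : φ g₀ with j | j
    · exfalso
      obtain ⟨a, ha⟩ := hP ⟨g₀, hg₀P⟩
      have h1 : g₀ ^ 2 ^ a = 1 := by
        have := congrArg Subtype.val ha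
        simpa using this
      have h2 : (DihedralGroup.r j) ^ 2 ^ a = 1 := by
        rw [← hφg, ← map_pow, h1, map_one]
      rw [DihedralGroup.r_pow, DihedralGroup.one_def] at h2
      have h3 : j * ((2 ^ a : ℕ) : ZMod n) = 0 := DihedralGroup.r.inj h2
      have hcop : Nat.Coprime (2 ^ a) n := by
        apply Nat.Coprime.pow_left
        rcases hnodd with ⟨r, rfl⟩; simp
      have hu : IsUnit (((2 ^ a : ℕ)) : ZMod n) := (ZMod.isUnit_iff_coprime _ _).mpr hcop
      have h4 : j = 0 := (hu.mul_left_eq_zero).mp h3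
      apply hg₀1
      rw [hφg, h4, DihedralGroup.r_zero]
    · exact ⟨j, rfl⟩
  obtain ⟨x, hx⟩ := hφs (DihedralGroup.r 1)
  refine ⟨x, ?_⟩
  set P₂ : Subgroup K := MulAut.conj x⁻¹ • P with hP₂
  have hconj : x⁻¹ * g₀ * x ∈ P₂ := by
    rw [hP₂, Subgroup.mem_pointwise_smul_iff_inv_smul_mem]
    simp only [MulAut.smul_def, map_inv, inv_inv, MulAut.conj_apply]
    have : x * (x⁻¹ * g₀ * x) * x⁻¹ = g₀ := by group
    rw [this]; exact hg₀P
  have hφconj : φ (x⁻¹ * g₀ * x) = DihedralGroup.sr (i + 1 + 1) := by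
    rw [map_mul, map_mul, map_inv, hx, hi, DihedralGroup.inv_r, DihedralGroup.r_mul_sr,
      DihedralGroup.sr_mul_r]
    congr 1
    ring
  -- `P₂` is again a 2-group of odd index
  have hP₂2 : IsPGroup 2 P₂ := by
    rw [hP₂, Subgroup.pointwise_smul_def]
    exact hP.map _
  have hP₂i : P₂.index = P.index := by
    rw [hP₂]; exact Subgroup.index_map_equiv P (MulAut.conj x⁻¹)
  obtain ⟨hQP₂, hQP₂i, -⟩ := hsyl P₂ hP₂2 (by rw [hP₂i]; exact hPsyl)
  -- the join is everything
  have htop : P ⊔ P₂ = ⊤ := by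
    have h1 : (P ⊔ P₂).map φ = ⊤ := by
      apply d0_dihedral_top hnodd _ i
      · rw [← hi]; exact Subgroup.mem_map_of_mem _ (le_sup_left (a := P) (b := P₂) hg₀P)
      · rw [← hφconj]; exact Subgroup.mem_map_of_mem _ (le_sup_right (a := P) (b := P₂) hconj)
    have h2 : φ.ker ≤ P ⊔ P₂ := by rw [hkerφ]; exact hQP.trans le_sup_left
    rw [← Subgroup.comap_map_eq_self h2, h1, Subgroup.comap_top]
  refine ⟨htop, ?_, ?_⟩
  · have hle : Q ≤ P ⊓ P₂ := le_inf hQP hQP₂
    have h1 := Subgroup.relIndex_mul_relIndex Q (P ⊓ P₂) P₂ hle inf_le_right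
    rw [hQP₂i] at h1
    have h2 : (P ⊓ P₂).relIndex P₂ ∣ 2 := Dvd.intro_left _ h1
    rcases (Nat.dvd_prime Nat.prime_two).mp h2 with h3 | h3
    · exfalso
      have h4 : P₂ ≤ P := (Subgroup.relIndex_eq_one.mp h3).trans inf_le_left
      have h5 : P = ⊤ := by rw [← htop]; exact (sup_eq_left.mpr h4).symm
      rw [h5, Subgroup.index_top] at hPi
      omega
    · exact h3
  · intro h
    apply hO
    rw [eq_bot_iff, ← h]
    exact le_inf hQP hQP₂

variable {G : Type*} [Group G] [Finite G]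

/-- the image in `G` of a conjugate inside `↥H` -/
theorem d0_map_conj (H : Subgroup G) (x : ↥H) (S : Subgroup ↥H) :
    (MulAut.conj x • S).map H.subtype = MulAut.conj (x : G) • S.map H.subtype := by
  ext g
  constructor
  · rintro ⟨y, hy, rfl⟩
    have hy' : y ∈ MulAut.conj x • S := hy
    rw [Subgroup.mem_pointwise_smul_iff_inv_smul_mem] at hy' ⊢
    refine ⟨(MulAut.conj x)⁻¹ • y, hy', ?_⟩
    simp [MulAut.smul_def]
  · intro hg
    rw [Subgroup.mem_pointwise_smul_iff_inv_smul_mem] at hg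
    obtain ⟨y, hy, hyg⟩ := hg
    refine ⟨MulAut.conj x • y, Subgroup.smul_mem_pointwise_smul _ _ _ hy, ?_⟩
    have h1 : ((MulAut.conj x • y : ↥H) : G) = (x : G) * (y : G) * (x : G)⁻¹ := by
      simp [MulAut.smul_def]
    have h2 : (y : G) = (x : G)⁻¹ * g * (x : G) := by
      have : H.subtype y = (MulAut.conj (x : G))⁻¹ • g := hyg
      simpa [MulAut.smul_def] using this
    show ((MulAut.conj x • y : ↥H) : G) = g
    rw [h1, h2]; group

/-- **D0**: the dihedral quotient. -/
theorem d0_structure (H : Subgroup G) (hO : Cfsg.pCore 2 ↥H ≠ ⊥) (n : ℕ) (hn : 2 ≤ n)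
    (hdih : Nonempty (↥H ⧸ Cfsg.pCore 2 ↥H ≃* DihedralGroup n))
    (P : Subgroup G) (hPH : P ≤ H) (hP : IsPGroup 2 P) (hPsyl : ¬ 2 ∣ P.relIndex H) :
    ∃ x ∈ H, P ⊔ MulAut.conj x⁻¹ • P = H ∧
      (P ⊓ MulAut.conj x⁻¹ • P).relIndex (MulAut.conj x⁻¹ • P) = 2 ∧
      P ⊓ MulAut.conj x⁻¹ • P ≠ ⊥ := by
  obtain ⟨e⟩ := hdih
  set P' : Subgroup ↥H := P.subgroupOf H with hP'def
  have hP' : IsPGroup 2 P' := hP.comap_subtype
  have hidx : ¬ 2 ∣ P'.index := hPsyl
  obtain ⟨x, h1, h2, h3⟩ := d0_abstract hO n hn e P' hP' hidx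
  have hinj : Function.Injective H.subtype := Subgroup.subtype_injective H
  have hmapP : P'.map H.subtype = P := by
    rw [hP'def, Subgroup.subgroupOf_map_subtype]; exact inf_eq_left.mpr hPH
  set P₂' : Subgroup ↥H := MulAut.conj x⁻¹ • P' with hP₂'
  set C : Subgroup G := MulAut.conj (x : G)⁻¹ • P with hC
  have hmapP₂ : P₂'.map H.subtype = C := by
    rw [hP₂', d0_map_conj, hmapP, hC]
    rfl
  have key : P ⊓ C = (P' ⊓ P₂').map H.subtype := by
    rw [Subgroup.map_inf _ _ _ hinj, hmapP, hmapP₂]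
  refine ⟨(x : G), x.2, ?_, ?_, ?_⟩
  · have := congrArg (Subgroup.map H.subtype) h1
    rw [Subgroup.map_sup, hmapP, hmapP₂, ← MonoidHom.range_eq_map, Subgroup.range_subtype] at this
    exact this
  · have h4 : (P ⊓ C).relIndex C = ((P' ⊓ P₂').map H.subtype).relIndex (P₂'.map H.subtype) := by
      rw [hmapP₂, ← key]
    rw [h4, Subgroup.relIndex_map_map_of_injective _ _ hinj]
    exact h2
  · rw [key]
    intro h
    exact h3 ((Subgroup.map_eq_bot_iff_of_injective _ hinj).mp h)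

end Cfsg.Agent.Lib.Helper8.GDih
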