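import Mathlib
import Cfsg.Agent.Lib.Helper2.GR2MDefs
import Cfsg.Agent.Lib.Helper4.GR2CORE
import Cfsg.Agent.Lib.Helper6.GR2M3F
import Cfsg.Agent.Lib.Helper6.GR2UPW
import Cfsg.Agent.Lib.Lead.PPMF2

set_option autoImplicit false
set_option linter.unusedVariables false
set_option linter.unusedSectionVars false

/-! S3795 (Gross, `p = 2`), package LOW: for a minimal `x`-invariant `q`-group `Q` not commuting with
`τ = x ^ (2 ^ n)` on the `ℓ`-torsion module `M`, every operator commuting with `Q` on `M` commutes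
with `ι = x ^ (2 ^ (n - 1))` on `[M, Q']` (wrappers around `Helper4.GR2CORE.gr2_core`, frame of
`Lead.PPMF2`). -/

namespace Cfsg.Agent.Lib.Helper6.GR2LOW

open Module Cfsg.Agent.Lib.Helper4.FM Cfsg.Agent.Lib.Helper4.HH Cfsg.Agent.Lib.Helper4.PP
  Cfsg.Agent.Lib.Helper2.GR2M Cfsg.Agent.Lib.Lead.PPMF2 Cfsg.Agent.Lib.Helper6.GR2UPW

open scoped commutatorElement

universe u

section MF

variable {k : Type*} [Field k] {A : Type u} [Group A] [Finite A] {V : Type*} [AddCommGroup V]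
  [Module k V] [FiniteDimensional k V]

theorem low_min (ρ : Representation k A V) (hρ : Function.Injective ρ)
    (Q : Subgroup A) [hQn : Q.Normal] (x : A) (q n : ℕ)
    (hq : q.Prime) (hq2 : q ≠ 2) (hQ : IsPGroup q Q) (hx : x ^ (2 ^ (n + 1)) = 1)
    (hgen : ∀ S : Subgroup A, Q ≤ S → x ∈ S → S = ⊤)
    (hqk : (q : k) ≠ 0) (h2k : ((2 : ℕ) : k) ≠ 0)
    (hfpf : ∀ m ∈ Q, x * m = m * x → m = 1)
    (hmin : ∀ P : Subgroup A, P ≤ Q → (∀ m ∈ P, x * m * x⁻¹ ∈ P) → P ≠ Q →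
      ∀ m ∈ P, x ^ (2 ^ n) * m = m * x ^ (2 ^ n))
    (hnc : ∃ u ∈ Q, x ^ (2 ^ n) * u ≠ u * x ^ (2 ^ n))
    (H4 : inv ρ (Subgroup.zpowers x) = ⊥)
    (F : V →ₗ[k] V) (hF : ∀ m ∈ Q, F * ρ m = ρ m * F) :
    ∀ u ∈ Q, ∀ w ∈ Q, F * ρ (x ^ (2 ^ (n - 1))) * (ρ ⁅u, w⁆ - 1) =
      ρ (x ^ (2 ^ (n - 1))) * F * (ρ ⁅u, w⁆ - 1) := by
  have hqK : ((q : ℕ) : AlgebraicClosure k) ≠ 0 := cast_card_ne_zero_bc (AlgebraicClosure k) q hqk
  have h2K' : ((2 : ℕ) : AlgebraicClosure k) ≠ 0 :=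
    cast_card_ne_zero_bc (AlgebraicClosure k) 2 h2k
  have h2K : (2 : AlgebraicClosure k) ≠ 0 := by exact_mod_cast h2K'
  have hXk : (Nat.card (Subgroup.zpowers x) : k) ≠ 0 :=
    card_zpowers_cast_ne_zero x 2 (n + 1) Nat.prime_two hx h2k
  have H4σ : inv (bc (AlgebraicClosure k) ρ) (Subgroup.zpowers x) = ⊥ := by
    rw [inv_bc (AlgebraicClosure k) ρ _ hXk, H4, Submodule.baseChange_bot]
  have hσ := up_bc_faithful ρ hρ
  obtain ⟨_, _, hcomm⟩ := Cfsg.Agent.Lib.Helper4.GR2CORE.gr2_core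
    (bc (AlgebraicClosure k) ρ) Q hσ x q n hq hq2 hQ hx hgen hqK h2K hfpf hmin hnc H4σ
  intro u hu w hw
  apply LinearMap.baseChangeHom_injective k V (AlgebraicClosure k)
  show (F * ρ (x ^ (2 ^ (n - 1))) * (ρ ⁅u, w⁆ - 1)).baseChange (AlgebraicClosure k) =
    (ρ (x ^ (2 ^ (n - 1))) * F * (ρ ⁅u, w⁆ - 1)).baseChange (AlgebraicClosure k)
  have hFbc : ∀ m ∈ Q, ∀ v, F.baseChange (AlgebraicClosure k) (bc (AlgebraicClosure k) ρ m v) =
      bc (AlgebraicClosure k) ρ m (F.baseChange (AlgebraicClosure k) v) := by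
    intro m hm v
    have h1 := congrArg (LinearMap.baseChange (AlgebraicClosure k)) (hF m hm)
    rw [LinearMap.baseChange_mul, LinearMap.baseChange_mul] at h1
    exact LinearMap.congr_fun h1 v
  apply LinearMap.ext
  intro v
  have h2 := hcomm (F.baseChange (AlgebraicClosure k)) hFbc u hu w hw v
  rw [LinearMap.baseChange_mul, LinearMap.baseChange_mul, LinearMap.baseChange_mul,
    LinearMap.baseChange_mul, LinearMap.baseChange_sub, LinearMap.baseChange_one]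
  simp only [Module.End.mul_apply, LinearMap.sub_apply, Module.End.one_apply]
  exact h2

theorem low_faith (ρ : Representation k A V) (hρ : Function.Injective ρ) (x : A) (q n : ℕ)
    (hq : q.Prime) (hq2 : q ≠ 2) (hx : x ^ (2 ^ (n + 1)) = 1)
    (hqk : (q : k) ≠ 0) (h2k : ((2 : ℕ) : k) ≠ 0) (H4 : ∀ v : V, ρ x v = v → v = 0)
    (Q : Subgroup A) (hQ : IsPGroup q Q) (hxQ : ∀ m ∈ Q, x * m * x⁻¹ ∈ Q)
    (hfpf : ∀ m ∈ Q, x * m = m * x → m = 1)
    (hminA : ∀ P : Subgroup A, P ≤ Q → (∀ m ∈ P, x * m * x⁻¹ ∈ P) → P ≠ Q →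
      ∀ m ∈ P, x ^ (2 ^ n) * m = m * x ^ (2 ^ n))
    (hnc : ∃ u ∈ Q, x ^ (2 ^ n) * u ≠ u * x ^ (2 ^ n))
    (F : V →ₗ[k] V) (hF : ∀ m ∈ Q, F * ρ m = ρ m * F) :
    ∀ u ∈ Q, ∀ w ∈ Q, F * ρ (x ^ (2 ^ (n - 1))) * (ρ ⁅u, w⁆ - 1) =
      ρ (x ^ (2 ^ (n - 1))) * F * (ρ ⁅u, w⁆ - 1) := by
  obtain ⟨u₀, hu₀, hxu₀⟩ := hnc
  -- pass to the subgroup generated by `Q` and `x`
  set L : Subgroup A := Q ⊔ Subgroup.zpowers x with hL
  have hxL : x ∈ L := Subgroup.mem_sup_right (Subgroup.mem_zpowers x)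
  have hQL : Q ≤ L := le_sup_left
  have hr : 0 < 2 ^ (n + 1) := pow_pos (by norm_num) _
  have hzn : ∀ e ∈ Subgroup.zpowers x, ∀ m ∈ Q, e * m * e⁻¹ ∈ Q := by
    have hnorm : x ∈ Subgroup.normalizer (Q : Set A) := by
      rw [Subgroup.mem_normalizer_iff]
      intro m
      constructor
      · exact hxQ m
      · intro hm
        have := conj_inv_mem Q x (2 ^ (n + 1)) hr hx hxQ _ hm
        have e : x⁻¹ * (x * m * x⁻¹) * x = m := by group
        rwa [e] at this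
    have hle : Subgroup.zpowers x ≤ Subgroup.normalizer (Q : Set A) :=
      (Subgroup.zpowers_le).2 hnorm
    exact (le_norm_iff _ _).1 hle
  haveI hQn : (Q.subgroupOf L).Normal := normal_subgroupOf_sup Q (Subgroup.zpowers x) hzn
  let ρ₁ : Representation k ↥L V := ρ.comp L.subtype
  have hρ₁ : Function.Injective ρ₁ := by
    intro a b hab
    exact Subtype.ext (hρ hab)
  have hmain := low_min ρ₁ hρ₁ (Q.subgroupOf L) ⟨x, hxL⟩ q n hq hq2 hQ.comap_subtype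
    (by apply Subtype.ext; rw [Subgroup.coe_pow]; exact hx)
    (by
      intro S hQS hxS
      rw [eq_top_iff]
      intro g _
      have hle : L ≤ S.map L.subtype := by
        apply sup_le
        · intro m hm
          exact ⟨⟨m, hQL hm⟩, hQS (Subgroup.mem_subgroupOf.2 hm), rfl⟩
        · rw [Subgroup.zpowers_le]
          exact ⟨⟨x, hxL⟩, hxS, rfl⟩
      obtain ⟨g', hg', hgg'⟩ := hle g.2
      have : g' = g := Subtype.ext hgg'
      rwa [this] at hg')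
    hqk h2k
    (by
      intro m hm hc
      have h1 := hfpf (m : A) (Subgroup.mem_subgroupOf.1 hm) (congrArg Subtype.val hc)
      exact Subtype.ext h1)
    (by
      intro P₁ hP₁ hxP₁ hne m hm
      have hP : P₁.map L.subtype ≤ Q := by
        rintro _ ⟨p, hp, rfl⟩
        exact Subgroup.mem_subgroupOf.1 (hP₁ hp)
      have hxP : ∀ m ∈ P₁.map L.subtype, x * m * x⁻¹ ∈ P₁.map L.subtype := by
        rintro _ ⟨p, hp, rfl⟩
        exact ⟨_, hxP₁ p hp, rfl⟩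
      have hne' : P₁.map L.subtype ≠ Q := by
        intro h
        apply hne
        rw [← Subgroup.comap_map_eq_self_of_injective L.subtype_injective P₁, h]
        rfl
      have := hminA _ hP hxP hne' (m : A) ⟨m, hm, rfl⟩
      exact Subtype.ext this)
    ⟨⟨u₀, hQL hu₀⟩, Subgroup.mem_subgroupOf.2 hu₀, by
      intro h
      exact hxu₀ (congrArg Subtype.val h)⟩
    (by
      rw [Submodule.eq_bot_iff]
      intro v hv
      exact H4 v (hv ⟨x, hxL⟩ (Subgroup.mem_zpowers _)))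
    F
    (by
      intro m hm
      exact hF (m : A) (Subgroup.mem_subgroupOf.1 hm))
  intro u hu w hw
  exact hmain ⟨u, hQL hu⟩ (Subgroup.mem_subgroupOf.2 hu) ⟨w, hQL hw⟩ (Subgroup.mem_subgroupOf.2 hw)

end MF

section rep

variable {k : Type*} [Field k] {A : Type u} [Group A] [Finite A] {V : Type*} [AddCommGroup V]
  [Module k V] [FiniteDimensional k V]

theorem low_rep (ρ : Representation k A V) (x : A) (q n : ℕ)
    (hq : q.Prime) (hq2 : q ≠ 2)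
    (hxp : ∃ N : ℕ, x ^ (2 ^ N) = 1) (hx : ρ (x ^ (2 ^ (n + 1))) = 1)
    (hqk : (q : k) ≠ 0) (h2k : ((2 : ℕ) : k) ≠ 0) (H4 : ∀ v : V, ρ x v = v → v = 0)
    (Q : Subgroup A) (hQ : IsPGroup q Q) (hxQ : ∀ m ∈ Q, x * m * x⁻¹ ∈ Q)
    (hfpf : ∀ m ∈ Q, x * m = m * x → m = 1)
    (hmin : ∀ Q₁ : Subgroup A, Q₁ ≤ Q → Q₁ ≠ Q → (∀ m ∈ Q₁, x * m * x⁻¹ ∈ Q₁) →
      ∀ m ∈ Q₁, ρ (x ^ (2 ^ n)) * ρ m = ρ m * ρ (x ^ (2 ^ n)))
    (hnc : ∃ u ∈ Q, ρ (x ^ (2 ^ n)) * ρ u ≠ ρ u * ρ (x ^ (2 ^ n)))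
    (F : V →ₗ[k] V) (hF : ∀ m ∈ Q, F * ρ m = ρ m * F) :
    ∀ u ∈ Q, ∀ w ∈ Q, F * ρ (x ^ (2 ^ (n - 1))) * (ρ ⁅u, w⁆ - 1) =
      ρ (x ^ (2 ^ (n - 1))) * F * (ρ ⁅u, w⁆ - 1) := by
  obtain ⟨N, hN⟩ := hxp
  let f : A →* ↥ρ.asGroupHom.range := ρ.asGroupHom.rangeRestrict
  haveI : Finite ↥ρ.asGroupHom.range :=
    Finite.of_surjective f ρ.asGroupHom.rangeRestrict_surjective
  let ρ' : Representation k ↥ρ.asGroupHom.range V :=
    (Units.coeHom (Module.End k V)).comp ρ.asGroupHom.range.subtype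
  have hρ'f : ∀ a : A, ρ' (f a) = ρ a := fun a => rfl
  have hρ' : Function.Injective ρ' := by
    intro a b hab
    apply Subtype.ext
    apply Units.ext
    exact hab
  have hf1 : ∀ a : A, f a = 1 ↔ ρ a = 1 := by
    intro a
    constructor
    · intro h
      rw [← hρ'f, h, map_one]
    · intro h
      apply hρ'
      rw [hρ'f, h, map_one]
  have hfpf' := Cfsg.Agent.Lib.Helper6.GR2M3F.m3f_fpf_map f x N hN q hq hq2 Q hQ hxQ hfpf
  obtain ⟨u₀, hu₀, hxu₀⟩ := hnc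
  have hmain := low_faith ρ' hρ' (f x) q n hq hq2
    (by rw [← map_pow, hf1]; exact hx) hqk h2k
    (fun v hv => H4 v hv) (Q.map f) (hQ.map f)
    (by
      rintro _ ⟨m, hm, rfl⟩
      exact ⟨_, hxQ m hm, by rw [map_mul, map_mul, map_inv]⟩)
    hfpf'
    (by
      intro P' hP' hxP' hne m' hm'
      obtain ⟨m, hm, rfl⟩ := hP' hm'
      have hQ₁ : Q ⊓ P'.comap f ≤ Q := inf_le_left
      have hne₁ : Q ⊓ P'.comap f ≠ Q := by
        intro h
        apply hne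
        apply le_antisymm hP'
        rintro _ ⟨y, hy, rfl⟩
        have : y ∈ Q ⊓ P'.comap f := by rw [h]; exact hy
        exact this.2
      have hx₁ : ∀ y ∈ Q ⊓ P'.comap f, x * y * x⁻¹ ∈ Q ⊓ P'.comap f := by
        intro y hy
        refine ⟨hxQ y hy.1, ?_⟩
        show f (x * y * x⁻¹) ∈ P'
        rw [map_mul, map_mul, map_inv]
        exact hxP' _ hy.2
      have h1 := hmin _ hQ₁ hne₁ hx₁ m ⟨hm, hm'⟩
      apply hρ'
      rw [map_mul, map_mul, ← map_pow, hρ'f, hρ'f]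
      exact h1)
    ⟨f u₀, ⟨u₀, hu₀, rfl⟩, by
      intro h
      apply hxu₀
      have h2 := congrArg ρ' h
      rw [map_mul, map_mul, ← map_pow, hρ'f, hρ'f] at h2
      exact h2⟩
    F
    (by
      rintro _ ⟨m, hm, rfl⟩
      rw [hρ'f]
      exact hF m hm)
  intro u hu w hw
  have h3 := hmain (f u) ⟨u, hu, rfl⟩ (f w) ⟨w, hw, rfl⟩
  rw [← map_pow, ← map_commutatorElement, hρ'f, hρ'f] at h3
  exact h3

end rep

theorem low_mod_aux {A : Type u} [Group A] [Finite A] {M : Type u} [AddCommGroup M] [Finite M]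
    [DistribMulAction A M] (ℓ : ℕ) [hℓ : Fact ℓ.Prime] [Module (ZMod ℓ) M] (q n : ℕ)
    (hℓ2 : ℓ ≠ 2) (hq : q.Prime) (hq2 : q ≠ 2) (hqℓ : q ≠ ℓ)
    (x : A) (hxp : ∃ N : ℕ, x ^ (2 ^ N) = 1) (hx : ∀ m : M, x ^ (2 ^ (n + 1)) • m = m)
    (H4 : ∀ m : M, x • m = m → m = 0)
    (Q : Subgroup A) (hQ : IsPGroup q Q) (hxQ : ∀ u ∈ Q, x * u * x⁻¹ ∈ Q)
    (hfpf : ∀ u ∈ Q, x * u = u * x → u = 1)
    (hmin : ∀ Q₁ : Subgroup A, Q₁ ≤ Q → Q₁ ≠ Q → (∀ u ∈ Q₁, x * u * x⁻¹ ∈ Q₁) →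
      ∀ u ∈ Q₁, ∀ m : M, x ^ (2 ^ n) • u • m = u • x ^ (2 ^ n) • m)
    (hnc : ∃ u ∈ Q, ∃ m : M, x ^ (2 ^ n) • u • m ≠ u • x ^ (2 ^ n) • m)
    (g : A) (hg : ∀ u ∈ Q, ∀ m : M, g • u • m = u • g • m) :
    ∀ u ∈ Q, ∀ w ∈ Q, ∀ m : M,
      x ^ (2 ^ (n - 1)) • g • (⁅u, w⁆ • m - m) = g • x ^ (2 ^ (n - 1)) • (⁅u, w⁆ • m - m) := by
  have hqd : ¬ ℓ ∣ q := fun h => hqℓ ((Nat.prime_dvd_prime_iff_eq hℓ.out hq).1 h).symm
  have h2d : ¬ ℓ ∣ 2 := fun h => hℓ2 ((Nat.prime_dvd_prime_iff_eq hℓ.out Nat.prime_two).1 h)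
  obtain ⟨u₀, hu₀, m₀, hum₀⟩ := hnc
  have hmain := low_rep (addRepA (A := A) (M := M) ℓ) x q n hq hq2 hxp
    (by
      apply LinearMap.ext
      intro m
      rw [addRepA_apply]
      exact hx m)
    (cast_ne_zero_of_not_dvd ℓ q hqd) (cast_ne_zero_of_not_dvd ℓ 2 h2d)
    (by
      intro v hv
      rw [addRepA_apply] at hv
      exact H4 v hv)
    Q hQ hxQ hfpf
    (by
      intro Q₁ h1 h2 h3 u hu
      apply LinearMap.ext
      intro m
      rw [Module.End.mul_apply, Module.End.mul_apply, addRepA_apply, addRepA_apply,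
        addRepA_apply, addRepA_apply]
      exact hmin Q₁ h1 h2 h3 u hu m)
    ⟨u₀, hu₀, by
      intro h
      apply hum₀
      have h2 := LinearMap.congr_fun h m₀
      rw [Module.End.mul_apply, Module.End.mul_apply, addRepA_apply, addRepA_apply,
        addRepA_apply, addRepA_apply] at h2
      exact h2⟩
    (addRepA (A := A) (M := M) ℓ g)
    (by
      intro u hu
      apply LinearMap.ext
      intro m
      rw [Module.End.mul_apply, Module.End.mul_apply, addRepA_apply, addRepA_apply,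
        addRepA_apply, addRepA_apply]
      exact hg u hu m)
  intro u hu w hw m
  have h2 := LinearMap.congr_fun (hmain u hu w hw) m
  simp only [Module.End.mul_apply, LinearMap.sub_apply, Module.End.one_apply,
    addRepA_apply] at h2
  exact h2.symm

theorem low_mod : LOWStatement.{u} := by
  intro A _ _ M _ _ _ ℓ q n hℓ hq hℓ2 hq2 hqℓ htor x hxp hx H4 Q hQ hxQ hfpf hmin hnc g hg
  have : Fact ℓ.Prime := ⟨hℓ⟩
  let iM : Module (ZMod ℓ) M := AddCommGroup.zmodModule htor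
  exact low_mod_aux ℓ q n hℓ2 hq hq2 hqℓ x hxp hx H4 Q hQ hxQ hfpf hmin hnc g hg

end Cfsg.Agent.Lib.Helper6.GR2LOW
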