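import Mathlib
import Cfsg.Agent.Lib.Helper8.Gl69Defs

set_option autoImplicit false

/-! S4359 package G3: the endgame. -/

namespace Cfsg.Agent.Lib.Helper8.Gl69

open scoped Pointwise

universe u

variable {G : Type u} [Group G]

/-- g3: integer shifts of the generators are conjugation by powers of `g`. -/
theorem g3_zconj {p t : ℕ} {g : G} {x : ℤ → G} (hS : Seq p t g x) (a i : ℤ) :
    x (a + i) = (g ^ i)⁻¹ * x a * g ^ i := by
  induction i using Int.induction_on with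
  | zero => simp
  | succ i ih =>
    have h1 : a + ((i : ℤ) + 1) = (a + i) + 1 := by ring
    rw [h1, hS.shift, ih, zpow_add_one]
    group
  | pred i ih =>
    have h1 : a + (-(i : ℤ)) = (a + (-(i : ℤ) - 1)) + 1 := by ring
    have h2 := hS.shift (a + (-(i : ℤ) - 1))
    rw [← h1, ih] at h2
    have h3 : x (a + (-(i : ℤ) - 1)) = g * ((g ^ (-(i : ℤ)))⁻¹ * x a * g ^ (-(i : ℤ))) * g⁻¹ := by
      rw [h2]
      group
    rw [h3, zpow_sub_one]
    group

/-- g3: commutation is shift invariant. -/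
theorem g3_commute_of {p t : ℕ} {g : G} {x : ℤ → G} (hS : Seq p t g x)
    (hcomm : ∀ k : ℕ, 1 ≤ k → 3 * k < 2 * t → x 0 * x k = x k * x 0)
    (a b : ℤ) (q : ℕ) (hq : 3 * q < 2 * t) (hab : a - b ≤ q) (hba : b - a ≤ q) :
    x a * x b = x b * x a := by
  -- wlog `a ≤ b`
  have key : ∀ (a : ℤ) (k : ℕ), 3 * k < 2 * t → x a * x (a + k) = x (a + k) * x a := by
    intro a k hk
    rcases Nat.eq_zero_or_pos k with h0 | h0
    · subst h0
      simp
    · have h1 := hcomm k h0 hk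
      have e1 : x a = (g ^ a)⁻¹ * x 0 * g ^ a := by
        have := g3_zconj hS 0 a
        rwa [zero_add] at this
      have e2 : x (a + k) = (g ^ a)⁻¹ * x k * g ^ a := by
        have := g3_zconj hS (k : ℤ) a
        rwa [add_comm] at this
      rw [e2, e1]
      have h2 : (g ^ a)⁻¹ * x 0 * g ^ a * ((g ^ a)⁻¹ * x k * g ^ a)
          = (g ^ a)⁻¹ * (x 0 * x k) * g ^ a := by group
      have h3 : (g ^ a)⁻¹ * x k * g ^ a * ((g ^ a)⁻¹ * x 0 * g ^ a)
          = (g ^ a)⁻¹ * (x k * x 0) * g ^ a := by group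
      rw [h2, h3, h1]
  rcases le_total a b with h | h
  · obtain ⟨k, hk⟩ := Int.eq_ofNat_of_zero_le (sub_nonneg.mpr h)
    have hb : b = a + k := by omega
    have hkq : k ≤ q := by omega
    rw [hb]
    exact key a k (by omega)
  · obtain ⟨k, hk⟩ := Int.eq_ofNat_of_zero_le (sub_nonneg.mpr h)
    have ha : a = b + k := by omega
    have hkq : k ≤ q := by omega
    rw [ha]
    exact (key b k (by omega)).symm

/-- g3: the generators are not trivial. -/
theorem g3_ne_one {p t : ℕ} {g : G} {x : ℤ → G} (hS : Seq p t g x) (hp : p.Prime) (ht : 1 ≤ t)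
    (m : ℤ) : x m ≠ 1 := by
  intro h
  have h1 := hS.card m 1 ht
  have h2 : Set.Ico m (m + ((1 : ℕ) : ℤ)) = {m} := by
    ext z
    simp only [Set.mem_Ico, Set.mem_singleton_iff, Nat.cast_one]
    omega
  rw [h2, Set.image_singleton, h, Subgroup.closure_singleton_one, pow_one] at h1
  rw [Subgroup.card_bot] at h1
  exact hp.one_lt.ne h1

variable [Finite G]

set_option linter.unusedSectionVars false in
/-- the endgame: `t ≤ 3 n` and `t ≠ 3 n - 1`. -/
theorem endgame {p t : ℕ} {g : G} {x : ℤ → G} (hS : Seq p t g x) (hp : p.Prime) (ht : 1 ≤ t)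
    (hcomm : ∀ k : ℕ, 1 ≤ k → 3 * k < 2 * t → x 0 * x k = x k * x 0)
    (P : Subgroup G)
    (hP : ∀ i : ℤ, cj P g i = Subgroup.closure (x '' Set.Ico (i - t + 1) (i + 1)))
    (n : ℕ) (hn : 1 ≤ n) (K : Subgroup G)
    (hK : K = ⨆ i ∈ Finset.range (n + 1), MulAut.conj (g ^ i)⁻¹ • P)
    (h2 : P ⊓ (Subgroup.center K).map K.subtype = ⊥) : t ≤ 3 * n ∧ t ≠ 3 * n - 1 := by
  by_contra hcon
  have hcase : 3 * n + 1 ≤ t ∨ t = 3 * n - 1 := by omega
  -- the numbers
  obtain ⟨q, hq3, hq2, hqn, hqt⟩ : ∃ q : ℕ, 3 * q < 2 * t ∧ n + t ≤ 2 * q + 1 ∧ n ≤ q ∧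
      q + 1 ≤ n + t := by
    refine ⟨(2 * t - 1) / 3, ?_, ?_, ?_, ?_⟩ <;> omega
  set m : ℤ := (n : ℤ) - q with hm
  -- `P` in terms of the generators
  have hP0 : P = Subgroup.closure (x '' Set.Ico ((0 : ℤ) - t + 1) (0 + 1)) := by
    rw [← hP 0]
    ext y
    rw [mem_cj]
    simp
  -- `x m ∈ P`
  have hxmP : x m ∈ P := by
    rw [hP0]
    apply Subgroup.subset_closure
    refine ⟨m, ?_, rfl⟩
    rw [Set.mem_Ico]
    constructor <;> omega
  -- each conjugate of `P` lies in the centralizer of `x m`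
  have hcent : ∀ i : ℕ, i ∈ Finset.range (n + 1) →
      MulAut.conj (g ^ i)⁻¹ • P ≤ Subgroup.centralizer {x m} := by
    intro i hi
    rw [Finset.mem_range] at hi
    have h1 : MulAut.conj (g ^ i)⁻¹ • P = cj P g (i : ℤ) := by
      unfold cj
      rw [zpow_natCast]
    rw [h1, hP (i : ℤ), Subgroup.closure_le]
    rintro _ ⟨k, hk, rfl⟩
    rw [Set.mem_Ico] at hk
    rw [SetLike.mem_coe, Subgroup.mem_centralizer_iff]
    intro z hz
    rw [Set.mem_singleton_iff] at hz
    subst hz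
    exact g3_commute_of hS hcomm m k q hq3 (by omega) (by omega)
  have hKcent : K ≤ Subgroup.centralizer {x m} := by
    rw [hK]
    exact iSup₂_le hcent
  -- `P ≤ K`
  have hPK : P ≤ K := by
    rw [hK]
    have h0 : (0 : ℕ) ∈ Finset.range (n + 1) := by simp
    have h1 : MulAut.conj (g ^ (0 : ℕ))⁻¹ • P = P := by simp
    calc P = MulAut.conj (g ^ (0 : ℕ))⁻¹ • P := h1.symm
      _ ≤ ⨆ i ∈ Finset.range (n + 1), MulAut.conj (g ^ i)⁻¹ • P :=
        le_iSup₂ (f := fun i (_ : i ∈ Finset.range (n + 1)) => MulAut.conj (g ^ i)⁻¹ • P) 0 h0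
  have hxmK : x m ∈ K := hPK hxmP
  have hxmZ : x m ∈ (Subgroup.center K).map K.subtype := by
    rw [Subgroup.mem_map]
    refine ⟨⟨x m, hxmK⟩, ?_, rfl⟩
    rw [Subgroup.mem_center_iff]
    rintro ⟨z, hz⟩
    apply Subtype.ext
    show z * x m = x m * z
    have := hKcent hz
    rw [Subgroup.mem_centralizer_iff] at this
    exact (this (x m) (Set.mem_singleton _)).symm
  have hbot : x m ∈ P ⊓ (Subgroup.center K).map K.subtype := ⟨hxmP, hxmZ⟩
  rw [h2, Subgroup.mem_bot] at hbot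
  exact g3_ne_one hS hp ht m hbot

end Cfsg.Agent.Lib.Helper8.Gl69
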