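import Cfsg.Agent.Lib.Helper1.GC0

/-!
# S3067, step (S1)(e)

In the language of `Cfsg.Agent.Lib.Helper1.GC0`: if an involution `v ∈ K` moves `a` to the point
`b = v⁻¹ a v` and some `d ≠ 1` in `G` commutes with both `a` and `b`, then `Lam0 G a b` has odd order.
`(R0)` and `(KL)` enter as hypotheses, in the shapes of the stub.
-/

set_option autoImplicit false

namespace Cfsg.Agent.Lib.Helper6.GlFixS1e

open Cfsg.Agent.Lib.Helper1.GC

universe u

variable {Γ : Type u} [Group Γ] [Finite Γ] {G : Subgroup Γ} {a τ : Γ} {r : ℕ}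

/-- `G ∩ C(a) ∩ C(b)`. -/
def s1eD (G : Subgroup Γ) (a b : Γ) : Subgroup Γ :=
  G ⊓ Subgroup.centralizer {a} ⊓ Subgroup.centralizer {b}

omit [Finite Γ] in
theorem mem_s1eD {G : Subgroup Γ} {a b x : Γ} :
    x ∈ s1eD G a b ↔ x ∈ G ∧ Commute x a ∧ Commute x b := by
  unfold s1eD
  rw [Subgroup.mem_inf, Subgroup.mem_inf, Subgroup.mem_centralizer_singleton_iff,
    Subgroup.mem_centralizer_singleton_iff]
  constructor
  · rintro ⟨⟨h1, h2⟩, h3⟩
    exact ⟨h1, h2, h3⟩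
  · rintro ⟨h1, h2, h3⟩
    exact ⟨⟨h1, h2.eq⟩, h3.eq⟩

/-- (S1)(e). -/
theorem S1e
    (hR0 : ∀ N : Subgroup Γ, N ≤ G → (∀ g ∈ G, ∀ x ∈ N, g⁻¹ * x * g ∈ N) →
      (∀ x ∈ N, Commute x a) → N = ⊥)
    (hKL : ∀ H : Subgroup Γ, H ≤ G → H ≠ G → (∀ x ∈ H, a⁻¹ * x * a ∈ H) →
      ∀ u, IsK G τ u → u ∈ H → ∀ k ∈ H, Odd (Nat.card (Lam0 G a (k⁻¹ * a * k))))
    (h : MinCE G a τ r) {v d : Γ} (hv : IsK G τ v) (hd : d ∈ G) (hd1 : d ≠ 1)
    (hda : Commute d a) (hdb : Commute d (v⁻¹ * a * v)) :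
    Odd (Nat.card (Lam0 G a (v⁻¹ * a * v))) := by
  set b := v⁻¹ * a * v with hb
  have hvG : v ∈ G := hv.mem h.hyp
  have hvv : v * v = 1 := hv.mul_self h.hyp
  have hvinv : v⁻¹ = v := hv.inv_eq h.hyp
  -- `v` swaps `a` and `b`
  have hba : v⁻¹ * b * v = a := by
    rw [hb]
    calc v⁻¹ * (v⁻¹ * a * v) * v = (v * v)⁻¹ * a * (v * v) := by group
      _ = a := by rw [hvv]; group
  -- the subgroup `N`
  set D := s1eD G a b with hD
  have hdD : d ∈ D := mem_s1eD.2 ⟨hd, hda, hdb⟩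
  have hDne : D ≠ ⊥ := by
    intro h0
    rw [h0, Subgroup.mem_bot] at hdD
    exact hd1 hdD
  have hDG : D ≤ G := fun x hx => (mem_s1eD.1 hx).1
  -- conjugation by `a` fixes `D` pointwise
  have haD : ∀ x ∈ D, a⁻¹ * x * a = x := by
    intro x hx
    have e := (mem_s1eD.1 hx).2.1.eq
    calc a⁻¹ * x * a = a⁻¹ * (x * a) := by group
      _ = a⁻¹ * (a * x) := by rw [e]
      _ = x := by group
  have haD' : ∀ x ∈ D, a * x * a⁻¹ = x := by
    intro x hx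
    have e := (mem_s1eD.1 hx).2.1.eq
    calc a * x * a⁻¹ = (a * x) * a⁻¹ := by group
      _ = (x * a) * a⁻¹ := by rw [e]
      _ = x := by group
  -- `N := {x ∈ G | x⁻¹ D x ≤ D ∧ x D x⁻¹ ≤ D}`
  let N : Subgroup Γ := G ⊓ Subgroup.normalizer (D : Set Γ)
  have hNmem : ∀ x, x ∈ N ↔ x ∈ G ∧ ∀ y, y ∈ D ↔ x * y * x⁻¹ ∈ D := by
    intro x
    show x ∈ G ⊓ Subgroup.normalizer (D : Set Γ) ↔ _
    rw [Subgroup.mem_inf, Subgroup.mem_normalizer_iff]
  have hNG : N ≤ G := fun x hx => ((hNmem x).1 hx).1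
  -- `N` is `a`-invariant
  have hNinv : ∀ x ∈ N, a⁻¹ * x * a ∈ N := by
    intro x hx
    obtain ⟨hxG, hxn⟩ := (hNmem x).1 hx
    refine (hNmem _).2 ⟨h.hyp.hnorm x hxG, ?_⟩
    intro y
    constructor
    · intro hy
      have h1 : x * y * x⁻¹ ∈ D := (hxn y).1 hy
      have h2 := haD _ h1
      have e : a⁻¹ * x * a * y * (a⁻¹ * x * a)⁻¹ = a⁻¹ * (x * (a * y * a⁻¹) * x⁻¹) * a := by group
      rw [e, haD' y hy, h2]; exact h1
    · intro hy
      -- `a (…) a⁻¹ ∈ D`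
      have e : a⁻¹ * x * a * y * (a⁻¹ * x * a)⁻¹ = a⁻¹ * (x * (a * y * a⁻¹) * x⁻¹) * a := by group
      rw [e] at hy
      have h1 := haD' _ hy
      have e2 : a * (a⁻¹ * (x * (a * y * a⁻¹) * x⁻¹) * a) * a⁻¹ = x * (a * y * a⁻¹) * x⁻¹ := by group
      rw [e2] at h1
      have h3 : x * (a * y * a⁻¹) * x⁻¹ ∈ D := by rw [h1]; exact hy
      have h4 : a * y * a⁻¹ ∈ D := (hxn _).2 h3
      have h5 := haD _ h4
      have e3 : a⁻¹ * (a * y * a⁻¹) * a = y := by group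
      rw [e3] at h5
      rw [h5]; exact h4
  -- `v ∈ N`
  have hvD : ∀ y ∈ D, v * y * v⁻¹ ∈ D := by
    intro y hy
    obtain ⟨hyG, hya, hyb⟩ := mem_s1eD.1 hy
    refine mem_s1eD.2 ⟨G.mul_mem (G.mul_mem hvG hyG) (G.inv_mem hvG), ?_, ?_⟩
    · -- commutes with `a = v⁻¹ b v`... use `a = v b v⁻¹`
      have ea : a = v * b * v⁻¹ := by rw [hb]; group
      have e := hyb.eq
      show v * y * v⁻¹ * a = a * (v * y * v⁻¹)
      calc v * y * v⁻¹ * a = v * y * v⁻¹ * (v * b * v⁻¹) := by rw [← ea]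
        _ = v * (y * b) * v⁻¹ := by group
        _ = v * (b * y) * v⁻¹ := by rw [e]
        _ = (v * b * v⁻¹) * (v * y * v⁻¹) := by group
        _ = a * (v * y * v⁻¹) := by rw [← ea]
    · have eb : b = v * a * v⁻¹ := by
        have : v * a * v⁻¹ = v⁻¹ * a * v := by
          conv_lhs => rw [← hvinv]
          rw [inv_inv]
        rw [this]
      have e := hya.eq
      show v * y * v⁻¹ * b = b * (v * y * v⁻¹)
      calc v * y * v⁻¹ * b = v * y * v⁻¹ * (v * a * v⁻¹) := by rw [← eb]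
        _ = v * (y * a) * v⁻¹ := by group
        _ = v * (a * y) * v⁻¹ := by rw [e]
        _ = (v * a * v⁻¹) * (v * y * v⁻¹) := by group
        _ = b * (v * y * v⁻¹) := by rw [← eb]
  have hvN : v ∈ N := by
    refine (hNmem v).2 ⟨hvG, fun y => ⟨hvD y, fun hy => ?_⟩⟩
    have h1 := hvD _ hy
    have e : v * (v * y * v⁻¹) * v⁻¹ = y := by
      calc v * (v * y * v⁻¹) * v⁻¹ = (v * v) * y * (v * v)⁻¹ := by group
        _ = y := by rw [hvv]; group
    rwa [e] at h1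
  -- `N ≠ G` by (R0)
  have hNne : N ≠ G := by
    intro hNG'
    apply hDne
    apply hR0 D hDG
    · intro g hg x hx
      have hgN : g⁻¹ ∈ N := by rw [hNG']; exact G.inv_mem hg
      have := (((hNmem _).1 hgN).2 x).1 hx
      simpa using this
    · intro x hx
      exact (mem_s1eD.1 hx).2.1
  exact hKL N hNG hNne hNinv v hv hvN v hvN

end Cfsg.Agent.Lib.Helper6.GlFixS1e
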