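import Mathlib

/-!
# Facts on the alternating group of degree five, and their transport to isomorphic subgroups
-/

set_option autoImplicit false

namespace Cfsg.Agent.Lib.Helper6.HJ

theorem a5_card : Fintype.card (alternatingGroup (Fin 5)) = 60 := by decide +kernel

theorem a5_ord5 : ∃ g : alternatingGroup (Fin 5), g ≠ 1 ∧ g ^ 5 = 1 := by decide +kernel

theorem a5_invol :
    Fintype.card {x : alternatingGroup (Fin 5) // x * x = 1 ∧ x ≠ 1} = 15 := by decide +kernel

theorem a5_cent : ∀ s : alternatingGroup (Fin 5), s * s = 1 → s ≠ 1 →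
    Fintype.card {x : alternatingGroup (Fin 5) // x * s = s * x} = 4 ∧
    ∀ x : alternatingGroup (Fin 5), x * s = s * x → x * x = 1 := by decide +kernel

theorem a5_pairs : ∀ s : alternatingGroup (Fin 5), s * s = 1 → s ≠ 1 →
    Fintype.card {y : alternatingGroup (Fin 5) // y * y = 1 ∧ (s * y) ^ 15 = 1} = 13 := by
  decide +kernel

variable {G : Type*} [Group G]

/-- transport of a count along an isomorphism of a subgroup -/
theorem card_transport {B : Subgroup G} {A : Type*} [Group A] (e : B ≃* A) (P : G → Prop)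
    (P' : A → Prop) (h : ∀ x : B, P (x : G) ↔ P' (e x)) :
    Nat.card {x : G // x ∈ B ∧ P x} = Nat.card {y : A // P' y} := by
  have e1 : {x : G // x ∈ B ∧ P x} ≃ {x : B // P (x : G)} :=
    { toFun := fun x => ⟨⟨x.1, x.2.1⟩, x.2.2⟩
      invFun := fun x => ⟨x.1.1, x.1.2, x.2⟩
      left_inv := fun x => rfl
      right_inv := fun x => rfl }
  have e2 : {x : B // P (x : G)} ≃ {y : A // P' y} := Equiv.subtypeEquiv e.toEquiv h
  exact Nat.card_congr (e1.trans e2)

section transport

variable {B : Subgroup G} (e : B ≃* alternatingGroup (Fin 5))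

include e

theorem tr_card : Nat.card B = 60 := by
  rw [Nat.card_congr e.toEquiv, Nat.card_eq_fintype_card, a5_card]

theorem tr_ord5 : ∃ g ∈ B, g ≠ 1 ∧ g ^ 5 = 1 := by
  obtain ⟨y, hy1, hy5⟩ := a5_ord5
  refine ⟨(e.symm y : G), (e.symm y).2, ?_, ?_⟩
  · intro h
    apply hy1
    have : e.symm y = 1 := Subtype.ext h
    have := congrArg e this
    simpa using this
  · have : (e.symm y) ^ 5 = 1 := by rw [← map_pow, hy5, map_one]
    exact congrArg Subtype.val this

theorem tr_invol : Nat.card {x : G // x ∈ B ∧ (x * x = 1 ∧ x ≠ 1)} = 15 := by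
  rw [card_transport e (fun x => x * x = 1 ∧ x ≠ 1) (fun y => y * y = 1 ∧ y ≠ 1),
    Nat.card_eq_fintype_card, a5_invol]
  intro x
  constructor
  · rintro ⟨h1, h2⟩
    refine ⟨?_, ?_⟩
    · have : x * x = 1 := Subtype.ext h1
      rw [← map_mul, this, map_one]
    · intro h
      apply h2
      have : x = 1 := by
        have := congrArg e.symm h
        simpa using this
      rw [this]; rfl
  · rintro ⟨h1, h2⟩
    refine ⟨?_, ?_⟩
    · have : e (x * x) = e 1 := by rw [map_mul, h1, map_one]
      exact congrArg Subtype.val (e.injective this)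
    · intro h
      apply h2
      have : x = 1 := Subtype.ext h
      rw [this, map_one]

theorem tr_cent {s : G} (hs : s ∈ B) (hss : s * s = 1) (hs1 : s ≠ 1) :
    Nat.card {x : G // x ∈ B ∧ x * s = s * x} = 4 ∧ ∀ x ∈ B, x * s = s * x → x * x = 1 := by
  have h1 : e ⟨s, hs⟩ * e ⟨s, hs⟩ = 1 := by
    rw [← map_mul]
    have : (⟨s, hs⟩ : B) * ⟨s, hs⟩ = 1 := Subtype.ext hss
    rw [this, map_one]
  have h2 : e ⟨s, hs⟩ ≠ 1 := by
    intro h
    apply hs1
    have : (⟨s, hs⟩ : B) = 1 := by
      have := congrArg e.symm h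
      simpa using this
    exact congrArg Subtype.val this
  obtain ⟨h3, h4⟩ := a5_cent (e ⟨s, hs⟩) h1 h2
  have key : ∀ x : B, (x : G) * s = s * (x : G) ↔ e x * e ⟨s, hs⟩ = e ⟨s, hs⟩ * e x := by
    intro x
    rw [← map_mul, ← map_mul]
    constructor
    · intro h
      congr 1
      exact Subtype.ext h
    · intro h
      exact congrArg Subtype.val (e.injective h)
  refine ⟨?_, ?_⟩
  · rw [card_transport e (fun x => x * s = s * x) (fun y => y * e ⟨s, hs⟩ = e ⟨s, hs⟩ * y) key,
      Nat.card_eq_fintype_card, h3]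
  · intro x hx hxs
    have := h4 (e ⟨x, hx⟩) ((key ⟨x, hx⟩).mp hxs)
    rw [← map_mul] at this
    have h5 : (⟨x, hx⟩ : B) * ⟨x, hx⟩ = 1 := by
      have := congrArg e.symm this
      simpa using this
    exact congrArg Subtype.val h5

theorem tr_pairs {s : G} (hs : s ∈ B) (hss : s * s = 1) (hs1 : s ≠ 1) :
    Nat.card {y : G // y ∈ B ∧ (y * y = 1 ∧ (s * y) ^ 15 = 1)} = 13 := by
  have h1 : e ⟨s, hs⟩ * e ⟨s, hs⟩ = 1 := by
    rw [← map_mul]
    have : (⟨s, hs⟩ : B) * ⟨s, hs⟩ = 1 := Subtype.ext hss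
    rw [this, map_one]
  have h2 : e ⟨s, hs⟩ ≠ 1 := by
    intro h
    apply hs1
    have : (⟨s, hs⟩ : B) = 1 := by
      have := congrArg e.symm h
      simpa using this
    exact congrArg Subtype.val this
  rw [card_transport e (fun y => y * y = 1 ∧ (s * y) ^ 15 = 1)
    (fun y => y * y = 1 ∧ (e ⟨s, hs⟩ * y) ^ 15 = 1), Nat.card_eq_fintype_card,
    a5_pairs _ h1 h2]
  intro x
  have k1 : (x : G) * (x : G) = 1 ↔ e x * e x = 1 := by
    rw [← map_mul]
    constructor
    · intro h
      have : x * x = 1 := Subtype.ext h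
      rw [this, map_one]
    · intro h
      have : e (x * x) = e 1 := by rw [h, map_one]
      exact congrArg Subtype.val (e.injective this)
  have k2 : (s * (x : G)) ^ 15 = 1 ↔ (e ⟨s, hs⟩ * e x) ^ 15 = 1 := by
    rw [← map_mul, ← map_pow]
    constructor
    · intro h
      have : ((⟨s, hs⟩ : B) * x) ^ 15 = 1 := Subtype.ext h
      rw [this, map_one]
    · intro h
      have : e (((⟨s, hs⟩ : B) * x) ^ 15) = e 1 := by rw [h, map_one]
      exact congrArg Subtype.val (e.injective this)
  exact and_congr k1 k2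

end transport

end Cfsg.Agent.Lib.Helper6.HJ
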