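import Mathlib

/-!
# Extraspecial groups of order `32`: counting the elements of order at most two

For a subgroup `Q` of order `32` whose centre `{1, z}` has order two and contains all squares and
commutators, the number of solutions of `x * x = 1` in `Q` is `12` or `20` (a Gauss sum), and
in the first case `Q` has no elementary abelian subgroup of order eight.
-/

set_option autoImplicit false

namespace Cfsg.Agent.Lib.Helper6.HJ

variable {G : Type*} [Group G]

/-- a subgroup of order `32` with centre `{1, z}` containing all squares and commutators -/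
structure Ex (Q : Subgroup G) (z : G) : Prop where
  card : Nat.card Q = 32
  zQ : z ∈ Q
  z1 : z ≠ 1
  zz : z * z = 1
  zc : ∀ a ∈ Q, a * z = z * a
  sq : ∀ a ∈ Q, a * a = 1 ∨ a * a = z
  comm : ∀ a ∈ Q, ∀ b ∈ Q, a * b = b * a ∨ a * b = b * a * z
  cen : ∀ a ∈ Q, (∀ b ∈ Q, a * b = b * a) → a = 1 ∨ a = z

open Classical in
/-- the sign of the square -/
noncomputable def F (x : G) : ℤ := if x * x = 1 then 1 else -1

open Classical in
/-- the sign of the commutator -/
noncomputable def cc (x w : G) : ℤ := if x * w = w * x then 1 else -1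

theorem F_of_one {x : G} (h : x * x = 1) : F x = 1 := by simp [F, h]

theorem F_of_ne {x : G} (h : x * x ≠ 1) : F x = -1 := by simp [F, h]

theorem cc_of_comm {x w : G} (h : x * w = w * x) : cc x w = 1 := by simp [cc, h]

theorem cc_of_ne {x w : G} (h : x * w ≠ w * x) : cc x w = -1 := by simp [cc, h]

theorem F_mul_self (x : G) : F x * F x = 1 := by
  unfold F; split_ifs <;> norm_num

theorem cc_mul_self (x w : G) : cc x w * cc x w = 1 := by
  unfold cc; split_ifs <;> norm_num

theorem cc_symm (x w : G) : cc x w = cc w x := by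
  unfold cc
  by_cases h : x * w = w * x
  · rw [if_pos h, if_pos h.symm]
  · rw [if_neg h, if_neg (fun h' => h h'.symm)]

theorem F_nonneg (x : G) : 0 ≤ F x + 1 := by
  unfold F; split_ifs <;> norm_num

theorem cc_nonneg (x w : G) : 0 ≤ 1 + cc x w := by
  unfold cc; split_ifs <;> norm_num

theorem F_one : F (1 : G) = 1 := F_of_one (one_mul 1)

theorem cc_one_left (w : G) : cc 1 w = 1 := cc_of_comm (by simp)

variable {Q : Subgroup G} {z : G}

theorem Ex.F_z (h : Ex Q z) : F z = 1 := F_of_one h.zz

theorem Ex.mul_z_ne (h : Ex Q z) (a : G) : a * z ≠ a := by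
  intro h'
  exact h.z1 (mul_left_cancel (a := a) (by rw [h', mul_one]))

/-- the square of a product -/
theorem Ex.F_mul (h : Ex Q z) {x y : G} (hx : x ∈ Q) (hy : y ∈ Q) :
    F (x * y) = F x * F y * cc x y := by
  have hyz : y * z = z * y := h.zc y hy
  rcases h.comm y hy x hx with hk | hk
  · -- `y * x = x * y`
    have hsq : x * y * (x * y) = x * x * (y * y) := by
      calc x * y * (x * y) = x * (y * x) * y := by group
        _ = x * (x * y) * y := by rw [hk]
        _ = x * x * (y * y) := by group
    rw [cc_of_comm hk.symm, mul_one]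
    rcases h.sq x hx with hxx | hxx <;> rcases h.sq y hy with hyy | hyy
    · rw [F_of_one hxx, F_of_one hyy, F_of_one (x := x * y) (by rw [hsq, hxx, hyy, one_mul])]
      norm_num
    · rw [F_of_one hxx, F_of_ne (x := y) (by rw [hyy]; exact h.z1),
        F_of_ne (x := x * y) (by rw [hsq, hxx, hyy, one_mul]; exact h.z1)]; norm_num
    · rw [F_of_ne (x := x) (by rw [hxx]; exact h.z1), F_of_one hyy,
        F_of_ne (x := x * y) (by rw [hsq, hxx, hyy, mul_one]; exact h.z1)]; norm_num
    · rw [F_of_ne (x := x) (by rw [hxx]; exact h.z1), F_of_ne (x := y) (by rw [hyy]; exact h.z1),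
        F_of_one (x := x * y) (by rw [hsq, hxx, hyy, h.zz])]; norm_num
  · -- `y * x = x * y * z`
    have hsq : x * y * (x * y) = x * x * (y * y) * z := by
      calc x * y * (x * y) = x * (y * x) * y := by group
        _ = x * (x * y * z) * y := by rw [hk]
        _ = x * x * (y * (z * y)) := by group
        _ = x * x * (y * (y * z)) := by rw [hyz]
        _ = x * x * (y * y) * z := by group
    have hne : x * y ≠ y * x := by
      intro h'
      rw [h'] at hk
      exact h.mul_z_ne _ hk.symm
    rw [cc_of_ne hne]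
    rcases h.sq x hx with hxx | hxx <;> rcases h.sq y hy with hyy | hyy
    · rw [F_of_one hxx, F_of_one hyy,
        F_of_ne (x := x * y) (by rw [hsq, hxx, hyy, one_mul, one_mul]; exact h.z1)]; norm_num
    · rw [F_of_one hxx, F_of_ne (x := y) (by rw [hyy]; exact h.z1),
        F_of_one (x := x * y) (by rw [hsq, hxx, hyy, one_mul, h.zz])]; norm_num
    · rw [F_of_ne (x := x) (by rw [hxx]; exact h.z1), F_of_one hyy,
        F_of_one (x := x * y) (by rw [hsq, hxx, hyy, mul_one, h.zz])]; norm_num
    · rw [F_of_ne (x := x) (by rw [hxx]; exact h.z1), F_of_ne (x := y) (by rw [hyy]; exact h.z1),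
        F_of_ne (x := x * y) (by rw [hsq, hxx, hyy, h.zz, one_mul]; exact h.z1)]; norm_num

/-- the commutator sign is multiplicative in the first variable -/
theorem Ex.cc_mul_left (h : Ex Q z) {x x' w : G} (hx : x ∈ Q) (hx' : x' ∈ Q) (hw : w ∈ Q) :
    cc (x * x') w = cc x w * cc x' w := by
  have hx'z : x' * z = z * x' := h.zc x' hx'
  rcases h.comm x hx w hw with h1 | h1 <;> rcases h.comm x' hx' w hw with h2 | h2
  · have : x * x' * w = w * (x * x') := by
      calc x * x' * w = x * (x' * w) := by group
        _ = x * (w * x') := by rw [h2]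
        _ = x * w * x' := by group
        _ = w * x * x' := by rw [h1]
        _ = w * (x * x') := by group
    rw [cc_of_comm this, cc_of_comm h1, cc_of_comm h2]; norm_num
  · have : x * x' * w = w * (x * x') * z := by
      calc x * x' * w = x * (x' * w) := by group
        _ = x * (w * x' * z) := by rw [h2]
        _ = x * w * x' * z := by group
        _ = w * x * x' * z := by rw [h1]
        _ = w * (x * x') * z := by group
    have hne : x * x' * w ≠ w * (x * x') := by
      rw [this]; exact h.mul_z_ne _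
    have hne2 : x' * w ≠ w * x' := by
      rw [h2]; exact h.mul_z_ne _
    rw [cc_of_ne hne, cc_of_comm h1, cc_of_ne hne2]; norm_num
  · have : x * x' * w = w * (x * x') * z := by
      calc x * x' * w = x * (x' * w) := by group
        _ = x * (w * x') := by rw [h2]
        _ = x * w * x' := by group
        _ = w * x * z * x' := by rw [h1]
        _ = w * x * (z * x') := by group
        _ = w * x * (x' * z) := by rw [hx'z]
        _ = w * (x * x') * z := by group
    have hne : x * x' * w ≠ w * (x * x') := by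
      rw [this]; exact h.mul_z_ne _
    have hne1 : x * w ≠ w * x := by
      rw [h1]; exact h.mul_z_ne _
    rw [cc_of_ne hne, cc_of_ne hne1, cc_of_comm h2]; norm_num
  · have : x * x' * w = w * (x * x') := by
      calc x * x' * w = x * (x' * w) := by group
        _ = x * (w * x' * z) := by rw [h2]
        _ = x * w * x' * z := by group
        _ = w * x * z * x' * z := by rw [h1]
        _ = w * x * (z * x') * z := by group
        _ = w * x * (x' * z) * z := by rw [hx'z]
        _ = w * (x * x') * (z * z) := by group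
        _ = w * (x * x') := by rw [h.zz, mul_one]
    have hne1 : x * w ≠ w * x := by
      rw [h1]; exact h.mul_z_ne _
    have hne2 : x' * w ≠ w * x' := by
      rw [h2]; exact h.mul_z_ne _
    rw [cc_of_comm this, cc_of_ne hne1, cc_of_ne hne2]; norm_num

theorem Ex.cc_mul_right (h : Ex Q z) {x a b : G} (hx : x ∈ Q) (ha : a ∈ Q) (hb : b ∈ Q) :
    cc x (a * b) = cc x a * cc x b := by
  rw [cc_symm, h.cc_mul_left ha hb hx, cc_symm a, cc_symm b]

section sums

variable [Fintype Q]

theorem Ex.card_eq (h : Ex Q z) : Fintype.card Q = 32 := by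
  rw [← Nat.card_eq_fintype_card]; exact h.card

/-- the sum of the commutator signs against a non-central element vanishes -/
theorem Ex.sum_cc (h : Ex Q z) {w : G} (hw : w ∈ Q) (hw1 : w ≠ 1) (hwz : w ≠ z) :
    ∑ x : Q, cc (x : G) w = 0 := by
  have hex : ∃ x0 ∈ Q, x0 * w ≠ w * x0 := by
    by_contra hcon
    push Not at hcon
    rcases h.cen w hw (fun b hb => (hcon b hb).symm) with h1 | h1
    · exact hw1 h1
    · exact hwz h1
  obtain ⟨x0, hx0, hne⟩ := hex
  have h1 : ∑ x : Q, cc ((x : G)) w = ∑ x : Q, cc (x0 * (x : G)) w := by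
    refine (Fintype.sum_equiv (Equiv.mulLeft (⟨x0, hx0⟩ : Q)) _ _ ?_).symm
    intro x
    rfl
  have h2 : ∑ x : Q, cc (x0 * (x : G)) w = - ∑ x : Q, cc (x : G) w := by
    rw [← Finset.sum_neg_distrib]
    apply Finset.sum_congr rfl
    intro x _
    rw [h.cc_mul_left hx0 x.2 hw, cc_of_ne hne]; ring
  rw [h2] at h1
  omega

theorem Ex.sum_cc_one (h : Ex Q z) : ∑ x : Q, cc (x : G) 1 = 32 := by
  have : ∀ x : Q, cc (x : G) 1 = 1 := fun x => cc_of_comm (by simp)
  simp only [this, Finset.sum_const, Finset.card_univ, h.card_eq]; norm_num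

theorem Ex.sum_cc_z (h : Ex Q z) : ∑ x : Q, cc (x : G) z = 32 := by
  have : ∀ x : Q, cc (x : G) z = 1 := fun x => cc_of_comm (h.zc x x.2)
  simp only [this, Finset.sum_const, Finset.card_univ, h.card_eq]; norm_num

/-- the twisted sum of the square signs -/
theorem Ex.sum_F_cc (h : Ex Q z) {w : G} (hw : w ∈ Q) :
    ∑ x : Q, F (x : G) * cc (x : G) w = F w * ∑ x : Q, F (x : G) := by
  have h1 : ∑ x : Q, F (x : G) = ∑ x : Q, F ((x : G) * w) := by
    refine (Fintype.sum_equiv (Equiv.mulRight (⟨w, hw⟩ : Q)) _ _ ?_).symm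
    intro x
    rfl
  rw [h1, Finset.mul_sum]
  apply Finset.sum_congr rfl
  intro x _
  rw [h.F_mul x.2 hw]
  have := F_mul_self w
  calc F (x : G) * cc (x : G) w = F (x : G) * cc (x : G) w * (F w * F w) := by rw [this, mul_one]
    _ = F w * (F (x : G) * F w * cc (x : G) w) := by ring

/-- the Gauss sum -/
theorem Ex.sum_sq (h : Ex Q z) : (∑ x : Q, F (x : G)) * (∑ x : Q, F (x : G)) = 64 := by
  classical
  have h1 : (∑ x : Q, F (x : G)) * (∑ x : Q, F (x : G)) =
      ∑ w : Q, ∑ x : Q, F (x : G) * cc (x : G) (w : G) := by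
    rw [Finset.sum_mul]
    apply Finset.sum_congr rfl
    intro w _
    rw [h.sum_F_cc w.2]
  rw [h1, Finset.sum_comm]
  have h2 : ∀ x : Q, ∑ w : Q, F (x : G) * cc (x : G) (w : G) =
      if (x : G) = 1 ∨ (x : G) = z then 32 else 0 := by
    intro x
    rw [← Finset.mul_sum]
    have h3 : ∑ w : Q, cc (x : G) (w : G) = ∑ w : Q, cc (w : G) (x : G) :=
      Finset.sum_congr rfl (fun w _ => cc_symm _ _)
    rw [h3]
    by_cases hx : (x : G) = 1 ∨ (x : G) = z
    · rw [if_pos hx]
      rcases hx with hx | hx
      · rw [hx, h.sum_cc_one, F_one]; norm_num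
      · rw [hx, h.sum_cc_z, h.F_z]; norm_num
    · rw [if_neg hx]
      push Not at hx
      rw [h.sum_cc x.2 hx.1 hx.2, mul_zero]
  rw [Finset.sum_congr rfl (fun x _ => h2 x)]
  rw [← Finset.sum_filter, Finset.sum_const]
  have h4 : (Finset.univ.filter (fun x : Q => (x : G) = 1 ∨ (x : G) = z)) =
      {(1 : Q), (⟨z, h.zQ⟩ : Q)} := by
    ext x
    simp only [Finset.mem_filter, Finset.mem_univ, true_and, Finset.mem_insert,
      Finset.mem_singleton]
    constructor
    · rintro (hx | hx)
      · left; exact Subtype.ext hx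
      · right; exact Subtype.ext hx
    · rintro (hx | hx)
      · left; rw [hx]; rfl
      · right; rw [hx]
  rw [h4, Finset.card_pair]
  · norm_num
  · intro h'
    exact h.z1 (congrArg Subtype.val h').symm

theorem Ex.sum_cases (h : Ex Q z) : (∑ x : Q, F (x : G)) = 8 ∨ (∑ x : Q, F (x : G)) = -8 := by
  have h1 := h.sum_sq
  set S := ∑ x : Q, F (x : G)
  have h2 : (S - 8) * (S + 8) = 0 := by ring_nf; ring_nf at h1; omega
  rcases mul_eq_zero.mp h2 with h3 | h3
  · left; omega
  · right; omega

open Classical in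
/-- the sum of the square signs in terms of the number of solutions of `x * x = 1` -/
theorem Ex.sum_eq_card (h : Ex Q z) :
    (∑ x : Q, F (x : G)) =
      2 * ((Finset.univ.filter (fun x : Q => (x : G) * (x : G) = 1)).card : ℤ) - 32 := by
  have h1 : ∀ x : Q, F (x : G) = 2 * (if (x : G) * (x : G) = 1 then 1 else 0) - 1 := by
    intro x
    unfold F
    split_ifs <;> norm_num
  rw [Finset.sum_congr rfl (fun x _ => h1 x), Finset.sum_sub_distrib, ← Finset.mul_sum,
    Finset.sum_boole, Finset.sum_const, Finset.card_univ, h.card_eq]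
  norm_num

/-- no elementary abelian subgroup of order eight when the Gauss sum is negative -/
theorem Ex.no_E8 (h : Ex Q z) (hS : (∑ x : Q, F (x : G)) = -8) {a b : G} (ha : a ∈ Q) (hb : b ∈ Q)
    (haa : a * a = 1) (hbb : b * b = 1) (hab : a * b * (a * b) = 1)
    (ha1 : a ≠ 1) (haz : a ≠ z) (hb1 : b ≠ 1) (hbz : b ≠ z) (hab1 : a * b ≠ 1) (habz : a * b ≠ z) :
    False := by
  have habQ : a * b ∈ Q := Q.mul_mem ha hb
  have hsum : ∑ x : Q, (F (x : G) + 1) * ((1 + cc (x : G) a) * (1 + cc (x : G) b)) = 0 := by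
    have hexp : ∀ x : Q, (F (x : G) + 1) * ((1 + cc (x : G) a) * (1 + cc (x : G) b)) =
        F (x : G) + F (x : G) * cc (x : G) a + F (x : G) * cc (x : G) b
          + F (x : G) * cc (x : G) (a * b) + 1 + cc (x : G) a + cc (x : G) b
          + cc (x : G) (a * b) := by
      intro x
      rw [h.cc_mul_right x.2 ha hb]; ring
    rw [Finset.sum_congr rfl (fun x _ => hexp x)]
    simp only [Finset.sum_add_distrib]
    rw [h.sum_F_cc ha, h.sum_F_cc hb, h.sum_F_cc habQ, h.sum_cc ha ha1 haz, h.sum_cc hb hb1 hbz,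
      h.sum_cc habQ hab1 habz, F_of_one haa, F_of_one hbb, F_of_one hab, hS]
    simp only [Finset.sum_const, Finset.card_univ, h.card_eq]
    norm_num
  have hnn : ∀ x ∈ (Finset.univ : Finset Q),
      0 ≤ (F (x : G) + 1) * ((1 + cc (x : G) a) * (1 + cc (x : G) b)) := by
    intro x _
    exact mul_nonneg (F_nonneg _) (mul_nonneg (cc_nonneg _ _) (cc_nonneg _ _))
  have h0 := (Finset.sum_eq_zero_iff_of_nonneg hnn).mp hsum (1 : Q) (Finset.mem_univ _)
  have h1 : ((1 : Q) : G) = 1 := rfl
  rw [h1, F_one, cc_one_left, cc_one_left] at h0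
  norm_num at h0

end sums

end Cfsg.Agent.Lib.Helper6.HJ
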