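import Mathlib
import Cfsg.Agent.Lib.Helper6.HJ0
import Cfsg.Agent.Lib.Helper6.HJ1

/-!
# The centralizer `Q : K` with `Q` extraspecial of order `32` and `K ≅ A₅`: the number of
involutions of `Q`
-/

set_option autoImplicit false

namespace Cfsg.Agent.Lib.Helper6.HJ

variable {G : Type*} [Group G]

/-- fixed points of conjugation by an element of prime order on an invariant finite set -/
theorem card_modEq_of_conj {S : Set G} [Fintype S] (g : G) (p : ℕ) [Fact p.Prime]
    (hg : g ^ p = 1) (hS : ∀ x ∈ S, g * x * g⁻¹ ∈ S) [Fintype {x : S // g * (x : G) = (x : G) * g}] :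
    Fintype.card S ≡ Fintype.card {x : S // g * (x : G) = (x : G) * g} [MOD p] := by
  classical
  let f : Function.End S := fun x => ⟨g * x * g⁻¹, hS x x.2⟩
  have hpow : ∀ (n : ℕ) (x : S), (((f ^ n) x : S) : G) = g ^ n * x * (g ^ n)⁻¹ := by
    intro n
    induction n with
    | zero =>
      intro x
      show (x : G) = g ^ 0 * x * (g ^ 0)⁻¹
      simp
    | succ n ih =>
      intro x
      rw [pow_succ]
      show (((f ^ n) (f x) : S) : G) = _
      rw [ih (f x)]
      show g ^ n * (g * x * g⁻¹) * (g ^ n)⁻¹ = _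
      rw [pow_succ, mul_inv_rev]; group
  have hf : f ^ p ^ 1 = 1 := by
    rw [pow_one]
    funext x
    apply Subtype.ext
    rw [hpow p x, hg]
    show (1 : G) * x * 1⁻¹ = (x : G)
    simp
  have h1 := Equiv.Perm.card_fixedPoints_modEq (p := p) (n := 1) hf
  have h2 : Fintype.card (Function.fixedPoints f) =
      Fintype.card {x : S // g * (x : G) = (x : G) * g} := by
    apply Fintype.card_congr
    refine Equiv.subtypeEquivRight ?_
    intro x
    show f x = x ↔ _
    constructor
    · intro h
      have := congrArg Subtype.val h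
      have h3 : g * (x : G) * g⁻¹ = x := this
      calc g * (x : G) = g * x * g⁻¹ * g := by group
        _ = x * g := by rw [h3]
    · intro h
      apply Subtype.ext
      show g * (x : G) * g⁻¹ = x
      rw [h]; group
  rw [h2] at h1
  exact h1

/-- the configuration: `Q` extraspecial of order `32` with centre `⟨z⟩`, `K ≅ A₅` a complement
to `Q` in the centralizer of `z`, and `Q` self-centralizing in the centralizer of `z` -/
structure Cfg (z : G) (Q K : Subgroup G) : Prop where
  ex : Ex Q z
  hK : ∀ k ∈ K, k * z = z * k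
  hself : ∀ g : G, g * z = z * g → (∀ b ∈ Q, g * b = b * g) → g ∈ Q
  hnorm : ∀ g : G, g * z = z * g → ∀ q ∈ Q, g * q * g⁻¹ ∈ Q
  hdec : ∀ c : G, c * z = z * c → ∃ q ∈ Q, ∃ k ∈ K, c = q * k
  hKQ : ∀ x ∈ K, x ∈ Q → x = 1
  eK : Nonempty (K ≃* alternatingGroup (Fin 5))

variable {z : G} {Q K : Subgroup G}

theorem Cfg.exists_g (c : Cfg z Q K) : ∃ g ∈ K, g ≠ 1 ∧ g ^ 5 = 1 := by
  obtain ⟨e⟩ := c.eK
  exact tr_ord5 e

/-- an element of order five of `K` centralizes only `1` and `z` in `Q` -/
theorem Cfg.cent_g [Finite G] (c : Cfg z Q K) {g : G} (hgK : g ∈ K) (hg1 : g ≠ 1) (hg5 : g ^ 5 = 1)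
    {x : G} (hx : x ∈ Q) (hgx : g * x = x * g) : x = 1 ∨ x = z := by
  classical
  have : Fact (Nat.Prime 5) := ⟨by norm_num⟩
  haveI : Fintype G := Fintype.ofFinite G
  have hgz : g * z = z * g := c.hK g hgK
  set H : Subgroup G := Q ⊓ Subgroup.centralizer {g} with hH
  have hmemH : ∀ y : G, y ∈ H ↔ y ∈ Q ∧ g * y = y * g := by
    intro y
    rw [hH, Subgroup.mem_inf, Subgroup.mem_centralizer_iff]
    constructor
    · rintro ⟨h1, h2⟩
      exact ⟨h1, h2 g rfl⟩
    · rintro ⟨h1, h2⟩
      refine ⟨h1, ?_⟩
      intro y' hy'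
      rw [Set.mem_singleton_iff] at hy'
      rw [hy']; exact h2
  have hdvd : Nat.card H ∣ 32 := by
    rw [← c.ex.card]
    exact Subgroup.card_dvd_of_le inf_le_left
  have hmod : Fintype.card (Q : Set G) ≡
      Fintype.card {x : (Q : Set G) // g * (x : G) = (x : G) * g} [MOD 5] :=
    card_modEq_of_conj g 5 hg5 (fun x hx => c.hnorm g hgz x hx)
  have hcQ : Fintype.card (Q : Set G) = 32 := by
    rw [← Nat.card_eq_fintype_card]; exact c.ex.card
  have hcH : Fintype.card {x : (Q : Set G) // g * (x : G) = (x : G) * g} = Nat.card H := by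
    rw [← Nat.card_eq_fintype_card]
    apply Nat.card_congr
    exact
      { toFun := fun x => ⟨x.1.1, (hmemH _).mpr ⟨x.1.2, x.2⟩⟩
        invFun := fun y => ⟨⟨y.1, ((hmemH _).mp y.2).1⟩, ((hmemH _).mp y.2).2⟩
        left_inv := fun x => rfl
        right_inv := fun y => rfl }
  rw [hcQ, hcH] at hmod
  have hle : Nat.card H ≤ 32 := Nat.le_of_dvd (by norm_num) hdvd
  have hcases : Nat.card H = 2 ∨ Nat.card H = 32 := by
    have : ∀ n : ℕ, n ≤ 32 → n ∣ 32 → 32 ≡ n [MOD 5] → n = 2 ∨ n = 32 := by decide
    exact this _ hle hdvd hmod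
  rcases hcases with h2 | h32
  · -- `H = {1, z}`
    have hzH : z ∈ H := (hmemH z).mpr ⟨c.ex.zQ, hgz⟩
    have hxH : x ∈ H := (hmemH x).mpr ⟨hx, hgx⟩
    by_contra hcon
    push Not at hcon
    haveI : Fintype H := Fintype.ofFinite H
    have h3 : 3 ≤ Fintype.card H := by
      have hT : ({(1 : H), ⟨z, hzH⟩, ⟨x, hxH⟩} : Finset H).card = 3 := by
        rw [Finset.card_insert_of_notMem, Finset.card_pair]
        · intro h'
          exact hcon.2 (congrArg Subtype.val h').symm
        · simp only [Finset.mem_insert, Finset.mem_singleton, not_or]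
          refine ⟨?_, ?_⟩
          · intro h'
            exact c.ex.z1 (congrArg Subtype.val h').symm
          · intro h'
            exact hcon.1 (congrArg Subtype.val h').symm
      rw [← hT]
      exact Finset.card_le_univ _
    rw [← Nat.card_eq_fintype_card, h2] at h3
    omega
  · -- `g` centralizes `Q`
    exfalso
    have hHQ : H = Q := by
      apply Subgroup.eq_of_le_of_card_ge inf_le_left
      rw [h32, c.ex.card]
    have hall : ∀ b ∈ Q, g * b = b * g := by
      intro b hb
      rw [← hHQ] at hb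
      exact ((hmemH b).mp hb).2
    exact hg1 (c.hKQ g hgK (c.hself g hgz hall))

/-- the number of elements of `Q` of order at most two is twelve -/
theorem Cfg.card_sq [Finite G] (c : Cfg z Q K) [Fintype Q] :
    (∑ x : Q, F (x : G)) = -8 := by
  classical
  have : Fact (Nat.Prime 5) := ⟨by norm_num⟩
  obtain ⟨g, hgK, hg1, hg5⟩ := c.exists_g
  have hgz : g * z = z * g := c.hK g hgK
  rcases c.ex.sum_cases with h8 | h8
  · exfalso
    have hcard := c.ex.sum_eq_card
    rw [h8] at hcard
    have hX : (Finset.univ.filter (fun x : Q => (x : G) * (x : G) = 1)).card = 20 := by omega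
    -- the set of elements with square one
    set S : Set G := {x | x ∈ Q ∧ x * x = 1} with hS
    haveI : Fintype S := Fintype.ofFinite S
    have hinv : ∀ x ∈ S, g * x * g⁻¹ ∈ S := by
      intro x hx
      refine ⟨c.hnorm g hgz x hx.1, ?_⟩
      calc g * x * g⁻¹ * (g * x * g⁻¹) = g * (x * x) * g⁻¹ := by group
        _ = 1 := by rw [hx.2]; group
    have hmod := card_modEq_of_conj g 5 hg5 hinv
    have hcS : Fintype.card S = 20 := by
      rw [← hX, ← Fintype.card_coe]
      apply Fintype.card_congr
      exact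
        { toFun := fun x => ⟨⟨x.1, x.2.1⟩, by simp [x.2.2]⟩
          invFun := fun y => ⟨y.1.1, y.1.2, (Finset.mem_filter.mp y.2).2⟩
          left_inv := fun x => rfl
          right_inv := fun y => rfl }
    have hcF : Fintype.card {x : S // g * (x : G) = (x : G) * g} = 2 := by
      have : ∀ x : {x : S // g * (x : G) = (x : G) * g}, (x : G) = 1 ∨ (x : G) = z :=
        fun x => c.cent_g hgK hg1 hg5 x.1.2.1 x.2
      rw [← Nat.card_eq_fintype_card]
      have e : {x : S // g * (x : G) = (x : G) * g} ≃ ({1, z} : Set G) :=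
        { toFun := fun x => ⟨x.1.1, by
            rcases this x with h | h
            · left; exact h
            · right; exact h⟩
          invFun := fun y => ⟨⟨y.1, by
            rcases y.2 with h | h
            · rw [h]; exact ⟨Q.one_mem, by simp⟩
            · rw [Set.mem_singleton_iff] at h
              rw [h]; exact ⟨c.ex.zQ, c.ex.zz⟩⟩, by
            rcases y.2 with h | h
            · show g * y.1 = y.1 * g
              rw [h]; simp
            · rw [Set.mem_singleton_iff] at h
              show g * y.1 = y.1 * g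
              rw [h]; exact hgz⟩
          left_inv := fun x => rfl
          right_inv := fun y => rfl }
      rw [Nat.card_congr e, Nat.card_coe_set_eq, Set.ncard_pair (Ne.symm c.ex.z1)]
    rw [hcS, hcF] at hmod
    exact absurd hmod (by decide)
  · exact h8

end Cfsg.Agent.Lib.Helper6.HJ
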