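import Mathlib
import Cfsg.Agent.Lib.Helper6.HJ2

/-!
# Counting lemmas, and the centralizer `V × B` of the second involution
-/

set_option autoImplicit false

namespace Cfsg.Agent.Lib.Helper6.HJ

variable {G : Type*} [Group G]

/-- counting pairs fibrewise over the first coordinate -/
theorem card_pairs {α β : Type*} [Finite α] [Finite β] (P : α × β → Prop) (A : α → Prop)
    (R : α → β → Prop) (n m : ℕ) (hA : Nat.card {a // A a} = n)
    (hR : ∀ a, A a → Nat.card {b // R a b} = m) (hP : ∀ p, P p ↔ A p.1 ∧ R p.1 p.2) :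
    Nat.card {p : α × β // P p} = n * m := by
  classical
  haveI : Fintype {a // A a} := Fintype.ofFinite _
  have e : {p : α × β // P p} ≃ Σ a : {a // A a}, {b // R a.1 b} :=
    { toFun := fun p => ⟨⟨p.1.1, ((hP p.1).mp p.2).1⟩, ⟨p.1.2, ((hP p.1).mp p.2).2⟩⟩
      invFun := fun s => ⟨(s.1.1, s.2.1), (hP _).mpr ⟨s.1.2, s.2.2⟩⟩
      left_inv := fun p => rfl
      right_inv := fun s => rfl }
  rw [Nat.card_congr e, Nat.card_sigma]
  rw [Finset.sum_congr rfl (fun a _ => hR a.1 a.2), Finset.sum_const, Finset.card_univ,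
    ← Nat.card_eq_fintype_card, hA]
  simp

/-- counting pairs fibrewise over the second coordinate -/
theorem card_pairs' {α β : Type*} [Finite α] [Finite β] (P : α × β → Prop) (A : β → Prop)
    (R : β → α → Prop) (n m : ℕ) (hA : Nat.card {b // A b} = n)
    (hR : ∀ b, A b → Nat.card {a // R b a} = m) (hP : ∀ p, P p ↔ A p.2 ∧ R p.2 p.1) :
    Nat.card {p : α × β // P p} = n * m := by
  have e : {p : α × β // P p} ≃ {p : β × α // P p.swap} :=
    (Equiv.prodComm α β).subtypeEquiv (fun p => by simp)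
  rw [Nat.card_congr e]
  exact card_pairs (fun p => P p.swap) A R n m hA hR (fun p => hP p.swap)

/-- removing the identity from a count -/
theorem card_ne_one [Finite G] (P : G → Prop) (h1 : P 1) (n : ℕ)
    (h : Nat.card {x // P x} = n + 1) : Nat.card {x // P x ∧ x ≠ 1} = n := by
  classical
  haveI : Fintype G := Fintype.ofFinite G
  rw [Nat.card_eq_fintype_card, Fintype.card_subtype] at h ⊢
  have : (Finset.univ.filter (fun x => P x ∧ x ≠ 1)) = (Finset.univ.filter P).erase 1 := by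
    ext x
    simp [and_comm]
  rw [this, Finset.card_erase_of_mem (by simp [h1]), h]
  rfl

/-- counting a complement -/
theorem card_and_not [Finite G] (P C : G → Prop) (n m : ℕ) (h : Nat.card {x // P x} = n)
    (hc : Nat.card {x // P x ∧ C x} = m) : Nat.card {x // P x ∧ ¬ C x} = n - m := by
  classical
  haveI : Fintype G := Fintype.ofFinite G
  rw [Nat.card_eq_fintype_card, Fintype.card_subtype] at h hc ⊢
  have h1 := Finset.card_filter_add_card_filter_not (s := Finset.univ.filter P) C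
  rw [Finset.filter_filter, Finset.filter_filter] at h1
  subst h hc
  exact Nat.eq_sub_of_add_eq' h1

/-- the order of a product of two subgroups meeting trivially -/
theorem card_of_dec (A B C : Subgroup G) (hA : A ≤ C) (hB : B ≤ C)
    (hAB : ∀ x ∈ A, x ∈ B → x = 1) (hdec : ∀ c ∈ C, ∃ a ∈ A, ∃ b ∈ B, c = a * b) :
    Nat.card C = Nat.card A * Nat.card B := by
  rw [← Nat.card_prod]
  symm
  apply Nat.card_congr
  apply Equiv.ofBijective
    (fun p : A × B => (⟨p.1.1 * p.2.1, C.mul_mem (hA p.1.2) (hB p.2.2)⟩ : C))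
  constructor
  · rintro ⟨a, b⟩ ⟨a', b'⟩ h
    have h' : (a : G) * b = a' * b' := congrArg Subtype.val h
    have h1 : (a' : G)⁻¹ * a = b' * (b : G)⁻¹ := by
      calc (a' : G)⁻¹ * a = (a' : G)⁻¹ * (a * b) * (b : G)⁻¹ := by group
        _ = b' * (b : G)⁻¹ := by rw [h']; group
    have h2 : (a' : G)⁻¹ * a = 1 :=
      hAB _ (A.mul_mem (A.inv_mem a'.2) a.2) (h1 ▸ B.mul_mem b'.2 (B.inv_mem b.2))
    have h3 : (a : G) = a' := by
      calc (a : G) = a' * ((a' : G)⁻¹ * a) := by group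
        _ = a' := by rw [h2, mul_one]
    have h4 : (b : G) = b' := by
      rw [h3] at h'
      exact mul_left_cancel h'
    exact Prod.ext (Subtype.ext h3) (Subtype.ext h4)
  · rintro ⟨c, hc⟩
    obtain ⟨a, ha, b, hb, rfl⟩ := hdec c hc
    exact ⟨(⟨a, ha⟩, ⟨b, hb⟩), rfl⟩

theorem inv_of_sq {u : G} (hu : u * u = 1) : u⁻¹ = u := inv_eq_of_mul_eq_one_left hu

/-- two involutions centralize every involution in the cyclic group generated by their product -/
theorem comm_of_mem_zpowers {u v w : G} (hu : u * u = 1) (hv : v * v = 1) (hw : w * w = 1)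
    (h : w ∈ Subgroup.zpowers (u * v)) : u * w = w * u ∧ v * w = w * v := by
  obtain ⟨k, rfl⟩ := Subgroup.mem_zpowers_iff.mp h
  have hui : u⁻¹ = u := inv_of_sq hu
  have hvi : v⁻¹ = v := inv_of_sq hv
  have hwi : ((u * v) ^ k)⁻¹ = (u * v) ^ k := inv_of_sq hw
  have h1 : u * (u * v) * u⁻¹ = (u * v)⁻¹ := by
    calc u * (u * v) * u⁻¹ = (u * u) * v * u⁻¹ := by group
      _ = v⁻¹ * u⁻¹ := by rw [hu, one_mul, hvi]
      _ = (u * v)⁻¹ := by rw [mul_inv_rev]
  have h2 : v * (u * v) * v⁻¹ = (u * v)⁻¹ := by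
    calc v * (u * v) * v⁻¹ = v * u := by group
      _ = v⁻¹ * u⁻¹ := by rw [hui, hvi]
      _ = (u * v)⁻¹ := by rw [mul_inv_rev]
  constructor
  · have : u * (u * v) ^ k * u⁻¹ = (u * v) ^ k := by
      rw [← conj_zpow, h1, inv_zpow, hwi]
    exact mul_inv_eq_iff_eq_mul.mp this
  · have : v * (u * v) ^ k * v⁻¹ = (u * v) ^ k := by
      rw [← conj_zpow, h2, inv_zpow, hwi]
    exact mul_inv_eq_iff_eq_mul.mp this

/-- conjugates of involutions are involutions -/
theorem invol_of_isConj {z u : G} (hzz : z * z = 1) (hz1 : z ≠ 1) (h : IsConj z u) :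
    u * u = 1 ∧ u ≠ 1 := by
  obtain ⟨c, hc⟩ := isConj_iff.mp h
  subst hc
  refine ⟨?_, ?_⟩
  · calc c * z * c⁻¹ * (c * z * c⁻¹) = c * (z * z) * c⁻¹ := by group
      _ = 1 := by rw [hzz]; group
  · intro h1
    exact hz1 (conj_eq_one_iff.mp h1)

/-- the centralizer of `t` is `V × B`, with `V` a four-group containing `t`, `B ≅ A₅`, the
involutions of `B` conjugate to `z`, the other involutions of the centralizer conjugate to `t` -/
structure TT (z t : G) (V B : Subgroup G) : Prop where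
  zz : z * z = 1
  z1 : z ≠ 1
  tt : t * t = 1
  t1 : t ≠ 1
  tV : t ∈ V
  cardV : Nat.card V = 4
  V2 : ∀ a ∈ V, a * a = 1
  Vc : ∀ a ∈ V, a * t = t * a
  Bc : ∀ b ∈ B, b * t = t * b
  VB : ∀ a ∈ V, ∀ b ∈ B, a * b = b * a
  VBi : ∀ x ∈ V, x ∈ B → x = 1
  dec : ∀ c : G, c * t = t * c → ∃ a ∈ V, ∃ b ∈ B, c = a * b
  eB : Nonempty (B ≃* alternatingGroup (Fin 5))
  Bz : ∀ x ∈ B, x * x = 1 → x ≠ 1 → IsConj x z
  Ct : ∀ x : G, x * t = t * x → x * x = 1 → x ≠ 1 → x ∉ B → IsConj x t
  zt : ¬ IsConj z t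

variable {z t : G} {V B : Subgroup G}

theorem TT.mem_B (h : TT z t V B) {s : G} (hs : IsConj z s) (hst : s * t = t * s) : s ∈ B := by
  by_contra hn
  obtain ⟨hss, hs1⟩ := invol_of_isConj h.zz h.z1 hs
  exact h.zt (hs.trans (h.Ct s hst hss hs1 hn))

theorem TT.not_mem_B (h : TT z t V B) {s : G} (hs : IsConj t s) : s ∉ B := by
  intro hn
  obtain ⟨hss, hs1⟩ := invol_of_isConj h.tt h.t1 hs
  exact h.zt ((hs.trans (h.Bz s hn hss hs1)).symm)

theorem TT.t_not_mem (h : TT z t V B) : t ∉ B := fun hn => h.t1 (h.VBi t h.tV hn)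

theorem TT.card_Ct (h : TT z t V B) : Nat.card (Subgroup.centralizer ({t} : Set G)) = 240 := by
  obtain ⟨e⟩ := h.eB
  have hmem : ∀ x : G, x ∈ Subgroup.centralizer ({t} : Set G) ↔ x * t = t * x := by
    intro x
    rw [Subgroup.mem_centralizer_iff]
    constructor
    · intro hx
      exact (hx t rfl).symm
    · intro hx y hy
      rw [Set.mem_singleton_iff] at hy
      rw [hy]; exact hx.symm
  rw [card_of_dec V B _ (fun a ha => (hmem a).mpr (h.Vc a ha)) (fun b hb => (hmem b).mpr (h.Bc b hb))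
    h.VBi (fun c hc => h.dec c ((hmem c).mp hc)), h.cardV, tr_card e]

/-- elements of the centralizer of `t` commuting with an involution `s` of `B` -/
theorem TT.sq_of_comm (h : TT z t V B) {s : G} (hs : IsConj z s) (hst : s * t = t * s) {x : G}
    (hxt : x * t = t * x) (hxs : x * s = s * x) : x * x = 1 := by
  obtain ⟨e⟩ := h.eB
  obtain ⟨hss, hs1⟩ := invol_of_isConj h.zz h.z1 hs
  have sB : s ∈ B := h.mem_B hs hst
  obtain ⟨a, ha, b, hb, rfl⟩ := h.dec x hxt
  have has : a * s = s * a := h.VB a ha s sB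
  have hbs : b * s = s * b := by
    have : a * (b * s) = a * (s * b) := by
      calc a * (b * s) = a * b * s := by group
        _ = s * (a * b) := hxs
        _ = (s * a) * b := by group
        _ = a * s * b := by rw [has]
        _ = a * (s * b) := by group
    exact mul_left_cancel this
  have hbb : b * b = 1 := (tr_cent e sB hss hs1).2 b hb hbs
  have hab : a * b = b * a := h.VB a ha b hb
  calc a * b * (a * b) = a * (b * a) * b := by group
    _ = a * (a * b) * b := by rw [hab]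
    _ = (a * a) * (b * b) := by group
    _ = 1 := by rw [h.V2 a ha, hbb, one_mul]

theorem TT.card_cent (h : TT z t V B) {s : G} (hs : IsConj z s) (hst : s * t = t * s) [Finite G] :
    Nat.card {x : G // x * t = t * x ∧ x * s = s * x ∧ IsConj z x} = 3 := by
  obtain ⟨e⟩ := h.eB
  obtain ⟨hss, hs1⟩ := invol_of_isConj h.zz h.z1 hs
  have sB : s ∈ B := h.mem_B hs hst
  have hiff : ∀ x : G, (x * t = t * x ∧ x * s = s * x ∧ IsConj z x) ↔
      ((x ∈ B ∧ x * s = s * x) ∧ x ≠ 1) := by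
    intro x
    constructor
    · rintro ⟨h1, h2, h3⟩
      exact ⟨⟨h.mem_B h3 h1, h2⟩, (invol_of_isConj h.zz h.z1 h3).2⟩
    · rintro ⟨⟨h1, h2⟩, h3⟩
      refine ⟨h.Bc x h1, h2, ?_⟩
      exact (h.Bz x h1 ((tr_cent e sB hss hs1).2 x h1 h2) h3).symm
  rw [Nat.card_congr (Equiv.subtypeEquivRight hiff)]
  exact card_ne_one (fun x => x ∈ B ∧ x * s = s * x) ⟨B.one_mem, by simp⟩ 3 (tr_cent e sB hss hs1).1

end Cfsg.Agent.Lib.Helper6.HJ
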