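import Mathlib
import Cfsg.Agent.Lib.Helper6.HJ3

/-!
# The second term of the Thompson order formula: `195` pairs
-/

set_option autoImplicit false

namespace Cfsg.Agent.Lib.Helper6.HJ

variable {G : Type*} [Group G]

variable {z t : G} {V B : Subgroup G}

theorem pow15_of_sq {t : G} (h : t * t = 1) : t ^ 15 = t := by
  have h2 : t ^ 2 = 1 := by rw [pow_two, h]
  calc t ^ 15 = (t ^ 2) ^ 7 * t := by rw [← pow_mul, ← pow_succ]
    _ = t := by rw [h2, one_pow, one_mul]

/-- an element of a group of order `60` with an odd power equal to one has fifteenth power one -/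
theorem pow15_of_odd {d : G} (h60 : d ^ 60 = 1) {m : ℤ} (hm : d ^ (2 * m + 1) = 1) : d ^ 15 = 1 := by
  have h1 : orderOf d ∣ 60 := orderOf_dvd_of_pow_eq_one h60
  have h2 : (orderOf d : ℤ) ∣ 2 * m + 1 := orderOf_dvd_iff_zpow_eq_one.mpr hm
  have h3 : ¬ 2 ∣ orderOf d := by
    intro h
    have : (2 : ℤ) ∣ 2 * m + 1 := dvd_trans (by exact_mod_cast h) h2
    omega
  have h4 : orderOf d ≤ 60 := Nat.le_of_dvd (by norm_num) h1
  have h5 : ∀ o : ℕ, o ≤ 60 → o ∣ 60 → ¬ 2 ∣ o → o ∣ 15 := by decide
  exact orderOf_dvd_iff_pow_eq_one.mp (h5 _ h4 h1 h3)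

theorem zpow_of_sq {a : G} (h : a * a = 1) (k : ℤ) : a ^ k = 1 ∨ (a ^ k = a ∧ ∃ m : ℤ, k = 2 * m + 1) := by
  have h2 : a ^ (2 : ℤ) = 1 := by rw [zpow_two, h]
  rcases Int.even_or_odd' k with ⟨m, hm | hm⟩
  · left
    rw [hm, zpow_mul, h2, one_zpow]
  · right
    refine ⟨?_, m, hm⟩
    rw [hm, zpow_add, zpow_mul, h2, one_zpow, one_mul, zpow_one]

/-- the characterization of the pairs in the second term -/
theorem TT.n2_iff (h : TT z t V B) [Finite G] (u v : G) :
    (IsConj z u ∧ IsConj t v ∧ t ∈ Subgroup.zpowers (u * v)) ↔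
      ((u ∈ B ∧ (u * u = 1 ∧ u ≠ 1)) ∧
        (t * v ∈ B ∧ ((t * v) * (t * v) = 1 ∧ (u * (t * v)) ^ 15 = 1))) := by
  obtain ⟨e⟩ := h.eB
  have hti : t⁻¹ = t := inv_of_sq h.tt
  constructor
  · rintro ⟨hu, hv, hmem⟩
    obtain ⟨huu, hu1⟩ := invol_of_isConj h.zz h.z1 hu
    obtain ⟨hvv, hv1⟩ := invol_of_isConj h.tt h.t1 hv
    obtain ⟨hut, hvt⟩ := comm_of_mem_zpowers huu hvv h.tt hmem
    have huB : u ∈ B := h.mem_B hu hut
    have hvB : v ∉ B := h.not_mem_B hv
    obtain ⟨a, ha, b, hb, hvab⟩ := h.dec v hvt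
    have hab : a * b = b * a := h.VB a ha b hb
    have hau : a * u = u * a := h.VB a ha u huB
    have hbb : b * b = 1 := by
      have : a * b * (a * b) = b * b := by
        calc a * b * (a * b) = a * (b * a) * b := by group
          _ = a * (a * b) * b := by rw [hab]
          _ = (a * a) * (b * b) := by group
          _ = b * b := by rw [h.V2 a ha, one_mul]
      rw [← this, ← hvab, hvv]
    obtain ⟨k, hk⟩ := Subgroup.mem_zpowers_iff.mp hmem
    have huv : u * v = a * (u * b) := by
      rw [hvab]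
      calc u * (a * b) = (u * a) * b := by group
        _ = a * u * b := by rw [hau]
        _ = a * (u * b) := by group
    have hcomm : Commute a (u * b) := by
      show a * (u * b) = u * b * a
      calc a * (u * b) = (a * u) * b := by group
        _ = u * a * b := by rw [hau]
        _ = u * (a * b) := by group
        _ = u * (b * a) := by rw [hab]
        _ = u * b * a := by group
    rw [huv, hcomm.mul_zpow] at hk
    -- `a ^ k * (u * b) ^ k = t`
    have hubB : (u * b) ^ k ∈ B := B.zpow_mem (B.mul_mem huB hb) k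
    have hakV : a ^ k ∈ V := V.zpow_mem ha k
    have h1 : t⁻¹ * a ^ k = ((u * b) ^ k)⁻¹ := by
      calc t⁻¹ * a ^ k = t⁻¹ * (a ^ k * (u * b) ^ k) * ((u * b) ^ k)⁻¹ := by group
        _ = ((u * b) ^ k)⁻¹ := by rw [hk]; group
    have h2 : t⁻¹ * a ^ k = 1 :=
      h.VBi _ (V.mul_mem (V.inv_mem h.tV) hakV) (h1 ▸ B.inv_mem hubB)
    have hak : a ^ k = t := by
      calc a ^ k = t * (t⁻¹ * a ^ k) := by group
        _ = t := by rw [h2, mul_one]
    have hubk : (u * b) ^ k = 1 := by
      rw [hak] at hk
      exact mul_left_cancel (hk.trans (mul_one t).symm)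
    rcases zpow_of_sq (h.V2 a ha) k with h3 | ⟨h3, m, hm⟩
    · exact absurd (hak.symm.trans h3) h.t1
    · have hat : a = t := h3.symm.trans hak
      have hvtb : v = t * b := by rw [hvab, hat]
      have htv : t * v = b := by
        rw [hvtb]
        calc t * (t * b) = (t * t) * b := by group
          _ = b := by rw [h.tt, one_mul]
      rw [htv]
      refine ⟨⟨huB, huu, hu1⟩, hb, hbb, ?_⟩
      have h60 : (u * b) ^ 60 = 1 := by
        have := pow_card_eq_one' (G := B) (x := ⟨u * b, B.mul_mem huB hb⟩)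
        rw [tr_card e] at this
        exact congrArg Subtype.val this
      rw [hm] at hubk
      exact pow15_of_odd h60 hubk
  · rintro ⟨⟨huB, huu, hu1⟩, hb, hbb, h15⟩
    set b := t * v with hbdef
    have hvtb : v = t * b := by
      rw [hbdef]
      calc v = (t * t) * v := by rw [h.tt, one_mul]
        _ = t * (t * v) := by group
    have hbt : b * t = t * b := h.Bc b hb
    have hut : u * t = t * u := h.Bc u huB
    refine ⟨(h.Bz u huB huu hu1).symm, ?_, ?_⟩
    · have hvt : v * t = t * v := by
        rw [hvtb]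
        calc t * b * t = t * (b * t) := by group
          _ = t * (t * b) := by rw [hbt]
      have hvv : v * v = 1 := by
        rw [hvtb]
        calc t * b * (t * b) = t * (b * t) * b := by group
          _ = t * (t * b) * b := by rw [hbt]
          _ = (t * t) * (b * b) := by group
          _ = 1 := by rw [h.tt, hbb, one_mul]
      have hvB : v ∉ B := by
        intro hv
        apply h.t_not_mem
        have : t = v * b⁻¹ := by rw [hvtb]; group
        rw [this]
        exact B.mul_mem hv (B.inv_mem hb)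
      have hv1 : v ≠ 1 := fun h1 => hvB (h1 ▸ B.one_mem)
      exact (h.Ct v hvt hvv hv1 hvB).symm
    · have huv : u * v = t * (u * b) := by
        rw [hvtb]
        calc u * (t * b) = (u * t) * b := by group
          _ = t * u * b := by rw [hut]
          _ = t * (u * b) := by group
      have hcomm : Commute t (u * b) := by
        show t * (u * b) = u * b * t
        calc t * (u * b) = (t * u) * b := by group
          _ = u * t * b := by rw [hut]
          _ = u * (t * b) := by group
          _ = u * (b * t) := by rw [hbt]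
          _ = u * b * t := by group
      have : (u * v) ^ 15 = t := by
        rw [huv, hcomm.mul_pow, h15, mul_one, pow15_of_sq h.tt]
      rw [← this]
      exact Subgroup.npow_mem_zpowers _ _

/-- the second term of the Thompson order formula -/
theorem TT.n2 (h : TT z t V B) [Finite G] :
    Nat.card {p : G × G // IsConj z p.1 ∧ IsConj t p.2 ∧ t ∈ Subgroup.zpowers (p.1 * p.2)} = 195 := by
  obtain ⟨e⟩ := h.eB
  have := card_pairs (α := G) (β := G)
    (fun p => IsConj z p.1 ∧ IsConj t p.2 ∧ t ∈ Subgroup.zpowers (p.1 * p.2))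
    (fun u => u ∈ B ∧ (u * u = 1 ∧ u ≠ 1))
    (fun u v => t * v ∈ B ∧ ((t * v) * (t * v) = 1 ∧ (u * (t * v)) ^ 15 = 1)) 15 13
    (tr_invol e) ?_ (fun p => h.n2_iff p.1 p.2)
  · exact this
  · rintro u ⟨huB, huu, hu1⟩
    rw [← tr_pairs e huB huu hu1]
    apply Nat.card_congr
    exact (Equiv.mulLeft t).subtypeEquiv (fun v => Iff.rfl)

end Cfsg.Agent.Lib.Helper6.HJ
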