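import Mathlib
import Cfsg.Agent.Lib.Helper6.HJ4

/-!
# The first term of the Thompson order formula: characterization of the pairs
-/

set_option autoImplicit false

namespace Cfsg.Agent.Lib.Helper6.HJ

variable {G : Type*} [Group G]

/-- the centralizer of `z`: the configuration `Q : K` together with the fusion of involutions -/
structure ZZ (z t : G) (Q K : Subgroup G) : Prop where
  cfg : Cfg z Q K
  Qz : ∀ x ∈ Q, x * x = 1 → x ≠ 1 → IsConj x z
  Cz : ∀ x : G, x * z = z * x → x * x = 1 → x ≠ 1 → x ∉ Q → IsConj x t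

variable {z t : G} {V B Q K : Subgroup G}

theorem conj_comm_iff (g a b : G) :
    (g⁻¹ * a * g) * (g⁻¹ * b * g) = (g⁻¹ * b * g) * (g⁻¹ * a * g) ↔ a * b = b * a := by
  constructor
  · intro h
    calc a * b = g * ((g⁻¹ * a * g) * (g⁻¹ * b * g)) * g⁻¹ := by group
      _ = g * ((g⁻¹ * b * g) * (g⁻¹ * a * g)) * g⁻¹ := by rw [h]
      _ = b * a := by group
  · intro h
    calc (g⁻¹ * a * g) * (g⁻¹ * b * g) = g⁻¹ * (a * b) * g := by group
      _ = g⁻¹ * (b * a) * g := by rw [h]
      _ = (g⁻¹ * b * g) * (g⁻¹ * a * g) := by group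

theorem isConj_conj (g x : G) : IsConj x (g⁻¹ * x * g) :=
  isConj_iff.mpr ⟨g⁻¹, by rw [inv_inv]⟩

/-- the number of involutions of `Q` -/
theorem ZZ.card_invQ [Finite G] (h' : ZZ z t Q K) :
    Nat.card {u : G // u ∈ Q ∧ (u * u = 1 ∧ u ≠ 1)} = 11 := by
  classical
  haveI : Fintype Q := Fintype.ofFinite Q
  have h1 := h'.cfg.card_sq
  have h2 := h'.cfg.ex.sum_eq_card
  rw [h1] at h2
  have h3 : (Finset.univ.filter (fun x : Q => (x : G) * (x : G) = 1)).card = 12 := by omega
  have h4 : Nat.card {x : G // x ∈ Q ∧ x * x = 1} = 12 := by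
    rw [← h3, ← Fintype.card_subtype, ← Nat.card_eq_fintype_card]
    apply Nat.card_congr
    exact
      { toFun := fun x => ⟨⟨x.1, x.2.1⟩, x.2.2⟩
        invFun := fun y => ⟨y.1.1, y.1.2, y.2⟩
        left_inv := fun x => rfl
        right_inv := fun y => rfl }
  have h5 := card_ne_one (fun x : G => x ∈ Q ∧ x * x = 1) ⟨Q.one_mem, by simp⟩ 11 h4
  rw [← h5]
  apply Nat.card_congr
  exact Equiv.subtypeEquivRight (fun x => by tauto)

/-- the centralizer in `Q` of a conjugate of `t` -/
theorem ZZ.cent_conj [Finite G] (h : TT z t V B) (h' : ZZ z t Q K) {v : G} (hv : IsConj t v)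
    (hvz : v * z = z * v) :
    (∀ x ∈ Q, x * v = v * x → x * x = 1) ∧
      Nat.card {x : G // (x ∈ Q ∧ (x * x = 1 ∧ x ≠ 1)) ∧ x * v = v * x} = 3 := by
  obtain ⟨g, hg⟩ := isConj_iff.mp hv
  subst hg
  have hs : IsConj z (g⁻¹ * z * g) := isConj_conj g z
  have hgt : g⁻¹ * (g * t * g⁻¹) * g = t := by group
  have hst : (g⁻¹ * z * g) * t = t * (g⁻¹ * z * g) := by
    have := (conj_comm_iff g z (g * t * g⁻¹)).mpr hvz.symm
    rw [hgt] at this
    exact this
  have key : ∀ x : G, x * z = z * x → x * (g * t * g⁻¹) = (g * t * g⁻¹) * x →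
      (g⁻¹ * x * g) * t = t * (g⁻¹ * x * g) ∧
        (g⁻¹ * x * g) * (g⁻¹ * z * g) = (g⁻¹ * z * g) * (g⁻¹ * x * g) := by
    intro x hxz hxv
    constructor
    · have := (conj_comm_iff g x (g * t * g⁻¹)).mpr hxv
      rw [hgt] at this
      exact this
    · exact (conj_comm_iff g x z).mpr hxz
  constructor
  · intro x hxQ hxv
    obtain ⟨k1, k2⟩ := key x (h'.cfg.ex.zc x hxQ) hxv
    have := h.sq_of_comm hs hst k1 k2
    calc x * x = g * ((g⁻¹ * x * g) * (g⁻¹ * x * g)) * g⁻¹ := by group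
      _ = 1 := by rw [this]; group
  · rw [← h.card_cent hs hst]
    apply Nat.card_congr
    refine ((Equiv.mulLeft g⁻¹).trans (Equiv.mulRight g)).subtypeEquiv ?_
    intro x
    show _ ↔ ((g⁻¹ * x * g) * t = t * (g⁻¹ * x * g) ∧
      (g⁻¹ * x * g) * (g⁻¹ * z * g) = (g⁻¹ * z * g) * (g⁻¹ * x * g) ∧ IsConj z (g⁻¹ * x * g))
    constructor
    · rintro ⟨⟨hxQ, hxx, hx1⟩, hxv⟩
      obtain ⟨k1, k2⟩ := key x (h'.cfg.ex.zc x hxQ) hxv
      exact ⟨k1, k2, (h'.Qz x hxQ hxx hx1).symm.trans (isConj_conj g x)⟩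
    · rintro ⟨k1, k2, k3⟩
      have hzx : IsConj z x := k3.trans (isConj_conj g x).symm
      obtain ⟨hxx, hx1⟩ := invol_of_isConj h.zz h.z1 hzx
      have hxz : x * z = z * x := (conj_comm_iff g x z).mp k2
      have hxv : x * (g * t * g⁻¹) = (g * t * g⁻¹) * x := by
        apply (conj_comm_iff g x (g * t * g⁻¹)).mp
        rw [hgt]
        exact k1
      refine ⟨⟨?_, hxx, hx1⟩, hxv⟩
      by_contra hn
      exact h.zt (hzx.trans (h'.Cz x hxz hxx hx1 hn))

/-- the involutions of `Q` not commuting with a given involution outside `Q` -/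
theorem ZZ.card_D [Finite G] (h : TT z t V B) (h' : ZZ z t Q K) {v : G} (hvz : v * z = z * v)
    (hvv : v * v = 1) (hv1 : v ≠ 1) (hvQ : v ∉ Q) :
    Nat.card {u : G // (u ∈ Q ∧ (u * u = 1 ∧ u ≠ 1)) ∧ ¬ u * v = v * u} = 8 :=
  card_and_not _ _ 11 3 h'.card_invQ
    (h'.cent_conj h (h'.Cz v hvz hvv hv1 hvQ).symm hvz).2

/-- the characterization of the pairs in the first term -/
theorem ZZ.n1_iff [Finite G] (h : TT z t V B) (h' : ZZ z t Q K) (u v : G) :
    (IsConj z u ∧ IsConj t v ∧ z ∈ Subgroup.zpowers (u * v)) ↔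
      ((v * z = z * v ∧ (v * v = 1 ∧ v ≠ 1) ∧ v ∉ Q) ∧
        ((u ∈ Q ∧ (u * u = 1 ∧ u ≠ 1)) ∧ ¬ u * v = v * u)) := by
  classical
  haveI : Fintype Q := Fintype.ofFinite Q
  have c := h'.cfg
  constructor
  · rintro ⟨hu, hv, hmem⟩
    obtain ⟨huu, hu1⟩ := invol_of_isConj h.zz h.z1 hu
    obtain ⟨hvv, hv1⟩ := invol_of_isConj h.tt h.t1 hv
    obtain ⟨huz, hvz⟩ := comm_of_mem_zpowers huu hvv c.ex.zz hmem
    have huQ : u ∈ Q := by
      by_contra hn
      exact h.zt (hu.trans (h'.Cz u huz huu hu1 hn))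
    have hvQ : v ∉ Q := by
      intro hn
      exact h.zt ((hv.trans (h'.Qz v hn hvv hv1)).symm)
    refine ⟨⟨hvz, ⟨hvv, hv1⟩, hvQ⟩, ⟨huQ, huu, hu1⟩, ?_⟩
    intro hc
    have huv2 : u * v * (u * v) = 1 := by
      calc u * v * (u * v) = u * (v * u) * v := by group
        _ = u * (u * v) * v := by rw [hc]
        _ = (u * u) * (v * v) := by group
        _ = 1 := by rw [huu, hvv, one_mul]
    obtain ⟨k, hk⟩ := Subgroup.mem_zpowers_iff.mp hmem
    rcases zpow_of_sq huv2 k with h1 | ⟨h1, -⟩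
    · exact c.ex.z1 (hk.symm.trans h1)
    · apply hvQ
      have hzuv : z = u * v := hk.symm.trans h1
      have : v = u * z := by
        rw [hzuv]
        calc v = (u * u) * v := by rw [huu, one_mul]
          _ = u * (u * v) := by group
      rw [this]
      exact Q.mul_mem huQ c.ex.zQ
  · rintro ⟨⟨hvz, ⟨hvv, hv1⟩, hvQ⟩, ⟨huQ, huu, hu1⟩, hnc⟩
    refine ⟨(h'.Qz u huQ huu hu1).symm, (h'.Cz v hvz hvv hv1 hvQ).symm, ?_⟩
    have hui : u⁻¹ = u := inv_of_sq huu
    have hvi : v⁻¹ = v := inv_of_sq hvv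
    have heQ : u * v * (u * v) ∈ Q := by
      have : u * v * (u * v) = u * (v * u * v⁻¹) := by rw [hvi]; group
      rw [this]
      exact Q.mul_mem huQ (c.hnorm v hvz u huQ)
    have he1 : u * v * (u * v) ≠ 1 := by
      intro h1
      apply hnc
      have := eq_inv_of_mul_eq_one_left h1
      rw [mul_inv_rev, hui, hvi] at this
      exact this
    have hemem : u * v * (u * v) ∈ Subgroup.zpowers (u * v) := by
      rw [← pow_two]
      exact Subgroup.npow_mem_zpowers _ _
    rcases c.ex.sq _ heQ with h1 | hz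
    · by_cases hez : u * v * (u * v) = z
      · rw [← hez]; exact hemem
      · exfalso
        obtain ⟨hue, hve⟩ := comm_of_mem_zpowers huu hvv h1 hemem
        set e := u * v * (u * v) with he
        have hei : e⁻¹ = e := inv_of_sq h1
        apply c.ex.no_E8 c.card_sq (a := e) (b := u) heQ huQ h1 huu ?_ he1 hez hu1 ?_ ?_ ?_
        · calc e * u * (e * u) = e * (u * e) * u := by group
            _ = e * (e * u) * u := by rw [hue]
            _ = (e * e) * (u * u) := by group
            _ = 1 := by rw [h1, huu, one_mul]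
        · intro huz
          apply hnc
          rw [huz]
          exact hvz.symm
        · intro h2
          apply hnc
          have : u = e := by
            calc u = e⁻¹ * (e * u) := by group
              _ = e := by rw [h2, mul_one, hei]
          rw [this]
          exact hve.symm
        · intro h2
          apply hnc
          have : u = e * z := by
            calc u = e⁻¹ * (e * u) := by group
              _ = e * z := by rw [h2, hei]
          rw [this]
          calc e * z * v = e * (z * v) := by group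
            _ = e * (v * z) := by rw [hvz]
            _ = (e * v) * z := by group
            _ = (v * e) * z := by rw [hve]
            _ = v * (e * z) := by group
    · rw [← hz]
      have : u * v * (u * v) * (u * v * (u * v)) = (u * v) ^ 4 := by
        rw [show (4 : ℕ) = 2 + 2 from rfl, pow_add, pow_two]
      rw [this]
      exact Subgroup.npow_mem_zpowers _ _

end Cfsg.Agent.Lib.Helper6.HJ
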