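import Mathlib
import Cfsg.Agent.Lib.Helper6.HJ5

/-!
# The first term of the Thompson order formula: `960` pairs
-/

set_option autoImplicit false

namespace Cfsg.Agent.Lib.Helper6.HJ

variable {G : Type*} [Group G]

/-- adding the identity to a count -/
theorem card_of_ne_one [Finite G] (P : G → Prop) (h1 : P 1) (n : ℕ)
    (h : Nat.card {x // P x ∧ x ≠ 1} = n) : Nat.card {x // P x} = n + 1 := by
  classical
  have : Fintype G := Fintype.ofFinite G
  rw [Nat.card_eq_fintype_card, Fintype.card_subtype] at h ⊢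
  have : (Finset.univ.filter (fun x => P x ∧ x ≠ 1)) = (Finset.univ.filter P).erase 1 := by
    ext x
    simp [and_comm]
  rw [this] at h
  rw [← h, Finset.card_erase_add_one (by simp [h1])]

/-- a map on a subgroup whose fibres are cosets of a subgroup -/
theorem card_coset_fibers [Fintype G] [DecidableEq G] (Q : Subgroup G) [DecidablePred (· ∈ Q)]
    (κ : G → G) (Hp : G → Prop) [DecidablePred Hp]
    (hfib : ∀ q ∈ Q, ∀ q' ∈ Q, κ q' = κ q ↔ Hp (q' * q⁻¹)) (hH : ∀ x, Hp x → x ∈ Q) :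
    (Finset.univ.filter (· ∈ Q)).card =
        ((Finset.univ.filter (· ∈ Q)).image κ).card * (Finset.univ.filter Hp).card ∧
      ∀ a, ((Finset.univ.filter (· ∈ Q)).filter (fun q => κ q = a)).card ≤
        (Finset.univ.filter Hp).card := by
  have hfc : ∀ q ∈ Q, ((Finset.univ.filter (· ∈ Q)).filter (fun q' => κ q' = κ q)).card =
      (Finset.univ.filter Hp).card := by
    intro q hq
    apply Finset.card_equiv (Equiv.mulRight q⁻¹)
    intro a
    simp only [Finset.mem_filter, Finset.mem_univ, true_and, Equiv.coe_mulRight]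
    constructor
    · rintro ⟨haQ, ha⟩
      exact (hfib q hq a haQ).mp ha
    · intro ha
      have haQ : a ∈ Q := by
        have := Q.mul_mem (hH _ ha) hq
        rwa [inv_mul_cancel_right] at this
      exact ⟨haQ, (hfib q hq a haQ).mpr ha⟩
  constructor
  · rw [Finset.card_eq_sum_card_image κ (Finset.univ.filter (· ∈ Q))]
    rw [Finset.sum_congr rfl (g := fun _ => (Finset.univ.filter Hp).card)]
    · rw [Finset.sum_const, smul_eq_mul]
    · intro b hb
      obtain ⟨q, hq, rfl⟩ := Finset.mem_image.mp hb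
      exact hfc q (Finset.mem_filter.mp hq).2
  · intro a
    by_cases hne : ((Finset.univ.filter (· ∈ Q)).filter (fun q => κ q = a)).Nonempty
    · obtain ⟨q, hq⟩ := hne
      rw [Finset.mem_filter] at hq
      rw [← hq.2, hfc q (Finset.mem_filter.mp hq.1).2]
    · rw [Finset.not_nonempty_iff_eq_empty] at hne
      rw [hne]
      exact Nat.zero_le _

variable {z t : G} {V B Q K : Subgroup G}

/-- the involutions in a coset `Q k` of an involution `k` of `K` -/
theorem ZZ.card_fiber [Finite G] (h : TT z t V B) (h' : ZZ z t Q K) {k : G} (hkK : k ∈ K)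
    (hkk : k * k = 1) (hk1 : k ≠ 1) :
    Nat.card {q : G // q ∈ Q ∧ (q * k) * (q * k) = 1} = 8 := by
  classical
  have : Fintype G := Fintype.ofFinite G
  have c := h'.cfg
  have hkz : k * z = z * k := c.hK k hkK
  have hkQ : k ∉ Q := fun hn => hk1 (c.hKQ k hkK hn)
  have hki : k⁻¹ = k := inv_of_sq hkk
  obtain ⟨hsq, h3⟩ := h'.cent_conj h (h'.Cz k hkz hkk hk1 hkQ).symm hkz
  -- the centralizer of `k` in `Q` has order four
  have hH4 : Nat.card {x : G // x ∈ Q ∧ x * k = k * x} = 4 := by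
    apply card_of_ne_one (fun x => x ∈ Q ∧ x * k = k * x) ⟨Q.one_mem, by simp⟩ 3
    rw [← h3]
    apply Nat.card_congr
    apply Equiv.subtypeEquivRight
    intro x
    constructor
    · rintro ⟨⟨hxQ, hxk⟩, hx1⟩
      exact ⟨⟨hxQ, hsq x hxQ hxk, hx1⟩, hxk⟩
    · rintro ⟨⟨hxQ, -, hx1⟩, hxk⟩
      exact ⟨⟨hxQ, hxk⟩, hx1⟩
  have hfib : ∀ q ∈ Q, ∀ q' ∈ Q, q'⁻¹ * k * q' * k = q⁻¹ * k * q * k ↔
      (q' * q⁻¹ ∈ Q ∧ (q' * q⁻¹) * k = k * (q' * q⁻¹)) := by
    intro q hq q' hq'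
    constructor
    · intro hc
      have hc' : q'⁻¹ * k * q' = q⁻¹ * k * q := mul_right_cancel hc
      refine ⟨Q.mul_mem hq' (Q.inv_mem hq), ?_⟩
      calc (q' * q⁻¹) * k = q' * (q⁻¹ * k * q) * q⁻¹ := by group
        _ = q' * (q'⁻¹ * k * q') * q⁻¹ := by rw [hc']
        _ = k * (q' * q⁻¹) := by group
    · rintro ⟨-, hc⟩
      have : q'⁻¹ * k * q' = q⁻¹ * k * q := by
        calc q'⁻¹ * k * q' = q'⁻¹ * (k * (q' * q⁻¹)) * q := by group
          _ = q'⁻¹ * ((q' * q⁻¹) * k) * q := by rw [hc]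
          _ = q⁻¹ * k * q := by group
      rw [this]
  obtain ⟨hc1, hc2⟩ := card_coset_fibers Q (fun q => q⁻¹ * k * q * k)
    (fun x => x ∈ Q ∧ x * k = k * x) hfib (fun x hx => hx.1)
  have hQ32 : (Finset.univ.filter (· ∈ Q)).card = 32 := by
    rw [← c.ex.card, Nat.card_eq_fintype_card, Fintype.card_subtype]
  have hH4' : (Finset.univ.filter (fun x => x ∈ Q ∧ x * k = k * x)).card = 4 := by
    rw [← hH4, Nat.card_eq_fintype_card, Fintype.card_subtype]
  rw [hQ32, hH4'] at hc1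
  rw [hH4'] at hc2
  have him : ((Finset.univ.filter (· ∈ Q)).image (fun q => q⁻¹ * k * q * k)).card = 8 := by omega
  rw [Nat.card_eq_fintype_card, Fintype.card_subtype]
  apply le_antisymm
  · -- at most eight
    have hsub : (Finset.univ.filter (fun q => q ∈ Q ∧ (q * k) * (q * k) = 1)) ⊆
        ((Finset.univ.filter (· ∈ Q)).filter (fun q => q⁻¹ * k * q * k = 1)) ∪
          ((Finset.univ.filter (· ∈ Q)).filter (fun q => q⁻¹ * k * q * k = z)) := by
      intro q hq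
      rw [Finset.mem_filter] at hq
      obtain ⟨-, hqQ, hqk⟩ := hq
      have h1 : k * q * k = q⁻¹ := by
        calc k * q * k = q⁻¹ * (q * k * (q * k)) := by group
          _ = q⁻¹ := by rw [hqk, mul_one]
      have h2 : q⁻¹ * k * q * k = (q * q)⁻¹ := by
        calc q⁻¹ * k * q * k = q⁻¹ * (k * q * k) := by group
          _ = (q * q)⁻¹ := by rw [h1, mul_inv_rev]
      simp only [Finset.mem_union, Finset.mem_filter, Finset.mem_univ, true_and]
      rcases c.ex.sq q hqQ with h3 | h3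
      · left
        exact ⟨hqQ, by rw [h2, h3, inv_one]⟩
      · right
        exact ⟨hqQ, by rw [h2, h3, inv_of_sq c.ex.zz]⟩
    calc (Finset.univ.filter (fun q => q ∈ Q ∧ (q * k) * (q * k) = 1)).card
        ≤ _ := Finset.card_le_card hsub
      _ ≤ _ := Finset.card_union_le _ _
      _ ≤ 4 + 4 := Nat.add_le_add (hc2 1) (hc2 z)
  · -- at least eight
    rw [← him]
    apply Finset.card_le_card
    intro x hx
    obtain ⟨q, hq, rfl⟩ := Finset.mem_image.mp hx
    have hqQ : q ∈ Q := (Finset.mem_filter.mp hq).2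
    rw [Finset.mem_filter]
    refine ⟨Finset.mem_univ _, ?_, ?_⟩
    · have : q⁻¹ * k * q * k = q⁻¹ * (k * q * k⁻¹) := by rw [hki]; group
      rw [this]
      exact Q.mul_mem (Q.inv_mem hqQ) (c.hnorm k hkz q hqQ)
    · have e1 : q⁻¹ * k * q * k * k = q⁻¹ * k * q := by rw [mul_assoc _ k k, hkk, mul_one]
      rw [e1]
      calc q⁻¹ * k * q * (q⁻¹ * k * q) = q⁻¹ * (k * k) * q := by group
        _ = 1 := by rw [hkk]; group

/-- the number of involutions of the centralizer of `z` outside `Q` -/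
theorem ZZ.card_J [Finite G] (h : TT z t V B) (h' : ZZ z t Q K) :
    Nat.card {v : G // v * z = z * v ∧ (v * v = 1 ∧ v ≠ 1) ∧ v ∉ Q} = 120 := by
  have c := h'.cfg
  obtain ⟨e⟩ := c.eK
  have hpairs := card_pairs (α := G) (β := G)
    (fun p => (p.1 ∈ K ∧ (p.1 * p.1 = 1 ∧ p.1 ≠ 1)) ∧ (p.2 ∈ Q ∧ (p.2 * p.1) * (p.2 * p.1) = 1))
    (fun k => k ∈ K ∧ (k * k = 1 ∧ k ≠ 1))
    (fun k q => q ∈ Q ∧ (q * k) * (q * k) = 1) 15 8
    (tr_invol e) (fun k hk => h'.card_fiber h hk.1 hk.2.1 hk.2.2) (fun p => Iff.rfl)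
  rw [show (120 : ℕ) = 15 * 8 from rfl, ← hpairs]
  symm
  apply Nat.card_congr
  have hwd : ∀ p : {p : G × G // (p.1 ∈ K ∧ (p.1 * p.1 = 1 ∧ p.1 ≠ 1)) ∧
      (p.2 ∈ Q ∧ (p.2 * p.1) * (p.2 * p.1) = 1)},
      (p.1.2 * p.1.1) * z = z * (p.1.2 * p.1.1) ∧
        ((p.1.2 * p.1.1) * (p.1.2 * p.1.1) = 1 ∧ p.1.2 * p.1.1 ≠ 1) ∧ p.1.2 * p.1.1 ∉ Q := by
    rintro ⟨⟨k, q⟩, ⟨hkK, hkk, hk1⟩, hqQ, hqk⟩
    have hkz := c.hK k hkK
    have hqz := c.ex.zc q hqQ
    have hnQ : q * k ∉ Q := by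
      intro hn
      apply hk1
      apply c.hKQ k hkK
      have : k = q⁻¹ * (q * k) := by group
      rw [this]
      exact Q.mul_mem (Q.inv_mem hqQ) hn
    refine ⟨?_, ⟨hqk, ?_⟩, hnQ⟩
    · show q * k * z = z * (q * k)
      calc q * k * z = q * (k * z) := by group
        _ = q * (z * k) := by rw [hkz]
        _ = (q * z) * k := by group
        _ = (z * q) * k := by rw [hqz]
        _ = z * (q * k) := by group
    · intro h1
      exact hnQ (h1 ▸ Q.one_mem)
  apply Equiv.ofBijective (fun p => (⟨p.1.2 * p.1.1, hwd p⟩ :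
    {v : G // v * z = z * v ∧ (v * v = 1 ∧ v ≠ 1) ∧ v ∉ Q}))
  constructor
  · rintro ⟨⟨k, q⟩, ⟨hkK, hkk, hk1⟩, hqQ, hqk⟩ ⟨⟨k', q'⟩, ⟨hkK', hkk', hk1'⟩, hqQ', hqk'⟩ heq
    have h0 : q * k = q' * k' := congrArg Subtype.val heq
    have h1 : q'⁻¹ * q = k' * k⁻¹ := by
      calc q'⁻¹ * q = q'⁻¹ * (q * k) * k⁻¹ := by group
        _ = k' * k⁻¹ := by rw [h0]; group
    have h2 : k' * k⁻¹ = 1 :=
      c.hKQ _ (K.mul_mem hkK' (K.inv_mem hkK)) (h1 ▸ Q.mul_mem (Q.inv_mem hqQ') hqQ)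
    have h3 : k' = k := by
      calc k' = (k' * k⁻¹) * k := by group
        _ = k := by rw [h2, one_mul]
    have h4 : q = q' := by
      rw [h3] at h0
      exact mul_right_cancel h0
    apply Subtype.ext
    show (k, q) = (k', q')
    rw [h3, h4]
  · rintro ⟨v, hvz, ⟨hvv, hv1⟩, hvQ⟩
    obtain ⟨q, hqQ, k, hkK, rfl⟩ := c.hdec v hvz
    have hkz := c.hK k hkK
    have hk1 : k ≠ 1 := by
      intro h1
      apply hvQ
      rw [h1, mul_one]
      exact hqQ
    have hkk : k * k = 1 := by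
      apply c.hKQ _ (K.mul_mem hkK hkK)
      have : k * k = (q * (k * q * k⁻¹))⁻¹ := by
        calc k * k = (q * (k * q * k⁻¹))⁻¹ * (q * k * (q * k)) := by group
          _ = (q * (k * q * k⁻¹))⁻¹ := by rw [hvv, mul_one]
      rw [this]
      exact Q.inv_mem (Q.mul_mem hqQ (c.hnorm k hkz q hqQ))
    exact ⟨⟨(k, q), ⟨hkK, hkk, hk1⟩, hqQ, hvv⟩, rfl⟩

/-- the first term of the Thompson order formula -/
theorem ZZ.n1 [Finite G] (h : TT z t V B) (h' : ZZ z t Q K) :
    Nat.card {p : G × G // IsConj z p.1 ∧ IsConj t p.2 ∧ z ∈ Subgroup.zpowers (p.1 * p.2)} =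
      960 :=
  card_pairs' (α := G) (β := G)
    (fun p => IsConj z p.1 ∧ IsConj t p.2 ∧ z ∈ Subgroup.zpowers (p.1 * p.2))
    (fun v => v * z = z * v ∧ (v * v = 1 ∧ v ≠ 1) ∧ v ∉ Q)
    (fun v u => (u ∈ Q ∧ (u * u = 1 ∧ u ≠ 1)) ∧ ¬ u * v = v * u) 120 8
    (h'.card_J h) (fun v hv => h'.card_D h hv.1 hv.2.1.1 hv.2.1.2 hv.2.2)
    (fun p => h'.n1_iff h p.1 p.2)

theorem Cfg.card_Cz (c : Cfg z Q K) : Nat.card (Subgroup.centralizer ({z} : Set G)) = 1920 := by
  obtain ⟨e⟩ := c.eK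
  have hmem : ∀ x : G, x ∈ Subgroup.centralizer ({z} : Set G) ↔ x * z = z * x := by
    intro x
    rw [Subgroup.mem_centralizer_iff]
    constructor
    · intro hx
      exact (hx z rfl).symm
    · intro hx y hy
      rw [Set.mem_singleton_iff] at hy
      rw [hy]; exact hx.symm
  rw [card_of_dec Q K _ (fun a ha => (hmem a).mpr (c.ex.zc a ha))
    (fun b hb => (hmem b).mpr (c.hK b hb))
    (fun x hxQ hxK => c.hKQ x hxK hxQ) (fun x hx => c.hdec x ((hmem x).mp hx)), c.ex.card, tr_card e]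

end Cfsg.Agent.Lib.Helper6.HJ
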