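import Mathlib
import Cfsg.Prelude.Def_Transfer
import Cfsg.Prelude.Def_TwoFusion
import Cfsg.Prelude.Def_Local
import Cfsg.Agent.Lib.Helper6.HJ6
import Cfsg.Agent.Lib.Lead.Frattini
import Cfsg.Agent.Lib.Helper3.CharP2
import Cfsg.Agent.Lib.Helper3.Components7
import Cfsg.Agent.Lib.Helper9.LargeExtra13

/-!
# From the hypotheses on the centralizers to the abstract configurations
-/

set_option autoImplicit false

namespace Cfsg.Agent.Lib.Helper6.HJ

open scoped commutatorElement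

theorem two_of_card {X : Type*} [Group X] (S : Subgroup X) (hS : Nat.card S = 2) {w : X}
    (hw : w ∈ S) (hw1 : w ≠ 1) : ∀ x ∈ S, x = 1 ∨ x = w := by
  intro x hx
  by_contra hcon
  push Not at hcon
  obtain ⟨y, hy, huniq⟩ := (Nat.card_eq_two_iff' (1 : S)).mp hS
  have h1 : (⟨x, hx⟩ : S) = y := huniq _ (fun h => hcon.1 (congrArg Subtype.val h))
  have h2 : (⟨w, hw⟩ : S) = y := huniq _ (fun h => hw1 (congrArg Subtype.val h))
  exact hcon.2 (congrArg Subtype.val (h1.trans h2.symm))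

theorem extraspecial_facts {X : Type*} [Group X] [Finite X] (hex : Cfsg.IsExtraspecial 2 X) {w : X}
    (hw : w ∈ Subgroup.center X) (hw1 : w ≠ 1) :
    (∀ a : X, a * a = 1 ∨ a * a = w) ∧ (∀ a b : X, a * b = b * a ∨ a * b = b * a * w) ∧
      (∀ a : X, (∀ b, a * b = b * a) → a = 1 ∨ a = w) := by
  have : Fact (Nat.Prime 2) := ⟨Nat.prime_two⟩
  obtain ⟨⟨hp, hfr, hcm⟩, hc2⟩ := hex
  have hcen := two_of_card _ hc2 hw hw1
  refine ⟨?_, ?_, ?_⟩
  · intro a
    have := Cfsg.Agent.Lib.Lead.pow_mem_frattini_of_isPGroup hp a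
    rw [hfr, pow_two] at this
    exact hcen _ this
  · intro a b
    have : ⁅a, b⁆ ∈ commutator X := by
      rw [commutator_def]
      exact Subgroup.commutator_mem_commutator (Subgroup.mem_top a) (Subgroup.mem_top b)
    rw [hcm] at this
    rcases hcen _ this with h | h
    · left; exact commutatorElement_eq_one_iff_mul_comm.mp h
    · right
      rw [commutatorElement_def] at h
      have hwc : ∀ g : X, g * w = w * g := fun g => Subgroup.mem_center_iff.mp hw g
      calc a * b = (a * b * a⁻¹ * b⁻¹) * (b * a) := by group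
        _ = w * (b * a) := by rw [h]
        _ = b * a * w := (hwc (b * a)).symm
  · intro a ha
    apply hcen
    rw [Subgroup.mem_center_iff]
    intro g
    exact (ha g).symm

theorem invol_of_orderOf {G : Type*} [Group G] {x : G} (h : orderOf x = 2) : x * x = 1 ∧ x ≠ 1 := by
  have : Fact (Nat.Prime 2) := ⟨Nat.prime_two⟩
  have := orderOf_eq_prime_iff.mp h
  rw [pow_two] at this
  exact this

theorem orderOf_of_invol {G : Type*} [Group G] {x : G} (h : x * x = 1) (h1 : x ≠ 1) : orderOf x = 2 := by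
  have : Fact (Nat.Prime 2) := ⟨Nat.prime_two⟩
  apply orderOf_eq_prime_iff.mpr
  rw [pow_two]
  exact ⟨h, h1⟩

theorem mem_cent_iff {G : Type*} [Group G] (z x : G) :
    x ∈ Subgroup.centralizer ({z} : Set G) ↔ x * z = z * x := by
  rw [Subgroup.mem_centralizer_iff]
  constructor
  · intro hx
    exact (hx z rfl).symm
  · intro hx y hy
    rw [Set.mem_singleton_iff] at hy
    rw [hy]; exact hx.symm

/-- decomposition of the elements of a join of two subgroups one of which normalizes the other -/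
theorem dec_of_sup {G : Type*} [Group G] (N H : Subgroup G)
    (hn : ∀ h ∈ H, ∀ x ∈ N, h * x * h⁻¹ ∈ N) {c : G} (hc : c ∈ N ⊔ H) :
    ∃ a ∈ N, ∃ b ∈ H, c = a * b := by
  have hLE : H ≤ Subgroup.normalizer (N : Set G) := by
    intro h hh
    rw [Subgroup.mem_normalizer_iff]
    intro x
    constructor
    · exact hn h hh x
    · intro hx
      have := hn h⁻¹ (H.inv_mem hh) _ hx
      rw [inv_inv] at this
      have e : h⁻¹ * (h * x * h⁻¹) * h = x := by group
      rwa [e] at this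
  have := Subgroup.coe_mul_of_right_le_normalizer_left N H hLE
  have hc' : c ∈ ((N ⊔ H : Subgroup G) : Set G) := hc
  rw [this, Set.mem_mul] at hc'
  obtain ⟨a, ha, b, hb, hab⟩ := hc'
  exact ⟨a, ha, b, hb, hab.symm⟩

/-- the configuration in the centralizer of `z` -/
theorem cfg_of_hyps {G : Type*} [Group G] [Finite G] (z : G) (hz : orderOf z = 2)
    (hex : Cfsg.IsExtraspecial 2
      ↥(Cfsg.generalizedFittingSubgroup ↥(Subgroup.centralizer ({z} : Set G))))
    (hQ : Nat.card ↥(Cfsg.pCore 2 ↥(Subgroup.centralizer ({z} : Set G))) = 32)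
    (K : Subgroup G) (hK : Nonempty (↥K ≃* alternatingGroup (Fin 5)))
    (hKC : K ⊔ (Cfsg.pCore 2 ↥(Subgroup.centralizer ({z} : Set G))).map
      (Subgroup.centralizer ({z} : Set G)).subtype = Subgroup.centralizer ({z} : Set G))
    (hKQ : K ⊓ (Cfsg.pCore 2 ↥(Subgroup.centralizer ({z} : Set G))).map
      (Subgroup.centralizer ({z} : Set G)).subtype = ⊥) :
    Cfg z ((Cfsg.pCore 2 ↥(Subgroup.centralizer ({z} : Set G))).map
      (Subgroup.centralizer ({z} : Set G)).subtype) K := by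
  have : Fact (Nat.Prime 2) := ⟨Nat.prime_two⟩
  obtain ⟨hzz, hz1⟩ := invol_of_orderOf hz
  set C := Subgroup.centralizer ({z} : Set G) with hC
  have hmemC : ∀ x : G, x ∈ C ↔ x * z = z * x := mem_cent_iff z
  have hF : Cfsg.generalizedFittingSubgroup ↥C = Cfsg.pCore 2 ↥C :=
    Cfsg.Agent.Lib.Helper3.generalizedFittingSubgroup_eq_pCore_of_isPGroup hex.1.1
  have hexO : Cfsg.IsExtraspecial 2 ↥(Cfsg.pCore 2 ↥C) := hF ▸ hex
  have zC : z ∈ C := (hmemC z).mpr rfl
  have hQC : (Cfsg.pCore 2 ↥C).map C.subtype ≤ C := Subgroup.map_subtype_le _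
  have hnorm : ∀ g : G, g * z = z * g → ∀ q ∈ (Cfsg.pCore 2 ↥C).map C.subtype,
      g * q * g⁻¹ ∈ (Cfsg.pCore 2 ↥C).map C.subtype := fun g hg q hq =>
    Cfsg.Agent.Lib.Helper9.LargeExtra.pCoreMap_conj_mem 2 C ((hmemC g).mpr hg) hq
  have zQ : z ∈ (Cfsg.pCore 2 ↥C).map C.subtype := by
    apply Cfsg.Agent.Lib.Helper9.LargeExtra.le_pCoreMap 2 C (Subgroup.zpowers z)
      (Subgroup.zpowers_le.mpr zC) ?_ ?_ (Subgroup.mem_zpowers z)
    · apply IsPGroup.of_card (n := 1)
      rw [Nat.card_zpowers, hz, pow_one]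
    · intro h hh x hx
      obtain ⟨k, rfl⟩ := Subgroup.mem_zpowers_iff.mp hx
      have h1 : h * z * h⁻¹ = z := by
        rw [(hmemC h).mp hh]; group
      rw [← conj_zpow, h1]
      exact Subgroup.zpow_mem_zpowers z k
  obtain ⟨zc, hzcO, hzc⟩ := zQ
  have hzc' : (zc : G) = z := hzc
  have hwcen : (⟨zc, hzcO⟩ : ↥(Cfsg.pCore 2 ↥C)) ∈ Subgroup.center ↥(Cfsg.pCore 2 ↥C) := by
    rw [Subgroup.mem_center_iff]
    intro g
    apply Subtype.ext
    apply Subtype.ext
    show (g.1 : G) * (zc : G) = (zc : G) * (g.1 : G)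
    rw [hzc']
    exact (hmemC _).mp g.1.2
  have hw1 : (⟨zc, hzcO⟩ : ↥(Cfsg.pCore 2 ↥C)) ≠ 1 := by
    intro h
    apply hz1
    rw [← hzc']
    exact congrArg (fun u : ↥(Cfsg.pCore 2 ↥C) => ((u : ↥C) : G)) h
  obtain ⟨f1, f2, f3⟩ := extraspecial_facts hexO hwcen hw1
  refine ⟨⟨?_, ⟨zc, hzcO, hzc⟩, hz1, hzz, ?_, ?_, ?_, ?_⟩, ?_, ?_, hnorm, ?_, ?_, hK⟩
  · rw [Subgroup.card_map_of_injective C.subtype_injective]
    exact hQ
  · intro a ha
    exact (hmemC a).mp (hQC ha)
  · rintro _ ⟨a, ha, rfl⟩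
    rcases f1 ⟨a, ha⟩ with h | h
    · left
      exact congrArg (fun u : ↥(Cfsg.pCore 2 ↥C) => ((u : ↥C) : G)) h
    · right
      have := congrArg (fun u : ↥(Cfsg.pCore 2 ↥C) => ((u : ↥C) : G)) h
      exact this.trans hzc'
  · rintro _ ⟨a, ha, rfl⟩ _ ⟨b, hb, rfl⟩
    rcases f2 ⟨a, ha⟩ ⟨b, hb⟩ with h | h
    · left
      exact congrArg (fun u : ↥(Cfsg.pCore 2 ↥C) => ((u : ↥C) : G)) h
    · right
      have := congrArg (fun u : ↥(Cfsg.pCore 2 ↥C) => ((u : ↥C) : G)) h
      rw [← hzc']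
      exact this
  · rintro _ ⟨a, ha, rfl⟩ hcomm
    have hall : ∀ b : ↥(Cfsg.pCore 2 ↥C), (⟨a, ha⟩ : ↥(Cfsg.pCore 2 ↥C)) * b = b * ⟨a, ha⟩ := by
      intro b
      apply Subtype.ext
      apply Subtype.ext
      exact hcomm _ ⟨b.1, b.2, rfl⟩
    rcases f3 ⟨a, ha⟩ hall with h | h
    · left
      exact congrArg (fun u : ↥(Cfsg.pCore 2 ↥C) => ((u : ↥C) : G)) h
    · right
      have := congrArg (fun u : ↥(Cfsg.pCore 2 ↥C) => ((u : ↥C) : G)) h
      exact this.trans hzc'
  · intro k hk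
    have : k ∈ C := by
      rw [← hKC]
      exact Subgroup.mem_sup_left hk
    exact (hmemC k).mp this
  · intro g hg hall
    have hgc : (⟨g, (hmemC g).mpr hg⟩ : ↥C) ∈
        Subgroup.centralizer (Cfsg.generalizedFittingSubgroup ↥C : Set ↥C) := by
      rw [hF, Subgroup.mem_centralizer_iff]
      intro y hy
      apply Subtype.ext
      exact (hall _ ⟨y, hy, rfl⟩).symm
    have := Cfsg.Agent.Lib.Helper3.centralizer_generalizedFittingSubgroup_le hgc
    rw [hF] at this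
    exact ⟨_, this, rfl⟩
  · intro c hc
    have hc' : c ∈ (Cfsg.pCore 2 ↥C).map C.subtype ⊔ K := by
      rw [sup_comm, hKC]
      exact (hmemC c).mpr hc
    refine dec_of_sup _ K ?_ hc'
    intro k hk x hx
    apply hnorm k _ x hx
    have : k ∈ C := by
      rw [← hKC]
      exact Subgroup.mem_sup_left hk
    exact (hmemC k).mp this
  · intro x hxK hxQ
    have : x ∈ K ⊓ (Cfsg.pCore 2 ↥C).map C.subtype := ⟨hxK, hxQ⟩
    rw [hKQ] at this
    exact Subgroup.mem_bot.mp this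

end Cfsg.Agent.Lib.Helper6.HJ
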