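import Mathlib
import Cfsg.Agent.Lib.Helper5.HigDefs
import Cfsg.Agent.Lib.Helper8.HigMatB

set_option autoImplicit false

/-!
# S3050 package R : the representation on an abelian normal subgroup
-/

namespace Cfsg.Agent.Lib.Helper5.Hig

open Matrix
open scoped IsMulCommutative

section R
variable {K : Type*} [Field K] {Γ : Type*} [Group Γ] {Q : Subgroup Γ} [Q.Normal]

theorem Cfg.x_not_mem (c : Cfg K Γ Q) (hc : c.Ok) : c.x ∉ Q := by
  intro hx
  have h1 : c.x = 1 := hc.2 c.x hx (by group)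
  have h3 := hc.1
  rw [h1, orderOf_one] at h3
  omega

namespace Rep

/-- the image of `x` in `SL₂(K)` has order three -/
theorem orderOf_e_x (c : Cfg K Γ Q) (hc : c.Ok) : orderOf (c.e (c.x : Γ ⧸ Q)) = 3 := by
  rw [MulEquiv.orderOf_eq]
  have hpow : ((c.x : Γ ⧸ Q)) ^ 3 = 1 := by
    rw [← QuotientGroup.mk_pow, ← hc.1, pow_orderOf_eq_one]
    rfl
  have hne : (c.x : Γ ⧸ Q) ≠ 1 := by
    intro h
    exact Cfg.x_not_mem c hc ((QuotientGroup.eq_one_iff _).mp h)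
  exact orderOf_eq_prime hpow hne

/-- the key identity: `u · u^y · u^{y²} = 1` for a fixed-point-free `y` with `y³ = 1` -/
theorem prod_eq_one {y : Γ} (hy3 : y ^ 3 = 1) (hy : ∀ q ∈ Q, y * q * y⁻¹ = q → q = 1)
    (U : Subgroup Γ) [U.Normal] (hcomm : ∀ p ∈ U, ∀ q ∈ U, p * q = q * p) (hU : U ≤ Q)
    {a : Γ} (ha : a ∈ U) : a * (y * a * y⁻¹) * (y * (y * a * y⁻¹) * y⁻¹) = 1 := by
  have hb : y * a * y⁻¹ ∈ U := Subgroup.Normal.conj_mem inferInstance a ha y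
  have hc' : y * (y * a * y⁻¹) * y⁻¹ ∈ U := Subgroup.Normal.conj_mem inferInstance _ hb y
  have hP : a * (y * a * y⁻¹) * (y * (y * a * y⁻¹) * y⁻¹) ∈ U := U.mul_mem (U.mul_mem ha hb) hc'
  apply hy _ (hU hP)
  have h3 : y * y * y = 1 := by rw [← hy3, pow_succ, pow_two]
  have hy3' : y * (y * (y * a * y⁻¹) * y⁻¹) * y⁻¹ = a := by
    have e1 : y * (y * (y * a * y⁻¹) * y⁻¹) * y⁻¹ = (y * y * y) * a * (y * y * y)⁻¹ := by
      simp only [_root_.mul_inv_rev, mul_assoc]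
    rw [e1, h3, one_mul, inv_one, mul_one]
  have e2 : y * (a * (y * a * y⁻¹) * (y * (y * a * y⁻¹) * y⁻¹)) * y⁻¹ =
      (y * a * y⁻¹) * (y * (y * a * y⁻¹) * y⁻¹) * (y * (y * (y * a * y⁻¹) * y⁻¹) * y⁻¹) := by
    group
  rw [e2, hy3']
  -- `b * c * a = a * b * c`
  exact (hcomm _ (U.mul_mem hb hc') a ha).trans (mul_assoc _ _ _).symm

end Rep

theorem secRep_c3 [Fintype K] [CharP K 2] [Finite Γ] (c : Cfg K Γ Q) (hc : c.Ok) (U : Subgroup Γ) [U.Normal]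
    [IsMulCommutative U] (hUQ : Q ≤ Subgroup.centralizer (U : Set Γ)) (hU : U ≤ Q) :
    C3 (secRep c.e U hUQ) := by
  intro d hd v
  obtain ⟨g, hg⟩ := conj_of_orderOf_three (Rep.orderOf_e_x c hc) hd
  obtain ⟨γq, hγq⟩ := c.e.surjective g
  obtain ⟨γ, rfl⟩ := QuotientGroup.mk_surjective γq
  have hd' : d = c.e (((γ * c.x * γ⁻¹ : Γ)) : Γ ⧸ Q) := by
    rw [hg, ← hγq, QuotientGroup.mk_mul, QuotientGroup.mk_mul, QuotientGroup.mk_inv, map_mul,
      map_mul, map_inv]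
  have hy3 : (γ * c.x * γ⁻¹) ^ 3 = 1 := by
    rw [conj_pow, ← hc.1, pow_orderOf_eq_one, mul_one, mul_inv_cancel]
  have hyf : ∀ q ∈ Q, (γ * c.x * γ⁻¹) * q * (γ * c.x * γ⁻¹)⁻¹ = q → q = 1 := by
    intro q hq hfix
    have hq' : γ⁻¹ * q * γ ∈ Q := by
      have := Subgroup.Normal.conj_mem (inferInstance : Q.Normal) q hq γ⁻¹
      simpa using this
    have hfix' : c.x * (γ⁻¹ * q * γ) * c.x⁻¹ = γ⁻¹ * q * γ := by
      have e1 : c.x * (γ⁻¹ * q * γ) * c.x⁻¹ =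
          γ⁻¹ * ((γ * c.x * γ⁻¹) * q * (γ * c.x * γ⁻¹)⁻¹) * γ := by group
      rw [e1, hfix]
    have h1 := hc.2 _ hq' hfix'
    have : q = γ * (γ⁻¹ * q * γ) * γ⁻¹ := by group
    rw [this, h1]; group
  have key : ∀ w : Additive U, ((Additive.toMul (secRep c.e U hUQ d w) : U) : Γ) =
      (γ * c.x * γ⁻¹) * ((Additive.toMul w : U) : Γ) * (γ * c.x * γ⁻¹)⁻¹ := by
    intro w
    rw [hd']
    exact secRep_apply c.e U hUQ (γ * c.x * γ⁻¹) (Additive.toMul w)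
  have hcomm : ∀ p ∈ U, ∀ q ∈ U, p * q = q * p := fun p hp q hq =>
    congrArg Subtype.val (mul_comm (⟨p, hp⟩ : U) ⟨q, hq⟩)
  apply Additive.toMul.injective
  apply Subtype.ext
  rw [toMul_add, toMul_add, toMul_zero, Subgroup.coe_mul, Subgroup.coe_mul, Subgroup.coe_one,
    key (secRep c.e U hUQ d v), key v]
  exact Rep.prod_eq_one hy3 hyf U hcomm hU (Additive.toMul v : U).2

theorem secRep_cmod [Fintype K] [CharP K 2] [Finite Γ] (c : Cfg K Γ Q) (hc : c.Ok) (U : Subgroup Γ) [U.Normal]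
    [IsMulCommutative U] (hUQ : Q ≤ Subgroup.centralizer (U : Set Γ)) (hU : U ≤ Q)
    (hU2 : ∀ u ∈ U, u ^ 2 = 1) : CMod (secRep c.e U hUQ) where
  two v := by
    apply Additive.toMul.injective
    apply Subtype.ext
    rw [toMul_add, toMul_zero, Subgroup.coe_mul, Subgroup.coe_one, ← pow_two]
    exact hU2 _ (Additive.toMul v : U).2
  c3 := secRep_c3 c hc U hUQ hU

end R

end Cfsg.Agent.Lib.Helper5.Hig
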