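import Mathlib
import Cfsg.Agent.Lib.Helper5.HigDefs
import Cfsg.Agent.Lib.Helper6.HigRep
import Cfsg.Agent.Lib.Helper5.HigKill

set_option autoImplicit false

/-!
# S3050 package AB : the abelian case (exponent four implies exponent two)
-/

namespace Cfsg.Agent.Lib.Helper5.Hig

open Matrix
open scoped IsMulCommutative

section AB
variable {K : Type*} [Field K] [Fintype K] [CharP K 2] {Γ : Type*} [Group Γ] [Finite Γ]
  {Q : Subgroup Γ} [Q.Normal]

theorem sq_of_abelian (c : Cfg K Γ Q) (hc : c.Ok) (hQ : IsPGroup 2 Q) (h4 : 4 ≤ Fintype.card K)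
    (hab : ∀ p ∈ Q, ∀ q ∈ Q, p * q = q * p) (h4Q : ∀ q ∈ Q, q ^ 4 = 1) : ∀ q ∈ Q, q ^ 2 = 1 := by
  haveI : IsMulCommutative Q := ⟨⟨fun a b => Subtype.ext (hab a a.2 b b.2)⟩⟩
  have hUQ : Q ≤ Subgroup.centralizer (Q : Set Γ) := by
    intro q hq
    rw [Subgroup.mem_centralizer_iff]
    intro p hp
    exact hab p hp q hq
  have hC3 : C3 (secRep c.e Q hUQ) := secRep_c3 c hc Q hUQ le_rfl
  have hA : ∀ a : Additive Q, (4 : ℕ) • a = 0 := by
    intro a
    apply Additive.toMul.injective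
    apply Subtype.ext
    rw [toMul_nsmul, toMul_zero, Subgroup.coe_pow, Subgroup.coe_one]
    exact h4Q _ (Additive.toMul a : Q).2
  have hk := kill (secRep c.e Q hUQ) hC3 h4 hA
  intro q hq
  have h := hk (Additive.ofMul (⟨q, hq⟩ : Q))
  have h' := congrArg (fun a => ((Additive.toMul a : Q) : Γ)) h
  simpa [pow_two] using h'

end AB

end Cfsg.Agent.Lib.Helper5.Hig
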