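import Mathlib
import Cfsg.Agent.Lib.Helper5.HigDefs

set_option autoImplicit false

/-!
# S3050 package QC : the quotient configuration and `Ω₁(Z(Q))`
-/

namespace Cfsg.Agent.Lib.Helper5.Hig

open scoped IsMulCommutative

section QC
variable {K : Type*} [Field K] {Γ : Type*} [Group Γ] {Q : Subgroup Γ} [Q.Normal]

theorem omZ_le (Q : Subgroup Γ) : omZ Q ≤ Q := fun _ h => h.1

instance omZ_normal : (omZ Q).Normal := by
  constructor
  intro z hz g
  obtain ⟨hzQ, hz2, hzc⟩ := hz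
  refine ⟨Subgroup.Normal.conj_mem inferInstance z hzQ g, ?_, fun q hq => ?_⟩
  · rw [conj_pow, hz2, mul_one, mul_inv_cancel]
  · have hq' : g⁻¹ * q * g ∈ Q := by
      have := Subgroup.Normal.conj_mem (inferInstance : Q.Normal) q hq g⁻¹
      simpa using this
    have h := hzc _ hq'
    calc q * (g * z * g⁻¹) = g * ((g⁻¹ * q * g) * z) * g⁻¹ := by group
      _ = g * (z * (g⁻¹ * q * g)) * g⁻¹ := by rw [h]
      _ = g * z * g⁻¹ * q := by group

instance omZ_comm : IsMulCommutative (omZ Q) := by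
  refine ⟨⟨fun a b => Subtype.ext ?_⟩⟩
  show (a : Γ) * b = b * a
  exact (b.2.2.2 a a.2.1)

theorem omZ_central : Q ≤ Subgroup.centralizer ((omZ Q : Subgroup Γ) : Set Γ) := by
  intro q hq
  rw [Subgroup.mem_centralizer_iff]
  intro z hz
  exact (hz.2.2 q hq).symm

theorem omZ_ne_bot [Finite Γ] (hQ : IsPGroup 2 Q) (hne : Q ≠ ⊥) : omZ Q ≠ ⊥ := by
  haveI : Nontrivial Q := (Subgroup.nontrivial_iff_ne_bot Q).mpr hne
  haveI : Fact (Nat.Prime 2) := ⟨Nat.prime_two⟩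
  haveI hnt : Nontrivial (Subgroup.center Q) := hQ.center_nontrivial
  have hZ2 : IsPGroup 2 (Subgroup.center Q) := hQ.to_subgroup _
  obtain ⟨n, hn⟩ := hZ2.exists_card_eq
  have hn0 : n ≠ 0 := by
    rintro rfl
    rw [pow_zero] at hn
    have : Subsingleton (Subgroup.center Q) := (Nat.card_eq_one_iff_unique.mp hn).1
    exact not_subsingleton _ this
  have hdvd : 2 ∣ Nat.card (Subgroup.center Q) := by
    rw [hn]
    exact dvd_pow_self 2 hn0
  obtain ⟨z, hz⟩ := exists_prime_orderOf_dvd_card' 2 hdvd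
  intro hbot
  have hzmem : ((z : Q) : Γ) ∈ omZ Q := by
    refine ⟨(z : Q).2, ?_, fun q hq => ?_⟩
    · have h1 : z ^ 2 = 1 := by rw [← hz]; exact pow_orderOf_eq_one z
      have h2 : (((z ^ 2 : Subgroup.center Q) : Q) : Γ) = 1 := by rw [h1]; rfl
      simpa using h2
    · have hc := Subgroup.mem_center_iff.mp z.2 ⟨q, hq⟩
      have := congrArg (Subtype.val) hc
      simpa using this
  rw [hbot, Subgroup.mem_bot] at hzmem
  have hz1 : z = 1 := by
    apply Subtype.ext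
    apply Subtype.ext
    simpa using hzmem
  rw [hz1, orderOf_one] at hz
  omega

theorem Cfg.x_notMem_aux (c : Cfg K Γ Q) (hc : c.Ok) : c.x ∉ Q := by
  intro hx
  have h1 : c.x = 1 := hc.2 c.x hx (by group)
  have h3 := hc.1
  rw [h1, orderOf_one] at h3
  omega

theorem Cfg.quot_ok [Finite Γ] (c : Cfg K Γ Q) (hc : c.Ok) (hQ : IsPGroup 2 Q) (Z : Subgroup Γ)
    [Z.Normal] (hZ : Z ≤ Q) : (c.quot Z hZ).Ok := by
  obtain ⟨h3, hfpf⟩ := hc
  refine ⟨?_, ?_⟩
  · rw [Cfg.quot_x]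
    have hpow : ((c.x : Γ ⧸ Z)) ^ 3 = 1 := by
      rw [← QuotientGroup.mk_pow, ← h3, pow_orderOf_eq_one]
      rfl
    have hne : (c.x : Γ ⧸ Z) ≠ 1 := by
      intro h
      have : c.x ∈ Z := (QuotientGroup.eq_one_iff _).mp h
      exact Cfg.x_notMem_aux c ⟨h3, hfpf⟩ (hZ this)
    exact orderOf_eq_prime hpow hne
  · rintro qb ⟨q, hq, rfl⟩ hfix
    rw [Cfg.quot_x] at hfix
    -- `θ z = z⁻¹ * (x z x⁻¹)` is a bijection of `Z`
    let θ : Z → Z := fun z => ⟨(z : Γ)⁻¹ * (c.x * z * c.x⁻¹),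
      Z.mul_mem (Z.inv_mem z.2) (Subgroup.Normal.conj_mem inferInstance _ z.2 _)⟩
    have hθinj : Function.Injective θ := by
      intro a b hab
      have hab' : (a : Γ)⁻¹ * (c.x * a * c.x⁻¹) = (b : Γ)⁻¹ * (c.x * b * c.x⁻¹) :=
        congrArg Subtype.val hab
      have hmem : (b : Γ) * (a : Γ)⁻¹ ∈ Q := Q.mul_mem (hZ b.2) (Q.inv_mem (hZ a.2))
      have hfixed : c.x * ((b : Γ) * (a : Γ)⁻¹) * c.x⁻¹ = (b : Γ) * (a : Γ)⁻¹ := by
        have e1 : c.x * ((b : Γ) * (a : Γ)⁻¹) * c.x⁻¹ =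
            (c.x * b * c.x⁻¹) * (c.x * a * c.x⁻¹)⁻¹ := by group
        have e2 : c.x * a * c.x⁻¹ = (a : Γ) * ((b : Γ)⁻¹ * (c.x * b * c.x⁻¹)) := by
          rw [← hab']; group
        rw [e1, e2]; group
      have := hfpf _ hmem hfixed
      apply Subtype.ext
      have h' : (b : Γ) = a := by
        have := mul_inv_eq_one.mp this
        exact this
      exact h'.symm
    have hθsurj : Function.Surjective θ := Finite.surjective_of_injective hθinj
    have hmemZ : q⁻¹ * (c.x * q * c.x⁻¹) ∈ Z := by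
      have h1 : ((c.x * q * c.x⁻¹ : Γ) : Γ ⧸ Z) = (q : Γ ⧸ Z) := by
        simpa using hfix
      have h2 := QuotientGroup.eq.mp h1.symm
      exact h2
    obtain ⟨z, hz⟩ := hθsurj ⟨_, hmemZ⟩
    have hz' : (z : Γ)⁻¹ * (c.x * z * c.x⁻¹) = q⁻¹ * (c.x * q * c.x⁻¹) := congrArg Subtype.val hz
    have hmem : q * (z : Γ)⁻¹ ∈ Q := Q.mul_mem hq (Q.inv_mem (hZ z.2))
    have hfixed : c.x * (q * (z : Γ)⁻¹) * c.x⁻¹ = q * (z : Γ)⁻¹ := by
      have e1 : c.x * (q * (z : Γ)⁻¹) * c.x⁻¹ = (c.x * q * c.x⁻¹) * (c.x * z * c.x⁻¹)⁻¹ := by group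
      have e2 : c.x * z * c.x⁻¹ = (z : Γ) * (q⁻¹ * (c.x * q * c.x⁻¹)) := by
        rw [← hz']; group
      rw [e1, e2]; group
    have h1 := hfpf _ hmem hfixed
    have hqz : q = z := mul_inv_eq_one.mp h1
    show (QuotientGroup.mk' Z) q = 1
    rw [hqz]
    exact (QuotientGroup.eq_one_iff _).mpr z.2

theorem isPGroup_map (hQ : IsPGroup 2 Q) (Z : Subgroup Γ) [Z.Normal] :
    IsPGroup 2 (Q.map (QuotientGroup.mk' Z)) := hQ.map _

theorem card_map_lt [Finite Γ] (Z : Subgroup Γ) [Z.Normal] (hZ : Z ≤ Q) (hne : Z ≠ ⊥) :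
    Nat.card (Q.map (QuotientGroup.mk' Z)) < Nat.card Q := by
  classical
  let f : Q → Q.map (QuotientGroup.mk' Z) := fun q => ⟨QuotientGroup.mk' Z q, ⟨q, q.2, rfl⟩⟩
  have hsurj : Function.Surjective f := by
    rintro ⟨_, q, hq, rfl⟩
    exact ⟨⟨q, hq⟩, rfl⟩
  have hninj : ¬ Function.Injective f := by
    intro hinj
    apply hne
    rw [Subgroup.eq_bot_iff_forall]
    intro z hz
    have h1 : f ⟨z, hZ hz⟩ = f 1 := by
      apply Subtype.ext
      show QuotientGroup.mk' Z z = QuotientGroup.mk' Z 1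
      rw [map_one]
      exact (QuotientGroup.eq_one_iff _).mpr hz
    have := hinj h1
    exact congrArg Subtype.val this
  haveI := Fintype.ofFinite Q
  haveI := Fintype.ofFinite (Q.map (QuotientGroup.mk' Z))
  rw [Nat.card_eq_fintype_card, Nat.card_eq_fintype_card]
  exact Fintype.card_lt_of_surjective_not_injective f hsurj hninj

end QC

end Cfsg.Agent.Lib.Helper5.Hig
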