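import Mathlib
import Cfsg.Agent.Lib.Helper5.HigDefs
import Cfsg.Agent.Lib.Helper6.HigRep
import Cfsg.Agent.Lib.Helper6.HigQuot
import Cfsg.Agent.Lib.Helper7.HigPairC

set_option autoImplicit false

/-!
# S3050 package SB : `Q / Ω₁(Z(Q))` elementary abelian implies `Q` abelian
-/

namespace Cfsg.Agent.Lib.Helper5.Hig

open Matrix
open scoped IsMulCommutative

namespace ClassTwo

section elem
variable {Γ : Type*} [Group Γ] {Q : Subgroup Γ}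

/-- the commutator `p q p⁻¹ q⁻¹` -/
def cm (p q : Γ) : Γ := p * q * p⁻¹ * q⁻¹

theorem cm_mem (hcomm : ∀ p ∈ Q, ∀ q ∈ Q, p * q * p⁻¹ * q⁻¹ ∈ omZ Q) {p q : Γ} (hp : p ∈ Q)
    (hq : q ∈ Q) : cm p q ∈ omZ Q := hcomm p hp q hq

theorem cm_memQ (hcomm : ∀ p ∈ Q, ∀ q ∈ Q, p * q * p⁻¹ * q⁻¹ ∈ omZ Q) {p q : Γ} (hp : p ∈ Q)
    (hq : q ∈ Q) : cm p q ∈ Q := (hcomm p hp q hq).1

theorem central {z x : Γ} (hz : z ∈ omZ Q) (hx : x ∈ Q) : x * z = z * x := hz.2.2 x hx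

theorem cm_central_left {z x : Γ} (hz : z ∈ omZ Q) (hx : x ∈ Q) : cm z x = 1 := by
  unfold cm
  have h := central hz hx
  calc z * x * z⁻¹ * x⁻¹ = (x * z) * z⁻¹ * x⁻¹ := by rw [h]
    _ = 1 := by group

theorem cm_central_right {z x : Γ} (hz : z ∈ omZ Q) (hx : x ∈ Q) : cm x z = 1 := by
  unfold cm
  have h := central hz hx
  rw [h]; group

theorem cm_mul_left (hcomm : ∀ p ∈ Q, ∀ q ∈ Q, p * q * p⁻¹ * q⁻¹ ∈ omZ Q) {p p' q : Γ}
    (hp : p ∈ Q) (hp' : p' ∈ Q) (hq : q ∈ Q) : cm (p * p') q = cm p q * cm p' q := by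
  have hk := cm_mem hcomm hp' hq
  have h1 : p * cm p' q = cm p' q * p := central hk hp
  have h2 : cm p q * cm p' q = cm p' q * cm p q := central hk (cm_memQ hcomm hp hq)
  calc cm (p * p') q = (p * cm p' q) * (q * p⁻¹ * q⁻¹) := by unfold cm; group
    _ = (cm p' q * p) * (q * p⁻¹ * q⁻¹) := by rw [h1]
    _ = cm p' q * cm p q := by unfold cm; group
    _ = cm p q * cm p' q := h2.symm

theorem cm_mul_right (hcomm : ∀ p ∈ Q, ∀ q ∈ Q, p * q * p⁻¹ * q⁻¹ ∈ omZ Q) {p q q' : Γ}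
    (hp : p ∈ Q) (hq : q ∈ Q) (hq' : q' ∈ Q) : cm p (q * q') = cm p q * cm p q' := by
  have hk := cm_mem hcomm hp hq'
  have h1 : q⁻¹ * cm p q' = cm p q' * q⁻¹ := central hk (Q.inv_mem hq)
  calc cm p (q * q') = (p * q * p⁻¹) * (cm p q' * q⁻¹) := by unfold cm; group
    _ = (p * q * p⁻¹) * (q⁻¹ * cm p q') := by rw [h1]
    _ = cm p q * cm p q' := by unfold cm; group

theorem cm_inv (p q : Γ) : (cm p q)⁻¹ = cm q p := by unfold cm; group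

theorem sq_mul (hcomm : ∀ p ∈ Q, ∀ q ∈ Q, p * q * p⁻¹ * q⁻¹ ∈ omZ Q) {p q : Γ}
    (hp : p ∈ Q) (hq : q ∈ Q) : (p * q) ^ 2 = p ^ 2 * q ^ 2 * cm p q := by
  have hk := cm_mem hcomm hq hp
  have h1 : p * cm q p = cm q p * p := central hk hp
  have h2 : cm q p = cm p q := by
    have hk' := cm_mem hcomm hp hq
    have hsq : cm p q ^ 2 = 1 := hk'.2.1
    rw [← cm_inv p q]
    exact (eq_inv_of_mul_eq_one_left (by rw [← pow_two]; exact hsq)).symm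
  have h3 : (p ^ 2 * q ^ 2) * cm q p = cm q p * (p ^ 2 * q ^ 2) :=
    central hk (Q.mul_mem (Q.pow_mem hp 2) (Q.pow_mem hq 2))
  calc (p * q) ^ 2 = (p * cm q p) * (p * q * q) := by unfold cm; rw [pow_two]; group
    _ = (cm q p * p) * (p * q * q) := by rw [h1]
    _ = cm q p * (p ^ 2 * q ^ 2) := by rw [pow_two, pow_two]; group
    _ = p ^ 2 * q ^ 2 * cm q p := h3.symm
    _ = p ^ 2 * q ^ 2 * cm p q := by rw [h2]

theorem sq_congr {p p' : Γ} (hp : p ∈ Q) (hz : p⁻¹ * p' ∈ omZ Q) : p' ^ 2 = p ^ 2 := by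
  have h1 : p * (p⁻¹ * p') = (p⁻¹ * p') * p := central hz hp
  have h2 : (p⁻¹ * p') ^ 2 = 1 := hz.2.1
  have e : p' = p * (p⁻¹ * p') := by group
  calc p' ^ 2 = (p * (p⁻¹ * p')) * (p * (p⁻¹ * p')) := by rw [← e, pow_two]
    _ = p * ((p⁻¹ * p') * p) * (p⁻¹ * p') := by group
    _ = p * (p * (p⁻¹ * p')) * (p⁻¹ * p') := by rw [h1]
    _ = p ^ 2 * (p⁻¹ * p') ^ 2 := by rw [pow_two, pow_two]; group
    _ = p ^ 2 := by rw [h2, mul_one]

theorem cm_congr (hcomm : ∀ p ∈ Q, ∀ q ∈ Q, p * q * p⁻¹ * q⁻¹ ∈ omZ Q) {p p' q q' : Γ}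
    (hp : p ∈ Q) (hq : q ∈ Q) (hz : p⁻¹ * p' ∈ omZ Q) (hw : q⁻¹ * q' ∈ omZ Q) :
    cm p' q' = cm p q := by
  have ep : p' = p * (p⁻¹ * p') := by group
  have eq' : q' = q * (q⁻¹ * q') := by group
  have hzQ : p⁻¹ * p' ∈ Q := hz.1
  have hwQ : q⁻¹ * q' ∈ Q := hw.1
  have hq'Q : q * (q⁻¹ * q') ∈ Q := Q.mul_mem hq hwQ
  rw [ep, eq', cm_mul_left hcomm hp hzQ hq'Q, cm_central_left hz hq'Q, mul_one,
    cm_mul_right hcomm hp hq hwQ, cm_central_right hw hp, mul_one]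

theorem cm_conj (γ p q : Γ) : γ * cm p q * γ⁻¹ = cm (γ * p * γ⁻¹) (γ * q * γ⁻¹) := by
  unfold cm; group

end elem

end ClassTwo

section SB
variable {K : Type*} [Field K] [Fintype K] [CharP K 2] {Γ : Type*} [Group Γ] [Finite Γ]
  {Q : Subgroup Γ} [Q.Normal]

open ClassTwo in
theorem abelian_of_quot (c : Cfg K Γ Q) (hc : c.Ok) (hQ : IsPGroup 2 Q) (h4 : 4 ≤ Fintype.card K)
    (hcomm : ∀ p ∈ Q, ∀ q ∈ Q, p * q * p⁻¹ * q⁻¹ ∈ omZ Q) (hsq : ∀ q ∈ Q, q ^ 2 ∈ omZ Q) :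
    ∀ p ∈ Q, ∀ q ∈ Q, p * q = q * p := by
  classical
  have hZle : omZ Q ≤ Q := omZ_le Q
  -- the quotient
  have hmk : ∀ {a b : Γ}, ((a : Γ ⧸ omZ Q) = (b : Γ ⧸ omZ Q)) ↔ a⁻¹ * b ∈ omZ Q :=
    fun {a b} => QuotientGroup.eq
  have hcommQ' : ∀ a ∈ Q.map (QuotientGroup.mk' (omZ Q)), ∀ b ∈ Q.map (QuotientGroup.mk' (omZ Q)),
      a * b = b * a := by
    rintro _ ⟨p, hp, rfl⟩ _ ⟨q, hq, rfl⟩
    show ((p * q : Γ) : Γ ⧸ omZ Q) = ((q * p : Γ) : Γ ⧸ omZ Q)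
    rw [hmk]
    have h := hcomm p⁻¹ (Q.inv_mem hp) q⁻¹ (Q.inv_mem hq)
    have e : (p * q)⁻¹ * (q * p) = (p⁻¹ * q⁻¹ * p⁻¹⁻¹ * q⁻¹⁻¹)⁻¹ := by group
    rw [e]
    exact (omZ Q).inv_mem h
  haveI hQ'c : IsMulCommutative (Q.map (QuotientGroup.mk' (omZ Q))) :=
    ⟨⟨fun a b => Subtype.ext (hcommQ' a a.2 b b.2)⟩⟩
  have hUQ' : Q.map (QuotientGroup.mk' (omZ Q)) ≤
      Subgroup.centralizer ((Q.map (QuotientGroup.mk' (omZ Q)) : Subgroup (Γ ⧸ omZ Q)) : Set (Γ ⧸ omZ Q)) := by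
    intro a ha
    rw [Subgroup.mem_centralizer_iff]
    intro b hb
    exact hcommQ' b hb a ha
  have hU2' : ∀ u ∈ Q.map (QuotientGroup.mk' (omZ Q)), u ^ 2 = 1 := by
    rintro _ ⟨p, hp, rfl⟩
    show ((p ^ 2 : Γ) : Γ ⧸ omZ Q) = 1
    exact (QuotientGroup.eq_one_iff _).mpr (hsq p hp)
  have hc' : (c.quot (omZ Q) hZle).Ok := Cfg.quot_ok c hc hQ (omZ Q) hZle
  have hV : CMod (secRep (c.quot (omZ Q) hZle).e (Q.map (QuotientGroup.mk' (omZ Q))) hUQ') :=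
    secRep_cmod (c.quot (omZ Q) hZle) hc' _ hUQ' le_rfl hU2'
  have hZ : CMod (secRep c.e (omZ Q) omZ_central) :=
    secRep_cmod c hc (omZ Q) omZ_central hZle (fun u hu => hu.2.1)
  -- lifts
  have hex : ∀ v : Additive (Q.map (QuotientGroup.mk' (omZ Q))),
      ∃ p : Γ, p ∈ Q ∧ ((p : Γ ⧸ omZ Q)) = ((Additive.toMul v : Q.map (QuotientGroup.mk' (omZ Q))) : Γ ⧸ omZ Q) := by
    intro v
    obtain ⟨p, hp, hpv⟩ := (Additive.toMul v : Q.map (QuotientGroup.mk' (omZ Q))).2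
    exact ⟨p, hp, hpv⟩
  choose lf lf_mem lf_spec using hex
  let mkV : (p : Γ) → p ∈ Q → Additive (Q.map (QuotientGroup.mk' (omZ Q))) := fun p hp =>
    Additive.ofMul ⟨(p : Γ ⧸ omZ Q), ⟨p, hp, rfl⟩⟩
  have mkV_lf : ∀ v, mkV (lf v) (lf_mem v) = v := by
    intro v
    apply Additive.toMul.injective
    apply Subtype.ext
    exact lf_spec v
  have lf_mk : ∀ p (hp : p ∈ Q), (lf (mkV p hp))⁻¹ * p ∈ omZ Q := by
    intro p hp
    rw [← hmk]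
    exact lf_spec (mkV p hp)
  have mkV_mul : ∀ p (hp : p ∈ Q) q (hq : q ∈ Q), mkV (p * q) (Q.mul_mem hp hq) = mkV p hp + mkV q hq := by
    intro p hp q hq
    rfl
  let sqf : Additive (Q.map (QuotientGroup.mk' (omZ Q))) → Additive (omZ Q) := fun v =>
    Additive.ofMul ⟨(lf v) ^ 2, hsq _ (lf_mem v)⟩
  let βf : Additive (Q.map (QuotientGroup.mk' (omZ Q))) →
      Additive (Q.map (QuotientGroup.mk' (omZ Q))) → Additive (omZ Q) := fun u v =>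
    Additive.ofMul ⟨cm (lf u) (lf v), cm_mem hcomm (lf_mem u) (lf_mem v)⟩
  have sqf_mk : ∀ p (hp : p ∈ Q), sqf (mkV p hp) = Additive.ofMul ⟨p ^ 2, hsq p hp⟩ := by
    intro p hp
    show Additive.ofMul (⟨(lf (mkV p hp)) ^ 2, _⟩ : omZ Q) = _
    congr 1
    apply Subtype.ext
    exact (sq_congr (lf_mem _) (lf_mk p hp)).symm
  have βf_mk : ∀ p (hp : p ∈ Q) q (hq : q ∈ Q),
      βf (mkV p hp) (mkV q hq) = Additive.ofMul ⟨cm p q, cm_mem hcomm hp hq⟩ := by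
    intro p hp q hq
    show Additive.ofMul (⟨cm (lf (mkV p hp)) (lf (mkV q hq)), _⟩ : omZ Q) = _
    congr 1
    apply Subtype.ext
    exact (cm_congr hcomm (lf_mem _) (lf_mem _) (lf_mk p hp) (lf_mk q hq)).symm
  -- the actions
  have hconjQ : ∀ (γ : Γ) {p : Γ}, p ∈ Q → γ * p * γ⁻¹ ∈ Q := fun γ {p} hp =>
    Subgroup.Normal.conj_mem inferInstance p hp γ
  have ρV_mk : ∀ (γ : Γ) p (hp : p ∈ Q),
      secRep (c.quot (omZ Q) hZle).e (Q.map (QuotientGroup.mk' (omZ Q))) hUQ' (c.e (γ : Γ ⧸ Q)) (mkV p hp) =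
        mkV (γ * p * γ⁻¹) (hconjQ γ hp) := by
    intro γ p hp
    apply Additive.toMul.injective
    apply Subtype.ext
    have h := secRep_apply (c.quot (omZ Q) hZle).e (Q.map (QuotientGroup.mk' (omZ Q))) hUQ'
      ((γ : Γ ⧸ omZ Q)) ⟨(p : Γ ⧸ omZ Q), ⟨p, hp, rfl⟩⟩
    rw [Cfg.quot_e] at h
    rw [h]
    rfl
  have ρZ_mk : ∀ (γ : Γ) z (hz : z ∈ omZ Q),
      secRep c.e (omZ Q) omZ_central (c.e (γ : Γ ⧸ Q)) (Additive.ofMul ⟨z, hz⟩) =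
        Additive.ofMul ⟨γ * z * γ⁻¹, Subgroup.Normal.conj_mem inferInstance z hz γ⟩ := by
    intro γ z hz
    apply Additive.toMul.injective
    apply Subtype.ext
    exact secRep_apply c.e (omZ Q) omZ_central γ ⟨z, hz⟩
  have hsurj : ∀ g : SL K, ∃ γ : Γ, c.e (γ : Γ ⧸ Q) = g := by
    intro g
    obtain ⟨γq, hγq⟩ := c.e.surjective g
    obtain ⟨γ, rfl⟩ := QuotientGroup.mk_surjective γq
    exact ⟨γ, hγq⟩
  -- the hypotheses of `pairing_zero`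
  have h_sq : ∀ g v, sqf (secRep (c.quot (omZ Q) hZle).e (Q.map (QuotientGroup.mk' (omZ Q))) hUQ' g v) =
      secRep c.e (omZ Q) omZ_central g (sqf v) := by
    intro g v
    obtain ⟨γ, rfl⟩ := hsurj g
    rw [← mkV_lf v, ρV_mk γ _ (lf_mem v), sqf_mk _ (hconjQ γ (lf_mem v)), sqf_mk _ (lf_mem v),
      ρZ_mk γ _ (hsq _ (lf_mem v))]
    congr 1
    apply Subtype.ext
    show (γ * lf v * γ⁻¹) ^ 2 = γ * (lf v) ^ 2 * γ⁻¹
    rw [conj_pow]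
  have h_β : ∀ g u v, βf (secRep (c.quot (omZ Q) hZle).e (Q.map (QuotientGroup.mk' (omZ Q))) hUQ' g u)
      (secRep (c.quot (omZ Q) hZle).e (Q.map (QuotientGroup.mk' (omZ Q))) hUQ' g v) =
      secRep c.e (omZ Q) omZ_central g (βf u v) := by
    intro g u v
    obtain ⟨γ, rfl⟩ := hsurj g
    rw [← mkV_lf u, ← mkV_lf v, ρV_mk γ _ (lf_mem u), ρV_mk γ _ (lf_mem v),
      βf_mk _ (hconjQ γ (lf_mem u)) _ (hconjQ γ (lf_mem v)), βf_mk _ (lf_mem u) _ (lf_mem v),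
      ρZ_mk γ _ (cm_mem hcomm (lf_mem u) (lf_mem v))]
    congr 1
    apply Subtype.ext
    exact (cm_conj γ (lf u) (lf v)).symm
  have h_βl : ∀ u u' v, βf (u + u') v = βf u v + βf u' v := by
    intro u u' v
    rw [← mkV_lf u, ← mkV_lf u', ← mkV_lf v, ← mkV_mul _ (lf_mem u) _ (lf_mem u'),
      βf_mk _ (Q.mul_mem (lf_mem u) (lf_mem u')) _ (lf_mem v), βf_mk _ (lf_mem u) _ (lf_mem v),
      βf_mk _ (lf_mem u') _ (lf_mem v)]
    apply Additive.toMul.injective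
    apply Subtype.ext
    exact cm_mul_left hcomm (lf_mem u) (lf_mem u') (lf_mem v)
  have h_βr : ∀ u v v', βf u (v + v') = βf u v + βf u v' := by
    intro u v v'
    rw [← mkV_lf u, ← mkV_lf v, ← mkV_lf v', ← mkV_mul _ (lf_mem v) _ (lf_mem v'),
      βf_mk _ (lf_mem u) _ (Q.mul_mem (lf_mem v) (lf_mem v')), βf_mk _ (lf_mem u) _ (lf_mem v),
      βf_mk _ (lf_mem u) _ (lf_mem v')]
    apply Additive.toMul.injective
    apply Subtype.ext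
    exact cm_mul_right hcomm (lf_mem u) (lf_mem v) (lf_mem v')
  have h_add : ∀ u v, sqf (u + v) = sqf u + sqf v + βf u v := by
    intro u v
    rw [← mkV_lf u, ← mkV_lf v, ← mkV_mul _ (lf_mem u) _ (lf_mem v),
      sqf_mk _ (Q.mul_mem (lf_mem u) (lf_mem v)), sqf_mk _ (lf_mem u), sqf_mk _ (lf_mem v),
      βf_mk _ (lf_mem u) _ (lf_mem v)]
    apply Additive.toMul.injective
    apply Subtype.ext
    exact sq_mul hcomm (lf_mem u) (lf_mem v)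
  have h_sq0 : sqf 0 = 0 := by
    have e0 : (0 : Additive (Q.map (QuotientGroup.mk' (omZ Q)))) = mkV 1 Q.one_mem := rfl
    rw [e0, sqf_mk 1 Q.one_mem]
    apply Additive.toMul.injective
    apply Subtype.ext
    show (1 : Γ) ^ 2 = 1
    rw [one_pow]
  have hzero := pairing_zero _ _ hV hZ h4 sqf βf h_sq h_β h_βl h_βr h_add h_sq0
  intro p hp q hq
  have h := hzero (mkV p hp) (mkV q hq)
  rw [βf_mk p hp q hq] at h
  have h' : cm p q = 1 := by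
    have := congrArg (fun a => ((Additive.toMul a : omZ Q) : Γ)) h
    simpa using this
  unfold cm at h'
  have e : p * q = (p * q * p⁻¹ * q⁻¹) * (q * p) := by group
  rw [e, h', one_mul]

end SB

end Cfsg.Agent.Lib.Helper5.Hig
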