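import Mathlib
import Cfsg.Agent.Lib.Helper5.HigDefs
import Cfsg.Agent.Lib.Helper8.HigMatA

set_option autoImplicit false

/-!
# S3050 package M3 : the operator identities (†) and (‡)
-/

namespace Cfsg.Agent.Lib.Helper5.Hig

open Matrix

section M3
variable {K : Type*} [Field K] [CharP K 2] {V : Type*} [AddCommGroup V]
  (ρ : SL K →* AddMonoid.End V)

namespace DagAlt

theorem g1 {c : K} (hc : c ≠ 0) :
    hh c * (hh c⁻¹ * ww * uu c⁻¹) = (ww : SL K) * uu c⁻¹ := by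
  rw [← mul_assoc, ← mul_assoc, hh_mul hc (inv_ne_zero hc), mul_inv_cancel₀ hc, hh_one, one_mul]

theorem g2 {c : K} (hc : c ≠ 0) :
    hh c * (uu c⁻¹ * hh c⁻¹ * ww) = uu c * (ww : SL K) := by
  have e : c ^ 2 * c⁻¹ = c := by rw [pow_two, mul_assoc, mul_inv_cancel₀ hc, mul_one]
  rw [← mul_assoc, ← mul_assoc, hh_uu hc, e, mul_assoc (uu c), hh_mul hc (inv_ne_zero hc),
    mul_inv_cancel₀ hc, hh_one, mul_one]

theorem add_eq_of_sum_zero (h2 : ∀ v : V, v + v = 0) {a b c : V} (h : a + b + c = 0) :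
    c = b + a := by
  have hc : c = -(a + b) := eq_neg_of_add_eq_zero_right h
  have hn : -(a + b) = a + b := neg_eq_of_add_eq_zero_left (h2 (a + b))
  rw [hc, hn, add_comm]

end DagAlt

theorem dagger_alt (hρ : CMod ρ) {c : K} (hc : c ≠ 0) (v : V) :
    ρ (uu c) (ρ ww v) = ρ (hh c) v + ρ ww (ρ (uu c⁻¹) v) := by
  have hb : c⁻¹ ≠ 0 := inv_ne_zero hc
  have hd : orderOf (uu c⁻¹ * hh c⁻¹ * (ww : SL K)) = 3 := orderOf_dd hb
  have h := hρ.c3 _ hd (ρ (uu c⁻¹ * hh c⁻¹ * ww)⁻¹ v)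
  rw [rep_apply_inv, dd_inv hb] at h
  -- h : ρ d⁻¹ v + v + ρ d v = 0 ; apply ρ (hh c)
  have h' := congrArg (ρ (hh c)) h
  rw [map_add, map_add, map_zero, ← rep_mul_apply, ← rep_mul_apply, DagAlt.g1 hc, DagAlt.g2 hc,
    rep_mul_apply, rep_mul_apply] at h'
  exact DagAlt.add_eq_of_sum_zero hρ.two h'

theorem ddagger_alt (hρ : CMod ρ) {c c' : K} (hc : c ≠ 0) (hc' : c' ≠ 0) (hcc : c + c' ≠ 0) (v : V) :
    ρ ww (ρ (uu (c + c')⁻¹) (v + ρ (uu (c⁻¹ + c'⁻¹ + (c + c')⁻¹)) v)) =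
      ρ (uu c') (ρ (hh c) v) + ρ (hh c') (ρ (uu c⁻¹) v) + ρ (hh (c + c')) v := by
  have d1 := dagger_alt ρ hρ hc v
  have d2 := dagger_alt ρ hρ hc' (ρ (uu c⁻¹) v)
  have d3 := dagger_alt ρ hρ hcc v
  -- apply `ρ (uu c')` to d1
  have e1 := congrArg (ρ (uu c')) d1
  rw [map_add, d2, ← rep_mul_apply, uu_mul, add_comm c' c, d3, ← rep_mul_apply (g := uu c'⁻¹),
    uu_mul] at e1
  -- e1 : H + X = P + (R + Y)
  have hγ : (c + c')⁻¹ + (c⁻¹ + c'⁻¹ + (c + c')⁻¹) = c'⁻¹ + c⁻¹ := by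
    have : (c + c')⁻¹ + (c + c')⁻¹ = 0 := CharTwo.add_self_eq_zero _
    calc (c + c')⁻¹ + (c⁻¹ + c'⁻¹ + (c + c')⁻¹)
        = (c'⁻¹ + c⁻¹) + ((c + c')⁻¹ + (c + c')⁻¹) := by ring
      _ = c'⁻¹ + c⁻¹ := by rw [this, add_zero]
  rw [map_add, map_add, ← rep_mul_apply (g := uu (c + c')⁻¹), uu_mul, hγ]
  set X := ρ ww (ρ (uu (c + c')⁻¹) v) with hX
  set Y := ρ ww (ρ (uu (c'⁻¹ + c⁻¹)) v) with hY
  set P := ρ (uu c') (ρ (hh c) v) with hP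
  set R := ρ (hh c') (ρ (uu c⁻¹) v) with hR
  set H := ρ (hh (c + c')) v with hH
  have hHH := hρ.two H
  have hYY := hρ.two Y
  calc X + Y = (H + X) + (H + Y) - (H + H) := by abel
    _ = (P + (R + Y)) + (H + Y) - (H + H) := by rw [e1]
    _ = P + R + H + (Y + Y) - (H + H) := by abel
    _ = P + R + H := by rw [hYY, hHH, add_zero, sub_zero]

end M3

end Cfsg.Agent.Lib.Helper5.Hig
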