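import Mathlib
import Cfsg.Agent.Lib.Helper5.HigDefs
import Cfsg.Agent.Lib.Helper8.HigMatA

set_option autoImplicit false

/-!
# S3050 package M2 : fixed points of involutions
-/

namespace Cfsg.Agent.Lib.Helper5.Hig

open Matrix

namespace Fix

variable {K : Type*} [Field K] {V : Type*} [AddCommGroup V] (ρ : SL K →* AddMonoid.End V)

theorem invol_apply {t : SL K} (ht : t * t = 1) (v : V) : ρ t (ρ t v) = v := by
  rw [← rep_mul_apply, ht, rep_one_apply]

/-- the braid relation for two involutions whose product has order three -/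
theorem braid {t t' : SL K} (ht : t * t = 1) (ht' : t' * t' = 1) (hd : orderOf (t * t') = 3) :
    t' * (t * t') = (t * t') * t := by
  have h3 : (t * t') ^ 3 = 1 := by rw [← hd]; exact pow_orderOf_eq_one _
  have hti : t⁻¹ = t := inv_eq_of_mul_eq_one_right ht
  have ht'i : t'⁻¹ = t' := inv_eq_of_mul_eq_one_right ht'
  have h1 : t * t' * t = (t' * t * t')⁻¹ := by
    apply eq_inv_of_mul_eq_one_left
    rw [← h3, pow_succ, pow_two]; simp only [mul_assoc]
  rw [h1, _root_.mul_inv_rev, _root_.mul_inv_rev, hti, ht'i]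

/-- the relation `d⁻¹ w + w + d w = 0` spelled out for `d = t t'` -/
theorem star (hρ : C3 ρ) {t t' : SL K} (ht : t * t = 1) (ht' : t' * t' = 1)
    (hd : orderOf (t * t') = 3) (w : V) : ρ t' (ρ t w) + w + ρ t (ρ t' w) = 0 := by
  have h := hρ (t * t') hd (ρ t' (ρ t w))
  have e1 : ρ (t * t') (ρ t' (ρ t w)) = w := by
    rw [rep_mul_apply, invol_apply ρ ht', invol_apply ρ ht]
  rw [e1] at h
  rw [rep_mul_apply] at h
  exact h

theorem aux_sum (v A B TB T'A : V) (h : T'A + v + TB = 0) (h4 : (4 : ℕ) • v = 0) :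
    v = ((A + B - (2 : ℕ) • v) + (v + TB - (2 : ℕ) • A)) +
      ((A + B - (2 : ℕ) • v) + (T'A + v - (2 : ℕ) • B)) := by
  have e : ((A + B - (2 : ℕ) • v) + (v + TB - (2 : ℕ) • A)) +
      ((A + B - (2 : ℕ) • v) + (T'A + v - (2 : ℕ) • B)) = (T'A + v + TB) + v - (4 : ℕ) • v := by
    abel
  rw [e, h, h4, zero_add, sub_zero]

end Fix

section M2
variable {K : Type*} [Field K] {V : Type*} [AddCommGroup V] (ρ : SL K →* AddMonoid.End V)

theorem fix_decomp_alt (hρ : C3 ρ) (h4 : ∀ v : V, (4 : ℕ) • v = 0) {t t' : SL K} (ht : t * t = 1)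
    (ht' : t' * t' = 1) (hd : orderOf (t * t') = 3) :
    (∀ v : V, ∃ y y' : V, ρ t y = y ∧ ρ t' y' = y' ∧ v = y + y') ∧
      ∀ y : V, ρ t y = y → ρ t' y = y → y = 0 := by
  refine ⟨fun v => ?_, fun y hy hy' => ?_⟩
  · set a : V := ρ t v + ρ t' v - (2 : ℕ) • v with ha
    refine ⟨a + ρ t a, a + ρ t' a, ?_, ?_, ?_⟩
    · rw [map_add, Fix.invol_apply ρ ht, add_comm]
    · rw [map_add, Fix.invol_apply ρ ht', add_comm]
    · have hTa : ρ t a = v + ρ t (ρ t' v) - (2 : ℕ) • ρ t v := by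
        rw [ha, map_sub, map_add, map_nsmul, Fix.invol_apply ρ ht]
      have hT'a : ρ t' a = ρ t' (ρ t v) + v - (2 : ℕ) • ρ t' v := by
        rw [ha, map_sub, map_add, map_nsmul, Fix.invol_apply ρ ht']
      rw [hTa, hT'a]
      exact Fix.aux_sum v (ρ t v) (ρ t' v) (ρ t (ρ t' v)) (ρ t' (ρ t v))
        (Fix.star ρ hρ ht ht' hd v) (h4 v)
  · have h := Fix.star ρ hρ ht ht' hd y
    rw [hy, hy', hy] at h
    have h4y := h4 y
    have e : y = (4 : ℕ) • y - (y + y + y) := by abel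
    rw [e, h4y, h, sub_zero]

theorem card_fix_sq_alt [Finite V] (hρ : C3 ρ) (h4 : ∀ v : V, (4 : ℕ) • v = 0) {t t' : SL K}
    (ht : t * t = 1) (ht' : t' * t' = 1) (hd : orderOf (t * t') = 3) :
    Nat.card {v : V // ρ t v = v} ^ 2 = Nat.card V := by
  obtain ⟨hsum, hint⟩ := fix_decomp_alt ρ hρ h4 ht ht' hd
  have hbr := Fix.braid ht ht' hd
  -- `ρ d` maps `C(t)` onto `C(t')`
  have hbr2 : t * (t * t')⁻¹ = (t * t')⁻¹ * t' := by
    have : (t * t') * t * (t * t')⁻¹ = t' := by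
      rw [← hbr]; group
    calc t * (t * t')⁻¹ = (t * t')⁻¹ * ((t * t') * t * (t * t')⁻¹) := by group
      _ = (t * t')⁻¹ * t' := by rw [this]
  let e1 : {v : V // ρ t v = v} ≃ {v : V // ρ t' v = v} :=
    { toFun := fun y => ⟨ρ (t * t') y, by
        rw [← rep_mul_apply, hbr, rep_mul_apply, y.2]⟩
      invFun := fun y => ⟨ρ (t * t')⁻¹ y, by
        rw [← rep_mul_apply, hbr2, rep_mul_apply, y.2]⟩
      left_inv := fun y => Subtype.ext (rep_inv_apply ρ _ _)
      right_inv := fun y => Subtype.ext (rep_apply_inv ρ _ _) }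
  let f : {v : V // ρ t v = v} × {v : V // ρ t' v = v} → V := fun p => (p.1 : V) + (p.2 : V)
  have hf : Function.Bijective f := by
    constructor
    · rintro ⟨⟨y1, h1⟩, ⟨y1', h1'⟩⟩ ⟨⟨y2, h2⟩, ⟨y2', h2'⟩⟩ h
      have h' : y1 + y1' = y2 + y2' := h
      have hz : y1 - y2 = 0 := by
        apply hint
        · rw [map_sub, h1, h2]
        · have e : y1 - y2 = y2' - y1' := by
            rw [sub_eq_sub_iff_add_eq_add, h', add_comm]
          rw [e, map_sub, h2', h1']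
      have hy : y1 = y2 := sub_eq_zero.mp hz
      subst hy
      have hy' : y1' = y2' := add_left_cancel h'
      subst hy'
      rfl
    · intro v
      obtain ⟨y, y', hy, hy', hv⟩ := hsum v
      exact ⟨⟨⟨y, hy⟩, ⟨y', hy'⟩⟩, hv.symm⟩
  rw [← Nat.card_congr (Equiv.ofBijective f hf), Nat.card_prod, ← Nat.card_congr e1, pow_two]

theorem card_fix_uu_sq_alt [CharP K 2] [Finite V] (hρ : C3 ρ) (h4 : ∀ v : V, (4 : ℕ) • v = 0) {b : K}
    (hb : b ≠ 0) : Nat.card {v : V // ρ (uu b) v = v} ^ 2 = Nat.card V := by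
  have hb' : b⁻¹ ≠ 0 := inv_ne_zero hb
  have ht' : (hh b * ww) * (hh b * ww) = (1 : SL K) := by
    calc (hh b * ww) * (hh b * ww) = hh b * (ww * hh b) * ww := by group
      _ = hh b * (hh b⁻¹ * ww) * ww := by rw [ww_hh hb]
      _ = (hh b * hh b⁻¹) * (ww * ww) := by group
      _ = 1 := by rw [hh_mul hb hb', mul_inv_cancel₀ hb, hh_one, ww_sq, mul_one]
  have hd : orderOf (uu b * (hh b * ww)) = 3 := by
    rw [← mul_assoc]; exact orderOf_dd hb
  exact card_fix_sq_alt ρ hρ h4 (uu_sq b) ht' hd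

namespace Fix

variable [CharP K 2]

theorem ll_one_eq : (ll (1 : K) : SL K) = ww * uu 1 * ww := (ww_uu_ww 1).symm

theorem ll_one_sq : (ll (1 : K) : SL K) * ll 1 = 1 := by
  rw [ll_one_eq]
  calc (ww : SL K) * uu (1 : K) * ww * (ww * uu (1 : K) * ww)
      = ww * uu (1 : K) * (ww * ww) * uu (1 : K) * ww := by simp only [mul_assoc]
    _ = (ww : SL K) * (uu (1 : K) * uu (1 : K)) * ww := by rw [ww_sq]; simp only [mul_assoc, one_mul]
    _ = 1 := by rw [uu_sq, mul_one, ww_sq]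

theorem orderOf_uu_ll_one : orderOf ((uu 1 : SL K) * ll 1) = 3 := by
  have h := orderOf_uu_ll (K := K) (c := 1) one_ne_zero
  rwa [inv_one] at h

theorem ww_apply (v : V) : ρ ww (ρ ww v) = v := invol_apply ρ ww_sq v

theorem ll_one_apply (v : V) : ρ (ll 1) v = ρ ww (ρ (uu 1) (ρ ww v)) := by
  rw [ll_one_eq, rep_mul_apply, rep_mul_apply]

end Fix

/-- `A = C_A(u(1)) ⊕ w C_A(u(1))` -/
theorem decomp_uu_ww_alt [CharP K 2] (hρ : C3 ρ) (h4 : ∀ v : V, (4 : ℕ) • v = 0) :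
    (∀ v : V, ∃ y y' : V, ρ (uu 1) y = y ∧ ρ (uu 1) y' = y' ∧ v = y + ρ ww y') ∧
      ∀ y y' : V, ρ (uu 1) y = y → ρ (uu 1) y' = y' → y + ρ ww y' = 0 → y = 0 ∧ y' = 0 := by
  obtain ⟨hsum, hint⟩ := fix_decomp_alt ρ hρ h4 (uu_sq (1 : K)) Fix.ll_one_sq Fix.orderOf_uu_ll_one
  refine ⟨fun v => ?_, fun y y' hy hy' h0 => ?_⟩
  · obtain ⟨y, y'', hy, hy'', hv⟩ := hsum v
    refine ⟨y, ρ ww y'', hy, ?_, ?_⟩
    · have h := hy''
      rw [Fix.ll_one_apply] at h
      have h2 := congrArg (ρ ww) h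
      rw [Fix.ww_apply] at h2
      exact h2
    · rw [Fix.ww_apply]; exact hv
  · have hfix : ρ (ll 1) (ρ ww y') = ρ ww y' := by
      rw [Fix.ll_one_apply, Fix.ww_apply, hy']
    have hy0 : y = - ρ ww y' := eq_neg_of_add_eq_zero_left h0
    have hyl : ρ (ll 1) y = y := by
      rw [hy0, map_neg, hfix]
    have hy00 : y = 0 := hint y hy hyl
    refine ⟨hy00, ?_⟩
    rw [hy00, zero_add] at h0
    have := congrArg (ρ ww) h0
    rw [Fix.ww_apply, map_zero] at this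
    exact this

/-- the relation `t (w y) = - w y - y` for `y` fixed by `t = u(1)` -/
theorem uu_ww_fix_alt [CharP K 2] (hρ : C3 ρ) {y : V} (hy : ρ (uu 1) y = y) :
    ρ (uu 1) (ρ ww y) = - ρ ww y - y := by
  have hd : orderOf ((uu 1 : SL K) * ww) = 3 := by
    have h := orderOf_dd (K := K) (c := 1) one_ne_zero
    rwa [hh_one, mul_one] at h
  have h := hρ _ hd (ρ ww y)
  have e1 : ρ ((uu 1 : SL K) * ww) (ρ ww y) = y := by
    rw [rep_mul_apply, Fix.ww_apply, hy]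
  rw [e1, rep_mul_apply] at h
  -- h : ρ ww y + y + ρ (uu 1) (ρ ww y) = 0
  have := eq_neg_of_add_eq_zero_right h
  rw [this]; abel

end M2

end Cfsg.Agent.Lib.Helper5.Hig
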