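import Mathlib
import Cfsg.Agent.Lib.Helper6.Simp1

set_option autoImplicit false

namespace Cfsg.Agent.Lib.Helper6.IdxTwo

/-! # A subgroup of index two whose overgroup has no smaller nontrivial normal subgroup is simple -/

section idx
variable {G : Type*} [Group G]

/-- the image of a normal subgroup under a conjugation by an element of the subgroup -/
theorem map_conj_eq {D : Subgroup G} [D.Normal] (M : Subgroup D) [hM : M.Normal] (d : D) :
    M.map (MulAut.conjNormal (d : G) : MulAut D).toMonoidHom = M := by
  rw [MulAut.conjNormal_val]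
  ext x
  constructor
  · rintro ⟨y, hy, rfl⟩
    exact hM.conj_mem y hy d
  · intro hx
    refine ⟨d⁻¹ * x * d, ?_, ?_⟩
    · have := hM.conj_mem x hx d⁻¹
      rwa [inv_inv] at this
    · show d * (d⁻¹ * x * d) * d⁻¹ = x
      group

theorem map_conj_mul {D : Subgroup G} [D.Normal] (M : Subgroup D) (g h : G) :
    M.map (MulAut.conjNormal (g * h) : MulAut D).toMonoidHom =
      (M.map (MulAut.conjNormal h : MulAut D).toMonoidHom).map
        (MulAut.conjNormal g : MulAut D).toMonoidHom := by
  rw [Subgroup.map_map, map_mul]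
  rfl

/-- a subgroup of `D` invariant under the conjugations by the elements of `G` is normal in `G` -/
theorem normal_of_invariant {D : Subgroup G} [D.Normal] (K : Subgroup D)
    (h : ∀ g : G, K.map (MulAut.conjNormal g : MulAut D).toMonoidHom = K) :
    (K.map D.subtype).Normal := by
  refine ⟨?_⟩
  rintro _ ⟨k, hk, rfl⟩ g
  refine ⟨MulAut.conjNormal g k, ?_, ?_⟩
  · have : MulAut.conjNormal g k ∈ K.map (MulAut.conjNormal g : MulAut D).toMonoidHom :=
      ⟨k, hk, rfl⟩
    rwa [h g] at this
  · show ((MulAut.conjNormal g k : D) : G) = g * (k : G) * g⁻¹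
    exact MulAut.conjNormal_apply g k

/-- A subgroup `D` of index 2 of a finite group, contained in every nontrivial normal subgroup, is
simple if its order is not a square. -/
theorem simple_of_index_two [Finite G] (D : Subgroup G) (hD : D.index = 2)
    (hmin : ∀ K : Subgroup G, K.Normal → K ≠ ⊥ → D ≤ K)
    (hsq : ¬ IsSquare (Nat.card D)) (hnt : Nontrivial D) : IsSimpleGroup D := by
  haveI : D.Normal := Subgroup.normal_of_index_eq_two hD
  refine ⟨?_⟩
  intro M hM
  by_cases hbot : M = ⊥
  · exact Or.inl hbot
  right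
  -- an element outside `D`
  obtain ⟨g₀, hg₀⟩ : ∃ g₀ : G, g₀ ∉ D := by
    by_contra hall
    push_neg at hall
    have : D = ⊤ := by
      rw [eq_top_iff]
      intro x _
      exact hall x
    rw [this, Subgroup.index_top] at hD
    omega
  set c : G → (D →* D) := fun g => (MulAut.conjNormal g : MulAut D).toMonoidHom with hc
  have cinj : ∀ g, Function.Injective (c g) := fun g => (MulAut.conjNormal g : MulAut D).injective
  have csurj : ∀ g, Function.Surjective (c g) := fun g => (MulAut.conjNormal g : MulAut D).surjective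
  set B : Subgroup D := M.map (c g₀) with hB
  haveI hBn : B.Normal := Subgroup.Normal.map hM (c g₀) (csurj g₀)
  have hMd : ∀ d : G, d ∈ D → M.map (c d) = M := fun d hd => map_conj_eq M ⟨d, hd⟩
  have hBd : ∀ d : G, d ∈ D → B.map (c d) = B := by
    intro d hd
    have e : d * g₀ = g₀ * (g₀⁻¹ * d * g₀) := by group
    have hd' : g₀⁻¹ * d * g₀ ∈ D := by
      have := ‹D.Normal›.conj_mem d hd g₀⁻¹
      rwa [inv_inv] at this
    rw [hB, ← map_conj_mul, e, map_conj_mul, hMd _ hd']
  have hMg : ∀ g : G, g ∉ D → M.map (c g) = B := by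
    intro g hg
    have e : g = g₀ * (g₀⁻¹ * g) := by group
    have hd' : g₀⁻¹ * g ∈ D := by
      rw [Subgroup.mul_mem_iff_of_index_two hD]
      constructor
      · intro h; exact absurd (by simpa using D.inv_mem h) hg₀
      · intro h; exact absurd h hg
    rw [e]
    show M.map (MulAut.conjNormal (g₀ * (g₀⁻¹ * g)) : MulAut D).toMonoidHom = B
    rw [map_conj_mul]
    show (M.map (c (g₀⁻¹ * g))).map (c g₀) = B
    rw [hMd _ hd']
  have hBg : ∀ g : G, g ∉ D → B.map (c g) = M := by
    intro g hg
    have hd' : g * g₀ ∈ D := by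
      rw [Subgroup.mul_mem_iff_of_index_two hD]
      exact ⟨fun h => absurd h hg, fun h => absurd h hg₀⟩
    rw [hB]
    show (M.map (MulAut.conjNormal g₀ : MulAut D).toMonoidHom).map
      (MulAut.conjNormal g : MulAut D).toMonoidHom = M
    rw [← map_conj_mul]
    exact hMd _ hd'
  have hinf : ∀ g : G, (M ⊓ B).map (c g) = M ⊓ B := by
    intro g
    rw [Subgroup.map_inf _ _ _ (cinj g)]
    by_cases hg : g ∈ D
    · rw [hMd g hg, hBd g hg]
    · rw [hMg g hg, hBg g hg, inf_comm]
  have hsup : ∀ g : G, (M ⊔ B).map (c g) = M ⊔ B := by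
    intro g
    rw [Subgroup.map_sup]
    by_cases hg : g ∈ D
    · rw [hMd g hg, hBd g hg]
    · rw [hMg g hg, hBg g hg, sup_comm]
  have n1 := normal_of_invariant (M ⊓ B) hinf
  have n2 := normal_of_invariant (M ⊔ B) hsup
  have hsubinj : Function.Injective D.subtype := D.subtype_injective
  -- the join is everything
  have hjoin : M ⊔ B = ⊤ := by
    have hne : (M ⊔ B).map D.subtype ≠ ⊥ := by
      intro h
      rw [(Subgroup.map_eq_bot_iff_of_injective _ hsubinj)] at h
      exact hbot (le_bot_iff.mp (h ▸ le_sup_left))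
    have h1 := hmin _ n2 hne
    rw [eq_top_iff]
    intro x _
    obtain ⟨y, hy, hxy⟩ := h1 x.2
    have : y = x := hsubinj hxy
    rwa [this] at hy
  by_cases hmeet : M ⊓ B = ⊥
  · exfalso
    apply hsq
    have h1 : B.relIndex (M ⊔ B) = B.relIndex M := Subgroup.relIndex_sup_right M B
    rw [hjoin, Subgroup.relIndex_top_right, ← Subgroup.inf_relIndex_right, inf_comm, hmeet,
      Subgroup.relIndex_bot_left] at h1
    have h2 : Nat.card B * B.index = Nat.card D := Subgroup.card_mul_index B
    have h3 : Nat.card B = Nat.card M := Subgroup.card_map_of_injective (cinj g₀)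
    rw [h1, h3] at h2
    exact ⟨Nat.card M, h2.symm⟩
  · have hne : (M ⊓ B).map D.subtype ≠ ⊥ := by
      intro h
      rw [(Subgroup.map_eq_bot_iff_of_injective _ hsubinj)] at h
      exact hmeet h
    have h1 := hmin _ n1 hne
    rw [eq_top_iff]
    intro x _
    obtain ⟨y, hy, hxy⟩ := h1 x.2
    have : y = x := hsubinj hxy
    rw [this] at hy
    exact hy.1

end idx

section cases
variable {G : Type*} [Group G]

/-- the normal subgroups of a direct product of a non-abelian simple group with a group of order
two, inside a group -/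
theorem normal_cases (S H K : Subgroup G) (l : G) [hS : IsSimpleGroup S]
    (hnc : ∃ a ∈ S, ∃ b ∈ S, a * b ≠ b * a)
    (hSH : S ≤ H) (hKH : K ≤ H)
    (hl : ∀ h ∈ H, l * h = h * l) (hl2 : l * l = 1)
    (hdec : ∀ h ∈ H, h ∈ S ∨ h * l ∈ S)
    (hnorm : ∀ h ∈ H, ∀ k ∈ K, h * k * h⁻¹ ∈ K) :
    K = ⊥ ∨ l ∈ K ∨ S ≤ K := by
  haveI n1 : (K.subgroupOf S).Normal := by
    refine ⟨?_⟩
    intro k hk s
    rw [Subgroup.mem_subgroupOf] at hk ⊢
    exact hnorm s (hSH s.2) k hk
  rcases hS.eq_bot_or_eq_top_of_normal (K.subgroupOf S) n1 with h | h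
  · -- the intersection is trivial
    by_cases hbot : K = ⊥
    · exact Or.inl hbot
    right; left
    obtain ⟨k, hk, hk1⟩ : ∃ k ∈ K, k ≠ 1 := by
      by_contra hall
      push_neg at hall
      apply hbot
      rw [eq_bot_iff]
      intro x hx
      rw [Subgroup.mem_bot]
      exact hall x hx
    have hint : ∀ x, x ∈ K → x ∈ S → x = 1 := by
      intro x hxK hxS
      have : (⟨x, hxS⟩ : S) ∈ K.subgroupOf S := by rw [Subgroup.mem_subgroupOf]; exact hxK
      rw [h, Subgroup.mem_bot] at this
      exact congrArg Subtype.val this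
    rcases hdec k (hKH hk) with hkS | hkS
    · exact absurd (hint k hk hkS) hk1
    · -- `s = k l` is central in `S`
      set s := k * l with hs
      have hlinv : l⁻¹ = l := (eq_inv_of_mul_eq_one_left hl2).symm
      have hks : k = s * l := by rw [hs, mul_assoc, hl2, mul_one]
      have hcen : ∀ t ∈ S, s * t = t * s := by
        intro t ht
        have htH := hSH ht
        have e1 : k * t * k⁻¹ * t⁻¹ = s * t * s⁻¹ * t⁻¹ := by
          rw [hks, mul_inv_rev, hlinv]
          have e2 : s * l * t * (l * s⁻¹) = s * t * s⁻¹ := by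
            have := hl t htH
            calc s * l * t * (l * s⁻¹) = s * (l * t) * l * s⁻¹ := by group
              _ = s * (t * l) * l * s⁻¹ := by rw [this]
              _ = s * t * (l * l) * s⁻¹ := by group
              _ = s * t * s⁻¹ := by rw [hl2, mul_one]
          rw [e2]
        have m1 : k * t * k⁻¹ * t⁻¹ ∈ K := by
          have h1 : t * k⁻¹ * t⁻¹ ∈ K := hnorm t htH k⁻¹ (K.inv_mem hk)
          have : k * t * k⁻¹ * t⁻¹ = k * (t * k⁻¹ * t⁻¹) := by group
          rw [this]
          exact K.mul_mem hk h1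
        have m2 : s * t * s⁻¹ * t⁻¹ ∈ S :=
          S.mul_mem (S.mul_mem (S.mul_mem hkS ht) (S.inv_mem hkS)) (S.inv_mem ht)
        have := hint _ m1 (e1 ▸ m2)
        rw [e1] at this
        calc s * t = (s * t * s⁻¹ * t⁻¹) * (t * s) := by group
          _ = t * s := by rw [this, one_mul]
      have hs1 : s = 1 := by
        have hc : (⟨s, hkS⟩ : S) ∈ Subgroup.center S := by
          rw [Subgroup.mem_center_iff]
          intro t
          apply Subtype.ext
          exact (hcen t t.2).symm
        rcases hS.eq_bot_or_eq_top_of_normal (Subgroup.center S) inferInstance with hz | hz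
        · rw [hz, Subgroup.mem_bot] at hc
          exact congrArg Subtype.val hc
        · exfalso
          obtain ⟨a, ha, b, hb, hab⟩ := hnc
          apply hab
          have : (⟨a, ha⟩ : S) ∈ Subgroup.center S := by rw [hz]; exact Subgroup.mem_top _
          rw [Subgroup.mem_center_iff] at this
          exact (congrArg Subtype.val (this ⟨b, hb⟩)).symm
      have : k = l := by rw [hks, hs1, one_mul]
      rw [← this]
      exact hk
  · right; right
    intro s hs
    have : (⟨s, hs⟩ : S) ∈ K.subgroupOf S := by rw [h]; exact Subgroup.mem_top _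
    rwa [Subgroup.mem_subgroupOf] at this

end cases

section mem
variable {G : Type*} [Group G]
open Cfsg.Agent.Lib.Helper6.Simp

/-- a nontrivial normal subgroup of a group with a maximal subgroup of trivial core contains
every element of a prime order `p` dividing the index and dividing the order only once -/
theorem mem_of_max [Finite G] (H : Subgroup G)
    (hmax : ∀ M : Subgroup G, H ≤ M → M = H ∨ M = ⊤)
    (hcore : ∀ N : Subgroup G, N.Normal → N ≤ H → N = ⊥)
    {p : ℕ} [Fact p.Prime] (hp : p ∣ H.index) (hp2 : ¬ p ^ 2 ∣ Nat.card G)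
    {x : G} (hx : orderOf x = p) (N : Subgroup G) [hN : N.Normal] (hbot : N ≠ ⊥) : x ∈ N := by
  have hnle : ¬ N ≤ H := fun h => hbot (hcore N hN h)
  have hsup : H ⊔ N = ⊤ := by
    rcases hmax (H ⊔ N) le_sup_left with h | h
    · exact absurd (h ▸ le_sup_right) hnle
    · exact h
  have hdvd : p ∣ Nat.card N := hp.trans (index_dvd_card_of_sup_eq_top H N hsup)
  exact mem_normal_of_prime_order N hdvd hp2 hx

end mem

end Cfsg.Agent.Lib.Helper6.IdxTwo
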