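import Mathlib
import Cfsg.Prelude
import Cfsg.Agent.Lib.Helper6.IsoMin2

/-!
# Isolated p-minimal subgroups: basic facts in `G` (package A, part 3)
-/

set_option autoImplicit false

namespace Cfsg.Agent.Lib.Helper6.IsoMin

open Cfsg Cfsg.Agent.Lib.Helper6
open scoped commutatorElement

variable {G : Type*} [Group G] [Finite G] {p : ℕ} [Fact p.Prime]
variable {S : Sylow p G} {P L : Subgroup G}

omit [Finite G] [Fact p.Prime] in
/-- a `p`-subgroup of `Y` normalized by `Y` lies in `O_p(Y)` -/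
theorem le_pCoreOf {K Y : Subgroup G} (hKY : K ≤ Y)
    (hYK : Y ≤ Subgroup.normalizer (K : Set G)) (hK : IsPGroup p K) : K ≤ Cfsg.pCoreOf p Y := by
  haveI : (K.subgroupOf Y).Normal := (Subgroup.normal_subgroupOf_iff_le_normalizer hKY).mpr hYK
  have h1 : K.subgroupOf Y ≤ Cfsg.pCore p ↥Y := le_pCore inferInstance hK.comap_subtype
  intro x hx
  exact Subgroup.mem_map.mpr ⟨⟨x, hKY hx⟩, h1 (by rw [Subgroup.mem_subgroupOf]; exact hx), rfl⟩

/-- (A6') a normal subgroup of `G` properly contained in `Y` is central in `Y` modulo `O_p(Y)` -/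
theorem IsoHyp.commutator_le_pCoreOf_Y (h : IsoHyp S P L) (M : Subgroup G) [hM : M.Normal]
    (hMY : M < Subgroup.normalClosure (Cfsg.pResidualOf p P : Set G)) :
    ⁅M, Subgroup.normalClosure (Cfsg.pResidualOf p P : Set G)⁆ ≤
      Cfsg.pCoreOf p (Subgroup.normalClosure (Cfsg.pResidualOf p P : Set G)) := by
  rcases h.normal_le_or M with h1 | h1
  · refine (h.commutator_le_pCoreOf M h1).trans ?_
    haveI : (Cfsg.pCoreOf p M).Normal := pCoreOf_normal_of_normal p M
    apply le_pCoreOf ((pCoreOf_le M).trans hMY.le)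
    · rw [Subgroup.normalizer_eq_top_iff.mpr inferInstance]; exact le_top
    · exact pCoreOf_isPGroup p M
  · exact absurd h1 (not_le_of_gt hMY)

/-- (A7) `P` is isolated in every subgroup between `S` and `L` -/
theorem IsoHyp.not_pCoreOf_le (h : IsoHyp S P L) (L₀ : Subgroup G) (hS : (S : Subgroup G) ≤ L₀)
    (hL₀ : L₀ ≤ L) : ¬ Cfsg.pCoreOf p L₀ ≤ Cfsg.pCoreOf p P := by
  intro hle
  apply h.hiso
  show Cfsg.pCoreOf p L ≤ Cfsg.pCoreOf p P
  refine le_trans ?_ hle
  exact le_pCoreOf (h.Q_le_S.trans hS) (hL₀.trans h.L_le_normalizer_Q) (pCoreOf_isPGroup p L)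

/-- the subgroup `L₀` of S3044 lies between `S` and `L` -/
theorem IsoHyp.L₀_le (h : IsoHyp S P L) (Y : Subgroup G) :
    (Subgroup.normalizer ((S : Subgroup G) : Set G) ⊓ (Y ⊔ (S : Subgroup G))) ⊔
      ⨆ P' : {P' : Subgroup G // (S : Subgroup G) ≤ P' ∧ P' ≤ Y ⊔ (S : Subgroup G) ∧
        Cfsg.IsPMinimal p ↥P' ∧ P' ≠ P}, (P' : Subgroup G) ≤ L := by
  refine sup_le (inf_le_left.trans h.normalizer_le) (iSup_le ?_)
  rintro ⟨P', h1, -, h3, h4⟩
  exact h.pmin_le h1 h3 h4

omit [Finite G] [Fact p.Prime] in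
theorem S_le_L₀ (S P Y : Subgroup G) :
    S ≤ (Subgroup.normalizer (S : Set G) ⊓ (Y ⊔ S)) ⊔
      ⨆ P' : {P' : Subgroup G // S ≤ P' ∧ P' ≤ Y ⊔ S ∧
        Cfsg.IsPMinimal p ↥P' ∧ P' ≠ P}, (P' : Subgroup G) :=
  le_sup_of_le_left (le_inf Subgroup.le_normalizer le_sup_right)

/-- (A10) `D` is not a `p`-group modulo a normal `p`-subgroup -/
theorem IsoHyp.not_isPGroup_map (h : IsoHyp S P L) {X : Type*} [Group X] (f : G →* X)
    (hf : IsPGroup p f.ker) : ¬ IsPGroup p ((Cfsg.pResidualOf p P).map f) := by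
  intro hD
  -- D is a p-group
  have hDp : ∀ d ∈ Cfsg.pResidualOf p P, ∃ k : ℕ, d ^ p ^ k = 1 := by
    intro d hd
    obtain ⟨k, hk⟩ := hD ⟨f d, Subgroup.mem_map_of_mem f hd⟩
    have hk' : f (d ^ p ^ k) = 1 := by
      have := congrArg Subtype.val hk
      simpa using this
    obtain ⟨j, hj⟩ := hf ⟨d ^ p ^ k, hk'⟩
    have hj' : (d ^ p ^ k) ^ p ^ j = 1 := by
      have := congrArg Subtype.val hj
      simpa using this
    refine ⟨k + j, ?_⟩
    rw [pow_add, pow_mul]; exact hj'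
  set SP : Sylow p ↥P := S.subtype h.hSP with hSPdef
  have hres : Cfsg.pResidual p ↥P = ⊥ := by
    unfold Cfsg.pResidual
    rw [Subgroup.closure_eq_bot_iff]
    intro g hg
    have hgD : (g : G) ∈ Cfsg.pResidualOf p P :=
      Subgroup.mem_map.mpr ⟨g, Subgroup.subset_closure hg, rfl⟩
    obtain ⟨k, hk⟩ := hDp _ hgD
    have h1 : orderOf g ∣ p ^ k := by
      rw [← Subgroup.orderOf_coe]; exact orderOf_dvd_of_pow_eq_one hk
    have h2 : orderOf g = 1 :=
      Nat.eq_one_of_dvd_coprimes (Nat.Coprime.pow_right k hg) (dvd_refl _) h1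
    rw [Set.mem_singleton_iff]
    exact orderOf_eq_one_iff.mp h2
  have htop := pResidual_sup_sylow SP
  rw [hres, bot_sup_eq] at htop
  have := (h.hPmin SP).1
  apply this
  rw [htop]; infer_instance

/-- (A11) if `Y ≤ D R₀` for a `p`-subgroup `R₀` normalizing `D`, then `Y = D` -/
theorem normalClosure_pResidualOf_eq {P R₀ : Subgroup G} (hR : IsPGroup p R₀)
    (hRD : R₀ ≤ Subgroup.normalizer (Cfsg.pResidualOf p P : Set G))
    (hY : Subgroup.normalClosure (Cfsg.pResidualOf p P : Set G) ≤ Cfsg.pResidualOf p P ⊔ R₀) :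
    Subgroup.normalClosure (Cfsg.pResidualOf p P : Set G) = Cfsg.pResidualOf p P := by
  set D := Cfsg.pResidualOf p P with hD
  have hconj : ∀ g : G, D.map (MulAut.conj g).toMonoidHom ≤ D := by
    intro g
    rw [hD]
    unfold Cfsg.pResidualOf Cfsg.pResidual
    rw [Subgroup.map_map, Subgroup.map_le_iff_le_comap, Subgroup.closure_le]
    intro x hx
    have hxD : (x : G) ∈ D := Subgroup.mem_map.mpr ⟨x, Subgroup.subset_closure hx, rfl⟩
    have hxY : g * (x : G) * g⁻¹ ∈ Subgroup.normalClosure (D : Set G) :=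
      Subgroup.normalClosure_normal.conj_mem _ (Subgroup.le_normalClosure hxD) g
    have hord : Nat.Coprime (orderOf (g * (x : G) * g⁻¹)) p := by
      have e : orderOf (g * (x : G) * g⁻¹) = orderOf (x : G) :=
        (SemiconjBy.orderOf_eq g (show SemiconjBy g (x : G) (g * (x : G) * g⁻¹) by
          simp [SemiconjBy])).symm
      rw [e, Subgroup.orderOf_coe]; exact hx
    exact mem_of_coprime_of_mem_sup_normalizer hR hRD hord (hY hxY)
  haveI : D.Normal := ⟨fun n hn g => hconj g ⟨n, hn, rfl⟩⟩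
  exact le_antisymm (Subgroup.normalClosure_le_normal le_rfl) Subgroup.le_normalClosure

end Cfsg.Agent.Lib.Helper6.IsoMin
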