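import Mathlib
import Cfsg.Prelude
import Cfsg.Agent.Lib.Helper6.IsoMin3

/-!
# Isolated p-minimal subgroups: the images in `G / O_p(Y)` form an `AbsIso` (package C1)
-/

set_option autoImplicit false

namespace Cfsg.Agent.Lib.Helper6.IsoMin

open Cfsg Cfsg.Agent.Lib.Helper6
open scoped commutatorElement

variable {G : Type*} [Group G] [Finite G] {p : ℕ} [Fact p.Prime]
variable {S : Sylow p G} {P L : Subgroup G}

/-- `O_p(Y) ≤ S` for `Y` normal -/
theorem pCoreOf_le_sylow_of_normal (S : Sylow p G) (Y : Subgroup G) [Y.Normal] :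
    Cfsg.pCoreOf p Y ≤ (S : Subgroup G) :=
  (pCoreOf_le_pCore p Y).trans (pCore_le_sylow S)

/-- (C1) the abstract isolated situation in `G / O_p(Y)` -/
theorem IsoHyp.absIso (h : IsoHyp S P L)
    [hR : (Cfsg.pCoreOf p (Subgroup.normalClosure (Cfsg.pResidualOf p P : Set G))).Normal] :
    AbsIso p
      ((Subgroup.normalClosure (Cfsg.pResidualOf p P : Set G)).map
        (QuotientGroup.mk' (Cfsg.pCoreOf p (Subgroup.normalClosure (Cfsg.pResidualOf p P : Set G)))))
      ((S : Subgroup G).map
        (QuotientGroup.mk' (Cfsg.pCoreOf p (Subgroup.normalClosure (Cfsg.pResidualOf p P : Set G)))))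
      ((Cfsg.pCoreOf p L).map
        (QuotientGroup.mk' (Cfsg.pCoreOf p (Subgroup.normalClosure (Cfsg.pResidualOf p P : Set G)))))
      (L.map
        (QuotientGroup.mk' (Cfsg.pCoreOf p (Subgroup.normalClosure (Cfsg.pResidualOf p P : Set G)))))
      ((Cfsg.pResidualOf p P).map
        (QuotientGroup.mk' (Cfsg.pCoreOf p (Subgroup.normalClosure (Cfsg.pResidualOf p P : Set G))))) := by
  set D := Cfsg.pResidualOf p P with hD
  set Y := Subgroup.normalClosure (D : Set G) with hY
  set R := Cfsg.pCoreOf p Y with hRdef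
  set Q := Cfsg.pCoreOf p L with hQ
  set π := QuotientGroup.mk' R with hπ
  have hπs : Function.Surjective π := QuotientGroup.mk'_surjective R
  have hker : π.ker = R := QuotientGroup.ker_mk' R
  have hRY : R ≤ Y := pCoreOf_le Y
  have hRp : IsPGroup p R := pCoreOf_isPGroup p Y
  have hcomapY : (Y.map π).comap π = Y := by
    rw [Subgroup.comap_map_eq, hker, sup_eq_left.mpr hRY]
  have hmapR : R.map π = ⊥ := by
    rw [Subgroup.map_eq_bot_iff, hker]
  have hnorm_map : ∀ {H K : Subgroup G}, H ≤ Subgroup.normalizer (K : Set G) →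
      H.map π ≤ Subgroup.normalizer ((K.map π : Subgroup (G ⧸ R)) : Set (G ⧸ R)) := by
    intro H K hHK
    exact (Subgroup.map_mono hHK).trans (Subgroup.le_normalizer_map π)
  refine ⟨?_, ?_, ?_, ?_, ?_, ?_, ?_, ?_, ?_, ?_, ?_, ?_, ?_, ?_⟩
  · exact Subgroup.Normal.map Subgroup.normalClosure_normal π hπs
  · exact S.isPGroup'.map π
  · exact Subgroup.map_mono h.Q_le_S
  · exact Subgroup.map_mono h.S_le_L
  · exact hnorm_map h.L_le_normalizer_Q
  · rw [← Subgroup.map_sup, h.Y_sup_L]
    exact Subgroup.map_top_of_surjective π hπs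
  · exact Subgroup.map_mono Subgroup.le_normalClosure
  · exact hnorm_map (h.hSP.trans (le_normalizer_pResidualOf P))
  · have := Subgroup.map_mono (f := π) h.D_le
    rwa [Subgroup.map_sup, Subgroup.map_commutator] at this
  · exact h.not_isPGroup_map π (by rw [hker]; exact hRp)
  · rw [Subgroup.map_normalClosure _ π hπs]
    rfl
  · -- hss
    intro U _ hTU
    have hSU : (S : Subgroup G) ≤ Subgroup.normalizer ((U.comap π : Subgroup G) : Set G) := by
      have h1 : (S : Subgroup G) ≤ (Subgroup.normalizer (U : Set (G ⧸ R))).comap π :=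
        Subgroup.map_le_iff_le_comap.mp hTU
      exact h1.trans (Subgroup.le_normalizer_comap π)
    have hU : (U.comap π).map π = U := Subgroup.map_comap_eq_self_of_surjective hπs U
    rcases h.le_or_D_le (U.comap π) hSU with h1 | h1
    · left
      rw [← hU]
      exact (Subgroup.map_mono h1).trans (hnorm_map h.L_le_normalizer_Q)
    · right
      rw [← hU]
      exact Subgroup.map_mono h1
  · -- hF5
    intro M hM hMN
    haveI : (M.comap π).Normal := Subgroup.Normal.comap hM π
    have hM' : (M.comap π).map π = M := Subgroup.map_comap_eq_self_of_surjective hπs M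
    have hlt : M.comap π < Y := by
      refine lt_of_le_of_ne ?_ ?_
      · rw [← hcomapY]; exact Subgroup.comap_mono hMN.le
      · intro he
        rw [← hM', he] at hMN
        exact lt_irrefl _ hMN
    have h1 := h.commutator_le_pCoreOf_Y (M.comap π) hlt
    have h2 := Subgroup.map_mono (f := π) h1
    rw [Subgroup.map_commutator, hM'] at h2
    rw [eq_bot_iff]
    exact h2.trans hmapR.le
  · -- hOp
    intro M hM hMN hMp
    haveI : (M.comap π).Normal := Subgroup.Normal.comap hM π
    have hM' : (M.comap π).map π = M := Subgroup.map_comap_eq_self_of_surjective hπs M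
    have hle : M.comap π ≤ Y := by
      rw [← hcomapY]; exact Subgroup.comap_mono hMN
    have hp' : IsPGroup p (M.comap π) :=
      hMp.comap_of_ker_isPGroup π (by rw [hker]; exact hRp)
    have h1 : M.comap π ≤ R := by
      apply le_pCoreOf hle _ hp'
      rw [Subgroup.normalizer_eq_top_iff.mpr inferInstance]; exact le_top
    rw [eq_bot_iff, ← hM']
    exact (Subgroup.map_mono h1).trans hmapR.le

/-- transfer of the conclusion `N = D` of the coprime case back to `G`: `Y = D` -/
theorem IsoHyp.eq_of_map_eq (h : IsoHyp S P L)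
    [hR : (Cfsg.pCoreOf p (Subgroup.normalClosure (Cfsg.pResidualOf p P : Set G))).Normal]
    (he : (Subgroup.normalClosure (Cfsg.pResidualOf p P : Set G)).map
        (QuotientGroup.mk' (Cfsg.pCoreOf p (Subgroup.normalClosure (Cfsg.pResidualOf p P : Set G)))) =
      (Cfsg.pResidualOf p P).map
        (QuotientGroup.mk' (Cfsg.pCoreOf p (Subgroup.normalClosure (Cfsg.pResidualOf p P : Set G))))) :
    Subgroup.normalClosure (Cfsg.pResidualOf p P : Set G) = Cfsg.pResidualOf p P := by
  set D := Cfsg.pResidualOf p P with hD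
  set Y := Subgroup.normalClosure (D : Set G) with hY
  set R := Cfsg.pCoreOf p Y with hRdef
  have hker : (QuotientGroup.mk' R).ker = R := QuotientGroup.ker_mk' R
  have hRS : R ≤ (S : Subgroup G) := pCoreOf_le_sylow_of_normal S Y
  apply normalClosure_pResidualOf_eq (R₀ := R) (pCoreOf_isPGroup p Y)
    (hRS.trans (h.hSP.trans (le_normalizer_pResidualOf P)))
  have h1 : Y ≤ (Y.map (QuotientGroup.mk' R)).comap (QuotientGroup.mk' R) := Subgroup.le_comap_map _ _
  rw [he, Subgroup.comap_map_eq, hker] at h1
  exact h1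

end Cfsg.Agent.Lib.Helper6.IsoMin
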