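import Mathlib
import Cfsg.Prelude.Def_IsolatedElements
import Cfsg.Agent.Lib.Helper6.SylowIdx

set_option autoImplicit false

namespace Cfsg.Agent.Lib.Helper6

open Cfsg

variable {G : Type*} [Group G]

/-- An isolated element of a finite `p`-subgroup is central in it. -/
theorem isolated_central_in_pGroup {p : ℕ} [Fact p.Prime] [Finite G] (R : Subgroup G)
    (hR : IsPGroup p R) (x : G) (hxR : x ∈ R) (hiso : IsIsolated x) : ∀ r ∈ R, r * x = x * r := by
  set C : Subgroup G := R ⊓ Subgroup.centralizer ({x} : Set G) with hC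
  have hCR : C ≤ R := inf_le_left
  by_cases hEq : C = R
  · intro r hr
    rw [← hEq] at hr
    have := Subgroup.mem_centralizer_iff.mp hr.2 x (Set.mem_singleton x)
    exact this.symm
  · exfalso
    have hlt : C < R := lt_of_le_of_ne hCR hEq
    obtain ⟨n, hnR, hnC, hnN⟩ := exists_mem_normalizer_not_mem hlt hR
    have hxC : x ∈ C := Subgroup.mem_inf.mpr ⟨hxR, Subgroup.mem_centralizer_singleton_iff.mpr rfl⟩
    -- n⁻¹ x n ∈ C, so commutes with x
    have h1 : n⁻¹ * x * n ∈ C := by
      have := (Subgroup.mem_normalizer_iff.mp (Subgroup.inv_mem _ hnN) x).mp hxC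
      simpa using this
    have h2 : x * (n⁻¹ * x * n) = (n⁻¹ * x * n) * x :=
      Subgroup.mem_centralizer_iff.mp h1.2 x (Set.mem_singleton x)
    have h3 : Commute x (n * x * n⁻¹) := by
      show x * (n * x * n⁻¹) = n * x * n⁻¹ * x
      have : n * (x * (n⁻¹ * x * n)) * n⁻¹ = n * ((n⁻¹ * x * n) * x) * n⁻¹ := by rw [h2]
      have e1 : n * (x * (n⁻¹ * x * n)) * n⁻¹ = (n * x * n⁻¹) * x := by group
      have e2 : n * ((n⁻¹ * x * n) * x) * n⁻¹ = x * (n * x * n⁻¹) := by group
      rw [e1, e2] at this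
      exact this.symm
    have h4 := hiso n h3
    apply hnC
    refine Subgroup.mem_inf.mpr ⟨hnR, Subgroup.mem_centralizer_singleton_iff.mpr ?_⟩
    calc n * x = (n * x * n⁻¹) * n := by group
      _ = x * n := by rw [h4]

/-- If `x` is isolated of `p`-power order and lies in the `p`-subgroup `P`, then any conjugate of a power
of `x` that lies in `P` equals that power. -/
theorem isolated_conj_pow_eq {p : ℕ} [Fact p.Prime] [Finite G] (P : Subgroup G) (hP : IsPGroup p P)
    (x : G) (hxP : x ∈ P) (hx : ∃ k : ℕ, orderOf x = p ^ k) (hiso : IsIsolated x) (g : G) (k : ℕ)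
    (hy : g * x ^ k * g⁻¹ ∈ P) : g * x ^ k * g⁻¹ = x ^ k := by
  set y := g * x ^ k * g⁻¹ with hydef
  set z := g * x * g⁻¹ with hzdef
  have hzy : z ^ k = y := by rw [hzdef, hydef, conj_pow]
  set K : Subgroup G := Subgroup.centralizer ({y} : Set G) with hK
  have hxK : x ∈ K := by
    rw [hK, Subgroup.mem_centralizer_iff]
    intro w hw
    rw [Set.mem_singleton_iff] at hw
    subst hw
    exact isolated_central_in_pGroup P hP x hxP hiso _ hy
  have hzK : z ∈ K := by
    rw [hK, Subgroup.mem_centralizer_iff]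
    intro w hw
    rw [Set.mem_singleton_iff] at hw
    subst hw
    rw [← hzy, ← pow_succ, ← pow_succ']
  have hzord : ∃ k : ℕ, orderOf z = p ^ k := by
    obtain ⟨j, hj⟩ := hx
    refine ⟨j, ?_⟩
    rw [hzdef, ← hj]
    have : g * x * g⁻¹ = MulAut.conj g x := by simp [MulAut.conj_apply]
    rw [this, MulEquiv.orderOf_eq]
  obtain ⟨c, hcK, R, _, hRp, hAR, hBR⟩ := exists_common_pGroup K (Subgroup.zpowers x) (Subgroup.zpowers z)
    (by rw [Subgroup.zpowers_le]; exact hxK) (by rw [Subgroup.zpowers_le]; exact hzK)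
    (isPGroup_zpowers_of_orderOf hx) (isPGroup_zpowers_of_orderOf hzord)
  have hxR : x ∈ R := hAR (Subgroup.mem_zpowers x)
  have hczR : c * z * c⁻¹ ∈ R := hBR ⟨z, Subgroup.mem_zpowers z, by simp [MulAut.conj_apply]⟩
  have h1 := isolated_central_in_pGroup R hRp x hxR hiso _ hczR
  have h2 : c * z * c⁻¹ = (c * g) * x * (c * g)⁻¹ := by rw [hzdef]; group
  have h3 : Commute x ((c * g) * x * (c * g)⁻¹) := by
    rw [← h2]; exact h1.symm
  have h4 := hiso (c * g) h3
  rw [← h2] at h4
  -- z = c⁻¹ x c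
  have h5 : c * y * c⁻¹ = x ^ k := by
    rw [← hzy, ← conj_pow, h4]
  have h6 : c * y = y * c := by
    have := Subgroup.mem_centralizer_iff.mp hcK y (Set.mem_singleton y)
    exact this.symm
  rw [← h5, h6]; group

end Cfsg.Agent.Lib.Helper6
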