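import Mathlib
import Cfsg.Prelude.Def_LocalStructure
import Cfsg.Agent.Lib.Helper6.Conj2
import Cfsg.Agent.Lib.Helper6.SylowIdx
import Cfsg.Agent.Lib.Helper6.Amalgam4

set_option autoImplicit false

namespace Cfsg.Agent.Lib.Helper6

open Cfsg
open scoped commutatorElement

variable {G : Type*} [Group G]

local notation "cj[" g "]" Q:max => Subgroup.map (MulEquiv.toMonoidHom (MulAut.conj g)) Q

theorem map_conj_injective (g : G) {A B : Subgroup G} (h : cj[g] A = cj[g] B) : A = B :=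
  Subgroup.map_injective (MulAut.conj g).injective h

theorem map_conj_inv_map_conj (S : Subgroup G) (g : G) : cj[g⁻¹] (cj[g] S) = S := by
  rw [map_conj_map_conj, inv_mul_cancel, map_conj_one]

theorem map_conj_map_conj_inv (S : Subgroup G) (g : G) : cj[g] (cj[g⁻¹] S) = S := by
  rw [map_conj_map_conj, mul_inv_cancel, map_conj_one]

theorem isPGroup_map_conj {p : ℕ} {S : Subgroup G} (hS : IsPGroup p S) (g : G) :
    IsPGroup p (cj[g] S) := hS.map _

/-- (W1) a weakly closed subgroup is the only conjugate of itself in any `p`-subgroup containing it -/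
theorem IsWeaklyClosedSubgroup_unique [Finite G] {p : ℕ} [Fact p.Prime] {Q : Subgroup G}
    (hwc : IsWeaklyClosedSubgroup p Q) {S : Subgroup G} (hS : IsPGroup p S) (hQS : Q ≤ S)
    {g : G} (hg : cj[g] Q ≤ S) : cj[g] Q = Q := by
  obtain ⟨T, hQT, hT⟩ := hwc
  obtain ⟨h, hh⟩ := exists_map_conj_le_sylow T hS
  have h1 : cj[h] Q = Q := hT h ((Subgroup.map_mono hQS).trans hh)
  have h2 : cj[h * g] Q = Q := by
    apply hT
    rw [← map_conj_map_conj]
    exact (Subgroup.map_mono hg).trans hh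
  apply map_conj_injective h
  rw [map_conj_map_conj, h2, h1]

theorem isWeaklyClosedSubgroup_of_unique [Finite G] {p : ℕ} [Fact p.Prime] {Q : Subgroup G}
    (hQ : IsPGroup p Q)
    (h : ∀ S : Subgroup G, IsPGroup p S → Q ≤ S → ∀ g : G, cj[g] Q ≤ S → cj[g] Q = Q) :
    IsWeaklyClosedSubgroup p Q := by
  obtain ⟨T, hT⟩ := hQ.exists_le_sylow
  exact ⟨T, hT, fun g hg => h T T.isPGroup' hT g hg⟩

/-- (W2 →) -/
theorem IsWeaklyClosedSubgroup_normalizer_le [Finite G] {p : ℕ} [Fact p.Prime] {Q : Subgroup G}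
    (hwc : IsWeaklyClosedSubgroup p Q) {R : Subgroup G} (hR : IsPGroup p R) (hQR : Q ≤ R) :
    Subgroup.normalizer (R : Set G) ≤ Subgroup.normalizer (Q : Set G) := by
  intro x hx
  apply mem_normalizer_of_map_conj_eq_self
  apply IsWeaklyClosedSubgroup_unique hwc hR hQR
  rw [← map_conj_eq_self_of_mem_normalizer hx]
  exact Subgroup.map_mono hQR

theorem IsWeaklyClosedSubgroup_le_normalizer [Finite G] {p : ℕ} [Fact p.Prime] {Q : Subgroup G}
    (hwc : IsWeaklyClosedSubgroup p Q) {R : Subgroup G} (hR : IsPGroup p R) (hQR : Q ≤ R) :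
    R ≤ Subgroup.normalizer (Q : Set G) :=
  Subgroup.le_normalizer.trans (IsWeaklyClosedSubgroup_normalizer_le hwc hR hQR)

/-- (W2 ←) -/
theorem isWeaklyClosedSubgroup_of_normalizer_le [Finite G] {p : ℕ} [Fact p.Prime] {Q : Subgroup G}
    (hQ : IsPGroup p Q)
    (h : ∀ R : Subgroup G, IsPGroup p R → Q ≤ R →
      Subgroup.normalizer (R : Set G) ≤ Subgroup.normalizer (Q : Set G)) :
    IsWeaklyClosedSubgroup p Q := by
  obtain ⟨T, hQT⟩ := hQ.exists_le_sylow
  refine ⟨T, hQT, ?_⟩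
  intro g hg
  -- conjugated hypothesis
  have h' : ∀ R : Subgroup G, IsPGroup p R → cj[g] Q ≤ R →
      Subgroup.normalizer (R : Set G) ≤ Subgroup.normalizer ((cj[g] Q : Subgroup G) : Set G) := by
    intro R hR hQR
    have h1 : Q ≤ cj[g⁻¹] R := by
      have := Subgroup.map_mono (f := (MulAut.conj g⁻¹).toMonoidHom) hQR
      rwa [map_conj_inv_map_conj] at this
    have h2 := h _ (isPGroup_map_conj hR g⁻¹) h1
    have h3 := Subgroup.map_mono (f := (MulAut.conj g).toMonoidHom) h2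
    rwa [normalizer_map_conj, normalizer_map_conj, map_conj_map_conj_inv] at h3
  set N := Subgroup.normalizer ((cj[g] Q : Subgroup G) : Set G) with hN
  have hTN : (T : Subgroup G) ≤ N := Subgroup.le_normalizer.trans (h' T T.isPGroup' hg)
  have hTgN : cj[g] (T : Subgroup G) ≤ N :=
    Subgroup.le_normalizer.trans (h' _ (isPGroup_map_conj T.isPGroup' g) (Subgroup.map_mono hQT))
  obtain ⟨c, hcN, R, _, hRp, hTR, hcR⟩ := exists_common_pGroup N (T : Subgroup G)
    (cj[g] (T : Subgroup G)) hTN hTgN T.isPGroup' (isPGroup_map_conj T.isPGroup' g)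
  have hRT : R = T := T.is_maximal' hRp hTR
  rw [hRT, map_conj_map_conj] at hcR
  have h4 : c * g ∈ Subgroup.normalizer (((T : Subgroup G)) : Set G) :=
    mem_normalizer_of_map_conj_le hcR
  have h5 : c * g ∈ Subgroup.normalizer (Q : Set G) := h T T.isPGroup' hQT h4
  have h6 : cj[c * g] Q = Q := map_conj_eq_self_of_mem_normalizer h5
  rw [← map_conj_map_conj, map_conj_eq_self_of_mem_normalizer hcN] at h6
  exact h6

/-- sublemma for (W3 ←): `Q` is normal in every `p`-subgroup containing it -/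
theorem le_normalizer_of_commutator_condition [Finite G] {p : ℕ} [Fact p.Prime] {Q : Subgroup G}
    (h : ∀ g : G, ⁅Q, cj[g] Q⁆ ≤ Q ⊓ cj[g] Q → cj[g] Q = Q)
    {S : Subgroup G} (hS : IsPGroup p S) (hQS : Q ≤ S) :
    S ≤ Subgroup.normalizer (Q : Set G) := by
  set K := Subgroup.normalizer (Q : Set G) ⊓ S with hK
  have hQK : Q ≤ K := le_inf Subgroup.le_normalizer hQS
  by_contra hcon
  have hlt : K < S := by
    apply lt_of_le_of_ne inf_le_right
    intro heq
    apply hcon
    rw [← heq]; exact inf_le_left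
  obtain ⟨t, htS, htK, htN⟩ := exists_mem_normalizer_not_mem hlt hS
  have hKt : cj[t] K = K := map_conj_eq_self_of_mem_normalizer htN
  have h1 : cj[t] Q ≤ K := by rw [← hKt]; exact Subgroup.map_mono hQK
  have h2 : ⁅Q, cj[t] Q⁆ ≤ Q :=
    Subgroup.le_normalizer_iff_commutator_le_left.mp (h1.trans inf_le_left)
  have h3 : Q ≤ Subgroup.normalizer ((cj[t] Q : Subgroup G) : Set G) := by
    have : K ≤ Subgroup.normalizer ((cj[t] Q : Subgroup G) : Set G) := by
      rw [← normalizer_map_conj]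
      nth_rewrite 1 [← hKt]
      exact Subgroup.map_mono inf_le_left
    exact hQK.trans this
  have h4 : ⁅Q, cj[t] Q⁆ ≤ cj[t] Q := Subgroup.le_normalizer_iff_commutator_le_right.mp h3
  have h5 := h t (le_inf h2 h4)
  exact htK ⟨mem_normalizer_of_map_conj_eq_self h5, htS⟩

/-- (W3 ←) -/
theorem isWeaklyClosedSubgroup_of_commutator_condition [Finite G] {p : ℕ} [Fact p.Prime]
    {Q : Subgroup G} (hQ : IsPGroup p Q)
    (h : ∀ g : G, ⁅Q, cj[g] Q⁆ ≤ Q ⊓ cj[g] Q → cj[g] Q = Q) :
    IsWeaklyClosedSubgroup p Q := by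
  obtain ⟨T, hQT⟩ := hQ.exists_le_sylow
  refine ⟨T, hQT, ?_⟩
  intro g hg
  have h1 : (T : Subgroup G) ≤ Subgroup.normalizer (Q : Set G) :=
    le_normalizer_of_commutator_condition h T.isPGroup' hQT
  have h2 : (T : Subgroup G) ≤ Subgroup.normalizer ((cj[g] Q : Subgroup G) : Set G) := by
    have h3 : Q ≤ cj[g⁻¹] (T : Subgroup G) := by
      have := Subgroup.map_mono (f := (MulAut.conj g⁻¹).toMonoidHom) hg
      rwa [map_conj_inv_map_conj] at this
    have h4 := le_normalizer_of_commutator_condition h (isPGroup_map_conj T.isPGroup' g⁻¹) h3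
    have h5 := Subgroup.map_mono (f := (MulAut.conj g).toMonoidHom) h4
    rwa [normalizer_map_conj, map_conj_map_conj_inv] at h5
  apply h g
  apply le_inf
  · exact Subgroup.le_normalizer_iff_commutator_le_left.mp (hg.trans h1)
  · exact Subgroup.le_normalizer_iff_commutator_le_right.mp (hQT.trans h2)

/-- (W3 →) -/
theorem IsWeaklyClosedSubgroup_commutator_condition [Finite G] {p : ℕ} [Fact p.Prime]
    {Q : Subgroup G} (hQ : IsPGroup p Q) (hwc : IsWeaklyClosedSubgroup p Q) (g : G)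
    (h : ⁅Q, cj[g] Q⁆ ≤ Q ⊓ cj[g] Q) : cj[g] Q = Q := by
  have h1 : cj[g] Q ≤ Subgroup.normalizer (Q : Set G) :=
    Subgroup.le_normalizer_iff_commutator_le_left.mpr (h.trans inf_le_left)
  have h2 : IsPGroup p (Q ⊔ cj[g] Q : Subgroup G) :=
    IsPGroup.to_sup_of_normal_left' hQ (isPGroup_map_conj hQ g) h1
  exact IsWeaklyClosedSubgroup_unique hwc h2 le_sup_left le_sup_right

theorem map_map_conj_comm {H : Type*} [Group H] (f : G →* H) (Q : Subgroup G) (g : G) :
    (cj[g] Q).map f = Subgroup.map (MulEquiv.toMonoidHom (MulAut.conj (f g))) (Q.map f) := by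
  rw [Subgroup.map_map, Subgroup.map_map]
  congr 1
  ext x
  simp [MulAut.conj_apply]

theorem map_subtype_map_conj (K : Subgroup G) (A : Subgroup K) (k : K) :
    (Subgroup.map (MulEquiv.toMonoidHom (MulAut.conj k)) A).map K.subtype =
      cj[(k : G)] (A.map K.subtype) :=
  map_map_conj_comm K.subtype A k

/-- conjugates of a weakly closed subgroup inside `K` are `K`-conjugate -/
theorem IsWeaklyClosedSubgroup_exists_conj_in [Finite G] {p : ℕ} [Fact p.Prime] {Q : Subgroup G}
    (hQ : IsPGroup p Q) (hwc : IsWeaklyClosedSubgroup p Q) {K : Subgroup G} (hQK : Q ≤ K)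
    {g : G} (hg : cj[g] Q ≤ K) : ∃ k ∈ K, cj[g] Q = cj[k] Q := by
  obtain ⟨c, hcK, R, _, hRp, hQR, hcR⟩ := exists_common_pGroup K Q (cj[g] Q) hQK hg hQ
    (isPGroup_map_conj hQ g)
  rw [map_conj_map_conj] at hcR
  have h1 : cj[c * g] Q = Q := IsWeaklyClosedSubgroup_unique hwc hRp hQR hcR
  refine ⟨c⁻¹, K.inv_mem hcK, ?_⟩
  apply map_conj_injective c
  rw [map_conj_map_conj, h1, map_conj_map_conj_inv]

theorem IsWeaklyClosedSubgroup_subgroupOf [Finite G] {p : ℕ} [Fact p.Prime] {Q : Subgroup G}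
    (hQ : IsPGroup p Q) (hwc : IsWeaklyClosedSubgroup p Q) {K : Subgroup G} (hQK : Q ≤ K) :
    IsWeaklyClosedSubgroup p (Q.subgroupOf K) := by
  obtain ⟨TK, hTK⟩ := (hQ.comap_subtype (K := K)).exists_le_sylow
  refine ⟨TK, hTK, ?_⟩
  intro k hk
  have hS : IsPGroup p ((TK : Subgroup K).map K.subtype) := TK.isPGroup'.map _
  have hQS : Q ≤ (TK : Subgroup K).map K.subtype := by
    rw [← Subgroup.map_subgroupOf_eq_of_le hQK]; exact Subgroup.map_mono hTK
  have h1 : cj[(k : G)] Q ≤ (TK : Subgroup K).map K.subtype := by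
    have := Subgroup.map_mono (f := K.subtype) hk
    rwa [map_subtype_map_conj, Subgroup.map_subgroupOf_eq_of_le hQK] at this
  have h2 := IsWeaklyClosedSubgroup_unique hwc hS hQS h1
  apply Subgroup.map_injective K.subtype_injective
  rw [map_subtype_map_conj, Subgroup.map_subgroupOf_eq_of_le hQK, h2]

theorem IsWeaklyClosedSubgroup_isParabolic_normalizer [Finite G] {p : ℕ} [Fact p.Prime]
    {Q : Subgroup G} (hQ : IsPGroup p Q) (hwc : IsWeaklyClosedSubgroup p Q) {K : Subgroup G}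
    (hQK : Q ≤ K) : IsParabolic p ((Subgroup.normalizer (Q : Set G)).subgroupOf K) := by
  obtain ⟨TK, hTK⟩ := (hQ.comap_subtype (K := K)).exists_le_sylow
  refine ⟨TK, ?_⟩
  have hS : IsPGroup p ((TK : Subgroup K).map K.subtype) := TK.isPGroup'.map _
  have hQS : Q ≤ (TK : Subgroup K).map K.subtype := by
    rw [← Subgroup.map_subgroupOf_eq_of_le hQK]; exact Subgroup.map_mono hTK
  intro t ht
  rw [Subgroup.mem_subgroupOf]
  exact IsWeaklyClosedSubgroup_le_normalizer hwc hS hQS ⟨t, ht, rfl⟩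

theorem IsWeaklyClosedSubgroup_map_mk [Finite G] {p : ℕ} [Fact p.Prime] {Q : Subgroup G}
    (hQ : IsPGroup p Q) (hwc : IsWeaklyClosedSubgroup p Q) (N : Subgroup G) [N.Normal] :
    IsWeaklyClosedSubgroup p (Q.map (QuotientGroup.mk' N)) := by
  obtain ⟨T, hQT, hT⟩ := hwc
  have hsurj := QuotientGroup.mk'_surjective N
  refine ⟨T.mapSurjective hsurj, ?_, ?_⟩
  · rw [Sylow.coe_mapSurjective]; exact Subgroup.map_mono hQT
  · intro gbar hgbar
    obtain ⟨g, rfl⟩ := hsurj gbar
    rw [Sylow.coe_mapSurjective, ← map_map_conj_comm] at hgbar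
    have h1 : cj[g] Q ≤ (T : Subgroup G) ⊔ N := by
      have := Subgroup.comap_mono (f := QuotientGroup.mk' N) hgbar
      rw [Subgroup.comap_map_eq, Subgroup.comap_map_eq, QuotientGroup.ker_mk'] at this
      exact le_sup_left.trans this
    obtain ⟨c, hc, R, hRle, hRp, hTR, hcR⟩ := exists_common_pGroup ((T : Subgroup G) ⊔ N)
      (T : Subgroup G) (cj[g] Q) le_sup_left h1 T.isPGroup' (isPGroup_map_conj hQ g)
    have hRT : R = T := T.is_maximal' hRp hTR
    rw [hRT, map_conj_map_conj] at hcR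
    have h2 : cj[c * g] Q = Q := hT _ hcR
    obtain ⟨t, ht, m, hm, rfl⟩ := Subgroup.mem_sup_of_normal_right.mp hc
    have h3 : cj[g] Q = cj[(t * m)⁻¹] Q := by
      apply map_conj_injective (t * m)
      rw [map_conj_map_conj, h2, map_conj_map_conj_inv]
    rw [← map_map_conj_comm, h3, map_map_conj_comm]
    have h4 : (QuotientGroup.mk' N) (t * m)⁻¹ = (QuotientGroup.mk' N) t⁻¹ := by
      rw [map_inv, map_inv, map_mul]
      have : (QuotientGroup.mk' N) m = 1 := (QuotientGroup.eq_one_iff m).mpr hm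
      rw [this, mul_one]
    rw [h4, ← map_map_conj_comm]
    have h5 : cj[t⁻¹] Q = Q := by
      apply hT
      rintro _ ⟨q, hq, rfl⟩
      simp only [MulEquiv.coe_toMonoidHom, MulAut.conj_apply]
      exact (T : Subgroup G).mul_mem ((T : Subgroup G).mul_mem ((T : Subgroup G).inv_mem ht)
        (hQT hq)) (by simpa using ht)
    rw [h5]

end Cfsg.Agent.Lib.Helper6
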