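import Mathlib
import Cfsg.Prelude.Def_LocalStructure
import Cfsg.Agent.Lib.Helper6.WeakCl
import Cfsg.Agent.Lib.Helper6.Subn
import Cfsg.Agent.Lib.Helper6.StrEmb2

set_option autoImplicit false

namespace Cfsg.Agent.Lib.Helper6

open Cfsg
open scoped commutatorElement

variable {G : Type*} [Group G]

local notation "cj[" g "]" Q:max => Subgroup.map (MulEquiv.toMonoidHom (MulAut.conj g)) Q

theorem pResSub_normal_of_normal (p : ℕ) (N : Subgroup G) [hN : N.Normal] :
    (pResSub p N).Normal := by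
  constructor
  intro n hn g
  have h2 := pResSub_map_conj p N g
  rw [map_conj_eq_self_of_normal N g] at h2
  rw [← h2]
  exact ⟨n, hn, by simp [MulAut.conj_apply]⟩

/-- for `n ∈ N`, some `p`-power of `n` lies in `O^p(N)` -/
theorem exists_pow_mem_pResSub [Finite G] {p : ℕ} [Fact p.Prime] (N : Subgroup G) {n : G}
    (hn : n ∈ N) : ∃ k : ℕ, n ^ p ^ k ∈ pResSub p N := by
  obtain ⟨k, hk⟩ := isPGroup_quotient_pResidual (G := N) p (QuotientGroup.mk ⟨n, hn⟩)
  refine ⟨k, ?_⟩
  rw [← QuotientGroup.mk_pow, QuotientGroup.eq_one_iff] at hk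
  rw [← pResSub_eq]
  exact ⟨_, hk, by simp⟩

/-- `N = N_N(Q) O^p(N)` for a weakly closed `p`-subgroup `Q` and a normal subgroup `N`. -/
theorem IsWeaklyClosedSubgroup_normal_factor [Finite G] {p : ℕ} [Fact p.Prime] {Q : Subgroup G}
    (hQ : IsPGroup p Q) (hwc : IsWeaklyClosedSubgroup p Q) (N : Subgroup G) [hN : N.Normal] :
    (N ⊓ Subgroup.normalizer (Q : Set G)) ⊔ pResSub p N = N := by
  apply le_antisymm (sup_le inf_le_left (pResSub_le p N))
  set R := pResSub p N with hR
  haveI hRn : R.Normal := pResSub_normal_of_normal p N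
  have hRN : R ≤ N := pResSub_le p N
  set π := QuotientGroup.mk' R with hπ
  have hwc' : IsWeaklyClosedSubgroup p (Q.map π) := IsWeaklyClosedSubgroup_map_mk hQ hwc R
  have hNp : IsPGroup p (N.map π) := by
    rintro ⟨_, ⟨n, hn, rfl⟩⟩
    obtain ⟨k, hk⟩ := exists_pow_mem_pResSub (p := p) N hn
    refine ⟨k, Subtype.ext ?_⟩
    simp only [Subgroup.coe_pow, Subgroup.coe_one]
    rw [← map_pow]
    exact (QuotientGroup.eq_one_iff _).mpr hk
  haveI : (N.map π).Normal := Subgroup.Normal.map hN π (QuotientGroup.mk'_surjective R)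
  have hXp : IsPGroup p (Q.map π ⊔ N.map π : Subgroup (G ⧸ R)) :=
    IsPGroup.to_sup_of_normal_right (hQ.map π) hNp
  have hXN := IsWeaklyClosedSubgroup_le_normalizer hwc' hXp le_sup_left
  intro n hn
  -- Q^n ≤ Q ⊔ R
  have h1 : cj[n] Q ≤ Q ⊔ R := by
    have h2 : π n ∈ Subgroup.normalizer ((Q.map π : Subgroup (G ⧸ R)) : Set (G ⧸ R)) :=
      hXN (Subgroup.mem_sup_right ⟨n, hn, rfl⟩)
    have h3 := map_conj_eq_self_of_mem_normalizer h2
    rw [← map_map_conj_comm] at h3
    have h4 : cj[n] Q ≤ ((cj[n] Q).map π).comap π := Subgroup.le_comap_map _ _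
    rw [h3, Subgroup.comap_map_eq, QuotientGroup.ker_mk'] at h4
    exact h4
  obtain ⟨c, hc, S, _, hSp, hQS, hcS⟩ := exists_common_pGroup (Q ⊔ R) Q (cj[n] Q) le_sup_left h1
    hQ (isPGroup_map_conj hQ n)
  rw [map_conj_map_conj] at hcS
  have h5 : cj[c * n] Q = Q := IsWeaklyClosedSubgroup_unique hwc hSp hQS hcS
  have h6 : c * n ∈ Subgroup.normalizer (Q : Set G) := mem_normalizer_of_map_conj_eq_self h5
  obtain ⟨q, hq, r, hr, rfl⟩ := Subgroup.mem_sup_of_normal_right.mp hc
  have h7 : r * n ∈ Subgroup.normalizer (Q : Set G) := by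
    have : r * n = q⁻¹ * (q * r * n) := by group
    rw [this]
    exact Subgroup.mul_mem _ (Subgroup.inv_mem _ (Subgroup.le_normalizer hq)) h6
  have h8 : n = r⁻¹ * (r * n) := by group
  rw [h8]
  exact Subgroup.mul_mem _ (Subgroup.mem_sup_right (R.inv_mem hr))
    (Subgroup.mem_sup_left ⟨N.mul_mem (hRN hr) hn, h7⟩)

/-- every conjugate of a weakly closed `p`-subgroup `Q` lies in every subnormal subgroup
containing `Q` -/
theorem IsWeaklyClosedSubgroup_conj_le_of_isSubnormal [Finite G] {p : ℕ} [Fact p.Prime]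
    {Q : Subgroup G} (hQ : IsPGroup p Q) (hwc : IsWeaklyClosedSubgroup p Q) {S : Subgroup G}
    (hS : S.IsSubnormal) (hQS : Q ≤ S) (g : G) : cj[g] Q ≤ S := by
  induction hS with
  | top => exact le_top
  | step S S' hle _ hN ih =>
    have h1 : cj[g] Q ≤ S' := ih (hQS.trans hle)
    obtain ⟨s, hs, hgs⟩ := IsWeaklyClosedSubgroup_exists_conj_in hQ hwc (hQS.trans hle) h1
    rw [hgs]
    have h2 : S' ≤ Subgroup.normalizer (S : Set G) :=
      (Subgroup.normal_subgroupOf_iff_le_normalizer hle).mp hN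
    rw [← map_conj_eq_self_of_mem_normalizer (h2 hs)]
    exact Subgroup.map_mono hQS

/-- A Sylow `p`-subgroup `P` of a subgroup `C` normalized by `K ≥ P` is a weakly closed
subgroup of `K`. -/
theorem isWeaklyClosedSubgroup_subgroupOf_of_isSylowOf [Finite G] {p : ℕ} [Fact p.Prime]
    {C P K : Subgroup G} (hP : IsSylowOf p C P) (hKC : K ≤ Subgroup.normalizer (C : Set G))
    (hPK : P ≤ K) : IsWeaklyClosedSubgroup p (P.subgroupOf K) := by
  apply isWeaklyClosedSubgroup_of_unique (hP.2.1.comap_subtype (K := K))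
  intro S' hS' hPS' k hk
  have e : (Subgroup.comap K.subtype P).map K.subtype = P :=
    Subgroup.map_subgroupOf_eq_of_le hPK
  have hS'' : IsPGroup p (S'.map K.subtype) := hS'.map _
  have hPS'' : P ≤ S'.map K.subtype := by
    rw [← e]; exact Subgroup.map_mono hPS'
  have h1 : cj[(k : G)] P ≤ S'.map K.subtype := by
    have := Subgroup.map_mono (f := K.subtype) hk
    rwa [map_subtype_map_conj, e] at this
  have h2 : cj[(k : G)] P ≤ C := by
    rw [← map_conj_eq_self_of_mem_normalizer (hKC k.2)]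
    exact Subgroup.map_mono hP.1
  have h3 : S'.map K.subtype ⊓ C = P :=
    hP.2.2 _ (hS''.to_le inf_le_left) inf_le_right (le_inf hPS'' hP.1)
  have h4 : cj[(k : G)] P = P := by
    apply map_conj_eq_self_of_le
    have := le_inf h1 h2
    rwa [h3] at this
  apply Subgroup.map_injective K.subtype_injective
  rw [map_subtype_map_conj, e, h4]

end Cfsg.Agent.Lib.Helper6
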