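import Mathlib
import Cfsg.Prelude.Def_LocalStructure
import Cfsg.Agent.Lib.Helper6.WeakCl2
import Cfsg.Agent.Lib.Helper6.Amalgam2

set_option autoImplicit false

namespace Cfsg.Agent.Lib.Helper6

open Cfsg
open scoped commutatorElement

variable {G : Type*} [Group G]

local notation "cj[" g "]" Q:max => Subgroup.map (MulEquiv.toMonoidHom (MulAut.conj g)) Q

/-- the centre `R ∩ C(R)` of a nontrivial finite `p`-subgroup is nontrivial -/
theorem inf_centralizer_ne_bot_of_isPGroup [Finite G] {p : ℕ} [Fact p.Prime] {R : Subgroup G}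
    (hR : IsPGroup p R) (hR1 : R ≠ ⊥) : R ⊓ Subgroup.centralizer (R : Set G) ≠ ⊥ := by
  haveI : Nontrivial R := (Subgroup.nontrivial_iff_ne_bot R).mpr hR1
  haveI := hR.center_nontrivial
  obtain ⟨z, hz⟩ := exists_ne (1 : Subgroup.center R)
  intro hbot
  apply hz
  have h1 : ((z : R) : G) ∈ R ⊓ Subgroup.centralizer (R : Set G) := by
    refine ⟨(z : R).2, ?_⟩
    show ((z : R) : G) ∈ Subgroup.centralizer (R : Set G)
    rw [Subgroup.mem_centralizer_iff]
    intro r hr
    have := Subgroup.mem_center_iff.mp z.2 ⟨r, hr⟩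
    exact congrArg Subtype.val this
  rw [hbot, Subgroup.mem_bot] at h1
  apply Subtype.ext
  apply Subtype.ext
  exact h1

theorem normalizer_le_normalizer_inf_centralizer (R : Subgroup G) :
    Subgroup.normalizer (R : Set G) ≤
      Subgroup.normalizer ((R ⊓ Subgroup.centralizer (R : Set G) : Subgroup G) : Set G) := by
  intro x hx
  apply mem_normalizer_of_map_conj_eq_self
  rw [Subgroup.map_inf_eq _ _ _ (MulAut.conj x).injective, centralizer_map_conj,
    map_conj_eq_self_of_mem_normalizer hx]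

theorem isLarge_map_conj {Q : Subgroup G} (hL : IsLarge Q) (g : G) : IsLarge (cj[g] Q) := by
  obtain ⟨h1, h2⟩ := hL
  constructor
  · rw [← centralizer_map_conj]; exact Subgroup.map_mono h1
  · intro U hU hU1
    have hU' : cj[g⁻¹] U ≤ Subgroup.centralizer (Q : Set G) := by
      have := Subgroup.map_mono (f := (MulAut.conj g⁻¹).toMonoidHom) hU
      rwa [← centralizer_map_conj, map_conj_inv_map_conj] at this
    have hU1' : cj[g⁻¹] U ≠ ⊥ := by
      intro h
      apply hU1
      have := congrArg (fun S => cj[g] S) h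
      simp only [map_conj_map_conj_inv, Subgroup.map_bot] at this
      exact this
    have h3 := h2 _ hU' hU1'
    have h4 := Subgroup.map_mono (f := (MulAut.conj g).toMonoidHom) h3
    rwa [normalizer_map_conj, normalizer_map_conj, map_conj_map_conj_inv] at h4

/-- a nontrivial large `p`-subgroup is weakly closed -/
theorem isWeaklyClosedSubgroup_of_isLarge [Finite G] {p : ℕ} [Fact p.Prime] {Q : Subgroup G}
    (hQ : IsPGroup p Q) (hQ1 : Q ≠ ⊥) (hL : IsLarge Q) : IsWeaklyClosedSubgroup p Q := by
  apply isWeaklyClosedSubgroup_of_normalizer_le hQ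
  intro R hR hQR
  have hR1 : R ≠ ⊥ := fun h => hQ1 (le_bot_iff.mp (h ▸ hQR))
  have h1 := inf_centralizer_ne_bot_of_isPGroup hR hR1
  have h2 : R ⊓ Subgroup.centralizer (R : Set G) ≤ Subgroup.centralizer (Q : Set G) :=
    inf_le_right.trans (Subgroup.centralizer_le (fun x hx => hQR hx))
  exact (normalizer_le_normalizer_inf_centralizer R).trans (hL.2 _ h2 h1)

/-- for a large `p`-subgroup, `C(Q) ∩ C(Q^g) = 1` unless `g` normalizes `Q` -/
theorem isLarge_centralizer_inf_eq_bot [Finite G] {p : ℕ} [Fact p.Prime] {Q : Subgroup G}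
    (hQ : IsPGroup p Q) (hQ1 : Q ≠ ⊥) (hL : IsLarge Q) {g : G}
    (hg : g ∉ Subgroup.normalizer (Q : Set G)) :
    Subgroup.centralizer (Q : Set G) ⊓ Subgroup.centralizer ((cj[g] Q : Subgroup G) : Set G) = ⊥ := by
  by_contra hU1
  set U := Subgroup.centralizer (Q : Set G) ⊓ Subgroup.centralizer ((cj[g] Q : Subgroup G) : Set G)
    with hU
  have h1 : Subgroup.normalizer (U : Set G) ≤ Subgroup.normalizer (Q : Set G) :=
    hL.2 U inf_le_left hU1
  -- Q^g centralizes U, hence normalizes U, hence normalizes Q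
  have h2 : cj[g] Q ≤ Subgroup.normalizer (U : Set G) := by
    intro x hx
    have hxc : x ∈ Subgroup.centralizer (U : Set G) := by
      rw [Subgroup.mem_centralizer_iff]
      intro u hu
      exact (Subgroup.mem_centralizer_iff.mp hu.2 x hx).symm
    exact Subgroup.centralizer_le_normalizer _ hxc
  have h3 : cj[g] Q ≤ Subgroup.normalizer (Q : Set G) := h2.trans h1
  have h4 : IsPGroup p (Q ⊔ cj[g] Q : Subgroup G) :=
    IsPGroup.to_sup_of_normal_left' hQ (isPGroup_map_conj hQ g) h3
  have hwc := isWeaklyClosedSubgroup_of_isLarge hQ hQ1 hL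
  have h5 := IsWeaklyClosedSubgroup_unique hwc h4 le_sup_left le_sup_right
  exact hg (mem_normalizer_of_map_conj_eq_self h5)

end Cfsg.Agent.Lib.Helper6
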