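import Mathlib
import Cfsg.Agent.Lib.Helper6.YL

set_option autoImplicit false

namespace Cfsg.Agent.Lib.Helper6

open Cfsg
open scoped Pointwise

variable {H : Type*} [Group H]

/-- `X` acts `p`-reducedly on `Y`. -/
def RedOn (p : ℕ) (Y X : Subgroup H) : Prop :=
  ∀ D : Subgroup H, D ≤ X → X ≤ Subgroup.normalizer (D : Set H) →
    (∀ d ∈ D, ∃ k : ℕ, d ^ p ^ k ∈ Subgroup.centralizer (Y : Set H)) →
      D ≤ Subgroup.centralizer (Y : Set H)

theorem isElementaryAbelian_subgroupOf_iff {p : ℕ} {Y X : Subgroup H} (hYX : Y ≤ X) :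
    IsElementaryAbelian p (Y.subgroupOf X) ↔ IsElementaryAbelian p Y := by
  constructor
  · rintro ⟨⟨⟨hc⟩⟩, hp⟩
    refine ⟨⟨⟨?_⟩⟩, ?_⟩
    · rintro ⟨a, ha⟩ ⟨b, hb⟩
      have := hc ⟨⟨a, hYX ha⟩, by rw [Subgroup.mem_subgroupOf]; exact ha⟩
        ⟨⟨b, hYX hb⟩, by rw [Subgroup.mem_subgroupOf]; exact hb⟩
      have h2 := congrArg Subtype.val (congrArg Subtype.val this)
      exact Subtype.ext h2
    · intro a ha
      have := hp ⟨a, hYX ha⟩ (by rw [Subgroup.mem_subgroupOf]; exact ha)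
      have := congrArg Subtype.val this
      simpa using this
  · rintro ⟨⟨⟨hc⟩⟩, hp⟩
    refine ⟨⟨⟨?_⟩⟩, ?_⟩
    · rintro ⟨a, ha⟩ ⟨b, hb⟩
      rw [Subgroup.mem_subgroupOf] at ha hb
      have := hc ⟨a, ha⟩ ⟨b, hb⟩
      have := congrArg Subtype.val this
      apply Subtype.ext
      apply Subtype.ext
      exact this
    · intro a ha
      rw [Subgroup.mem_subgroupOf] at ha
      have := hp a ha
      apply Subtype.ext
      simpa using this

theorem mem_centralizer_subgroupOf_iff {Y X : Subgroup H} (hYX : Y ≤ X) (x : X) :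
    x ∈ Subgroup.centralizer ((Y.subgroupOf X : Subgroup X) : Set X) ↔
      (x : H) ∈ Subgroup.centralizer (Y : Set H) := by
  rw [Subgroup.mem_centralizer_iff, Subgroup.mem_centralizer_iff]
  constructor
  · intro h y hy
    have := h ⟨y, hYX hy⟩ (by rw [SetLike.mem_coe, Subgroup.mem_subgroupOf]; exact hy)
    exact congrArg Subtype.val this
  · intro h y hy
    rw [SetLike.mem_coe, Subgroup.mem_subgroupOf] at hy
    exact Subtype.ext (h y hy)

theorem isPReducedNormal_subgroupOf_iff {p : ℕ} {Y X : Subgroup H} (hYX : Y ≤ X) :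
    IsPReducedNormal p (Y.subgroupOf X) ↔
      X ≤ Subgroup.normalizer (Y : Set H) ∧ IsElementaryAbelian p Y ∧ RedOn p Y X := by
  rw [isPReducedNormal_iff, Subgroup.normal_subgroupOf_iff_le_normalizer hYX,
    isElementaryAbelian_subgroupOf_iff hYX]
  refine and_congr_right (fun _ => and_congr_right (fun _ => ?_))
  constructor
  · intro h D hDX hXD hDp d hd
    have hn : (D.subgroupOf X).Normal :=
      (Subgroup.normal_subgroupOf_iff_le_normalizer hDX).mpr hXD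
    have := h (D.subgroupOf X) hn (by
      intro d' hd'
      rw [Subgroup.mem_subgroupOf] at hd'
      obtain ⟨k, hk⟩ := hDp d' hd'
      refine ⟨k, ?_⟩
      rw [mem_centralizer_subgroupOf_iff hYX]
      simpa using hk)
    have h2 := this (show (⟨d, hDX hd⟩ : X) ∈ D.subgroupOf X by
      rw [Subgroup.mem_subgroupOf]; exact hd)
    exact (mem_centralizer_subgroupOf_iff hYX _).mp h2
  · intro h D' hD'n hD'p d' hd'
    rw [mem_centralizer_subgroupOf_iff hYX]
    have hle : D'.map X.subtype ≤ X := by rintro _ ⟨y, _, rfl⟩; exact y.2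
    apply h (D'.map X.subtype) hle
    · rw [← Subgroup.normal_subgroupOf_iff_le_normalizer hle]
      have : (D'.map X.subtype).subgroupOf X = D' :=
        Subgroup.comap_map_eq_self_of_injective X.subtype_injective _
      rw [this]; exact hD'n
    · rintro _ ⟨y, hy, rfl⟩
      obtain ⟨k, hk⟩ := hD'p y hy
      refine ⟨k, ?_⟩
      rw [mem_centralizer_subgroupOf_iff hYX] at hk
      simpa using hk
    · exact ⟨d', hd', rfl⟩

theorem normalizer_le_normalizer_centralizer (Y : Subgroup H) :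
    Subgroup.normalizer (Y : Set H) ≤
      Subgroup.normalizer ((Subgroup.centralizer (Y : Set H) : Subgroup H) : Set H) := by
  intro g hg
  apply mem_normalizer_of_map_conj_eq_self
  rw [centralizer_map_conj, map_conj_eq_self_of_mem_normalizer hg]

theorem RedOn.of_sup_eq {p : ℕ} {Y X₁ X₂ : Subgroup H}
    (hX₁ : X₁ ≤ Subgroup.normalizer (Y : Set H)) (hX₂ : X₂ ≤ Subgroup.normalizer (Y : Set H))
    (h : X₁ ⊔ Subgroup.centralizer (Y : Set H) = X₂ ⊔ Subgroup.centralizer (Y : Set H))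
    (hR : RedOn p Y X₂) : RedOn p Y X₁ := by
  set C := Subgroup.centralizer (Y : Set H) with hC
  have hNC := normalizer_le_normalizer_centralizer Y
  have hconjC : ∀ x ∈ Subgroup.normalizer (Y : Set H), ∀ c ∈ C, x * c * x⁻¹ ∈ C :=
    fun x hx c hc => (Subgroup.mem_normalizer_iff.mp (hNC hx) c).mp hc
  have hconjC' : ∀ x ∈ Subgroup.normalizer (Y : Set H), ∀ c ∈ C, x⁻¹ * c * x ∈ C := by
    intro x hx c hc
    have := hconjC x⁻¹ (Subgroup.inv_mem _ hx) c hc
    simpa using this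
  intro D hDX hXD hDp
  have hDN : D ≤ Subgroup.normalizer (Y : Set H) := hDX.trans hX₁
  let E : Subgroup H :=
    { carrier := {m | m ∈ X₂ ∧ ∃ d ∈ D, d⁻¹ * m ∈ C}
      one_mem' := ⟨X₂.one_mem, 1, D.one_mem, by simp [C.one_mem]⟩
      mul_mem' := by
        rintro m₁ m₂ ⟨hm₁, d₁, hd₁, hc₁⟩ ⟨hm₂, d₂, hd₂, hc₂⟩
        refine ⟨X₂.mul_mem hm₁ hm₂, d₁ * d₂, D.mul_mem hd₁ hd₂, ?_⟩
        have e : (d₁ * d₂)⁻¹ * (m₁ * m₂) = (d₂⁻¹ * (d₁⁻¹ * m₁) * d₂) * (d₂⁻¹ * m₂) := by group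
        rw [e]
        exact C.mul_mem (hconjC' d₂ (hDN hd₂) _ hc₁) hc₂
      inv_mem' := by
        rintro m ⟨hm, d, hd, hc⟩
        refine ⟨X₂.inv_mem hm, d⁻¹, D.inv_mem hd, ?_⟩
        have e : d⁻¹⁻¹ * m⁻¹ = d * (d⁻¹ * m)⁻¹ * d⁻¹ := by group
        rw [e]
        exact hconjC d (hDN hd) _ (C.inv_mem hc) }
  have hEX : E ≤ X₂ := fun m hm => hm.1
  have hXE : X₂ ≤ Subgroup.normalizer (E : Set H) := by
    rw [Subgroup.le_normalizer_iff]
    rintro x hx m ⟨hm, d, hd, hc⟩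
    refine ⟨X₂.mul_mem (X₂.mul_mem hx hm) (X₂.inv_mem hx), ?_⟩
    have hx' : x ∈ X₁ ⊔ C := by rw [h]; exact Subgroup.mem_sup_left hx
    have hmem : x ∈ (X₁ : Set H) * (C : Set H) := by
      rw [← Subgroup.coe_mul_of_left_le_normalizer_right _ _ (hX₁.trans hNC)]; exact hx'
    obtain ⟨l, hl, c', hc', rfl⟩ := Set.mem_mul.mp hmem
    have hld : l * d * l⁻¹ ∈ D := (Subgroup.mem_normalizer_iff.mp (hXD hl) d).mp hd
    refine ⟨l * d * l⁻¹, hld, ?_⟩
    have e : (l * d * l⁻¹)⁻¹ * (l * c' * m * (l * c')⁻¹) =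
        l * ((d⁻¹ * c' * d) * (d⁻¹ * m) * c'⁻¹) * l⁻¹ := by group
    rw [e]
    apply hconjC l (hX₁ hl)
    exact C.mul_mem (C.mul_mem (hconjC' d (hDN hd) c' hc') hc) (C.inv_mem hc')
  have hEp : ∀ m ∈ E, ∃ k : ℕ, m ^ p ^ k ∈ C := by
    rintro m ⟨_, d, hd, hc⟩
    obtain ⟨k, hk⟩ := hDp d hd
    refine ⟨k, ?_⟩
    have hpow : ∀ n : ℕ, (d ^ n)⁻¹ * m ^ n ∈ C := by
      intro n
      induction n with
      | zero => simp [C.one_mem]
      | succ n ih =>
        have e : (d ^ (n + 1))⁻¹ * m ^ (n + 1) = (d⁻¹ * ((d ^ n)⁻¹ * m ^ n) * d) * (d⁻¹ * m) := by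
          rw [pow_succ, pow_succ]; group
        rw [e]
        exact C.mul_mem (hconjC' d (hDN hd) _ ih) hc
    have := C.mul_mem hk (hpow (p ^ k))
    rwa [mul_inv_cancel_left] at this
  have hEC := hR E hEX hXE hEp
  intro d hd
  have hd' : d ∈ X₂ ⊔ C := by rw [← h]; exact Subgroup.mem_sup_left (hDX hd)
  have hmem : d ∈ (X₂ : Set H) * (C : Set H) := by
    rw [← Subgroup.coe_mul_of_left_le_normalizer_right _ _ (hX₂.trans hNC)]; exact hd'
  obtain ⟨m, hm, c, hc, rfl⟩ := Set.mem_mul.mp hmem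
  have hmE : m ∈ E := ⟨hm, m * c, hd, by
    have e : (m * c)⁻¹ * m = c⁻¹ := by group
    rw [e]; exact C.inv_mem hc⟩
  exact C.mul_mem (hEC hmE) hc

end Cfsg.Agent.Lib.Helper6
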