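import Mathlib
import Cfsg.Agent.Lib.Lead.Nilpotent

set_option autoImplicit false

namespace Cfsg.Agent.Lib.Helper6

variable {G : Type*} [Group G]

/-- membership in the image in `G` of the centre of a subgroup -/
theorem mem_map_subtype_center {R : Subgroup G} {x : G} :
    x ∈ (Subgroup.center ↥R).map R.subtype ↔ x ∈ R ∧ ∀ r ∈ R, r * x = x * r := by
  constructor
  · rintro ⟨z, hz, rfl⟩
    refine ⟨z.2, fun r hr => ?_⟩
    have := Subgroup.mem_center_iff.mp hz ⟨r, hr⟩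
    exact congrArg Subtype.val this
  · rintro ⟨hx, hc⟩
    refine ⟨⟨x, hx⟩, ?_, rfl⟩
    show (⟨x, hx⟩ : ↥R) ∈ Subgroup.center ↥R
    rw [Subgroup.mem_center_iff]
    intro r
    exact Subtype.ext (hc r.1 r.2)

/-- a `p`-group `C` normalizing a nontrivial `p`-group `U` centralizes a nontrivial element of `U` -/
theorem exists_ne_one_mem_centralizer_of_pgroups [Finite G] (p : ℕ) [Fact p.Prime] (U C : Subgroup G)
    (hU : IsPGroup p U) (hC : IsPGroup p C) (hCU : C ≤ Subgroup.normalizer (U : Set G)) (hne : U ≠ ⊥) :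
    ∃ u ∈ U, u ≠ 1 ∧ u ∈ Subgroup.centralizer (C : Set G) := by
  have hΓ : IsPGroup p (C ⊔ U : Subgroup G) := IsPGroup.to_sup_of_normal_right' hC hU hCU
  haveI : Group.IsNilpotent (C ⊔ U : Subgroup G) := hΓ.isNilpotent
  haveI : (U.subgroupOf (C ⊔ U)).Normal := Subgroup.normal_subgroupOf_sup_of_le_normalizer hCU
  have hNne : U.subgroupOf (C ⊔ U) ≠ ⊥ := by
    intro h
    apply hne
    rw [Subgroup.subgroupOf_eq_bot] at h
    rw [eq_bot_iff]
    exact h (le_refl U) le_sup_right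
  have := Cfsg.Agent.Lib.Lead.inf_center_ne_bot (U.subgroupOf (C ⊔ U)) hNne
  obtain ⟨y, hy1⟩ := (Subgroup.ne_bot_iff_exists_ne_one).mp this
  obtain ⟨hyU, hyZ⟩ := y.2
  refine ⟨((y : ↥(C ⊔ U)) : G), Subgroup.mem_subgroupOf.mp hyU, ?_, ?_⟩
  · intro h
    apply hy1
    apply Subtype.ext
    apply Subtype.ext
    exact h
  · rw [Subgroup.mem_centralizer_iff]
    intro c hc
    have := Subgroup.mem_center_iff.mp hyZ ⟨c, (le_sup_left : C ≤ C ⊔ U) hc⟩
    exact congrArg Subtype.val this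

end Cfsg.Agent.Lib.Helper6
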