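import Mathlib
import Cfsg.Prelude.Def_Transfer
import Cfsg.Agent.Lib.Helper6.WeakCl
import Cfsg.Agent.Lib.Helper6.ElemAb
import Cfsg.Agent.Lib.Helper6.SylowIdx
import Cfsg.Agent.Lib.Helper6.Amalgam2
import Cfsg.Agent.Lib.Helper6.Amalgam4

set_option autoImplicit false

namespace Cfsg.Agent.Lib.Helper6

open scoped Pointwise

section TwoMax

variable {G : Type*} [Group G]

local notation "cj[" g "] " S => Subgroup.map (MulEquiv.toMonoidHom (MulAut.conj g)) S

theorem isElementaryAbelian_map_conj {p : ℕ} {C : Subgroup G} (hC : IsElementaryAbelian p C) (g : G) :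
    IsElementaryAbelian p (cj[g] C) := by
  obtain ⟨hc, hp⟩ := isElementaryAbelian_iff_forall.mp hC
  rw [isElementaryAbelian_iff_forall]
  refine ⟨?_, ?_⟩
  · intro a ha b hb
    have ha' := mem_map_conj.mp ha
    have hb' := mem_map_conj.mp hb
    have := hc _ ha' _ hb'
    calc a * b = g * ((g⁻¹ * a * g) * (g⁻¹ * b * g)) * g⁻¹ := by group
      _ = g * ((g⁻¹ * b * g) * (g⁻¹ * a * g)) * g⁻¹ := by rw [this]
      _ = b * a := by group
  · intro a ha
    have ha' := mem_map_conj.mp ha
    have := hp _ ha'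
    have h2 : a ^ p = g * (g⁻¹ * a * g) ^ p * g⁻¹ := by
      have : g⁻¹ * a * g = g⁻¹ * a * g⁻¹⁻¹ := by rw [inv_inv]
      rw [this, conj_pow]; group
    rw [h2, this]; group

theorem map_conj_mono' {A B : Subgroup G} (h : A ≤ B) (g : G) : (cj[g] A) ≤ cj[g] B :=
  Subgroup.map_mono h

theorem le_of_map_conj_le {A B : Subgroup G} {g : G} (h : (cj[g] A) ≤ cj[g] B) : A ≤ B :=
  (Subgroup.map_le_map_iff_of_injective (MulAut.conj g).injective).mp h

/-- the hypothesis of the "two maximal elementary abelian subgroups" lemma, at the level of `G` -/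
structure TwoMax (S A B : Subgroup G) : Prop where
  hAS : A ≤ S
  hBS : B ≤ S
  hA : IsElementaryAbelian 2 A
  hB : IsElementaryAbelian 2 B
  hAB : ¬ A ≤ B
  hBA : ¬ B ≤ A
  honly : ∀ C : Subgroup G, C ≤ S → IsElementaryAbelian 2 C → C ≤ A ∨ C ≤ B
  hprod : ∀ s ∈ S, ∃ a ∈ A, ∃ b ∈ B, a * b = s

theorem TwoMax.symm {S A B : Subgroup G} (h : TwoMax S A B) : TwoMax S B A where
  hAS := h.hBS
  hBS := h.hAS
  hA := h.hB
  hB := h.hA
  hAB := h.hBA
  hBA := h.hAB
  honly := fun C hC hCe => (h.honly C hC hCe).symm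
  hprod := by
    intro s hs
    obtain ⟨a, ha, b, hb, hab⟩ := h.hprod s⁻¹ (inv_mem hs)
    refine ⟨b⁻¹, inv_mem hb, a⁻¹, inv_mem ha, ?_⟩
    rw [← mul_inv_rev, hab, inv_inv]

theorem TwoMax.ne {S A B : Subgroup G} (h : TwoMax S A B) : A ≠ B := fun e => h.hAB e.le

variable [Finite G]

theorem TwoMax.perm {S A B : Subgroup G} (h : TwoMax S A B) {n : G}
    (hn : n ∈ Subgroup.normalizer (S : Set G)) :
    ((cj[n] A) = A ∧ (cj[n] B) = B) ∨ ((cj[n] A) = B ∧ (cj[n] B) = A) := by
  have hSn : (cj[n] S) = S := map_conj_eq_self_of_mem_normalizer hn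
  have hA1 : (cj[n] A) ≤ S := by
    have := map_conj_mono' h.hAS n
    rwa [hSn] at this
  have hB1 : (cj[n] B) ≤ S := by
    have := map_conj_mono' h.hBS n
    rwa [hSn] at this
  have hcA := card_map_conj A n
  have hcB := card_map_conj B n
  rcases h.honly _ hA1 (isElementaryAbelian_map_conj h.hA n) with hA2 | hA2
  · have hAe : (cj[n] A) = A := Subgroup.eq_of_le_of_card_ge hA2 hcA.ge
    rcases h.honly _ hB1 (isElementaryAbelian_map_conj h.hB n) with hB2 | hB2
    · exfalso
      rw [← hAe] at hB2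
      exact h.hBA (le_of_map_conj_le hB2)
    · exact Or.inl ⟨hAe, Subgroup.eq_of_le_of_card_ge hB2 hcB.ge⟩
  · rcases h.honly _ hB1 (isElementaryAbelian_map_conj h.hB n) with hB2 | hB2
    · right
      have h1 : Nat.card A ≤ Nat.card B := hcA ▸ Subgroup.card_le_of_le hA2
      have h2 : Nat.card B ≤ Nat.card A := hcB ▸ Subgroup.card_le_of_le hB2
      exact ⟨Subgroup.eq_of_le_of_card_ge hA2 (by rw [hcA]; exact h2),
        Subgroup.eq_of_le_of_card_ge hB2 (by rw [hcB]; exact h1)⟩
    · exfalso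
      have hBe : (cj[n] B) = B := Subgroup.eq_of_le_of_card_ge hB2 hcB.ge
      rw [← hBe] at hA2
      exact h.hAB (le_of_map_conj_le hA2)

theorem TwoMax.fix_of_mem {S A B : Subgroup G} (h : TwoMax S A B) {x : G} (hx : x ∈ A) :
    (cj[x] A) = A ∧ (cj[x] B) = B := by
  have hxA : (cj[x] A) = A := map_conj_eq_self_of_mem_normalizer (Subgroup.le_normalizer hx)
  rcases h.perm (Subgroup.le_normalizer (h.hAS hx)) with h1 | h1
  · exact h1
  · exact absurd (hxA.symm.trans h1.1) h.ne

theorem TwoMax.le_normalizer {S A B : Subgroup G} (h : TwoMax S A B) :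
    S ≤ Subgroup.normalizer (A : Set G) := by
  intro s hs
  obtain ⟨a, ha, b, hb, rfl⟩ := h.hprod s hs
  apply mem_normalizer_of_map_conj_eq_self
  rw [← map_conj_map_conj, (h.symm.fix_of_mem hb).2, (h.fix_of_mem ha).1]

theorem TwoMax.normalizer_le {S : Sylow 2 G} {A B : Subgroup G} (h : TwoMax S A B) :
    Subgroup.normalizer ((S : Subgroup G) : Set G) ≤ Subgroup.normalizer (A : Set G) := by
  intro n hn
  apply mem_normalizer_of_map_conj_eq_self
  rcases h.perm hn with h1 | h1
  · exact h1.1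
  exfalso
  set N := Subgroup.normalizer ((S : Subgroup G) : Set G) with hN
  haveI : ((S : Subgroup G).subgroupOf N).Normal := Subgroup.normal_in_normalizer
  set m := ((S : Subgroup G).subgroupOf N).index with hm
  have hmem : (⟨n, hn⟩ : N) ^ m ∈ (S : Subgroup G).subgroupOf N := Subgroup.pow_index_mem _ _
  have hnm : n ^ m ∈ (S : Subgroup G) := by
    have := Subgroup.mem_subgroupOf.mp hmem
    simpa using this
  have hodd : ¬ 2 ∣ m := by
    intro h2
    have h3 : m ∣ (S : Subgroup G).index := Subgroup.relIndex_dvd_index_of_le Subgroup.le_normalizer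
    exact S.not_dvd_index (h2.trans h3)
  obtain ⟨j, hj⟩ : ∃ j, m = 2 * j + 1 := by
    rcases Nat.even_or_odd' m with ⟨j, hj | hj⟩
    · exact absurd ⟨j, hj⟩ hodd
    · exact ⟨j, hj⟩
  have hn2 : n ^ 2 ∈ Subgroup.normalizer (B : Set G) := by
    apply mem_normalizer_of_map_conj_eq_self
    rw [pow_two, ← map_conj_map_conj, h1.2, h1.1]
  have hn2j : (n ^ 2) ^ j ∈ Subgroup.normalizer (B : Set G) := Subgroup.pow_mem _ hn2 j
  have e1 : (cj[n ^ m] A) = B := by
    rw [hj, pow_succ, pow_mul, ← map_conj_map_conj, h1.1]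
    exact map_conj_eq_self_of_mem_normalizer hn2j
  have e2 : (cj[n ^ m] A) = A := map_conj_eq_self_of_mem_normalizer (h.le_normalizer hnm)
  exact h.ne (e2.symm.trans e1)

theorem TwoMax.mem_of_centralizes {S A B : Subgroup G} (h : TwoMax S A B) {c : G} (hc : c ∈ S)
    (hcA : ∀ a ∈ A, c * a = a * c) : c ∈ A := by
  obtain ⟨a, ha, b, hb, rfl⟩ := h.hprod c hc
  obtain ⟨hcomm, hexp⟩ := isElementaryAbelian_iff_forall.mp h.hA
  obtain ⟨hcommB, hexpB⟩ := isElementaryAbelian_iff_forall.mp h.hB
  have hbA : ∀ x ∈ A, b * x = x * b := by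
    intro x hx
    have h1 := hcA x hx
    have h2 := hcomm a ha x hx
    calc b * x = a⁻¹ * (a * b * x) := by group
      _ = a⁻¹ * (x * (a * b)) := by rw [h1]
      _ = a⁻¹ * (x * a) * b := by group
      _ = a⁻¹ * (a * x) * b := by rw [h2]
      _ = x * b := by group
  have hE : IsElementaryAbelian 2 (Subgroup.closure ((A : Set G) ∪ {b})) := by
    apply isElementaryAbelian_closure
    · intro x hx y hy
      rcases hx with hx | hx <;> rcases hy with hy | hy
      · exact hcomm x hx y hy
      · have : y = b := hy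
        rw [this]; exact (hbA x hx).symm
      · have : x = b := hx
        rw [this]; exact hbA y hy
      · have hx' : x = b := hx
        have hy' : y = b := hy
        rw [hx', hy']
    · intro x hx
      rcases hx with hx | hx
      · exact hexp x hx
      · have : x = b := hx
        rw [this]; exact hexpB b hb
  have hES : Subgroup.closure ((A : Set G) ∪ {b}) ≤ S := by
    rw [Subgroup.closure_le]
    intro x hx
    rcases hx with hx | hx
    · exact h.hAS hx
    · have : x = b := hx
      rw [this]; exact h.hBS hb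
  have hAE : A ≤ Subgroup.closure ((A : Set G) ∪ {b}) := fun x hx =>
    Subgroup.subset_closure (Or.inl hx)
  have hbE : b ∈ Subgroup.closure ((A : Set G) ∪ {b}) := Subgroup.subset_closure (Or.inr rfl)
  rcases h.honly _ hES hE with h1 | h1
  · exact A.mul_mem ha (h1 hbE)
  · exact absurd (hAE.trans h1) h.hAB

theorem TwoMax.weaklyClosed {S : Sylow 2 G} {A B : Subgroup G} (h : TwoMax S A B) :
    IsWeaklyClosed A (S : Subgroup G) := by
  refine ⟨h.hAS, ?_⟩
  intro g hg
  have hcA := card_map_conj A g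
  rcases h.honly _ hg (isElementaryAbelian_map_conj h.hA g) with h1 | h1
  · exact Subgroup.eq_of_le_of_card_ge h1 hcA.ge
  exfalso
  have hSp : IsPGroup 2 (S : Subgroup G) := S.isPGroup'
  -- Step 1: `B^{g⁻¹}` centralizes `A`
  have hBc : (cj[g⁻¹] B) ≤ Subgroup.centralizer (A : Set G) := by
    have hB1 : B ≤ Subgroup.centralizer ((cj[g] A : Subgroup G) : Set G) := by
      intro b hb
      rw [Subgroup.mem_centralizer_iff]
      intro x hx
      exact (isElementaryAbelian_iff_forall.mp h.hB).1 x (h1 hx) b hb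
    rw [← centralizer_map_conj] at hB1
    rw [map_conj_le_iff, inv_inv]
    exact hB1
  -- Step 2: `|B| ≤ |A|`
  have hcard : Nat.card B ≤ Nat.card A := by
    have hCK : Subgroup.centralizer (A : Set G) ≤ Subgroup.normalizer (A : Set G) :=
      Subgroup.centralizer_le_normalizer (A : Set G)
    obtain ⟨c, hcK, R, _, hRp, hSR, hcR⟩ := exists_common_pGroup (Subgroup.normalizer (A : Set G))
      (S : Subgroup G) (cj[g⁻¹] B) h.le_normalizer (hBc.trans hCK) hSp
      (isPGroup_map_conj (hSp.to_le h.hBS) _)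
    have hRS : R = S := S.is_maximal' hRp hSR
    rw [hRS] at hcR
    have hle : (cj[c] (cj[g⁻¹] B)) ≤ A := by
      intro x hx
      apply h.mem_of_centralizes (hcR hx)
      have h2 : (cj[c] (cj[g⁻¹] B)) ≤ cj[c] (Subgroup.centralizer (A : Set G)) :=
        map_conj_mono' hBc c
      rw [centralizer_map_conj, map_conj_eq_self_of_mem_normalizer hcK] at h2
      have h3 := h2 hx
      rw [Subgroup.mem_centralizer_iff] at h3
      intro a ha
      exact (h3 a ha).symm
    have := Subgroup.card_le_of_le hle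
    rwa [card_map_conj, card_map_conj] at this
  have hgA : (cj[g] A) = B := Subgroup.eq_of_le_of_card_ge h1 (by rw [hcA]; exact hcard)
  -- Step 3: Burnside
  have hgS : (cj[g] (S : Subgroup G)) ≤ Subgroup.normalizer (B : Set G) := by
    have := map_conj_mono' h.le_normalizer g
    rwa [normalizer_map_conj, hgA] at this
  obtain ⟨c, hcK, R, _, hRp, hSR, hcR⟩ := exists_common_pGroup (Subgroup.normalizer (B : Set G))
    (S : Subgroup G) (cj[g] (S : Subgroup G)) h.symm.le_normalizer hgS hSp (isPGroup_map_conj hSp _)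
  have hRS : R = S := S.is_maximal' hRp hSR
  rw [hRS, map_conj_map_conj] at hcR
  have hcg : c * g ∈ Subgroup.normalizer ((S : Subgroup G) : Set G) := mem_normalizer_of_map_conj_le hcR
  have e1 : (cj[c * g] A) = A := map_conj_eq_self_of_mem_normalizer (h.normalizer_le hcg)
  have e2 : (cj[c * g] A) = B := by
    rw [← map_conj_map_conj, hgA]
    exact map_conj_eq_self_of_mem_normalizer hcK
  exact h.ne (e1.symm.trans e2)

end TwoMax

end Cfsg.Agent.Lib.Helper6
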