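import Mathlib
import Cfsg.Prelude.Def_Blocks
import Cfsg.Agent.Lib.Helper8.BlockLocal
import Cfsg.Agent.Lib.Helper6.Brandt_B6

/-!
# S4648 (Kuelshammer), package G1(a): the multiplicity vector of an idempotent with local
coefficients below `e_B` is an integer multiple of `d` (rank one block).
Exact signature of `notes/S4648_stub.lean.txt`.
-/

set_option autoImplicit false

open Cfsg Cfsg.Agent.Lib.Helper8
open scoped ComplexConjugate

namespace Cfsg.Agent.Lib.Lead.Brandt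

open Cfsg.Agent.Lib.Helper4

section G1a
variable {M : Ideal AlgInt} {G : Type*} [Group G] [Fintype G]

set_option maxHeartbeats 800000 in
/-- G1(a): the multiplicity vector of an idempotent with local coefficients below `e_B`
is an integer multiple of `d`. -/
theorem kuls_evalC_eq {p : ℕ} [Fact p.Prime] (hM : IsPModular p M) {B : Set (IrrCharacter G)}
    (hB : IsPBlock M B) (φ : G → ℂ) (d : IrrCharacter G → ℕ) (n : IrrCharacter G → ℤ)
    (hR1 : ∀ x : G, ¬ p ∣ orderOf x → φ x = ∑ᶠ ψ ∈ B, (n ψ : ℂ) * (ψ : G → ℂ) x)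
    (hR2 : ∀ χ ∈ B, ∀ x : G, ¬ p ∣ orderOf x → (χ : G → ℂ) x = (d χ : ℂ) * φ x)
    (eBC F : MonoidAlgebra ℂ G) (heB : ∀ g, eBC.coeff g = blockCoeff B g)
    (hF : IsIdempotentElem F) (hFe : F * eBC = F) (hloc : ∀ g, MemLocalRing M (F.coeff g)) :
    ∃ z : ℤ, (∀ χ : IrrCharacter G, χ ∈ B → evalC (χ : G → ℂ) F = (z : ℂ) * (d χ : ℂ)) ∧
      ∀ χ : IrrCharacter G, χ ∉ B → evalC (χ : G → ℂ) F = 0 := by
  classical
  haveI : Fintype (IrrCharacter G) := Fintype.ofFinite _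
  have hp : p.Prime := Fact.out
  have hout : ∀ χ : IrrCharacter G, χ ∉ B → evalC (χ : G → ℂ) F = 0 :=
    fun χ hχ => evalC_eq_zero_of_not_mem B F eBC heB hFe χ hχ
  choose N hN using fun χ : IrrCharacter G => evalC_idem_nat F hF χ
  by_cases hne : B.Nonempty
  swap
  · refine ⟨0, ?_, hout⟩
    intro χ hχ
    exact absurd ⟨χ, hχ⟩ hne
  obtain ⟨χ₀, hχ₀⟩ := hne
  set s : Finset (IrrCharacter G) := (Set.toFinite B).toFinset with hs
  have hmem : ∀ χ : IrrCharacter G, χ ∈ s ↔ χ ∈ B := by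
    intro χ
    rw [hs]
    simp
  have h1reg : ¬ p ∣ orderOf (1 : G) := by
    rw [orderOf_one]
    exact hp.one_lt.ne' ∘ Nat.dvd_one.1
  have hφ1 : φ 1 ≠ 0 := by
    intro h
    have h2 := hR2 χ₀ hχ₀ 1 h1reg
    rw [h, mul_zero] at h2
    exact irr_apply_one_ne_zero χ₀.2 h2
  -- `∑ n d = 1`
  have hnd : ∑ ψ ∈ s, (n ψ : ℂ) * (d ψ : ℂ) = 1 := by
    have h := hR1 1 h1reg
    rw [finsum_mem_eq_finite_toFinset_sum _ (Set.toFinite B)] at h
    have h2 : ∑ ψ ∈ s, (n ψ : ℂ) * (ψ : G → ℂ) 1 = (∑ ψ ∈ s, (n ψ : ℂ) * (d ψ : ℂ)) * φ 1 := by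
      rw [Finset.sum_mul]
      refine Finset.sum_congr rfl (fun ψ hψ => ?_)
      rw [hR2 ψ ((hmem ψ).1 hψ) 1 h1reg]
      ring
    rw [h2] at h
    have h3 : (∑ ψ ∈ s, (n ψ : ℂ) * (d ψ : ℂ) - 1) * φ 1 = 0 := by
      rw [sub_mul, one_mul, ← h, sub_self]
    rcases mul_eq_zero.1 h3 with h4 | h4
    · exact sub_eq_zero.1 h4
    · exact absurd h4 hφ1
  set sv : ℂ := ∑ χ ∈ s, evalC (χ : G → ℂ) F * (d χ : ℂ) with hsv
  set R : Finset G := Finset.univ.filter (fun g : G => ¬ p ∣ orderOf g) with hR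
  set r : ℂ := (Nat.card G : ℂ)⁻¹ * ∑ g ∈ R, φ g * conj (φ g) with hr
  -- the inner sums
  have hQ : ∀ g : G, ∑ χ : IrrCharacter G, evalC (χ : G → ℂ) F * conj ((χ : G → ℂ) g) =
      if p ∣ orderOf g then 0 else sv * conj (φ g) := by
    intro g
    by_cases hg : p ∣ orderOf g
    · rw [if_pos hg]
      exact sum_evalC_mul_singular hM F hF hloc g hg
    · rw [if_neg hg, hsv, Finset.sum_mul]
      rw [← Finset.sum_subset (Finset.subset_univ s)]
      · refine Finset.sum_congr rfl (fun χ hχ => ?_)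
        rw [hR2 χ ((hmem χ).1 hχ) g hg, map_mul, Complex.conj_natCast]
        ring
      · intro χ _ hχ
        rw [hout χ (fun h => hχ ((hmem χ).2 h)), zero_mul]
  have key : ∀ θ : IrrCharacter G, θ ∈ B → evalC (θ : G → ℂ) F = (d θ : ℂ) * (sv * r) := by
    intro θ hθ
    have h1 : evalC (θ : G → ℂ) F =
        ∑ χ : IrrCharacter G, evalC (χ : G → ℂ) F * classInner (θ : G → ℂ) (χ : G → ℂ) := by
      rw [Finset.sum_eq_single θ]
      · rw [classInner_irr_self θ.2, mul_one]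
      · intro χ _ hχ
        rw [classInner_irr_ne θ.2 χ.2 (fun h => hχ (Subtype.ext h).symm), mul_zero]
      · intro h
        exact absurd (Finset.mem_univ θ) h
    have h2 : ∑ χ : IrrCharacter G, evalC (χ : G → ℂ) F * classInner (θ : G → ℂ) (χ : G → ℂ) =
        (Nat.card G : ℂ)⁻¹ * ∑ g : G, (θ : G → ℂ) g *
          ∑ χ : IrrCharacter G, evalC (χ : G → ℂ) F * conj ((χ : G → ℂ) g) := by
      simp only [classInner_def, Finset.mul_sum]
      rw [Finset.sum_comm]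
      refine Finset.sum_congr rfl (fun g _ => ?_)
      refine Finset.sum_congr rfl (fun χ _ => ?_)
      ring
    rw [h1, h2]
    have h3 : ∑ g : G, (θ : G → ℂ) g *
        ∑ χ : IrrCharacter G, evalC (χ : G → ℂ) F * conj ((χ : G → ℂ) g) =
        ∑ g ∈ R, (d θ : ℂ) * sv * (φ g * conj (φ g)) := by
      rw [hR, Finset.sum_filter]
      refine Finset.sum_congr rfl (fun g _ => ?_)
      rw [hQ g]
      by_cases hg : p ∣ orderOf g
      · rw [if_pos hg, if_neg (not_not.2 hg), mul_zero]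
      · rw [if_neg hg, if_pos hg, hR2 θ hθ g hg]
        ring
    rw [h3, ← Finset.mul_sum, hr]
    ring
  refine ⟨∑ ψ ∈ s, n ψ * (N ψ : ℤ), ?_, hout⟩
  have hz : ((∑ ψ ∈ s, n ψ * (N ψ : ℤ) : ℤ) : ℂ) = sv * r := by
    push_cast
    have h4 : ∑ ψ ∈ s, (n ψ : ℂ) * (N ψ : ℂ) = ∑ ψ ∈ s, ((n ψ : ℂ) * (d ψ : ℂ)) * (sv * r) := by
      refine Finset.sum_congr rfl (fun ψ hψ => ?_)
      rw [← hN ψ, key ψ ((hmem ψ).1 hψ)]
      ring
    rw [h4, ← Finset.sum_mul, hnd, one_mul]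
  intro χ hχ
  rw [hz, key χ hχ]
  ring

end G1a

end Cfsg.Agent.Lib.Lead.Brandt
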