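import Mathlib
import Cfsg.Prelude.Def_Blocks
import Cfsg.Agent.Lib.Helper6.Brandt_B6

/-!
# S4648 (Kuelshammer), package G1(b): class sums of idempotents with proportional multiplicities

If the multiplicities `evalC χ f` of `f ∈ ℂG` are `z * d χ` on a set `B` of irreducible characters
and `0` outside, then `∑ x, f (x w⁻¹ x⁻¹) = z * Ψ w` with `Ψ = ∑_{χ ∈ B} d χ • χ`; hence the class
sums of two such elements are proportional.
-/

set_option autoImplicit false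

open Cfsg

namespace Cfsg.Agent.Lib.Helper6.KulsG1b

open Cfsg.Agent.Lib.Lead.Brandt

variable {G : Type*} [Group G] [Fintype G]

/-- G1(b), first half: the class sums of `f` are `z * Ψ`. -/
theorem classSum_eq [Fintype (IrrCharacter G)] (B : Set (IrrCharacter G))
    (d : IrrCharacter G → ℕ) (f : MonoidAlgebra ℂ G) (z : ℂ)
    (hin : ∀ χ ∈ B, evalC (χ : G → ℂ) f = z * (d χ : ℂ))
    (hout : ∀ χ, χ ∉ B → evalC (χ : G → ℂ) f = 0) (w : G) :
    ∑ x : G, f.coeff (x * w⁻¹ * x⁻¹) = z * ∑ᶠ χ ∈ B, (d χ : ℂ) * (χ : G → ℂ) w := by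
  classical
  rw [brandtB6F_eq f w, finsum_mem_eq_finite_toFinset_sum _ (Set.toFinite B), Finset.mul_sum]
  rw [← Finset.sum_subset (Finset.subset_univ (Set.toFinite B).toFinset)]
  · refine Finset.sum_congr rfl (fun χ hχ => ?_)
    have hχB : χ ∈ B := by simpa using hχ
    rw [hin χ hχB]
    ring
  · intro χ _ hχ
    have hχB : χ ∉ B := by simpa using hχ
    rw [hout χ hχB, zero_mul]

/-- G1(b): the class sums of two such elements are proportional. -/
theorem classSum_proportional [Fintype (IrrCharacter G)] (B : Set (IrrCharacter G))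
    (d : IrrCharacter G → ℕ) (f f' : MonoidAlgebra ℂ G) (z z' : ℂ)
    (hin : ∀ χ ∈ B, evalC (χ : G → ℂ) f = z * (d χ : ℂ))
    (hout : ∀ χ, χ ∉ B → evalC (χ : G → ℂ) f = 0)
    (hin' : ∀ χ ∈ B, evalC (χ : G → ℂ) f' = z' * (d χ : ℂ))
    (hout' : ∀ χ, χ ∉ B → evalC (χ : G → ℂ) f' = 0) (w : G) :
    z' * ∑ x : G, f.coeff (x * w⁻¹ * x⁻¹) = z * ∑ x : G, f'.coeff (x * w⁻¹ * x⁻¹) := by
  rw [classSum_eq B d f z hin hout w, classSum_eq B d f' z' hin' hout' w]
  ring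

/-- G1(c), character part: the coefficient of `1`. -/
theorem coeff_one_eq [Fintype (IrrCharacter G)] (B : Set (IrrCharacter G))
    (d : IrrCharacter G → ℕ) (f : MonoidAlgebra ℂ G) (z : ℂ)
    (hin : ∀ χ ∈ B, evalC (χ : G → ℂ) f = z * (d χ : ℂ))
    (hout : ∀ χ, χ ∉ B → evalC (χ : G → ℂ) f = 0)
    (φ1 : ℂ) (hR2 : ∀ χ ∈ B, (χ : G → ℂ) 1 = (d χ : ℂ) * φ1)
    (N : ℕ) (hR3 : ∑ᶠ χ ∈ B, d χ ^ 2 = N) :
    (Nat.card G : ℂ) * f.coeff 1 = z * φ1 * (N : ℂ) := by
  classical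
  have h := classSum_eq B d f z hin hout 1
  have h1 : ∑ x : G, f.coeff (x * (1 : G)⁻¹ * x⁻¹) = (Nat.card G : ℂ) * f.coeff 1 := by
    have : ∀ x : G, f.coeff (x * (1 : G)⁻¹ * x⁻¹) = f.coeff 1 := by
      intro x
      congr 1
      group
    rw [Finset.sum_congr rfl (fun x _ => this x), Finset.sum_const, Finset.card_univ,
      ← Nat.card_eq_fintype_card, nsmul_eq_mul]
  rw [h1] at h
  rw [h]
  have h2 : ∑ᶠ χ ∈ B, (d χ : ℂ) * (χ : G → ℂ) 1 = φ1 * (N : ℂ) := by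
    rw [← hR3, finsum_mem_eq_finite_toFinset_sum _ (Set.toFinite B),
      finsum_mem_eq_finite_toFinset_sum _ (Set.toFinite B), Nat.cast_sum, Finset.mul_sum]
    refine Finset.sum_congr rfl (fun χ hχ => ?_)
    have hχB : χ ∈ B := by simpa using hχ
    rw [hR2 χ hχB]
    push_cast
    ring
  rw [h2]
  ring

end Cfsg.Agent.Lib.Helper6.KulsG1b
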