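import Mathlib
import Cfsg.Prelude.Def_Blocks
import Cfsg.Agent.Lib.Helper6.Brandt_B6
import Cfsg.Agent.Lib.Helper6.Kuls_G1b

/-!
# S4648 (Kuelshammer), packages G1(b) and G1(c), exact signatures of `notes/S4648_stub.lean.txt`
-/

set_option autoImplicit false

open Cfsg Cfsg.Agent.Lib.Helper8
open scoped ComplexConjugate

namespace Cfsg.Agent.Lib.Lead.Brandt

section G1bc
variable {G : Type*} [Group G] [Fintype G]

/-- G1(b): class-function functionals of an element with multiplicity vector `z • d`. -/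
theorem kuls_card_mul_evalC [Fintype (IrrCharacter G)] {B : Set (IrrCharacter G)}
    (d : IrrCharacter G → ℕ) (F : MonoidAlgebra ℂ G) (z : ℤ)
    (hz : ∀ χ : IrrCharacter G, χ ∈ B → evalC (χ : G → ℂ) F = (z : ℂ) * (d χ : ℂ))
    (hz0 : ∀ χ : IrrCharacter G, χ ∉ B → evalC (χ : G → ℂ) F = 0)
    (T : G → ℂ) (hT : IsClassFunction G T) :
    (Nat.card G : ℂ) * evalC T F =
      (z : ℂ) * ∑ w : G, T w * ∑ᶠ χ ∈ B, (d χ : ℂ) * (χ : G → ℂ) w⁻¹ := by
  classical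
  -- class sums
  have hcs : ∀ w : G, ∑ x : G, F.coeff (x * w * x⁻¹) =
      (z : ℂ) * ∑ᶠ χ ∈ B, (d χ : ℂ) * (χ : G → ℂ) w⁻¹ := by
    intro w
    have h := Cfsg.Agent.Lib.Helper6.KulsG1b.classSum_eq B d F (z : ℂ) hz hz0 w⁻¹
    rwa [inv_inv] at h
  -- reindexing
  have h1 : (Nat.card G : ℂ) * evalC T F = ∑ x : G, ∑ w : G, F.coeff (x * w * x⁻¹) * T w := by
    have hx : ∀ x : G, ∑ w : G, F.coeff (x * w * x⁻¹) * T w = evalC T F := by
      intro x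
      unfold evalC
      let e : G ≃ G := (Equiv.mulLeft x).trans (Equiv.mulRight x⁻¹)
      rw [← Equiv.sum_comp e (fun g => F.coeff g * T g)]
      refine Finset.sum_congr rfl (fun w _ => ?_)
      have he : e w = x * w * x⁻¹ := rfl
      rw [he, hT w x]
    rw [Finset.sum_congr rfl (fun x _ => hx x), Finset.sum_const, Finset.card_univ,
      ← Nat.card_eq_fintype_card, nsmul_eq_mul]
  rw [h1, Finset.sum_comm, Finset.mul_sum]
  refine Finset.sum_congr rfl (fun w _ => ?_)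
  rw [← Finset.sum_mul, hcs w]
  ring

/-- G1(c): the coefficient at `1`. -/
theorem kuls_coeff_one [Fintype (IrrCharacter G)] {p : ℕ} {B : Set (IrrCharacter G)}
    (φ : G → ℂ) (d : IrrCharacter G → ℕ)
    (hR2 : ∀ χ ∈ B, ∀ x : G, ¬ p ∣ orderOf x → (χ : G → ℂ) x = (d χ : ℂ) * φ x)
    (D : Subgroup G) (hR3 : ∑ᶠ χ ∈ B, d χ ^ 2 = Nat.card D)
    (hp1 : ¬ p ∣ 1) (F : MonoidAlgebra ℂ G) (z : ℤ)
    (hz : ∀ χ : IrrCharacter G, χ ∈ B → evalC (χ : G → ℂ) F = (z : ℂ) * (d χ : ℂ))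
    (hz0 : ∀ χ : IrrCharacter G, χ ∉ B → evalC (χ : G → ℂ) F = 0) :
    (Nat.card G : ℂ) * F.coeff 1 = (z : ℂ) * (φ 1 * (Nat.card D : ℂ)) := by
  have h := Cfsg.Agent.Lib.Helper6.KulsG1b.coeff_one_eq B d F (z : ℂ) hz hz0 (φ 1)
    (fun χ hχ => hR2 χ hχ 1 (by rw [orderOf_one]; exact hp1)) (Nat.card D) hR3
  rw [h]
  ring

end G1bc

end Cfsg.Agent.Lib.Lead.Brandt
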