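import Mathlib
import Cfsg.Prelude.Def_Blocks
import Cfsg.Agent.Lib.Helper6.Brandt_B6

/-!
# S4648 (Kuelshammer), package G1(d): the dimension of the corner of an idempotent with
multiplicity vector `z • d`, exact signature of `notes/S4648_stub.lean.txt`
-/

set_option autoImplicit false

open Cfsg Cfsg.Agent.Lib.Helper8
open scoped ComplexConjugate

namespace Cfsg.Agent.Lib.Lead.Brandt

section G1d
variable {G : Type*} [Group G] [Fintype G]

/-- G1(d): the dimension of the corner. -/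
theorem kuls_finrank_corner [Fintype (IrrCharacter G)] {B : Set (IrrCharacter G)}
    (d : IrrCharacter G → ℕ) (D : Subgroup G) (hR3 : ∑ᶠ χ ∈ B, d χ ^ 2 = Nat.card D)
    (F : MonoidAlgebra ℂ G) (hF : IsIdempotentElem F) (z : ℤ)
    (hz : ∀ χ : IrrCharacter G, χ ∈ B → evalC (χ : G → ℂ) F = (z : ℂ) * (d χ : ℂ))
    (hz0 : ∀ χ : IrrCharacter G, χ ∉ B → evalC (χ : G → ℂ) F = 0) :
    (Module.finrank ℂ ↥(corner ℂ F) : ℤ) = z ^ 2 * (Nat.card D : ℤ) := by
  classical
  have h := sum_evalC_sq F hF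
  have h1 : ∑ χ : IrrCharacter G, evalC (χ : G → ℂ) F ^ 2 = (z : ℂ) ^ 2 * (Nat.card D : ℂ) := by
    rw [← hR3, finsum_mem_eq_finite_toFinset_sum _ (Set.toFinite B), Nat.cast_sum, Finset.mul_sum]
    rw [← Finset.sum_subset (Finset.subset_univ (Set.toFinite B).toFinset)]
    · refine Finset.sum_congr rfl (fun χ hχ => ?_)
      have hχB : χ ∈ B := by simpa using hχ
      rw [hz χ hχB]
      push_cast
      ring
    · intro χ _ hχ
      have hχB : χ ∉ B := by simpa using hχ
      rw [hz0 χ hχB]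
      ring
  rw [h1] at h
  have h2 : ((Module.finrank ℂ ↥(corner ℂ F) : ℤ) : ℂ) = ((z ^ 2 * (Nat.card D : ℤ) : ℤ) : ℂ) := by
    push_cast
    exact h.symm
  exact_mod_cast h2

end G1d

end Cfsg.Agent.Lib.Lead.Brandt
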