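import Mathlib
import Cfsg.Prelude.Def_Blocks
import Cfsg.Agent.Lib.Helper8.BlockLocal
import Cfsg.Agent.Lib.Helper8.BlockFirstMain3
import Cfsg.Agent.Lib.Helper8.Deflation

/-!
# S4648 (Kuelshammer), package G1(c'): `u0 = φ(1) |D| / |G|` is a local integer.
Exact signature of `notes/S4648_stub.lean.txt`.
-/

set_option autoImplicit false

open Cfsg Cfsg.Agent.Lib.Helper8
open scoped ComplexConjugate

namespace Cfsg.Agent.Lib.Lead.Brandt

section G1u
variable {M : Ideal AlgInt} {G : Type*} [Group G] [Fintype G]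

/-- G1(c'): `u0 = φ(1) |D| / |G|` is a local integer. -/
theorem kuls_u0_mem {p : ℕ} [Fact p.Prime] (hM : IsPModular p M) {B : Set (IrrCharacter G)}
    (hB : IsPBlock M B) (D : Subgroup G) (hD : IsDefectGroup p M B D)
    (φ : G → ℂ) (n : IrrCharacter G → ℤ)
    (hR1 : ∀ x : G, ¬ p ∣ orderOf x → φ x = ∑ᶠ ψ ∈ B, (n ψ : ℂ) * (ψ : G → ℂ) x) :
    MemLocalRing M (φ 1 * (Nat.card D : ℂ) / (Nat.card G : ℂ)) := by
  classical
  have hp : p.Prime := Fact.out
  have hMp := isPModular_isPrime hM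
  have hMt := isPModular_ne_top hM
  have hcard : Nat.card D = p ^ blockDefect p B := card_of_isDefectGroup hM hB hD
  have h1reg : ¬ p ∣ orderOf (1 : G) := by
    rw [orderOf_one]
    exact hp.one_lt.ne' ∘ Nat.dvd_one.1
  set a := (Nat.card G).factorization p with ha
  set m' := Nat.card G / p ^ a with hm'
  have hG0 : Nat.card G ≠ 0 := Nat.card_pos.ne'
  have hGeq : p ^ a * m' = Nat.card G := Nat.ordProj_mul_ordCompl_eq_self (Nat.card G) p
  have hm'p : ¬ p ∣ m' := Nat.not_dvd_ordCompl hp hG0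
  set e := sInf ((fun χ : IrrCharacter G => (charDegree (χ : G → ℂ)).factorization p) '' B)
    with he
  have hdef : blockDefect p B = a - e := rfl
  -- each term
  have hterm : ∀ ψ : IrrCharacter G, ψ ∈ B →
      MemLocalRing M ((ψ : G → ℂ) 1 * (Nat.card D : ℂ) / (Nat.card G : ℂ)) := by
    intro ψ hψ
    obtain ⟨hc, hcpos⟩ := irr_apply_one_eq_charDegree ψ.2
    set c := charDegree (ψ : G → ℂ) with hcdef
    have hele : e ≤ c.factorization p := Nat.sInf_le ⟨ψ, hψ, rfl⟩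
    have hpe : p ^ e ∣ c := (pow_dvd_pow p hele).trans (Nat.ordProj_dvd c p)
    have hpa : p ^ a ∣ c * p ^ (a - e) := by
      have h1 : p ^ a ∣ p ^ e * p ^ (a - e) := by
        rw [← pow_add]
        exact pow_dvd_pow p (by omega)
      exact h1.trans (mul_dvd_mul_right hpe _)
    obtain ⟨t, ht⟩ := hpa
    have hm'0 : (m' : ℂ) ≠ 0 := by
      intro h
      have : m' = 0 := by exact_mod_cast h
      rw [this, mul_zero] at hGeq
      exact hG0 hGeq.symm
    have hpa0 : ((p : ℂ) ^ a) ≠ 0 := pow_ne_zero _ (Nat.cast_ne_zero.2 hp.ne_zero)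
    have hval : (ψ : G → ℂ) 1 * (Nat.card D : ℂ) / (Nat.card G : ℂ) = (t : ℂ) * ((m' : ℂ))⁻¹ := by
      rw [hc, hcard, hdef, ← hGeq]
      have ht' : (c : ℂ) * (p : ℂ) ^ (a - e) = (p : ℂ) ^ a * (t : ℂ) := by exact_mod_cast ht
      push_cast
      rw [ht']
      field_simp
    rw [hval]
    exact memLocalRing_mul hMp (memLocalRing_natCast hMt t) (memLocalRing_inv_natCast hM hm'p)
  have hφ := hR1 1 h1reg
  rw [finsum_mem_eq_finite_toFinset_sum _ (Set.toFinite B)] at hφ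
  have hsum : φ 1 * (Nat.card D : ℂ) / (Nat.card G : ℂ) =
      ∑ ψ ∈ (Set.toFinite B).toFinset,
        (n ψ : ℂ) * ((ψ : G → ℂ) 1 * (Nat.card D : ℂ) / (Nat.card G : ℂ)) := by
    rw [hφ, Finset.sum_mul, Finset.sum_div]
    refine Finset.sum_congr rfl (fun ψ _ => ?_)
    ring
  rw [hsum]
  refine memLocalRing_sum hMp _ _ (fun ψ hψ => ?_)
  have hψB : ψ ∈ B := by simpa using hψ
  exact memLocalRing_mul hMp (memLocalRing_intCast hMt (n ψ)) (hterm ψ hψB)

end G1u

end Cfsg.Agent.Lib.Lead.Brandt
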