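import Cfsg.Agent.Lib.Helper6.TC11

set_option autoImplicit false

namespace Cfsg.Agent.Lib.Helper6.TC

/-! # Lower bounds for the order of a group acting on `Fin N`, from trees of orbits -/

/-- the check of the tree of an orbit: a point of label `1` is the root or moves to a point of
label `1` and of smaller rank -/
noncomputable def chkOrb (lab rnk mv : ℕ → ℕ) (b N : ℕ) : Bool :=
  allB (fun p => bor (Nat.beq p b) (Bool.rec true
    (band (Nat.beq (lab (mv p)) 1) (band (Nat.blt (mv p) N) (Nat.blt (rnk (mv p)) (rnk p))))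
    (Nat.beq (lab p) 1))) N

theorem chkOrb_spec {lab rnk mv : ℕ → ℕ} {b N : ℕ} (h : chkOrb lab rnk mv b N = true) :
    ∀ p < N, lab p = 1 → p = b ∨ (lab (mv p) = 1 ∧ mv p < N ∧ rnk (mv p) < rnk p) := by
  intro p hp hl
  have := allB_spec h p hp
  rw [bor_eq_true, Nat.beq_eq] at this
  rcases this with h1 | h1
  · exact Or.inl h1
  · right
    have e : Nat.beq (lab p) 1 = true := by rw [Nat.beq_eq]; exact hl
    rw [e] at h1
    change band _ _ = true at h1
    rw [band_eq_true, band_eq_true, Nat.beq_eq, Nat.blt_eq, Nat.blt_eq] at h1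
    exact h1

section lb
variable {G : Type*} [Group G] {N : ℕ}

/-- the subgroup fixing a point -/
def fixer (φ : G →* Equiv.Perm (Fin N)) (p : Fin N) : Subgroup G where
  carrier := {g | φ g p = p}
  mul_mem' := by
    intro a b ha hb
    change φ (a * b) p = p
    rw [map_mul, Equiv.Perm.mul_apply, hb, ha]
  one_mem' := by
    change φ 1 p = p
    rw [map_one]
    rfl
  inv_mem' := by
    intro a ha
    change φ a⁻¹ p = p
    rw [map_inv, Equiv.Perm.inv_eq_iff_eq]
    exact ha.symm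

theorem mem_fixer {φ : G →* Equiv.Perm (Fin N)} {p : Fin N} {g : G} :
    g ∈ fixer φ p ↔ φ g p = p := Iff.rfl

/-- the points of label `1` are reached from the root -/
theorem orb_reach (φ : G →* Equiv.Perm (Fin N)) (K : Subgroup G) {b : ℕ} (hb : b < N)
    {lab rnk mv : ℕ → ℕ}
    (horb : ∀ p < N, lab p = 1 → p = b ∨ (lab (mv p) = 1 ∧ mv p < N ∧ rnk (mv p) < rnk p))
    (hmv : ∀ p (hp : p < N), lab p = 1 → p ≠ b → ∃ g ∈ K, ((φ g) ⟨p, hp⟩).val = mv p) :
    ∀ r p (hp : p < N), lab p = 1 → rnk p ≤ r → ∃ g ∈ K, φ g ⟨b, hb⟩ = ⟨p, hp⟩ := by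
  intro r
  induction r with
  | zero =>
    intro p hp hl hr
    rcases horb p hp hl with rfl | ⟨_, _, h3⟩
    · exact ⟨1, K.one_mem, by rw [map_one]; rfl⟩
    · omega
  | succ r ih =>
    intro p hp hl hr
    rcases horb p hp hl with rfl | ⟨h1, h2, h3⟩
    · exact ⟨1, K.one_mem, by rw [map_one]; rfl⟩
    · by_cases hpb : p = b
      · subst hpb
        exact ⟨1, K.one_mem, by rw [map_one]; rfl⟩
      obtain ⟨g', hg', e'⟩ := ih (mv p) h2 h1 (by omega)
      obtain ⟨g, hg, e⟩ := hmv p hp hl hpb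
      refine ⟨g⁻¹ * g', K.mul_mem (K.inv_mem hg) hg', ?_⟩
      rw [map_mul, Equiv.Perm.mul_apply, e', map_inv, Equiv.Perm.inv_eq_iff_eq]
      exact Fin.ext e.symm

/-- one level of a chain of stabilisers: the orbit has at least as many points as there are
labels `1` -/
theorem level_lb [Finite G] (φ : G →* Equiv.Perm (Fin N)) (K : Subgroup G) {b : ℕ} (hb : b < N)
    {lab rnk mv : ℕ → ℕ}
    (horb : ∀ p < N, lab p = 1 → p = b ∨ (lab (mv p) = 1 ∧ mv p < N ∧ rnk (mv p) < rnk p))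
    (hmv : ∀ p (hp : p < N), lab p = 1 → p ≠ b → ∃ g ∈ K, ((φ g) ⟨p, hp⟩).val = mv p) :
    cntLab lab 1 N * Nat.card (K ⊓ fixer φ ⟨b, hb⟩ : Subgroup G) ≤ Nat.card K := by
  classical
  have hreach : ∀ q : {q : Fin N // lab q.val = 1}, ∃ g ∈ K, φ g ⟨b, hb⟩ = q.val := by
    intro q
    exact orb_reach φ K hb horb hmv (rnk q.val.val) q.val.val q.val.isLt q.property le_rfl
  choose gq hgK hgq using hreach
  let f : {q : Fin N // lab q.val = 1} × (K ⊓ fixer φ ⟨b, hb⟩ : Subgroup G) → K :=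
    fun x => ⟨gq x.1 * x.2.val, K.mul_mem (hgK x.1) x.2.property.1⟩
  have hf : Function.Injective f := by
    rintro ⟨q, s⟩ ⟨q', s'⟩ h
    have h1 : gq q * s.val = gq q' * s'.val := congrArg Subtype.val h
    have hs : φ s.val ⟨b, hb⟩ = ⟨b, hb⟩ := s.property.2
    have hs' : φ s'.val ⟨b, hb⟩ = ⟨b, hb⟩ := s'.property.2
    have h2 : φ (gq q * s.val) ⟨b, hb⟩ = φ (gq q' * s'.val) ⟨b, hb⟩ := by rw [h1]
    rw [map_mul, map_mul, Equiv.Perm.mul_apply, Equiv.Perm.mul_apply, hs, hs', hgq, hgq] at h2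
    have hq : q = q' := Subtype.ext h2
    subst hq
    have h3 : s.val = s'.val := mul_left_cancel h1
    rw [Subtype.ext h3]
  have hcard := Nat.card_le_card_of_injective f hf
  rw [Nat.card_prod] at hcard
  have hT : Nat.card {q : Fin N // lab q.val = 1} = cntLab lab 1 N := by
    rw [cntLab_eq, Nat.card_eq_fintype_card, Fintype.card_subtype,
      ← Finset.card_map Fin.valEmbedding]
    congr 1
    ext p
    simp only [Finset.mem_map, Finset.mem_filter, Finset.mem_univ, true_and,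
      Fin.valEmbedding_apply, Finset.mem_range]
    constructor
    · rintro ⟨a, ha, rfl⟩
      exact ⟨a.isLt, ha⟩
    · rintro ⟨h1, h2⟩
      exact ⟨⟨p, h1⟩, h2, rfl⟩
  rw [hT] at hcard
  exact hcard

end lb

end Cfsg.Agent.Lib.Helper6.TC
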