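import Cfsg.Agent.Lib.Helper6.TC9

set_option autoImplicit false

namespace Cfsg.Agent.Lib.Helper6.TC

/-! # Words: rotations, inverses, powers -/

section words
variable {Gen : Type*} {rels : Set (FreeGroup Gen)} {S : Set (FreeGroup Gen)} {gc : ℕ → Gen × Bool}
variable {ncol INV : ℕ}

theorem mk_wordElt_rotate (w : List ℕ) (k : ℕ)
    (h : PresentedGroup.mk rels (wordElt gc w) = 1) :
    PresentedGroup.mk rels (wordElt gc (w.rotate k)) = 1 := by
  rw [List.rotate_eq_drop_append_take_mod, wordElt_append, map_mul]
  have h2 : w = w.take (k % w.length) ++ w.drop (k % w.length) := (List.take_append_drop _ _).symm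
  have h3 : PresentedGroup.mk rels (wordElt gc (w.take (k % w.length))) *
      PresentedGroup.mk rels (wordElt gc (w.drop (k % w.length))) = 1 := by
    rw [← map_mul, ← wordElt_append, ← h2]
    exact h
  have h4 : PresentedGroup.mk rels (wordElt gc (w.drop (k % w.length))) =
      (PresentedGroup.mk rels (wordElt gc (w.take (k % w.length))))⁻¹ :=
    eq_inv_of_mul_eq_one_right h3
  rw [h4]
  exact inv_mul_cancel _

/-- the inverse word -/
noncomputable def invw (INV : ℕ) (w : List ℕ) : List ℕ := w.reverse.map (invc INV)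

theorem mk_wordElt_invw
    (hinvG : ∀ c < ncol, PresentedGroup.mk rels (ceOf gc (invc INV c)) =
      (PresentedGroup.mk rels (ceOf gc c))⁻¹) :
    ∀ (w : List ℕ), (∀ c ∈ w, c < ncol) →
      PresentedGroup.mk rels (wordElt gc (invw INV w)) =
        (PresentedGroup.mk rels (wordElt gc w))⁻¹ := by
  intro w
  induction w with
  | nil => intro _; simp [invw, wordElt_nil]
  | cons c w ih =>
    intro hw
    have hc : c < ncol := hw c List.mem_cons_self
    have e : invw INV (c :: w) = invw INV w ++ [invc INV c] := by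
      simp [invw]
    rw [e, wordElt_append, map_mul, ih (fun d hd => hw d (List.mem_cons_of_mem _ hd)), wordElt_cons,
      wordElt_nil, mul_one, hinvG c hc, wordElt_cons, map_mul, mul_inv_rev]

theorem wordElt_flatten_replicate (u : List ℕ) (m : ℕ) :
    wordElt gc (List.replicate m u).flatten = (wordElt gc u) ^ m := by
  induction m with
  | zero => simp [wordElt_nil]
  | succ k ih =>
    rw [List.replicate_succ, List.flatten_cons, wordElt_append, ih, pow_succ']

variable {px : ℕ → ℕ → ℕ} {N : ℕ}

theorem wapp_append (u v : List ℕ) (p : ℕ) : wapp px (u ++ v) p = wapp px v (wapp px u p) := by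
  unfold wapp
  rw [List.foldl_append]

theorem wapp_lt (hP : PHyp px N ncol INV) :
    ∀ (w : List ℕ), (∀ c ∈ w, c < ncol) → ∀ p < N, wapp px w p < N := by
  intro w
  induction w with
  | nil => intro _ p hp; exact hp
  | cons c w ih =>
    intro hw p hp
    rw [wapp_cons]
    exact ih (fun d hd => hw d (List.mem_cons_of_mem _ hd)) _ (hP.hlt c (hw c List.mem_cons_self) p hp)

theorem wapp_inj (hP : PHyp px N ncol INV) :
    ∀ (w : List ℕ), (∀ c ∈ w, c < ncol) → ∀ p < N, ∀ q < N, wapp px w p = wapp px w q → p = q := by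
  intro w
  induction w with
  | nil => intro _ p _ q _ h; exact h
  | cons c w ih =>
    intro hw p hp q hq h
    rw [wapp_cons, wapp_cons] at h
    have hc := hw c List.mem_cons_self
    have := ih (fun d hd => hw d (List.mem_cons_of_mem _ hd)) _ (hP.hlt c hc p hp) _ (hP.hlt c hc q hq) h
    rw [← hP.hpx c hc p hp, ← hP.hpx c hc q hq, this]

theorem wapp_rotate (hP : PHyp px N ncol INV) (w : List ℕ) (hw : ∀ c ∈ w, c < ncol)
    (h : ∀ p < N, wapp px w p = p) (k : ℕ) : ∀ p < N, wapp px (w.rotate k) p = p := by
  intro p hp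
  rw [List.rotate_eq_drop_append_take_mod, wapp_append]
  set u := w.take (k % w.length) with hu
  set v := w.drop (k % w.length) with hv
  have hw2 : w = u ++ v := (List.take_append_drop _ _).symm
  have hul : ∀ c ∈ u, c < ncol := fun c hc => hw c (by rw [hw2]; exact List.mem_append_left _ hc)
  have hvl : ∀ c ∈ v, c < ncol := fun c hc => hw c (by rw [hw2]; exact List.mem_append_right _ hc)
  have hq : wapp px v p < N := wapp_lt hP v hvl p hp
  have h1 := h (wapp px v p) hq
  rw [hw2, wapp_append] at h1
  exact wapp_inj hP v hvl _ (wapp_lt hP u hul _ hq) _ hp h1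

end words

section chk
variable {Gen : Type*} {rels : Set (FreeGroup Gen)} {S : Set (FreeGroup Gen)} {gc : ℕ → Gen × Bool}

/-- the check of a word of the certificate against the base words -/
noncomputable def chkWord (WD WI : ℕ → ℕ) (base subw : List (List ℕ)) (INV ncol nrw : ℕ) (j : ℕ) : Bool :=
  (wordL WD j).all (fun c => decide (c < ncol)) &&
  (if j < nrw then
    decide (wordL WD j = (if (WI j / 65536) % 2 = 1 then invw INV (base.getD (WI j % 256) [])
      else base.getD (WI j % 256) []).rotate ((WI j / 256) % 256) ∧ WI j % 256 < base.length)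
  else decide (j - nrw < subw.length ∧ wordL WD j = subw.getD (j - nrw) []))

theorem words_ok {WD WI : ℕ → ℕ} {base subw : List (List ℕ)} {INV ncol nrw nw : ℕ}
    (hinvG : ∀ c < ncol, PresentedGroup.mk rels (ceOf gc (invc INV c)) =
      (PresentedGroup.mk rels (ceOf gc c))⁻¹)
    (hbl : ∀ b ∈ base, ∀ c ∈ b, c < ncol)
    (hbase : ∀ b ∈ base, PresentedGroup.mk rels (wordElt gc b) = 1)
    (hsubw : ∀ w ∈ subw, wordElt gc w ∈ Subgroup.closure S)
    (hchk : ∀ j < nw, chkWord WD WI base subw INV ncol nrw j = true) :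
    (∀ j < nrw, j < nw → PresentedGroup.mk rels (wordElt gc (wordL WD j)) = 1) ∧
    (∀ j, nrw ≤ j → j < nw → wordElt gc (wordL WD j) ∈ Subgroup.closure S) ∧
    (∀ j < nw, ∀ c ∈ wordL WD j, c < ncol) := by
  refine ⟨?_, ?_, ?_⟩
  · intro j hj hjw
    have h := hchk j hjw
    unfold chkWord at h
    rw [Bool.and_eq_true, if_pos hj, decide_eq_true_eq] at h
    obtain ⟨_, h2, h3⟩ := h
    rw [h2]
    apply mk_wordElt_rotate
    have hb : base.getD (WI j % 256) [] ∈ base := by
      rw [List.getD_eq_getElem _ _ h3]
      exact List.getElem_mem h3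
    split_ifs
    · rw [mk_wordElt_invw hinvG _ (hbl _ hb), hbase _ hb, inv_one]
    · exact hbase _ hb
  · intro j h1 h2
    have h := hchk j h2
    unfold chkWord at h
    rw [Bool.and_eq_true, if_neg (by omega), decide_eq_true_eq] at h
    obtain ⟨_, h3, h4⟩ := h
    rw [h4]
    apply hsubw
    rw [List.getD_eq_getElem _ _ h3]
    exact List.getElem_mem h3
  · intro j hj c hc
    have h := hchk j hj
    unfold chkWord at h
    rw [Bool.and_eq_true, List.all_eq_true] at h
    have := h.1 c hc
    rw [decide_eq_true_eq] at this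
    exact this

end chk

end Cfsg.Agent.Lib.Helper6.TC
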