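import Cfsg.Agent.Lib.Helper6.LB1
import Cfsg.Agent.Lib.Helper6.TC10

set_option autoImplicit false

namespace Cfsg.Agent.Lib.Helper6.TC

/-! # Chains of stabilisers in a permutation representation given by words -/

theorem chain_step {a L x y z : ℕ} (h1 : a * y ≤ z) (h2 : L * x ≤ y) : a * L * x ≤ z :=
  calc a * L * x = a * (L * x) := mul_assoc a L x
    _ ≤ a * y := Nat.mul_le_mul_left a h2
    _ ≤ z := h1

section chain
variable {G : Type*} [Group G] {N : ℕ}

/-- the subgroup fixing the points of a list -/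
def ptFix (φ : G →* Equiv.Perm (Fin N)) : List (Fin N) → Subgroup G
  | [] => ⊤
  | b :: bs => ptFix φ bs ⊓ fixer φ b

theorem mem_ptFix {φ : G →* Equiv.Perm (Fin N)} {g : G} {bs : List (Fin N)} :
    g ∈ ptFix φ bs ↔ ∀ b ∈ bs, φ g b = b := by
  induction bs with
  | nil => simp [ptFix]
  | cons b bs ih =>
    rw [ptFix, Subgroup.mem_inf, ih, mem_fixer]
    simp only [List.mem_cons, forall_eq_or_imp]
    tauto

theorem ker_le_ptFix (φ : G →* Equiv.Perm (Fin N)) (bs : List (Fin N)) : φ.ker ≤ ptFix φ bs := by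
  intro g hg
  rw [mem_ptFix]
  intro b _
  rw [MonoidHom.mem_ker] at hg
  rw [hg]
  rfl

/-- the representation is faithful and the order is known as soon as the two bounds meet -/
theorem faithful_of_card [Finite G] {φ : G →* Equiv.Perm (Fin N)} {bs : List (Fin N)} {M : ℕ}
    (h1 : M * Nat.card (ptFix φ bs) ≤ Nat.card G) (h2 : Nat.card G ≤ M) (hM : 0 < M) :
    Function.Injective φ ∧ Nat.card G = M := by
  have hpos : 0 < Nat.card (ptFix φ bs) := Nat.card_pos
  have h3 : M * Nat.card (ptFix φ bs) ≤ M * 1 := by rw [mul_one]; exact h1.trans h2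
  have h4 : Nat.card (ptFix φ bs) ≤ 1 := Nat.le_of_mul_le_mul_left h3 hM
  have h5 : Nat.card (ptFix φ bs) = 1 := le_antisymm h4 hpos
  have h6 : ptFix φ bs = ⊥ := Subgroup.card_eq_one.mp h5
  refine ⟨?_, ?_⟩
  · rw [← MonoidHom.ker_eq_bot_iff, eq_bot_iff, ← h6]
    exact ker_le_ptFix φ bs
  · rw [h5, mul_one] at h1
    exact le_antisymm h2 h1

end chain

section words
variable {Gen : Type*} {rels : Set (FreeGroup Gen)} {gc : ℕ → Gen × Bool}
variable {px : ℕ → ℕ → ℕ} {N ncol : ℕ}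

/-- the element acting as a word -/
def welt (rels : Set (FreeGroup Gen)) (gc : ℕ → Gen × Bool) (w : List ℕ) : PresentedGroup rels :=
  (PresentedGroup.mk rels (wordElt gc w))⁻¹

variable {φ : PresentedGroup rels →* Equiv.Perm (Fin N)}

theorem welt_apply
    (hw : ∀ w, (∀ c ∈ w, c < ncol) → ∀ p : Fin N,
      ((φ (PresentedGroup.mk rels (wordElt gc w)))⁻¹ p).val = wapp px w p.val)
    (w : List ℕ) (hwl : ∀ c ∈ w, c < ncol) (p : Fin N) :
    (φ (welt rels gc w) p).val = wapp px w p.val := by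
  unfold welt
  rw [map_inv]
  exact hw w hwl p

theorem welt_mem_ptFix
    (hw : ∀ w, (∀ c ∈ w, c < ncol) → ∀ p : Fin N,
      ((φ (PresentedGroup.mk rels (wordElt gc w)))⁻¹ p).val = wapp px w p.val)
    (w : List ℕ) (hwl : ∀ c ∈ w, c < ncol) (bs : List (Fin N))
    (hfix : ∀ b ∈ bs, wapp px w b.val = b.val) :
    welt rels gc w ∈ ptFix φ bs := by
  rw [mem_ptFix]
  intro b hb
  apply Fin.ext
  rw [welt_apply hw w hwl, hfix b hb]

/-- one level of the chain, with the moves given by words -/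
theorem level_words [Finite (PresentedGroup rels)]
    (hw : ∀ w, (∀ c ∈ w, c < ncol) → ∀ p : Fin N,
      ((φ (PresentedGroup.mk rels (wordElt gc w)))⁻¹ p).val = wapp px w p.val)
    (bs : List (Fin N)) {b : ℕ} (hb : b < N) {lab rnk mv : ℕ → ℕ} (ws : List (List ℕ)) {L : ℕ}
    (horb : ∀ p < N, lab p = 1 → p = b ∨ (lab (mv p) = 1 ∧ mv p < N ∧ rnk (mv p) < rnk p))
    (hws : ∀ w ∈ ws, (∀ c ∈ w, c < ncol) ∧ ∀ b ∈ bs, wapp px w b.val = b.val)
    (hmv : ∀ p, ∃ w ∈ ws, mv p = wapp px w p)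
    (hcnt : cntLab lab 1 N = L) :
    L * Nat.card (ptFix φ (⟨b, hb⟩ :: bs)) ≤ Nat.card (ptFix φ bs) := by
  rw [← hcnt]
  refine level_lb φ (ptFix φ bs) hb horb ?_
  intro p hp _ _
  obtain ⟨w, hwm, e⟩ := hmv p
  refine ⟨welt rels gc w, welt_mem_ptFix hw w (hws w hwm).1 bs (hws w hwm).2, ?_⟩
  rw [welt_apply hw w (hws w hwm).1, e]

end words

end Cfsg.Agent.Lib.Helper6.TC
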