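import Cfsg.Agent.Lib.Helper6.TC10

set_option autoImplicit false

namespace Cfsg.Agent.Lib.Helper6.LTC

open Cfsg.Agent.Lib.Helper6.TC

/-! # A verified checker for labelled Todd–Coxeter certificates (definitions)

Names `0, …, n-1` form a tree (`NC`); the name `ν` has the value `ρ ν`, the product of the letters
on the path from the root.  A fact `f` says `ρ a * ℓ = λ * ρ b` where `ℓ` is a letter (or `1`) and
the label `λ` is a word in the first `kA` columns.  A fact is justified by a closed walk through
earlier facts which spells a trivial word and whose labels multiply to `1`; the latter is tested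
in a permutation representation of the group of the labels, on three base points. -/

section checker
variable (NC FT FL FK FS FJ WD : ℕ → ℕ) (px : ℕ → ℕ → ℕ) (ncol kA nw INV b0 b1 b2 : ℕ)

/-- source name of a fact -/
noncomputable def fa (f : ℕ) : ℕ := Nat.land (FT f) 1048575
/-- target name of a fact -/
noncomputable def fb (f : ℕ) : ℕ := Nat.land (Nat.shiftRight (FT f) 20) 1048575
/-- letter of a fact (`15`: no letter) -/
noncomputable def fl (f : ℕ) : ℕ := Nat.land (Nat.shiftRight (FT f) 40) 15
/-- kind of a fact -/
noncomputable def fk (f : ℕ) : ℕ := Nat.shiftRight (FT f) 44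

/-- push a point through the first `cnt` letters of a packed word -/
noncomputable def pushW (cnt : ℕ) : ℕ → ℕ → ℕ :=
  Nat.rec (motive := fun _ => ℕ → ℕ → ℕ) (fun _ p => p)
    (fun _ ih w p => ih (Nat.shiftRight w 4) (px (Nat.land w 15) p)) cnt

/-- push a point through a packed word whose length is in the low byte -/
noncomputable def pushP (pk p : ℕ) : ℕ := pushW px (Nat.land pk 255) (Nat.shiftRight pk 8) p

/-- the first `cnt` letters of a packed word are below `kA` -/
noncomputable def okW (cnt : ℕ) : ℕ → Bool :=
  Nat.rec (motive := fun _ => ℕ → Bool) (fun _ => true)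
    (fun _ ih w => band (Nat.blt (Nat.land w 15) kA) (ih (Nat.shiftRight w 4))) cnt

/-- the letters of a packed word whose length is in the low byte are below `kA` -/
noncomputable def okP (pk : ℕ) : Bool := okW kA (Nat.land pk 255) (Nat.shiftRight pk 8)

/-- the walk through the steps of a justification -/
noncomputable def walkS (f a : ℕ) (cnt : ℕ) : ℕ → ℕ → ℕ → ℕ → ℕ → ℕ → ℕ → Bool :=
  Nat.rec (motive := fun _ => ℕ → ℕ → ℕ → ℕ → ℕ → ℕ → ℕ → Bool)
    (fun _ cur _ r q0 q1 q2 =>
      band (Nat.beq cur a) (band (Nat.beq r 0)
        (band (Nat.beq q0 b0) (band (Nat.beq q1 b1) (Nat.beq q2 b2)))))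
    (fun _ ih steps cur w r q0 q1 q2 =>
      (fun dir g =>
        band (Nat.blt g f)
          ((fun src dst piece lg =>
            band (Nat.beq src cur)
              (Bool.rec
                (band (Nat.beq lg 15)
                  (ih (Nat.shiftRight steps 24) dst w r
                    (pushP px piece q0) (pushP px piece q1) (pushP px piece q2)))
                (band (Nat.ble 1 r)
                  (band (Nat.beq (Nat.land w 15) (Bool.rec lg (invc INV lg) (Nat.beq dir 1)))
                    (ih (Nat.shiftRight steps 24) dst (Nat.shiftRight w 4) (Nat.pred r)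
                      (pushP px piece q0) (pushP px piece q1) (pushP px piece q2))))
                (Nat.blt lg ncol)))
            (Bool.rec (fa FT g) (fb FT g) (Nat.beq dir 1))
            (Bool.rec (fb FT g) (fa FT g) (Nat.beq dir 1))
            (Bool.rec (FL g) (FK g) (Nat.beq dir 1))
            (fl FT g)))
        (Nat.land steps 1) (Nat.shiftRight (Nat.land steps 16777215) 1))
    cnt

/-- selection among three alternatives -/
noncomputable def sel3 (k : ℕ) (a0 a1 a2 : Bool) : Bool :=
  Nat.rec (motive := fun _ => Bool) a0 (fun k1 _ =>
    Nat.rec (motive := fun _ => Bool) a1 (fun k2 _ =>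
      Nat.rec (motive := fun _ => Bool) a2 (fun _ _ => false) k2) k1) k

/-- the check of a fact -/
noncomputable def chkFact (f : ℕ) : Bool :=
  (fun a b l lab ilab =>
    band (okP kA lab) (band (okP kA ilab)
      (band (Nat.beq (pushP px ilab (pushP px lab b0)) b0)
        (band (Nat.beq (pushP px ilab (pushP px lab b1)) b1)
          (band (Nat.beq (pushP px ilab (pushP px lab b2)) b2)
            (sel3 (fk FT f)
              (band (Nat.blt a b) (band (Nat.beq (par NC b) a) (band (Nat.beq (lt NC b) l)
                (band (Nat.blt l ncol) (band (Nat.beq lab 0) (Nat.beq ilab 0))))))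
              (band (Nat.beq a 0) (band (Nat.beq b 0) (band (Nat.blt l kA) (band (Nat.blt l ncol)
                (Nat.beq lab (Nat.add 1 (Nat.mul 256 l)))))))
              ((fun j => band (Nat.blt j nw)
                ((fun r w cnt steps =>
                  Bool.rec
                    (band (Nat.beq l 15)
                      (walkS FT FL FK px ncol INV b0 b1 b2 f a cnt steps b w r
                        (pushP px lab b0) (pushP px lab b1) (pushP px lab b2)))
                    (band (Nat.ble 1 r) (band (Nat.beq (Nat.land w 15) l)
                      (walkS FT FL FK px ncol INV b0 b1 b2 f a cnt steps b (Nat.shiftRight w 4)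
                        (Nat.pred r) (pushP px lab b0) (pushP px lab b1) (pushP px lab b2))))
                    (Nat.blt l ncol))
                  (Nat.land (WD j) 255) (Nat.shiftRight (WD j) 8)
                  (Nat.land (FS f) 255) (Nat.shiftRight (FS f) 8)))
                (FJ f))))))))
    (fa FT f) (fb FT f) (fl FT f) (FL f) (FK f)

end checker

end Cfsg.Agent.Lib.Helper6.LTC
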