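import Cfsg.Agent.Lib.Helper6.LTC1

set_option autoImplicit false

namespace Cfsg.Agent.Lib.Helper6.LTC

open Cfsg.Agent.Lib.Helper6.TC

/-! # Soundness of the checker for labelled Todd–Coxeter certificates -/

section unfold
variable (NC FT FL FK FS FJ WD : ℕ → ℕ) (px : ℕ → ℕ → ℕ) (ncol kA nw INV b0 b1 b2 : ℕ)

theorem pushW_succ (k w p : ℕ) :
    pushW px (k + 1) w p = pushW px k (Nat.shiftRight w 4) (px (Nat.land w 15) p) := rfl

theorem pushW_eq (cnt w p : ℕ) : pushW px cnt w p = wapp px (lets w cnt) p := by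
  induction cnt generalizing w p with
  | zero => rfl
  | succ k ih =>
    rw [pushW_succ, ih]
    rfl

/-- the letters of a packed word whose length is in the low byte -/
def plets (pk : ℕ) : List ℕ := lets (Nat.shiftRight pk 8) (Nat.land pk 255)

theorem pushP_eq (pk p : ℕ) : pushP px pk p = wapp px (plets pk) p := pushW_eq px _ _ _

theorem okW_succ (k w : ℕ) :
    okW kA (k + 1) w = band (Nat.blt (Nat.land w 15) kA) (okW kA k (Nat.shiftRight w 4)) := rfl

theorem okW_spec (cnt w : ℕ) (h : okW kA cnt w = true) : ∀ c ∈ lets w cnt, c < kA := by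
  induction cnt generalizing w with
  | zero => intro c hc; simp [lets] at hc
  | succ k ih =>
    rw [okW_succ, band_eq_true, Nat.blt_eq] at h
    intro c hc
    simp only [lets, List.mem_cons] at hc
    rcases hc with rfl | hc
    · exact h.1
    · exact ih _ h.2 c hc

theorem okP_spec (pk : ℕ) (h : okP kA pk = true) : ∀ c ∈ plets pk, c < kA := okW_spec kA _ _ h

theorem walkS_zero (f a steps cur w r q0 q1 q2 : ℕ) :
    walkS FT FL FK px ncol INV b0 b1 b2 f a 0 steps cur w r q0 q1 q2 =
      band (Nat.beq cur a) (band (Nat.beq r 0)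
        (band (Nat.beq q0 b0) (band (Nat.beq q1 b1) (Nat.beq q2 b2)))) := rfl

/-- direction of the first step -/
noncomputable def sdir (steps : ℕ) : ℕ := Nat.land steps 1
/-- fact of the first step -/
noncomputable def sfact (steps : ℕ) : ℕ := Nat.shiftRight (Nat.land steps 16777215) 1

theorem walkS_succ (f a k steps cur w r q0 q1 q2 : ℕ) :
    walkS FT FL FK px ncol INV b0 b1 b2 f a (k + 1) steps cur w r q0 q1 q2 =
      band (Nat.blt (sfact steps) f)
        (band (Nat.beq (Bool.rec (fa FT (sfact steps)) (fb FT (sfact steps)) (Nat.beq (sdir steps) 1)) cur)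
          (Bool.rec
            (band (Nat.beq (fl FT (sfact steps)) 15)
              (walkS FT FL FK px ncol INV b0 b1 b2 f a k (Nat.shiftRight steps 24)
                (Bool.rec (fb FT (sfact steps)) (fa FT (sfact steps)) (Nat.beq (sdir steps) 1)) w r
                (pushP px (Bool.rec (FL (sfact steps)) (FK (sfact steps)) (Nat.beq (sdir steps) 1)) q0)
                (pushP px (Bool.rec (FL (sfact steps)) (FK (sfact steps)) (Nat.beq (sdir steps) 1)) q1)
                (pushP px (Bool.rec (FL (sfact steps)) (FK (sfact steps)) (Nat.beq (sdir steps) 1)) q2)))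
            (band (Nat.ble 1 r)
              (band (Nat.beq (Nat.land w 15)
                  (Bool.rec (fl FT (sfact steps)) (invc INV (fl FT (sfact steps))) (Nat.beq (sdir steps) 1)))
                (walkS FT FL FK px ncol INV b0 b1 b2 f a k (Nat.shiftRight steps 24)
                  (Bool.rec (fb FT (sfact steps)) (fa FT (sfact steps)) (Nat.beq (sdir steps) 1))
                  (Nat.shiftRight w 4) (Nat.pred r)
                  (pushP px (Bool.rec (FL (sfact steps)) (FK (sfact steps)) (Nat.beq (sdir steps) 1)) q0)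
                  (pushP px (Bool.rec (FL (sfact steps)) (FK (sfact steps)) (Nat.beq (sdir steps) 1)) q1)
                  (pushP px (Bool.rec (FL (sfact steps)) (FK (sfact steps)) (Nat.beq (sdir steps) 1)) q2))))
            (Nat.blt (fl FT (sfact steps)) ncol))) := rfl

theorem sel3_true {k : ℕ} {a0 a1 a2 : Bool} (h : sel3 k a0 a1 a2 = true) :
    (k = 0 ∧ a0 = true) ∨ (k = 1 ∧ a1 = true) ∨ (k = 2 ∧ a2 = true) := by
  match k, h with
  | 0, h => exact Or.inl ⟨rfl, h⟩
  | 1, h => exact Or.inr (Or.inl ⟨rfl, h⟩)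
  | 2, h => exact Or.inr (Or.inr ⟨rfl, h⟩)
  | (k + 3), h => exact absurd h (by simp [sel3])

theorem lets_succ' (w r : ℕ) (hr : 1 ≤ r) :
    lets w r = Nat.land w 15 :: lets (Nat.shiftRight w 4) (Nat.pred r) := by
  obtain ⟨k, rfl⟩ : ∃ k, r = k + 1 := ⟨r - 1, by omega⟩
  rfl

end unfold

section sem
variable (NC FT FL FK FS FJ WD : ℕ → ℕ) (px : ℕ → ℕ → ℕ) (ncol kA nw nf INV b0 b1 b2 : ℕ)
variable {Gen : Type*} (rels : Set (FreeGroup Gen)) (gc : ℕ → Gen × Bool)

/-- the value of a name -/
noncomputable def rho (ν : ℕ) : PresentedGroup rels :=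
  val NC (fun c q => q * PresentedGroup.mk rels (ceOf gc c)) 1 ν

/-- the value of a letter -/
noncomputable def Lt (l : ℕ) : PresentedGroup rels :=
  if l < ncol then PresentedGroup.mk rels (ceOf gc l) else 1

/-- the value of a packed word -/
noncomputable def Wd (pk : ℕ) : PresentedGroup rels := PresentedGroup.mk rels (wordElt gc (plets pk))

/-- the statement of a fact -/
def Claim (f : ℕ) : Prop :=
  rho NC rels gc (fa FT f) * Lt ncol rels gc (fl FT f) = Wd rels gc (FL f) * rho NC rels gc (fb FT f)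

/-- the two labels of a fact are inverse to each other -/
def InvLab (f : ℕ) : Prop := Wd rels gc (FK f) = (Wd rels gc (FL f))⁻¹

/-- the labels are words in the first columns -/
def LabOk (f : ℕ) : Prop := (∀ c ∈ plets (FL f), c < kA) ∧ (∀ c ∈ plets (FK f), c < kA)

/-- the hypotheses of the soundness theorem -/
structure LHyp : Prop where
  hinvG : ∀ c < ncol, PresentedGroup.mk rels (ceOf gc (invc INV c)) =
    (PresentedGroup.mk rels (ceOf gc c))⁻¹
  hwords : ∀ j < nw, PresentedGroup.mk rels (wordElt gc (wordL WD j)) = 1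
  horacle : ∀ wd : List ℕ, (∀ c ∈ wd, c < kA) → wapp px wd b0 = b0 → wapp px wd b1 = b1 →
    wapp px wd b2 = b2 → PresentedGroup.mk rels (wordElt gc wd) = 1
  hkA : kA ≤ 16
  hF : ∀ f < nf, chkFact NC FT FL FK FS FJ WD px ncol kA nw INV b0 b1 b2 f = true

variable {NC FT FL FK FS FJ WD px ncol kA nw nf INV b0 b1 b2 rels gc}

theorem rho_zero : rho NC rels gc 0 = 1 := val_zero _ _ _

theorem rho_succ {a b l : ℕ} (hab : a < b) (hp : par NC b = a) (hl : lt NC b = l) :
    rho NC rels gc b = rho NC rels gc a * PresentedGroup.mk rels (ceOf gc l) := by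
  unfold rho
  rw [val_eq, if_pos ⟨by omega, by omega⟩, hp, hl]

/-- one step of a walk -/
theorem step_eq (H : LHyp NC FT FL FK FS FJ WD px ncol kA nw nf INV b0 b1 b2 rels gc) {g : ℕ}
    (hg : Claim NC FT FL ncol rels gc g ∧ InvLab FL FK rels gc g ∧ LabOk FL FK kA g) (dir : ℕ) :
    rho NC rels gc (if dir = 1 then fb FT g else fa FT g) *
        (if fl FT g < ncol then
          PresentedGroup.mk rels (ceOf gc (if dir = 1 then invc INV (fl FT g) else fl FT g)) else 1) =
      Wd rels gc (if dir = 1 then FK g else FL g) *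
        rho NC rels gc (if dir = 1 then fa FT g else fb FT g) ∧
    ∀ c ∈ plets (if dir = 1 then FK g else FL g), c < kA := by
  obtain ⟨h1, h2, h3⟩ := hg
  unfold Claim Lt at h1
  by_cases hd : dir = 1
  · simp only [if_pos hd]
    refine ⟨?_, h3.2⟩
    rw [h2]
    by_cases hl : fl FT g < ncol
    · rw [if_pos hl] at h1 ⊢
      rw [H.hinvG _ hl]
      rw [eq_inv_mul_iff_mul_eq, ← mul_assoc, ← h1, mul_assoc, mul_inv_cancel, mul_one]
    · rw [if_neg hl] at h1 ⊢
      rw [mul_one] at h1 ⊢
      rw [eq_inv_mul_iff_mul_eq, h1]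
  · simp only [if_neg hd]
    refine ⟨?_, h3.1⟩
    by_cases hl : fl FT g < ncol
    · rw [if_pos hl] at h1 ⊢
      exact h1
    · rw [if_neg hl] at h1 ⊢
      exact h1

theorem walkS_sound (H : LHyp NC FT FL FK FS FJ WD px ncol kA nw nf INV b0 b1 b2 rels gc) {f a : ℕ}
    (IH : ∀ g < f, Claim NC FT FL ncol rels gc g ∧ InvLab FL FK rels gc g ∧ LabOk FL FK kA g) :
    ∀ (cnt steps cur w r q0 q1 q2 : ℕ) (wd : List ℕ), (∀ c ∈ wd, c < kA) →
      q0 = wapp px wd b0 → q1 = wapp px wd b1 → q2 = wapp px wd b2 →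
      walkS FT FL FK px ncol INV b0 b1 b2 f a cnt steps cur w r q0 q1 q2 = true →
      ∃ wd' : List ℕ, (∀ c ∈ wd', c < kA) ∧ wapp px (wd ++ wd') b0 = b0 ∧
        wapp px (wd ++ wd') b1 = b1 ∧ wapp px (wd ++ wd') b2 = b2 ∧
        rho NC rels gc cur * PresentedGroup.mk rels (wordElt gc (lets w r)) =
          PresentedGroup.mk rels (wordElt gc wd') * rho NC rels gc a := by
  intro cnt
  induction cnt with
  | zero =>
    intro steps cur w r q0 q1 q2 wd hwd e0 e1 e2 h
    rw [walkS_zero] at h
    simp only [band_eq_true, Nat.beq_eq] at h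
    obtain ⟨rfl, rfl, h0, h1, h2⟩ := h
    refine ⟨[], by simp, ?_, ?_, ?_, ?_⟩
    · rw [List.append_nil, ← e0, h0]
    · rw [List.append_nil, ← e1, h1]
    · rw [List.append_nil, ← e2, h2]
    · simp [lets, wordElt_nil]
  | succ k ih =>
    intro steps cur w r q0 q1 q2 wd hwd e0 e1 e2 h
    rw [walkS_succ] at h
    simp only [brec_beq] at h
    rw [band_eq_true, band_eq_true, Nat.blt_eq, Nat.beq_eq] at h
    obtain ⟨hgf, hsrc, h⟩ := h
    obtain ⟨hstep, hpl⟩ := step_eq H (IH _ hgf) (sdir steps)
    rw [hsrc] at hstep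
    set piece := (if sdir steps = 1 then FK (sfact steps) else FL (sfact steps)) with hpiece
    set dst := (if sdir steps = 1 then fa FT (sfact steps) else fb FT (sfact steps)) with hdst
    have hwd2 : ∀ c ∈ wd ++ plets piece, c < kA := by
      intro c hc
      rcases List.mem_append.mp hc with hc | hc
      · exact hwd c hc
      · exact hpl c hc
    have p0 : pushP px piece q0 = wapp px (wd ++ plets piece) b0 := by
      rw [pushP_eq, wapp_append, e0]
    have p1 : pushP px piece q1 = wapp px (wd ++ plets piece) b1 := by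
      rw [pushP_eq, wapp_append, e1]
    have p2 : pushP px piece q2 = wapp px (wd ++ plets piece) b2 := by
      rw [pushP_eq, wapp_append, e2]
    by_cases hl : fl FT (sfact steps) < ncol
    · rw [brec_blt, if_pos hl, band_eq_true, band_eq_true, Nat.ble_eq, Nat.beq_eq] at h
      obtain ⟨hr, hy, h⟩ := h
      obtain ⟨wd'', hw'', a0, a1, a2, heq⟩ := ih _ _ _ _ _ _ _ (wd ++ plets piece) hwd2 p0 p1 p2 h
      refine ⟨plets piece ++ wd'', ?_, ?_, ?_, ?_, ?_⟩
      · intro c hc
        rcases List.mem_append.mp hc with hc | hc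
        · exact hpl c hc
        · exact hw'' c hc
      · rw [← List.append_assoc]; exact a0
      · rw [← List.append_assoc]; exact a1
      · rw [← List.append_assoc]; exact a2
      · rw [lets_succ' w r hr, wordElt_cons, map_mul, ← mul_assoc, hy]
        rw [if_pos hl] at hstep
        rw [hstep, mul_assoc, heq, wordElt_append, map_mul, mul_assoc]
        rfl
    · rw [brec_blt, if_neg hl, band_eq_true] at h
      obtain ⟨_, h⟩ := h
      obtain ⟨wd'', hw'', a0, a1, a2, heq⟩ := ih _ _ _ _ _ _ _ (wd ++ plets piece) hwd2 p0 p1 p2 h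
      refine ⟨plets piece ++ wd'', ?_, ?_, ?_, ?_, ?_⟩
      · intro c hc
        rcases List.mem_append.mp hc with hc | hc
        · exact hpl c hc
        · exact hw'' c hc
      · rw [← List.append_assoc]; exact a0
      · rw [← List.append_assoc]; exact a1
      · rw [← List.append_assoc]; exact a2
      · rw [if_neg hl, mul_one] at hstep
        rw [hstep, mul_assoc, heq, wordElt_append, map_mul, mul_assoc]
        rfl

end sem

end Cfsg.Agent.Lib.Helper6.LTC
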