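import Cfsg.Agent.Lib.Helper6.LTC2

set_option autoImplicit false

namespace Cfsg.Agent.Lib.Helper6.LTC

open Cfsg.Agent.Lib.Helper6.TC

/-! # Soundness of the checker for labelled Todd–Coxeter certificates: all facts hold -/

section sem
variable {NC FT FL FK FS FJ WD : ℕ → ℕ} {px : ℕ → ℕ → ℕ} {ncol kA nw nf INV b0 b1 b2 : ℕ}
variable {Gen : Type*} {rels : Set (FreeGroup Gen)} {gc : ℕ → Gen × Bool}

theorem plets_zero : plets 0 = [] := rfl

theorem plets_single {l : ℕ} (hl : l < 16) : plets (Nat.add 1 (Nat.mul 256 l)) = [l] := by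
  unfold plets
  have e1 : Nat.land (Nat.add 1 (Nat.mul 256 l)) 255 = 1 := by
    change (1 + 256 * l) &&& (2 ^ 8 - 1) = 1
    rw [Nat.and_two_pow_sub_one_eq_mod]
    omega
  have e2 : Nat.shiftRight (Nat.add 1 (Nat.mul 256 l)) 8 = l := by
    change (1 + 256 * l) >>> 8 = l
    rw [Nat.shiftRight_eq_div_pow]
    omega
  rw [e1, e2]
  have e3 : Nat.land l 15 = l := by
    change l &&& (2 ^ 4 - 1) = l
    rw [Nat.and_two_pow_sub_one_eq_mod]
    omega
  simp only [lets, e3]

theorem fact_sound (H : LHyp NC FT FL FK FS FJ WD px ncol kA nw nf INV b0 b1 b2 rels gc) :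
    ∀ f < nf, Claim NC FT FL ncol rels gc f ∧ InvLab FL FK rels gc f ∧ LabOk FL FK kA f := by
  intro f
  induction f using Nat.strong_induction_on with
  | _ f IHf =>
    intro hf
    have IH : ∀ g < f, Claim NC FT FL ncol rels gc g ∧ InvLab FL FK rels gc g ∧ LabOk FL FK kA g :=
      fun g hg => IHf g hg (by omega)
    have h := H.hF f hf
    unfold chkFact at h
    rw [band_eq_true, band_eq_true, band_eq_true, band_eq_true, band_eq_true, Nat.beq_eq, Nat.beq_eq,
      Nat.beq_eq] at h
    obtain ⟨hok1, hok2, hi0, hi1, hi2, hsel⟩ := h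
    have hl1 := okP_spec kA _ hok1
    have hl2 := okP_spec kA _ hok2
    have hinv : Wd rels gc (FL f) * Wd rels gc (FK f) = 1 := by
      have := H.horacle (plets (FL f) ++ plets (FK f))
        (by
          intro c hc
          rcases List.mem_append.mp hc with hc | hc
          · exact hl1 c hc
          · exact hl2 c hc)
        (by rw [wapp_append, ← pushP_eq, ← pushP_eq]; exact hi0)
        (by rw [wapp_append, ← pushP_eq, ← pushP_eq]; exact hi1)
        (by rw [wapp_append, ← pushP_eq, ← pushP_eq]; exact hi2)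
      rw [wordElt_append, map_mul] at this
      exact this
    have hInv : InvLab FL FK rels gc f := eq_inv_of_mul_eq_one_right hinv
    refine ⟨?_, hInv, hl1, hl2⟩
    rcases sel3_true hsel with ⟨_, h0⟩ | ⟨_, h1⟩ | ⟨_, h2⟩
    · -- a definition
      rw [band_eq_true, band_eq_true, band_eq_true, band_eq_true, band_eq_true, Nat.blt_eq,
        Nat.beq_eq, Nat.beq_eq, Nat.blt_eq, Nat.beq_eq, Nat.beq_eq] at h0
      obtain ⟨hab, hp, hlt, hlc, hlab, _⟩ := h0
      unfold Claim Lt Wd
      rw [if_pos hlc, hlab, plets_zero, wordElt_nil, map_one, one_mul, rho_succ hab hp hlt]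
    · -- a generator of the subgroup
      rw [band_eq_true, band_eq_true, band_eq_true, band_eq_true, Nat.beq_eq, Nat.beq_eq,
        Nat.blt_eq, Nat.blt_eq, Nat.beq_eq] at h1
      obtain ⟨ha, hb, hlk, hlc, hlab⟩ := h1
      unfold Claim Lt Wd
      rw [if_pos hlc, ha, hb, hlab, plets_single (by have := H.hkA; omega), rho_zero, one_mul,
        mul_one, wordElt_cons, wordElt_nil, mul_one]
    · -- a closed walk
      rw [band_eq_true, Nat.blt_eq] at h2
      obtain ⟨hj, h2⟩ := h2
      beta_reduce at h2
      have hword := H.hwords _ hj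
      have ewd : wordL WD (FJ f) = lets (Nat.shiftRight (WD (FJ f)) 8) (Nat.land (WD (FJ f)) 255) := rfl
      rw [ewd] at hword
      have hwd : ∀ c ∈ plets (FL f), c < kA := hl1
      by_cases hl : fl FT f < ncol
      · rw [brec_blt, if_pos hl, band_eq_true, band_eq_true, Nat.ble_eq, Nat.beq_eq] at h2
        obtain ⟨hr, hy, hwalk⟩ := h2
        obtain ⟨wd', hw', a0, a1, a2, heq⟩ := walkS_sound H IH _ _ _ _ _ _ _ _ (plets (FL f)) hwd
          (pushP_eq px _ _) (pushP_eq px _ _) (pushP_eq px _ _) hwalk
        have hor := H.horacle (plets (FL f) ++ wd')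
          (by
            intro c hc
            rcases List.mem_append.mp hc with hc | hc
            · exact hl1 c hc
            · exact hw' c hc) a0 a1 a2
        rw [wordElt_append, map_mul] at hor
        rw [lets_succ' _ _ hr, wordElt_cons, map_mul, hy] at hword
        have e1 : PresentedGroup.mk rels (wordElt gc (lets (Nat.shiftRight (Nat.shiftRight (WD (FJ f)) 8) 4)
            (Nat.pred (Nat.land (WD (FJ f)) 255)))) =
            (PresentedGroup.mk rels (ceOf gc (fl FT f)))⁻¹ := eq_inv_of_mul_eq_one_right hword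
        rw [e1] at heq
        have e2 : Wd rels gc (FL f) = (PresentedGroup.mk rels (wordElt gc wd'))⁻¹ :=
          eq_inv_of_mul_eq_one_left hor
        unfold Claim Lt
        rw [if_pos hl, e2, eq_inv_mul_iff_mul_eq, ← mul_assoc, ← heq, mul_assoc, inv_mul_cancel, mul_one]
      · rw [brec_blt, if_neg hl, band_eq_true] at h2
        obtain ⟨_, hwalk⟩ := h2
        obtain ⟨wd', hw', a0, a1, a2, heq⟩ := walkS_sound H IH _ _ _ _ _ _ _ _ (plets (FL f)) hwd
          (pushP_eq px _ _) (pushP_eq px _ _) (pushP_eq px _ _) hwalk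
        have hor := H.horacle (plets (FL f) ++ wd')
          (by
            intro c hc
            rcases List.mem_append.mp hc with hc | hc
            · exact hl1 c hc
            · exact hw' c hc) a0 a1 a2
        rw [wordElt_append, map_mul] at hor
        rw [hword, mul_one] at heq
        have e2 : Wd rels gc (FL f) = (PresentedGroup.mk rels (wordElt gc wd'))⁻¹ :=
          eq_inv_of_mul_eq_one_left hor
        unfold Claim Lt
        rw [if_neg hl, mul_one, e2, eq_inv_mul_iff_mul_eq, heq]

/-- a fact from a name to itself without letter: its label is trivial -/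
theorem label_trivial (H : LHyp NC FT FL FK FS FJ WD px ncol kA nw nf INV b0 b1 b2 rels gc) {f : ℕ}
    (hf : f < nf) (hab : fa FT f = fb FT f) (hl : ¬ fl FT f < ncol) :
    PresentedGroup.mk rels (wordElt gc (plets (FL f))) = 1 := by
  have h := (fact_sound H f hf).1
  unfold Claim Lt at h
  rw [if_neg hl, mul_one, hab] at h
  have := mul_right_cancel (h.symm.trans (one_mul _).symm)
  exact this

end sem

end Cfsg.Agent.Lib.Helper6.LTC
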