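import Mathlib

set_option autoImplicit false

namespace Cfsg.Agent.Lib.Helper6.M12


/-- the certificate for one level of the stabilizer chain -/
structure Lvl where
  m : ℕ
  m' : ℕ
  α : Fin 12
  Δ : List (Fin 12)
  rw : Fin 12 → List (Fin 8)
  kw : Fin 8 → Fin 12 → List (Fin 8)

/-- tables of the generators `u, v, w, s, t, x₁, x₂, x₃` -/
def TT : Fin 8 → Fin 12 → Fin 12 := ![![0, 1, 2, 3, 6, 9, 5, 8, 11, 4, 7, 10], ![0, 1, 2, 3, 7, 11, 10, 5, 6, 8, 9, 4], ![0, 1, 2, 3, 10, 8, 11, 6, 4, 7, 5, 9], ![0, 1, 2, 4, 5, 3, 7, 8, 6, 10, 11, 9], ![0, 1, 2, 6, 7, 8, 9, 10, 11, 3, 4, 5], ![3, 1, 2, 0, 4, 5, 7, 6, 10, 11, 8, 9], ![1, 0, 2, 3, 4, 5, 9, 10, 11, 6, 7, 8], ![0, 2, 1, 3, 4, 5, 11, 9, 10, 7, 8, 6]]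

/-- evaluation of a word at a point -/
def ev (l : List (Fin 8)) (x : Fin 12) : Fin 12 := l.foldr (fun j acc => TT j acc) x

/-- validity of a certificate, first part -/
def Lvl.okA (L : Lvl) : Prop :=
  L.m' ≤ L.m ∧ L.α ∈ L.Δ ∧ L.rw L.α = [] ∧ L.Δ.Nodup ∧
  (∀ j : Fin 8, j.val < L.m' → TT j L.α = L.α)

instance (L : Lvl) : Decidable L.okA := by unfold Lvl.okA; infer_instance

/-- validity of a certificate, second part -/
def Lvl.okB (L : Lvl) : Prop :=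
  ∀ δ ∈ L.Δ, (∀ j ∈ L.rw δ, j.val < L.m) ∧ ev (L.rw δ) L.α = δ

instance (L : Lvl) : Decidable L.okB := by unfold Lvl.okB; infer_instance

/-- validity of a certificate, third part -/
def Lvl.okC (L : Lvl) : Prop :=
  ∀ j : Fin 8, j.val < L.m → ∀ δ ∈ L.Δ, TT j δ ∈ L.Δ ∧ (∀ i ∈ L.kw j δ, i.val < L.m') ∧
     ∀ x : Fin 12, ev (j :: L.rw δ) x = ev (L.rw (TT j δ) ++ L.kw j δ) x

instance (L : Lvl) : Decidable L.okC := by unfold Lvl.okC; infer_instance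

/-- validity of a certificate -/
def Lvl.ok (L : Lvl) : Prop := L.okA ∧ L.okB ∧ L.okC

instance (L : Lvl) : Decidable L.ok := by unfold Lvl.ok; infer_instance

def L1 : Lvl where
  m := 3
  m' := 0
  α := 4
  Δ := [4, 5, 6, 7, 8, 9, 10, 11]
  rw := ![[], [], [], [], [], [0, 0], [0], [1], [0, 1], [1, 2], [2], [2, 0]]
  kw := ![![[], [], [], [], [], [], [], [], [], [], [], []],
    ![[], [], [], [], [], [], [], [], [], [], [], []],
    ![[], [], [], [], [], [], [], [], [], [], [], []],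
    ![[], [], [], [], [], [], [], [], [], [], [], []],
    ![[], [], [], [], [], [], [], [], [], [], [], []],
    ![[], [], [], [], [], [], [], [], [], [], [], []],
    ![[], [], [], [], [], [], [], [], [], [], [], []],
    ![[], [], [], [], [], [], [], [], [], [], [], []]]

def L2 : Lvl where
  m := 5
  m' := 3
  α := 3
  Δ := [3, 4, 5, 6, 7, 8, 9, 10, 11]
  rw := ![[], [], [], [], [3], [3, 3], [4], [1, 3], [0, 1, 3], [4, 4], [2, 3], [2, 4]]
  kw := ![![[], [], [], [0], [0], [0], [0], [], [0], [0], [], [1, 2]],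
    ![[], [], [], [1], [], [1, 2], [1, 2], [0, 0], [0], [0], [1, 2], [1, 2]],
    ![[], [], [], [2], [], [0, 0], [], [0], [], [0], [0, 0], [0, 0]],
    ![[], [], [], [], [], [], [2, 0], [0], [0, 1], [0, 1], [], [2]],
    ![[], [], [], [], [2, 0], [2], [], [1, 2], [0, 0], [], [2], [2]],
    ![[], [], [], [], [], [], [], [], [], [], [], []],
    ![[], [], [], [], [], [], [], [], [], [], [], []],
    ![[], [], [], [], [], [], [], [], [], [], [], []]]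

def L3 : Lvl where
  m := 6
  m' := 5
  α := 0
  Δ := [0, 3, 4, 5, 6, 7, 8, 9, 10, 11]
  rw := ![[], [], [], [5], [3, 5], [3, 3, 5], [4, 5], [1, 3, 5], [0, 1, 3, 5], [4, 4, 5], [2, 3, 5], [2, 4, 5]]
  kw := ![![[0], [], [], [1], [1], [1], [1], [], [1], [1], [], [2, 0]],
    ![[1], [], [], [0], [], [2, 0], [2, 0], [0, 0], [1], [1], [2, 0], [2, 0]],
    ![[2], [], [], [0, 1], [], [0, 0], [], [1], [], [1], [0, 0], [0, 0]],
    ![[3], [], [], [], [], [], [1, 2], [1], [2], [2], [], [0, 1]],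
    ![[4], [], [], [], [1, 2], [0, 1], [], [2, 0], [0, 0], [], [0, 1], [0, 1]],
    ![[], [], [], [], [0, 4, 0], [3, 0, 0], [3, 3, 1], [2, 4, 0], [0, 4, 0], [2, 4, 0, 1], [0, 4, 0], [4, 3]],
    ![[], [], [], [], [], [], [], [], [], [], [], []],
    ![[], [], [], [], [], [], [], [], [], [], [], []]]

def L4 : Lvl where
  m := 7
  m' := 6
  α := 1
  Δ := [0, 1, 3, 4, 5, 6, 7, 8, 9, 10, 11]
  rw := ![[6], [], [], [5, 6], [3, 5, 6], [3, 3, 5, 6], [4, 5, 6], [1, 3, 5, 6], [0, 1, 3, 5, 6], [4, 4, 5, 6], [2, 3, 5, 6], [2, 4, 5, 6]]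
  kw := ![![[1, 2], [0], [], [2], [2], [2], [2], [], [2], [2], [], [0, 1]],
    ![[2], [1], [], [1, 2], [], [0, 1], [0, 1], [0, 0], [2], [2], [0, 1], [0, 1]],
    ![[1], [2], [], [2, 0], [], [0, 0], [], [2], [], [2], [0, 0], [0, 0]],
    ![[3], [3], [], [], [], [], [0], [2], [1], [1], [], [2, 0]],
    ![[4, 4], [4], [], [], [0], [2, 0], [], [0, 1], [0, 0], [], [2, 0], [2, 0]],
    ![[], [5], [], [], [0, 4, 0], [3, 0, 0], [3, 3, 2], [0, 1, 3], [0, 4, 0], [4, 3, 3], [0, 4, 0], [4, 4, 3]],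
    ![[], [], [], [5], [5], [5], [5], [5], [2, 5], [5], [5], [2, 5]],
    ![[], [], [], [], [], [], [], [], [], [], [], []]]

def L5 : Lvl where
  m := 8
  m' := 7
  α := 2
  Δ := [0, 1, 2, 3, 4, 5, 6, 7, 8, 9, 10, 11]
  rw := ![[6, 7], [7], [], [5, 6, 7], [3, 5, 6, 7], [3, 3, 5, 6, 7], [4, 5, 6, 7], [1, 3, 5, 6, 7], [0, 1, 3, 5, 6, 7], [4, 4, 5, 6, 7], [2, 3, 5, 6, 7], [2, 4, 5, 6, 7]]
  kw := ![![[1], [2, 0], [0], [0, 1], [0, 1], [0, 1], [0, 1], [], [0, 1], [0, 1], [], [2]],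
    ![[0, 1], [1, 2], [1], [1], [], [2], [2], [0, 0], [0, 1], [0, 1], [2], [2]],
    ![[1, 2], [0, 1], [2], [0], [], [0, 0], [], [0, 1], [], [0, 1], [0, 0], [0, 0]],
    ![[3], [3], [3], [], [], [], [2, 0], [0, 1], [1, 2], [1, 2], [], [0]],
    ![[4, 3], [2, 4, 0, 1], [4], [], [2, 0], [0], [], [2], [0, 0], [], [0], [0]],
    ![[], [5], [5], [], [0, 4, 0], [3, 0, 0], [0, 4, 1], [2, 3], [0, 4, 0], [4, 4, 3], [0, 4, 0], [4, 3, 3]],
    ![[], [], [6], [5], [5], [5], [5], [5], [5, 2], [5], [5], [5, 2]],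
    ![[6], [], [], [6], [6], [6], [6, 0], [6, 1], [6], [6, 0, 1], [6], [6, 0]]]


theorem L1_ok : L1.ok := by decide
theorem L2_ok : L2.ok := by decide
theorem L3_ok : L3.ok := by decide
theorem L4_ok : L4.ok := by decide
theorem L5_ok : L5.ok := by decide


/-! ### the generators as permutations -/

def gU : Equiv.Perm (Fin 12) := Equiv.swap (4 : Fin 12) 9 * Equiv.swap (4 : Fin 12) 5 * Equiv.swap (4 : Fin 12) 6 * Equiv.swap (7 : Fin 12) 10 * Equiv.swap (7 : Fin 12) 11 * Equiv.swap (7 : Fin 12) 8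
def gV : Equiv.Perm (Fin 12) := Equiv.swap (4 : Fin 12) 11 * Equiv.swap (4 : Fin 12) 5 * Equiv.swap (4 : Fin 12) 7 * Equiv.swap (6 : Fin 12) 8 * Equiv.swap (6 : Fin 12) 9 * Equiv.swap (6 : Fin 12) 10
def gW : Equiv.Perm (Fin 12) := Equiv.swap (4 : Fin 12) 8 * Equiv.swap (4 : Fin 12) 5 * Equiv.swap (4 : Fin 12) 10 * Equiv.swap (6 : Fin 12) 7 * Equiv.swap (6 : Fin 12) 9 * Equiv.swap (6 : Fin 12) 11
def gS : Equiv.Perm (Fin 12) := Equiv.swap (3 : Fin 12) 5 * Equiv.swap (3 : Fin 12) 4 * Equiv.swap (6 : Fin 12) 8 * Equiv.swap (6 : Fin 12) 7 * Equiv.swap (9 : Fin 12) 11 * Equiv.swap (9 : Fin 12) 10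
def gT : Equiv.Perm (Fin 12) := Equiv.swap (3 : Fin 12) 9 * Equiv.swap (3 : Fin 12) 6 * Equiv.swap (4 : Fin 12) 10 * Equiv.swap (4 : Fin 12) 7 * Equiv.swap (5 : Fin 12) 11 * Equiv.swap (5 : Fin 12) 8
def gX1 : Equiv.Perm (Fin 12) := Equiv.swap (0 : Fin 12) 3 * Equiv.swap (6 : Fin 12) 7 * Equiv.swap (8 : Fin 12) 10 * Equiv.swap (9 : Fin 12) 11
def gX2 : Equiv.Perm (Fin 12) := Equiv.swap (0 : Fin 12) 1 * Equiv.swap (6 : Fin 12) 9 * Equiv.swap (7 : Fin 12) 10 * Equiv.swap (8 : Fin 12) 11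
def gX3 : Equiv.Perm (Fin 12) := Equiv.swap (1 : Fin 12) 2 * Equiv.swap (6 : Fin 12) 11 * Equiv.swap (7 : Fin 12) 9 * Equiv.swap (8 : Fin 12) 10

def gen : Fin 8 → Equiv.Perm (Fin 12) := ![gU, gV, gW, gS, gT, gX1, gX2, gX3]

theorem gen_apply : ∀ (j : Fin 8) (x : Fin 12), gen j x = TT j x := by decide

def wp (l : List (Fin 8)) : Equiv.Perm (Fin 12) := (l.map gen).prod

theorem wp_nil : wp [] = 1 := rfl

theorem wp_cons (j : Fin 8) (l : List (Fin 8)) : wp (j :: l) = gen j * wp l := by simp [wp]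

theorem wp_append (l l' : List (Fin 8)) : wp (l ++ l') = wp l * wp l' := by simp [wp]

theorem wp_apply (l : List (Fin 8)) (x : Fin 12) : wp l x = ev l x := by
  induction l with
  | nil => rfl
  | cons j l ih => rw [wp_cons, Equiv.Perm.mul_apply, ih, gen_apply]; rfl

/-- the group generated by the first `m` generators -/
def GG (m : ℕ) : Subgroup (Equiv.Perm (Fin 12)) :=
  Subgroup.closure {g | ∃ j : Fin 8, j.val < m ∧ gen j = g}

theorem gen_mem (m : ℕ) (j : Fin 8) (h : j.val < m) : gen j ∈ GG m :=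
  Subgroup.subset_closure ⟨j, h, rfl⟩

theorem wp_mem (m : ℕ) (l : List (Fin 8)) (h : ∀ j ∈ l, j.val < m) : wp l ∈ GG m := by
  induction l with
  | nil => exact (GG m).one_mem
  | cons j l ih =>
    rw [wp_cons]
    exact (GG m).mul_mem (gen_mem m j (h j (List.mem_cons_self ..)))
      (ih (fun i hi => h i (List.mem_cons_of_mem _ hi)))

theorem GG_mono {m m' : ℕ} (h : m' ≤ m) : GG m' ≤ GG m :=
  Subgroup.closure_mono (fun _ ⟨j, hj, e⟩ => ⟨j, lt_of_lt_of_le hj h, e⟩)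

theorem GG_fix (m : ℕ) (x : Fin 12) (h : ∀ j : Fin 8, j.val < m → TT j x = x) :
    ∀ g ∈ GG m, g x = x := by
  have : GG m ≤ MulAction.stabilizer (Equiv.Perm (Fin 12)) x := by
    unfold GG
    rw [Subgroup.closure_le]
    rintro _ ⟨j, hj, rfl⟩
    rw [SetLike.mem_coe, MulAction.mem_stabilizer_iff, Equiv.Perm.smul_def, gen_apply]
    exact h j hj
  intro g hg
  have := this hg
  rwa [MulAction.mem_stabilizer_iff, Equiv.Perm.smul_def] at this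

theorem Lvl.decomp (L : Lvl) (h : L.ok) :
    ∀ g ∈ GG L.m, ∃ δ ∈ L.Δ, ∃ k ∈ GG L.m', g = wp (L.rw δ) * k := by
  obtain ⟨⟨hmm, hα, hrα, hnd, hfix⟩, hrw, hkw⟩ := h
  intro g hg
  have hg' : g ∈ (GG L.m).toSubmonoid := hg
  unfold GG at hg'
  rw [Subgroup.closure_toSubmonoid_of_finite] at hg'
  induction hg' using Submonoid.closure_induction_left with
  | one =>
    refine ⟨L.α, hα, 1, (GG L.m').one_mem, ?_⟩
    rw [hrα, wp_nil, mul_one]
  | mul_left x hx y hy ih =>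
    obtain ⟨j, hj, rfl⟩ := hx
    have hy' : y ∈ GG L.m := by
      have : y ∈ (GG L.m).toSubmonoid := by
        unfold GG
        rw [Subgroup.closure_toSubmonoid_of_finite]
        exact hy
      exact this
    obtain ⟨δ, hδ, k, hk, rfl⟩ := ih hy'
    obtain ⟨h1, h2, h3⟩ := hkw j hj δ hδ
    refine ⟨TT j δ, h1, wp (L.kw j δ) * k, (GG L.m').mul_mem (wp_mem _ _ h2) hk, ?_⟩
    have key : gen j * wp (L.rw δ) = wp (L.rw (TT j δ)) * wp (L.kw j δ) := by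
      rw [← wp_cons, ← wp_append]
      ext x
      rw [wp_apply, wp_apply, h3 x]
    rw [← mul_assoc, key, mul_assoc]

theorem Lvl.fixα (L : Lvl) (h : L.ok) : ∀ k ∈ GG L.m', k L.α = L.α :=
  GG_fix L.m' L.α h.1.2.2.2.2

theorem Lvl.rw_apply (L : Lvl) (h : L.ok) (δ : Fin 12) (hδ : δ ∈ L.Δ) :
    wp (L.rw δ) ∈ GG L.m ∧ wp (L.rw δ) L.α = δ := by
  obtain ⟨h1, h2⟩ := h.2.1 δ hδ
  exact ⟨wp_mem _ _ h1, by rw [wp_apply, h2]⟩

theorem Lvl.stab (L : Lvl) (h : L.ok) :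
    GG L.m ⊓ MulAction.stabilizer (Equiv.Perm (Fin 12)) L.α = GG L.m' := by
  apply le_antisymm
  · intro g hg0
    obtain ⟨hg, hgα⟩ := Subgroup.mem_inf.1 hg0
    rw [MulAction.mem_stabilizer_iff, Equiv.Perm.smul_def] at hgα
    obtain ⟨δ, hδ, k, hk, rfl⟩ := L.decomp h g hg
    rw [Equiv.Perm.mul_apply, L.fixα h k hk, (L.rw_apply h δ hδ).2] at hgα
    subst hgα
    rw [h.1.2.2.1, wp_nil, one_mul]
    exact hk
  · intro k hk
    refine Subgroup.mem_inf.2 ⟨GG_mono h.1.1 hk, ?_⟩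
    rw [MulAction.mem_stabilizer_iff, Equiv.Perm.smul_def]
    exact L.fixα h k hk

theorem Lvl.card (L : Lvl) (h : L.ok) :
    Nat.card (GG L.m) = L.Δ.length * Nat.card (GG L.m') := by
  classical
  have hcardΔ : Nat.card {δ // δ ∈ L.Δ} = L.Δ.length := by
    rw [Nat.card_eq_fintype_card, Fintype.card_of_subtype L.Δ.toFinset (by simp),
      List.toFinset_card_of_nodup h.1.2.2.2.1]
  rw [← hcardΔ, ← Nat.card_prod]
  symm
  apply Nat.card_congr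
  refine Equiv.ofBijective
    (fun x : {δ // δ ∈ L.Δ} × GG L.m' =>
      (⟨wp (L.rw x.1.1) * x.2.1,
        (GG L.m).mul_mem (L.rw_apply h x.1.1 x.1.2).1 (GG_mono h.1.1 x.2.2)⟩ : GG L.m)) ⟨?_, ?_⟩
  · rintro ⟨⟨δ, hδ⟩, ⟨k, hk⟩⟩ ⟨⟨δ', hδ'⟩, ⟨k', hk'⟩⟩ heq
    have heq' : wp (L.rw δ) * k = wp (L.rw δ') * k' := congrArg Subtype.val heq
    have h1 := congrArg (fun f : Equiv.Perm (Fin 12) => f L.α) heq'
    simp only [Equiv.Perm.mul_apply] at h1
    rw [L.fixα h k hk, L.fixα h k' hk', (L.rw_apply h δ hδ).2, (L.rw_apply h δ' hδ').2] at h1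
    subst h1
    have h2 : k = k' := mul_left_cancel heq'
    subst h2
    rfl
  · rintro ⟨g, hg⟩
    obtain ⟨δ, hδ, k, hk, rfl⟩ := L.decomp h g hg
    exact ⟨⟨⟨δ, hδ⟩, ⟨k, hk⟩⟩, rfl⟩


end Cfsg.Agent.Lib.Helper6.M12
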