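import Mathlib
import Cfsg.Prelude.Def_Sporadic_a
import Cfsg.Agent.Lib.Helper9.TabPerm
import Cfsg.Agent.Lib.Helper6.M24Syl1

set_option autoImplicit false
open Cfsg

namespace Cfsg.Agent.Lib.Helper6.M24Syl

open Cfsg.Agent.Lib.Helper9.M24 (tperm tabOK tabM24 tget natOfPt ptOfNat natOfPt_tperm natOfPt_lt
  natOfPt_injective natOfPt_ptOfNat ptOfNat_natOfPt tperm_mem)

def tabs : List (List ℕ) :=
  [[0, 1, 2, 3, 6, 5, 4, 22, 20, 12, 11, 10, 9, 19, 14, 18, 21, 17, 15, 13, 8, 16, 7, 23],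
   [0, 1, 2, 3, 7, 5, 22, 4, 15, 11, 12, 9, 10, 21, 14, 8, 19, 17, 20, 16, 18, 13, 6, 23],
   [0, 1, 2, 3, 8, 5, 20, 15, 4, 21, 19, 13, 16, 11, 14, 7, 12, 17, 22, 10, 6, 9, 18, 23],
   [0, 1, 2, 3, 9, 5, 12, 11, 21, 4, 22, 7, 6, 15, 14, 13, 20, 17, 19, 18, 16, 8, 10, 23],
   [0, 2, 1, 3, 4, 5, 15, 10, 11, 19, 7, 8, 12, 13, 17, 6, 22, 14, 18, 9, 21, 20, 16, 23],
   [0, 1, 2, 5, 4, 3, 21, 19, 11, 10, 9, 8, 18, 13, 17, 20, 16, 14, 12, 7, 15, 6, 22, 23],
   [0, 1, 2, 14, 4, 17, 7, 6, 12, 15, 20, 18, 8, 13, 3, 9, 16, 5, 11, 21, 10, 19, 22, 23],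
   [23, 1, 2, 3, 4, 5, 10, 15, 8, 21, 6, 11, 18, 13, 17, 7, 22, 14, 12, 20, 19, 9, 16, 0],
   [1, 0, 23, 3, 4, 5, 21, 19, 18, 15, 20, 12, 11, 13, 14, 9, 16, 17, 8, 7, 10, 6, 22, 2],
   [3, 14, 17, 0, 4, 23, 6, 21, 11, 9, 20, 8, 12, 13, 1, 15, 22, 2, 18, 19, 10, 7, 16, 5]]

def Wl : List (List (List ℕ)) :=
  [[],
   [[0]],
   [[0], [1]],
   [[0], [1], [2]],
   [[1, 2], [0, 1, 3], [1, 3], [0, 1, 2, 3]],
   [[2, 3], [0, 1, 2, 3], [1, 3], [0, 1, 3], [4]],
   [[1], [0], [0, 3], [1, 2], [4, 5], [5]],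
   [[0, 1, 3], [1, 2], [2], [2, 3], [4], [5], [5, 6]],
   [[2, 3], [0, 1, 2, 3], [0, 1, 2], [1, 2], [7], [5], [6], [4]],
   [[0], [2, 3], [1, 3], [3], [4], [4, 7], [8], [4, 5], [6]]]

def lab0L : List ℕ := [0, 0, 0, 0, 4, 0, 4, 4, 4, 4, 4, 4, 4, 4, 0, 4, 4, 0, 4, 4, 4, 4, 4, 0]

def tw0L : List (List ℕ) := [[], [8], [4, 8], [9], [], [5, 9], [0], [1], [2], [3], [0, 1, 3], [1, 3], [0, 3], [1, 2, 3], [6, 9], [1, 2], [0, 2, 3], [5, 6, 9], [0, 1, 2], [0, 1, 2, 3], [0, 2], [2, 3], [0, 1], [7]]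

def labDL : List ℕ := [0, 0, 0, 0, 4, 0, 6, 6, 8, 6, 6, 8, 8, 13, 0, 6, 16, 0, 8, 6, 6, 6, 16, 0]

def twDL : List (List ℕ) := [[], [8], [4, 8], [9], [], [5, 9], [], [6], [], [5, 7], [7], [5], [6], [], [6, 9], [4], [], [4, 6, 9], [8], [6, 8], [4, 5], [8], [7], [7]]

/-- the `k`-th generator table -/
def T (k : ℕ) : List ℕ := tabs.getD k (List.range 24)

theorem tabs_ok : ∀ t ∈ List.range 24 :: tabs, tabOK t = true ∧ tabM24 t = true := by decide +kernel

theorem T_mem (k : ℕ) : T k ∈ List.range 24 :: tabs := by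
  unfold T
  rw [List.getD_eq_getElem?_getD]
  rcases h : tabs[k]? with _ | t
  · simp
  · simp only [Option.getD_some]
    exact List.mem_cons_of_mem _ (List.mem_of_getElem? h)

theorem T_ok (k : ℕ) : tabOK (T k) = true := (tabs_ok _ (T_mem k)).1

/-- the `k`-th generator -/
def gen (k : ℕ) : Equiv.Perm GolayPt := tperm (T k)

theorem gen_mem_M24 (k : ℕ) : gen k ∈ M24 := tperm_mem (T_ok k) (tabs_ok _ (T_mem k)).2

theorem natOfPt_gen (k : ℕ) (p : GolayPt) : natOfPt (gen k p) = tget (T k) (natOfPt p) :=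
  natOfPt_tperm (T_ok k) p

/-- evaluation of a word at an index -/
def evN (w : List ℕ) (x : ℕ) : ℕ := w.foldr (fun k acc => tget (T k) acc) x

theorem natOfPt_wp (w : List ℕ) (p : GolayPt) : natOfPt (wp gen w p) = evN w (natOfPt p) := by
  induction w with
  | nil => rfl
  | cons k w ih =>
    rw [wp_cons, Equiv.Perm.mul_apply, natOfPt_gen, ih]
    rfl

theorem C_le_M24 (a b : ℕ) : C gen a b ≤ M24 := C_le gen M24 (fun k _ _ => gen_mem_M24 k)

/-- equality of permutations from equality of index maps -/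
theorem perm_ext {f g : Equiv.Perm GolayPt} (h : ∀ p, natOfPt (f p) = natOfPt (g p)) : f = g :=
  Equiv.ext fun p => natOfPt_injective (h p)

/-! ### the polycyclic relations -/

def W (i j : ℕ) : List ℕ := (Wl.getD i []).getD j []

theorem pc_rel : ∀ i < 10, (∀ x < 24, tget (T i) (tget (T i) x) = x) ∧ ∀ j < i, (∀ k ∈ W i j, k < i) ∧
    ∀ x < 24, tget (T i) (tget (T j) x) = evN (W i j ++ [i]) x := by decide +kernel

theorem S0_isPGroup : IsPGroup 2 (C gen 0 10) := by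
  apply pc_isPGroup
  intro n hn
  obtain ⟨h1, h2⟩ := pc_rel n hn
  constructor
  · intro j hj
    obtain ⟨h3, h4⟩ := h2 j hj
    have : gen n * gen j * (gen n)⁻¹ = wp gen (W n j) := by
      rw [mul_inv_eq_iff_eq_mul]
      apply perm_ext
      intro p
      have e : wp gen (W n j) * gen n = wp gen (W n j ++ [n]) := by
        rw [wp_append, wp_cons, wp_nil, mul_one]
      rw [e, natOfPt_wp, Equiv.Perm.mul_apply, natOfPt_gen, natOfPt_gen]
      exact h4 _ (natOfPt_lt p)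
    rw [this]
    exact wp_mem gen _ (fun k hk => ⟨Nat.zero_le _, h3 k hk⟩)
  · have : gen n * gen n = 1 := by
      apply perm_ext
      intro p
      rw [Equiv.Perm.mul_apply, natOfPt_gen, natOfPt_gen]
      exact h1 _ (natOfPt_lt p)
    rw [this]
    exact (C gen 0 n).one_mem

/-! ### orbit certificates -/

theorem rel_iff_of_cert (a b : ℕ) (labL : List ℕ) (twL : List (List ℕ))
    (hinv : ∀ k < b, a ≤ k → ∀ i < 24, labL.getD (tget (T k) i) 0 = labL.getD i 0)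
    (hconn : ∀ i < 24, labL.getD i 0 < 24 ∧ (∀ k ∈ twL.getD i [], a ≤ k ∧ k < b) ∧
      evN (twL.getD i []) (labL.getD i 0) = i) (x y : GolayPt) :
    Rel (C gen a b) x y ↔ labL.getD (natOfPt x) 0 = labL.getD (natOfPt y) 0 := by
  constructor
  · rintro ⟨s, hs, rfl⟩
    have key : ∀ s ∈ C gen a b, ∀ x, labL.getD (natOfPt (s x)) 0 = labL.getD (natOfPt x) 0 := by
      intro s hs
      unfold C at hs
      induction hs using Subgroup.closure_induction with
      | mem g hg =>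
        obtain ⟨k, ⟨hk1, hk2⟩, rfl⟩ := hg
        intro x
        rw [natOfPt_gen]
        exact hinv k hk2 hk1 _ (natOfPt_lt x)
      | one => intro x; rfl
      | mul g h _ _ ihg ihh =>
        intro x
        rw [Equiv.Perm.mul_apply, ihg, ihh]
      | inv g _ ih =>
        intro x
        have := ih (g⁻¹ x)
        rw [show g (g⁻¹ x) = x from by simp] at this
        exact this.symm
    exact (key s hs x).symm
  · intro h
    have key : ∀ z : GolayPt, Rel (C gen a b) (ptOfNat (labL.getD (natOfPt z) 0)) z := by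
      intro z
      obtain ⟨h1, h2, h3⟩ := hconn _ (natOfPt_lt z)
      refine ⟨wp gen (twL.getD (natOfPt z) []), wp_mem gen _ h2, ?_⟩
      apply natOfPt_injective
      rw [natOfPt_wp, natOfPt_ptOfNat _ h1, h3]
    have h1 := key x
    have h2 := key y
    rw [h] at h1
    exact h1.symm.trans h2

theorem rel_S0 (x y : GolayPt) :
    Rel (C gen 0 10) x y ↔ lab0L.getD (natOfPt x) 0 = lab0L.getD (natOfPt y) 0 :=
  rel_iff_of_cert 0 10 lab0L tw0L (by decide +kernel) (by decide +kernel) x y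

theorem rel_D (x y : GolayPt) :
    Rel (C gen 4 10) x y ↔ labDL.getD (natOfPt x) 0 = labDL.getD (natOfPt y) 0 :=
  rel_iff_of_cert 4 10 labDL twDL (by decide +kernel) (by decide +kernel) x y

end Cfsg.Agent.Lib.Helper6.M24Syl
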