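import Mathlib
import Cfsg.Prelude.Def_Sporadic_a
import Cfsg.Agent.Lib.Helper9.TabPerm
import Cfsg.Agent.Lib.Helper9.M24F
import Cfsg.Agent.Lib.Helper6.M24Syl2

set_option autoImplicit false
open Cfsg

namespace Cfsg.Agent.Lib.Helper6.M24Syl

open Cfsg.Agent.Lib.Helper9.M24 (tperm tabOK tabM24 tget natOfPt ptOfNat natOfPt_tperm natOfPt_lt
  natOfPt_injective natOfPt_ptOfNat ptOfNat_natOfPt tperm_mem card_M24)

theorem factorization_M24 : (Nat.card M24).factorization 2 = 10 := by
  rw [card_M24, show (244823040 : ℕ) = 2^10 * 239085 by norm_num,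
    Nat.factorization_mul (by norm_num) (by norm_num), Nat.Prime.factorization_pow Nat.prime_two]
  have : (239085 : ℕ).factorization 2 = 0 := Nat.factorization_eq_zero_of_not_dvd (by norm_num)
  simp [this]

theorem card_two_group_le {Q : Subgroup (Equiv.Perm GolayPt)} (hQ : Q ≤ M24) (h2 : IsPGroup 2 Q) :
    Nat.card Q ≤ 1024 := by
  haveI : Fact (Nat.Prime 2) := ⟨Nat.prime_two⟩
  have h3 : IsPGroup 2 (Q.subgroupOf M24) := h2.comap_of_injective M24.subtype M24.subtype_injective
  obtain ⟨P, hP⟩ := h3.exists_le_sylow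
  have h4 : Nat.card (P : Subgroup M24) = 2 ^ 10 := by
    rw [Sylow.card_eq_multiplicity, factorization_M24]
  have h5 := Subgroup.card_dvd_of_le hP
  rw [h4] at h5
  have h6 : Nat.card (Q.subgroupOf M24) = Nat.card Q :=
    Nat.card_congr (Subgroup.subgroupOfEquivOfLe hQ).toEquiv
  rw [h6] at h5
  exact Nat.le_of_dvd (by norm_num) h5

theorem C_fix (a b : ℕ) (x : GolayPt)
    (h : ∀ k < b, a ≤ k → tget (T k) (natOfPt x) = natOfPt x) : ∀ s ∈ C gen a b, s x = x := by
  have : C gen a b ≤ MulAction.stabilizer (Equiv.Perm GolayPt) x := by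
    apply C_le
    intro k hk1 hk2
    rw [MulAction.mem_stabilizer_iff, Equiv.Perm.smul_def]
    apply natOfPt_injective
    rw [natOfPt_gen]
    exact h k hk2 hk1
  intro s hs
  have := this hs
  rwa [MulAction.mem_stabilizer_iff, Equiv.Perm.smul_def] at this

theorem lb_words (a b : ℕ) (K : Subgroup (Equiv.Perm GolayPt)) (hK : K ≤ C gen a b) (x : GolayPt)
    (hx : ∀ k ∈ K, k x = x) (ws : List (List ℕ)) (hws : ∀ w ∈ ws, ∀ k ∈ w, a ≤ k ∧ k < b)
    (hnd : (ws.map (fun w => evN w (natOfPt x))).Nodup) :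
    ws.length * Nat.card K ≤ Nat.card (C gen a b) := by
  have := lb (C gen a b) K hK x hx (ws.map (wp gen)) ?_ ?_
  · rwa [List.length_map] at this
  · intro f hf
    obtain ⟨w, hw, rfl⟩ := List.mem_map.mp hf
    exact wp_mem gen w (hws w hw)
  · apply List.Nodup.of_map natOfPt
    rw [List.map_map, List.map_map]
    have : ((natOfPt ∘ (fun f : Equiv.Perm GolayPt => f x)) ∘ wp gen) = fun w => evN w (natOfPt x) := by
      funext w
      exact natOfPt_wp w x
    rw [this]
    exact hnd

theorem card_E1 : 2 ≤ Nat.card (C gen 4 5) := by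
  have := lb_words 4 5 ⊥ bot_le (some 1) (by intro k hk; rw [Subgroup.mem_bot] at hk; rw [hk]; rfl)
    [[], [4]] (by decide) (by decide +kernel)
  simpa using this

theorem card_E3 : 8 ≤ Nat.card (C gen 4 7) := by
  have := lb_words 4 7 (C gen 4 5) (C_mono gen le_rfl (by norm_num)) (some 3)
    (C_fix 4 5 (some 3) (by decide +kernel))
    [[], [5], [6], [4, 6]] (by decide) (by decide +kernel)
  have h := card_E1
  simp only [List.length_cons, List.length_nil] at this
  omega

theorem card_D : 64 ≤ Nat.card (C gen 4 10) := by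
  have := lb_words 4 10 (C gen 4 7) (C_mono gen le_rfl (by norm_num)) none
    (C_fix 4 7 none (by decide +kernel))
    [[7], [4, 8], [8], [5, 9], [9], [4, 6, 9], [6, 9], []] (by decide) (by decide +kernel)
  have h := card_E3
  simp only [List.length_cons, List.length_nil] at this
  omega

/-- the stabilizer of the point `4` in the big group -/
def S1 : Subgroup (Equiv.Perm GolayPt) :=
  C gen 0 10 ⊓ MulAction.stabilizer (Equiv.Perm GolayPt) (some 4 : GolayPt)

theorem D_le_S1 : C gen 4 10 ≤ S1 := by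
  apply le_inf (C_mono gen (by norm_num) le_rfl)
  intro s hs
  rw [MulAction.mem_stabilizer_iff, Equiv.Perm.smul_def]
  exact C_fix 4 10 (some 4) (by decide +kernel) s hs

theorem card_S0_ge : 16 * Nat.card S1 ≤ Nat.card (C gen 0 10) := by
  have := lb_words 0 10 S1 inf_le_left (some 4)
    (by
      intro k hk
      have := (Subgroup.mem_inf.mp hk).2
      rwa [MulAction.mem_stabilizer_iff, Equiv.Perm.smul_def] at this)
    [[], [0], [1], [2], [3], [0, 1, 3], [1, 3], [0, 3], [1, 2, 3], [1, 2], [0, 2, 3], [0, 1, 2],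
      [0, 1, 2, 3], [0, 2], [2, 3], [0, 1]] (by decide) (by decide +kernel)
  simpa using this

theorem card_S0_le : Nat.card (C gen 0 10) ≤ 1024 := card_two_group_le (C_le_M24 0 10) S0_isPGroup

theorem card_S0 : Nat.card (C gen 0 10) = 1024 := by
  have h1 := card_S0_ge
  have h2 := card_S0_le
  have h3 := card_D
  have h4 := Subgroup.card_le_of_le D_le_S1
  omega

theorem D_eq_S1 : C gen 4 10 = S1 := by
  apply Subgroup.eq_of_le_of_card_ge D_le_S1
  have h1 := card_S0_ge
  have h2 := card_S0_le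
  have h3 := card_D
  omega

theorem mem_D_iff (s : Equiv.Perm GolayPt) :
    s ∈ C gen 4 10 ↔ s ∈ C gen 0 10 ∧ s (some 4) = some 4 := by
  rw [D_eq_S1, S1, Subgroup.mem_inf, MulAction.mem_stabilizer_iff, Equiv.Perm.smul_def]

end Cfsg.Agent.Lib.Helper6.M24Syl
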