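import Mathlib
import Cfsg.Prelude.Def_Sporadic_a
import Cfsg.Agent.Lib.Helper9.TabPerm
import Cfsg.Agent.Lib.Helper6.M24Syl3

set_option autoImplicit false
open Cfsg

namespace Cfsg.Agent.Lib.Helper6.M24Q

open Cfsg.Agent.Lib.Helper9.M24 (tperm tabOK tabM24 tget natOfPt ptOfNat natOfPt_tperm natOfPt_lt
  natOfPt_injective natOfPt_ptOfNat ptOfNat_natOfPt tperm_mem)
open Cfsg.Agent.Lib.Helper6.M24Syl (C gen_mem_C C_mono C_le wp wp_nil wp_cons wp_append wp_mem pc_step
  pc_isPGroup perm_ext card_two_group_le card_S0)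

/-! ### normal forms in a polycyclic group -/

section nf
variable {G : Type*} [Group G] [Finite G]

theorem nf_exists (gen : ℕ → G) (N : ℕ)
    (h : ∀ n < N, (∀ j, j < n → gen n * gen j * (gen n)⁻¹ ∈ C gen 0 n) ∧
      gen n * gen n ∈ C gen 0 n) :
    ∀ m ≤ N, ∀ y ∈ C gen 0 m, ∃ w : List ℕ, w.Sublist (List.range m) ∧ y = wp gen w := by
  intro m
  induction m with
  | zero =>
    intro _ y hy
    have : C gen 0 0 = ⊥ := by
      unfold C
      rw [Set.Ico_self, Set.image_empty, Subgroup.closure_empty]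
    rw [this, Subgroup.mem_bot] at hy
    exact ⟨[], by simp, by rw [hy, wp_nil]⟩
  | succ m ih =>
    intro hm y hy
    rcases pc_step gen m (h m hm).1 (h m hm).2 y hy with h1 | h1
    · obtain ⟨w, hw, rfl⟩ := ih (Nat.le_of_succ_le hm) y h1
      refine ⟨w, ?_, rfl⟩
      rw [List.range_succ]
      exact hw.trans (List.sublist_append_left _ _)
    · obtain ⟨w, hw, hyw⟩ := ih (Nat.le_of_succ_le hm) _ h1
      refine ⟨w ++ [m], ?_, ?_⟩
      · rw [List.range_succ]
        exact List.Sublist.append hw (List.Sublist.refl _)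
      · rw [wp_append, wp_cons, wp_nil, mul_one, ← hyw]
        group

end nf

/-! ### a polycyclic generating sequence of the Sylow `2`-subgroup of `M24` adapted to the centre
and to the preimage of the abelian subgroup of order `64` of the central quotient -/

def tabs2 : List (List ℕ) :=
  [[0, 1, 2, 3, 13, 5, 19, 21, 11, 15, 20, 8, 18, 4, 14, 9, 22, 17, 12, 6, 10, 7, 16, 23],
   [0, 1, 2, 3, 6, 5, 4, 22, 20, 12, 11, 10, 9, 19, 14, 18, 21, 17, 15, 13, 8, 16, 7, 23],
   [0, 1, 2, 3, 7, 5, 22, 4, 15, 11, 12, 9, 10, 21, 14, 8, 19, 17, 20, 16, 18, 13, 6, 23],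
   [0, 1, 2, 3, 8, 5, 20, 15, 4, 21, 19, 13, 16, 11, 14, 7, 12, 17, 22, 10, 6, 9, 18, 23],
   [1, 0, 23, 14, 4, 17, 19, 21, 11, 9, 10, 8, 18, 13, 3, 15, 16, 5, 12, 6, 20, 7, 22, 2],
   [2, 23, 0, 17, 4, 14, 6, 7, 11, 15, 20, 8, 18, 13, 5, 9, 16, 3, 12, 19, 10, 21, 22, 1],
   [3, 14, 17, 0, 4, 23, 6, 21, 11, 9, 20, 8, 12, 13, 1, 15, 22, 2, 18, 19, 10, 7, 16, 5],
   [0, 1, 2, 5, 4, 3, 21, 19, 11, 10, 9, 8, 18, 13, 17, 20, 16, 14, 12, 7, 15, 6, 22, 23],
   [0, 1, 2, 14, 4, 17, 7, 6, 12, 15, 20, 18, 8, 13, 3, 9, 16, 5, 11, 21, 10, 19, 22, 23],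
   [0, 2, 1, 3, 4, 5, 15, 10, 11, 19, 7, 8, 12, 13, 17, 6, 22, 14, 18, 9, 21, 20, 16, 23]]

def Wl2 : List (List (List ℕ)) :=
  [[],
   [[0]],
   [[0], [1]],
   [[0], [1], [2]],
   [[0], [0, 1], [0, 2], [0, 3]],
   [[0], [1], [2], [0, 3], [4]],
   [[0], [1], [0, 2], [0, 3], [4], [5]],
   [[0], [0, 2], [0, 1], [0, 3], [4], [5], [4, 5, 6]],
   [[0], [2], [1], [0, 1, 2, 3], [4], [5], [4, 6], [7]],
   [[0], [2, 3], [0, 1, 3], [0, 3], [5], [4], [6], [7], [7, 8]]]

/-- the old generators as words in the new ones -/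
def oldW : List (List ℕ) := [[1], [2], [3], [0, 2, 3], [9], [7], [8], [4, 5, 7, 9], [4, 8], [6]]

/-- the `k`-th generator table -/
def T2 (k : ℕ) : List ℕ := tabs2.getD k (List.range 24)

theorem tabs2_ok : ∀ t ∈ List.range 24 :: tabs2, tabOK t = true ∧ tabM24 t = true := by decide +kernel

theorem T2_mem (k : ℕ) : T2 k ∈ List.range 24 :: tabs2 := by
  unfold T2
  rw [List.getD_eq_getElem?_getD]
  rcases h : tabs2[k]? with _ | t
  · simp
  · simp only [Option.getD_some]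
    exact List.mem_cons_of_mem _ (List.mem_of_getElem? h)

theorem T2_ok (k : ℕ) : tabOK (T2 k) = true := (tabs2_ok _ (T2_mem k)).1

/-- the `k`-th generator -/
def gen2 (k : ℕ) : Equiv.Perm GolayPt := tperm (T2 k)

theorem gen2_mem_M24 (k : ℕ) : gen2 k ∈ M24 := tperm_mem (T2_ok k) (tabs2_ok _ (T2_mem k)).2

theorem natOfPt_gen2 (k : ℕ) (p : GolayPt) : natOfPt (gen2 k p) = tget (T2 k) (natOfPt p) :=
  natOfPt_tperm (T2_ok k) p

/-- evaluation of a word at an index -/
def evN2 (w : List ℕ) (x : ℕ) : ℕ := w.foldr (fun k acc => tget (T2 k) acc) x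

theorem evN2_append (w w' : List ℕ) (x : ℕ) : evN2 (w ++ w') x = evN2 w (evN2 w' x) := by
  unfold evN2
  rw [List.foldr_append]

theorem natOfPt_wp2 (w : List ℕ) (p : GolayPt) : natOfPt (wp gen2 w p) = evN2 w (natOfPt p) := by
  induction w with
  | nil => rfl
  | cons k w ih =>
    rw [wp_cons, Equiv.Perm.mul_apply, natOfPt_gen2, ih]
    rfl

theorem evN2_lt (w : List ℕ) {x : ℕ} (hx : x < 24) : evN2 w x < 24 := by
  have := natOfPt_wp2 w (ptOfNat x)
  rw [natOfPt_ptOfNat x hx] at this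
  rw [← this]
  exact natOfPt_lt _

theorem C2_le_M24 (a b : ℕ) : C gen2 a b ≤ M24 := C_le gen2 M24 (fun k _ _ => gen2_mem_M24 k)

def W2 (i j : ℕ) : List ℕ := (Wl2.getD i []).getD j []

theorem pc_rel2 : ∀ i < 10, (∀ x < 24, tget (T2 i) (tget (T2 i) x) = x) ∧ ∀ j < i, (∀ k ∈ W2 i j, k < i) ∧
    ∀ x < 24, tget (T2 i) (tget (T2 j) x) = evN2 (W2 i j ++ [i]) x := by decide +kernel

theorem pc_hyp2 : ∀ n < 10, (∀ j, j < n → gen2 n * gen2 j * (gen2 n)⁻¹ ∈ C gen2 0 n) ∧
      gen2 n * gen2 n ∈ C gen2 0 n := by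
  intro n hn
  obtain ⟨h1, h2⟩ := pc_rel2 n hn
  constructor
  · intro j hj
    obtain ⟨h3, h4⟩ := h2 j hj
    have : gen2 n * gen2 j * (gen2 n)⁻¹ = wp gen2 (W2 n j) := by
      rw [mul_inv_eq_iff_eq_mul]
      apply perm_ext
      intro p
      have e : wp gen2 (W2 n j) * gen2 n = wp gen2 (W2 n j ++ [n]) := by
        rw [wp_append, wp_cons, wp_nil, mul_one]
      rw [e, natOfPt_wp2, Equiv.Perm.mul_apply, natOfPt_gen2, natOfPt_gen2]
      exact h4 _ (natOfPt_lt p)
    rw [this]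
    exact wp_mem gen2 _ (fun k hk => ⟨Nat.zero_le _, h3 k hk⟩)
  · have : gen2 n * gen2 n = 1 := by
      apply perm_ext
      intro p
      rw [Equiv.Perm.mul_apply, natOfPt_gen2, natOfPt_gen2]
      exact h1 _ (natOfPt_lt p)
    rw [this]
    exact (C gen2 0 n).one_mem

theorem S2_isPGroup : IsPGroup 2 (C gen2 0 10) := pc_isPGroup gen2 10 pc_hyp2

theorem nf2 : ∀ y ∈ C gen2 0 10, ∃ w : List ℕ, w.Sublist (List.range 10) ∧ y = wp gen2 w :=
  nf_exists gen2 10 pc_hyp2 10 le_rfl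

/-- every generator (also with index out of range, where it is trivial) lies in the group -/
theorem gen2_mem (k : ℕ) : gen2 k ∈ C gen2 0 10 := by
  by_cases hk : k < 10
  · exact gen_mem_C gen2 (Nat.zero_le _) hk
  · have : gen2 k = 1 := by
      apply perm_ext
      intro p
      rw [natOfPt_gen2]
      have hT : T2 k = List.range 24 := by
        unfold T2
        rw [List.getD_eq_default]
        simp only [tabs2, List.length_cons, List.length_nil]
        omega
      rw [hT]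
      have : ∀ q : GolayPt, tget (List.range 24) (natOfPt q) = natOfPt q := by decide
      exact this p
    rw [this]
    exact Subgroup.one_mem _

theorem wp2_mem (w : List ℕ) : wp gen2 w ∈ C gen2 0 10 := by
  induction w with
  | nil => exact Subgroup.one_mem _
  | cons k w ih =>
    rw [wp_cons]
    exact Subgroup.mul_mem _ (gen2_mem k) ih

/-- the old generators are words in the new ones -/
theorem old_rel : ∀ k < 10, ∀ x < 24, tget (M24Syl.T k) x = evN2 (oldW.getD k []) x := by decide +kernel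

theorem S0_le_S2 : C M24Syl.gen 0 10 ≤ C gen2 0 10 := by
  apply C_le
  intro k _ hk
  have : M24Syl.gen k = wp gen2 (oldW.getD k []) := by
    apply perm_ext
    intro p
    rw [M24Syl.natOfPt_gen, natOfPt_wp2]
    exact old_rel k hk _ (natOfPt_lt p)
  rw [this]
  exact wp2_mem _

theorem card_S2 : Nat.card (C gen2 0 10) = 1024 := by
  apply le_antisymm (card_two_group_le (C2_le_M24 0 10) S2_isPGroup)
  rw [← card_S0]
  exact Nat.card_le_card_of_injective (Subgroup.inclusion S0_le_S2) (Subgroup.inclusion_injective _)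

end Cfsg.Agent.Lib.Helper6.M24Q
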