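import Mathlib
import Cfsg.Prelude.Def_Sporadic_a
import Cfsg.Agent.Lib.Helper6.M24Q1

set_option autoImplicit false
open Cfsg

namespace Cfsg.Agent.Lib.Helper6.M24Q

open Cfsg.Agent.Lib.Helper9.M24 (tget)

/-- all sublists, defined structurally -/
def subl : List ℕ → List (List ℕ)
  | [] => [[]]
  | x :: l => subl l ++ (subl l).map (x :: ·)

theorem mem_subl {w l : List ℕ} (h : w.Sublist l) : w ∈ subl l := by
  induction h with
  | slnil => simp [subl]
  | cons a _ ih =>
    simp only [subl, List.mem_append]
    exact Or.inl ih
  | cons_cons a _ ih =>
    simp only [subl, List.mem_append, List.mem_map]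
    exact Or.inr ⟨_, ih, rfl⟩

/-- equality of the permutations given by two words -/
def teq (w w' : List ℕ) : Bool := (List.range 24).all (fun x => evN2 w x == evN2 w' x)

/-- equality modulo the centre -/
def qeq (a b : List ℕ) : Bool := teq a b || teq (a ++ [0]) b

/-- commuting modulo the centre -/
def qcomm (a b : List ℕ) : Bool := qeq (a ++ b) (b ++ a)

def LA : List (List ℕ) := subl [1, 2, 3, 4, 5, 6]

def TL : List (List ℕ) := subl [7, 8, 9]

def LU : List (List ℕ) :=
  [[], [1, 2], [3], [1, 2, 3], [4], [1, 2, 4], [5], [1, 2, 5], [4, 5], [1, 2, 4, 5], [3, 4, 5],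
    [1, 2, 3, 4, 5]]

def bad (w : List ℕ) (p : ℕ × ℕ) : Bool := !qcomm w [p.1] && !qcomm w [p.2] && !qcomm w [p.1, p.2]

def FixL (ts : List (List ℕ)) : List (List ℕ) := LA.filter (fun a => ts.all (fun t => qcomm a t))

def UCert : List (Option (ℕ × ℕ)) :=
    [none, some (1, 4), some (1, 6), some (1, 3), some (1, 6), some (1, 4), some (3, 6), some (1,
   3), some (7, 8), some (1, 4), some (1, 6), some (1, 3), some (1, 6), some (1, 4), some (3, 6),
   some (1, 3), none, some (1, 4), some (1, 6), some (1, 3), some (1, 6), some (1, 4), some (3,
   6), some (1, 3), some (7, 8), some (1, 4), some (1, 6), some (1, 3), some (1, 6), some (1, 4),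
   some (3, 6), some (1, 3), none, some (1, 4), some (1, 6), some (1, 3), some (1, 6), some (1,
   4), some (3, 6), some (1, 3), some (7, 8), some (1, 4), some (1, 6), some (1, 3), some (1, 6),
   some (1, 4), some (3, 6), some (1, 3), none, some (1, 4), some (1, 6), some (1, 3), some (1,
   6), some (1, 4), some (3, 6), some (1, 3), some (7, 8), some (1, 4), some (1, 6), some (1, 3),
   some (1, 6), some (1, 4), some (3, 6), some (1, 3), none, some (1, 4), some (1, 6), some (1,
   3), some (1, 6), some (1, 4), some (3, 6), some (1, 3), some (7, 8), some (1, 4), some (1, 6),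
   some (1, 3), some (1, 6), some (1, 4), some (3, 6), some (1, 3), some (8, 9), some (1, 4),
   some (1, 6), some (1, 3), some (1, 6), some (1, 4), some (3, 6), some (1, 3), some (7, 8),
   some (1, 4), some (1, 6), some (1, 3), some (1, 6), some (1, 4), some (3, 6), some (1, 3),
   some (8, 9), some (1, 4), some (1, 6), some (1, 3), some (1, 6), some (1, 4), some (3, 6),
   some (1, 3), some (7, 8), some (1, 4), some (1, 6), some (1, 3), some (1, 6), some (1, 4),
   some (3, 6), some (1, 3), none, some (1, 4), some (1, 6), some (1, 3), some (1, 6), some (1,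
   4), some (3, 6), some (1, 3), some (7, 8), some (1, 4), some (1, 6), some (1, 3), some (1, 6),
   some (1, 4), some (3, 6), some (1, 3), some (7, 9), some (1, 4), some (1, 6), some (1, 3),
   some (1, 6), some (1, 4), some (3, 6), some (1, 3), some (7, 8), some (1, 4), some (1, 6),
   some (1, 3), some (1, 6), some (1, 4), some (3, 6), some (1, 3), some (7, 9), some (1, 4),
   some (1, 6), some (1, 3), some (1, 6), some (1, 4), some (3, 6), some (1, 3), some (7, 8),
   some (1, 4), some (1, 6), some (1, 3), some (1, 6), some (1, 4), some (3, 6), some (1, 3),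
   some (7, 9), some (1, 4), some (1, 6), some (1, 3), some (1, 6), some (1, 4), some (3, 6),
   some (1, 3), some (7, 8), some (1, 4), some (1, 6), some (1, 3), some (1, 6), some (1, 4),
   some (3, 6), some (1, 3), some (7, 9), some (1, 4), some (1, 6), some (1, 3), some (1, 6),
   some (1, 4), some (3, 6), some (1, 3), some (7, 8), some (1, 4), some (1, 6), some (1, 3),
   some (1, 6), some (1, 4), some (3, 6), some (1, 3), some (7, 9), some (1, 4), some (1, 6),
   some (1, 3), some (1, 6), some (1, 4), some (3, 6), some (1, 3), some (7, 8), some (1, 4),
   some (1, 6), some (1, 3), some (1, 6), some (1, 4), some (3, 6), some (1, 3), some (7, 9),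
   some (1, 4), some (1, 6), some (1, 3), some (1, 6), some (1, 4), some (3, 6), some (1, 3),
   some (7, 8), some (1, 4), some (1, 6), some (1, 3), some (1, 6), some (1, 4), some (3, 6),
   some (1, 3), some (7, 9), some (1, 4), some (1, 6), some (1, 3), some (1, 6), some (1, 4),
   some (3, 6), some (1, 3), some (7, 8), some (1, 4), some (1, 6), some (1, 3), some (1, 6),
   some (1, 4), some (3, 6), some (1, 3), some (7, 9), some (1, 4), some (1, 6), some (1, 3),
   some (1, 6), some (1, 4), some (3, 6), some (1, 3), some (7, 8), some (1, 4), some (1, 6),
   some (1, 3), some (1, 6), some (1, 4), some (3, 6), some (1, 3), some (7, 9), some (1, 4),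
   some (1, 6), some (1, 3), some (1, 6), some (1, 4), some (3, 6), some (1, 3), some (7, 8),
   some (1, 4), some (1, 6), some (1, 3), some (1, 6), some (1, 4), some (3, 6), some (1, 3),
   some (7, 9), some (1, 4), some (1, 6), some (1, 3), some (1, 6), some (1, 4), some (3, 6),
   some (1, 3), some (7, 8), some (1, 4), some (1, 6), some (1, 3), some (1, 6), some (1, 4),
   some (3, 6), some (1, 3), some (7, 9), some (1, 4), some (1, 6), some (1, 3), some (1, 6),
   some (1, 4), some (3, 6), some (1, 3), some (7, 8), some (1, 4), some (1, 6), some (1, 3),
   some (1, 6), some (1, 4), some (3, 6), some (1, 3), some (7, 9), some (1, 4), some (1, 6),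
   some (1, 3), some (1, 6), some (1, 4), some (3, 6), some (1, 3), some (7, 8), some (1, 4),
   some (1, 6), some (1, 3), some (1, 6), some (1, 4), some (3, 6), some (1, 3), some (7, 9),
   some (1, 4), some (1, 6), some (1, 3), some (1, 6), some (1, 4), some (3, 6), some (1, 3),
   some (7, 8), some (1, 4), some (1, 6), some (1, 3), some (1, 6), some (1, 4), some (3, 6),
   some (1, 3), some (7, 9), some (1, 4), some (1, 6), some (1, 3), some (1, 6), some (1, 4),
   some (3, 6), some (1, 3), some (7, 8), some (1, 4), some (1, 6), some (1, 3), some (1, 6),
   some (1, 4), some (3, 6), some (1, 3), some (7, 9), some (1, 4), some (1, 6), some (1, 3),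
   some (1, 6), some (1, 4), some (3, 6), some (1, 3), some (7, 8), some (1, 4), some (1, 6),
   some (1, 3), some (1, 6), some (1, 4), some (3, 6), some (1, 3), some (7, 9), some (1, 4),
   some (1, 6), some (1, 3), some (1, 6), some (1, 4), some (3, 6), some (1, 3), some (7, 8),
   some (1, 4), some (1, 6), some (1, 3), some (1, 6), some (1, 4), some (3, 6), some (1, 3),
   none, some (1, 4), some (1, 6), some (1, 3), some (1, 6), some (1, 4), some (3, 6), some (1,
   3), some (7, 8), some (1, 4), some (1, 6), some (1, 3), some (1, 6), some (1, 4), some (3, 6),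
   some (1, 3), none, some (1, 4), some (1, 6), some (1, 3), some (1, 6), some (1, 4), some (3,
   6), some (1, 3), some (7, 8), some (1, 4), some (1, 6), some (1, 3), some (1, 6), some (1, 4),
   some (3, 6), some (1, 3), none, some (1, 4), some (1, 6), some (1, 3), some (1, 6), some (1,
   4), some (3, 6), some (1, 3), some (7, 8), some (1, 4), some (1, 6), some (1, 3), some (1, 6),
   some (1, 4), some (3, 6), some (1, 3), none, some (1, 4), some (1, 6), some (1, 3), some (1,
   6), some (1, 4), some (3, 6), some (1, 3), some (7, 8), some (1, 4), some (1, 6), some (1, 3),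
   some (1, 6), some (1, 4), some (3, 6), some (1, 3), none, some (1, 4), some (1, 6), some (1,
   3), some (1, 6), some (1, 4), some (3, 6), some (1, 3), some (7, 8), some (1, 4), some (1, 6),
   some (1, 3), some (1, 6), some (1, 4), some (3, 6), some (1, 3), some (8, 9), some (1, 4),
   some (1, 6), some (1, 3), some (1, 6), some (1, 4), some (3, 6), some (1, 3), some (7, 8),
   some (1, 4), some (1, 6), some (1, 3), some (1, 6), some (1, 4), some (3, 6), some (1, 3),
   some (8, 9), some (1, 4), some (1, 6), some (1, 3), some (1, 6), some (1, 4), some (3, 6),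
   some (1, 3), some (7, 8), some (1, 4), some (1, 6), some (1, 3), some (1, 6), some (1, 4),
   some (3, 6), some (1, 3), none, some (1, 4), some (1, 6), some (1, 3), some (1, 6), some (1,
   4), some (3, 6), some (1, 3), some (7, 8), some (1, 4), some (1, 6), some (1, 3), some (1, 6),
   some (1, 4), some (3, 6), some (1, 3)]

def CCert : List (Option ℕ) :=
    [none, some 1, some 1, some 1, some 1, some 1, some 1, some 1, some 2, some 1, some 1,
   some 1, some 1, some 1, some 1, some 1, some 3, some 1, some 1, some 1, some 1, some 1,
   some 1, some 1, some 2, some 1, some 1, some 1, some 1, some 1, some 1, some 1, some 1,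
   some 1, some 1, some 1, some 1, some 1, some 3, some 1, some 1, some 1, some 1, some 1,
   some 1, some 1, some 2, some 1, some 1, some 1, some 1, some 1, some 1, some 1, some 3,
   some 1, some 1, some 1, some 1, some 1, some 1, some 1, some 2, some 1, some 4, some 1,
   some 1, some 1, some 1, some 1, some 1, some 1, some 2, some 1, some 1, some 1, some 1,
   some 1, some 1, some 1, some 3, some 1, some 1, some 1, some 1, some 1, some 1, some 1,
   some 2, some 1, some 1, some 1, some 1, some 1, some 1, some 1, some 1, some 1, some 1,
   some 1, some 1, some 1, some 3, some 1, some 1, some 1, some 1, some 1, some 1, some 1,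
   some 2, some 1, some 1, some 1, some 1, some 1, some 1, some 1, some 3, some 1, some 1,
   some 1, some 1, some 1, some 1, some 1, some 2, some 1, some 4, some 1, some 1, some 1,
   some 1, some 1, some 1, some 1, some 2, some 1, some 1, some 1, some 1, some 1, some 1,
   some 1, some 3, some 1, some 1, some 1, some 1, some 1, some 1, some 1, some 2, some 1,
   some 1, some 1, some 1, some 1, some 1, some 1, some 1, some 1, some 1, some 1, some 1,
   some 1, some 3, some 1, some 1, some 1, some 1, some 1, some 1, some 1, some 2, some 1,
   some 1, some 1, some 1, some 1, some 1, some 1, some 3, some 1, some 1, some 1, some 1,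
   some 1, some 1, some 1, some 2, some 1, some 5, some 1, some 1, some 1, some 1, some 1,
   some 1, some 1, some 2, some 1, some 1, some 1, some 1, some 1, some 1, some 1, some 3,
   some 1, some 1, some 1, some 1, some 1, some 1, some 1, some 2, some 1, some 1, some 1,
   some 1, some 1, some 1, some 1, some 1, some 1, some 1, some 1, some 1, some 1, some 3,
   some 1, some 1, some 1, some 1, some 1, some 1, some 1, some 2, some 1, some 1, some 1,
   some 1, some 1, some 1, some 1, some 3, some 1, some 1, some 1, some 1, some 1, some 1,
   some 1, some 2, some 1, some 4, some 1, some 1, some 1, some 1, some 1, some 1, some 1,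
   some 2, some 1, some 1, some 1, some 1, some 1, some 1, some 1, some 3, some 1, some 1,
   some 1, some 1, some 1, some 1, some 1, some 2, some 1, some 1, some 1, some 1, some 1,
   some 1, some 1, some 1, some 1, some 1, some 1, some 1, some 1, some 3, some 1, some 1,
   some 1, some 1, some 1, some 1, some 1, some 2, some 1, some 1, some 1, some 1, some 1,
   some 1, some 1, some 3, some 1, some 1, some 1, some 1, some 1, some 1, some 1, some 2,
   some 1, some 5, some 1, some 1, some 1, some 1, some 1, some 1, some 1, some 2, some 1,
   some 1, some 1, some 1, some 1, some 1, some 1, some 3, some 1, some 1, some 1, some 1,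
   some 1, some 1, some 1, some 2, some 1, some 1, some 1, some 1, some 1, some 1, some 1,
   some 1, some 1, some 1, some 1, some 1, some 1, some 3, some 1, some 1, some 1, some 1,
   some 1, some 1, some 1, some 2, some 1, some 1, some 1, some 1, some 1, some 1, some 1,
   some 3, some 1, some 1, some 1, some 1, some 1, some 1, some 1, some 2, some 1, some 6,
   some 1, some 1, some 1, some 1, some 1, some 1, some 1, some 2, some 1, some 1, some 1,
   some 1, some 1, some 1, some 1, some 3, some 1, some 1, some 1, some 1, some 1, some 1,
   some 1, some 2, some 1, some 1, some 1, some 1, some 1, some 1, some 1, some 1, some 1,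
   some 1, some 1, some 1, some 1, some 3, some 1, some 1, some 1, some 1, some 1, some 1,
   some 1, some 2, some 1, some 1, some 1, some 1, some 1, some 1, some 1, some 3, some 1,
   some 1, some 1, some 1, some 1, some 1, some 1, some 2, some 1, some 4, some 1, some 1,
   some 1, some 1, some 1, some 1, some 1, some 2, some 1, some 1, some 1, some 1, some 1,
   some 1, some 1, some 3, some 1, some 1, some 1, some 1, some 1, some 1, some 1, some 2,
   some 1, some 1, some 1, some 1, some 1, some 1, some 1, some 1, some 1, some 1, some 1,
   some 1, some 1, some 3, some 1, some 1, some 1, some 1, some 1, some 1, some 1, some 2,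
   some 1, some 1, some 1, some 1, some 1, some 1, some 1, some 3, some 1, some 1, some 1,
   some 1, some 1, some 1, some 1, some 2, some 1, none, some 1, some 1, some 1, some 1, some 1,
   some 1, some 1, some 2, some 1, some 1, some 1, some 1, some 1, some 1, some 1, some 3,
   some 1, some 1, some 1, some 1, some 1, some 1, some 1, some 2, some 1, some 1, some 1,
   some 1, some 1, some 1, some 1, some 1, some 1, some 1, some 1, some 1, some 1, some 3,
   some 1, some 1, some 1, some 1, some 1, some 1, some 1, some 2, some 1, some 1, some 1,
   some 1, some 1, some 1, some 1, some 3, some 1, some 1, some 1, some 1, some 1, some 1,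
   some 1, some 2, some 1, some 4, some 1, some 1, some 1, some 1, some 1, some 1, some 1,
   some 2, some 1, some 1, some 1, some 1, some 1, some 1, some 1, some 3, some 1, some 1,
   some 1, some 1, some 1, some 1, some 1, some 2, some 1, some 1, some 1, some 1, some 1,
   some 1, some 1, some 1, some 1, some 1, some 1, some 1, some 1, some 3, some 1, some 1,
   some 1, some 1, some 1, some 1, some 1, some 2, some 1, some 1, some 1, some 1, some 1,
   some 1, some 1, some 3, some 1, some 1, some 1, some 1, some 1, some 1, some 1, some 2,
   some 1, some 4, some 1, some 1, some 1, some 1, some 1, some 1, some 1, some 2, some 1,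
   some 1, some 1, some 1, some 1, some 1, some 1, some 3, some 1, some 1, some 1, some 1,
   some 1, some 1, some 1, some 2, some 1, some 1, some 1, some 1, some 1, some 1, some 1,
   some 1, some 1, some 1, some 1, some 1, some 1, some 3, some 1, some 1, some 1, some 1,
   some 1, some 1, some 1, some 2, some 1, some 1, some 1, some 1, some 1, some 1, some 1,
   some 3, some 1, some 1, some 1, some 1, some 1, some 1, some 1, some 2, some 1, some 5,
   some 1, some 1, some 1, some 1, some 1, some 1, some 1, some 2, some 1, some 1, some 1,
   some 1, some 1, some 1, some 1, some 3, some 1, some 1, some 1, some 1, some 1, some 1,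
   some 1, some 2, some 1, some 1, some 1, some 1, some 1, some 1, some 1, some 1, some 1,
   some 1, some 1, some 1, some 1, some 3, some 1, some 1, some 1, some 1, some 1, some 1,
   some 1, some 2, some 1, some 1, some 1, some 1, some 1, some 1, some 1, some 3, some 1,
   some 1, some 1, some 1, some 1, some 1, some 1, some 2, some 1, some 4, some 1, some 1,
   some 1, some 1, some 1, some 1, some 1, some 2, some 1, some 1, some 1, some 1, some 1,
   some 1, some 1, some 3, some 1, some 1, some 1, some 1, some 1, some 1, some 1, some 2,
   some 1, some 1, some 1, some 1, some 1, some 1, some 1, some 1, some 1, some 1, some 1,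
   some 1, some 1, some 3, some 1, some 1, some 1, some 1, some 1, some 1, some 1, some 2,
   some 1, some 1, some 1, some 1, some 1, some 1, some 1, some 3, some 1, some 1, some 1,
   some 1, some 1, some 1, some 1, some 2, some 1, some 5, some 1, some 1, some 1, some 1,
   some 1, some 1, some 1, some 2, some 1, some 1, some 1, some 1, some 1, some 1, some 1,
   some 3, some 1, some 1, some 1, some 1, some 1, some 1, some 1, some 2, some 1, some 1,
   some 1, some 1, some 1, some 1, some 1, some 1, some 1, some 1, some 1, some 1, some 1,
   some 3, some 1, some 1, some 1, some 1, some 1, some 1, some 1, some 2, some 1, some 1,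
   some 1, some 1, some 1, some 1, some 1, some 3, some 1, some 1, some 1, some 1, some 1,
   some 1, some 1, some 2, some 1, some 6, some 1, some 1, some 1, some 1, some 1, some 1,
   some 1, some 2, some 1, some 1, some 1, some 1, some 1, some 1, some 1, some 3, some 1,
   some 1, some 1, some 1, some 1, some 1, some 1, some 2, some 1, some 1, some 1, some 1,
   some 1, some 1, some 1, some 1, some 1, some 1, some 1, some 1, some 1, some 3, some 1,
   some 1, some 1, some 1, some 1, some 1, some 1, some 2, some 1, some 1, some 1, some 1,
   some 1, some 1, some 1, some 3, some 1, some 1, some 1, some 1, some 1, some 1, some 1,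
   some 2, some 1, some 4, some 1, some 1, some 1, some 1, some 1, some 1, some 1, some 2,
   some 1, some 1, some 1, some 1, some 1, some 1, some 1, some 3, some 1, some 1, some 1,
   some 1, some 1, some 1, some 1, some 2, some 1, some 1, some 1, some 1, some 1, some 1,
   some 1, some 1, some 1, some 1, some 1, some 1, some 1, some 3, some 1, some 1, some 1,
   some 1, some 1, some 1, some 1, some 2, some 1, some 1, some 1, some 1, some 1, some 1,
   some 1, some 3, some 1, some 1, some 1, some 1, some 1, some 1, some 1, some 2, some 1]

/-- the enumeration of the quotient -/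
def NFG : List (List ℕ) := LA.flatMap (fun a => TL.map (fun t => a ++ t))

theorem cen_gen : ∀ k < 10, teq [0, k] [k, 0] = true := by decide +kernel

def cenChk (e : List ℕ × Option ℕ) : Bool :=
  match e.2 with
  | none => teq e.1 [] || teq e.1 [0]
  | some k => decide (k < 10) && !teq (e.1 ++ [k]) (k :: e.1)

theorem cen_enum' : ∀ e ∈ (subl (List.range 10)).zip CCert, cenChk e = true := by
  decide +kernel

theorem CCert_length : (subl (List.range 10)).length = CCert.length := by decide +kernel

def uChk (e : List ℕ × Option (ℕ × ℕ)) : Bool :=
  match e.2 with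
  | none => decide (e.1 ∈ LU)
  | some p => bad e.1 p

theorem u_enum' : ∀ e ∈ NFG.zip UCert, uChk e = true := by
  decide +kernel

theorem UCert_length : NFG.length = UCert.length := by decide +kernel

theorem a_comm : ∀ a ∈ LA, ∀ k ∈ [1, 2, 3, 4, 5, 6], qcomm [k] a = true := by decide +kernel

theorem a_out : ∀ t ∈ TL, t ≠ [] → ∃ k ∈ [1, 2, 3, 4, 5, 6], qcomm [k] t = false := by decide +kernel

theorem a_sq : ∀ a ∈ LA, qeq (a ++ a) [] = true := by decide +kernel

theorem a_inj : ∀ a ∈ LA, ∀ a' ∈ LA, qeq a a' = true → a = a' := by decide +kernel

theorem F1 : ∀ t ∈ TL, t ≠ [] → (FixL [t]).length ≤ 16 := by decide +kernel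

theorem F2 : ∀ t ∈ TL, ∀ t' ∈ TL, t ≠ [] → t' ≠ [] → t ≠ t' → (FixL [t, t']).length ≤ 8 := by
  decide +kernel

theorem F3 : (FixL [[8, 9]]).length ≤ 4 := by decide +kernel

end Cfsg.Agent.Lib.Helper6.M24Q
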