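import Mathlib
import Cfsg.Prelude.Def_Sporadic_a
import Cfsg.Prelude.Def_Transfer
import Cfsg.Agent.Lib.Helper6.M24Q2
import Cfsg.Agent.Lib.Lead.Frattini

set_option autoImplicit false
open Cfsg

namespace Cfsg.Agent.Lib.Helper6.M24Q

open Cfsg.Agent.Lib.Helper9.M24 (tperm tabOK tabM24 tget natOfPt ptOfNat natOfPt_tperm natOfPt_lt
  natOfPt_injective natOfPt_ptOfNat ptOfNat_natOfPt tperm_mem)
open Cfsg.Agent.Lib.Helper6.M24Syl (C gen_mem_C C_mono C_le wp wp_nil wp_cons wp_append wp_mem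
  perm_ext)

abbrev S2 : Subgroup (Equiv.Perm GolayPt) := C gen2 0 10

/-- the element of `S2` given by a word -/
def el (w : List ℕ) : ↥S2 := ⟨wp gen2 w, wp2_mem w⟩

theorem el_nil : el [] = 1 := rfl

theorem el_append (w w' : List ℕ) : el (w ++ w') = el w * el w' :=
  Subtype.ext (wp_append gen2 w w')

theorem teq_iff (w w' : List ℕ) : teq w w' = true ↔ wp gen2 w = wp gen2 w' := by
  unfold teq
  rw [List.all_eq_true]
  constructor
  · intro h
    apply perm_ext
    intro p
    rw [natOfPt_wp2, natOfPt_wp2]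
    have := h (natOfPt p) (List.mem_range.mpr (natOfPt_lt p))
    simpa using this
  · intro h x hx
    have hx' := List.mem_range.mp hx
    have h1 := natOfPt_wp2 w (ptOfNat x)
    have h2 := natOfPt_wp2 w' (ptOfNat x)
    rw [natOfPt_ptOfNat x hx'] at h1 h2
    rw [← h1, ← h2, h]
    simp

theorem el_eq_iff (w w' : List ℕ) : el w = el w' ↔ teq w w' = true := by
  rw [teq_iff]
  exact Subtype.ext_iff

theorem exists_zip {α β : Type*} {l₁ : List α} {l₂ : List β} (h : l₁.length = l₂.length) {a : α}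
    (ha : a ∈ l₁) : ∃ b, (a, b) ∈ l₁.zip l₂ := by
  obtain ⟨i, hi, rfl⟩ := List.getElem_of_mem ha
  refine ⟨l₂[i]'(h ▸ hi), ?_⟩
  rw [List.mem_iff_getElem]
  refine ⟨i, by rw [List.length_zip, ← h, min_self]; exact hi, ?_⟩
  rw [List.getElem_zip]

theorem el0_central (y : ↥S2) : el [0] * y = y * el [0] := by
  have h : S2 ≤ Subgroup.centralizer {wp gen2 [0]} := by
    apply C_le
    intro k _ hk
    rw [Subgroup.mem_centralizer_iff]
    intro x hx
    rw [Set.mem_singleton_iff] at hx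
    subst hx
    have := (teq_iff [0, k] [k, 0]).mp (cen_gen k hk)
    simpa [wp_cons, wp_nil] using this
  have := Subgroup.mem_centralizer_iff.mp (h y.2) (wp gen2 [0]) rfl
  exact Subtype.ext this

theorem el0_mem_center : el [0] ∈ Subgroup.center ↥S2 := by
  rw [Subgroup.mem_center_iff]
  intro y
  exact (el0_central y).symm

theorem center_sub (y : ↥S2) (hy : y ∈ Subgroup.center ↥S2) : y = 1 ∨ y = el [0] := by
  obtain ⟨w, hw, hyw⟩ := nf2 y.1 y.2
  have hyw' : y = el w := Subtype.ext hyw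
  obtain ⟨c, hc⟩ := exists_zip CCert_length (mem_subl hw)
  have h1 := cen_enum' _ hc
  unfold cenChk at h1
  rcases c with _ | k
  · simp only [Bool.or_eq_true] at h1
    rcases h1 with h1 | h1
    · left
      rw [hyw', ← el_nil]
      exact (el_eq_iff _ _).mpr h1
    · right
      rw [hyw']
      exact (el_eq_iff _ _).mpr h1
  · exfalso
    simp only [Bool.and_eq_true, decide_eq_true_eq, Bool.not_eq_true'] at h1
    have h2 : el (w ++ [k]) = el (k :: w) := by
      have := Subgroup.mem_center_iff.mp hy (el [k])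
      rw [el_append, ← hyw', show k :: w = [k] ++ w from rfl, el_append, ← hyw']
      exact this.symm
    rw [el_eq_iff] at h2
    rw [h2] at h1
    exact Bool.noConfusion h1.2


theorem NFG_length : NFG.length = 512 := by decide +kernel

section cosets
variable {G : Type*} [Group G]

theorem exists_three [Finite G] (H K : Subgroup G) (h : 3 ≤ H.relIndex K) :
    ∃ x ∈ K, ∃ y ∈ K, x ∉ H ∧ y ∉ H ∧ x * y⁻¹ ∉ H := by
  classical
  letI : Fintype (↥K ⧸ H.subgroupOf K) := Fintype.ofFinite _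
  have hc : 2 < Fintype.card (↥K ⧸ H.subgroupOf K) := by
    rw [← Nat.card_eq_fintype_card, ← Subgroup.index_eq_card]
    exact h
  obtain ⟨q₀, q₁, q₂, h01, h02, h12⟩ := Fintype.two_lt_card_iff.mp hc
  obtain ⟨b₀, rfl⟩ := QuotientGroup.mk_surjective q₀
  obtain ⟨b₁, rfl⟩ := QuotientGroup.mk_surjective q₁
  obtain ⟨b₂, rfl⟩ := QuotientGroup.mk_surjective q₂
  have e : ∀ a b : ↥K, (a : ↥K ⧸ H.subgroupOf K) ≠ (b : ↥K ⧸ H.subgroupOf K) → (a : G)⁻¹ * (b : G) ∉ H := by
    intro a b hab hmem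
    apply hab
    rw [QuotientGroup.eq, Subgroup.mem_subgroupOf]
    exact hmem
  refine ⟨(b₁ : G)⁻¹ * b₀, K.mul_mem (K.inv_mem b₁.2) b₀.2, (b₂ : G)⁻¹ * b₀,
    K.mul_mem (K.inv_mem b₂.2) b₀.2, e b₁ b₀ h01.symm, e b₂ b₀ h02.symm, ?_⟩
  have : (b₁ : G)⁻¹ * b₀ * ((b₂ : G)⁻¹ * b₀)⁻¹ = (b₁ : G)⁻¹ * b₂ := by group
  rw [this]
  exact e b₁ b₂ h12

theorem exists_coset_rep [Finite G] (H K : Subgroup G) (h : H.relIndex K = H.index) (γ : G) :
    ∃ b ∈ K, b⁻¹ * γ ∈ H := by
  let j : ↥K ⧸ H.subgroupOf K → G ⧸ H :=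
    Quotient.map' (fun b : ↥K => (b : G)) (fun a b hab => by
      rw [QuotientGroup.leftRel_apply] at hab ⊢
      exact hab)
  have hj : Function.Injective j := by
    intro q q'
    refine Quotient.inductionOn₂' q q' ?_
    intro a b hab
    have h1 : ((a : G) : G ⧸ H) = ((b : G) : G ⧸ H) := hab
    rw [QuotientGroup.eq] at h1
    apply Quotient.sound'
    rw [QuotientGroup.leftRel_apply]
    exact h1
  have hb := hj.bijective_of_nat_card_le (by
    rw [← Subgroup.index_eq_card, ← Subgroup.index_eq_card]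
    exact h.ge)
  obtain ⟨q, hq⟩ := hb.2 (γ : G ⧸ H)
  obtain ⟨b, rfl⟩ := QuotientGroup.mk_surjective q
  have h1 : ((b : G) : G ⧸ H) = (γ : G ⧸ H) := hq
  rw [QuotientGroup.eq] at h1
  exact ⟨b, b.2, h1⟩

end cosets

section frame
variable {Γ : Type*} [Group Γ] (π : ↥S2 →* Γ)

/-- the image of a word in the quotient -/
def ψ (w : List ℕ) : Γ := π (el w)

theorem ψ_nil : ψ π [] = 1 := by
  unfold ψ
  rw [el_nil, map_one]

theorem ψ_append (w w' : List ℕ) : ψ π (w ++ w') = ψ π w * ψ π w' := by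
  unfold ψ
  rw [el_append, map_mul]

theorem ψ_cons (k : ℕ) (w : List ℕ) : ψ π (k :: w) = ψ π [k] * ψ π w := by
  rw [← ψ_append]
  rfl

variable (hk : π.ker = Subgroup.center ↥S2)
include hk

theorem ψ0 : ψ π [0] = 1 := by
  unfold ψ
  rw [← MonoidHom.mem_ker, hk]
  exact el0_mem_center

theorem ψ_eq_iff (w w' : List ℕ) : ψ π w = ψ π w' ↔ qeq w w' = true := by
  unfold ψ qeq
  rw [eq_comm, MonoidHom.eq_iff, hk, Bool.or_eq_true, ← el_eq_iff, ← el_eq_iff, el_append]
  constructor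
  · intro h
    rcases center_sub _ h with h1 | h1
    · left
      exact inv_mul_eq_one.mp h1
    · right
      rw [← h1]
      group
  · rintro (h | h)
    · rw [h, inv_mul_cancel]
      exact Subgroup.one_mem _
    · rw [← h]
      have : (el w)⁻¹ * (el w * el [0]) = el [0] := by group
      rw [this]
      exact el0_mem_center

theorem comm_iff (w w' : List ℕ) : ψ π w * ψ π w' = ψ π w' * ψ π w ↔ qcomm w w' = true := by
  rw [← ψ_append, ← ψ_append, ψ_eq_iff π hk]
  rfl

variable (hs : Function.Surjective π)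
include hs

theorem surjΓ (γ : Γ) : ∃ a ∈ LA, ∃ t ∈ TL, γ = ψ π (a ++ t) := by
  obtain ⟨y, rfl⟩ := hs γ
  obtain ⟨w, hw, hyw⟩ := nf2 y.1 y.2
  have hyw' : y = el w := Subtype.ext hyw
  have hr : List.range 10 = [0] ++ ([1, 2, 3, 4, 5, 6] ++ [7, 8, 9]) := by decide
  rw [hr, List.sublist_append_iff] at hw
  obtain ⟨z, r, rfl, hz, hr2⟩ := hw
  rw [List.sublist_append_iff] at hr2
  obtain ⟨a, t, rfl, ha, ht⟩ := hr2
  refine ⟨a, mem_subl ha, t, mem_subl ht, ?_⟩
  have hz1 : ψ π z = 1 := by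
    have : z = [] ∨ z = [0] := by
      rcases z with _ | ⟨k, z'⟩
      · exact Or.inl rfl
      · right
        have h1 := hz.length_le
        have h2 : z' = [] := by
          rcases z' with _ | ⟨_, _⟩
          · rfl
          · simp at h1
        subst h2
        have := hz.subset (List.mem_cons_self ..)
        simp at this
        rw [this]
    rcases this with rfl | rfl
    · exact ψ_nil π
    · exact ψ0 π hk
  show π y = ψ π (a ++ t)
  rw [hyw']
  show ψ π (z ++ (a ++ t)) = _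
  rw [ψ_append, hz1, one_mul]

omit hk in
theorem finiteΓ : Finite Γ := Finite.of_surjective π hs

omit hk in
theorem isPGroupΓ : IsPGroup 2 Γ := IsPGroup.of_surjective S2_isPGroup π hs

theorem cardΓ_le : Nat.card Γ ≤ 512 := by
  have hf : Function.Surjective (fun i : Fin NFG.length => ψ π (NFG[i])) := by
    intro γ
    obtain ⟨a, ha, t, ht, rfl⟩ := surjΓ π hk hs γ
    have hm : a ++ t ∈ NFG := by
      unfold NFG
      rw [List.mem_flatMap]
      exact ⟨a, ha, List.mem_map.mpr ⟨t, ht, rfl⟩⟩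
    obtain ⟨i, hi, hi2⟩ := List.getElem_of_mem hm
    exact ⟨⟨i, hi⟩, by simp only [Fin.getElem_fin]; rw [hi2]⟩
  haveI : Finite Γ := finiteΓ π hs
  have := Nat.card_le_card_of_surjective (fun i : Fin NFG.length => ψ π (NFG[i])) hf
  rwa [Nat.card_fin, NFG_length] at this


/-! ### the abelian subgroup of order `64` -/

omit hk hs in
theorem LA_letters : ∀ a ∈ LA, ∀ k ∈ a, k ∈ [1, 2, 3, 4, 5, 6] := by decide +kernel

omit hk hs in
theorem LA_length : LA.length = 64 := by decide +kernel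

/-- the abelian subgroup of order `64`: the centralizer of the images of six generators -/
def A : Subgroup Γ := Subgroup.centralizer {γ | ∃ k ∈ [1, 2, 3, 4, 5, 6], γ = ψ π [k]}

omit hk hs in
theorem mem_A (γ : Γ) : γ ∈ A π ↔ ∀ k ∈ [1, 2, 3, 4, 5, 6], ψ π [k] * γ = γ * ψ π [k] := by
  unfold A
  rw [Subgroup.mem_centralizer_iff]
  constructor
  · intro h k hk
    exact h _ ⟨k, hk, rfl⟩
  · rintro h _ ⟨k, hk, rfl⟩
    exact h k hk

omit hs in
theorem ψa_mem_A (a : List ℕ) (ha : a ∈ LA) : ψ π a ∈ A π := by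
  rw [mem_A]
  intro k hk'
  rw [comm_iff π hk]
  exact a_comm a ha k hk'

omit hs in
theorem ψt_mem_A (t : List ℕ) (ht : t ∈ TL) (h : ψ π t ∈ A π) : t = [] := by
  by_contra hne
  obtain ⟨k, hk1, hk2⟩ := a_out t ht hne
  have := (mem_A π _).mp h k hk1
  rw [comm_iff π hk, hk2] at this
  exact Bool.noConfusion this

theorem mem_A_iff (γ : Γ) : γ ∈ A π ↔ ∃ a ∈ LA, γ = ψ π a := by
  constructor
  · intro h
    obtain ⟨a, ha, t, ht, rfl⟩ := surjΓ π hk hs γ
    have h1 : ψ π t ∈ A π := by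
      have : ψ π t = (ψ π a)⁻¹ * ψ π (a ++ t) := by rw [ψ_append]; group
      rw [this]
      exact Subgroup.mul_mem _ (Subgroup.inv_mem _ (ψa_mem_A π hk a ha)) h
    have := ψt_mem_A π hk t ht h1
    subst this
    exact ⟨a, ha, by rw [List.append_nil]⟩
  · rintro ⟨a, ha, rfl⟩
    exact ψa_mem_A π hk a ha

omit hk hs in
theorem comm_word (x : Γ) (hx : x ∈ A π) (a : List ℕ) (ha : ∀ k ∈ a, k ∈ [1, 2, 3, 4, 5, 6]) :
    x * ψ π a = ψ π a * x := by
  induction a with
  | nil => rw [ψ_nil, mul_one, one_mul]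
  | cons k a ih =>
    rw [ψ_cons, ← mul_assoc, ← (mem_A π x).mp hx k (ha k (List.mem_cons_self ..)), mul_assoc,
      ih (fun j hj => ha j (List.mem_cons_of_mem _ hj)), mul_assoc]

theorem A_comm (x y : Γ) (hx : x ∈ A π) (hy : y ∈ A π) : x * y = y * x := by
  obtain ⟨a, ha, rfl⟩ := (mem_A_iff π hk hs y).mp hy
  exact comm_word π x hx a (LA_letters a ha)

theorem A_sq (x : Γ) (hx : x ∈ A π) : x ^ 2 = 1 := by
  obtain ⟨a, ha, rfl⟩ := (mem_A_iff π hk hs x).mp hx
  rw [sq, ← ψ_append, ← ψ_nil π, ψ_eq_iff π hk]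
  exact a_sq a ha

theorem card_A : Nat.card (A π) = 64 := by
  have hbij : Function.Bijective (fun i : Fin LA.length => (⟨ψ π (LA[i]), ψa_mem_A π hk _ (List.getElem_mem _)⟩ : A π)) := by
    constructor
    · intro i j hij
      have h1 : ψ π (LA[i]) = ψ π (LA[j]) := congrArg Subtype.val hij
      rw [ψ_eq_iff π hk] at h1
      have h2 := a_inj _ (List.getElem_mem _) _ (List.getElem_mem _) h1
      have hnd : LA.Nodup := by decide +kernel
      exact Fin.ext ((hnd.getElem_inj_iff).mp h2)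
    · rintro ⟨x, hx⟩
      obtain ⟨a, ha, rfl⟩ := (mem_A_iff π hk hs x).mp hx
      obtain ⟨i, hi, hi2⟩ := List.getElem_of_mem ha
      exact ⟨⟨i, hi⟩, Subtype.ext (by simp only [Fin.getElem_fin]; rw [hi2])⟩
  rw [← Nat.card_eq_of_bijective _ hbij, Nat.card_fin, LA_length]


/-! ### centres of maximal subgroups -/

theorem center_coatom_sub (M : Subgroup Γ) (hM : IsCoatom M) (z : ↥M) (hz : z ∈ Subgroup.center ↥M) :
    ∃ w ∈ LU, (z : Γ) = ψ π w := by
  haveI : Finite Γ := finiteΓ π hs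
  haveI : Fact (Nat.Prime 2) := ⟨Nat.prime_two⟩
  obtain ⟨-, hMi⟩ := Cfsg.Agent.Lib.Lead.coatom_normal_index_of_isPGroup (isPGroupΓ π hs) hM
  obtain ⟨a, ha, t, ht, hzw⟩ := surjΓ π hk hs (z : Γ)
  have hm : a ++ t ∈ NFG := by
    unfold NFG
    rw [List.mem_flatMap]
    exact ⟨a, ha, List.mem_map.mpr ⟨t, ht, rfl⟩⟩
  obtain ⟨c, hc⟩ := exists_zip UCert_length hm
  have h1 := u_enum' _ hc
  unfold uChk at h1
  have hcomm : ∀ g : List ℕ, ψ π g ∈ M → qcomm (a ++ t) g = true := by
    intro g hg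
    rw [← comm_iff π hk, ← hzw]
    have := Subgroup.mem_center_iff.mp hz ⟨ψ π g, hg⟩
    exact (congrArg Subtype.val this).symm
  rcases c with _ | ⟨g₁, g₂⟩
  · simp only [decide_eq_true_eq] at h1
    exact ⟨a ++ t, h1, hzw⟩
  · exfalso
    unfold bad at h1
    simp only [Bool.and_eq_true, Bool.not_eq_true'] at h1
    obtain ⟨⟨h2, h3⟩, h4⟩ := h1
    have n1 : ψ π [g₁] ∉ M := fun h => by
      have := hcomm _ h
      rw [h2] at this
      exact Bool.noConfusion this
    have n2 : ψ π [g₂] ∉ M := fun h => by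
      have := hcomm _ h
      rw [h3] at this
      exact Bool.noConfusion this
    have h5 : ψ π [g₁, g₂] ∈ M := by
      rw [ψ_cons, Subgroup.mul_mem_iff_of_index_two hMi]
      exact ⟨fun h => absurd h n1, fun h => absurd h n2⟩
    have := hcomm _ h5
    rw [h4] at this
    exact Bool.noConfusion this

theorem part1 (M : Subgroup Γ) (hM : IsCoatom M) : Nat.card (Subgroup.center ↥M) ≤ 8 := by
  haveI : Finite Γ := finiteΓ π hs
  haveI : Fact (Nat.Prime 2) := ⟨Nat.prime_two⟩
  have key : ∀ z : Subgroup.center ↥M, ∃ i : Fin LU.length, ((z : ↥M) : Γ) = ψ π (LU[i]) := by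
    intro z
    obtain ⟨w, hw, hzw⟩ := center_coatom_sub π hk hs M hM z.1 z.2
    obtain ⟨i, hi, hi2⟩ := List.getElem_of_mem hw
    exact ⟨⟨i, hi⟩, by simp only [Fin.getElem_fin]; rw [hi2, hzw]⟩
  choose g hg using key
  have inj : Function.Injective g := fun z z' h =>
    Subtype.ext (Subtype.ext (by rw [hg z, hg z', h]))
  have h12 : Nat.card (Subgroup.center ↥M) ≤ 12 := by
    have := Nat.card_le_card_of_injective g inj
    rwa [Nat.card_fin] at this
  have hp : IsPGroup 2 (Subgroup.center ↥M) := ((isPGroupΓ π hs).to_subgroup M).to_subgroup _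
  obtain ⟨n, hn⟩ := hp.exists_card_eq
  rw [hn] at h12 ⊢
  have hn3 : n ≤ 3 := by
    by_contra h
    have : 2 ^ 4 ≤ 2 ^ n := Nat.pow_le_pow_right (by norm_num) (by omega)
    omega
  calc 2 ^ n ≤ 2 ^ 3 := Nat.pow_le_pow_right (by norm_num) hn3
    _ = 8 := by norm_num


/-! ### uniqueness of the abelian subgroup of order `64` -/

theorem card_le_fix (I : Subgroup Γ) (hI : I ≤ A π) (ts : List (List ℕ))
    (h : ∀ x ∈ I, ∀ t ∈ ts, x * ψ π t = ψ π t * x) : Nat.card I ≤ (FixL ts).length := by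
  have key : ∀ z : I, ∃ i : Fin (FixL ts).length, (z : Γ) = ψ π ((FixL ts)[i]) := by
    intro z
    obtain ⟨a, ha, hza⟩ := (mem_A_iff π hk hs z.1).mp (hI z.2)
    have hm : a ∈ FixL ts := by
      unfold FixL
      rw [List.mem_filter, List.all_eq_true]
      refine ⟨ha, fun t ht => ?_⟩
      rw [← comm_iff π hk, ← hza]
      exact h z.1 z.2 t ht
    obtain ⟨i, hi, hi2⟩ := List.getElem_of_mem hm
    exact ⟨⟨i, hi⟩, by simp only [Fin.getElem_fin]; rw [hi2, hza]⟩
  choose g hg using key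
  have inj : Function.Injective g := fun z z' h' => Subtype.ext (by rw [hg z, hg z', h'])
  have := Nat.card_le_card_of_injective g inj
  rwa [Nat.card_fin] at this

theorem part3 (Bs : Subgroup Γ) (hBc : ∀ x ∈ Bs, ∀ y ∈ Bs, x * y = y * x) (hB64 : Nat.card Bs = 64) :
    Bs = A π := by
  haveI : Finite Γ := finiteΓ π hs
  by_contra hne
  have hA64 := card_A π hk hs
  have h0 : ¬ Bs ≤ A π := fun hle => hne (Subgroup.eq_of_le_of_card_ge hle (by rw [hA64, hB64]))
  obtain ⟨x, hxB, hxA⟩ := SetLike.not_le_iff_exists.mp h0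
  set I : Subgroup Γ := A π ⊓ Bs with hI
  have tool : ∀ y ∈ Bs, ∃ t ∈ TL, (t = [] → y ∈ A π) ∧ (∀ i ∈ I, i * ψ π t = ψ π t * i) ∧
      ∃ a ∈ LA, y = ψ π a * ψ π t := by
    intro y hy
    obtain ⟨a, ha, t, ht, rfl⟩ := surjΓ π hk hs y
    refine ⟨t, ht, ?_, ?_, a, ha, ψ_append π a t⟩
    · rintro rfl
      rw [List.append_nil]
      exact ψa_mem_A π hk a ha
    · intro i hi
      have c1 : Commute i (ψ π (a ++ t)) := hBc i hi.2 _ hy
      have c2 : Commute i (ψ π a) := A_comm π hk hs i _ hi.1 (ψa_mem_A π hk a ha)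
      have : ψ π t = (ψ π a)⁻¹ * ψ π (a ++ t) := by rw [ψ_append]; group
      rw [this]
      exact (c2.inv_right.mul_right c1).eq
  -- first bound
  obtain ⟨tx, htx, htx1, htx2, -⟩ := tool x hxB
  have htxne : tx ≠ [] := fun h => hxA (htx1 h)
  have k16 : Nat.card I ≤ 16 := by
    refine (card_le_fix π hk hs I inf_le_left [tx] ?_).trans (F1 tx htx htxne)
    intro i hi t ht
    rw [List.mem_singleton] at ht
    subst ht
    exact htx2 i hi
  -- index computations
  have hrk : (A π).relIndex Bs * Nat.card I = 64 := by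
    have h1 := Subgroup.card_mul_index ((A π).subgroupOf Bs)
    have h2 : Nat.card ((A π).subgroupOf Bs) = Nat.card I := by
      rw [← Subgroup.inf_subgroupOf_right]
      exact Nat.card_congr (Subgroup.subgroupOfEquivOfLe inf_le_right).toEquiv
    rw [h2, hB64, mul_comm] at h1
    exact h1
  have hidx : (A π).index ≤ 8 := by
    have h1 := Subgroup.card_mul_index (A π)
    rw [hA64] at h1
    have h2 := cardΓ_le π hk hs
    omega
  have hidx0 : (A π).index ≠ 0 := Subgroup.index_ne_zero_of_finite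
  have hri : (A π).relIndex Bs ≤ (A π).index := by
    have := Subgroup.relIndex_le_of_le_right (H := A π) (le_top : Bs ≤ ⊤)
      (by rw [Subgroup.relIndex_top_right]; exact hidx0)
    rwa [Subgroup.relIndex_top_right] at this
  have hr3 : 3 ≤ (A π).relIndex Bs := by
    by_contra hlt
    have : (A π).relIndex Bs * Nat.card I ≤ 2 * 16 := Nat.mul_le_mul (by omega) k16
    omega
  -- second bound
  obtain ⟨u, huB, v, hvB, huA, hvA, huvA⟩ := exists_three (A π) Bs hr3
  obtain ⟨tu, htu, htu1, htu2, au, hau, hu⟩ := tool u huB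
  obtain ⟨tv, htv, htv1, htv2, av, hav, hv⟩ := tool v hvB
  have htune : tu ≠ [] := fun h => huA (htu1 h)
  have htvne : tv ≠ [] := fun h => hvA (htv1 h)
  have htuv : tu ≠ tv := by
    intro h
    apply huvA
    rw [hu, hv, h]
    have : ψ π au * ψ π tv * (ψ π av * ψ π tv)⁻¹ = ψ π au * (ψ π av)⁻¹ := by group
    rw [this]
    exact Subgroup.mul_mem _ (ψa_mem_A π hk au hau) (Subgroup.inv_mem _ (ψa_mem_A π hk av hav))
  have k8 : Nat.card I ≤ 8 := by
    refine (card_le_fix π hk hs I inf_le_left [tu, tv] ?_).trans (F2 tu htu tv htv htune htvne htuv)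
    intro i hi t ht
    simp only [List.mem_cons, List.not_mem_nil, or_false] at ht
    rcases ht with rfl | rfl
    · exact htu2 i hi
    · exact htv2 i hi
  have hr8 : (A π).relIndex Bs = (A π).index := by
    apply le_antisymm hri
    by_contra hlt
    have : (A π).relIndex Bs * Nat.card I ≤ 7 * 8 := Nat.mul_le_mul (by omega) k8
    omega
  -- third bound
  obtain ⟨b, hbB, hbA⟩ := exists_coset_rep (A π) Bs hr8 (ψ π [8, 9])
  have k4 : Nat.card I ≤ 4 := by
    refine (card_le_fix π hk hs I inf_le_left [[8, 9]] ?_).trans F3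
    intro i hi t ht
    rw [List.mem_singleton] at ht
    subst ht
    have c1 : Commute i b := hBc i hi.2 b hbB
    have c2 : Commute i (b⁻¹ * ψ π [8, 9]) := A_comm π hk hs i _ hi.1 hbA
    have : ψ π [8, 9] = b * (b⁻¹ * ψ π [8, 9]) := by group
    rw [this]
    exact (c1.mul_right c2).eq
  have : (A π).relIndex Bs * Nat.card I ≤ 8 * 4 := Nat.mul_le_mul (hri.trans hidx) k4
  omega

end frame

end Cfsg.Agent.Lib.Helper6.M24Q
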