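import Mathlib
import Cfsg.Prelude.Def_Sporadic_a
import Cfsg.Agent.Lib.Helper9.TabPerm
import Cfsg.Agent.Lib.Helper9.MaskSet
import Cfsg.Agent.Lib.Helper9.M24Norm
import Cfsg.Agent.Lib.Helper9.M24Ord3
import Cfsg.Agent.Lib.Helper6.M24Syl3

set_option autoImplicit false
open Cfsg

namespace Cfsg.Agent.Lib.Helper6.M24Syl

open Cfsg.Agent.Lib.Helper9.M24 (tperm tabOK tabM24 tget natOfPt ptOfNat natOfPt_tperm natOfPt_lt
  natOfPt_injective natOfPt_ptOfNat ptOfNat_natOfPt tperm_mem card_M24 exists_fixed_of_prime_pow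
  eq_one_of_fixes ord3_card_fixSet fixSet mem_fixSet mset mset_mem_octads_iff isOct)

/-- labels of the orbits of the big group -/
def lab0 (x : GolayPt) : ℕ := lab0L.getD (natOfPt x) 0

/-- labels of the orbits of the point stabilizer -/
def labD (x : GolayPt) : ℕ := labDL.getD (natOfPt x) 0

def sz0 (x : GolayPt) : ℕ := (Finset.univ.filter (fun y => lab0 y = lab0 x)).card

def szD (x : GolayPt) : ℕ := (Finset.univ.filter (fun y => labD y = labD x)).card

theorem sz0_spec : ∀ x : GolayPt, (sz0 x = 8 ∧ lab0 x = 0) ∨ (sz0 x = 16 ∧ lab0 x = 4) := by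
  decide +kernel

theorem szD_spec : ∀ x : GolayPt, (labD x = 8 ↔ szD x = 4) ∧ (labD x = 6 ↔ (szD x = 8 ∧ lab0 x = 4)) ∧
    (labD x = 0 ↔ lab0 x = 0) ∧ (labD x = 16 ↔ szD x = 2) ∧
    (szD x = 1 ↔ (x = some 4 ∨ x = some 13)) ∧ (labD x = 16 ↔ (x = some 16 ∨ x = some 22)) := by
  decide +kernel

/-- an element of prime order `r` stabilizing a set with fewer than `r` points fixes it pointwise -/
theorem fix_of_card_lt {β : Type*} [Fintype β] [DecidableEq β] (σ : Equiv.Perm β) (r : ℕ)
    (hr : r.Prime) (hσ : σ ^ r = 1) (s : Finset β) (hs : ∀ x, σ x ∈ s ↔ x ∈ s) (hcard : s.card < r) :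
    ∀ x ∈ s, σ x = x := by
  classical
  set τ : Equiv.Perm {x // x ∈ s} := σ.subtypePerm hs with hτ
  have hτp : τ ^ r = 1 := by
    rw [hτ, Equiv.Perm.subtypePerm_pow]
    apply Equiv.ext
    intro x
    apply Subtype.ext
    rw [Equiv.Perm.subtypePerm_apply]
    simp [hσ]
  have h1 : orderOf τ ∣ r := orderOf_dvd_of_pow_eq_one hτp
  have h2 : orderOf τ ∣ (s.card).factorial := by
    have := orderOf_dvd_card (x := τ)
    rwa [Fintype.card_perm, Fintype.card_coe] at this
  have h3 : orderOf τ = 1 := by
    rcases (Nat.dvd_prime hr).mp h1 with h | h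
    · exact h
    · exfalso
      rw [h, hr.dvd_factorial] at h2
      omega
  rw [orderOf_eq_one_iff] at h3
  intro x hx
  have := congrArg (fun f : Equiv.Perm {x // x ∈ s} => (f ⟨x, hx⟩).1) h3
  simpa [hτ] using this

theorem Q0_mem : ({some 4, some 13, some 16, some 22, some 8, some 11, some 12, some 18} :
    Finset GolayPt) ∈ octads := by
  have h1 : ({some 4, some 13, some 16, some 22, some 8, some 11, some 12, some 18} :
    Finset GolayPt) = mset 4536592 := by decide +kernel
  rw [h1, mset_mem_octads_iff (by norm_num)]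
  decide +kernel

theorem aux (γ : Equiv.Perm GolayPt) (hγ : γ ∈ M24)
    (hN : γ ∈ Subgroup.normalizer ((C gen 0 10 : Subgroup (Equiv.Perm GolayPt)) : Set (Equiv.Perm GolayPt)))
    (r : ℕ) (hr : r.Prime) (hr2 : r ≠ 2) (hpow : γ ^ r = 1) (hfix : γ (some 4) = some 4) : γ = 1 := by
  haveI : Fact r.Prime := ⟨hr⟩
  have hpow' : γ ^ r ^ 1 = 1 := by rwa [pow_one]
  have hfix' : γ⁻¹ (some 4) = some 4 := by rw [Equiv.Perm.inv_eq_iff_eq, hfix]
  -- `γ` normalizes the point stabilizer
  have hND : γ ∈ Subgroup.normalizer ((C gen 4 10 : Subgroup (Equiv.Perm GolayPt)) :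
      Set (Equiv.Perm GolayPt)) := by
    rw [Subgroup.mem_normalizer_iff]
    intro s
    rw [mem_D_iff, mem_D_iff, ← Subgroup.mem_normalizer_iff.mp hN s]
    apply and_congr_right
    intro _
    rw [Equiv.Perm.mul_apply, Equiv.Perm.mul_apply, hfix']
    constructor
    · intro h; rw [h, hfix]
    · intro h
      apply γ.injective
      rw [h, hfix]
  have h0 : ∀ x, lab0 (γ x) = lab0 x := by
    intro x
    have h1 : sz0 (γ x) = sz0 x := card_fiber_eq hN lab0 rel_S0 x
    rcases sz0_spec x with ⟨h2, h3⟩ | ⟨h2, h3⟩ <;> rcases sz0_spec (γ x) with ⟨h4, h5⟩ | ⟨h4, h5⟩ <;> omega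
  have hD : ∀ x, szD (γ x) = szD x := fun x => card_fiber_eq hND labD rel_D x
  -- the invariant classes
  have i8 : ∀ x, labD (γ x) = 8 ↔ labD x = 8 := by
    intro x
    rw [(szD_spec x).1, (szD_spec (γ x)).1, hD]
  have i6 : ∀ x, labD (γ x) = 6 ↔ labD x = 6 := by
    intro x
    rw [(szD_spec x).2.1, (szD_spec (γ x)).2.1, hD, h0]
  have i0 : ∀ x, labD (γ x) = 0 ↔ labD x = 0 := by
    intro x
    rw [(szD_spec x).2.2.1, (szD_spec (γ x)).2.2.1, h0]
  have i16 : ∀ x, labD (γ x) = 16 ↔ labD x = 16 := by
    intro x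
    rw [(szD_spec x).2.2.2.1, (szD_spec (γ x)).2.2.2.1, hD]
  -- fixed points
  have f13 : γ (some 13) = some 13 := by
    have h1 : szD (γ (some 13)) = 1 := by
      rw [hD]
      exact (szD_spec (some 13)).2.2.2.2.1.mpr (Or.inr rfl)
    rcases (szD_spec (γ (some 13))).2.2.2.2.1.mp h1 with h | h
    · exfalso
      rw [← hfix] at h
      have := γ.injective h
      revert this
      decide
    · exact h
  have key : ∀ (c : ℕ), (∀ x, labD (γ x) = c ↔ labD x = c) →
      ¬ r ∣ (Finset.univ.filter (fun y : GolayPt => labD y = c)).card → ∃ x, labD x = c ∧ γ x = x := by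
    intro c hc hcard
    obtain ⟨x, hx, hx2⟩ := exists_fixed_of_prime_pow γ r 1 hpow'
      (Finset.univ.filter (fun y : GolayPt => labD y = c))
      (by intro x; simp only [Finset.mem_filter, Finset.mem_univ, true_and]; exact hc x) hcard
    exact ⟨x, by simpa using hx, hx2⟩
  have hr_pow : ∀ k, ¬ r ∣ 2 ^ k := by
    intro k h
    exact hr2 ((Nat.prime_dvd_prime_iff_eq hr Nat.prime_two).mp (hr.dvd_of_dvd_pow h))
  have c16 : (Finset.univ.filter (fun y : GolayPt => labD y = 16)).card = 2 ^ 1 := by decide +kernel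
  have c8 : (Finset.univ.filter (fun y : GolayPt => labD y = 8)).card = 2 ^ 2 := by decide +kernel
  have c6 : (Finset.univ.filter (fun y : GolayPt => labD y = 6)).card = 2 ^ 3 := by decide +kernel
  have c0 : (Finset.univ.filter (fun y : GolayPt => labD y = 0)).card = 2 ^ 3 := by decide +kernel
  obtain ⟨x2, hx2, hx2f⟩ := key 16 i16 (by rw [c16]; exact hr_pow 1)
  obtain ⟨v, hv, hvf⟩ := key 8 i8 (by rw [c8]; exact hr_pow 2)
  obtain ⟨w, hw, hwf⟩ := key 6 i6 (by rw [c6]; exact hr_pow 3)
  obtain ⟨c, hc, hcf⟩ := key 0 i0 (by rw [c0]; exact hr_pow 3)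
  have f16 : γ (some 16) = some 16 ∧ γ (some 22) = some 22 := by
    have e16 : labD (some 16) = 16 := by decide +kernel
    have e22 : labD (some 22) = 16 := by decide +kernel
    have ne : (some 16 : GolayPt) ≠ some 22 := by decide
    have a16 := (szD_spec (γ (some 16))).2.2.2.2.2.mp ((i16 _).mpr e16)
    have a22 := (szD_spec (γ (some 22))).2.2.2.2.2.mp ((i16 _).mpr e22)
    rcases (szD_spec x2).2.2.2.2.2.mp hx2 with rfl | rfl
    · refine ⟨hx2f, ?_⟩
      rcases a22 with h | h
      · exfalso
        rw [← hx2f] at h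
        exact ne (γ.injective h).symm
      · exact h
    · refine ⟨?_, hx2f⟩
      rcases a16 with h | h
      · exact h
      · exfalso
        rw [← hx2f] at h
        exact ne (γ.injective h)
  by_cases h3 : r = 3
  · -- order three: too many fixed points
    subst h3
    by_contra hne
    have hc3 : γ * γ * γ = 1 := by rw [← hpow, pow_three']
    have h6 := ord3_card_fixSet hγ hc3 hne hfix
    have hsub : insert c (insert w (insert v ({some 4, some 13, some 16, some 22} : Finset GolayPt))) ⊆
        fixSet γ := by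
      intro y hy
      rw [mem_fixSet]
      simp only [Finset.mem_insert, Finset.mem_singleton] at hy
      rcases hy with rfl | rfl | rfl | rfl | rfl | rfl | rfl
      · exact hcf
      · exact hwf
      · exact hvf
      · exact hfix
      · exact f13
      · exact f16.1
      · exact f16.2
    have hcard := Finset.card_le_card hsub
    have l4 : labD (some 4) = 4 := by decide +kernel
    have l13 : labD (some 13) = 13 := by decide +kernel
    have l16 : labD (some 16) = 16 := by decide +kernel
    have l22 : labD (some 22) = 16 := by decide +kernel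
    rw [Finset.card_insert_of_notMem, Finset.card_insert_of_notMem, Finset.card_insert_of_notMem] at hcard
    · have : ({some 4, some 13, some 16, some 22} : Finset GolayPt).card = 4 := by decide
      omega
    · simp only [Finset.mem_insert, Finset.mem_singleton]
      rintro (rfl | rfl | rfl | rfl) <;> omega
    · simp only [Finset.mem_insert, Finset.mem_singleton]
      rintro (rfl | rfl | rfl | rfl | rfl) <;> omega
    · simp only [Finset.mem_insert, Finset.mem_singleton]
      rintro (rfl | rfl | rfl | rfl | rfl | rfl) <;> omega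
  · -- order at least five
    have h5 : 5 ≤ r := Nat.Prime.five_le_of_ne_two_of_ne_three hr hr2 h3
    have hA4 : ∀ x, labD x = 8 → γ x = x := by
      intro x hx
      have := fix_of_card_lt γ r hr hpow (Finset.univ.filter (fun y : GolayPt => labD y = 8))
        (by intro x; simp only [Finset.mem_filter, Finset.mem_univ, true_and]; exact i8 x)
        (by rw [c8]; omega) x (by simpa using hx)
      exact this
    refine eq_one_of_fixes hγ Q0_mem
      (P := {some 4, some 13, some 16, some 22, some 8, some 11}) (by decide) (by decide) ?_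
      (x := w) ?_ hwf
    · intro p hp
      simp only [Finset.mem_insert, Finset.mem_singleton] at hp
      rcases hp with rfl | rfl | rfl | rfl | rfl | rfl
      · exact hfix
      · exact f13
      · exact f16.1
      · exact f16.2
      · exact hA4 _ (by decide +kernel)
      · exact hA4 _ (by decide +kernel)
    · intro hwQ
      have : ∀ y ∈ ({some 4, some 13, some 16, some 22, some 8, some 11, some 12, some 18} :
          Finset GolayPt), labD y ≠ 6 := by decide +kernel
      exact this w hwQ hw

end Cfsg.Agent.Lib.Helper6.M24Syl
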