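import Cfsg.Agent.Lib.Helper1.MatCode3

set_option autoImplicit false

namespace Cfsg.Agent.Lib.Helper6.F4Mat

open Cfsg.Agent.Lib.Helper1.MatCode

/-! # The evaluation of words and powers on codes of matrices, for matrices of any size

The statements are those of `dec_evalW` and of `dec_powN`, with the products of matrices written
as they are for matrices: used at a given size they need no unfolding of the product. -/

section
variable (n p : ℕ)

theorem dec_mulN_mat (hp : 0 < p) (hpW : p ≤ W) (hbound : n * ((p - 1) * (p - 1)) < W) :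
    ∀ a b, Canon n p b → dec n p (mulN n p a b) = dec n p a * dec n p b :=
  fun a b hb => dec_mulN n p hp hpW hbound a b hb

theorem dec_powN_mat (hmu : ∀ a b, Canon n p b → dec n p (mulN n p a b) = dec n p a * dec n p b)
    {c1 c : ℕ} (h1 : dec n p c1 = 1) (hc : Canon n p c) (k : ℕ) :
    dec n p (powN (mulN n p) c1 c k) = dec n p c ^ k :=
  dec_powN (dec n p) (mulN n p) (Canon n p) hmu h1 hc k

theorem dec_evalW_mat (hmu : ∀ a b, Canon n p b → dec n p (mulN n p a b) = dec n p a * dec n p b)
    {Γ : Type*} [Group Γ] (φ : Γ →* Matrix (Fin n) (Fin n) (ZMod p)) {c1 : ℕ}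
    (h1 : dec n p c1 = 1) (hc1 : Canon n p c1)
    (G : List Γ) (gens : List ℕ) (hlen : G.length = gens.length)
    (hG : ∀ i, ∀ (h : i < G.length) (h' : i < gens.length), φ G[i] = dec n p gens[i])
    (hcan : ∀ c ∈ gens, Canon n p c) (w : List ℕ) :
    φ (wordProd G w) = dec n p (evalW (mulN n p) gens c1 w) :=
  dec_evalW (dec n p) (mulN n p) (Canon n p) hmu φ h1 hc1 G gens hlen hG hcan w

/-- the product of two coded matrices -/
theorem mul_of_codes (hmu : ∀ a b, Canon n p b → dec n p (mulN n p a b) = dec n p a * dec n p b)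
    {A B : Matrix (Fin n) (Fin n) (ZMod p)} {a b c : ℕ} (hA : A = dec n p a) (hB : B = dec n p b)
    (hb : Canon n p b) (h : mulN n p a b = c) : A * B = dec n p c := by
  rw [hA, hB, ← hmu a b hb, h]

/-- the code of the inverse -/
theorem inv_of_code (hmu : ∀ a b, Canon n p b → dec n p (mulN n p a b) = dec n p a * dec n p b)
    {Γ : Type*} [Group Γ] (φ : Γ →* Matrix (Fin n) (Fin n) (ZMod p)) {c1 : ℕ}
    (h1 : dec n p c1 = 1) (g : Γ) (c c' : ℕ) (hc' : Canon n p c') (hg : φ g = dec n p c)
    (h : mulN n p c c' = c1) : φ g⁻¹ = dec n p c' := by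
  have e1 : φ g * dec n p c' = 1 := by
    rw [hg, ← hmu _ _ hc', h, h1]
  have e2 : φ g⁻¹ * φ g = 1 := by rw [← map_mul, inv_mul_cancel, map_one]
  calc φ g⁻¹ = φ g⁻¹ * (φ g * dec n p c') := by rw [e1, mul_one]
    _ = dec n p c' := by rw [← mul_assoc, e2, one_mul]

end

end Cfsg.Agent.Lib.Helper6.F4Mat
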