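import Mathlib
import Cfsg.Agent.Lib.Lead.MixCfg
import Cfsg.Agent.Lib.Helper6.Conj

/-!
# S4017, package P4 (Case IIa): structural part

`P₁ = 1` and `K_t = 1`: every involution `u` has `C_G(u)` elementary abelian of order `2 ^ a`;
a non-trivial element `x` inverted by an involution (with `x ^ 2 ≠ 1`) has `C_G(x)` a Sylow
`p`-subgroup, which is inverted by that involution.
-/

set_option autoImplicit false

namespace Cfsg.Agent.Lib.Helper6.Mix

open Cfsg.Agent.Lib.Lead.Mix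

variable {G : Type*} [Group G]

/-- an involution -/
def IsInvo (s : G) : Prop := s ≠ 1 ∧ s ^ 2 = 1

theorem IsInvo.mul_self {s : G} (h : IsInvo s) : s * s = 1 := by
  rw [← pow_two]; exact h.2

theorem IsInvo.inv_eq {s : G} (h : IsInvo s) : s⁻¹ = s :=
  inv_eq_of_mul_eq_one_left h.mul_self

theorem IsInvo.conj {s : G} (h : IsInvo s) (g : G) : IsInvo (g * s * g⁻¹) := by
  refine ⟨fun h1 => h.1 ?_, ?_⟩
  · have : s = g⁻¹ * (g * s * g⁻¹) * g := by group
    rw [this, h1]; group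
  · rw [pow_two]
    calc g * s * g⁻¹ * (g * s * g⁻¹) = g * (s * s) * g⁻¹ := by group
      _ = 1 := by rw [h.mul_self]; group

theorem IsInvo.orderOf_eq {s : G} (h : IsInvo s) : orderOf s = 2 :=
  orderOf_eq_prime h.2 h.1

/-- `t` is an involution inverting `x`, and `x ^ 2 ≠ 1` -/
def Invd (t x : G) : Prop := IsInvo t ∧ t * x * t⁻¹ = x⁻¹ ∧ x ^ 2 ≠ 1

theorem Invd.ne_one {t x : G} (h : Invd t x) : x ≠ 1 := fun h1 => h.2.2 (by rw [h1]; simp)

/-- `t x t = x⁻¹` -/
theorem Invd.mul_mul {t x : G} (h : Invd t x) : t * x * t = x⁻¹ := by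
  have := h.2.1; rwa [h.1.inv_eq] at this

theorem Invd.invo_mul {t x : G} (h : Invd t x) : IsInvo (x * t) := by
  refine ⟨fun h1 => h.2.2 ?_, ?_⟩
  · have hx : x = t⁻¹ := eq_inv_of_mul_eq_one_left h1
    rw [hx, h.1.inv_eq]; exact h.1.2
  · rw [pow_two]
    calc x * t * (x * t) = x * (t * x * t) := by group
      _ = 1 := by rw [h.mul_mul]; group

theorem Invd.mul_t {t x : G} (h : Invd t x) : x * t * t = x := by
  rw [mul_assoc, h.1.mul_self, mul_one]

theorem Invd.not_comm {t x : G} (h : Invd t x) : x * t * t ≠ t * (x * t) := by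
  rw [h.mul_t, ← mul_assoc, h.mul_mul]
  intro h1
  apply h.2.2
  rw [pow_two]
  nth_rewrite 2 [h1]
  group

/-- the product of two non-commuting involutions is inverted by the second one -/
theorem invd_of_invo {s t : G} (hs : IsInvo s) (ht : IsInvo t) (hst : s * t ≠ t * s) :
    Invd t (s * t) := by
  have hinv : (s * t)⁻¹ = t * s := by rw [mul_inv_rev, hs.inv_eq, ht.inv_eq]
  refine ⟨ht, ?_, ?_⟩
  · rw [hinv, ht.inv_eq, mul_assoc, mul_assoc, ht.mul_self, mul_one]
  · intro h2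
    apply hst
    have : s * t = (s * t)⁻¹ := by
      rw [pow_two] at h2
      exact eq_inv_of_mul_eq_one_left h2
    rw [this, hinv]

/-- the data of Case IIa -/
structure IIa (G : Type*) [Group G] [Finite G] (p a : ℕ) (Q : Subgroup G) (w : G) : Prop
    extends CfgB G p a Q w where
  centQ : ∀ u ∈ Q, u ≠ 1 → Subgroup.centralizer ({u} : Set G) = Q
  exQ : ∃ u ∈ Q, u ≠ 1

variable [Finite G] {p a : ℕ} {Q : Subgroup G} {w : G}

/-- Case IIa data from the hypotheses of package P4 -/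
theorem IIa.mk' (h : CfgB G p a Q w) {t : G} (ht : t ∈ Q) (ht1 : t ≠ 1) (hK : Kt p t = ⊥) :
    IIa G p a Q w := by
  refine { h with centQ := ?_, exQ := ⟨t, ht, ht1⟩ }
  intro u hu hu1
  have hKu : Kt p u = ⊥ := by
    obtain ⟨i, hi⟩ := h.wtr t ht ht1 u hu hu1
    rw [← hi, Kt_conj, hK, Subgroup.map_bot]
  have hle : Q ≤ Subgroup.centralizer ({u} : Set G) := by
    intro x hx
    rw [Subgroup.mem_centralizer_singleton_iff]
    exact h.Qab x hx u hu
  have hcard : Nat.card (Subgroup.centralizer ({u} : Set G)) = Nat.card Q := by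
    rw [h.kt_card u hu hu1, hKu, h.Qcard]; simp
  exact (Subgroup.eq_of_le_of_card_ge hle (le_of_eq hcard)).symm

theorem IIa.p_odd (h : IIa G p a Q w) : ¬ 2 ∣ p := by
  intro h2
  have h4 : 2 ∣ 2 ^ a := dvd_pow_self 2 (by have := h.ha; omega)
  rw [← h.hpa] at h4
  omega

theorem IIa.p_ne_two (h : IIa G p a Q w) : p ≠ 2 := fun h2 => h.p_odd (by rw [h2])

theorem IIa.coprime_two_pow (h : IIa G p a Q w) (k : ℕ) : Nat.Coprime 2 (p ^ k) :=
  Nat.Coprime.pow_right k ((Nat.coprime_primes Nat.prime_two h.hp).mpr (Ne.symm h.p_ne_two))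

theorem IIa.exists_conj_mem (h : IIa G p a Q w) {s : G} (hs : IsInvo s) :
    ∃ g : G, g * s * g⁻¹ ∈ Q ∧ g * s * g⁻¹ ≠ 1 := by
  obtain ⟨g, hg⟩ := h.inv_conj s hs.1 hs.2
  exact ⟨g, hg, (hs.conj g).1⟩

theorem IIa.conj_mem_of_comm (h : IIa G p a Q w) {s g x : G} (hgQ : g * s * g⁻¹ ∈ Q)
    (hg1 : g * s * g⁻¹ ≠ 1) (hx : x * s = s * x) : g * x * g⁻¹ ∈ Q := by
  rw [← h.centQ _ hgQ hg1, Subgroup.mem_centralizer_singleton_iff]
  calc g * x * g⁻¹ * (g * s * g⁻¹) = g * (x * s) * g⁻¹ := by group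
    _ = g * (s * x) * g⁻¹ := by rw [hx]
    _ = g * s * g⁻¹ * (g * x * g⁻¹) := by group

/-- the centralizer of an involution is abelian -/
theorem IIa.comm_of_comm_invo (h : IIa G p a Q w) {s x y : G} (hs : IsInvo s)
    (hx : x * s = s * x) (hy : y * s = s * y) : x * y = y * x := by
  obtain ⟨g, hgQ, hg1⟩ := h.exists_conj_mem hs
  have h1 := h.Qab _ (h.conj_mem_of_comm hgQ hg1 hx) _ (h.conj_mem_of_comm hgQ hg1 hy)
  have h2 : g * (x * y) * g⁻¹ = g * (y * x) * g⁻¹ := by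
    calc g * (x * y) * g⁻¹ = g * x * g⁻¹ * (g * y * g⁻¹) := by group
      _ = g * y * g⁻¹ * (g * x * g⁻¹) := h1
      _ = g * (y * x) * g⁻¹ := by group
  exact mul_left_cancel (mul_right_cancel h2)

/-- the centralizer of an involution has exponent 2 -/
theorem IIa.sq_of_comm_invo (h : IIa G p a Q w) {s x : G} (hs : IsInvo s)
    (hx : x * s = s * x) : x ^ 2 = 1 := by
  obtain ⟨g, hgQ, hg1⟩ := h.exists_conj_mem hs
  have h1 := h.Qexp _ (h.conj_mem_of_comm hgQ hg1 hx)
  rw [conj_pow] at h1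
  have : x ^ 2 = g⁻¹ * (g * x ^ 2 * g⁻¹) * g := by group
  rw [this, h1]; group

/-- the centralizer of an involution has order `2 ^ a` -/
theorem IIa.card_cent_invo (h : IIa G p a Q w) {s : G} (hs : IsInvo s) :
    Nat.card (Subgroup.centralizer ({s} : Set G)) = 2 ^ a := by
  obtain ⟨g, hgQ, hg1⟩ := h.exists_conj_mem hs
  rw [← h.Qcard]
  refine Nat.card_congr
    { toFun := fun x => ⟨g * x * g⁻¹, h.conj_mem_of_comm hgQ hg1
        (Subgroup.mem_centralizer_singleton_iff.mp x.2)⟩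
      invFun := fun y => ⟨g⁻¹ * y * g, ?_⟩
      left_inv := fun x => by ext; simp [mul_assoc]
      right_inv := fun y => by ext; simp [mul_assoc] }
  rw [Subgroup.mem_centralizer_singleton_iff]
  have h1 := h.Qab _ y.2 _ hgQ
  calc g⁻¹ * y * g * s = g⁻¹ * (y * (g * s * g⁻¹)) * g := by group
    _ = g⁻¹ * (g * s * g⁻¹ * y) * g := by rw [h1]
    _ = s * (g⁻¹ * y * g) := by group

/-- a `p`-element commuting with an involution is trivial -/
theorem IIa.eq_one_of_comm_invo (h : IIa G p a Q w) {s x : G} (hs : IsInvo s)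
    (hx : x * s = s * x) {k : ℕ} (hk : x ^ (p ^ k) = 1) : x = 1 := by
  have h2 := h.sq_of_comm_invo hs hx
  have := Nat.dvd_gcd (orderOf_dvd_of_pow_eq_one h2) (orderOf_dvd_of_pow_eq_one hk)
  rw [h.coprime_two_pow k] at this
  exact orderOf_eq_one_iff.mp (Nat.dvd_one.mp this)

/-- a non-trivial `p`-element is not of order at most 2 -/
theorem IIa.sq_ne_one (h : IIa G p a Q w) {x : G} (hx1 : x ≠ 1) {k : ℕ} (hk : x ^ (p ^ k) = 1) :
    x ^ 2 ≠ 1 := by
  intro h2
  apply hx1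
  have := Nat.dvd_gcd (orderOf_dvd_of_pow_eq_one h2) (orderOf_dvd_of_pow_eq_one hk)
  rw [h.coprime_two_pow k] at this
  exact orderOf_eq_one_iff.mp (Nat.dvd_one.mp this)

/-- all involutions are conjugate -/
theorem IIa.invo_conj (h : IIa G p a Q w) {s t : G} (hs : IsInvo s) (ht : IsInvo t) :
    ∃ g : G, g * t * g⁻¹ = s := by
  obtain ⟨g1, hg1Q, hg11⟩ := h.exists_conj_mem hs
  obtain ⟨g2, hg2Q, hg21⟩ := h.exists_conj_mem ht
  obtain ⟨i, hi⟩ := h.wtr _ hg2Q hg21 _ hg1Q hg11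
  refine ⟨g1⁻¹ * w ^ i * g2, ?_⟩
  calc g1⁻¹ * w ^ i * g2 * t * (g1⁻¹ * w ^ i * g2)⁻¹
      = g1⁻¹ * (w ^ i * (g2 * t * g2⁻¹) * (w ^ i)⁻¹) * g1 := by group
    _ = g1⁻¹ * (g1 * s * g1⁻¹) * g1 := by rw [hi]
    _ = s := by group

/-- the product of two non-commuting involutions has order `p ^ j`, `j ≥ 1` -/
theorem IIa.orderOf_mul_invo (h : IIa G p a Q w) {s t : G} (hs : IsInvo s) (ht : IsInvo t)
    (hst : s * t ≠ t * s) : ∃ j : ℕ, 1 ≤ j ∧ orderOf (s * t) = p ^ j := by
  obtain ⟨j, hj | hj⟩ := h.dih s t hs.1 ht.1 hs.2 ht.2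
  · refine ⟨j, ?_, hj⟩
    by_contra hj0
    have hj0' : j = 0 := by omega
    rw [hj0', pow_zero, orderOf_eq_one_iff] at hj
    apply hst
    have : s = t⁻¹ := eq_inv_of_mul_eq_one_left hj
    rw [this, ht.inv_eq]
  · exfalso
    apply hst
    have hI := invd_of_invo hs ht hst
    set x := s * t with hx
    have hppos : 0 < p ^ j := pos_of_ne_zero (pow_ne_zero _ h.hp.ne_zero)
    have hu1 : x ^ (p ^ j) ≠ 1 :=
      pow_ne_one_of_lt_orderOf hppos.ne' (by rw [hj]; omega)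
    have hu2 : (x ^ (p ^ j)) ^ 2 = 1 := by
      rw [← pow_mul, mul_comm, ← hj]; exact pow_orderOf_eq_one x
    have hu : IsInvo (x ^ (p ^ j)) := ⟨hu1, hu2⟩
    have htx : t * x * t⁻¹ = x⁻¹ := hI.2.1
    have hsx : s * x * s⁻¹ = x⁻¹ := by
      have hinv : x⁻¹ = t * s := by rw [hx, mul_inv_rev, hs.inv_eq, ht.inv_eq]
      rw [hinv, hx, hs.inv_eq, ← mul_assoc, hs.mul_self, one_mul]
    have key : ∀ r : G, r * x * r⁻¹ = x⁻¹ → r * x ^ (p ^ j) = x ^ (p ^ j) * r := by
      intro r hr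
      have h1 : r * x ^ (p ^ j) * r⁻¹ = (x ^ (p ^ j))⁻¹ := by
        rw [← conj_pow, hr, inv_pow]
      rw [hu.inv_eq] at h1
      calc r * x ^ (p ^ j) = r * x ^ (p ^ j) * r⁻¹ * r := by group
        _ = x ^ (p ^ j) * r := by rw [h1]
    exact h.comm_of_comm_invo hu (key s hsx) (key t htx)

theorem IIa.orderOf_of_invd (h : IIa G p a Q w) {t x : G} (hx : Invd t x) :
    ∃ j : ℕ, 1 ≤ j ∧ orderOf x = p ^ j := by
  have := h.orderOf_mul_invo hx.invo_mul hx.1 hx.not_comm
  rwa [hx.mul_t] at this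

omit [Finite G] in
theorem conj_mem_zpowers_of_inverts {t x : G} (htx : t * x * t⁻¹ = x⁻¹) {y : G}
    (hy : y ∈ Subgroup.zpowers x) : t * y * t⁻¹ ∈ Subgroup.zpowers x := by
  obtain ⟨n, rfl⟩ := Subgroup.mem_zpowers_iff.mp hy
  rw [← conj_zpow, htx]
  exact Subgroup.zpow_mem _ (Subgroup.inv_mem _ (Subgroup.mem_zpowers x)) n

/-- the centralizer of an inverted element is a `p`-group -/
theorem IIa.isPGroup_cent (h : IIa G p a Q w) {t x : G} (hx : Invd t x) :
    IsPGroup p (Subgroup.centralizer ({x} : Set G)) := by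
  have : Fact p.Prime := ⟨h.hp⟩
  obtain ⟨j, -, hj⟩ := h.orderOf_of_invd hx
  have hx1 : x ≠ 1 := hx.ne_one
  have hZbot : Subgroup.zpowers x ≠ ⊥ := fun hb => hx1 (Subgroup.zpowers_eq_bot.mp hb)
  have ht2 : orderOf t = 2 := hx.1.orderOf_eq
  have h2G : 2 ∣ Nat.card G := ht2 ▸ orderOf_dvd_natCard t
  have hZtop : Subgroup.zpowers x ≠ ⊤ := by
    intro htop
    have h1 : Nat.card (Subgroup.zpowers x) = Nat.card G := by
      rw [htop]; exact Subgroup.card_top
    rw [Nat.card_zpowers, hj] at h1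
    rw [← h1] at h2G
    exact h.p_odd (Nat.Prime.dvd_of_dvd_pow Nat.prime_two h2G)
  have hN : Subgroup.normalizer ((Subgroup.zpowers x : Subgroup G) : Set G) ≠ ⊤ :=
    h.nloc _ hZbot hZtop
  have htN : t ∈ Subgroup.normalizer ((Subgroup.zpowers x : Subgroup G) : Set G) := by
    rw [Subgroup.mem_normalizer_iff]
    intro y
    constructor
    · exact conj_mem_zpowers_of_inverts hx.2.1
    · intro hy
      have := conj_mem_zpowers_of_inverts hx.2.1 hy
      have h2 : t * (t * y * t⁻¹) * t⁻¹ = y := by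
        rw [hx.1.inv_eq]
        calc t * (t * y * t) * t = (t * t) * y * (t * t) := by group
          _ = y := by rw [hx.1.mul_self]; group
      rwa [h2] at this
  have h2N : 2 ∣ Nat.card (Subgroup.normalizer ((Subgroup.zpowers x : Subgroup G) : Set G)) :=
    ht2 ▸ Subgroup.orderOf_dvd_natCard _ htN
  have hCN : Subgroup.centralizer ({x} : Set G) ≤
      Subgroup.normalizer ((Subgroup.zpowers x : Subgroup G) : Set G) := by
    have h1 : Subgroup.centralizer ({x} : Set G) =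
        Subgroup.centralizer ((Subgroup.zpowers x : Subgroup G) : Set G) := by
      rw [Subgroup.zpowers_eq_closure, Subgroup.centralizer_closure]
    rw [h1]
    exact Subgroup.centralizer_le_normalizer _
  have hprimes : ∀ r : ℕ, r.Prime → r ∣ Nat.card (Subgroup.centralizer ({x} : Set G)) →
      r = p := by
    intro r hr hrd
    rcases h.prop _ hN h2N r hr (hrd.trans (Subgroup.card_dvd_of_le hCN)) with h2 | hp'
    · exfalso
      subst h2
      have : Fact (Nat.Prime 2) := ⟨Nat.prime_two⟩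
      obtain ⟨u, hu⟩ := exists_prime_orderOf_dvd_card' 2 hrd
      have hu' : orderOf (u : G) = 2 := by rw [Subgroup.orderOf_coe]; exact hu
      have huI : IsInvo (u : G) := by
        refine ⟨fun h1 => ?_, ?_⟩
        · rw [h1, orderOf_one] at hu'; omega
        · rw [← hu']; exact pow_orderOf_eq_one _
      have hxu : x * (u : G) = (u : G) * x :=
        (Subgroup.mem_centralizer_singleton_iff.mp u.2).symm
      exact hx.2.2 (h.sq_of_comm_invo huI hxu)
    · exact hp'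
  have hcard := Nat.eq_prime_pow_of_unique_prime_dvd (Nat.card_pos.ne')
    (fun {q} hq hqd => hprimes q hq hqd)
  exact IsPGroup.of_card hcard

/-- a Sylow `p`-subgroup containing an inverted element is its centralizer -/
theorem IIa.sylow_eq_cent (h : IIa G p a Q w) {t x : G} (hx : Invd t x) (P : Sylow p G)
    (hxP : x ∈ (P : Subgroup G)) : (P : Subgroup G) = Subgroup.centralizer ({x} : Set G) := by
  have hle : (P : Subgroup G) ≤ Subgroup.centralizer ({x} : Set G) := by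
    intro y hy
    rw [Subgroup.mem_centralizer_singleton_iff]
    exact h.pab P P.isPGroup' y hy x hxP
  exact (P.is_maximal' (h.isPGroup_cent hx) hle).symm

theorem IIa.exists_sylow_mem (h : IIa G p a Q w) {t x : G} (hx : Invd t x) :
    ∃ P : Sylow p G, x ∈ (P : Subgroup G) := by
  obtain ⟨P, hP⟩ := (h.isPGroup_cent hx).exists_le_sylow
  refine ⟨P, hP ?_⟩
  rw [Subgroup.mem_centralizer_singleton_iff]

/-- `t` is an involution inverting every element of `P` -/
def Good (P : Subgroup G) (t : G) : Prop := IsInvo t ∧ ∀ y ∈ P, t * y * t⁻¹ = y⁻¹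

/-- the involution inverts the whole Sylow subgroup -/
theorem IIa.good_of_invd (h : IIa G p a Q w) {t x : G} (hx : Invd t x) (P : Sylow p G)
    (hxP : x ∈ (P : Subgroup G)) : Good (P : Subgroup G) t := by
  refine ⟨hx.1, ?_⟩
  have hPC := h.sylow_eq_cent hx P hxP
  intro y hy
  have hyx : y * x = x * y := h.pab P P.isPGroup' y hy x hxP
  -- `t y t⁻¹ ∈ P`
  have hty : t * y * t⁻¹ ∈ (P : Subgroup G) := by
    rw [hPC, Subgroup.mem_centralizer_singleton_iff]
    have h1 : t * y * t⁻¹ * x⁻¹ = x⁻¹ * (t * y * t⁻¹) := by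
      rw [← hx.2.1]
      calc t * y * t⁻¹ * (t * x * t⁻¹) = t * (y * x) * t⁻¹ := by group
        _ = t * (x * y) * t⁻¹ := by rw [hyx]
        _ = t * x * t⁻¹ * (t * y * t⁻¹) := by group
    calc t * y * t⁻¹ * x = x * (x⁻¹ * (t * y * t⁻¹)) * x := by group
      _ = x * (t * y * t⁻¹ * x⁻¹) * x := by rw [h1]
      _ = x * (t * y * t⁻¹) := by group
  have hz : y * (t * y * t⁻¹) ∈ (P : Subgroup G) := Subgroup.mul_mem _ hy hty
  have hcomm : y * (t * y * t⁻¹) = t * y * t⁻¹ * y := h.pab P P.isPGroup' _ hy _ hty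
  have hzt : y * (t * y * t⁻¹) * t = t * (y * (t * y * t⁻¹)) := by
    rw [hx.1.inv_eq] at hcomm ⊢
    calc y * (t * y * t) * t = (t * y * t * y) * t := by rw [hcomm]
      _ = t * y * (t * y * t) := by group
      _ = t * (y * (t * y * t)) := by group
  obtain ⟨k, hk⟩ := P.isPGroup' ⟨_, hz⟩
  have hk' : (y * (t * y * t⁻¹)) ^ (p ^ k) = 1 := by
    have := congrArg Subtype.val hk
    simpa using this
  have h1 := h.eq_one_of_comm_invo hx.1 hzt hk'
  exact (eq_inv_of_mul_eq_one_right h1)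

theorem IIa.invd_of_good (h : IIa G p a Q w) (P : Sylow p G) {t y : G}
    (hg : Good (P : Subgroup G) t) (hy : y ∈ (P : Subgroup G)) (hy1 : y ≠ 1) : Invd t y := by
  refine ⟨hg.1, hg.2 y hy, ?_⟩
  obtain ⟨k, hk⟩ := P.isPGroup' ⟨y, hy⟩
  have hk' : y ^ (p ^ k) = 1 := by
    have := congrArg Subtype.val hk
    simpa using this
  exact h.sq_ne_one hy1 hk'

/-- there are two non-commuting involutions -/
theorem IIa.exists_noncomm (h : IIa G p a Q w) :
    ∃ s t : G, IsInvo s ∧ IsInvo t ∧ s * t ≠ t * s := by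
  by_contra hcon
  push Not at hcon
  obtain ⟨t, htQ, ht1⟩ := h.exQ
  have htI : IsInvo t := ⟨ht1, h.Qexp t htQ⟩
  have hall : ∀ s : G, IsInvo s → s ∈ Q := by
    intro s hs
    rw [← h.centQ t htQ ht1, Subgroup.mem_centralizer_singleton_iff]
    exact hcon s t hs htI
  have hnorm : Q.Normal := by
    refine ⟨fun x hx g => ?_⟩
    by_cases hx1 : x = 1
    · rw [hx1]; simp
    · exact hall _ (IsInvo.conj ⟨hx1, h.Qexp x hx⟩ g)
  have h4 : 2 ≤ 2 ^ a := by
    calc 2 = 2 ^ 1 := by norm_num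
      _ ≤ 2 ^ a := Nat.pow_le_pow_right (by norm_num) (by have := h.ha; omega)
  rcases h.simp Q hnorm with hb | htop
  · have := h.Qcard
    rw [hb, Subgroup.card_bot] at this
    omega
  · have hG : Nat.card G = 2 ^ a := by
      rw [← h.Qcard, htop]; exact Subgroup.card_top.symm
    have := h.pdvd
    rw [hG] at this
    have h2 := (Nat.prime_dvd_prime_iff_eq h.hp Nat.prime_two).mp (h.hp.dvd_of_dvd_pow this)
    exact h.p_ne_two h2

/-- every Sylow `p`-subgroup is inverted by an involution -/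
theorem IIa.exists_good (h : IIa G p a Q w) (P : Sylow p G) :
    ∃ t : G, Good (P : Subgroup G) t := by
  have : Fact p.Prime := ⟨h.hp⟩
  obtain ⟨s, t, hs, ht, hst⟩ := h.exists_noncomm
  have hI := invd_of_invo hs ht hst
  obtain ⟨P0, hxP0⟩ := h.exists_sylow_mem hI
  have hg0 := h.good_of_invd hI P0 hxP0
  obtain ⟨g, hg⟩ := MulAction.exists_smul_eq G P0 P
  refine ⟨g * t * g⁻¹, ht.conj g, ?_⟩
  intro y hy
  rw [← hg, Cfsg.Agent.Lib.Helper6.sylow_smul_eq_map_conj, Subgroup.mem_map] at hy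
  obtain ⟨z, hz, rfl⟩ := hy
  have h1 := hg0.2 z hz
  simp only [MulEquiv.coe_toMonoidHom, MulAut.conj_apply]
  calc g * t * g⁻¹ * (g * z * g⁻¹) * (g * t * g⁻¹)⁻¹ = g * (t * z * t⁻¹) * g⁻¹ := by group
    _ = g * z⁻¹ * g⁻¹ := by rw [h1]
    _ = (g * z * g⁻¹)⁻¹ := by group

end Cfsg.Agent.Lib.Helper6.Mix
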