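import Mathlib
import Cfsg.Agent.Lib.Lead.MixCfg
import Cfsg.Agent.Lib.Helper7.MixP2a
import Cfsg.Agent.Lib.Helper6.MixP4a

/-!
# S4017, package P3 (Case I, `P₁ ≠ 1`): the local structure

`M = N_G(Q)`, `P₁ = Pone p Q`. We show: `2`-elements of `M` lie in `Q`; `N_G(P₁) = M ≤ C_G(P₁)`;
`N_G(⟨c⟩) = M` for `1 ≠ c ∈ P₁`; `C_G(u) ≤ M` for `u ∈ Q \ 1`; a `p`-element commuting with
some `u ∈ Q \ 1` lies in `P₁`.
-/

set_option autoImplicit false

namespace Cfsg.Agent.Lib.Helper6.Mix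

open Cfsg.Agent.Lib.Lead.Mix

variable {G : Type*} [Group G]

theorem mem_pone {p : ℕ} {Q : Subgroup G} {x : G} (hx : ∀ y ∈ Q, x * y = y * x) {k : ℕ}
    (hk : orderOf x = p ^ k) : x ∈ Pone p Q :=
  Subgroup.subset_closure ⟨hx, k, hk⟩

/-- `P₁` centralizes `Q` -/
theorem pone_comm {p : ℕ} {Q : Subgroup G} {c : G} (hc : c ∈ Pone p Q) {y : G} (hy : y ∈ Q) :
    c * y = y * c := by
  have hle : Pone p Q ≤ Subgroup.centralizer (Q : Set G) := by
    unfold Pone
    rw [Subgroup.closure_le]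
    rintro x ⟨hx, -⟩
    rw [SetLike.mem_coe, Subgroup.mem_centralizer_iff]
    intro y hy
    exact (hx y hy).symm
  exact ((Subgroup.mem_centralizer_iff.mp (hle hc)) y hy).symm

/-- `N_G(Q)` normalizes `P₁` -/
theorem norm_le_norm_pone {p : ℕ} {Q : Subgroup G} :
    Subgroup.normalizer (Q : Set G) ≤ Subgroup.normalizer ((Pone p Q : Subgroup G) : Set G) := by
  intro m hm
  rw [Cfsg.Agent.Lib.Helper6.mem_normalizer_iff_map_conj_eq_self]
  have key : ∀ m : G, m ∈ Subgroup.normalizer (Q : Set G) →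
      (Pone p Q).map (MulAut.conj m).toMonoidHom ≤ Pone p Q := by
    intro m hm
    unfold Pone
    rw [MonoidHom.map_closure, Subgroup.closure_le]
    rintro _ ⟨x, ⟨hx, k, hk⟩, rfl⟩
    apply Subgroup.subset_closure
    refine ⟨?_, k, ?_⟩
    · intro y hy
      have hy' : m⁻¹ * y * m ∈ Q := by
        have := (Subgroup.mem_normalizer_iff''.mp hm y).mp hy
        exact this
      have h1 := hx _ hy'
      simp only [MulEquiv.coe_toMonoidHom, MulAut.conj_apply]
      calc m * x * m⁻¹ * y = m * (x * (m⁻¹ * y * m)) * m⁻¹ := by group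
        _ = m * (m⁻¹ * y * m * x) * m⁻¹ := by rw [h1]
        _ = y * (m * x * m⁻¹) := by group
    · have : (MulAut.conj m).toMonoidHom x = (MulAut.conj m) x := rfl
      rw [this, MulEquiv.orderOf_eq]
      exact hk
  apply le_antisymm (key m hm)
  intro x hx
  have h1 := key m⁻¹ (Subgroup.inv_mem _ hm) (Subgroup.mem_map_of_mem _ hx)
  rw [Subgroup.mem_map]
  refine ⟨_, h1, ?_⟩
  simp [MulAut.conj_apply, mul_assoc]

theorem mem_normalizer_zpowers_of_inverts {t x : G} (ht : IsInvo t) (htx : t * x * t⁻¹ = x⁻¹) :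
    t ∈ Subgroup.normalizer ((Subgroup.zpowers x : Subgroup G) : Set G) := by
  rw [Subgroup.mem_normalizer_iff]
  intro y
  constructor
  · exact conj_mem_zpowers_of_inverts htx
  · intro hy
    have := conj_mem_zpowers_of_inverts htx hy
    have h2 : t * (t * y * t⁻¹) * t⁻¹ = y := by
      rw [ht.inv_eq]
      calc t * (t * y * t) * t = (t * t) * y * (t * t) := by group
        _ = y := by rw [ht.mul_self]; group
    rwa [h2] at this

theorem Invd.conj {t x : G} (h : Invd t x) (g : G) : Invd (g * t * g⁻¹) (g * x * g⁻¹) := by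
  refine ⟨h.1.conj g, ?_, ?_⟩
  · calc g * t * g⁻¹ * (g * x * g⁻¹) * (g * t * g⁻¹)⁻¹ = g * (t * x * t⁻¹) * g⁻¹ := by group
      _ = g * x⁻¹ * g⁻¹ := by rw [h.2.1]
      _ = (g * x * g⁻¹)⁻¹ := by group
  · intro h2
    apply h.2.2
    rw [conj_pow] at h2
    have : x ^ 2 = g⁻¹ * (g * x ^ 2 * g⁻¹) * g := by group
    rw [this, h2]; group

variable [Finite G] {p a : ℕ} {Q : Subgroup G} {w : G}

theorem cfg_p_odd (h : Cfg G p a Q w) : ¬ 2 ∣ p := by
  intro h2
  have h4 : 2 ∣ 2 ^ a := dvd_pow_self 2 (by have := h.ha; omega)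
  rw [← h.hpa] at h4
  omega

theorem cfg_p_ne_two (h : Cfg G p a Q w) : p ≠ 2 := fun h2 => cfg_p_odd h (by rw [h2])

theorem cfg_coprime (h : Cfg G p a Q w) (l k : ℕ) : Nat.Coprime (2 ^ l) (p ^ k) :=
  Nat.Coprime.pow _ _ ((Nat.coprime_primes Nat.prime_two h.hp).mpr (Ne.symm (cfg_p_ne_two h)))

/-- an element which is both a `2`-element and a `p`-element is trivial -/
theorem cfg_eq_one_of_pow (h : Cfg G p a Q w) {x : G} {l k : ℕ} (h2 : x ^ (2 ^ l) = 1)
    (hp : x ^ (p ^ k) = 1) : x = 1 := by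
  have := Nat.dvd_gcd (orderOf_dvd_of_pow_eq_one h2) (orderOf_dvd_of_pow_eq_one hp)
  rw [cfg_coprime h l k] at this
  exact orderOf_eq_one_iff.mp (Nat.dvd_one.mp this)

theorem cfg_two_dvd_card (h : Cfg G p a Q w) : 2 ∣ Nat.card G := by
  have h1 : Nat.card Q ∣ Nat.card G := Subgroup.card_subgroup_dvd_card Q
  rw [h.Qcard] at h1
  exact (dvd_pow_self 2 (by have := h.ha; omega)).trans h1

/-- a `p`-subgroup is proper -/
theorem cfg_pgroup_ne_top (h : Cfg G p a Q w) {H : Subgroup G} (hH : IsPGroup p H) : H ≠ ⊤ := by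
  intro htop
  have : Fact p.Prime := ⟨h.hp⟩
  obtain ⟨k, hk⟩ := hH.exists_card_eq
  have h1 : Nat.card H = Nat.card G := by rw [htop]; exact Subgroup.card_top
  have h2 := cfg_two_dvd_card h
  rw [← h1, hk] at h2
  exact cfg_p_odd h (Nat.Prime.dvd_of_dvd_pow Nat.prime_two h2)

theorem cfg_w_mem_norm (h : Cfg G p a Q w) : w ∈ Subgroup.normalizer (Q : Set G) :=
  Subgroup.mem_normalizer_fintype (fun n hn => h.wQ n hn)

/-- `2`-elements of `N_G(Q)` lie in `Q` -/
theorem cfg_mem_Q_of_two_pow (h : Cfg G p a Q w) {x : G}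
    (hxM : x ∈ Subgroup.normalizer (Q : Set G)) {l : ℕ} (hx : x ^ (2 ^ l) = 1) : x ∈ Q := by
  have : Fact (Nat.Prime 2) := ⟨Nat.prime_two⟩
  have hcard : Nat.card Q = 2 ^ (Nat.card G).factorization 2 := by
    rw [h.Qcard, Cfsg.Agent.Lib.Helper7.Mix.cfg_factorization h]
  have hZ : IsPGroup 2 (Subgroup.zpowers x) := by
    rintro ⟨y, hy⟩
    obtain ⟨n, rfl⟩ := Subgroup.mem_zpowers_iff.mp hy
    refine ⟨l, ?_⟩
    ext
    simp only [Subgroup.coe_pow, Subgroup.coe_one]
    rw [← zpow_natCast, ← zpow_mul, mul_comm, zpow_mul, zpow_natCast, hx, one_zpow]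
  have hQ2 : IsPGroup 2 Q := IsPGroup.of_card hcard
  have hle : Subgroup.zpowers x ≤ Subgroup.normalizer (Q : Set G) := Subgroup.zpowers_le.mpr hxM
  have hsup := hZ.to_sup_of_normal_right' hQ2 hle
  have := (Sylow.ofCard Q hcard).is_maximal' hsup (by rw [Sylow.coe_ofCard]; exact le_sup_right)
  rw [Sylow.coe_ofCard] at this
  rw [← this]
  exact (le_sup_left : Subgroup.zpowers x ≤ _) (Subgroup.mem_zpowers x)

theorem cfg_invo_mem_Q (h : Cfg G p a Q w) {s : G} (hs : IsInvo s)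
    (hsM : s ∈ Subgroup.normalizer (Q : Set G)) : s ∈ Q :=
  cfg_mem_Q_of_two_pow h hsM (l := 1) (by rw [pow_one]; exact hs.2)

/-- `w` does not centralize `Q` -/
theorem cfg_w_not_cent (h : Cfg G p a Q w) : w ∉ Subgroup.centralizer (Q : Set G) := by
  intro hw
  obtain ⟨x, hx, y, hy, hx1, hy1, hxy⟩ := Cfsg.Agent.Lib.Helper7.Mix.cfg_exists_two h
  obtain ⟨i, hi⟩ := h.wtr x hx hx1 y hy hy1
  apply hxy
  rw [← hi]
  have hwi : w ^ i ∈ Subgroup.centralizer (Q : Set G) := Subgroup.pow_mem _ hw i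
  have := (Subgroup.mem_centralizer_iff.mp hwi) x hx
  calc x = x * w ^ i * (w ^ i)⁻¹ := by group
    _ = w ^ i * x * (w ^ i)⁻¹ := by rw [this]

/-- the data of Case I -/
structure CI (G : Type*) [Group G] [Finite G] (p a : ℕ) (Q : Subgroup G) (w : G) : Prop
    extends CfgB G p a Q w where
  pone_ne : Pone p Q ≠ ⊥

/-- `N_G(P₁) = N_G(Q)` -/
theorem CI.norm_pone (h : CI G p a Q w) :
    Subgroup.normalizer ((Pone p Q : Subgroup G) : Set G) = Subgroup.normalizer (Q : Set G) :=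
  h.norm_max _ norm_le_norm_pone
    (h.nloc _ h.pone_ne (cfg_pgroup_ne_top h.toCfg h.pone_pgroup))

theorem CI.pone_comm' (h : CI G p a Q w) {c d : G} (hc : c ∈ Pone p Q) (hd : d ∈ Pone p Q) :
    c * d = d * c :=
  h.pab _ h.pone_pgroup c hc d hd

/-- a subgroup containing `Q` and `P₁` contains... at least has order divisible by `|C_G(Q)|` -/
theorem CI.cent_card_dvd (h : CI G p a Q w) {X : Subgroup G} (hQ : Q ≤ X) (hP : Pone p Q ≤ X) :
    Nat.card (Subgroup.centralizer (Q : Set G)) ∣ Nat.card X := by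
  have : Fact p.Prime := ⟨h.hp⟩
  rw [h.cent_card]
  obtain ⟨k, hk⟩ := h.pone_pgroup.exists_card_eq
  have h1 : 2 ^ a ∣ Nat.card X := by rw [← h.Qcard]; exact Subgroup.card_dvd_of_le hQ
  have h2 : Nat.card (Pone p Q) ∣ Nat.card X := Subgroup.card_dvd_of_le hP
  rw [hk] at h2 ⊢
  exact (cfg_coprime h.toCfg a k).mul_dvd_of_dvd_of_dvd h1 h2

/-- `N_G(Q)` centralizes `P₁` -/
theorem CI.norm_comm_pone (h : CI G p a Q w) {m : G}
    (hm : m ∈ Subgroup.normalizer (Q : Set G)) {c : G} (hc : c ∈ Pone p Q) :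
    m * c = c * m := by
  have : Fact p.Prime := ⟨h.hp⟩
  set CP := Subgroup.centralizer ((Pone p Q : Subgroup G) : Set G) with hCP
  set M := Subgroup.normalizer (Q : Set G) with hM
  set C := Subgroup.centralizer (Q : Set G) with hC
  have hCM : C ≤ M := Subgroup.centralizer_le_normalizer _
  have hQCP : Q ≤ CP := by
    intro y hy
    rw [hCP, Subgroup.mem_centralizer_iff]
    intro c hc
    exact pone_comm hc hy
  have hPCP : Pone p Q ≤ CP := by
    intro d hd
    rw [hCP, Subgroup.mem_centralizer_iff]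
    intro c hc
    exact h.pone_comm' hc hd
  have hQC : Q ≤ C := by
    intro y hy
    rw [hC, Subgroup.mem_centralizer_iff]
    intro z hz
    exact h.Qab z hz y hy
  have hPC : Pone p Q ≤ C := by
    intro c hc
    rw [hC, Subgroup.mem_centralizer_iff]
    intro y hy
    exact (pone_comm hc hy).symm
  -- `C ≤ CP`
  have hCCP : C ≤ CP := by
    have h1 : Nat.card C ∣ Nat.card (CP ⊓ C : Subgroup G) :=
      h.cent_card_dvd (le_inf hQCP hQC) (le_inf hPCP hPC)
    have h2 : (CP ⊓ C : Subgroup G) = C :=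
      Subgroup.eq_of_le_of_card_ge inf_le_right (Nat.le_of_dvd Nat.card_pos h1)
    rw [← h2]; exact inf_le_left
  -- `w ∈ CP`
  have hwM : w ∈ M := cfg_w_mem_norm h.toCfg
  have hwCP : w ∈ CP := by
    obtain ⟨k, hk⟩ := h.wp
    have hZ : IsPGroup p (Subgroup.zpowers w) := IsPGroup.of_card (by rw [Nat.card_zpowers, hk])
    have hle : Subgroup.zpowers w ≤
        Subgroup.normalizer ((Pone p Q : Subgroup G) : Set G) :=
      Subgroup.zpowers_le.mpr (norm_le_norm_pone hwM)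
    have hsup := hZ.to_sup_of_normal_right' h.pone_pgroup hle
    rw [hCP, Subgroup.mem_centralizer_iff]
    intro c hc
    exact h.pab _ hsup c ((le_sup_right : Pone p Q ≤ _) hc) w
      ((le_sup_left : Subgroup.zpowers w ≤ _) (Subgroup.mem_zpowers w))
  -- `D = CP ⊓ M` is all of `M`
  have hCD : C ≤ CP ⊓ M := le_inf hCCP hCM
  have hdvd1 : Nat.card C ∣ Nat.card (CP ⊓ M : Subgroup G) := Subgroup.card_dvd_of_le hCD
  have hdvd2 : Nat.card (CP ⊓ M : Subgroup G) ∣ p * Nat.card C := by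
    rw [← h.norm_card]; exact Subgroup.card_dvd_of_le inf_le_right
  obtain ⟨k, hk⟩ := hdvd1
  have hCpos : 0 < Nat.card C := Nat.card_pos
  have hkp : k ∣ p := by
    rw [hk, mul_comm p] at hdvd2
    exact (Nat.mul_dvd_mul_iff_left hCpos).mp hdvd2
  have hDM : (CP ⊓ M : Subgroup G) = M := by
    rcases (Nat.dvd_prime h.hp).mp hkp with h1 | h1
    · exfalso
      rw [h1, mul_one] at hk
      have h2 : C = (CP ⊓ M : Subgroup G) :=
        Subgroup.eq_of_le_of_card_ge hCD (le_of_eq hk)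
      apply cfg_w_not_cent h.toCfg
      rw [← hC, h2]
      exact ⟨hwCP, hwM⟩
    · apply Subgroup.eq_of_le_of_card_ge inf_le_right
      rw [hk, h1, h.norm_card, mul_comm]
  have hmCP : m ∈ CP := by
    have : m ∈ (CP ⊓ M : Subgroup G) := by rw [hDM]; exact hm
    exact this.1
  exact ((Subgroup.mem_centralizer_iff.mp hmCP) c hc).symm

/-- `N_G(⟨c⟩) = N_G(Q)` for `1 ≠ c ∈ P₁` -/
theorem CI.norm_zpowers (h : CI G p a Q w) {c : G} (hc : c ∈ Pone p Q) (hc1 : c ≠ 1) :
    Subgroup.normalizer ((Subgroup.zpowers c : Subgroup G) : Set G) =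
      Subgroup.normalizer (Q : Set G) := by
  have hZbot : Subgroup.zpowers c ≠ ⊥ := fun hb => hc1 (Subgroup.zpowers_eq_bot.mp hb)
  have hZp : IsPGroup p (Subgroup.zpowers c) :=
    h.pone_pgroup.to_le (Subgroup.zpowers_le.mpr hc)
  have hN := h.nloc _ hZbot (cfg_pgroup_ne_top h.toCfg hZp)
  refine h.norm_max _ ?_ hN
  intro m hm
  have h1 : m ∈ Subgroup.centralizer ((Subgroup.zpowers c : Subgroup G) : Set G) := by
    rw [Subgroup.zpowers_eq_closure, Subgroup.centralizer_closure,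
      Subgroup.mem_centralizer_singleton_iff]
    exact h.norm_comm_pone hm hc
  exact Subgroup.centralizer_le_normalizer _ h1

/-- `P₁ ≤ K_u` -/
theorem pone_le_kt {u : G} (hu : u ∈ Q) : Pone p Q ≤ Kt p u := by
  unfold Pone Kt
  apply Subgroup.closure_mono
  rintro x ⟨hx, k, hk⟩
  exact ⟨hx u hu, k, hk⟩

theorem kt_le_cent (u : G) : Kt p u ≤ Subgroup.centralizer ({u} : Set G) := by
  unfold Kt
  rw [Subgroup.closure_le]
  rintro x ⟨hx, -⟩
  rw [SetLike.mem_coe, Subgroup.mem_centralizer_singleton_iff]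
  exact hx

/-- `C_G(u) ≤ N_G(Q)` for `u ∈ Q \ 1` -/
theorem CI.cent_le_norm (h : CI G p a Q w) {u : G} (hu : u ∈ Q) (hu1 : u ≠ 1) :
    Subgroup.centralizer ({u} : Set G) ≤ Subgroup.normalizer (Q : Set G) := by
  have : Fact p.Prime := ⟨h.hp⟩
  set M := Subgroup.normalizer (Q : Set G) with hM
  have hK := h.kt_pgroup u hu hu1
  -- `K_u ≤ M`
  have hKM : Kt p u ≤ M := by
    intro x hx
    have h1 : x ∈ Subgroup.centralizer ((Pone p Q : Subgroup G) : Set G) := by
      rw [Subgroup.mem_centralizer_iff]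
      intro c hc
      exact h.pab _ hK c (pone_le_kt hu hc) x hx
    rw [hM, ← h.norm_pone]
    exact Subgroup.centralizer_le_normalizer _ h1
  have hQM : Q ≤ M := Subgroup.le_normalizer
  have hQC : Q ≤ Subgroup.centralizer ({u} : Set G) := by
    intro y hy
    rw [Subgroup.mem_centralizer_singleton_iff]
    exact h.Qab y hy u hu
  obtain ⟨k, hk⟩ := hK.exists_card_eq
  have h1 : 2 ^ a ∣ Nat.card (Subgroup.centralizer ({u} : Set G) ⊓ M : Subgroup G) := by
    rw [← h.Qcard]; exact Subgroup.card_dvd_of_le (le_inf hQC hQM)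
  have h2 : Nat.card (Kt p u) ∣
      Nat.card (Subgroup.centralizer ({u} : Set G) ⊓ M : Subgroup G) :=
    Subgroup.card_dvd_of_le (le_inf (kt_le_cent u) hKM)
  have h3 : Nat.card (Subgroup.centralizer ({u} : Set G)) ∣
      Nat.card (Subgroup.centralizer ({u} : Set G) ⊓ M : Subgroup G) := by
    rw [h.kt_card u hu hu1]
    rw [hk] at h2 ⊢
    exact (cfg_coprime h.toCfg a k).mul_dvd_of_dvd_of_dvd h1 h2
  have h4 : (Subgroup.centralizer ({u} : Set G) ⊓ M : Subgroup G) =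
      Subgroup.centralizer ({u} : Set G) :=
    Subgroup.eq_of_le_of_card_ge inf_le_left (Nat.le_of_dvd Nat.card_pos h3)
  rw [← h4]; exact inf_le_right

/-- a `p`-element commuting with some `u ∈ Q \ 1` lies in `P₁` -/
theorem CI.mem_pone_of_comm (h : CI G p a Q w) {u : G} (hu : u ∈ Q) (hu1 : u ≠ 1) {x : G}
    (hxu : x * u = u * x) {k : ℕ} (hk : x ^ (p ^ k) = 1) : x ∈ Pone p Q := by
  have hxM : x ∈ Subgroup.normalizer (Q : Set G) :=
    h.cent_le_norm hu hu1 (Subgroup.mem_centralizer_singleton_iff.mpr hxu)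
  have hxC : x ∈ Subgroup.centralizer (Q : Set G) := by
    by_contra hcon
    exact h.norm_fpf x hxM hcon u hu hu1 hxu
  obtain ⟨j, -, hj⟩ := (Nat.dvd_prime_pow h.hp).mp (orderOf_dvd_of_pow_eq_one hk)
  refine mem_pone (fun y hy => ?_) hj
  exact ((Subgroup.mem_centralizer_iff.mp hxC) y hy).symm

end Cfsg.Agent.Lib.Helper6.Mix
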