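import Mathlib
import Cfsg.Agent.Lib.Helper6.MixP3a

/-!
# S4017, package P3 (Case I, `P₁ ≠ 1`): the contradiction

With `M = N_G(Q)`: take an involution `s ∉ M` and `t ∈ Q \ 1`; `x = s t` is a `p`-element
inverted by `t`; no involution commutes with `x`, so `C_G(x)` is a Sylow `p`-subgroup, and
`t` inverts all of it; a conjugate of `P₁` lies in it, so some involution inverts a
non-trivial element `c` of `P₁`; it lies in `N_G(⟨c⟩) = M`, hence in `Q`, hence centralizes `c`.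
-/

set_option autoImplicit false

namespace Cfsg.Agent.Lib.Helper6.Mix

open Cfsg.Agent.Lib.Lead.Mix

variable {G : Type*} [Group G]

theorem Invd.ne_comm {t x : G} (h : Invd t x) : x * t ≠ t * x := by
  intro hc
  apply h.2.2
  have h1 : x⁻¹ = x := by rw [← h.2.1, ← hc, mul_inv_cancel_right]
  rw [pow_two]
  nth_rewrite 2 [← h1]
  exact mul_inv_cancel x

variable [Finite G] {p a : ℕ} {Q : Subgroup G} {w : G}

/-- there is an involution outside `Q` -/
theorem cfgb_exists_invo_not_mem (h : CfgB G p a Q w) : ∃ s : G, IsInvo s ∧ s ∉ Q := by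
  by_contra hcon
  push Not at hcon
  have hnorm : Q.Normal := by
    refine ⟨fun x hx g => ?_⟩
    by_cases hx1 : x = 1
    · rw [hx1]; simp
    · exact hcon _ (IsInvo.conj ⟨hx1, h.Qexp x hx⟩ g)
  have h4 : 2 ≤ 2 ^ a := by
    calc 2 = 2 ^ 1 := by norm_num
      _ ≤ 2 ^ a := Nat.pow_le_pow_right (by norm_num) (by have := h.ha; omega)
  rcases h.simp Q hnorm with hb | htop
  · have := h.Qcard
    rw [hb, Subgroup.card_bot] at this
    omega
  · have hG : Nat.card G = 2 ^ a := by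
      rw [← h.Qcard, htop]; exact Subgroup.card_top.symm
    have := h.pdvd
    rw [hG] at this
    have h2 := (Nat.prime_dvd_prime_iff_eq h.hp Nat.prime_two).mp (h.hp.dvd_of_dvd_pow this)
    exact cfg_p_ne_two h.toCfg h2

/-- the product of an involution `s ∉ N_G(Q)` with `t ∈ Q \ 1` is a `p`-element inverted by
`t` -/
theorem CI.orderOf_mul (h : CI G p a Q w) {s t : G} (hs : IsInvo s)
    (hsM : s ∉ Subgroup.normalizer (Q : Set G)) (ht : t ∈ Q) (ht1 : t ≠ 1) :
    Invd t (s * t) ∧ ∃ j : ℕ, orderOf (s * t) = p ^ j := by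
  have htI : IsInvo t := ⟨ht1, h.Qexp t ht⟩
  have hst : s * t ≠ t * s := by
    intro hc
    exact hsM (h.cent_le_norm ht ht1 (Subgroup.mem_centralizer_singleton_iff.mpr hc))
  have hI := invd_of_invo hs htI hst
  refine ⟨hI, ?_⟩
  obtain ⟨j, hj | hj⟩ := h.dih s t hs.1 ht1 hs.2 htI.2
  · exact ⟨j, hj⟩
  · exfalso
    set x := s * t with hx
    have hppos : 0 < p ^ j := pos_of_ne_zero (pow_ne_zero _ h.hp.ne_zero)
    have hu1 : x ^ (p ^ j) ≠ 1 :=
      pow_ne_one_of_lt_orderOf hppos.ne' (by rw [hj]; omega)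
    have hu2 : (x ^ (p ^ j)) ^ 2 = 1 := by
      rw [← pow_mul, mul_comm, ← hj]; exact pow_orderOf_eq_one x
    have hu : IsInvo (x ^ (p ^ j)) := ⟨hu1, hu2⟩
    have htx : t * x * t⁻¹ = x⁻¹ := hI.2.1
    have hsx : s * x * s⁻¹ = x⁻¹ := by
      have hinv : x⁻¹ = t * s := by rw [hx, mul_inv_rev, hs.inv_eq, htI.inv_eq]
      rw [hinv, hx, hs.inv_eq, ← mul_assoc, hs.mul_self, one_mul]
    have key : ∀ r : G, r * x * r⁻¹ = x⁻¹ → r * x ^ (p ^ j) = x ^ (p ^ j) * r := by
      intro r hr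
      have h1 : r * x ^ (p ^ j) * r⁻¹ = (x ^ (p ^ j))⁻¹ := by
        rw [← conj_pow, hr, inv_pow]
      rw [hu.inv_eq] at h1
      calc r * x ^ (p ^ j) = r * x ^ (p ^ j) * r⁻¹ * r := by group
        _ = x ^ (p ^ j) * r := by rw [h1]
    have huM : x ^ (p ^ j) ∈ Subgroup.normalizer (Q : Set G) :=
      h.cent_le_norm ht ht1 (Subgroup.mem_centralizer_singleton_iff.mpr (key t htx).symm)
    have huQ := cfg_invo_mem_Q h.toCfg hu huM
    exact hsM (h.cent_le_norm huQ hu1 (Subgroup.mem_centralizer_singleton_iff.mpr (key s hsx)))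

/-- no involution commutes with a `p`-element inverted (non-trivially) by an involution -/
theorem CI.no_invo_comm (h : CI G p a Q w) {t x : G} (hx : Invd t x) {j : ℕ}
    (hj : x ^ (p ^ j) = 1) {u : G} (hu : IsInvo u) (hxu : x * u = u * x) : False := by
  obtain ⟨g, hg⟩ := h.inv_conj u hu.1 hu.2
  have hu' := hu.conj g
  have hx' := hx.conj g
  have hcomm : g * x * g⁻¹ * (g * u * g⁻¹) = g * u * g⁻¹ * (g * x * g⁻¹) := by
    calc g * x * g⁻¹ * (g * u * g⁻¹) = g * (x * u) * g⁻¹ := by group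
      _ = g * (u * x) * g⁻¹ := by rw [hxu]
      _ = g * u * g⁻¹ * (g * x * g⁻¹) := by group
  have hpow : (g * x * g⁻¹) ^ (p ^ j) = 1 := by rw [conj_pow, hj]; group
  have hxP := h.mem_pone_of_comm hg hu'.1 hcomm hpow
  have htN := mem_normalizer_zpowers_of_inverts hx'.1 hx'.2.1
  rw [h.norm_zpowers hxP hx'.ne_one] at htN
  have htQ := cfg_invo_mem_Q h.toCfg hx'.1 htN
  exact hx'.ne_comm (pone_comm hxP htQ)

/-- the centralizer of an inverted `p`-element commuting with no involution is a `p`-group -/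
theorem cfgb_isPGroup_cent (h : CfgB G p a Q w) {t x : G} (hx : Invd t x) {j : ℕ}
    (hj : orderOf x = p ^ j) (hno : ∀ u : G, IsInvo u → x * u ≠ u * x) :
    IsPGroup p (Subgroup.centralizer ({x} : Set G)) := by
  have : Fact p.Prime := ⟨h.hp⟩
  have hx1 : x ≠ 1 := hx.ne_one
  have hZbot : Subgroup.zpowers x ≠ ⊥ := fun hb => hx1 (Subgroup.zpowers_eq_bot.mp hb)
  have ht2 : orderOf t = 2 := hx.1.orderOf_eq
  have hZp : IsPGroup p (Subgroup.zpowers x) :=
    IsPGroup.of_card (by rw [Nat.card_zpowers, hj])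
  have hN : Subgroup.normalizer ((Subgroup.zpowers x : Subgroup G) : Set G) ≠ ⊤ :=
    h.nloc _ hZbot (cfg_pgroup_ne_top h.toCfg hZp)
  have htN : t ∈ Subgroup.normalizer ((Subgroup.zpowers x : Subgroup G) : Set G) :=
    mem_normalizer_zpowers_of_inverts hx.1 hx.2.1
  have h2N : 2 ∣ Nat.card (Subgroup.normalizer ((Subgroup.zpowers x : Subgroup G) : Set G)) :=
    ht2 ▸ Subgroup.orderOf_dvd_natCard _ htN
  have hCN : Subgroup.centralizer ({x} : Set G) ≤
      Subgroup.normalizer ((Subgroup.zpowers x : Subgroup G) : Set G) := by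
    have h1 : Subgroup.centralizer ({x} : Set G) =
        Subgroup.centralizer ((Subgroup.zpowers x : Subgroup G) : Set G) := by
      rw [Subgroup.zpowers_eq_closure, Subgroup.centralizer_closure]
    rw [h1]
    exact Subgroup.centralizer_le_normalizer _
  have hprimes : ∀ r : ℕ, r.Prime → r ∣ Nat.card (Subgroup.centralizer ({x} : Set G)) →
      r = p := by
    intro r hr hrd
    rcases h.prop _ hN h2N r hr (hrd.trans (Subgroup.card_dvd_of_le hCN)) with h2 | hp'
    · exfalso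
      subst h2
      have : Fact (Nat.Prime 2) := ⟨Nat.prime_two⟩
      obtain ⟨u, hu⟩ := exists_prime_orderOf_dvd_card' 2 hrd
      have hu' : orderOf (u : G) = 2 := by rw [Subgroup.orderOf_coe]; exact hu
      have huI : IsInvo (u : G) := by
        refine ⟨fun h1 => ?_, ?_⟩
        · rw [h1, orderOf_one] at hu'; omega
        · rw [← hu']; exact pow_orderOf_eq_one _
      have hxu : x * (u : G) = (u : G) * x :=
        (Subgroup.mem_centralizer_singleton_iff.mp u.2).symm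
      exact hno _ huI hxu
    · exact hp'
  have hcard := Nat.eq_prime_pow_of_unique_prime_dvd (Nat.card_pos.ne')
    (fun {q} hq hqd => hprimes q hq hqd)
  exact IsPGroup.of_card hcard

/-- a `p`-element of `C_G(x)` commuting with `t` is trivial -/
theorem CI.fixed_eq_one (h : CI G p a Q w) {t x : G} (ht : t ∈ Q) (hx : Invd t x) {j : ℕ}
    (hj : x ^ (p ^ j) = 1) {c : G} (hcx : c * x = x * c) {k : ℕ} (hck : c ^ (p ^ k) = 1)
    (hct : c * t = t * c) : c = 1 := by
  by_contra hc1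
  have hcP := h.mem_pone_of_comm ht hx.1.1 hct hck
  have hN := h.norm_zpowers hcP hc1
  have hxM : x ∈ Subgroup.normalizer (Q : Set G) := by
    rw [← hN]
    apply Subgroup.centralizer_le_normalizer
    rw [Subgroup.zpowers_eq_closure, Subgroup.centralizer_closure,
      Subgroup.mem_centralizer_singleton_iff]
    exact hcx.symm
  have h1 : x * t * x⁻¹ ∈ Q := (Subgroup.mem_normalizer_iff.mp hxM t).mp ht
  have h2 : x * t * x⁻¹ * t⁻¹ ∈ Q := Q.mul_mem h1 (Q.inv_mem ht)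
  have h3 : x * t * x⁻¹ * t⁻¹ = x ^ 2 := by
    have h4 : t * x⁻¹ * t⁻¹ = x := by
      have : (t * x * t⁻¹)⁻¹ = t * x⁻¹ * t⁻¹ := by group
      rw [← this, hx.2.1, inv_inv]
    calc x * t * x⁻¹ * t⁻¹ = x * (t * x⁻¹ * t⁻¹) := by group
      _ = x * x := by rw [h4]
      _ = x ^ 2 := (pow_two x).symm
  rw [h3] at h2
  have h5 := h.Qexp _ h2
  have h6 : x ^ (2 ^ 2) = 1 := by
    have : (2 : ℕ) ^ 2 = 2 * 2 := by norm_num
    rw [this, pow_mul]; exact h5
  exact hx.ne_one (cfg_eq_one_of_pow h.toCfg h6 hj)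

/-- `t` inverts all of `C_G(x)` -/
theorem CI.inverts_cent (h : CI G p a Q w) {t x : G} (ht : t ∈ Q) (hx : Invd t x) {j : ℕ}
    (hj : x ^ (p ^ j) = 1) (hC : IsPGroup p (Subgroup.centralizer ({x} : Set G))) {y : G}
    (hy : y * x = x * y) : t * y * t⁻¹ = y⁻¹ := by
  have hty : t * y * t⁻¹ * x = x * (t * y * t⁻¹) := by
    have h1 : t * y * t⁻¹ * x⁻¹ = x⁻¹ * (t * y * t⁻¹) := by
      rw [← hx.2.1]
      calc t * y * t⁻¹ * (t * x * t⁻¹) = t * (y * x) * t⁻¹ := by group
        _ = t * (x * y) * t⁻¹ := by rw [hy]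
        _ = t * x * t⁻¹ * (t * y * t⁻¹) := by group
    calc t * y * t⁻¹ * x = x * (x⁻¹ * (t * y * t⁻¹)) * x := by group
      _ = x * (t * y * t⁻¹ * x⁻¹) * x := by rw [h1]
      _ = x * (t * y * t⁻¹) := by group
  have hyC : y ∈ Subgroup.centralizer ({x} : Set G) :=
    Subgroup.mem_centralizer_singleton_iff.mpr hy
  have htyC : t * y * t⁻¹ ∈ Subgroup.centralizer ({x} : Set G) :=
    Subgroup.mem_centralizer_singleton_iff.mpr hty
  have hcomm : y * (t * y * t⁻¹) = t * y * t⁻¹ * y := h.pab _ hC _ hyC _ htyC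
  have hzt : y * (t * y * t⁻¹) * t = t * (y * (t * y * t⁻¹)) := by
    rw [hx.1.inv_eq] at hcomm ⊢
    calc y * (t * y * t) * t = (t * y * t * y) * t := by rw [hcomm]
      _ = t * y * (t * y * t) := by group
      _ = t * (y * (t * y * t)) := by group
  have hzC : y * (t * y * t⁻¹) ∈ Subgroup.centralizer ({x} : Set G) :=
    Subgroup.mul_mem _ hyC htyC
  obtain ⟨k, hk⟩ := hC ⟨_, hzC⟩
  have hk' : (y * (t * y * t⁻¹)) ^ (p ^ k) = 1 := by
    have := congrArg Subtype.val hk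
    simpa using this
  have h1 := h.fixed_eq_one ht hx hj (Subgroup.mem_centralizer_singleton_iff.mp hzC) hk' hzt
  exact (eq_inv_of_mul_eq_one_right h1)

/-- Case I is impossible -/
theorem CI.false (h : CI G p a Q w) : False := by
  have : Fact p.Prime := ⟨h.hp⟩
  obtain ⟨t, ht, -, -, ht1, -, -⟩ := Cfsg.Agent.Lib.Helper7.Mix.cfg_exists_two h.toCfg
  obtain ⟨s, hs, hsQ⟩ := cfgb_exists_invo_not_mem h.toCfgB
  have hsM : s ∉ Subgroup.normalizer (Q : Set G) :=
    fun hm => hsQ (cfg_invo_mem_Q h.toCfg hs hm)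
  obtain ⟨hI, j, hj⟩ := h.orderOf_mul hs hsM ht ht1
  have hjpow : (s * t) ^ (p ^ j) = 1 := by rw [← hj]; exact pow_orderOf_eq_one _
  have hno : ∀ u : G, IsInvo u → (s * t) * u ≠ u * (s * t) :=
    fun u hu hxu => h.no_invo_comm hI hjpow hu hxu
  have hC := cfgb_isPGroup_cent h.toCfgB hI hj hno
  -- a Sylow `p`-subgroup equal to `C_G(x)`
  obtain ⟨P, hP⟩ := hC.exists_le_sylow
  have hxP : s * t ∈ (P : Subgroup G) :=
    hP (by rw [Subgroup.mem_centralizer_singleton_iff])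
  have hPC : ∀ y ∈ (P : Subgroup G), y * (s * t) = (s * t) * y :=
    fun y hy => h.pab P P.isPGroup' y hy _ hxP
  -- a conjugate of `P₁` inside `P`
  obtain ⟨g, hg⟩ := Cfsg.Agent.Lib.Helper6.exists_map_conj_le_sylow P h.pone_pgroup
  obtain ⟨c, hc, hc1⟩ := (Pone p Q).bot_or_exists_ne_one.resolve_left h.pone_ne
  have hc' : g * c * g⁻¹ ∈ (P : Subgroup G) :=
    hg (Subgroup.mem_map.mpr ⟨c, hc, by simp [MulAut.conj_apply]⟩)
  have hinv := h.inverts_cent ht hI hjpow hC (hPC _ hc')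
  -- `t' = g⁻¹ t g` inverts `c`
  have htI : IsInvo t := hI.1
  have ht'I : IsInvo (g⁻¹ * t * g) := by
    have := htI.conj g⁻¹
    rwa [inv_inv] at this
  have ht'c : g⁻¹ * t * g * c * (g⁻¹ * t * g)⁻¹ = c⁻¹ := by
    calc g⁻¹ * t * g * c * (g⁻¹ * t * g)⁻¹ = g⁻¹ * (t * (g * c * g⁻¹) * t⁻¹) * g := by group
      _ = g⁻¹ * (g * c * g⁻¹)⁻¹ * g := by rw [hinv]
      _ = c⁻¹ := by group
  have ht'N := mem_normalizer_zpowers_of_inverts ht'I ht'c
  rw [h.norm_zpowers hc hc1] at ht'N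
  have ht'Q := cfg_invo_mem_Q h.toCfg ht'I ht'N
  have hcomm := pone_comm hc ht'Q
  -- so `c = c⁻¹`
  have h1 : c⁻¹ = c := by rw [← ht'c, ← hcomm, mul_inv_cancel_right]
  have h2 : c ^ (2 ^ 1) = 1 := by
    rw [pow_one, pow_two]
    nth_rewrite 2 [← h1]
    exact mul_inv_cancel c
  obtain ⟨k, hk⟩ := h.pone_pgroup ⟨c, hc⟩
  have hk' : c ^ (p ^ k) = 1 := by
    have := congrArg Subtype.val hk
    simpa using this
  exact hc1 (cfg_eq_one_of_pow h.toCfg h2 hk')

end Cfsg.Agent.Lib.Helper6.Mix
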