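import Mathlib
import Cfsg.Agent.Lib.Helper6.MixP3b

/-!
# S4017, package P3: Case I (`P₁ ≠ 1`) is impossible

`theorem caseI_false (h : CfgB G p a Q w) (h1 : Pone p Q ≠ ⊥) : False`
(paper proof: `notes/S4017_paper_lead.md`, §2; the argument formalized is the variant in the
header of `MixP3b.lean`).
-/

set_option autoImplicit false

namespace Cfsg.Agent.Lib.Helper6.Mix

open Cfsg.Agent.Lib.Lead.Mix

/-- **Package P3 of S4017** (Case I). -/
theorem caseI_false {G : Type*} [Group G] [Finite G] {p a : ℕ} {Q : Subgroup G} {w : G}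
    (h : CfgB G p a Q w) (h1 : Pone p Q ≠ ⊥) : False :=
  CI.false { h with pone_ne := h1 }

end Cfsg.Agent.Lib.Helper6.Mix
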