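import Mathlib
import Cfsg.Agent.Lib.Helper6.MixP4a

/-!
# S4017, package P4 (Case IIa): the double counting

`Ω` = ordered pairs of non-commuting involutions. `|Ω| = m (m - p)` with `m` the number of
involutions and `|G| = 2 ^ a * m`; on the other hand `Ω` is the disjoint union over the Sylow
`p`-subgroups `P` of the fibres `{(s, t) : s t ∈ P}`, each of size `(|P| - 1) |P|`. Since the
number of Sylow `p`-subgroups is `≡ 1 mod p`, the `p`-parts do not match.
-/

set_option autoImplicit false

namespace Cfsg.Agent.Lib.Helper6.Mix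

open Cfsg.Agent.Lib.Lead.Mix
open Classical

variable {G : Type*} [Group G] [Fintype G] {p a : ℕ} {Q : Subgroup G} {w : G}

/-- the set of involutions -/
noncomputable def invos (G : Type*) [Group G] [Fintype G] : Finset G :=
  Finset.univ.filter (fun s => IsInvo s)

theorem mem_invos {s : G} : s ∈ invos G ↔ IsInvo s := by simp [invos]

/-- `|G| = 2 ^ a * m` -/
theorem IIa.card_group (h : IIa G p a Q w) : Nat.card G = 2 ^ a * (invos G).card := by
  obtain ⟨t, htQ, ht1⟩ := h.exQ
  have htI : IsInvo t := ⟨ht1, h.Qexp t htQ⟩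
  have h1 := Subgroup.card_mul_index (MulAction.stabilizer (ConjAct G) t)
  rw [MulAction.index_stabilizer, ← Subgroup.nat_card_centralizer_nat_card_stabilizer,
    h.card_cent_invo htI] at h1
  have h2 : Nat.card (ConjAct G) = Nat.card G := Nat.card_congr ConjAct.ofConjAct.toEquiv
  have h3 : (MulAction.orbit (ConjAct G) t).ncard = (invos G).card := by
    rw [← Set.ncard_coe_finset]
    congr 1
    ext s
    rw [ConjAct.mem_orbit_conjAct, Finset.mem_coe, mem_invos, isConj_iff]
    constructor
    · rintro ⟨c, hc⟩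
      have h4 := htI.conj c⁻¹
      have h5 : c⁻¹ * t * c⁻¹⁻¹ = s := by rw [← hc]; group
      rwa [h5] at h4
    · intro hs
      exact h.invo_conj htI hs
  rw [h3, h2] at h1
  exact h1.symm

/-- the involutions commuting with a given involution -/
theorem IIa.card_comm (h : IIa G p a Q w) {t : G} (ht : IsInvo t) :
    ((invos G).filter (fun s => s * t = t * s)).card = p := by
  have h1 := h.card_cent_invo ht
  have h2 : ∀ x : G, x ∈ insert 1 ((invos G).filter (fun s => s * t = t * s)) ↔
      x ∈ Subgroup.centralizer ({t} : Set G) := by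
    intro x
    simp only [Finset.mem_filter, Finset.mem_insert, mem_invos,
      Subgroup.mem_centralizer_singleton_iff]
    constructor
    · rintro (rfl | ⟨_, hx⟩)
      · simp
      · exact hx
    · intro hx
      by_cases hx1 : x = 1
      · left; exact hx1
      · right; exact ⟨⟨hx1, h.sq_of_comm_invo ht hx⟩, hx⟩
  rw [Nat.card_eq_fintype_card, Fintype.card_of_subtype _ h2,
    Finset.card_insert_of_notMem] at h1
  · have := h.hpa; omega
  · simp [mem_invos, IsInvo]

/-- ordered pairs of non-commuting involutions -/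
noncomputable def Om (G : Type*) [Group G] [Fintype G] : Finset (G × G) :=
  ((invos G) ×ˢ (invos G)).filter (fun st => st.1 * st.2 ≠ st.2 * st.1)

theorem mem_Om {st : G × G} :
    st ∈ Om G ↔ IsInvo st.1 ∧ IsInvo st.2 ∧ st.1 * st.2 ≠ st.2 * st.1 := by
  simp [Om, mem_invos, and_assoc]

theorem IIa.card_Om (h : IIa G p a Q w) :
    (Om G).card = (invos G).card * ((invos G).card - p) := by
  unfold Om
  rw [Finset.card_filter, Finset.sum_product_right]
  have key : ∀ t ∈ invos G,
      (∑ s ∈ invos G, if (s, t).1 * (s, t).2 ≠ (s, t).2 * (s, t).1 then 1 else 0) =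
        (invos G).card - p := by
    intro t ht
    rw [← Finset.card_filter]
    have h1 := Finset.card_filter_add_card_filter_not (s := invos G) (fun s => s * t = t * s)
    rw [h.card_comm (mem_invos.mp ht)] at h1
    have h2 : (invos G).filter (fun s => (s, t).1 * (s, t).2 ≠ (s, t).2 * (s, t).1) =
        (invos G).filter (fun s => ¬ s * t = t * s) := by
      apply Finset.filter_congr
      intro s _
      rfl
    rw [h2]
    omega
  rw [Finset.sum_congr rfl key, Finset.sum_const, smul_eq_mul]

noncomputable scoped instance sylowFintype : Fintype (Sylow p G) := Fintype.ofFinite _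

/-- the fibre of `Ω` over a Sylow `p`-subgroup -/
noncomputable def fib (P : Sylow p G) : Finset (G × G) :=
  (Om G).filter (fun st => st.1 * st.2 ∈ (P : Subgroup G))

theorem mem_fib {P : Sylow p G} {st : G × G} :
    st ∈ fib P ↔ st ∈ Om G ∧ st.1 * st.2 ∈ (P : Subgroup G) := by
  simp [fib]

theorem IIa.Om_eq_biUnion (h : IIa G p a Q w) :
    Om G = (Finset.univ : Finset (Sylow p G)).biUnion fib := by
  ext st
  simp only [Finset.mem_biUnion, Finset.mem_univ, true_and, mem_fib]
  constructor
  · intro hst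
    obtain ⟨hs, ht, hne⟩ := mem_Om.mp hst
    obtain ⟨P, hP⟩ := h.exists_sylow_mem (invd_of_invo hs ht hne)
    exact ⟨P, hst, hP⟩
  · rintro ⟨P, hst, -⟩
    exact hst

theorem IIa.fib_disjoint (h : IIa G p a Q w) :
    ((Finset.univ : Finset (Sylow p G)) : Set (Sylow p G)).PairwiseDisjoint fib := by
  intro P _ P' _ hne
  rw [Function.onFun, Finset.disjoint_left]
  intro st hst hst'
  apply hne
  obtain ⟨hOm, hP⟩ := mem_fib.mp hst
  obtain ⟨-, hP'⟩ := mem_fib.mp hst'
  obtain ⟨hs, ht, hn⟩ := mem_Om.mp hOm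
  have hI := invd_of_invo hs ht hn
  apply Sylow.ext
  rw [h.sylow_eq_cent hI P hP, h.sylow_eq_cent hI P' hP']

/-- two involutions inverting `x` have a product centralizing `x` -/
theorem comm_of_two_inverting {G : Type*} [Group G] {t u x : G} (ht : t * t = 1)
    (hu : u * u = 1) (h1 : u * x * u = x⁻¹) (h2 : t * x * t = x⁻¹) :
    t * u * x = x * (t * u) := by
  have e1 : t * u * x = t * x⁻¹ * u := by
    calc t * u * x = t * u * x * (u * u) := by rw [hu, mul_one]
      _ = t * (u * x * u) * u := by group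
      _ = t * x⁻¹ * u := by rw [h1]
  have e2 : x * (t * u) = t * x⁻¹ * u := by
    calc x * (t * u) = (t * t) * x * (t * u) := by rw [ht, one_mul]
      _ = t * (t * x * t) * u := by group
      _ = t * x⁻¹ * u := by rw [h2]
  rw [e1, e2]

/-- translates of the inverting involution by elements of `P` are inverting involutions -/
theorem IIa.good_mul (h : IIa G p a Q w) (P : Sylow p G) {t y : G}
    (hg : Good (P : Subgroup G) t) (hy : y ∈ (P : Subgroup G)) :
    Good (P : Subgroup G) (y * t) := by
  have hty : t * y * t = y⁻¹ := by have := hg.2 y hy; rwa [hg.1.inv_eq] at this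
  refine ⟨⟨fun h1 => ?_, ?_⟩, ?_⟩
  · -- `y t = 1` puts the involution `t` into `P`
    have htP : t ∈ (P : Subgroup G) := by
      have : t = y⁻¹ := eq_inv_of_mul_eq_one_right h1
      rw [this]; exact Subgroup.inv_mem _ hy
    obtain ⟨k, hk⟩ := P.isPGroup' ⟨t, htP⟩
    have hk' : t ^ (p ^ k) = 1 := by
      have := congrArg Subtype.val hk
      simpa using this
    exact h.sq_ne_one hg.1.1 hk' hg.1.2
  · rw [pow_two]
    calc y * t * (y * t) = y * (t * y * t) := by group
      _ = 1 := by rw [hty]; group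
  · intro z hz
    have h1 := hg.2 z hz
    have h2 : y * z⁻¹ = z⁻¹ * y :=
      h.pab P P.isPGroup' y hy z⁻¹ (Subgroup.inv_mem _ hz)
    calc y * t * z * (y * t)⁻¹ = y * (t * z * t⁻¹) * y⁻¹ := by group
      _ = y * z⁻¹ * y⁻¹ := by rw [h1]
      _ = z⁻¹ := by rw [h2]; group

/-- each fibre has `(|P| - 1) |P|` elements -/
theorem IIa.card_fib (h : IIa G p a Q w) (P : Sylow p G) :
    (fib P).card = (Nat.card P - 1) * Nat.card P := by
  obtain ⟨tP, hg⟩ := h.exists_good P
  set PF : Finset G := Finset.univ.filter (fun x => x ∈ (P : Subgroup G)) with hPFdef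
  have hmemPF : ∀ x : G, x ∈ PF ↔ x ∈ (P : Subgroup G) := by
    intro x; simp [hPFdef]
  have hPF : PF.card = Nat.card P :=
    (Nat.card_eq_fintype_card.trans (Fintype.card_of_subtype PF hmemPF)).symm
  set ψ : G × G → G × G := fun xy => (xy.1 * (xy.2 * tP), xy.2 * tP) with hψ
  have hinj : Set.InjOn ψ (((PF.erase 1) ×ˢ PF : Finset (G × G)) : Set (G × G)) := by
    rintro ⟨x, y⟩ - ⟨x', y'⟩ - hxy
    simp only [hψ, Prod.mk.injEq] at hxy
    obtain ⟨h1, h2⟩ := hxy
    have hy : y = y' := mul_right_cancel h2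
    subst hy
    have hx : x = x' := mul_right_cancel h1
    rw [hx]
  have himg : ((PF.erase 1) ×ˢ PF).image ψ = fib P := by
    ext ⟨s, t⟩
    simp only [Finset.mem_image, Finset.mem_product, Finset.mem_erase, hmemPF, mem_fib,
      mem_Om, Prod.exists]
    constructor
    · rintro ⟨x, y, ⟨⟨hx1, hxP⟩, hyP⟩, hxy⟩
      simp only [hψ, Prod.mk.injEq] at hxy
      obtain ⟨rfl, rfl⟩ := hxy
      have hg' := h.good_mul P hg hyP
      have hI := h.invd_of_good P hg' hxP hx1
      refine ⟨⟨hI.invo_mul, hg'.1, hI.not_comm⟩, ?_⟩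
      rw [hI.mul_t]; exact hxP
    · rintro ⟨⟨hs, ht, hn⟩, hstP⟩
      have hI := invd_of_invo hs ht hn
      have hgt := h.good_of_invd hI P hstP
      have hPC := h.sylow_eq_cent hI P hstP
      have hyP : t * tP ∈ (P : Subgroup G) := by
        rw [hPC, Subgroup.mem_centralizer_singleton_iff]
        have h1 : tP * (s * t) * tP = (s * t)⁻¹ := by
          have := hg.2 _ hstP; rwa [hg.1.inv_eq] at this
        exact comm_of_two_inverting ht.mul_self hg.1.mul_self h1 hI.mul_mul
      refine ⟨s * t, t * tP, ⟨⟨hI.ne_one, hstP⟩, hyP⟩, ?_⟩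
      simp only [hψ, Prod.mk.injEq]
      have e1 : t * tP * tP = t := by rw [mul_assoc, hg.1.mul_self, mul_one]
      refine ⟨?_, e1⟩
      rw [e1, mul_assoc, ht.mul_self, mul_one]
  rw [← himg, Finset.card_image_of_injOn hinj, Finset.card_product,
    Finset.card_erase_of_mem ((hmemPF 1).mpr (Subgroup.one_mem _)), hPF]

end Cfsg.Agent.Lib.Helper6.Mix
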