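import Mathlib
import Cfsg.Agent.Lib.Helper6.MixP4b

/-!
# S4017, package P4: Case IIa (`P₁ = 1`, `K_t = 1`) is impossible

`theorem caseIIa_false (h : CfgB G p a Q w) (h1 : Pone p Q = ⊥) (t : G) (ht : t ∈ Q)
    (ht1 : t ≠ 1) (hK : Kt p t = ⊥) : False`
(paper proof: `notes/S4017_paper_lead.md`, §3; the hypothesis `h1` is not needed).
-/

set_option autoImplicit false

namespace Cfsg.Agent.Lib.Helper6.Mix

open Cfsg.Agent.Lib.Lead.Mix
open Classical

/-- the arithmetic at the end of Case IIa -/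
theorem caseIIa_arith {p a m n e c : ℕ} (hp : p.Prime) (hp2 : ¬ 2 ∣ p) (he : 1 ≤ e)
    (hc : c = 2 ^ a * m) (hpe : p ^ e ∣ c) (hn : n ≡ 1 [MOD p])
    (hcount : m * (m - p) = n * ((p ^ e - 1) * p ^ e)) : False := by
  have hcop : Nat.Coprime (p ^ e) (2 ^ a) :=
    Nat.Coprime.pow _ _ ((Nat.coprime_primes hp Nat.prime_two).mpr
      (fun h2 => hp2 (by rw [h2])))
  have hpem : p ^ e ∣ m := by
    rw [hc] at hpe
    exact hcop.dvd_of_dvd_mul_left hpe
  have hpm : p ∣ m := (dvd_pow_self p (by omega)).trans hpem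
  have hpmp : p ∣ m - p := Nat.dvd_sub hpm (dvd_refl p)
  have h1 : p ^ e * p ∣ n * ((p ^ e - 1) * p ^ e) := by
    rw [← hcount]
    exact Nat.mul_dvd_mul hpem hpmp
  have h2 : p ^ e * p ∣ p ^ e * (n * (p ^ e - 1)) := by
    have : n * ((p ^ e - 1) * p ^ e) = p ^ e * (n * (p ^ e - 1)) := by ring
    rwa [this] at h1
  have h3 : p ∣ n * (p ^ e - 1) :=
    (Nat.mul_dvd_mul_iff_left (pos_of_ne_zero (pow_ne_zero _ hp.ne_zero))).mp h2
  rcases (Nat.Prime.dvd_mul hp).mp h3 with h4 | h4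
  · have h5 : n % p = 1 % p := hn
    rw [Nat.mod_eq_of_lt hp.one_lt, (Nat.dvd_iff_mod_eq_zero).mp h4] at h5
    exact zero_ne_one h5
  · have h5 : p ∣ p ^ e := dvd_pow_self p (by omega)
    have h6 : 1 ≤ p ^ e := Nat.one_le_pow _ _ hp.pos
    have h7 : p ∣ p ^ e - (p ^ e - 1) := Nat.dvd_sub h5 h4
    have h8 : p ^ e - (p ^ e - 1) = 1 := by omega
    rw [h8] at h7
    exact hp.one_lt.ne' (Nat.dvd_one.mp h7)

/-- Case IIa is impossible -/
theorem IIa.false {G : Type*} [Group G] [Fintype G] {p a : ℕ} {Q : Subgroup G} {w : G}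
    (h : IIa G p a Q w) : False := by
  have : Fact p.Prime := ⟨h.hp⟩
  have hG := h.card_group
  have hOm := h.card_Om
  have hsum : (Om G).card = ∑ P : Sylow p G, (fib P).card := by
    conv_lhs => rw [h.Om_eq_biUnion]
    exact Finset.card_biUnion h.fib_disjoint
  have hσ : ∀ P : Sylow p G, Nat.card P = p ^ (Nat.card G).factorization p :=
    fun P => P.card_eq_multiplicity
  have hsum' : (Om G).card = Nat.card (Sylow p G) *
      ((p ^ (Nat.card G).factorization p - 1) * p ^ (Nat.card G).factorization p) := by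
    rw [hsum, Finset.sum_congr rfl (fun P _ => by rw [h.card_fib P, hσ P]), Finset.sum_const,
      smul_eq_mul, Finset.card_univ]
    congr 1
    exact Nat.card_eq_fintype_card.symm
  have he : 1 ≤ (Nat.card G).factorization p := by
    have : 0 < (Nat.card G).factorization p :=
      h.hp.factorization_pos_of_dvd Nat.card_pos.ne' h.pdvd
    omega
  exact caseIIa_arith h.hp h.p_odd he hG (Nat.ordProj_dvd _ _) (card_sylow_modEq_one p G)
    (hOm.symm.trans hsum')

end Cfsg.Agent.Lib.Helper6.Mix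

namespace Cfsg.Agent.Lib.Helper6.Mix

open Cfsg.Agent.Lib.Lead.Mix

/-- **Package P4 of S4017** (Case IIa, double counting). -/
theorem caseIIa_false {G : Type*} [Group G] [Finite G] {p a : ℕ} {Q : Subgroup G} {w : G}
    (h : CfgB G p a Q w) (_h1 : Pone p Q = ⊥) (t : G) (ht : t ∈ Q) (ht1 : t ≠ 1)
    (hK : Kt p t = ⊥) : False := by
  classical
  have : Fintype G := Fintype.ofFinite G
  exact (IIa.mk' h ht ht1 hK).false

end Cfsg.Agent.Lib.Helper6.Mix
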