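import Mathlib
import Cfsg.Agent.Lib.Helper6.NatSL2e

set_option autoImplicit false

namespace Cfsg.Agent.Lib.Helper6.NatSL2

open Matrix Cfsg.Agent.Lib.Helper1

variable {G : Type*} [Group G] {F : Type*} [Field F] {V L : Subgroup G}

theorem mem_centralizer_map_conj_iff (T : Subgroup G) (g v : G) :
    v ∈ Subgroup.centralizer ((T.map (MulAut.conj g).toMonoidHom : Subgroup G) : Set G) ↔
      g⁻¹ * v * g ∈ Subgroup.centralizer (T : Set G) := by
  rw [Subgroup.mem_centralizer_iff, Subgroup.mem_centralizer_iff]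
  constructor
  · intro h t ht
    have h1 := h (g * t * g⁻¹) ⟨t, ht, rfl⟩
    calc t * (g⁻¹ * v * g) = g⁻¹ * ((g * t * g⁻¹) * v) * g := by group
      _ = g⁻¹ * (v * (g * t * g⁻¹)) * g := by rw [h1]
      _ = g⁻¹ * v * g * t := by group
  · rintro h _ ⟨t, ht, rfl⟩
    have h1 := h t ht
    change g * t * g⁻¹ * v = v * (g * t * g⁻¹)
    calc g * t * g⁻¹ * v = g * (t * (g⁻¹ * v * g)) * g⁻¹ := by group
      _ = g * ((g⁻¹ * v * g) * t) * g⁻¹ := by rw [h1]
      _ = v * (g * t * g⁻¹) := by group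

namespace Data

variable (D : Data F V L)

theorem comm (D : Data F V L) (a b : G) (ha : a ∈ V) (hb : b ∈ V) : a * b = b * a := by
  apply D.co_injective _ _ (V.mul_mem ha hb) (V.mul_mem hb ha)
  rw [D.co_mul a b ha hb, D.co_mul b a hb ha, add_comm]

theorem inv_conj_mem (D : Data F V L) (l : G) (hl : l ∈ L) (v : G) (hv : v ∈ V) :
    l⁻¹ * v * l ∈ V := by
  have := D.conj_mem l⁻¹ (L.inv_mem hl) v hv
  rw [inv_inv] at this
  exact this

/-- elements of order prime to the characteristic have no fixed points -/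
theorem fixed_eq_bot [Finite G] (D : Data F V L) (p : ℕ) [hp : Fact p.Prime] [CharP F p]
    (x : G) (hx : x ∈ L) (hx1 : x ≠ 1) (hcop : (orderOf x).Coprime p) :
    V ⊓ Subgroup.centralizer ({x} : Set G) = ⊥ := by
  rw [eq_bot_iff]
  rintro v ⟨hv, hc⟩
  have hc : v ∈ Subgroup.centralizer ({x} : Set G) := hc
  rw [Subgroup.mem_centralizer_singleton_iff] at hc
  rw [Subgroup.mem_bot]
  by_contra hv1
  apply hx1
  have hu : D.co v hv ≠ 0 := fun h => hv1 ((D.co_eq_zero_iff v hv).1 h)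
  have hfix : ((D.ρ ⟨x, hx⟩ : SpecialLinearGroup (Fin 2) F) : Matrix (Fin 2) (Fin 2) F).mulVec
      (D.co v hv) = D.co v hv := by
    rw [← D.co_conj x hx v hv]
    apply D.co_congr
    rw [← hc]; group
  have h1 := pow_char_eq_one_of_fixed p (D.ρ ⟨x, hx⟩) _ hu hfix
  rw [← map_pow] at h1
  have h2 : (⟨x, hx⟩ : L) ^ p = 1 := D.hinj (by rw [h1, map_one])
  have h3 : x ^ p = 1 := congrArg Subtype.val h2
  have h4 := orderOf_dvd_of_pow_eq_one h3
  have h5 : orderOf x = 1 := Nat.eq_one_of_dvd_coprimes hcop (dvd_refl _) h4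
  exact orderOf_eq_one_iff.1 h5

end Data

end Cfsg.Agent.Lib.Helper6.NatSL2
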