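import Mathlib
import Cfsg.Agent.Lib.Helper6.NatSL2f

set_option autoImplicit false

namespace Cfsg.Agent.Lib.Helper6.NatSL2

open Matrix Cfsg.Agent.Lib.Helper1

variable {G : Type*} [Group G] {F : Type*} [Field F] {V L : Subgroup G}

namespace Frame

variable {D : Data F V L} {T : Subgroup G} (Fr : Frame D T)

theorem mem_iff_cj (l : L) : (l : G) ∈ T ↔ D.ρ l ∈ cj Fr.g (uSL F) := by
  rw [Fr.hmem l, mem_cj, mem_uSL_iff]
  constructor
  · rintro ⟨a, ha⟩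
    refine ⟨a, ?_⟩
    rw [ha]; group
  · rintro ⟨a, ha⟩
    refine ⟨a, ?_⟩
    rw [← ha]; group

/-- elements of `L` stabilizing the line normalize `T` -/
theorem mem_normalizer_of_lam (x : G) (hx : x ∈ L)
    (h : lam Fr.g (((D.ρ ⟨x, hx⟩ : SpecialLinearGroup (Fin 2) F) :
      Matrix (Fin 2) (Fin 2) F).mulVec (wv Fr.g)) = 0) :
    x ∈ Subgroup.normalizer (T : Set G) := by
  have hcj := cj_eq_of_lam_eq_zero Fr.g (D.ρ ⟨x, hx⟩) h
  rw [Subgroup.mem_normalizer_iff]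
  intro t
  constructor
  · intro ht
    have htL := Fr.hTL ht
    have h1 := (Fr.mem_iff_cj ⟨t, htL⟩).1 ht
    have h2 : (((⟨x, hx⟩ : L) * ⟨t, htL⟩ * (⟨x, hx⟩ : L)⁻¹ : L) : G) ∈ T := by
      rw [Fr.mem_iff_cj, map_mul, map_mul, map_inv, ← hcj]
      exact conj_mem_cj _ _ h1
    exact h2
  · intro ht
    have htL' := Fr.hTL ht
    have htL : t ∈ L := by
      have : t = x⁻¹ * (x * t * x⁻¹) * x := by group
      rw [this]
      exact L.mul_mem (L.mul_mem (L.inv_mem hx) htL') hx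
    have h1 := (Fr.mem_iff_cj ⟨x * t * x⁻¹, htL'⟩).1 ht
    have h2 : ((⟨t, htL⟩ : L) : G) ∈ T := by
      rw [Fr.mem_iff_cj, ← hcj, mem_cj]
      have : (D.ρ ⟨x, hx⟩)⁻¹ * D.ρ ⟨t, htL⟩ * D.ρ ⟨x, hx⟩ =
          (D.ρ ⟨x, hx⟩)⁻¹ * (D.ρ ⟨x, hx⟩)⁻¹ * (D.ρ ⟨x * t * x⁻¹, htL'⟩) * D.ρ ⟨x, hx⟩ * D.ρ ⟨x, hx⟩ := by
        have e : (⟨x * t * x⁻¹, htL'⟩ : L) = ⟨x, hx⟩ * ⟨t, htL⟩ * (⟨x, hx⟩ : L)⁻¹ := rfl
        rw [e, map_mul, map_mul, map_inv]
        group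
      rw [this]
      have h3 : D.ρ ⟨x * t * x⁻¹, htL'⟩ ∈ cj (D.ρ ⟨x, hx⟩) (cj (D.ρ ⟨x, hx⟩) (cj Fr.g (uSL F))) := by
        rw [hcj, hcj]; exact h1
      rw [mem_cj, mem_cj] at h3
      have e2 : (D.ρ ⟨x, hx⟩)⁻¹ * (D.ρ ⟨x, hx⟩)⁻¹ * (D.ρ ⟨x * t * x⁻¹, htL'⟩) * D.ρ ⟨x, hx⟩ * D.ρ ⟨x, hx⟩ =
          (D.ρ ⟨x, hx⟩)⁻¹ * ((D.ρ ⟨x, hx⟩)⁻¹ * D.ρ ⟨x * t * x⁻¹, htL'⟩ * D.ρ ⟨x, hx⟩) * D.ρ ⟨x, hx⟩ := by
        group
      rw [e2]
      exact h3
    exact h2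

/-- the torus elements -/
theorem exists_torus (c : F) (hc : c ≠ 0) :
    ∃ (d : G) (hd : d ∈ L), d ∈ Subgroup.normalizer (T : Set G) ∧
      (D.ρ ⟨d, hd⟩ : SpecialLinearGroup (Fin 2) F) = Fr.g * dg c hc * Fr.g⁻¹ := by
  obtain ⟨l, hl⟩ := D.hsurj (Fr.g * dg c hc * Fr.g⁻¹)
  refine ⟨l, l.2, ?_, hl⟩
  apply Fr.mem_normalizer_of_lam l l.2
  have : (⟨(l : G), l.2⟩ : L) = l := rfl
  rw [this, hl, conj_dg_wv, lam_smul, lam_wv, mul_zero]

/-- irreducibility of the fixed line under the normalizer -/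
theorem irreducible_W (U : Subgroup G) (hUW : U ≤ Fr.W)
    (hN : L ⊓ Subgroup.normalizer (T : Set G) ≤ Subgroup.normalizer (U : Set G)) :
    U = ⊥ ∨ U = Fr.W := by
  by_cases hU : U = ⊥
  · exact Or.inl hU
  · right
    apply le_antisymm hUW
    obtain ⟨u, hu1⟩ := (Subgroup.ne_bot_iff_exists_ne_one.1 hU)
    have hu1' : (u : G) ≠ 1 := fun h => hu1 (Subtype.ext h)
    have huV : (u : G) ∈ V := Fr.W_le (hUW u.2)
    obtain ⟨α, hα⟩ := (Fr.mem_W_iff_co u huV).1 (hUW u.2)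
    have hα0 : α ≠ 0 := by
      intro h0
      rw [h0, zero_smul] at hα
      exact hu1' ((D.co_eq_zero_iff _ huV).1 hα)
    intro w hw
    have hwV := Fr.W_le hw
    obtain ⟨β, hβ⟩ := (Fr.mem_W_iff_co w hwV).1 hw
    by_cases hβ0 : β = 0
    · rw [hβ0, zero_smul] at hβ
      rw [(D.co_eq_zero_iff _ hwV).1 hβ]
      exact U.one_mem
    · have hc : β / α ≠ 0 := div_ne_zero hβ0 hα0
      obtain ⟨d, hdL, hdN, hd⟩ := Fr.exists_torus (β / α) hc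
      have hdU := hN ⟨hdL, hdN⟩
      have h1 : d * u * d⁻¹ ∈ U := (Subgroup.mem_normalizer_iff.1 hdU u).1 u.2
      have h2 : w = d * u * d⁻¹ := by
        apply D.co_injective _ _ hwV (D.conj_mem d hdL u huV)
        rw [D.co_conj d hdL u huV, hd, hα, Matrix.mulVec_smul, conj_dg_wv, hβ, smul_smul]
        congr 1
        field_simp
      rw [h2]; exact h1

/-- irreducibility of the quotient by the fixed line -/
theorem irreducible_quot (U : Subgroup G) (hWU : Fr.W ≤ U) (hUV : U ≤ V)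
    (hN : L ⊓ Subgroup.normalizer (T : Set G) ≤ Subgroup.normalizer (U : Set G)) :
    U = Fr.W ∨ U = V := by
  by_cases hU : U ≤ Fr.W
  · exact Or.inl (le_antisymm hU hWU)
  · right
    apply le_antisymm hUV
    obtain ⟨u, hu, huW⟩ := SetLike.not_le_iff_exists.1 hU
    have huV := hUV hu
    have hμ : lam Fr.g (D.co u huV) ≠ 0 := fun h0 => huW ((Fr.mem_W u).2 ⟨huV, h0⟩)
    intro v hv
    have hdec := decomp Fr.g (D.co v hv)
    by_cases hβ0 : lam Fr.g (D.co v hv) = 0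
    · exact hWU ((Fr.mem_W v).2 ⟨hv, hβ0⟩)
    · have hc : lam Fr.g (D.co u huV) / lam Fr.g (D.co v hv) ≠ 0 := div_ne_zero hμ hβ0
      have hcm : (lam Fr.g (D.co u huV) / lam Fr.g (D.co v hv))⁻¹ * lam Fr.g (D.co u huV) =
          lam Fr.g (D.co v hv) := by
        field_simp
      generalize lam Fr.g (D.co u huV) / lam Fr.g (D.co v hv) = c at hc hcm
      obtain ⟨d, hdL, hdN, hd⟩ := Fr.exists_torus c hc
      have hdU := hN ⟨hdL, hdN⟩
      have h1 : d * u * d⁻¹ ∈ U := (Subgroup.mem_normalizer_iff.1 hdU u).1 hu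
      have h1V := D.conj_mem d hdL u huV
      -- the quotient of `v` by this element lies in `W`
      have h2 : (d * u * d⁻¹)⁻¹ * v ∈ Fr.W := by
        rw [Fr.mem_W]
        refine ⟨V.mul_mem (V.inv_mem h1V) hv, ?_⟩
        rw [D.co_mul _ _ (V.inv_mem h1V) hv, D.co_inv _ h1V, D.co_conj d hdL u huV, hd]
        have hdu := decomp Fr.g (D.co u huV)
        rw [lam_add, lam_neg]
        conv_lhs => rw [hdu]
        rw [Matrix.mulVec_add, Matrix.mulVec_smul, Matrix.mulVec_smul, conj_dg_wv, conj_dg_cv,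
          lam_add, lam_smul, lam_smul, lam_smul, lam_smul, lam_wv, lam_cv]
        linear_combination - hcm
      have h3 : v = (d * u * d⁻¹) * ((d * u * d⁻¹)⁻¹ * v) := by group
      rw [h3]
      exact U.mul_mem h1 (hWU h2)

end Frame

end Cfsg.Agent.Lib.Helper6.NatSL2
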