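import Mathlib
import Cfsg.Agent.Lib.Helper6.NatSL2g
import Cfsg.Prelude.Def_TwoFusion

set_option autoImplicit false

namespace Cfsg.Agent.Lib.Helper6.NatSL2

open Matrix Cfsg.Agent.Lib.Helper1

variable {G : Type*} [Group G] {F : Type*} [Field F] {V L : Subgroup G}

namespace Frame

variable {D : Data F V L} {T : Subgroup G} (Fr : Frame D T)

/-- the image of the fixed vector under `g` -/
noncomputable def yv (Fr : Frame D T) (g : G) (hg : g ∈ L) : Fin 2 → F :=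
  ((D.ρ ⟨g, hg⟩ : SpecialLinearGroup (Fin 2) F) : Matrix (Fin 2) (Fin 2) F).mulVec (wv Fr.g)

theorem lam_yv_ne_zero (g : G) (hg : g ∈ L) (hgN : g ∉ Subgroup.normalizer (T : Set G)) :
    lam Fr.g (Fr.yv g hg) ≠ 0 := fun h => hgN (Fr.mem_normalizer_of_lam g hg h)

theorem mem_W2_iff (g : G) (hg : g ∈ L) (v : G) :
    v ∈ V ⊓ Subgroup.centralizer ((T.map (MulAut.conj g).toMonoidHom : Subgroup G) : Set G) ↔
      ∃ hv : v ∈ V, ∃ c : F, D.co v hv = c • Fr.yv g hg := by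
  rw [Subgroup.mem_inf, mem_centralizer_map_conj_iff]
  constructor
  · rintro ⟨hv, hc⟩
    refine ⟨hv, ?_⟩
    have h1 : g⁻¹ * v * g ∈ Fr.W := by
      rw [← Fr.inf_centralizer_eq]
      exact ⟨D.inv_conj_mem g hg v hv, hc⟩
    obtain ⟨c, hc'⟩ := (Fr.mem_W_iff_co _ (Fr.W_le h1)).1 h1
    refine ⟨c, ?_⟩
    have e : v = g * (g⁻¹ * v * g) * g⁻¹ := by group
    rw [D.co_congr e hv, D.co_conj g hg _ (Fr.W_le h1), hc', Matrix.mulVec_smul]
    rfl
  · rintro ⟨hv, c, hc⟩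
    refine ⟨hv, ?_⟩
    obtain ⟨u, hu, huc⟩ := D.exists_co (c • wv Fr.g)
    have huW : u ∈ Fr.W := (Fr.mem_W_iff_co u hu).2 ⟨c, huc⟩
    have h2 : v = g * u * g⁻¹ := by
      apply D.co_injective _ _ hv (D.conj_mem g hg u hu)
      rw [D.co_conj g hg u hu, huc, hc, Matrix.mulVec_smul]
      rfl
    have h3 : g⁻¹ * v * g = u := by rw [h2]; group
    rw [h3]
    exact Fr.W_le_centralizer huW

theorem direct (Fr : Frame D T) (g : G) (hg : g ∈ L) (hgN : g ∉ Subgroup.normalizer (T : Set G)) :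
    Cfsg.IsInternalDirectProduct (V ⊓ Subgroup.centralizer ((T : Subgroup G) : Set G))
      (V ⊓ Subgroup.centralizer ((T.map (MulAut.conj g).toMonoidHom : Subgroup G) : Set G)) V := by
  have hμ := Fr.lam_yv_ne_zero g hg hgN
  refine ⟨inf_le_left, inf_le_left, ?_, ?_, ?_⟩
  · intro a ha b hb
    exact D.comm a b ha.1 hb.1
  · rw [eq_bot_iff]
    rintro v ⟨h1, h2⟩
    have h1 : v ∈ V ⊓ Subgroup.centralizer ((T : Subgroup G) : Set G) := h1
    rw [Fr.inf_centralizer_eq] at h1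
    obtain ⟨hv, c, hc⟩ := (Fr.mem_W2_iff g hg v).1 h2
    obtain ⟨_, h0⟩ := (Fr.mem_W v).1 h1
    rw [Subgroup.mem_bot]
    rw [hc, lam_smul] at h0
    rcases mul_eq_zero.1 h0 with h3 | h3
    · rw [h3, zero_smul] at hc
      exact (D.co_eq_zero_iff v hv).1 hc
    · exact absurd h3 hμ
  · apply le_antisymm (sup_le inf_le_left inf_le_left)
    intro v hv
    set x := D.co v hv with hx
    set β := lam Fr.g x / lam Fr.g (Fr.yv g hg) with hβ
    obtain ⟨v₂, hv₂, hv₂c⟩ := D.exists_co (β • Fr.yv g hg)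
    have h2 : v₂ ∈ V ⊓ Subgroup.centralizer
        ((T.map (MulAut.conj g).toMonoidHom : Subgroup G) : Set G) :=
      (Fr.mem_W2_iff g hg v₂).2 ⟨hv₂, β, hv₂c⟩
    have h1 : v * v₂⁻¹ ∈ V ⊓ Subgroup.centralizer ((T : Subgroup G) : Set G) := by
      rw [Fr.inf_centralizer_eq, Fr.mem_W]
      refine ⟨V.mul_mem hv (V.inv_mem hv₂), ?_⟩
      rw [D.co_mul _ _ hv (V.inv_mem hv₂), D.co_inv _ hv₂, hv₂c, lam_add, lam_neg, lam_smul, hβ]
      field_simp
      ring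
    have e : v = (v * v₂⁻¹) * v₂ := by group
    rw [e]
    exact Subgroup.mul_mem_sup h1 h2

end Frame

end Cfsg.Agent.Lib.Helper6.NatSL2
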