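import Mathlib
import Cfsg.Prelude
import Cfsg.Agent.Lib.Helper6.ODec1
import Cfsg.Agent.Lib.Helper5.ODecRefl
import Cfsg.Agent.Lib.Helper5.ODec_KLC3AUX

set_option autoImplicit false

/-! # S5677, PK-KLC3: case (b) with nonsingular component, `k = 3`, `q ≥ 5`. -/

namespace Cfsg.Agent.Lib.Helper6.ODec

open Matrix Module Cfsg.Agent.H9Orth Cfsg.Agent.Lib.Helper2.ReflGen Cfsg.Agent.Lib.Helper2.CDG
  Cfsg.Agent.Lib.Helper2.LongRoot

variable {F : Type*} [Field F] [Fintype F] {ι : Type} [Fintype ι] [DecidableEq ι]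
variable {Q : QuadraticForm F (ι → F)} {t k : ℕ} {D : Fin t → Submodule F (ι → F)}
  {M : Subgroup (Matrix.GeneralLinearGroup ι F)}

/-- a reflection in a vector orthogonal to `w` fixes `w` -/
theorem klc3_refl_fix {v w : ι → F} (hQv : Q v ≠ 0) (hvw : QuadraticMap.polar (⇑Q) v w = 0) :
    ((refl Q v hQv : Matrix.GeneralLinearGroup ι F) : Matrix ι ι F) *ᵥ w = w := by
  rw [refl_mulVec, hvw, mul_zero, zero_smul, sub_zero]

/-- **PK-KLC3** (case (b), nonsingular component, `k = 3`, `q ≥ 5`): `W = D_j ∩ a^⊥ ⊆ X_w`. -/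
theorem pk_klc3 (hQ : (QuadraticMap.polarBilin Q).Nondegenerate)
    (c : Ctx Q k D M) (hk3 : k = 3) (hq : 5 ≤ Fintype.card F) {j : Fin t} {a b z : ι → F}
    (ha : a ∈ D j) (hb : b ∈ perpS Q (D j)) (hQa : Q a ≠ 0) (hQw : Q (a + b) = 0)
    (hz : z ∈ XS hQ M (a + b)) (hzj : ∀ μ : F, z - μ • (a + b) ∉ perpS Q (D j)) :
    ∀ x ∈ D j, QuadraticMap.polar (⇑Q) a x = 0 → x ∈ XS hQ M (a + b) := by
  have hWnd := c.Wsub_nondeg ha hQa
  have hWdim : finrank F (Wsub Q D j a) = 2 := by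
    have := c.Wsub_finrank ha hQa
    omega
  have hzW := c.Wsub_not_perp ha hb hQa hzj
  have hbp : ∀ d ∈ D j, QuadraticMap.polar (⇑Q) d b = 0 := (mem_perpS _ _).1 hb
  -- vectors of `W` are orthogonal to `w`
  have hWw : ∀ v ∈ Wsub Q D j a, QuadraticMap.polar (⇑Q) v (a + b) = 0 := by
    intro v hv
    obtain ⟨hvD, hav⟩ := (mem_Wsub j a v).1 hv
    rw [QuadraticMap.polar_add_right, QuadraticMap.polar_comm, hav, hbp v hvD, add_zero]
  suffices hSW : XS hQ M (a + b) ⊓ Wsub Q D j a = Wsub Q D j a by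
    intro x hx hax
    have hxW : x ∈ Wsub Q D j a := (mem_Wsub j a x).2 ⟨hx, hax⟩
    rw [← hSW] at hxW
    exact hxW.1
  apply Cfsg.Agent.Lib.Helper5.ODecRefl.refl_irr hq _ _ inf_le_right _ hWnd
  · -- invariance under the reflections of `W`
    intro c₀ hc₀ hQc₀ s hs
    obtain ⟨hsX, hsW⟩ := hs
    obtain ⟨hc₀D, hac₀⟩ := (mem_Wsub j a c₀).1 hc₀
    obtain ⟨l, hlj, c₁, hc₁, hQc₁, hc₁b⟩ := klc3_partner hQ c ha hb hQa hQw (Q c₀) hQc₀
    have hQc₁' : Q c₁ ≠ 0 := by rw [hQc₁]; exact hQc₀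
    have hρM := c.refl_pair_mem hQ hc₀D hc₁ hQc₀ hQc₁' hQc₁
    have hc₁w : QuadraticMap.polar (⇑Q) c₁ (a + b) = 0 := by
      rw [QuadraticMap.polar_add_right, c.orth hlj hc₁ ha, hc₁b, add_zero]
    have hρw : (((refl Q c₀ hQc₀ * refl Q c₁ hQc₁' : ↥(Cfsg.isometryGroup F ⇑Q)) :
        Matrix.GeneralLinearGroup ι F) : Matrix ι ι F) *ᵥ (a + b) = a + b := by
      rw [mul_mulVec, klc3_refl_fix hQc₁' hc₁w, klc3_refl_fix hQc₀ (hWw c₀ hc₀)]
    have h1 := XS_inv hQ hQw _ hρM hρw hsX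
    have hc₁s : QuadraticMap.polar (⇑Q) c₁ s = 0 := c.orth hlj hc₁ (Wsub_le j a hsW)
    rw [mul_mulVec, klc3_refl_fix hQc₁' hc₁s, refl_mulVec] at h1
    have e : (Q c₀)⁻¹ * QuadraticMap.polar (⇑Q) c₀ s = QuadraticMap.polar (⇑Q) c₀ s / Q c₀ := by
      rw [div_eq_inv_mul]
    rw [e] at h1
    exact ⟨h1, Submodule.sub_mem _ hsW (Submodule.smul_mem _ _ hc₀)⟩
  · -- `S ≠ 0`
    obtain ⟨c₀, hc₀, c₀', hc₀', hQc₀, hQeq, hspan⟩ := klc3_pair c.h2 hq _ hWnd hWdim
    have hQc₀' : Q c₀' ≠ 0 := by rw [hQeq]; exact hQc₀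
    have hρM := c.refl_pair_mem hQ (Wsub_le j a hc₀) (Wsub_le j a hc₀') hQc₀ hQc₀' hQeq
    have hρw : (((refl Q c₀ hQc₀ * refl Q c₀' hQc₀' : ↥(Cfsg.isometryGroup F ⇑Q)) :
        Matrix.GeneralLinearGroup ι F) : Matrix ι ι F) *ᵥ (a + b) = a + b := by
      rw [mul_mulVec, klc3_refl_fix hQc₀' (hWw c₀' hc₀'), klc3_refl_fix hQc₀ (hWw c₀ hc₀)]
    have h1 := XS_inv hQ hQw _ hρM hρw hz
    rw [mul_mulVec, refl_mulVec Q c₀' hQc₀' z, refl_mulVec] at h1
    -- the difference `ρ z - z`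
    obtain ⟨β', hβ'⟩ : ∃ β' : F, β' = (Q c₀')⁻¹ * QuadraticMap.polar (⇑Q) c₀' z := ⟨_, rfl⟩
    obtain ⟨γ, hγ⟩ : ∃ γ : F, γ = (Q c₀)⁻¹ * QuadraticMap.polar (⇑Q) c₀ (z - β' • c₀') := ⟨_, rfl⟩
    rw [← hβ', ← hγ] at h1
    have h2 : (-β') • c₀' + (-γ) • c₀ ∈ XS hQ M (a + b) := by
      have := Submodule.sub_mem _ h1 hz
      have e : z - β' • c₀' - γ • c₀ - z = (-β') • c₀' + (-γ) • c₀ := by module
      rw [e] at this
      exact this
    have h3 : (-β') • c₀' + (-γ) • c₀ ∈ Wsub Q D j a :=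
      Submodule.add_mem _ (Submodule.smul_mem _ _ hc₀') (Submodule.smul_mem _ _ hc₀)
    intro hbot
    have h4 : (-β') • c₀' + (-γ) • c₀ = 0 := by
      have : (-β') • c₀' + (-γ) • c₀ ∈ XS hQ M (a + b) ⊓ Wsub Q D j a := ⟨h2, h3⟩
      rw [hbot] at this
      exact (Submodule.mem_bot F).1 this
    -- `c₀`, `c₀'` are independent since they span the plane `W`
    have hind : ∀ s r : F, s • c₀ + r • c₀' = 0 → s = 0 ∧ r = 0 := by
      intro s r hsr
      by_contra hcon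
      have hle : ∃ v : ι → F, Wsub Q D j a ≤ Submodule.span F {v} := by
        by_cases hs : s = 0
        · have hr : r ≠ 0 := fun hr => hcon ⟨hs, hr⟩
          rw [hs, zero_smul, zero_add] at hsr
          have hc0 : c₀' = 0 := by
            rcases smul_eq_zero.1 hsr with h | h
            · exact absurd h hr
            · exact h
          refine ⟨c₀, fun x hx => ?_⟩
          obtain ⟨s', r', rfl⟩ := hspan x hx
          rw [hc0, smul_zero, add_zero]
          exact Submodule.smul_mem _ _ (Submodule.mem_span_singleton_self c₀)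
        · refine ⟨c₀', fun x hx => ?_⟩
          obtain ⟨s', r', rfl⟩ := hspan x hx
          have hc0 : c₀ = (-(s⁻¹ * r)) • c₀' := by
            have h5 : s • c₀ = -(r • c₀') := eq_neg_of_add_eq_zero_left hsr
            have h6 : c₀ = s⁻¹ • (s • c₀) := by rw [smul_smul, inv_mul_cancel₀ hs, one_smul]
            rw [h6, h5]
            module
          rw [hc0, smul_smul, ← add_smul]
          exact Submodule.smul_mem _ _ (Submodule.mem_span_singleton_self c₀')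
      obtain ⟨v, hv⟩ := hle
      have h5 := Submodule.finrank_mono hv
      have h6 : finrank F ↥(Submodule.span F {v}) ≤ 1 := by
        have := finrank_span_le_card (R := F) ({v} : Set (ι → F))
        simpa using this
      omega
    obtain ⟨hγ0, hβ0⟩ := hind (-γ) (-β') (by rw [add_comm]; exact h4)
    have hβ0' : β' = 0 := neg_eq_zero.1 hβ0
    have hγ0' : γ = 0 := neg_eq_zero.1 hγ0
    have hp1 : QuadraticMap.polar (⇑Q) c₀' z = 0 := by
      rw [hβ0'] at hβ'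
      rcases mul_eq_zero.1 hβ'.symm with h | h
      · exact absurd (inv_eq_zero.1 h) hQc₀'
      · exact h
    have hp2 : QuadraticMap.polar (⇑Q) c₀ z = 0 := by
      rw [hγ0', hβ0', zero_smul, sub_zero] at hγ
      rcases mul_eq_zero.1 hγ.symm with h | h
      · exact absurd (inv_eq_zero.1 h) hQc₀
      · exact h
    apply hzW
    rw [mem_perpS]
    intro x hx
    obtain ⟨s, r, rfl⟩ := hspan x hx
    rw [QuadraticMap.polar_add_left, QuadraticMap.polar_smul_left, QuadraticMap.polar_smul_left,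
      hp1, hp2, smul_zero, smul_zero, add_zero]

end Cfsg.Agent.Lib.Helper6.ODec
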