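import Mathlib
import Cfsg.Prelude
import Cfsg.Agent.Lib.Helper6.ODec1

set_option autoImplicit false

/-! # S5677, PK-KLD: case (c) of the trichotomy, reduced to case (b) by one conjugation with
`E_{w, ±z}`. -/

namespace Cfsg.Agent.Lib.Helper6.ODec

open Matrix Module Cfsg.Agent.H9Orth Cfsg.Agent.Lib.Helper2.ReflGen Cfsg.Agent.Lib.Helper2.CDG
  Cfsg.Agent.Lib.Helper2.LongRoot

variable {F : Type*} [Field F] [Fintype F] {ι : Type} [Fintype ι] [DecidableEq ι]
variable {Q : QuadraticForm F (ι → F)} {t k : ℕ} {D : Fin t → Submodule F (ι → F)}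
  {M : Subgroup (Matrix.GeneralLinearGroup ι F)}

/-- a vector orthogonal to every block is zero -/
theorem kld_eq_zero (hQ : (QuadraticMap.polarBilin Q).Nondegenerate) (c : Ctx Q k D M)
    {v : ι → F} (h : ∀ l, v ∈ perpS Q (D l)) : v = 0 := by
  apply hQ.1
  intro x
  show QuadraticMap.polar (⇑Q) v x = 0
  obtain ⟨y, hy, rfl⟩ := c.exists_comp x
  have h1 : QuadraticMap.polar (⇑Q) v (∑ i, y i) = ∑ i, QuadraticMap.polar (⇑Q) v (y i) :=
    map_sum ((QuadraticMap.polarBilin Q) v) y Finset.univ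
  rw [h1]
  apply Finset.sum_eq_zero
  intro i _
  exact (mem_perpS' (D i) v).1 (h i) (y i) (hy i)

/-- Step A: two blocks in the support of `w` with different coefficients -/
theorem kld_stepA (hQ : (QuadraticMap.polarBilin Q).Nondegenerate) (c : Ctx Q k D M)
    {w z : ι → F} (hw0 : w ≠ 0) (hzw : ∀ μ : F, z ≠ μ • w) (lam : Fin t → F)
    (hlam : ∀ l, z - lam l • w ∈ perpS Q (D l)) :
    ∃ j l, w ∉ perpS Q (D j) ∧ w ∉ perpS Q (D l) ∧ lam j ≠ lam l := by
  by_contra hcon
  push Not at hcon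
  obtain ⟨j₀, hj₀⟩ : ∃ j₀, w ∉ perpS Q (D j₀) := by
    by_contra h
    push Not at h
    exact hw0 (kld_eq_zero hQ c h)
  apply hzw (lam j₀)
  rw [← sub_eq_zero]
  apply kld_eq_zero hQ c
  intro l
  by_cases hl : w ∈ perpS Q (D l)
  · have h1 : z ∈ perpS Q (D l) := by
      have := Submodule.add_mem _ (hlam l) (Submodule.smul_mem _ (lam l) hl)
      rwa [sub_add_cancel] at this
    exact Submodule.sub_mem _ h1 (Submodule.smul_mem _ _ hl)
  · rw [hcon j₀ l hj₀ hl]
    exact hlam l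

/-- the vector `ζ_c` -/
def kldZeta (Q : QuadraticForm F (ι → F)) (w z : ι → F) (lj e : F) : ι → F :=
  e • z - (e * lj + e * e * Q z) • w

theorem kld_img (hQ : (QuadraticMap.polarBilin Q).Nondegenerate)
    {w z : ι → F} (hw : Q w = 0) {j : Fin t} {lj : F}
    (hlj : z - lj • w ∈ perpS Q (D j)) (e : F)
    (hd : QuadraticMap.polar (⇑Q) w (e • z) = 0) {x : ι → F} (hx : x ∈ D j) :
    ((eich hQ w (e • z) hw hd : Matrix.GeneralLinearGroup ι F) : Matrix ι ι F) *ᵥ x =
      x + QuadraticMap.polar (⇑Q) w x • kldZeta Q w z lj e := by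
  have h1 : QuadraticMap.polar (⇑Q) z x = lj * QuadraticMap.polar (⇑Q) w x := by
    have := (mem_perpS' (D j) _).1 hlj x hx
    rw [QuadraticMap.polar_sub_left, QuadraticMap.polar_smul_left, smul_eq_mul, sub_eq_zero] at this
    exact this
  rw [eich_mulVec, QuadraticMap.map_smul, QuadraticMap.polar_smul_left, h1]
  unfold kldZeta
  simp only [smul_eq_mul]
  module

theorem kld_zeta_polar {w z : ι → F} {j : Fin t} {lj : F}
    (hlj : z - lj • w ∈ perpS Q (D j)) (e : F) {d : ι → F} (hd : d ∈ D j) :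
    QuadraticMap.polar (⇑Q) d (kldZeta Q w z lj e) =
      -(e * e * Q z) * QuadraticMap.polar (⇑Q) d w := by
  have h1 : QuadraticMap.polar (⇑Q) d z = lj * QuadraticMap.polar (⇑Q) d w := by
    have := (mem_perpS (D j) _).1 hlj d hd
    rw [QuadraticMap.polar_sub_right, QuadraticMap.polar_smul_right, smul_eq_mul, sub_eq_zero] at this
    exact this
  unfold kldZeta
  rw [QuadraticMap.polar_sub_right, QuadraticMap.polar_smul_right, QuadraticMap.polar_smul_right,
    h1]
  simp only [smul_eq_mul]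
  ring

/-- **PK-KLD** (case (c)): reduction to case (b). -/
theorem pk_kld (hQ : (QuadraticMap.polarBilin Q).Nondegenerate)
    (c : Ctx Q k D M) {w z : ι → F} (hw : Q w = 0) (hwb : ∀ j, w ∉ D j)
    (hz : z ∈ XS hQ M w) (hzw : ∀ μ : F, z ≠ μ • w)
    (hc : ∀ l, ∃ lam : F, z - lam • w ∈ perpS Q (D l)) :
    ∃ (j : Fin t) (a b z' : ι → F), a ∈ D j ∧ b ∈ perpS Q (D j) ∧ a ≠ 0 ∧ b ≠ 0 ∧
      Q (a + b) = 0 ∧ z' ∈ XS hQ M (a + b) ∧ ∀ μ : F, z' - μ • (a + b) ∉ perpS Q (D j) := by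
  choose lam hlam using hc
  have ht : 0 < t := by have := c.hD.decomp.decomp.two_le; omega
  have hw0 : w ≠ 0 := by
    intro h
    apply hwb ⟨0, ht⟩
    rw [h]
    exact Submodule.zero_mem _
  obtain ⟨j, l, hwj, hwl, hjl⟩ := kld_stepA hQ c hw0 hzw lam hlam
  have hjl' : j ≠ l := by
    rintro rfl
    exact hjl rfl
  obtain ⟨hwz, hzM⟩ := (mem_XS hQ M hw z).1 hz
  -- the singular vector `u` and the nonsingular `x₁`
  obtain ⟨u, hu, hQu, huw⟩ := c.exists_sing_not_perp hQ j hwj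
  have hu0 : u ≠ 0 := by
    rintro rfl
    apply huw
    simp [QuadraticMap.polar]
  obtain ⟨x₁, hx₁, hux₁, hQx₁⟩ := c.exists_nonsing_perp hQ hu hu0 hQu
  obtain ⟨β, hβ⟩ : ∃ β : F, β = QuadraticMap.polar (⇑Q) w u := ⟨_, rfl⟩
  have hβ0 : β ≠ 0 := by
    rw [hβ, QuadraticMap.polar_comm]; exact huw
  have huw' : QuadraticMap.polar (⇑Q) u w = β := by rw [hβ, QuadraticMap.polar_comm]
  -- choice of the sign `e`
  obtain ⟨e, hee, hcoef⟩ : ∃ e : F, e * e = 1 ∧ e * lam l - e * lam j - e * e * Q z ≠ 0 := by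
    by_cases h1 : lam l - lam j - Q z ≠ 0
    · refine ⟨1, one_mul 1, ?_⟩
      rw [one_mul, one_mul, one_mul, one_mul]
      exact h1
    · push Not at h1
      refine ⟨-1, by ring, ?_⟩
      have h3 : Q z = lam l - lam j := by linear_combination -h1
      have h4 : (-1 : F) * lam l - -1 * lam j - -1 * -1 * Q z = -(2 * (lam l - lam j)) := by
        rw [h3]; ring
      rw [h4]
      apply neg_ne_zero.2
      apply mul_ne_zero c.h2
      intro h5
      apply hjl
      rw [sub_eq_zero] at h5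
      exact h5.symm
  have hd : QuadraticMap.polar (⇑Q) w (e • z) = 0 := by
    rw [QuadraticMap.polar_smul_right, hwz, smul_zero]
  have hyM := hzM e hd
  obtain ⟨ζ, hζ⟩ : ∃ ζ : ι → F, ζ = kldZeta Q w z (lam j) e := ⟨_, rfl⟩
  have himg : ∀ x ∈ D j, ((eich hQ w (e • z) hw hd : Matrix.GeneralLinearGroup ι F) :
      Matrix ι ι F) *ᵥ x = x + QuadraticMap.polar (⇑Q) w x • ζ := by
    intro x hx
    rw [hζ]
    exact kld_img hQ hw (hlam j) e hd hx
  have hζp : ∀ d ∈ D j, QuadraticMap.polar (⇑Q) d ζ = -(Q z) * QuadraticMap.polar (⇑Q) d w := by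
    intro d hd'
    rw [hζ, kld_zeta_polar (hlam j) e hd', hee, one_mul]
  -- `ζ ∉ D_j`
  have hζD : ζ ∉ D j := by
    intro h
    have h1 : ζ ∈ perpS Q (D l) := c.le_perp hjl' h
    have h2 : ζ = e • (z - lam l • w) + (e * lam l - e * lam j - e * e * Q z) • w := by
      rw [hζ]; unfold kldZeta; module
    have h3 : (e * lam l - e * lam j - e * e * Q z) • w ∈ perpS Q (D l) := by
      have h4 := Submodule.sub_mem _ h1 (Submodule.smul_mem _ e (hlam l))
      have h5 : ζ - e • (z - lam l • w) = (e * lam l - e * lam j - e * e * Q z) • w := by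
        rw [h2]; abel
      rwa [h5] at h4
    apply hwl
    have h6 := Submodule.smul_mem _ (e * lam l - e * lam j - e * e * Q z)⁻¹ h3
    rwa [smul_smul, inv_mul_cancel₀ hcoef, one_smul] at h6
  -- the new pair
  obtain ⟨w'', hw''⟩ : ∃ w'' : ι → F, w'' = u + β • ζ := ⟨_, rfl⟩
  have hyu : ((eich hQ w (e • z) hw hd : Matrix.GeneralLinearGroup ι F) : Matrix ι ι F) *ᵥ u =
      w'' := by
    rw [himg u hu, ← hβ, hw'']
  have hQw'' : Q w'' = 0 := by rw [← hyu, iso_Q]; exact hQu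
  obtain ⟨γ, hγ⟩ : ∃ γ : F, γ = QuadraticMap.polar (⇑Q) w x₁ := ⟨_, rfl⟩
  obtain ⟨z'', hz''⟩ : ∃ z'' : ι → F, z'' = x₁ + γ • ζ := ⟨_, rfl⟩
  have hyx : ((eich hQ w (e • z) hw hd : Matrix.GeneralLinearGroup ι F) : Matrix ι ι F) *ᵥ x₁ =
      z'' := by
    rw [himg x₁ hx₁, ← hγ, hz'']
  have hz''X : z'' ∈ XS hQ M w'' := by
    rw [← hyx, ← hyu]
    exact XS_map hQ hQu _ hyM (c.XS_blk hQ hu hx₁ hQu hux₁)
  -- polar of block vectors against `w''` and `z''`
  have hpw : ∀ d ∈ D j, QuadraticMap.polar (⇑Q) d w'' =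
      QuadraticMap.polar (⇑Q) d u - β * Q z * QuadraticMap.polar (⇑Q) d w := by
    intro d hd'
    rw [hw'', QuadraticMap.polar_add_right, QuadraticMap.polar_smul_right, hζp d hd', smul_eq_mul]
    ring
  have hw''p : w'' ∉ perpS Q (D j) := by
    intro h
    rw [mem_perpS] at h
    by_cases hQz : Q z = 0
    · obtain ⟨⟨d, hd', hdu⟩, -⟩ := c.hD.decomp.nondegenerate j u hu hu0
      apply hdu
      have := h d hd'
      rw [hpw d hd', hQz, mul_zero, zero_mul, sub_zero] at this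
      exact this
    · have := h u hu
      rw [hpw u hu, polar_self, hQu, mul_zero, zero_sub, huw'] at this
      have h7 : β * Q z * β ≠ 0 := mul_ne_zero (mul_ne_zero hβ0 hQz) hβ0
      exact h7 (neg_eq_zero.1 this)
  have hw''D : w'' ∉ D j := by
    intro h
    apply hζD
    have h1 : β • ζ ∈ D j := by
      have := (D j).sub_mem h hu
      rwa [hw'', add_sub_cancel_left] at this
    have h2 := (D j).smul_mem β⁻¹ h1
    rwa [smul_smul, inv_mul_cancel₀ hβ0, one_smul] at h2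
  obtain ⟨a, ha, b, hb, hab⟩ := (c.split j).sum w''
  have ha0 : a ≠ 0 := by
    rintro rfl
    rw [zero_add] at hab
    rw [hab] at hw''p
    exact hw''p hb
  have hb0 : b ≠ 0 := by
    rintro rfl
    rw [add_zero] at hab
    rw [hab] at hw''D
    exact hw''D ha
  refine ⟨j, a, b, z'', ha, hb, ha0, hb0, by rw [← hab]; exact hQw'', by rw [← hab]; exact hz''X,
    ?_⟩
  rw [← hab]
  intro μ hμ
  rw [mem_perpS] at hμ
  have hform : ∀ d ∈ D j, QuadraticMap.polar (⇑Q) d (z'' - μ • w'') =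
      QuadraticMap.polar (⇑Q) d (x₁ - μ • u) -
        (γ - μ * β) * Q z * QuadraticMap.polar (⇑Q) d w := by
    intro d hd'
    rw [hz'', hw'']
    simp only [QuadraticMap.polar_sub_right, QuadraticMap.polar_add_right,
      QuadraticMap.polar_smul_right, hζp d hd', smul_eq_mul]
    ring
  have h1 : (γ - μ * β) * Q z = 0 := by
    have := hμ u hu
    rw [hform u hu, QuadraticMap.polar_sub_right, QuadraticMap.polar_smul_right, hux₁, polar_self,
      hQu, huw'] at this
    simp only [smul_eq_mul, mul_zero, sub_zero, zero_sub, neg_eq_zero] at this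
    rcases mul_eq_zero.1 this with h | h
    · exact h
    · exact absurd h hβ0
  have h2 : x₁ - μ • u = 0 := by
    apply c.eq_zero_of_mem_of_perp hQ ((D j).sub_mem hx₁ ((D j).smul_mem μ hu))
    rw [mem_perpS]
    intro d hd'
    have := hμ d hd'
    rw [hform d hd', h1, zero_mul, sub_zero] at this
    exact this
  apply hQx₁
  rw [sub_eq_zero.1 h2, QuadraticMap.map_smul, hQu, smul_zero]

end Cfsg.Agent.Lib.Helper6.ODec
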