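import Mathlib
import Cfsg.Prelude
import Cfsg.Agent.Lib.Helper6.ODec0
import Cfsg.Agent.Lib.Helper6.ODec1
import Cfsg.Agent.Lib.Helper6.ODec_KLD
import Cfsg.Agent.Lib.Helper6.ODec_KLC3
import Cfsg.Agent.Lib.Helper9.ODec_KLC4
import Cfsg.Agent.Lib.Lead.ODec_PERM2
import Cfsg.Agent.Lib.Lead.ODec_KLB
import Cfsg.Agent.Lib.Helper2.ODec_KLCEND
import Cfsg.Agent.Lib.Helper3.ODec_CONN
import Cfsg.Agent.Lib.Helper1.ODec_PROPER
import Cfsg.Agent.Lib.Helper1.ODec_GOALC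
import Cfsg.Agent.Lib.Helper1.ODec_GOALB

set_option autoImplicit false

/-! # S5677: assembly of the general theorem from the packages. -/

namespace Cfsg.Agent.Lib.Helper6.ODec

open Matrix Module Cfsg.Agent.H9Orth Cfsg.Agent.Lib.Helper2.ReflGen Cfsg.Agent.Lib.Helper2.CDG
  Cfsg.Agent.Lib.Helper2.LongRoot

variable {F : Type*} [Field F] [Fintype F] {ι : Type} [Fintype ι] [DecidableEq ι]
variable {Q : QuadraticForm F (ι → F)} {t k : ℕ} {D : Fin t → Submodule F (ι → F)}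
  {M : Subgroup (Matrix.GeneralLinearGroup ι F)}

/-- KL-A (case (a)) -/
theorem main_kla (hQ : (QuadraticMap.polarBilin Q).Nondegenerate)
    (c : Ctx Q k D M) {w z : ι → F} (hw : Q w = 0) (hw0 : w ≠ 0) {l : Fin t}
    (hwl : w ∈ perpS Q (D l)) (hz : z ∈ XS hQ M w) (hzl : z ∉ perpS Q (D l)) : Key hQ M D := by
  have hle := c.ZC hQ hw hwl hz hzl
  obtain ⟨d, hd, hd0, hQd⟩ := c.exists_sing hQ l
  refine ⟨l, d, w, hd, hd0, hQd, XS_symm hQ hw hQd (hle hd), ?_⟩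
  intro hwD
  exact hw0 (c.eq_zero_of_mem_of_perp hQ hwD hwl)

/-- case (b) -/
theorem main_klbc (hQ : (QuadraticMap.polarBilin Q).Nondegenerate)
    (c : Ctx Q k D M) (hcase : k = 3 → 5 ≤ Fintype.card F) {j : Fin t} {a b z : ι → F}
    (ha : a ∈ D j) (hb : b ∈ perpS Q (D j)) (ha0 : a ≠ 0) (hb0 : b ≠ 0)
    (hQw : Q (a + b) = 0) (hz : z ∈ XS hQ M (a + b))
    (hzj : ∀ μ : F, z - μ • (a + b) ∉ perpS Q (D j)) : Key hQ M D := by
  by_cases hQa : Q a = 0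
  · exact pk_klb hQ c ha hb ha0 hb0 hQa hQw hz hzj
  · apply pk_klcend hQ c ha hb hb0 hQa hQw
    by_cases hk4 : 4 ≤ k
    · exact pk_klc4 hQ c hk4 ha hb hQa hQw hz hzj
    · have hk3 : k = 3 := by have := c.hk; omega
      exact pk_klc3 hQ c hk3 (hcase hk3) ha hb hQa hQw hz hzj

/-- the KEY LEMMA -/
theorem main_key (hQ : (QuadraticMap.polarBilin Q).Nondegenerate)
    (c : Ctx Q k D M) (hcase : k = 3 → 5 ≤ Fintype.card F) (g : ↥(Cfsg.isometryGroup F ⇑Q))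
    (hgM : (g : Matrix.GeneralLinearGroup ι F) ∈ M)
    (hg : (g : Matrix.GeneralLinearGroup ι F) ∉ Cfsg.Geo.decompositionStabilizer D) :
    Key hQ M D := by
  obtain ⟨i, u₀, hu₀, hu₀0, hQu₀, hno⟩ := pk_conn hQ c g hg
  obtain ⟨d, hd, hu₀d, hQd⟩ := c.exists_nonsing_perp hQ hu₀ hu₀0 hQu₀
  obtain ⟨w, hwdef⟩ : ∃ w : ι → F,
    w = ((g : Matrix.GeneralLinearGroup ι F) : Matrix ι ι F) *ᵥ u₀ := ⟨_, rfl⟩
  obtain ⟨z, hzdef⟩ : ∃ z : ι → F,
    z = ((g : Matrix.GeneralLinearGroup ι F) : Matrix ι ι F) *ᵥ d := ⟨_, rfl⟩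
  have hw : Q w = 0 := by rw [hwdef, iso_Q]; exact hQu₀
  have hQz : Q z ≠ 0 := by rw [hzdef, iso_Q]; exact hQd
  have hz : z ∈ XS hQ M w := by
    rw [hwdef, hzdef]
    exact XS_map hQ hQu₀ g hgM (c.XS_blk hQ hu₀ hd hQu₀ hu₀d)
  rw [← hwdef] at hno
  have hzw : ∀ μ : F, z ≠ μ • w := by
    intro μ h
    apply hQz
    rw [h, QuadraticMap.map_smul, hw, smul_zero]
  have hw0 : w ≠ 0 := by
    intro h
    apply hno i
    rw [h]
    exact (D i).zero_mem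
  by_cases hc : ∀ l, ∃ lam : F, z - lam • w ∈ perpS Q (D l)
  · obtain ⟨j, a, b, z', ha, hb, ha0, hb0, hQw, hz', hzj⟩ := pk_kld hQ c hw hno hz hzw hc
    exact main_klbc hQ c hcase ha hb ha0 hb0 hQw hz' hzj
  · push Not at hc
    obtain ⟨j, hj⟩ := hc
    by_cases hwj : w ∈ perpS Q (D j)
    · apply main_kla hQ c hw hw0 hwj hz
      have := hj 0
      rwa [zero_smul, sub_zero] at this
    · obtain ⟨a, ha, b, hb, hab⟩ := (c.split j).sum w
      have ha0 : a ≠ 0 := by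
        rintro rfl
        rw [zero_add] at hab
        rw [hab] at hwj
        exact hwj hb
      have hb0 : b ≠ 0 := by
        rintro rfl
        rw [add_zero] at hab
        apply hno j
        rw [hab]
        exact ha
      rw [hab] at hw hz hj
      exact main_klbc hQ c hcase ha hb ha0 hb0 hw hz hj

/-- **General theorem**: the stabiliser of an isometric orthogonal decomposition into blocks of
dimension `k ≥ 3` is maximal in `Ω` (`q` odd; `q ≥ 5` if `k = 3`). -/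
theorem decomp_stab_maximal (hQ : (QuadraticMap.polarBilin Q).Nondegenerate)
    (h2 : (2 : F) ≠ 0) (hn : 7 ≤ Fintype.card ι) (hk : 3 ≤ k)
    (hD : Cfsg.Geo.IsOrthogonalMDecomposition (⇑Q) k D)
    (hcase : k = 3 → 5 ≤ Fintype.card F) :
    Cfsg.Geo.IsMaximalIn (Cfsg.Geo.omegaGL ⇑Q)
      (Cfsg.Geo.decompositionStabilizer D ⊓ Cfsg.Geo.omegaGL ⇑Q) := by
  constructor
  · apply lt_of_le_of_ne inf_le_right
    intro heq
    have c0 : Ctx Q k D (Cfsg.Geo.decompositionStabilizer D ⊓ Cfsg.Geo.omegaGL ⇑Q) :=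
      ⟨h2, hn, hk, hD, le_refl _⟩
    obtain ⟨g, hgΩ, hgS⟩ := pk_proper hQ c0
    rw [← heq] at hgΩ
    exact hgS (Subgroup.mem_inf.1 hgΩ).1
  · intro M hHM hMΩ
    by_cases hMH : M = Cfsg.Geo.decompositionStabilizer D ⊓ Cfsg.Geo.omegaGL ⇑Q
    · left; exact hMH
    · right
      apply le_antisymm hMΩ
      have c : Ctx Q k D M := ⟨h2, hn, hk, hD, hHM⟩
      obtain ⟨g, hgM, hgH⟩ := SetLike.exists_of_lt (lt_of_le_of_ne hHM (Ne.symm hMH))
      have hgΩ := hMΩ hgM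
      have hgS : g ∉ Cfsg.Geo.decompositionStabilizer D := by
        intro h
        exact hgH (Subgroup.mem_inf.2 ⟨h, hgΩ⟩)
      obtain ⟨γ, rfl⟩ := exists_iso_of_mem_omegaGL hgΩ
      have hkey := main_key hQ c hcase γ hgM hgS
      obtain ⟨j, u, hu, hu0, hQu, hF⟩ := pk_goalb hQ c hkey
      exact pk_goalc hQ c hu hu0 hQu hF

end Cfsg.Agent.Lib.Helper6.ODec
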