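import Mathlib
import Cfsg.Prelude.Def_GeometricClasses
import Cfsg.Prelude.Def_Classical

set_option autoImplicit false

/-! Similitudes of quadratic maps on `F^n` and similarity of quadratic maps (definitions for the
orthogonal-type subgroups of `SL_n(q)`). -/

namespace Cfsg.Agent.Lib.Helper6.OSim

section defs
variable {F : Type*} [Field F] {n : ℕ}

/-- `t` is a similitude of the quadratic map `Q` with multiplier `μ`. -/
def QSim (Q : (Fin n → F) → F) (t : (Fin n → F) →ₗ[F] (Fin n → F)) (μ : F) : Prop :=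
  ∀ v, Q (t v) = μ * Q v

/-- `Q'` is similar to `Q`: `Q' v = c * Q (e v)` for a linear equivalence `e` and `c ≠ 0`. -/
def Similar (Q' Q : (Fin n → F) → F) : Prop :=
  ∃ (c : F) (e : (Fin n → F) ≃ₗ[F] (Fin n → F)), c ≠ 0 ∧ ∀ v, Q' v = c * Q (e v)

end defs

end Cfsg.Agent.Lib.Helper6.OSim
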