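import Mathlib
import Cfsg.Agent.Lib.Helper6.OSim0
import Cfsg.Agent.Lib.Helper4.SimU1

set_option autoImplicit false
set_option linter.unusedSectionVars false

/-!
PK-ADJ: for a similitude `t` of a nondegenerate quadratic map with multiplier `μ`, the eigenspaces
for `lam` and `μ / lam` have the same dimension.
-/

namespace Cfsg.Agent.Lib.Helper6.OSim

open Module Cfsg.Geo Cfsg.Agent.Lib.Helper4.SimU Cfsg.Agent.Lib.Helper5.PSLCoset

section adj
variable {F : Type*} [Field F] [Fintype F] {n : ℕ}

theorem isHerm_polar (Q' : (Fin n → F) → F) (hQ' : IsNondegenerateQuadraticForm Q') :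
    IsHerm (RingEquiv.refl F) (QuadraticMap.polar Q') where
  add_left := fun u v w => hQ'.polar_bilinear.add_left u v w
  smul_left := fun a v w => hQ'.polar_bilinear.smul_left a v w
  symm := fun v w => by
    rw [RingEquiv.refl_apply]
    exact QuadraticMap.polar_comm Q' w v

theorem nondeg_polar (Q' : (Fin n → F) → F) (hQ' : IsNondegenerateQuadraticForm Q') :
    Nondeg (QuadraticMap.polar Q') := fun v hv => (hQ'.nondegenerate v hv).2

theorem isSim_polar (Q' : (Fin n → F) → F) (t : (Fin n → F) →ₗ[F] (Fin n → F)) (μ : F)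
    (ht : QSim Q' t μ) : IsSim (QuadraticMap.polar Q') t μ := by
  intro u v
  simp only [QuadraticMap.polar]
  rw [← map_add, ht, ht, ht]
  ring

theorem finrank_eigenspace_qsim (h2 : (2 : F) ≠ 0) (Q' : (Fin n → F) → F)
    (hQ' : IsNondegenerateQuadraticForm Q') (t : (Fin n → F) →ₗ[F] (Fin n → F)) (μ : F)
    (hμ : μ ≠ 0) (ht : QSim Q' t μ) (lam : F) (hlam : lam ≠ 0) :
    finrank F (Module.End.eigenspace t lam) = finrank F (Module.End.eigenspace t (μ / lam)) := by
  classical
  have _ := h2
  have hH := isHerm_polar Q' hQ'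
  have hnd := nondeg_polar Q' hQ'
  have hsim := isSim_polar Q' t μ ht
  -- `t` is injective
  have hinj : Function.Injective t := by
    rw [← LinearMap.ker_eq_bot, LinearMap.ker_eq_bot']
    intro v hv
    by_contra hv0
    obtain ⟨w, hw⟩ := hnd v hv0
    have := hsim v w
    rw [hv, hH.zero_left] at this
    exact hw ((mul_eq_zero.mp this.symm).resolve_left hμ)
  set e : (Fin n → F) ≃ₗ[F] (Fin n → F) := LinearEquiv.ofInjectiveEndo t hinj with he
  have hte : ∀ v, t (e.symm v) = v := by
    intro v
    have : e (e.symm v) = v := e.apply_symm_apply v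
    rwa [he, LinearEquiv.coe_ofInjectiveEndo] at this
  set t' : (Fin n → F) →ₗ[F] (Fin n → F) := (e.symm : (Fin n → F) →ₗ[F] (Fin n → F)) with ht'
  have htt' : ∀ v, t (t' v) = v := hte
  have hadj : ∀ u v, QuadraticMap.polar Q' (t u) v =
      QuadraticMap.polar Q' u (((RingEquiv.refl F) μ • t') v) :=
    fun u v => IsSim.adjoint (σ := RingEquiv.refl F) (fun a => rfl) hH hsim htt' u v
  rw [RingEquiv.refl_apply] at hadj
  set A : (Fin n → F) →ₗ[F] (Fin n → F) := t - lam • 1 with hA
  set B : (Fin n → F) →ₗ[F] (Fin n → F) := μ • t' - lam • 1 with hB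
  have hAB : ∀ u v, QuadraticMap.polar Q' (A u) v = QuadraticMap.polar Q' u (B v) := by
    intro u v
    rw [hA, hB, LinearMap.sub_apply, LinearMap.sub_apply, hH.sub_left, hH.sub_right, hadj,
      LinearMap.smul_apply lam, LinearMap.smul_apply lam, Module.End.one_apply, Module.End.one_apply,
      hH.smul_left, hH.smul_right, RingEquiv.refl_apply]
  have hker := finrank_ker_eq_of_adjoint hH hnd A B hAB
  have h1 : Module.End.eigenspace t lam = LinearMap.ker A := by
    rw [Module.End.eigenspace_def]
  have h3 : Module.End.eigenspace t (μ / lam) = LinearMap.ker B := by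
    ext v
    rw [Module.End.mem_eigenspace_iff, LinearMap.mem_ker, hB, LinearMap.sub_apply,
      LinearMap.smul_apply, LinearMap.smul_apply, Module.End.one_apply, sub_eq_zero]
    constructor
    · intro hv
      apply hinj
      rw [map_smul, htt', map_smul, hv, smul_smul, mul_div_cancel₀ _ hlam]
    · intro hv
      have h4 := congrArg t hv
      rw [map_smul, htt', map_smul] at h4
      rw [div_eq_inv_mul, mul_smul, h4, smul_smul, inv_mul_cancel₀ hlam, one_smul]
  rw [h1, h3, hker]

end adj

end Cfsg.Agent.Lib.Helper6.OSim
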