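import Mathlib
import Cfsg.Agent.Lib.Helper6.OSim0

set_option autoImplicit false
set_option linter.unusedSectionVars false

/-!
PK-BR: the two bridges between conjugacy into `quadSimilarityGroup Q` and similitudes of quadratic
maps similar to `Q`.
-/

namespace Cfsg.Agent.Lib.Helper6.OSim

open Module Cfsg.Geo
open scoped Matrix

section br
variable {F : Type*} [Field F] {n : ℕ}

local notation "Mat" => Matrix (Fin n) (Fin n) F

/-- Transport of nondegenerate quadratic maps along a linear equivalence and a nonzero scalar. -/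
theorem nondeg_comp (Q : (Fin n → F) → F) (hQ : IsNondegenerateQuadraticForm Q) (c : F)
    (hc : c ≠ 0) (e : (Fin n → F) ≃ₗ[F] (Fin n → F)) :
    IsNondegenerateQuadraticForm (fun v => c * Q (e v)) := by
  have hpol : ∀ u v, QuadraticMap.polar (fun v => c * Q (e v)) u v =
      c * QuadraticMap.polar Q (e u) (e v) := by
    intro u v
    simp only [QuadraticMap.polar, map_add]
    ring
  refine ⟨?_, ⟨?_, ?_, ?_, ?_⟩, ?_⟩
  · intro a v
    rw [map_smul, hQ.smul]
    ring
  · intro x y v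
    rw [hpol, hpol, hpol, map_add, hQ.polar_bilinear.add_left]
    ring
  · intro a x v
    rw [hpol, hpol, map_smul, hQ.polar_bilinear.smul_left]
    ring
  · intro v x y
    rw [hpol, hpol, hpol, map_add, hQ.polar_bilinear.add_right]
    ring
  · intro a v x
    rw [hpol, hpol, map_smul, hQ.polar_bilinear.smul_right]
    ring
  · intro v hv
    have hev : e v ≠ 0 := by
      intro h
      exact hv (e.map_eq_zero_iff.mp h)
    obtain ⟨⟨x, hx⟩, ⟨y, hy⟩⟩ := hQ.nondegenerate (e v) hev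
    refine ⟨⟨e.symm x, ?_⟩, ⟨e.symm y, ?_⟩⟩
    · rw [hpol, LinearEquiv.apply_symm_apply]
      exact mul_ne_zero hc hx
    · rw [hpol, LinearEquiv.apply_symm_apply]
      exact mul_ne_zero hc hy

/-- The linear equivalence of an invertible matrix. -/
noncomputable def glEquiv (g : GL (Fin n) F) : (Fin n → F) ≃ₗ[F] (Fin n → F) :=
  LinearEquiv.ofLinearMap (Matrix.toLin' (g : Mat)) (Matrix.toLin' ((g⁻¹ : GL (Fin n) F) : Mat))
    (by rw [← Matrix.toLin'_mul, ← Units.val_mul, mul_inv_cancel, Units.val_one,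
      Matrix.toLin'_one])
    (by rw [← Matrix.toLin'_mul, ← Units.val_mul, inv_mul_cancel, Units.val_one,
      Matrix.toLin'_one])

theorem glEquiv_apply (g : GL (Fin n) F) (v : Fin n → F) : glEquiv g v = (g : Mat) *ᵥ v := by
  simp [glEquiv]

/-- PK-BR (a) -/
theorem exists_qsim_of_conj_mem (Q : (Fin n → F) → F) (hQ : IsNondegenerateQuadraticForm Q)
    (x g : GL (Fin n) F) (h : g⁻¹ * x * g ∈ quadSimilarityGroup Q) :
    ∃ (Q' : (Fin n → F) → F) (μ : F), μ ≠ 0 ∧ IsNondegenerateQuadraticForm Q' ∧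
      QSim Q' (Matrix.toLin' (x : Matrix (Fin n) (Fin n) F)) μ ∧
      Nat.card {v : Fin n → F // Q' v = 0} = Nat.card {v : Fin n → F // Q v = 0} := by
  obtain ⟨c, hc⟩ := h
  refine ⟨fun v => 1 * Q (glEquiv g⁻¹ v), (c : F), c.ne_zero,
    nondeg_comp Q hQ 1 one_ne_zero (glEquiv g⁻¹), ?_, ?_⟩
  · intro v
    simp only [one_mul]
    rw [glEquiv_apply, glEquiv_apply, Matrix.toLin'_apply]
    have h1 := hc (((g⁻¹ : GL (Fin n) F) : Mat) *ᵥ v)
    rw [← h1, Matrix.mulVec_mulVec, Matrix.mulVec_mulVec, ← Units.val_mul, ← Units.val_mul]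
    congr 3
    group
  · apply Nat.card_congr
    refine ⟨fun v => ⟨glEquiv g⁻¹ v.1, by simpa using v.2⟩,
      fun u => ⟨(glEquiv g⁻¹).symm u.1, by simpa using u.2⟩, ?_, ?_⟩
    · intro v
      apply Subtype.ext
      exact (glEquiv g⁻¹).symm_apply_apply v.1
    · intro u
      apply Subtype.ext
      exact (glEquiv g⁻¹).apply_symm_apply u.1

/-- PK-BR (b) -/
theorem conj_mem_of_qsim (hn : 1 ≤ n) (Q Q' : (Fin n → F) → F) (hsim : Similar Q' Q)
    (x : GL (Fin n) F) (hx : x ∈ specialLinear (Fin n) F) (μ : F) (hμ : μ ≠ 0)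
    (hq : QSim Q' (Matrix.toLin' (x : Matrix (Fin n) (Fin n) F)) μ)
    (hcent : ∀ δ : F, δ ≠ 0 → ∃ c : (Fin n → F) →ₗ[F] (Fin n → F), LinearMap.det c = δ ∧
      ∀ v, c (Matrix.toLin' (x : Matrix (Fin n) (Fin n) F) v) =
        Matrix.toLin' (x : Matrix (Fin n) (Fin n) F) (c v)) :
    ∃ g ∈ specialLinear (Fin n) F, g⁻¹ * x * g ∈ quadSimilarityGroup Q := by
  classical
  obtain ⟨c, e, hc, he⟩ := hsim
  -- the matrix of `e.symm`
  set A : Mat := LinearMap.toMatrix' (e.symm : (Fin n → F) →ₗ[F] (Fin n → F)) with hA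
  set A' : Mat := LinearMap.toMatrix' (e : (Fin n → F) →ₗ[F] (Fin n → F)) with hA'
  have hAA' : A * A' = 1 := by
    rw [hA, hA', ← LinearMap.toMatrix'_comp]
    have : (e.symm : (Fin n → F) →ₗ[F] (Fin n → F)) ∘ₗ (e : (Fin n → F) →ₗ[F] (Fin n → F)) =
        LinearMap.id := by
      ext v
      simp
    rw [this, LinearMap.toMatrix'_id]
  have hA'A : A' * A = 1 := by
    rw [hA, hA', ← LinearMap.toMatrix'_comp]
    have : (e : (Fin n → F) →ₗ[F] (Fin n → F)) ∘ₗ (e.symm : (Fin n → F) →ₗ[F] (Fin n → F)) =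
        LinearMap.id := by
      ext v
      simp
    rw [this, LinearMap.toMatrix'_id]
  have hdetA : A.det ≠ 0 := by
    intro h0
    have := congrArg Matrix.det hAA'
    rw [Matrix.det_mul, h0, zero_mul, Matrix.det_one] at this
    exact zero_ne_one this
  obtain ⟨cc, hccdet, hcc⟩ := hcent (A.det)⁻¹ (inv_ne_zero hdetA)
  set C : Mat := LinearMap.toMatrix' cc with hC
  have hCdet : C.det = (A.det)⁻¹ := by
    rw [hC, LinearMap.det_toMatrix', hccdet]
  have hCx : C * (x : Mat) = (x : Mat) * C := by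
    apply Matrix.toLin'.injective
    rw [Matrix.toLin'_mul, Matrix.toLin'_mul, hC, Matrix.toLin'_toMatrix']
    apply LinearMap.ext
    intro v
    exact hcc v
  have hdetCA : (C * A).det = 1 := by
    rw [Matrix.det_mul, hCdet, inv_mul_cancel₀ hdetA]
  set g : GL (Fin n) F := Matrix.GeneralLinearGroup.mk'' (C * A) (by rw [hdetCA]; exact isUnit_one)
    with hg
  have hgval : (g : Mat) = C * A := rfl
  refine ⟨g, ?_, ?_⟩
  · unfold specialLinear
    rw [MonoidHom.mem_ker]
    apply Units.ext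
    rw [Matrix.GeneralLinearGroup.val_det_apply, hgval, hdetCA, Units.val_one]
  · refine ⟨Units.mk0 μ hμ, ?_⟩
    intro v
    rw [Units.val_mk0]
    have hQA : ∀ w, Q w = c⁻¹ * Q' (A *ᵥ w) := by
      intro w
      rw [he, hA, ← Matrix.toLin'_apply, Matrix.toLin'_toMatrix']
      simp only [LinearEquiv.coe_coe, LinearEquiv.apply_symm_apply]
      rw [← mul_assoc, inv_mul_cancel₀ hc, one_mul]
    have hginv : ((g⁻¹ : GL (Fin n) F) : Mat) * (C * A) = 1 := by
      rw [← hgval, ← Units.val_mul, inv_mul_cancel, Units.val_one]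
    have hconj : ((g⁻¹ * x * g : GL (Fin n) F) : Mat) = A' * (x : Mat) * A := by
      have e1 : (x : Mat) * (C * A) = (C * A) * (A' * (x : Mat) * A) := by
        calc (x : Mat) * (C * A) = ((x : Mat) * C) * A := by rw [Matrix.mul_assoc]
          _ = (C * (x : Mat)) * A := by rw [hCx]
          _ = C * (A * A') * (x : Mat) * A := by rw [hAA', Matrix.mul_one]
          _ = (C * A) * (A' * (x : Mat) * A) := by simp only [Matrix.mul_assoc]
      calc ((g⁻¹ * x * g : GL (Fin n) F) : Mat)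
          = ((g⁻¹ : GL (Fin n) F) : Mat) * ((x : Mat) * (C * A)) := by
            rw [Units.val_mul, Units.val_mul, hgval, Matrix.mul_assoc]
        _ = ((g⁻¹ : GL (Fin n) F) : Mat) * ((C * A) * (A' * (x : Mat) * A)) := by rw [e1]
        _ = A' * (x : Mat) * A := by rw [← Matrix.mul_assoc, hginv, Matrix.one_mul]
    rw [hconj, hQA, hQA v, ← Matrix.mulVec_mulVec, ← Matrix.mulVec_mulVec, Matrix.mulVec_mulVec _ A A',
      hAA', Matrix.one_mulVec]
    have h2 := hq (A *ᵥ v)
    rw [Matrix.toLin'_apply] at h2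
    rw [h2]
    ring

end br

end Cfsg.Agent.Lib.Helper6.OSim
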