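import Mathlib
import Cfsg.Agent.Lib.Helper6.SubF_Crit

set_option autoImplicit false
set_option linter.unusedSectionVars false

/-!
Diagonal elements of `SL_n(F)` with eigenvalues `c * ω ^ t`, `t : ZMod r`, with prescribed
multiplicities, and the Frobenius criterion for them: if all elements of order `r` modulo scalars
are conjugate into the subfield subgroup, the multiplicity function is invariant under an affine
map `t ↦ Q * t + s` of `ZMod r`.
-/

namespace Cfsg.Agent.Lib.Helper6.SubF

open Module Cfsg.Agent.Lib.Helper9.H9GReal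
open scoped Matrix

section diag
variable {F : Type*} [Field F] {n : ℕ}

/-- Eigenspaces of a diagonal matrix. -/
theorem finrank_eigenspace_diagonal (f : Fin n → F) (μ : F)
    [DecidablePred fun j => f j = μ] :
    finrank F (Module.End.eigenspace (Matrix.toLin' (Matrix.diagonal f)) μ) =
      (Finset.univ.filter fun j => f j = μ).card := by
  classical
  have h1 : Matrix.toLin' (Matrix.diagonal f) - μ • (1 : (Fin n → F) →ₗ[F] (Fin n → F)) =
      Matrix.toLin' (Matrix.diagonal (fun j => f j - μ)) := by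
    apply LinearMap.ext
    intro v
    funext i
    simp [Matrix.toLin'_apply, Matrix.mulVec_diagonal, sub_mul]
  rw [Module.End.eigenspace_def, h1]
  have h2 := LinearMap.finrank_range_add_finrank_ker
    (Matrix.toLin' (Matrix.diagonal (fun j => f j - μ)))
  have h3 : finrank F (LinearMap.range (Matrix.toLin' (Matrix.diagonal (fun j => f j - μ)))) =
      Fintype.card {j // f j - μ ≠ 0} := by
    rw [← Matrix.rank_diagonal (fun j => f j - μ)]
    rfl
  rw [h3, Module.finrank_fin_fun] at h2
  have h4 : Fintype.card {j // f j - μ ≠ 0} + (Finset.univ.filter fun j => f j = μ).card = n := by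
    have h5 := Finset.card_filter_add_card_filter_not (s := (Finset.univ : Finset (Fin n)))
      (fun j => f j = μ)
    rw [Finset.card_univ, Fintype.card_fin] at h5
    have h6 : Fintype.card {j // f j - μ ≠ 0} =
        (Finset.univ.filter fun j : Fin n => ¬ f j = μ).card := by
      rw [Fintype.card_subtype]
      congr 1
      ext j
      simp [sub_eq_zero]
    rw [h6]
    omega
  omega

end diag

section omegaz
variable {F : Type*} [Field F] {r : ℕ} [NeZero r]

/-- Powers of a root of unity indexed by `ZMod r`. -/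
def wz (ω : F) (t : ZMod r) : F := ω ^ t.val

theorem wz_natCast (ω : F) (hω : ω ^ r = 1) (m : ℕ) : wz ω ((m : ℕ) : ZMod r) = ω ^ m := by
  rw [wz, ZMod.val_natCast, ← pow_eq_pow_mod m hω]

theorem wz_add (ω : F) (hω : ω ^ r = 1) (s t : ZMod r) : wz ω (s + t) = wz ω s * wz ω t := by
  rw [wz, wz, wz, ZMod.val_add, ← pow_eq_pow_mod _ hω, pow_add]

theorem wz_zero (ω : F) : wz ω (0 : ZMod r) = 1 := by
  rw [wz, ZMod.val_zero, pow_zero]

theorem wz_pow (ω : F) (hω : ω ^ r = 1) (t : ZMod r) : wz ω t ^ r = 1 := by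
  rw [wz, ← pow_mul, mul_comm, pow_mul, hω, one_pow]

theorem wz_natCast_mul (ω : F) (hω : ω ^ r = 1) (Q : ℕ) (t : ZMod r) :
    wz ω ((Q : ZMod r) * t) = wz ω t ^ Q := by
  conv_lhs => rw [← ZMod.natCast_zmod_val t, ← Nat.cast_mul, wz_natCast ω hω]
  rw [wz, ← pow_mul, mul_comm]

theorem wz_ne_zero (ω : F) (hω : ω ^ r = 1) (t : ZMod r) : wz ω t ≠ 0 := by
  intro h
  have := wz_pow ω hω t
  rw [h, zero_pow (NeZero.ne r)] at this
  exact zero_ne_one this

theorem wz_injective (ω : F) (hω : IsPrimitiveRoot ω r) : Function.Injective (wz (r := r) ω) := by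
  intro s t hst
  apply ZMod.val_injective r
  exact hω.pow_inj (ZMod.val_lt s) (ZMod.val_lt t) hst

end omegaz

section mult
variable {r : ℕ} [NeZero r]

/-- A function on `Fin n` with prescribed multiplicities. -/
theorem exists_fun_with_mult {n : ℕ} (M : ZMod r → ℕ) (hM : ∑ t, M t = n) :
    ∃ a : Fin n → ZMod r, ∀ t, (Finset.univ.filter fun j => a j = t).card = M t := by
  classical
  have hcard : Fintype.card (Σ t : ZMod r, Fin (M t)) = n := by
    rw [Fintype.card_sigma]
    simp [hM]
  let e : (Σ t : ZMod r, Fin (M t)) ≃ Fin n := Fintype.equivFinOfCardEq hcard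
  refine ⟨fun j => (e.symm j).1, ?_⟩
  intro t
  have h1 : (Finset.univ.filter fun j : Fin n => (e.symm j).1 = t).card =
      Fintype.card {x : Σ t : ZMod r, Fin (M t) // x.1 = t} := by
    rw [Fintype.card_subtype]
    apply Finset.card_bij (fun j _ => e.symm j)
    · intro j hj
      simpa using hj
    · intro j _ j' _ h
      exact e.symm.injective h
    · intro x hx
      refine ⟨e x, ?_, by simp⟩
      simpa using hx
  rw [h1, Fintype.card_congr (Equiv.sigmaSubtype t)]
  simp

end mult

section crit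
variable {F : Type*} [Field F] [Fintype F] {p : ℕ} [Fact p.Prime] [CharP F p] {n : ℕ}

local notation "Mat" => Matrix (Fin n) (Fin n) F

theorem mult_crit (F₀ : Subfield F) (Q e : ℕ) (hF₀ : Nat.card F₀ = Q) (hQ : Q = p ^ e)
    (r : ℕ) [NeZero r] (ω : F) (hω : IsPrimitiveRoot ω r)
    (hL : ∀ x : Matrix.SpecialLinearGroup (Fin n) F,
      (∃ z : F, ((x ^ r : Matrix.SpecialLinearGroup (Fin n) F) : Mat) = z • (1 : Mat)) →
      (∀ z : F, (x : Mat) ≠ z • (1 : Mat)) →
      ∃ P : Matrix.SpecialLinearGroup (Fin n) F,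
        P⁻¹ * x * P ∈ (Cfsg.Geo.subfieldSubgroup F₀ (1 : GL (Fin n) F)).comap
          (Matrix.SpecialLinearGroup.toGL : Matrix.SpecialLinearGroup (Fin n) F →* GL (Fin n) F))
    (c : F) (hc : c ≠ 0) (M : ZMod r → ℕ) (hM : ∑ t, M t = n)
    (hdet : ∏ t, (c * wz ω t) ^ M t = 1)
    (t₁ t₂ : ZMod r) (h12 : t₁ ≠ t₂) (h1 : 0 < M t₁) (h2 : 0 < M t₂) :
    ∃ s : ZMod r, ∀ t, M t = M ((Q : ZMod r) * t + s) := by
  classical
  have hωr : ω ^ r = 1 := hω.pow_eq_one
  obtain ⟨a, ha⟩ := exists_fun_with_mult M hM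
  set f : Fin n → F := fun j => c * wz ω (a j) with hf
  have hdetf : ∏ j, f j = 1 := by
    rw [← hdet, ← Finset.prod_fiberwise_of_maps_to (s := Finset.univ) (t := Finset.univ)
      (g := a) (fun _ _ => Finset.mem_univ _) f]
    apply Finset.prod_congr rfl
    intro t _
    rw [← ha t, ← Finset.prod_const]
    apply Finset.prod_congr rfl
    intro j hj
    rw [Finset.mem_filter] at hj
    rw [hf]
    simp only
    rw [hj.2]
  let x : Matrix.SpecialLinearGroup (Fin n) F :=
    ⟨Matrix.diagonal f, by rw [Matrix.det_diagonal, hdetf]⟩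
  have hx : (x : Mat) = Matrix.diagonal f := rfl
  have hfr : ∀ j, f j ^ r = c ^ r := by
    intro j
    rw [hf]
    simp only
    rw [mul_pow, wz_pow ω hωr, mul_one]
  obtain ⟨j₁, hj₁⟩ : ∃ j, a j = t₁ := by
    have : 0 < (Finset.univ.filter fun j => a j = t₁).card := by rw [ha]; exact h1
    obtain ⟨j, hj⟩ := Finset.card_pos.mp this
    exact ⟨j, (Finset.mem_filter.mp hj).2⟩
  obtain ⟨j₂, hj₂⟩ : ∃ j, a j = t₂ := by
    have : 0 < (Finset.univ.filter fun j => a j = t₂).card := by rw [ha]; exact h2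
    obtain ⟨j, hj⟩ := Finset.card_pos.mp this
    exact ⟨j, (Finset.mem_filter.mp hj).2⟩
  obtain ⟨P, hP⟩ := hL x
    ⟨c ^ r, by
      rw [Matrix.SpecialLinearGroup.coe_pow, hx, Matrix.diagonal_pow, Matrix.smul_one_eq_diagonal]
      congr 1
      funext j
      exact hfr j⟩
    (by
      intro z hz
      rw [hx, Matrix.smul_one_eq_diagonal] at hz
      have h3 := Matrix.diagonal_injective hz
      have h4 : f j₁ = f j₂ := by rw [h3]
      rw [hf] at h4
      simp only at h4
      have h5 := wz_injective ω hω (mul_left_cancel₀ hc h4)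
      rw [hj₁, hj₂] at h5
      exact h12 h5)
  obtain ⟨w, hw0, hw⟩ := eigen_crit F₀ Q e hF₀ hQ x P hP
  have hN : ∀ μ : F, (Finset.univ.filter fun j => f j = μ).card =
      (Finset.univ.filter fun j => f j = μ ^ Q * w).card := by
    intro μ
    rw [← finrank_eigenspace_diagonal, ← finrank_eigenspace_diagonal, ← hx]
    exact hw μ
  have hNt : ∀ t : ZMod r, (Finset.univ.filter fun j => f j = c * wz ω t).card = M t := by
    intro t
    rw [← ha t]
    congr 1
    ext j
    simp only [Finset.mem_filter, Finset.mem_univ, true_and, hf]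
    constructor
    · intro h
      exact wz_injective ω hω (mul_left_cancel₀ hc h)
    · intro h
      rw [h]
  -- find `s`
  have h3 : 0 < (Finset.univ.filter fun j => f j = (f j₁) ^ Q * w).card := by
    rw [← hN]
    apply Finset.card_pos.mpr
    exact ⟨j₁, by simp⟩
  obtain ⟨j', hj'⟩ := Finset.card_pos.mp h3
  rw [Finset.mem_filter] at hj'
  have hj'2 := hj'.2
  set s : ZMod r := a j' - (Q : ZMod r) * t₁ with hs
  have hkey : c ^ Q * w = c * wz ω s := by
    have h4 : a j' = s + (Q : ZMod r) * t₁ := by rw [hs]; ring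
    rw [hf] at hj'2
    simp only at hj'2
    rw [hj₁, h4, wz_add ω hωr, wz_natCast_mul ω hωr, mul_pow] at hj'2
    have h5 : wz ω t₁ ^ Q ≠ 0 := pow_ne_zero _ (wz_ne_zero ω hωr t₁)
    apply mul_right_cancel₀ h5
    calc c ^ Q * w * wz ω t₁ ^ Q = c ^ Q * wz ω t₁ ^ Q * w := by ring
      _ = c * (wz ω s * wz ω t₁ ^ Q) := hj'2.symm
      _ = c * wz ω s * wz ω t₁ ^ Q := by ring
  refine ⟨s, ?_⟩
  intro t
  rw [← hNt t, ← hNt ((Q : ZMod r) * t + s), hN (c * wz ω t)]
  congr 1
  ext j
  simp only [Finset.mem_filter, Finset.mem_univ, true_and]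
  have h6 : (c * wz ω t) ^ Q * w = c * wz ω ((Q : ZMod r) * t + s) := by
    rw [mul_pow, wz_add ω hωr, wz_natCast_mul ω hωr, mul_right_comm, hkey]
    ring
  rw [h6]

end crit

end Cfsg.Agent.Lib.Helper6.SubF
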