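import Mathlib
import Cfsg.Agent.Lib.Helper6.SubF_Diag
import Cfsg.Agent.Lib.Helper9.Elus6

set_option autoImplicit false
set_option linter.unusedSectionVars false

/-!
The diagonal models for the subfield row of `PSL_n(q)`, odd `r ≠ p`, `r ∣ q - 1`: if all elements
of order `r` modulo scalars are conjugate into the subfield subgroup and `q₀ ≢ 0, 1 (mod r)`, then
`r = n ∈ {3, 5}` and `(q - 1)_r = r` (or `(n, r) = (6, 3)`).
-/

namespace Cfsg.Agent.Lib.Helper6.SubF

open Module Cfsg.Agent.Lib.Helper9.H9GReal Cfsg.Agent.Lib.Helper9.H9Elus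
open scoped Matrix

theorem zmod3_cases : ∀ u : ZMod 3, u = 0 ∨ u = 1 ∨ u = 2 := by decide

section multfun
variable {r : ℕ} [NeZero r]

/-- A multiplicity function supported on two points. -/
def M2 (a b : ZMod r) (x y : ℕ) : ZMod r → ℕ :=
  fun t => (if t = a then x else 0) + (if t = b then y else 0)

/-- A multiplicity function supported on three points. -/
def M3 (a b c : ZMod r) (x y z : ℕ) : ZMod r → ℕ :=
  fun t => (if t = a then x else 0) + (if t = b then y else 0) + (if t = c then z else 0)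

theorem sum_M2 (a b : ZMod r) (x y : ℕ) : ∑ t, M2 a b x y t = x + y := by
  classical
  unfold M2
  rw [Finset.sum_add_distrib]
  simp

theorem sum_M3 (a b c : ZMod r) (x y z : ℕ) : ∑ t, M3 a b c x y z t = x + y + z := by
  classical
  unfold M3
  rw [Finset.sum_add_distrib, Finset.sum_add_distrib]
  simp

theorem prod_M2 {F : Type*} [CommMonoid F] (g : ZMod r → F) (a b : ZMod r) (x y : ℕ) :
    ∏ t, g t ^ M2 a b x y t = g a ^ x * g b ^ y := by
  classical
  unfold M2
  simp only [pow_add]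
  rw [Finset.prod_mul_distrib]
  congr 1
  · rw [Fintype.prod_eq_single a]
    · simp
    · intro t ht
      simp [ht]
  · rw [Fintype.prod_eq_single b]
    · simp
    · intro t ht
      simp [ht]

theorem prod_M3 {F : Type*} [CommMonoid F] (g : ZMod r → F) (a b c : ZMod r) (x y z : ℕ) :
    ∏ t, g t ^ M3 a b c x y z t = g a ^ x * g b ^ y * g c ^ z := by
  classical
  unfold M3
  simp only [pow_add]
  rw [Finset.prod_mul_distrib, Finset.prod_mul_distrib]
  congr 1
  · congr 1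
    · rw [Fintype.prod_eq_single a]
      · simp
      · intro t ht
        simp [ht]
    · rw [Fintype.prod_eq_single b]
      · simp
      · intro t ht
        simp [ht]
  · rw [Fintype.prod_eq_single c]
    · simp
    · intro t ht
      simp [ht]

end multfun

section models
variable {F : Type*} [Field F] [Fintype F] {p : ℕ} [Fact p.Prime] [CharP F p] {n : ℕ}

local notation "Mat" => Matrix (Fin n) (Fin n) F

/-- The hypothesis "every element of order `r` modulo scalars is conjugate into `H`". -/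
def AllConj (F₀ : Subfield F) (n r : ℕ) : Prop :=
  ∀ x : Matrix.SpecialLinearGroup (Fin n) F,
      (∃ z : F, ((x ^ r : Matrix.SpecialLinearGroup (Fin n) F) : Matrix (Fin n) (Fin n) F) =
        z • (1 : Matrix (Fin n) (Fin n) F)) →
      (∀ z : F, (x : Matrix (Fin n) (Fin n) F) ≠ z • (1 : Matrix (Fin n) (Fin n) F)) →
      ∃ P : Matrix.SpecialLinearGroup (Fin n) F,
        P⁻¹ * x * P ∈ (Cfsg.Geo.subfieldSubgroup F₀ (1 : GL (Fin n) F)).comap
          (Matrix.SpecialLinearGroup.toGL : Matrix.SpecialLinearGroup (Fin n) F →* GL (Fin n) F)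

theorem exists_primitiveRoot (r : ℕ) (hd : r ∣ Fintype.card F - 1) :
    ∃ ω : F, IsPrimitiveRoot ω r := by
  obtain ⟨z, -, hz⟩ := exists_orderOf_eq (F := F) r hd
  exact ⟨z, hz ▸ IsPrimitiveRoot.orderOf z⟩

variable (F₀ : Subfield F) (Q e : ℕ) (hF₀ : Nat.card F₀ = Q) (hQ : Q = p ^ e)
  (r : ℕ) [Fact r.Prime]

include hF₀ hQ

/-- Model for `n = 2`. -/
theorem model2_false (hr2 : r ≠ 2) (hd : r ∣ Fintype.card F - 1)
    (hL : AllConj (F := F) F₀ 2 r)
    (hQ0 : (Q : ZMod r) ≠ 0) (hQ1 : (Q : ZMod r) ≠ 1) (hQ2 : (Q : ZMod r) ^ 2 ≠ 1) : False := by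
  classical
  have hr : r.Prime := Fact.out
  haveI : NeZero r := ⟨hr.ne_zero⟩
  obtain ⟨ω, hω⟩ := exists_primitiveRoot (F := F) r hd
  have hωr : ω ^ r = 1 := hω.pow_eq_one
  have h01 : (0 : ZMod r) ≠ 1 := zero_ne_one
  obtain ⟨m, hm⟩ : ∃ m, r = 2 * m + 1 := by
    rcases hr.eq_two_or_odd with h | h
    · exact absurd h hr2
    · exact ⟨r / 2, by omega⟩
  have hω0 : ω ≠ 0 := by
    rintro rfl
    rw [zero_pow hr.ne_zero] at hωr
    exact zero_ne_one hωr
  obtain ⟨s, hs⟩ := mult_crit F₀ Q e hF₀ hQ r ω hω hL (ω ^ m) (pow_ne_zero _ hω0)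
    (M2 0 1 1 1) (by rw [sum_M2]) (by
      rw [prod_M2, wz_zero, pow_one, pow_one, mul_one]
      have : wz ω (1 : ZMod r) = ω := by
        have := wz_natCast (r := r) ω hωr 1
        rwa [Nat.cast_one, pow_one] at this
      rw [this]
      calc ω ^ m * (ω ^ m * ω) = ω ^ (2 * m + 1) := by ring
        _ = 1 := by rw [← hm, hωr])
    0 1 h01 (by simp [M2]) (by simp [M2, h01.symm])
  have h0 := hs 0
  have h1 := hs 1
  rw [mul_zero, zero_add] at h0
  rw [mul_one] at h1
  have hM0 : M2 (0 : ZMod r) 1 1 1 0 = 1 := by simp [M2, h01]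
  have hM1 : M2 (0 : ZMod r) 1 1 1 1 = 1 := by simp [M2, h01.symm]
  have hMo : ∀ t : ZMod r, t ≠ 0 → t ≠ 1 → M2 (0 : ZMod r) 1 1 1 t = 0 := by
    intro t h0 h1
    simp [M2, h0, h1]
  rw [hM0] at h0
  rw [hM1] at h1
  have hs01 : s = 0 ∨ s = 1 := by
    by_contra hcon
    push Not at hcon
    rw [hMo s hcon.1 hcon.2] at h0
    exact one_ne_zero h0
  have hQs : (Q : ZMod r) + s = 0 ∨ (Q : ZMod r) + s = 1 := by
    by_contra hcon
    push Not at hcon
    rw [hMo _ hcon.1 hcon.2] at h1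
    exact one_ne_zero h1
  rcases hs01 with rfl | rfl
  · rw [add_zero] at hQs
    rcases hQs with h | h
    · exact hQ0 h
    · exact hQ1 h
  · rcases hQs with h | h
    · apply hQ2
      have : (Q : ZMod r) = -1 := eq_neg_of_add_eq_zero_left h
      rw [this]
      ring
    · apply hQ0
      simpa using h

/-- Model `c * diag(ω, 1, …, 1)`, available when `(n)_r < (q - 1)_r`. -/
theorem modelA_false (hn : 3 ≤ n)
    (hv : padicValNat r n < padicValNat r (Fintype.card F - 1))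
    (hL : AllConj (F := F) F₀ n r) (hQ1 : (Q : ZMod r) ≠ 1) : False := by
  classical
  have hr : r.Prime := Fact.out
  haveI : NeZero r := ⟨hr.ne_zero⟩
  have h01 : (0 : ZMod r) ≠ 1 := zero_ne_one
  have hn0 : n ≠ 0 := by omega
  obtain ⟨ν, n', hn', hnn'⟩ := Nat.exists_eq_pow_mul_and_not_dvd hn0 r hr.ne_one
  have hn'0 : n' ≠ 0 := by
    rintro rfl
    exact hn' (dvd_zero r)
  have hν : padicValNat r n = ν := by
    rw [hnn', padicValNat.mul (pow_ne_zero _ hr.ne_zero) hn'0, padicValNat.prime_pow,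
      padicValNat.eq_zero_of_not_dvd hn', add_zero]
  rw [hν] at hv
  have hdvd : r ^ (ν + 1) ∣ Fintype.card F - 1 :=
    (pow_dvd_pow r hv).trans pow_padicValNat_dvd
  obtain ⟨ζ, hζ0, hζ⟩ := exists_orderOf_eq (F := F) (r ^ (ν + 1)) hdvd
  have hgcd : Nat.gcd (r ^ (ν + 1)) n = r ^ ν := by
    rw [hnn', pow_succ, Nat.gcd_mul_left,
      (Nat.Prime.coprime_iff_not_dvd hr).mpr hn', mul_one]
  have hord : orderOf (ζ ^ n) = r := by
    rw [orderOf_pow' ζ hn0, hζ, hgcd, pow_succ, Nat.mul_div_cancel_left _ (pow_pos hr.pos ν)]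
  have hζn0 : ζ ^ n ≠ 0 := pow_ne_zero _ hζ0
  set ω : F := (ζ ^ n)⁻¹ with hωdef
  have hω : IsPrimitiveRoot ω r := by
    have := IsPrimitiveRoot.orderOf (ζ ^ n)
    rw [hord] at this
    exact this.inv
  have hωr : ω ^ r = 1 := hω.pow_eq_one
  have hwz1 : wz ω (1 : ZMod r) = ω := by
    have := wz_natCast (r := r) ω hωr 1
    rwa [Nat.cast_one, pow_one] at this
  obtain ⟨s, hs⟩ := mult_crit F₀ Q e hF₀ hQ r ω hω hL ζ hζ0
    (M2 0 1 (n - 1) 1) (by rw [sum_M2]; omega) (by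
      rw [prod_M2, wz_zero, pow_one, mul_one, hwz1]
      calc ζ ^ (n - 1) * (ζ * ω) = ζ ^ (n - 1 + 1) * ω := by ring
        _ = 1 := by
          rw [Nat.sub_add_cancel (by omega), hωdef, mul_inv_cancel₀ hζn0])
    0 1 h01 (by simp [M2]; omega) (by simp [M2, h01.symm])
  have h0 := hs 0
  have h1 := hs 1
  rw [mul_zero, zero_add] at h0
  rw [mul_one] at h1
  have hM0 : M2 (0 : ZMod r) 1 (n - 1) 1 0 = n - 1 := by simp [M2, h01]
  have hM1 : M2 (0 : ZMod r) 1 (n - 1) 1 1 = 1 := by simp [M2, h01.symm]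
  have hMo : ∀ t : ZMod r, t ≠ 0 → t ≠ 1 → M2 (0 : ZMod r) 1 (n - 1) 1 t = 0 := by
    intro t h0 h1
    simp [M2, h0, h1]
  rw [hM0] at h0
  rw [hM1] at h1
  have hs0 : s = 0 := by
    by_contra hcon
    by_cases hs1 : s = 1
    · rw [hs1, hM1] at h0
      omega
    · rw [hMo s hcon hs1] at h0
      omega
  rw [hs0, add_zero] at h1
  by_cases hq0 : (Q : ZMod r) = 0
  · rw [hq0, hM0] at h1
    omega
  · rw [hMo _ hq0 hQ1] at h1
    exact one_ne_zero h1

/-- Model `diag(ω⁻², ω, ω, 1, …, 1)` for `r ≥ 5`, `n ≥ 6`. -/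
theorem modelX1_false (hr5 : 5 ≤ r) (hn : 6 ≤ n) (hd : r ∣ Fintype.card F - 1)
    (hL : AllConj (F := F) F₀ n r) (hQ1 : (Q : ZMod r) ≠ 1) : False := by
  classical
  have hr : r.Prime := Fact.out
  haveI : NeZero r := ⟨hr.ne_zero⟩
  obtain ⟨ω, hω⟩ := exists_primitiveRoot (F := F) r hd
  have hωr : ω ^ r = 1 := hω.pow_eq_one
  have h01 : (0 : ZMod r) ≠ 1 := zero_ne_one
  have h02 : (0 : ZMod r) ≠ -2 := by
    intro h
    have h2 : ((2 : ℕ) : ZMod r) = 0 := by
      have : (2 : ZMod r) = 0 := by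
        have := congrArg (fun x => -x) h
        simpa using this.symm
      exact_mod_cast this
    have := (ZMod.natCast_eq_zero_iff 2 r).mp h2
    have := Nat.le_of_dvd (by norm_num) this
    omega
  have h12 : (1 : ZMod r) ≠ -2 := by
    intro h
    have h3 : ((3 : ℕ) : ZMod r) = 0 := by
      have : (3 : ZMod r) = 0 := by
        have : (1 : ZMod r) + 2 = 0 := by rw [h]; ring
        rw [← this]; ring
      exact_mod_cast this
    have := (ZMod.natCast_eq_zero_iff 3 r).mp h3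
    have := Nat.le_of_dvd (by norm_num) this
    omega
  obtain ⟨s, hs⟩ := mult_crit F₀ Q e hF₀ hQ r ω hω hL 1 one_ne_zero
    (M3 0 1 (-2) (n - 3) 2 1) (by rw [sum_M3]; omega) (by
      rw [prod_M3, wz_zero, pow_one, mul_one, one_pow, one_mul, one_mul, one_mul, pow_two,
        ← wz_add ω hωr, ← wz_add ω hωr]
      have : (1 : ZMod r) + 1 + -2 = 0 := by ring
      rw [this, wz_zero])
    0 1 h01 (by simp [M3, h01, h02]; omega) (by simp [M3, h01.symm, h12])
  have h0 := hs 0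
  have h1 := hs 1
  rw [mul_zero, zero_add] at h0
  rw [mul_one] at h1
  have hM0 : M3 (0 : ZMod r) 1 (-2) (n - 3) 2 1 0 = n - 3 := by simp [M3, h01, h02]
  have hM1 : M3 (0 : ZMod r) 1 (-2) (n - 3) 2 1 1 = 2 := by simp [M3, h01.symm, h12]
  have hM2 : M3 (0 : ZMod r) 1 (-2) (n - 3) 2 1 (-2) = 1 := by simp [M3, h02.symm, h12.symm]
  have hMo : ∀ t : ZMod r, t ≠ 0 → t ≠ 1 → t ≠ -2 → M3 (0 : ZMod r) 1 (-2) (n - 3) 2 1 t = 0 := by
    intro t h0 h1 h2
    simp [M3, h0, h1, h2]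
  rw [hM0] at h0
  rw [hM1] at h1
  have hs0 : s = 0 := by
    by_contra hcon
    by_cases hs1 : s = 1
    · rw [hs1, hM1] at h0
      omega
    · by_cases hs2 : s = -2
      · rw [hs2, hM2] at h0
        omega
      · rw [hMo s hcon hs1 hs2] at h0
        omega
  rw [hs0, add_zero] at h1
  by_cases hq0 : (Q : ZMod r) = 0
  · rw [hq0, hM0] at h1
    omega
  · by_cases hq2 : (Q : ZMod r) = -2
    · rw [hq2, hM2] at h1
      omega
    · rw [hMo _ hq0 hQ1 hq2] at h1
      omega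

omit [Fact r.Prime] in
/-- Model `diag(1^(t-3), ω^t, (ω²)^(t+3))` for `r = 3`, `n = 3 t`, `t ≥ 3`. -/
theorem modelC3_false (t : ℕ) (ht : 3 ≤ t) (hn : n = 3 * t) (hd : 3 ∣ Fintype.card F - 1)
    (hL : AllConj (F := F) F₀ n 3) (hQ2 : (Q : ZMod 3) = 2) : False := by
  classical
  obtain ⟨ω, hω⟩ := exists_primitiveRoot (F := F) 3 hd
  have hωr : ω ^ 3 = 1 := hω.pow_eq_one
  have hwz1 : wz ω (1 : ZMod 3) = ω := by
    have := wz_natCast (r := 3) ω hωr 1
    rwa [Nat.cast_one, pow_one] at this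
  have hwz2 : wz ω (2 : ZMod 3) = ω ^ 2 := by
    have := wz_natCast (r := 3) ω hωr 2
    exact_mod_cast this
  obtain ⟨s, hs⟩ := mult_crit F₀ Q e hF₀ hQ 3 ω hω hL 1 one_ne_zero
    (M3 0 1 2 (t - 3) t (t + 3)) (by rw [sum_M3]; omega) (by
      rw [prod_M3, wz_zero, mul_one, one_pow, one_mul, one_mul, one_mul, hwz1, hwz2]
      calc ω ^ t * (ω ^ 2) ^ (t + 3) = (ω ^ 3) ^ (t + 2) := by ring
        _ = 1 := by rw [hωr, one_pow])
    1 2 (by decide) (by simp [M3]; omega) (by simp [M3])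
  rw [hQ2] at hs
  have hM0 : M3 (0 : ZMod 3) 1 2 (t - 3) t (t + 3) 0 = t - 3 := by
    have h1 : (0 : ZMod 3) ≠ 1 := by decide
    have h2 : (0 : ZMod 3) ≠ 2 := by decide
    simp [M3, h1, h2]
  have hM1 : M3 (0 : ZMod 3) 1 2 (t - 3) t (t + 3) 1 = t := by
    have h1 : (1 : ZMod 3) ≠ 0 := by decide
    have h2 : (1 : ZMod 3) ≠ 2 := by decide
    simp [M3, h1, h2]
  have hM2 : M3 (0 : ZMod 3) 1 2 (t - 3) t (t + 3) 2 = t + 3 := by
    have h1 : (2 : ZMod 3) ≠ 0 := by decide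
    have h2 : (2 : ZMod 3) ≠ 1 := by decide
    simp [M3, h1, h2]
  have hcases : ∀ u : ZMod 3, u = 0 ∨ u = 1 ∨ u = 2 := by decide
  have hcases := hcases s
  rcases hcases with rfl | rfl | rfl
  · have h := hs 1
    have e : (2 : ZMod 3) * 1 + 0 = 2 := by decide
    rw [e, hM1, hM2] at h
    omega
  · have h := hs 0
    have e : (2 : ZMod 3) * 0 + 1 = 1 := by decide
    rw [e, hM0, hM1] at h
    omega
  · have h := hs 0
    have e : (2 : ZMod 3) * 0 + 2 = 2 := by decide
    rw [e, hM0, hM2] at h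
    omega

/-- The case analysis: if `r ∣ q - 1`, `q₀ ≢ 0, 1 (mod r)` and all elements of order `r` are
conjugate into `H`, we are in the special case. -/
theorem special_of_allConj (hr2 : r ≠ 2) (hn : 2 ≤ n) (hd : r ∣ Fintype.card F - 1)
    (hL : AllConj (F := F) F₀ n r)
    (hQ0 : (Q : ZMod r) ≠ 0) (hQ1 : (Q : ZMod r) ≠ 1) (hQ2 : n = 2 → (Q : ZMod r) ^ 2 ≠ 1)
    (hgap : ¬ (n = 6 ∧ r = 3)) :
    r = n ∧ (n = 3 ∨ n = 5) ∧ padicValNat r (Fintype.card F - 1) = 1 := by
  classical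
  have hr : r.Prime := Fact.out
  have hcard : Fintype.card F - 1 ≠ 0 := by
    have : 1 < Fintype.card F := Fintype.one_lt_card
    omega
  have hv1 : 1 ≤ padicValNat r (Fintype.card F - 1) := one_le_padicValNat_of_dvd hcard hd
  by_cases hn2 : n = 2
  · subst hn2
    exact (model2_false F₀ Q e hF₀ hQ r hr2 hd hL hQ0 hQ1 (hQ2 rfl)).elim
  have hn3 : 3 ≤ n := by omega
  by_cases hv : padicValNat r n < padicValNat r (Fintype.card F - 1)
  · exact (modelA_false F₀ Q e hF₀ hQ r hn3 hv hL hQ1).elim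
  push Not at hv
  have hrn : r ∣ n := dvd_of_one_le_padicValNat (hv1.trans hv)
  have hrle : r ≤ n := Nat.le_of_dvd (by omega) hrn
  by_cases hr5 : 5 ≤ r
  · by_cases hn6 : 6 ≤ n
    · exact (modelX1_false F₀ Q e hF₀ hQ r hr5 hn6 hd hL hQ1).elim
    · have hr5' : r = 5 := by omega
      have hn5 : n = 5 := by omega
      refine ⟨by omega, Or.inr hn5, ?_⟩
      have h1 : padicValNat r n = 1 := by
        rw [hr5', hn5]
        haveI : Fact (Nat.Prime 5) := ⟨by norm_num⟩
        exact padicValNat_self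
      omega
  · have hr3 : r = 3 := by
      have h2 := hr.two_le
      have h4 : r ≠ 4 := by
        rintro rfl
        exact absurd hr (by norm_num)
      omega
    subst hr3
    have hQ2' : (Q : ZMod 3) = 2 := by
      rcases zmod3_cases (Q : ZMod 3) with h | h | h
      · exact absurd h hQ0
      · exact absurd h hQ1
      · exact h
    obtain ⟨t, ht⟩ := hrn
    by_cases ht1 : t = 1
    · subst ht1
      refine ⟨by omega, Or.inl (by omega), ?_⟩
      have h1 : padicValNat 3 n = 1 := by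
        rw [ht]
        exact padicValNat_self
      omega
    · by_cases ht2 : t = 2
      · exact absurd ⟨by omega, rfl⟩ hgap
      · exact (modelC3_false F₀ Q e hF₀ hQ t (by omega) ht hd hL hQ2').elim

end models

end Cfsg.Agent.Lib.Helper6.SubF
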