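import Mathlib
import Cfsg.Agent.Lib.Helper6.SubF_Models

set_option autoImplicit false
set_option linter.unusedSectionVars false

/-!
The diagonal models of the `PSL_n(q)` rows, abstracted: `DiagCrit F n r κ` says that every
multiplicity function of a non-scalar diagonal element `c * diag(ω ^ t)` of determinant 1 is
invariant under some affine map `t ↦ κ * t + s` of `ZMod r`. For `κ ≠ 0, 1` and `n ≥ 3` this forces
`r = n ∈ {3, 5}` and `(q - 1)_r = r` (or `(n, r) = (6, 3)`).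
-/

namespace Cfsg.Agent.Lib.Helper6.OSim

open Module Cfsg.Agent.Lib.Helper9.H9GReal Cfsg.Agent.Lib.Helper9.H9Elus
  Cfsg.Agent.Lib.Helper6.SubF
open scoped Matrix

/-- The abstract diagonal criterion. -/
def DiagCrit (F : Type*) [Field F] (n r : ℕ) [NeZero r] (κ : ZMod r) : Prop :=
  ∀ ω : F, IsPrimitiveRoot ω r → ∀ c : F, c ≠ 0 → ∀ M : ZMod r → ℕ, ∑ t, M t = n →
    ∏ t, (c * wz ω t) ^ M t = 1 → ∀ t₁ t₂ : ZMod r, t₁ ≠ t₂ → 0 < M t₁ → 0 < M t₂ →
      ∃ s : ZMod r, ∀ t, M t = M (κ * t + s)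

section models
variable {F : Type*} [Field F] [Fintype F] {p : ℕ} [Fact p.Prime] [CharP F p] {n : ℕ}

/-- Model `c * diag(ω, 1, …, 1)`, available when `(n)_r < (q - 1)_r`. -/
theorem modelA_gen (r : ℕ) [Fact r.Prime] [NeZero r] (κ : ZMod r) (hn : 3 ≤ n)
    (hv : padicValNat r n < padicValNat r (Fintype.card F - 1))
    (hcrit : DiagCrit F n r κ) (hQ1 : κ ≠ 1) : False := by
  classical
  have hr : r.Prime := Fact.out
  have h01 : (0 : ZMod r) ≠ 1 := zero_ne_one
  have hn0 : n ≠ 0 := by omega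
  obtain ⟨ν, n', hn', hnn'⟩ := Nat.exists_eq_pow_mul_and_not_dvd hn0 r hr.ne_one
  have hn'0 : n' ≠ 0 := by
    rintro rfl
    exact hn' (dvd_zero r)
  have hν : padicValNat r n = ν := by
    rw [hnn', padicValNat.mul (pow_ne_zero _ hr.ne_zero) hn'0, padicValNat.prime_pow,
      padicValNat.eq_zero_of_not_dvd hn', add_zero]
  rw [hν] at hv
  have hdvd : r ^ (ν + 1) ∣ Fintype.card F - 1 :=
    (pow_dvd_pow r hv).trans pow_padicValNat_dvd
  obtain ⟨ζ, hζ0, hζ⟩ := exists_orderOf_eq (F := F) (r ^ (ν + 1)) hdvd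
  have hgcd : Nat.gcd (r ^ (ν + 1)) n = r ^ ν := by
    rw [hnn', pow_succ, Nat.gcd_mul_left,
      (Nat.Prime.coprime_iff_not_dvd hr).mpr hn', mul_one]
  have hord : orderOf (ζ ^ n) = r := by
    rw [orderOf_pow' ζ hn0, hζ, hgcd, pow_succ, Nat.mul_div_cancel_left _ (pow_pos hr.pos ν)]
  have hζn0 : ζ ^ n ≠ 0 := pow_ne_zero _ hζ0
  set ω : F := (ζ ^ n)⁻¹ with hωdef
  have hω : IsPrimitiveRoot ω r := by
    have := IsPrimitiveRoot.orderOf (ζ ^ n)
    rw [hord] at this
    exact this.inv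
  have hωr : ω ^ r = 1 := hω.pow_eq_one
  have hwz1 : wz ω (1 : ZMod r) = ω := by
    have := wz_natCast (r := r) ω hωr 1
    rwa [Nat.cast_one, pow_one] at this
  obtain ⟨s, hs⟩ := hcrit ω hω ζ hζ0
    (M2 0 1 (n - 1) 1) (by rw [sum_M2]; omega) (by
      rw [prod_M2, wz_zero, pow_one, mul_one, hwz1]
      calc ζ ^ (n - 1) * (ζ * ω) = ζ ^ (n - 1 + 1) * ω := by ring
        _ = 1 := by
          rw [Nat.sub_add_cancel (by omega), hωdef, mul_inv_cancel₀ hζn0])
    0 1 h01 (by simp [M2]; omega) (by simp [M2, h01.symm])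
  have h0 := hs 0
  have h1 := hs 1
  rw [mul_zero, zero_add] at h0
  rw [mul_one] at h1
  have hM0 : M2 (0 : ZMod r) 1 (n - 1) 1 0 = n - 1 := by simp [M2, h01]
  have hM1 : M2 (0 : ZMod r) 1 (n - 1) 1 1 = 1 := by simp [M2, h01.symm]
  have hMo : ∀ t : ZMod r, t ≠ 0 → t ≠ 1 → M2 (0 : ZMod r) 1 (n - 1) 1 t = 0 := by
    intro t h0 h1
    simp [M2, h0, h1]
  rw [hM0] at h0
  rw [hM1] at h1
  have hs0 : s = 0 := by
    by_contra hcon
    by_cases hs1 : s = 1
    · rw [hs1, hM1] at h0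
      omega
    · rw [hMo s hcon hs1] at h0
      omega
  rw [hs0, add_zero] at h1
  by_cases hq0 : κ = 0
  · rw [hq0, hM0] at h1
    omega
  · rw [hMo _ hq0 hQ1] at h1
    exact one_ne_zero h1

/-- Model `diag(ω⁻², ω, ω, 1, …, 1)` for `r ≥ 5`, `n ≥ 6`. -/
theorem modelX1_gen (r : ℕ) [Fact r.Prime] [NeZero r] (κ : ZMod r) (hr5 : 5 ≤ r) (hn : 6 ≤ n) (hd : r ∣ Fintype.card F - 1)
    (hcrit : DiagCrit F n r κ) (hQ1 : κ ≠ 1) : False := by
  classical
  have hr : r.Prime := Fact.out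
  obtain ⟨ω, hω⟩ := exists_primitiveRoot (F := F) r hd
  have hωr : ω ^ r = 1 := hω.pow_eq_one
  have h01 : (0 : ZMod r) ≠ 1 := zero_ne_one
  have h02 : (0 : ZMod r) ≠ -2 := by
    intro h
    have h2 : ((2 : ℕ) : ZMod r) = 0 := by
      have : (2 : ZMod r) = 0 := by
        have := congrArg (fun x => -x) h
        simpa using this.symm
      exact_mod_cast this
    have := (ZMod.natCast_eq_zero_iff 2 r).mp h2
    have := Nat.le_of_dvd (by norm_num) this
    omega
  have h12 : (1 : ZMod r) ≠ -2 := by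
    intro h
    have h3 : ((3 : ℕ) : ZMod r) = 0 := by
      have : (3 : ZMod r) = 0 := by
        have : (1 : ZMod r) + 2 = 0 := by rw [h]; ring
        rw [← this]; ring
      exact_mod_cast this
    have := (ZMod.natCast_eq_zero_iff 3 r).mp h3
    have := Nat.le_of_dvd (by norm_num) this
    omega
  obtain ⟨s, hs⟩ := hcrit ω hω 1 one_ne_zero
    (M3 0 1 (-2) (n - 3) 2 1) (by rw [sum_M3]; omega) (by
      rw [prod_M3, wz_zero, pow_one, mul_one, one_pow, one_mul, one_mul, one_mul, pow_two,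
        ← wz_add ω hωr, ← wz_add ω hωr]
      have : (1 : ZMod r) + 1 + -2 = 0 := by ring
      rw [this, wz_zero])
    0 1 h01 (by simp [M3, h01, h02]; omega) (by simp [M3, h01.symm, h12])
  have h0 := hs 0
  have h1 := hs 1
  rw [mul_zero, zero_add] at h0
  rw [mul_one] at h1
  have hM0 : M3 (0 : ZMod r) 1 (-2) (n - 3) 2 1 0 = n - 3 := by simp [M3, h01, h02]
  have hM1 : M3 (0 : ZMod r) 1 (-2) (n - 3) 2 1 1 = 2 := by simp [M3, h01.symm, h12]
  have hM2 : M3 (0 : ZMod r) 1 (-2) (n - 3) 2 1 (-2) = 1 := by simp [M3, h02.symm, h12.symm]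
  have hMo : ∀ t : ZMod r, t ≠ 0 → t ≠ 1 → t ≠ -2 → M3 (0 : ZMod r) 1 (-2) (n - 3) 2 1 t = 0 := by
    intro t h0 h1 h2
    simp [M3, h0, h1, h2]
  rw [hM0] at h0
  rw [hM1] at h1
  have hs0 : s = 0 := by
    by_contra hcon
    by_cases hs1 : s = 1
    · rw [hs1, hM1] at h0
      omega
    · by_cases hs2 : s = -2
      · rw [hs2, hM2] at h0
        omega
      · rw [hMo s hcon hs1 hs2] at h0
        omega
  rw [hs0, add_zero] at h1
  by_cases hq0 : κ = 0
  · rw [hq0, hM0] at h1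
    omega
  · by_cases hq2 : κ = -2
    · rw [hq2, hM2] at h1
      omega
    · rw [hMo _ hq0 hQ1 hq2] at h1
      omega

/-- Model `diag(1^(t-3), ω^t, (ω²)^(t+3))` for `r = 3`, `n = 3 t`, `t ≥ 3`. -/
theorem modelC3_gen (κ : ZMod 3) (t : ℕ) (ht : 3 ≤ t) (hn : n = 3 * t) (hd : 3 ∣ Fintype.card F - 1)
    (hcrit : DiagCrit F n 3 κ) (hQ2 : κ = 2) : False := by
  classical
  obtain ⟨ω, hω⟩ := exists_primitiveRoot (F := F) 3 hd
  have hωr : ω ^ 3 = 1 := hω.pow_eq_one
  have hwz1 : wz ω (1 : ZMod 3) = ω := by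
    have := wz_natCast (r := 3) ω hωr 1
    rwa [Nat.cast_one, pow_one] at this
  have hwz2 : wz ω (2 : ZMod 3) = ω ^ 2 := by
    have := wz_natCast (r := 3) ω hωr 2
    exact_mod_cast this
  obtain ⟨s, hs⟩ := hcrit ω hω 1 one_ne_zero
    (M3 0 1 2 (t - 3) t (t + 3)) (by rw [sum_M3]; omega) (by
      rw [prod_M3, wz_zero, mul_one, one_pow, one_mul, one_mul, one_mul, hwz1, hwz2]
      calc ω ^ t * (ω ^ 2) ^ (t + 3) = (ω ^ 3) ^ (t + 2) := by ring
        _ = 1 := by rw [hωr, one_pow])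
    1 2 (by decide) (by simp [M3]; omega) (by simp [M3])
  rw [hQ2] at hs
  have hM0 : M3 (0 : ZMod 3) 1 2 (t - 3) t (t + 3) 0 = t - 3 := by
    have h1 : (0 : ZMod 3) ≠ 1 := by decide
    have h2 : (0 : ZMod 3) ≠ 2 := by decide
    simp [M3, h1, h2]
  have hM1 : M3 (0 : ZMod 3) 1 2 (t - 3) t (t + 3) 1 = t := by
    have h1 : (1 : ZMod 3) ≠ 0 := by decide
    have h2 : (1 : ZMod 3) ≠ 2 := by decide
    simp [M3, h1, h2]
  have hM2 : M3 (0 : ZMod 3) 1 2 (t - 3) t (t + 3) 2 = t + 3 := by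
    have h1 : (2 : ZMod 3) ≠ 0 := by decide
    have h2 : (2 : ZMod 3) ≠ 1 := by decide
    simp [M3, h1, h2]
  have hcases : ∀ u : ZMod 3, u = 0 ∨ u = 1 ∨ u = 2 := by decide
  have hcases := hcases s
  rcases hcases with rfl | rfl | rfl
  · have h := hs 1
    have e : (2 : ZMod 3) * 1 + 0 = 2 := by decide
    rw [e, hM1, hM2] at h
    omega
  · have h := hs 0
    have e : (2 : ZMod 3) * 0 + 1 = 1 := by decide
    rw [e, hM0, hM1] at h
    omega
  · have h := hs 0
    have e : (2 : ZMod 3) * 0 + 2 = 2 := by decide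
    rw [e, hM0, hM2] at h
    omega

/-- The case analysis: if `r ∣ q - 1`, `q₀ ≢ 0, 1 (mod r)` and all elements of order `r` are
conjugate into `H`, we are in the special case. -/
theorem special_gen (r : ℕ) [Fact r.Prime] [NeZero r] (κ : ZMod r) (hr2 : r ≠ 2) (hn : 3 ≤ n) (hd : r ∣ Fintype.card F - 1)
    (hcrit : DiagCrit F n r κ)
    (hQ0 : κ ≠ 0) (hQ1 : κ ≠ 1)
    (hgap : ¬ (n = 6 ∧ r = 3)) :
    r = n ∧ (n = 3 ∨ n = 5) ∧ padicValNat r (Fintype.card F - 1) = 1 := by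
  classical
  have hr : r.Prime := Fact.out
  have hcard : Fintype.card F - 1 ≠ 0 := by
    have : 1 < Fintype.card F := Fintype.one_lt_card
    omega
  have hv1 : 1 ≤ padicValNat r (Fintype.card F - 1) := one_le_padicValNat_of_dvd hcard hd
  have hn3 : 3 ≤ n := hn
  by_cases hv : padicValNat r n < padicValNat r (Fintype.card F - 1)
  · exact (modelA_gen r κ hn3 hv hcrit hQ1).elim
  push Not at hv
  have hrn : r ∣ n := dvd_of_one_le_padicValNat (hv1.trans hv)
  have hrle : r ≤ n := Nat.le_of_dvd (by omega) hrn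
  by_cases hr5 : 5 ≤ r
  · by_cases hn6 : 6 ≤ n
    · exact (modelX1_gen r κ hr5 hn6 hd hcrit hQ1).elim
    · have hr5' : r = 5 := by omega
      have hn5 : n = 5 := by omega
      refine ⟨by omega, Or.inr hn5, ?_⟩
      have h1 : padicValNat r n = 1 := by
        rw [hr5', hn5]
        haveI : Fact (Nat.Prime 5) := ⟨by norm_num⟩
        exact padicValNat_self
      omega
  · have hr3 : r = 3 := by
      have h2 := hr.two_le
      have h4 : r ≠ 4 := by
        rintro rfl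
        exact absurd hr (by norm_num)
      omega
    subst hr3
    have hQ2' : κ = 2 := by
      rcases zmod3_cases κ with h | h | h
      · exact absurd h hQ0
      · exact absurd h hQ1
      · exact h
    obtain ⟨t, ht⟩ := hrn
    by_cases ht1 : t = 1
    · subst ht1
      refine ⟨by omega, Or.inl (by omega), ?_⟩
      have h1 : padicValNat 3 n = 1 := by
        rw [ht]
        exact padicValNat_self
      omega
    · by_cases ht2 : t = 2
      · exact absurd ⟨by omega, rfl⟩ hgap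
      · exact (modelC3_gen κ t (by omega) ht hd hcrit hQ2').elim

end models

end Cfsg.Agent.Lib.Helper6.OSim
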