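import Mathlib
import Cfsg.Agent.Lib.Helper6.OSim_Models
import Cfsg.Agent.Lib.Helper6.OSim_BR
import Cfsg.Agent.Lib.Helper6.OSim_ADJ

set_option autoImplicit false
set_option linter.unusedSectionVars false

/-!
The diagonal criterion for orthogonal-type subgroups of `SL_n(q)`: if every element of order `r`
modulo scalars is conjugate into `Sim(Q) ∩ SL_n`, the multiplicity functions of diagonal elements
are invariant under some `t ↦ -t + s`.
-/

namespace Cfsg.Agent.Lib.Helper6.OSim

open Module Cfsg.Geo Cfsg.Agent.Lib.Helper6.SubF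
open scoped Matrix

section crit
variable {F : Type*} [Field F] [Fintype F] {p : ℕ} [Fact p.Prime] [CharP F p] {n : ℕ}

local notation "Mat" => Matrix (Fin n) (Fin n) F

/-- The hypothesis "every element of order `r` modulo scalars is conjugate into `H`". -/
def AllConjQ (Q : (Fin n → F) → F) (r : ℕ) : Prop :=
  ∀ x ∈ specialLinear (Fin n) F,
    (∃ z : F, ((x ^ r : GL (Fin n) F) : Mat) = z • (1 : Mat)) →
    (∀ z : F, (x : Mat) ≠ z • (1 : Mat)) →
    ∃ g ∈ specialLinear (Fin n) F, g⁻¹ * x * g ∈ quadSimilarityGroup Q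

theorem toGL_mem_specialLinear (A : Matrix.SpecialLinearGroup (Fin n) F) :
    Matrix.SpecialLinearGroup.toGL A ∈ specialLinear (Fin n) F := by
  unfold specialLinear
  rw [MonoidHom.mem_ker]
  apply Units.ext
  rw [Matrix.GeneralLinearGroup.val_det_apply, Matrix.SpecialLinearGroup.coe_GL_coe_matrix,
    Units.val_one]
  exact A.2

theorem diag_crit_of_allConj (h2 : (2 : F) ≠ 0) (Q : (Fin n → F) → F)
    (hQ : IsNondegenerateQuadraticForm Q) (r : ℕ) [NeZero r] (hL : AllConjQ Q r) :
    DiagCrit F n r (-1) := by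
  classical
  intro ω hω c hc M hM hdet t₁ t₂ h12 h1 h2'
  have hωr : ω ^ r = 1 := hω.pow_eq_one
  obtain ⟨a, ha⟩ := exists_fun_with_mult M hM
  set f : Fin n → F := fun j => c * wz ω (a j) with hf
  have hdetf : ∏ j, f j = 1 := by
    rw [← hdet, ← Finset.prod_fiberwise_of_maps_to (s := Finset.univ) (t := Finset.univ)
      (g := a) (fun _ _ => Finset.mem_univ _) f]
    apply Finset.prod_congr rfl
    intro t _
    rw [← ha t, ← Finset.prod_const]
    apply Finset.prod_congr rfl
    intro j hj
    rw [Finset.mem_filter] at hj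
    rw [hf]
    simp only
    rw [hj.2]
  let x₀ : Matrix.SpecialLinearGroup (Fin n) F :=
    ⟨Matrix.diagonal f, by rw [Matrix.det_diagonal, hdetf]⟩
  set x : GL (Fin n) F := Matrix.SpecialLinearGroup.toGL x₀ with hxdef
  have hx : (x : Mat) = Matrix.diagonal f := rfl
  have hfr : ∀ j, f j ^ r = c ^ r := by
    intro j
    rw [hf]
    simp only
    rw [mul_pow, wz_pow ω hωr, mul_one]
  have hf0 : ∀ j, f j ≠ 0 := fun j => mul_ne_zero hc (wz_ne_zero ω hωr _)
  obtain ⟨j₁, hj₁⟩ : ∃ j, a j = t₁ := by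
    have : 0 < (Finset.univ.filter fun j => a j = t₁).card := by rw [ha]; exact h1
    obtain ⟨j, hj⟩ := Finset.card_pos.mp this
    exact ⟨j, (Finset.mem_filter.mp hj).2⟩
  obtain ⟨j₂, hj₂⟩ : ∃ j, a j = t₂ := by
    have : 0 < (Finset.univ.filter fun j => a j = t₂).card := by rw [ha]; exact h2'
    obtain ⟨j, hj⟩ := Finset.card_pos.mp this
    exact ⟨j, (Finset.mem_filter.mp hj).2⟩
  obtain ⟨g, -, hg⟩ := hL x (toGL_mem_specialLinear x₀)
    ⟨c ^ r, by
      rw [Units.val_pow_eq_pow_val, hx, Matrix.diagonal_pow, Matrix.smul_one_eq_diagonal]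
      congr 1
      funext j
      exact hfr j⟩
    (by
      intro z hz
      rw [hx, Matrix.smul_one_eq_diagonal] at hz
      have h3 := Matrix.diagonal_injective hz
      have h4 : f j₁ = f j₂ := by rw [h3]
      rw [hf] at h4
      simp only at h4
      have h5 := wz_injective ω hω (mul_left_cancel₀ hc h4)
      rw [hj₁, hj₂] at h5
      exact h12 h5)
  obtain ⟨Q', μ, hμ, hQ', hqs, -⟩ := exists_qsim_of_conj_mem Q hQ x g hg
  have hadj := finrank_eigenspace_qsim h2 Q' hQ' _ μ hμ hqs
  have hN : ∀ lam : F, lam ≠ 0 → (Finset.univ.filter fun j => f j = lam).card =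
      (Finset.univ.filter fun j => f j = μ / lam).card := by
    intro lam hlam
    rw [← finrank_eigenspace_diagonal, ← finrank_eigenspace_diagonal, ← hx]
    exact hadj lam hlam
  have hNt : ∀ t : ZMod r, (Finset.univ.filter fun j => f j = c * wz ω t).card = M t := by
    intro t
    rw [← ha t]
    congr 1
    ext j
    simp only [Finset.mem_filter, Finset.mem_univ, true_and, hf]
    constructor
    · intro h
      exact wz_injective ω hω (mul_left_cancel₀ hc h)
    · intro h
      rw [h]
  -- find `s`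
  have h3 : 0 < (Finset.univ.filter fun j => f j = μ / f j₁).card := by
    rw [← hN _ (hf0 j₁)]
    apply Finset.card_pos.mpr
    exact ⟨j₁, by simp⟩
  obtain ⟨j', hj'⟩ := Finset.card_pos.mp h3
  rw [Finset.mem_filter] at hj'
  have hj'2 := hj'.2
  set s : ZMod r := a j' + t₁ with hs
  have hkey : μ = c * c * wz ω s := by
    rw [eq_div_iff (hf0 j₁)] at hj'2
    rw [← hj'2, hf]
    simp only
    rw [hj₁, hs, wz_add ω hωr]
    ring
  refine ⟨s, ?_⟩
  intro t
  have hct : c * wz ω t ≠ 0 := mul_ne_zero hc (wz_ne_zero ω hωr _)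
  rw [← hNt t, ← hNt (-1 * t + s), hN (c * wz ω t) hct]
  congr 1
  ext j
  simp only [Finset.mem_filter, Finset.mem_univ, true_and]
  have h6 : μ / (c * wz ω t) = c * wz ω (-1 * t + s) := by
    rw [div_eq_iff hct, hkey]
    have : s = (-1 * t + s) + t := by ring
    conv_lhs => rw [this, wz_add ω hωr]
    ring
  rw [h6]

end crit

end Cfsg.Agent.Lib.Helper6.OSim
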