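import Mathlib
import Cfsg.Agent.Lib.Helper6.OSim0

set_option autoImplicit false
set_option linter.unusedSectionVars false

/-!
PK-EVEN: a fixed-point-free isometry of prime order `r` permutes the nonzero singular vectors in
orbits of length `r`.
-/

namespace Cfsg.Agent.Lib.Helper6.OSim

open Module Cfsg.Geo

section even
variable {F : Type*} [Field F] [Fintype F] {n : ℕ}

theorem dvd_card_singular_of_fpf (r : ℕ) [Fact r.Prime]
    (t : (Fin n → F) →ₗ[F] (Fin n → F)) (ht : t ^ r = 1) (hfpf : ∀ v, t v = v → v = 0)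
    (Q' : (Fin n → F) → F) (hQ0 : Q' 0 = 0) (hq : QSim Q' t 1) :
    r ∣ Nat.card {v : Fin n → F // Q' v = 0} - 1 := by
  classical
  set α := {v : Fin n → F // Q' v = 0} with hα
  have hmem : ∀ (k : ℕ) (v : Fin n → F), Q' v = 0 → Q' ((t ^ k) v) = 0 := by
    intro k
    induction k with
    | zero => intro v hv; simpa using hv
    | succ k ih =>
      intro v hv
      rw [pow_succ', Module.End.mul_apply, hq, ih v hv, mul_zero]
  let f : Function.End α := fun v => ⟨t v.1, by
    have := hmem 1 v.1 v.2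
    rwa [pow_one] at this⟩
  have hfk : ∀ (k : ℕ) (v : α), ((f ^ k) v).1 = (t ^ k) v.1 := by
    intro k
    induction k with
    | zero => intro v; rfl
    | succ k ih =>
      intro v
      rw [pow_succ', pow_succ', Module.End.mul_apply]
      show t ((f ^ k) v).1 = _
      rw [ih]
  have hfr : f ^ r ^ 1 = 1 := by
    rw [pow_one]
    funext v
    apply Subtype.ext
    rw [hfk, ht]
    rfl
  have hmod := Equiv.Perm.card_fixedPoints_modEq (f := f) (p := r) (n := 1) hfr
  have hfix : Fintype.card (Function.fixedPoints f) = 1 := by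
    rw [Fintype.card_eq_one_iff]
    refine ⟨⟨⟨0, hQ0⟩, ?_⟩, ?_⟩
    · show f ⟨0, hQ0⟩ = ⟨0, hQ0⟩
      apply Subtype.ext
      show t 0 = 0
      exact map_zero t
    · rintro ⟨v, hv⟩
      apply Subtype.ext
      apply Subtype.ext
      have h1 : f v = v := hv
      have h2 := congrArg Subtype.val h1
      exact hfpf v.1 h2
  rw [hfix] at hmod
  rw [Nat.card_eq_fintype_card]
  have hpos : 1 ≤ Fintype.card α := Fintype.card_pos_iff.mpr ⟨⟨0, hQ0⟩⟩
  exact (Nat.modEq_iff_dvd' hpos).mp hmod.symm

end even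

end Cfsg.Agent.Lib.Helper6.OSim
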