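import Mathlib
import Cfsg.Agent.Lib.Helper6.OSim0
import Cfsg.Agent.Lib.Helper2.OrthNdB
import Cfsg.Agent.Lib.Helper9.OrthNM1

set_option autoImplicit false
set_option linter.unusedSectionVars false

/-!
Quadratic forms given by a Gram matrix in a basis: nondegeneracy, discriminant character,
similitudes; the normal form basis of a map with `t ^ 2 = z • 1`, `z` a nonsquare.
-/

namespace Cfsg.Agent.Lib.Helper6.OSim

open Module Polynomial QuadraticMap Cfsg.Geo Cfsg.Agent.Lib.Helper2.OrthNd

section gram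
variable {F : Type*} [Field F] [Fintype F] [DecidableEq F]
variable {V : Type*} [AddCommGroup V] [Module F V] [FiniteDimensional F V]
variable {ι : Type*} [Fintype ι] [DecidableEq ι]

/-- The quadratic form `v ↦ xᵀ G x`, `x` the coordinates of `v` in the basis `b`. -/
noncomputable def gramForm (b : Basis ι F V) (G : Matrix ι ι F) : QuadraticForm F V :=
  (Matrix.toBilin b G).toQuadraticMap

theorem toBilin_basis (b : Basis ι F V) (G : Matrix ι ι F) (i j : ι) :
    Matrix.toBilin b G (b i) (b j) = G i j := by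
  rw [← LinearMap.BilinForm.toMatrix_apply, LinearMap.BilinForm.toMatrix_toBilin]

theorem gram_flip (b : Basis ι F V) (G : Matrix ι ι F) (hG : G.IsSymm) :
    LinearMap.flip (Matrix.toBilin b G) = Matrix.toBilin b G := by
  apply LinearMap.BilinForm.ext_basis b
  intro i j
  rw [LinearMap.flip_apply, toBilin_basis, toBilin_basis]
  exact hG.apply i j

theorem polarBilin_gramForm (b : Basis ι F V) (G : Matrix ι ι F) (hG : G.IsSymm) :
    polarBilin (gramForm b G) = (2 : F) • Matrix.toBilin b G := by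
  unfold gramForm
  rw [LinearMap.BilinMap.polarBilin_toQuadraticMap, gram_flip b G hG, two_smul]

theorem toMatrix_polarBilin_gramForm (b : Basis ι F V) (G : Matrix ι ι F) (hG : G.IsSymm) :
    LinearMap.BilinForm.toMatrix b (polarBilin (gramForm b G)) = (2 : F) • G := by
  rw [polarBilin_gramForm b G hG, map_smul, LinearMap.BilinForm.toMatrix_toBilin]

theorem gramForm_nondeg (h2 : (2 : F) ≠ 0) (b : Basis ι F V) (G : Matrix ι ι F) (hG : G.IsSymm)
    (hdet : G.det ≠ 0) : (polarBilin (gramForm b G)).Nondegenerate := by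
  apply LinearMap.nondegenerate_of_det_ne_zero b
  show (LinearMap.BilinForm.toMatrix b (polarBilin (gramForm b G))).det ≠ 0
  rw [toMatrix_polarBilin_gramForm b G hG, Matrix.det_smul]
  exact mul_ne_zero (pow_ne_zero _ h2) hdet

theorem dch_gramForm (b : Basis ι F V) (G : Matrix ι ι F) (hG : G.IsSymm) :
    dch (gramForm b G) = quadraticChar F (2 ^ Fintype.card ι * G.det) := by
  rw [← dch_eq_of_basis _ b, toMatrix_polarBilin_gramForm b G hG, Matrix.det_smul]

theorem gramForm_sim (b : Basis ι F V) (G : Matrix ι ι F) (t : V →ₗ[F] V) (μ : F)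
    (h : ∀ i j, Matrix.toBilin b G (t (b i)) (t (b j)) = μ * G i j) (v : V) :
    gramForm b G (t v) = μ * gramForm b G v := by
  have h1 : (Matrix.toBilin b G).compl₁₂ t t = μ • Matrix.toBilin b G := by
    apply LinearMap.BilinForm.ext_basis b
    intro i j
    rw [LinearMap.compl₁₂_apply, h, LinearMap.smul_apply, LinearMap.smul_apply, toBilin_basis,
      smul_eq_mul]
  unfold gramForm
  rw [LinearMap.BilinMap.toQuadraticMap_apply, LinearMap.BilinMap.toQuadraticMap_apply,
    ← LinearMap.compl₁₂_apply, h1, LinearMap.smul_apply, LinearMap.smul_apply, smul_eq_mul]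

/-- Two Gram matrices whose determinants differ by a nonsquare realise both discriminant
characters. -/
theorem exists_gram_match (h2 : (2 : F) ≠ 0) (b : Basis ι F V) (G₁ G₂ : Matrix ι ι F)
    (hG₁ : G₁.IsSymm) (hG₂ : G₂.IsSymm) (hd₁ : G₁.det ≠ 0) (c : F) (hc : ¬ IsSquare c)
    (hd₂ : G₂.det = c * G₁.det) (δ : ℤ) (hδ : δ = 1 ∨ δ = -1) :
    (dch (gramForm b G₁) = δ) ∨ (G₂.det ≠ 0 ∧ dch (gramForm b G₂) = δ) := by
  have hc0 : c ≠ 0 := by
    rintro rfl
    exact hc ⟨0, by simp⟩
  have hx : (2 : F) ^ Fintype.card ι * G₁.det ≠ 0 := mul_ne_zero (pow_ne_zero _ h2) hd₁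
  have h1 := dch_gramForm b G₁ hG₁
  have h3 := dch_gramForm b G₂ hG₂
  have hχc : quadraticChar F c = -1 := quadraticChar_neg_one_iff_not_isSquare.mpr hc
  have h4 : (2 : F) ^ Fintype.card ι * G₂.det = c * ((2 : F) ^ Fintype.card ι * G₁.det) := by
    rw [hd₂]; ring
  rw [h4, map_mul, hχc] at h3
  rcases quadraticChar_dichotomy hx with h5 | h5
  · rw [h5] at h1 h3
    rcases hδ with rfl | rfl
    · exact Or.inl h1
    · refine Or.inr ⟨?_, by rw [h3]; ring⟩
      rw [hd₂]
      exact mul_ne_zero hc0 hd₁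
  · rw [h5] at h1 h3
    rcases hδ with rfl | rfl
    · refine Or.inr ⟨?_, by rw [h3]; ring⟩
      rw [hd₂]
      exact mul_ne_zero hc0 hd₁
    · exact Or.inl h1

end gram

section kbasis
variable {F : Type*} [Field F] {V : Type*} [AddCommGroup V] [Module F V] [FiniteDimensional F V]

/-- Normal form basis for `t ^ 2 = z • 1`, `z` a nonsquare. -/
theorem exists_basis_of_sq_eq_smul (z : F) (hz : ¬ IsSquare z) (t : V →ₗ[F] V)
    (ht : t ^ 2 = z • 1) :
    ∃ (m : ℕ) (b : Basis (Fin 2 × Fin m) F V), ∀ j, t (b (0, j)) = b (1, j) ∧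
      t (b (1, j)) = z • b (0, j) := by
  classical
  set f : F[X] := X ^ 2 - C z with hf
  have hf0 : f ≠ 0 := X_pow_sub_C_ne_zero (by norm_num) z
  have hdeg : f.natDegree = 2 := natDegree_X_pow_sub_C
  have hirr : Irreducible f := by
    apply X_pow_sub_C_irreducible_of_prime Nat.prime_two
    intro b hb
    exact hz ⟨b, by rw [← hb, pow_two]⟩
  haveI : Fact (Irreducible f) := ⟨hirr⟩
  let K := AdjoinRoot f
  have hev : aeval t f = 0 := by
    rw [hf, map_sub, map_pow, aeval_X, aeval_C, ht, Algebra.algebraMap_eq_smul_one, sub_self]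
  let φ : K →ₐ[F] Module.End F V := Ideal.Quotient.liftₐ (Ideal.span {f}) (aeval t) (by
    intro a ha
    obtain ⟨c, rfl⟩ := Ideal.mem_span_singleton.mp ha
    rw [map_mul, hev, zero_mul])
  letI : Module K V := Module.compHom V (φ : K →+* Module.End F V)
  have hsmul : ∀ (k : K) (v : V), k • v = φ k v := fun k v => rfl
  haveI : IsScalarTower F K V := ⟨fun a k v => by
    rw [hsmul, hsmul, map_smul, LinearMap.smul_apply]⟩
  haveI : Module.Finite K V := Module.Finite.of_restrictScalars_finite F K V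
  have hroot : ∀ v : V, (AdjoinRoot.root f) • v = t v := by
    intro v
    rw [hsmul]
    show (Ideal.Quotient.liftₐ (Ideal.span {f}) (aeval t) _) (AdjoinRoot.mk f X) v = t v
    have : (Ideal.Quotient.liftₐ (Ideal.span {f}) (aeval t) (by
        intro a ha
        obtain ⟨c, rfl⟩ := Ideal.mem_span_singleton.mp ha
        rw [map_mul, hev, zero_mul])) (AdjoinRoot.mk f X) = aeval t X := rfl
    rw [this, aeval_X]
  let bK := Module.finBasis K V
  let pb := AdjoinRoot.powerBasis hf0
  have hpbdim : pb.dim = 2 := by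
    show (AdjoinRoot.powerBasis hf0).dim = 2
    rw [AdjoinRoot.powerBasis_dim, hdeg]
  let bF : Basis (Fin pb.dim × Fin (finrank K V)) F V := pb.basis.smulTower bK
  have hbF : ∀ (i : Fin pb.dim) (j : Fin (finrank K V)),
      bF (i, j) = (AdjoinRoot.root f) ^ (i : ℕ) • bK j := by
    intro i j
    show (pb.basis.smulTower bK) (i, j) = _
    rw [Basis.smulTower_apply, PowerBasis.coe_basis]
    show (AdjoinRoot.powerBasis hf0).gen ^ (i : ℕ) • bK j = _
    rw [AdjoinRoot.powerBasis_gen]
  let e2 : Fin pb.dim ≃ Fin 2 := finCongr hpbdim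
  let b : Basis (Fin 2 × Fin (finrank K V)) F V :=
    bF.reindex (Equiv.prodCongr e2 (Equiv.refl _))
  have hb : ∀ (i : Fin 2) (j : Fin (finrank K V)),
      b (i, j) = (AdjoinRoot.root f) ^ (i : ℕ) • bK j := by
    intro i j
    show (bF.reindex (Equiv.prodCongr e2 (Equiv.refl _))) (i, j) = _
    rw [Basis.reindex_apply]
    show bF (e2.symm i, j) = _
    rw [hbF]
    rfl
  refine ⟨finrank K V, b, ?_⟩
  intro j
  have h0 : b (0, j) = bK j := by
    rw [hb]
    simp
  have h1 : b (1, j) = t (bK j) := by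
    rw [hb]
    simp [hroot]
  refine ⟨by rw [h0, h1], ?_⟩
  rw [h1, h0]
  have : t (t (bK j)) = (t ^ 2) (bK j) := by rw [pow_two, Module.End.mul_apply]
  rw [this, ht, LinearMap.smul_apply, Module.End.one_apply]

end kbasis

end Cfsg.Agent.Lib.Helper6.OSim
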