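import Mathlib
import Cfsg.Prelude.Def_GeometricClasses
import Cfsg.Prelude.Def_Classical
import Cfsg.Agent.Lib.Helper2.OrthNdE
import Cfsg.Agent.Lib.Helper2.IsoLin
import Cfsg.Agent.Lib.Helper9.OrthNM1
import Cfsg.Agent.S0286
import Cfsg.Agent.S0287
import Cfsg.Agent.S0288

set_option autoImplicit false
set_option linter.unusedSectionVars false

/-!
PK-IDXE1: the order of the isometry group and the number of singular vectors of an arbitrary
nondegenerate quadratic form on `F^n`, `q` odd, by classification and transport.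
-/

namespace Cfsg.Agent.Lib.Helper6.OSim

open Module QuadraticMap Cfsg.Geo
open scoped Matrix
open Cfsg.Agent.Lib.Helper2.OrthNd Cfsg.Agent.Lib.Helper2.OrthEl
open Cfsg.Agent.Lib.Helper5.QuadGlue

section cls
variable {F : Type*} [Field F] [Fintype F] {n : ℕ}

theorem isometryGroup_smul (Q : (Fin n → F) → F) (c : F) (hc : c ≠ 0) :
    Cfsg.isometryGroup F (fun v => c * Q v) = Cfsg.isometryGroup F Q := by
  ext g
  constructor
  · intro hg u v
    exact mul_left_cancel₀ hc (hg u v)
  · intro hg u v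
    show c * Q _ = c * Q u
    have : Q ((Units.coeHom (Matrix (Fin n) (Fin n) F)) g *ᵥ u) = Q u := hg u v
    rw [this]

theorem card_isometry_of_equiv {ι : Type} [Fintype ι] [DecidableEq ι] (Q : (Fin n → F) → F)
    (Q₂ : (ι → F) → F) (c : F) (hc : c ≠ 0) (e : (Fin n → F) ≃ₗ[F] (ι → F))
    (h : ∀ v, Q₂ (e v) = c * Q v) :
    Nat.card (Cfsg.isometryGroup F Q) = Nat.card (Cfsg.isometryGroup F Q₂) := by
  rw [← isometryGroup_smul Q c hc]
  exact Nat.card_congr (Cfsg.Agent.Lib.Helper2.IsoLin.isoOfLinearEquiv e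
    (Q₁ := fun v => c * Q v) (Q₂ := Q₂) h).toEquiv

/-- PK-IDXE1 -/
theorem quad_type (hodd : Odd (Fintype.card F)) (hn : 1 ≤ n) (Q : (Fin n → F) → F)
    (hQ : IsNondegenerateQuadraticForm Q) :
    (∃ m, n = 2 * m + 1 ∧
      Nat.card (Cfsg.isometryGroup F Q) = 2 * Fintype.card F ^ (m ^ 2) *
        ∏ i ∈ Finset.range m, (Fintype.card F ^ (2 * (i + 1)) - 1) ∧
      Nat.card {v : Fin n → F // Q v = 0} = Fintype.card F ^ (2 * m)) ∨
    (∃ m, 1 ≤ m ∧ n = 2 * m ∧
      Nat.card (Cfsg.isometryGroup F Q) = 2 * Fintype.card F ^ (m * (m - 1)) *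
        (Fintype.card F ^ m - 1) *
        ∏ i ∈ Finset.range (m - 1), (Fintype.card F ^ (2 * (i + 1)) - 1) ∧
      Nat.card {v : Fin n → F // Q v = 0} =
        Fintype.card F ^ (2 * m - 1) + Fintype.card F ^ m - Fintype.card F ^ (m - 1)) ∨
    (∃ m, 1 ≤ m ∧ n = 2 * m ∧
      Nat.card (Cfsg.isometryGroup F Q) = 2 * Fintype.card F ^ (m * (m - 1)) *
        (Fintype.card F ^ m + 1) *
        ∏ i ∈ Finset.range (m - 1), (Fintype.card F ^ (2 * (i + 1)) - 1) ∧
      Nat.card {v : Fin n → F // Q v = 0} =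
        Fintype.card F ^ (2 * m - 1) + Fintype.card F ^ (m - 1) - Fintype.card F ^ m) := by
  classical
  have h2 : (2 : F) ≠ 0 := two_ne_zero_of_odd_card hodd
  obtain ⟨Qm, hQm, hnd⟩ := Cfsg.Agent.H9Orth.exists_quadForm Q hQ
  have hfr : finrank F (Fin n → F) = n := by simp
  have hQv : ∀ v, Qm v = Q v := fun v => by rw [hQm]
  rcases Nat.even_or_odd' n with ⟨m, hm | hm⟩
  · -- even
    have hm1 : 1 ≤ m := by omega
    have hdim : finrank F (Fin n → F) = 2 * m := by rw [hfr, hm]
    have hm1' : (-1 : F) ≠ 0 := neg_ne_zero.2 one_ne_zero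
    have hχ : (quadraticChar F (-1)) ^ m = 1 ∨ (quadraticChar F (-1)) ^ m = -1 := by
      rcases quadraticChar_dichotomy hm1' with h | h
      · left; rw [h, one_pow]
      · rw [h]; exact neg_one_pow_eq_or ℤ m
    have hcases : dch Qm = (quadraticChar F (-1)) ^ m ∨ dch Qm = -(quadraticChar F (-1)) ^ m := by
      rcases dch_dichotomy hnd with h | h <;> rcases hχ with h' | h' <;> rw [h, h'] <;> simp
    rcases hcases with hd | hd
    · right; left
      refine ⟨m, hm1, hm, ?_, ?_⟩
      · obtain ⟨e, he⟩ := exists_isometry h2 hnd (Cfsg.Agent.Lib.Helper2.QuadStd.QP_nondeg m)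
          (by rw [hdim, finrank_plus_space]) (by rw [hd, dch_QP h2])
        rw [card_isometry_of_equiv Q (Cfsg.quadFormPlus m F) 1 one_ne_zero e
          (fun v => by rw [← QP_apply, he, one_mul, hQv])]
        exact Cfsg.Agent.S0287.result (F := F) rfl m hm1
      · have := card_singular_plus h2 hnd m hm1 hdim hd
        rw [← this]
        apply Nat.card_congr
        exact Equiv.subtypeEquivRight (fun v => by rw [hQv])
    · right; right
      refine ⟨m, hm1, hm, ?_, ?_⟩
      · obtain ⟨a', rfl⟩ : ∃ a', m = a' + 1 := ⟨m - 1, by omega⟩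
        obtain ⟨b₀, hab⟩ := exists_aniso (F := F) h2
        obtain ⟨e, he⟩ := exists_isometry h2 hnd
          (Cfsg.Agent.Lib.Helper2.QuadStd.QM_nondeg h2 a' 0 b₀ hab)
          (by rw [hdim, finrank_minus_space]) (by rw [hd, dch_QM h2 a' 0 b₀ hab])
        rw [card_isometry_of_equiv Q (Cfsg.quadFormMinus a' F 0 b₀) 1 one_ne_zero e
          (fun v => by rw [← QM_apply, he, one_mul, hQv])]
        have := Cfsg.Agent.S0288.result (F := F) rfl (a' + 1) (by omega) 0 b₀ hab
        rw [Nat.add_sub_cancel] at this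
        exact this
      · have := card_singular_minus h2 hnd m hm1 hdim hd
        rw [← this]
        apply Nat.card_congr
        exact Equiv.subtypeEquivRight (fun v => by rw [hQv])
  · -- odd
    left
    have hdim : finrank F (Fin n → F) = 2 * m + 1 := by rw [hfr, hm]
    refine ⟨m, hm, ?_, ?_⟩
    · obtain ⟨c, e, hc, he⟩ := exists_similarity_odd h2 hnd m hdim
      rw [card_isometry_of_equiv Q (Cfsg.quadFormOdd m F) c hc e
        (fun v => by rw [he, hQv])]
      exact Cfsg.Agent.S0286.result (F := F) rfl hodd m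
    · have := card_singular_odd hodd hnd m hdim
      rw [← this]
      apply Nat.card_congr
      exact Equiv.subtypeEquivRight (fun v => by rw [hQv])

end cls

end Cfsg.Agent.Lib.Helper6.OSim
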