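import Mathlib
import Cfsg.Agent.Lib.Helper6.OSim_IDXE1
import Cfsg.Agent.Lib.Lead.OSim_IDXE2
import Cfsg.Agent.Lib.Lead.OSim_IDXE3

set_option autoImplicit false
set_option linter.unusedSectionVars false

/-!
PK-IDXE: if `ord_r(q)` is even and `r` divides the index of `Sim(Q) ∩ SL_n` in `SL_n`, then
`ord_r(q) ∣ n` and `r` does not divide the number of nonzero singular vectors.
-/

namespace Cfsg.Agent.Lib.Helper6.OSim

open Module Polynomial Cfsg.Geo

variable {F : Type*} [Field F] [Fintype F] {p : ℕ} [Fact p.Prime] [CharP F p] {n : ℕ}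

/-- PK-IDXE: assembly. -/
theorem idx_even (hodd : Odd (Fintype.card F)) (hn : 3 ≤ n) (Q : (Fin n → F) → F)
    (hQ : IsNondegenerateQuadraticForm Q) (r : ℕ) [Fact r.Prime] (hrp : r ≠ p) (hr2 : r ≠ 2)
    (hi : Even (orderOf ((Fintype.card F : ℕ) : ZMod r)))
    (hΩ : r ∣ (quadSimilarityGroup Q).relIndex (specialLinear (Fin n) F)) :
    orderOf ((Fintype.card F : ℕ) : ZMod r) ∣ n ∧
      ¬ r ∣ Nat.card {v : Fin n → F // Q v = 0} - 1 := by
  classical
  have hr : r.Prime := Fact.out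
  have hp : p.Prime := Fact.out
  have hq2 : 2 ≤ Fintype.card F := Fintype.one_lt_card
  have hrq : ¬ r ∣ Fintype.card F := by
    intro h
    obtain ⟨f, hf⟩ := FiniteField.card F p
    rw [hf.2] at h
    exact hrp ((Nat.prime_dvd_prime_iff_eq hr hp).mp (hr.dvd_of_dvd_pow h))
  have hdvd := relIndex_mul_card_isometry_dvd Q
  rw [Matrix.card_GL_field] at hdvd
  have hdvd' : r * Nat.card (Cfsg.isometryGroup F Q) ∣
      ∏ i : Fin n, (Fintype.card F ^ n - Fintype.card F ^ (i : ℕ)) :=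
    (Nat.mul_dvd_mul_right hΩ _).trans hdvd
  rcases quad_type hodd (by omega) Q hQ with ⟨m, rfl, hO, hS⟩ | ⟨m, hm, rfl, hO, hS⟩ |
      ⟨m, hm, rfl, hO, hS⟩
  · rw [hO] at hdvd'
    exact (idx_arith_odd _ r m hq2 hr hr2 hrq hi hdvd').elim
  · rw [hO] at hdvd'
    rw [hS]
    exact idx_arith_plus _ r m hq2 hr hr2 hrq hi hm hdvd'
  · rw [hO] at hdvd'
    rw [hS]
    exact idx_arith_minus _ r m hq2 hr hr2 hrq hi hm hdvd'

end Cfsg.Agent.Lib.Helper6.OSim
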