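import Mathlib
import Cfsg.Agent.Lib.Helper6.OSim_Gram
import Cfsg.Agent.Lib.Helper1.SubF_EIG
import Cfsg.Agent.Lib.Helper1.DiagForm1

set_option autoImplicit false
set_option linter.unusedSectionVars false

/-!
PK-INV: an element `t` with `t ^ 2` scalar is a similitude of a quadratic form similar to any given
nondegenerate quadratic form (`q` odd).
-/

namespace Cfsg.Agent.Lib.Helper6.OSim

open Module Polynomial QuadraticMap Cfsg.Geo Cfsg.Agent.Lib.Helper2.OrthNd

section inv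
variable {F : Type*} [Field F] [Fintype F] {n : ℕ}

local notation "E" => (Fin n → F) →ₗ[F] (Fin n → F)

/-- A nondegenerate form with the discriminant character of `Q` is similar to `Q`. -/
theorem similar_of_dch [DecidableEq F] (h2 : (2 : F) ≠ 0) (Q : (Fin n → F) → F)
    (Qm : QuadraticForm F (Fin n → F)) (hQm : ⇑Qm = Q) (hnd : (polarBilin Qm).Nondegenerate)
    (Q'm : QuadraticForm F (Fin n → F)) (hnd' : (polarBilin Q'm).Nondegenerate)
    (hd : dch Q'm = dch Qm) : Similar (⇑Q'm) Q := by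
  obtain ⟨e, he⟩ := exists_isometry h2 hnd' hnd rfl hd
  refine ⟨1, e, one_ne_zero, fun v => ?_⟩
  rw [one_mul, ← hQm, he]

theorem inv_caseA [DecidableEq F] (hodd : Odd (Fintype.card F)) (hn : 2 ≤ n) (δ : ℤ)
    (hδ : δ = 1 ∨ δ = -1) (t : E) (d : F) (hd0 : d ≠ 0) (ht : t ^ 2 = (d * d) • 1) :
    ∃ Q'm : QuadraticForm F (Fin n → F), (polarBilin Q'm).Nondegenerate ∧ dch Q'm = δ ∧
      ∀ v, Q'm (t v) = (d * d) * Q'm v := by
  classical
  have h2 : (2 : F) ≠ 0 := Cfsg.Agent.Lib.Helper2.OrthEl.two_ne_zero_of_odd_card hodd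
  obtain ⟨p, hp⟩ := CharP.exists F
  haveI := hp
  haveI : Fact p.Prime := ⟨CharP.char_is_prime F p⟩
  haveI : Fact (Nat.Prime 2) := ⟨Nat.prime_two⟩
  have h2p : 2 ≠ p := by
    rintro rfl
    apply h2
    have := CharP.cast_eq_zero F 2
    exact_mod_cast this
  have h2d : 2 ∣ Fintype.card F - 1 := by
    obtain ⟨k, hk⟩ := hodd
    exact ⟨k, by omega⟩
  set s : E := d⁻¹ • t with hs
  have hs2 : s ^ 2 = 1 := by
    rw [hs, _root_.smul_pow, ht, smul_smul, inv_pow, pow_two, inv_mul_cancel₀ (mul_ne_zero hd0 hd0),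
      one_smul]
  have hts : t = d • s := by rw [hs, smul_smul, mul_inv_cancel₀ hd0, one_smul]
  obtain ⟨b, lam, hb⟩ := Cfsg.Agent.Lib.Helper6.SubF.exists_eigenbasis (p := p) 2 h2p h2d s hs2
  have hfr : finrank F (Fin n → F) = n := by simp
  have hlam : ∀ j, lam j * lam j = 1 := by
    intro j
    have h1 : (s ^ 2) (b j) = (lam j * lam j) • b j := by
      rw [pow_two, Module.End.mul_apply, hb, map_smul, hb, smul_smul]
    rw [hs2, Module.End.one_apply] at h1
    have h3 : (lam j * lam j - 1) • b j = 0 := by rw [sub_smul, ← h1, one_smul, sub_self]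
    rcases smul_eq_zero.mp h3 with h | h
    · exact sub_eq_zero.mp h
    · exact absurd h (b.ne_zero j)
  have htb : ∀ j, t (b j) = (d * lam j) • b j := by
    intro j
    rw [hts, LinearMap.smul_apply, hb, smul_smul]
  set j₀ : Fin (finrank F (Fin n → F)) := ⟨0, by rw [hfr]; omega⟩ with hj₀
  have hsim : ∀ (w : Fin (finrank F (Fin n → F)) → F) (i j : Fin (finrank F (Fin n → F))),
      Matrix.toBilin b (Matrix.diagonal w) (t (b i)) (t (b j)) =
        (d * d) * (Matrix.diagonal w) i j := by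
    intro w i j
    rw [htb, htb]
    simp only [map_smul, LinearMap.smul_apply, smul_eq_mul]
    rw [toBilin_basis]
    by_cases hij : i = j
    · subst hij
      rw [Matrix.diagonal_apply_eq]
      calc d * lam i * (d * lam i * w i) = (d * d) * (lam i * lam i) * w i := by ring
        _ = d * d * w i := by rw [hlam, mul_one]
    · rw [Matrix.diagonal_apply_ne _ hij]
      ring
  have hF : ringChar F ≠ 2 := by
    rw [ringChar.eq F p]
    exact h2p.symm
  obtain ⟨c₀, hc₀⟩ := FiniteField.exists_nonsquare hF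
  set w : F → Fin (finrank F (Fin n → F)) → F := fun c j => if j = j₀ then c else 1 with hw
  have hdet : ∀ c : F, (Matrix.diagonal (w c)).det = c := by
    intro c
    rw [Matrix.det_diagonal, hw]
    simp only
    rw [Finset.prod_ite_eq' Finset.univ j₀ (fun _ => c)]
    simp
  have hsymm : ∀ c : F, (Matrix.diagonal (w c)).IsSymm := fun c => Matrix.isSymm_diagonal _
  rcases exists_gram_match h2 b (Matrix.diagonal (w 1)) (Matrix.diagonal (w c₀)) (hsymm 1)
    (hsymm c₀) (by rw [hdet]; exact one_ne_zero) c₀ hc₀ (by rw [hdet, hdet, mul_one]) δ hδ with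
    h | ⟨h0, h⟩
  · exact ⟨gramForm b (Matrix.diagonal (w 1)),
      gramForm_nondeg h2 b _ (hsymm 1) (by rw [hdet]; exact one_ne_zero), h,
      gramForm_sim b _ t (d * d) (hsim (w 1))⟩
  · exact ⟨gramForm b (Matrix.diagonal (w c₀)), gramForm_nondeg h2 b _ (hsymm c₀) h0, h,
      gramForm_sim b _ t (d * d) (hsim (w c₀))⟩

theorem inv_caseB [DecidableEq F] (hodd : Odd (Fintype.card F)) (hn : 2 ≤ n) (δ : ℤ)
    (hδ : δ = 1 ∨ δ = -1) (t : E) (z : F) (hz0 : z ≠ 0) (hz : ¬ IsSquare z)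
    (ht : t ^ 2 = z • 1) :
    ∃ Q'm : QuadraticForm F (Fin n → F), (polarBilin Q'm).Nondegenerate ∧ dch Q'm = δ ∧
      ∀ v, Q'm (t v) = z * Q'm v := by
  classical
  have h2 : (2 : F) ≠ 0 := Cfsg.Agent.Lib.Helper2.OrthEl.two_ne_zero_of_odd_card hodd
  obtain ⟨m, b, hb⟩ := exists_basis_of_sq_eq_smul z hz t ht
  have hm : 1 ≤ m := by
    have h1 := Module.finrank_eq_card_basis b
    rw [Module.finrank_fin_fun, Fintype.card_prod, Fintype.card_fin, Fintype.card_fin] at h1
    omega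
  set j₀ : Fin m := ⟨0, hm⟩ with hj₀
  obtain ⟨α, β, hαβ⟩ := Cfsg.Agent.Lib.Helper1.DiagForm.diag_universal' h2 (A := 1) (C := -z)
    one_ne_zero (neg_ne_zero.mpr hz0) z
  have hαβ' : α ^ 2 - z * β ^ 2 = z := by linear_combination hαβ
  -- the blocks
  set A : F → Fin m → F := fun a j => if j = j₀ then a else 1 with hA
  set C : F → Fin m → F := fun c j => if j = j₀ then c else 0 with hC
  set M : F → F → Fin m → Matrix (Fin 2) (Fin 2) F :=
    fun a c j => !![A a j, C c j * z; C c j * z, A a j * z] with hM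
  set G : F → F → Matrix (Fin 2 × Fin m) (Fin 2 × Fin m) F :=
    fun a c => Matrix.blockDiagonal (M a c) with hG
  have hsymm : ∀ a c, (G a c).IsSymm := by
    intro a c
    show (Matrix.blockDiagonal (M a c)).transpose = Matrix.blockDiagonal (M a c)
    rw [Matrix.blockDiagonal_transpose]
    congr 1
    funext j
    ext i i'
    fin_cases i <;> fin_cases i' <;> simp [hM]
  have hdetM : ∀ a c j, (M a c j).det = z * (if j = j₀ then (a ^ 2 - z * c ^ 2) else 1) := by
    intro a c j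
    rw [hM]
    simp only
    rw [Matrix.det_fin_two_of, hA, hC]
    simp only
    by_cases h : j = j₀
    · rw [if_pos h, if_pos h, if_pos h]; ring
    · rw [if_neg h, if_neg h, if_neg h]; ring
  have hdet : ∀ a c, (G a c).det = (a ^ 2 - z * c ^ 2) * z ^ m := by
    intro a c
    show (Matrix.blockDiagonal (M a c)).det = _
    rw [Matrix.det_blockDiagonal]
    simp_rw [hdetM]
    rw [Finset.prod_mul_distrib, Finset.prod_const, Finset.card_univ, Fintype.card_fin,
      Finset.prod_ite_eq' Finset.univ j₀ (fun _ => a ^ 2 - z * c ^ 2)]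
    simp only [Finset.mem_univ, if_true]
    ring
  have hGapp : ∀ a c (i₁ i₂ : Fin 2) (j₁ j₂ : Fin m),
      G a c (i₁, j₁) (i₂, j₂) = if j₁ = j₂ then M a c j₁ i₁ i₂ else 0 := by
    intro a c i₁ i₂ j₁ j₂
    exact Matrix.blockDiagonal_apply' (M a c) i₁ j₁ i₂ j₂
  have hM00 : ∀ a c j, M a c j 0 0 = A a j := by intro a c j; simp [hM]
  have hM01 : ∀ a c j, M a c j 0 1 = C c j * z := by intro a c j; simp [hM]
  have hM10 : ∀ a c j, M a c j 1 0 = C c j * z := by intro a c j; simp [hM]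
  have hM11 : ∀ a c j, M a c j 1 1 = A a j * z := by intro a c j; simp [hM]
  have hsim : ∀ a c (i j : Fin 2 × Fin m),
      Matrix.toBilin b (G a c) (t (b i)) (t (b j)) = z * G a c i j := by
    intro a c i j
    obtain ⟨i₁, j₁⟩ := i
    obtain ⟨i₂, j₂⟩ := j
    fin_cases i₁ <;> fin_cases i₂
    · show Matrix.toBilin b (G a c) (t (b (0, j₁))) (t (b (0, j₂))) = z * G a c (0, j₁) (0, j₂)
      rw [(hb j₁).1, (hb j₂).1, toBilin_basis, hGapp, hGapp]
      by_cases h : j₁ = j₂
      · rw [if_pos h, if_pos h, hM11, hM00]; ring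
      · rw [if_neg h, if_neg h, mul_zero]
    · show Matrix.toBilin b (G a c) (t (b (0, j₁))) (t (b (1, j₂))) = z * G a c (0, j₁) (1, j₂)
      rw [(hb j₁).1, (hb j₂).2]
      simp only [map_smul, LinearMap.smul_apply, smul_eq_mul]
      rw [toBilin_basis, hGapp, hGapp]
      by_cases h : j₁ = j₂
      · rw [if_pos h, if_pos h, hM10, hM01]
      · rw [if_neg h, if_neg h]
    · show Matrix.toBilin b (G a c) (t (b (1, j₁))) (t (b (0, j₂))) = z * G a c (1, j₁) (0, j₂)
      rw [(hb j₁).2, (hb j₂).1]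
      simp only [map_smul, LinearMap.smul_apply, smul_eq_mul]
      rw [toBilin_basis, hGapp, hGapp]
      by_cases h : j₁ = j₂
      · rw [if_pos h, if_pos h, hM10, hM01]
      · rw [if_neg h, if_neg h]
    · show Matrix.toBilin b (G a c) (t (b (1, j₁))) (t (b (1, j₂))) = z * G a c (1, j₁) (1, j₂)
      rw [(hb j₁).2, (hb j₂).2]
      simp only [map_smul, LinearMap.smul_apply, smul_eq_mul]
      rw [toBilin_basis, hGapp, hGapp]
      by_cases h : j₁ = j₂
      · rw [if_pos h, if_pos h, hM11, hM00]; ring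
      · rw [if_neg h, if_neg h]; ring
  have hd1 : (G 1 0).det ≠ 0 := by
    rw [hdet]
    exact mul_ne_zero (by simp) (pow_ne_zero _ hz0)
  rcases exists_gram_match h2 b (G 1 0) (G α β) (hsymm 1 0) (hsymm α β) hd1 z hz
    (by rw [hdet, hdet, hαβ']; ring) δ hδ with h | ⟨h0, h⟩
  · exact ⟨gramForm b (G 1 0), gramForm_nondeg h2 b _ (hsymm 1 0) hd1, h,
      gramForm_sim b _ t z (hsim 1 0)⟩
  · exact ⟨gramForm b (G α β), gramForm_nondeg h2 b _ (hsymm α β) h0, h,
      gramForm_sim b _ t z (hsim α β)⟩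

/-- PK-INV -/
theorem exists_similar_qsim_of_sq (hodd : Odd (Fintype.card F)) (hn : 2 ≤ n)
    (Q : (Fin n → F) → F) (hQ : IsNondegenerateQuadraticForm Q)
    (t : (Fin n → F) →ₗ[F] (Fin n → F)) (z : F) (hz : z ≠ 0) (ht : t ^ 2 = z • 1)
    (hns : ∀ c : F, t ≠ c • 1) :
    ∃ (Q' : (Fin n → F) → F) (μ : F), μ ≠ 0 ∧ Similar Q' Q ∧ QSim Q' t μ := by
  classical
  have _ := hns
  have h2 : (2 : F) ≠ 0 := Cfsg.Agent.Lib.Helper2.OrthEl.two_ne_zero_of_odd_card hodd
  obtain ⟨Qm, hQm, hnd⟩ := Cfsg.Agent.H9Orth.exists_quadForm Q hQ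
  have hδ := dch_dichotomy hnd
  by_cases hsq : IsSquare z
  · obtain ⟨d, rfl⟩ := hsq
    have hd0 : d ≠ 0 := by
      rintro rfl
      exact hz (by simp)
    obtain ⟨Q'm, hnd', hd, hsim⟩ := inv_caseA hodd hn (dch Qm) hδ t d hd0 ht
    exact ⟨⇑Q'm, d * d, hz, similar_of_dch h2 Q Qm hQm hnd Q'm hnd' hd, hsim⟩
  · obtain ⟨Q'm, hnd', hd, hsim⟩ := inv_caseB hodd hn (dch Qm) hδ t z hz hsq ht
    exact ⟨⇑Q'm, z, hz, similar_of_dch h2 Q Qm hQm hnd Q'm hnd' hd, hsim⟩

end inv

end Cfsg.Agent.Lib.Helper6.OSim
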