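import Mathlib
import Cfsg.Agent.Lib.Helper6.OSim_ADJ
import Cfsg.Agent.Lib.Helper5.AltForm
import Cfsg.Agent.Lib.Helper9.Elus3
import Cfsg.Agent.Lib.Helper9.Elus6

set_option autoImplicit false
set_option linter.unusedSectionVars false

/-!
PK-ODD: if `ord_r(q)` is odd and at least 3, an element of order `r` with a single cyclotomic block
is not a similitude of any nondegenerate quadratic map: `t - t⁻¹` would give a nondegenerate
alternating form on the block, of odd dimension.
-/

namespace Cfsg.Agent.Lib.Helper6.OSim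

open Module Polynomial Cfsg.Geo Cfsg.Agent.Lib.Helper4.SimU Cfsg.Agent.Lib.Helper5.PSLCoset
  Cfsg.Agent.Lib.Helper9.H9Elus

section odd
variable {F : Type*} [Field F] [Fintype F] {p : ℕ} [Fact p.Prime] [CharP F p] {n : ℕ}

local notation "E" => (Fin n → F) →ₗ[F] (Fin n → F)

theorem not_qsim_of_odd_order (h2 : (2 : F) ≠ 0) (r : ℕ) [Fact r.Prime] (hrp : r ≠ p)
    (hr2 : r ≠ 2) (hi : Odd (orderOf ((Fintype.card F : ℕ) : ZMod r)))
    (hi3 : 3 ≤ orderOf ((Fintype.card F : ℕ) : ZMod r))
    (t : (Fin n → F) →ₗ[F] (Fin n → F)) (ht : t ^ r = 1) (ht1 : t ≠ 1)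
    (hfix : n ≤ finrank F (LinearMap.ker (aeval t (X - 1 : F[X]))) +
      orderOf ((Fintype.card F : ℕ) : ZMod r))
    (Q' : (Fin n → F) → F) (hQ' : IsNondegenerateQuadraticForm Q') (μ : F) :
    ¬ QSim Q' t μ := by
  classical
  intro hq
  have _ := h2
  have hr : r.Prime := Fact.out
  have hrodd : Odd r := hr.odd_of_ne_two hr2
  set i := orderOf ((Fintype.card F : ℕ) : ZMod r) with hidef
  have hH := isHerm_polar Q' hQ'
  have hnd := nondeg_polar Q' hQ'
  have hsim := isSim_polar Q' t μ hq
  set B : (Fin n → F) → (Fin n → F) → F := QuadraticMap.polar Q' with hB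
  set K := LinearMap.ker (aeval t (X - 1 : F[X])) with hK
  set W := LinearMap.ker (aeval t (cyclotomic r F)) with hW
  have hc : IsCompl K W := isCompl_ker r hrp t ht
  have hfr : finrank F (Fin n → F) = n := by simp
  have hsum : finrank F K + finrank F W = n :=
    (Submodule.finrank_add_eq_of_isCompl hc).trans hfr
  have hmemK : ∀ v, v ∈ K ↔ t v = v := by
    intro v
    rw [hK, LinearMap.mem_ker, map_sub, aeval_X, map_one, LinearMap.sub_apply,
      Module.End.one_apply, sub_eq_zero]
  -- `W ≠ ⊥`
  have hWne : W ≠ ⊥ := by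
    intro hW0
    have hKtop : K = ⊤ := by
      have := hc.sup_eq_top
      rwa [hW0, sup_bot_eq] at this
    apply ht1
    apply LinearMap.ext
    intro v
    rw [Module.End.one_apply]
    exact (hmemK v).mp (hKtop ▸ Submodule.mem_top)
  have hWpos : 0 < finrank F W := Submodule.one_le_finrank_iff.mpr hWne
  have hdvd : i ∣ finrank F W := order_dvd_finrank_ker r hrp t ht
  have hWi : finrank F W = i := by
    have hle : finrank F W ≤ i := by omega
    exact le_antisymm hle (Nat.le_of_dvd hWpos hdvd)
  -- `μ = 1`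
  have hne : ∃ u v, B u v ≠ 0 := by
    obtain ⟨w, hwW, hw0⟩ := Submodule.exists_mem_ne_zero_of_ne_bot hWne
    obtain ⟨v, hv⟩ := hnd w hw0
    exact ⟨w, v, hv⟩
  have hμr : μ ^ r = 1 := by
    have := IsSim.pow_eq (σ := RingEquiv.refl F) hH hne hsim r 1 (by rw [ht, one_smul])
    rwa [RingEquiv.refl_apply, mul_one] at this
  have hμ0 : μ ≠ 0 := by
    rintro rfl
    rw [zero_pow hr.ne_zero] at hμr
    exact zero_ne_one hμr
  have hcard1 : 1 ≤ Fintype.card F := Fintype.card_pos
  have hnd1 : ¬ r ∣ Fintype.card F - 1 := by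
    intro h
    have := (orderOf_eq_one_iff_dvd r _ hcard1).mpr h
    omega
  have hμ1 : μ = 1 := by
    have h1 : μ ^ (Fintype.card F - 1) = 1 := FiniteField.pow_card_sub_one_eq_one μ hμ0
    have h3 := pow_gcd_eq_one.mpr ⟨hμr, h1⟩
    have h4 : Nat.gcd r (Fintype.card F - 1) = 1 :=
      (Nat.Prime.coprime_iff_not_dvd hr).mpr hnd1
    rwa [h4, pow_one] at h3
  rw [hμ1] at hsim
  have hiso : ∀ (k : ℕ) (u v : Fin n → F), B ((t ^ k) u) ((t ^ k) v) = B u v := by
    intro k u v
    have := (hsim.pow k) u v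
    rwa [one_pow, one_mul] at this
  have hBsymm : ∀ u v, B u v = B v u := fun u v => QuadraticMap.polar_comm Q' u v
  have hr1 : 1 ≤ r := hr.one_le
  have htt : ∀ v, (t ^ (r - 1)) (t v) = v := by
    intro v
    rw [← Module.End.mul_apply, ← pow_succ, Nat.sub_add_cancel hr1, ht, Module.End.one_apply]
  have htt' : ∀ v, t ((t ^ (r - 1)) v) = v := by
    intro v
    rw [← Module.End.mul_apply, ← pow_succ', Nat.sub_add_cancel hr1, ht, Module.End.one_apply]
  -- the skew map
  set S : E := t - t ^ (r - 1) with hS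
  have hSalt : ∀ u, B (S u) u = 0 := by
    intro u
    rw [hS, LinearMap.sub_apply, hH.sub_left]
    have h1 : B ((t ^ (r - 1)) u) u = B u (t u) := by
      have := hiso (r - 1) u (t u)
      rw [htt] at this
      exact this
    rw [h1, hBsymm u (t u), sub_self]
  have hSK : ∀ k ∈ K, ∀ x, B (S x) k = 0 := by
    intro k hk x
    have hk1 : t k = k := (hmemK k).mp hk
    have hk2 : (t ^ (r - 1)) k = k := by
      have := htt k
      rwa [hk1] at this
    rw [hS, LinearMap.sub_apply, hH.sub_left]
    have h1 : B (t x) k = B x k := by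
      have := hiso 1 x k
      rwa [pow_one, hk1] at this
    have h3 : B ((t ^ (r - 1)) x) k = B x k := by
      have := hiso (r - 1) x k
      rwa [hk2] at this
    rw [h1, h3, sub_self]
  have hSinj : ∀ x ∈ W, S x = 0 → x = 0 := by
    intro x hxW hSx
    rw [hS, LinearMap.sub_apply, sub_eq_zero] at hSx
    -- `t² x = x`
    have h1 : t (t x) = x := by
      rw [hSx, htt']
    -- `t x = x`
    obtain ⟨m, hm⟩ := hrodd
    have h3 : ∀ j : ℕ, (t ^ (2 * j)) x = x := by
      intro j
      induction j with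
      | zero => simp
      | succ j ih =>
        rw [Nat.mul_succ, pow_add, Module.End.mul_apply, pow_two, Module.End.mul_apply, h1, ih]
    have h4 : t x = x := by
      have h5 : (t ^ r) x = x := by rw [ht, Module.End.one_apply]
      rw [hm, pow_succ', Module.End.mul_apply, h3 m] at h5
      exact h5
    have hxK : x ∈ K := (hmemK x).mpr h4
    exact (Submodule.disjoint_def.mp hc.disjoint) x hxK hxW
  -- the alternating form on `W`
  let A : LinearMap.BilinForm F W :=
    LinearMap.mk₂ F (fun u v : W => B (S u.1) v.1)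
      (fun u u' v => by
        show B (S (u + u' : W).1) v.1 = _
        rw [Submodule.coe_add, map_add, hH.add_left])
      (fun a u v => by
        show B (S (a • u : W).1) v.1 = _
        rw [Submodule.coe_smul, map_smul, hH.smul_left, smul_eq_mul])
      (fun u v v' => by
        show B (S u.1) (v + v' : W).1 = _
        rw [Submodule.coe_add, hH.add_right])
      (fun a u v => by
        show B (S u.1) (a • v : W).1 = _
        rw [Submodule.coe_smul, hH.smul_right, RingEquiv.refl_apply, smul_eq_mul])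
  have hAapp : ∀ u v : W, A u v = B (S u.1) v.1 := fun u v => rfl
  have hAalt : A.IsAlt := by
    intro u
    rw [hAapp]
    exact hSalt u.1
  have hAnd : ∀ x : W, (∀ y : W, A x y = 0) → x = 0 := by
    intro x hx
    apply Subtype.ext
    rw [Submodule.coe_zero]
    apply hSinj x.1 x.2
    by_contra hSx
    obtain ⟨v, hv⟩ := hnd (S x.1) hSx
    apply hv
    have hv' : v ∈ K ⊔ W := by rw [hc.sup_eq_top]; exact Submodule.mem_top
    obtain ⟨k, hk, w, hw, rfl⟩ := Submodule.mem_sup.mp hv'
    show B (S x.1) (k + w) = 0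
    rw [hH.add_right, hSK k hk, zero_add]
    exact hx ⟨w, hw⟩
  have heven := Cfsg.Agent.Lib.Helper5.AltForm.even_finrank_of_nondegenerate hAalt hAnd
  rw [hWi] at heven
  exact (Nat.not_even_iff_odd.mpr hi) heven

end odd

end Cfsg.Agent.Lib.Helper6.OSim
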