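import Mathlib
import Cfsg.Agent.Lib.Helper6.SubF_Models
import Cfsg.Agent.Lib.Helper6.SubF_Comb
import Cfsg.Agent.Lib.Helper9.GReal5
import Cfsg.Agent.Lib.Helper9.Elus6
import Cfsg.Agent.Lib.Helper9.Elus4

set_option autoImplicit false
set_option linter.unusedSectionVars false

/-!
The backward direction of the subfield row for `PSL_n(q)`, odd `r ≠ p`.  The realisability of
elements of order `r` over the subfield and the determinants of centralisers enter as hypotheses.
-/

namespace Cfsg.Agent.Lib.Helper6.SubF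

open Module Polynomial Cfsg.Agent.Lib.Helper9.H9GReal Cfsg.Agent.Lib.Helper9.H9Elus
open scoped Matrix

section bwd
variable {F : Type*} [Field F] [Fintype F] {p : ℕ} [Fact p.Prime] [CharP F p] {n : ℕ}

local notation "Mat" => Matrix (Fin n) (Fin n) F
local notation "E" => (Fin n → F) →ₗ[F] (Fin n → F)

/-- Common reduction: from `x ^ r = z • 1` in `SL_n` to the linear map. -/
theorem toLin_pow_eq (x : Matrix.SpecialLinearGroup (Fin n) F) (r : ℕ) (z : F)
    (hz : ((x ^ r : Matrix.SpecialLinearGroup (Fin n) F) : Mat) = z • (1 : Mat)) :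
    (Matrix.toLin' (x : Mat)) ^ r = z • (1 : E) := by
  rw [← Matrix.toLin'_pow, ← Matrix.SpecialLinearGroup.coe_pow, hz, map_smul, Matrix.toLin'_one]
  rfl

theorem det_toLin_SL (x : Matrix.SpecialLinearGroup (Fin n) F) :
    LinearMap.det (Matrix.toLin' (x : Mat)) = 1 := by
  rw [LinearMap.det_toLin', Matrix.SpecialLinearGroup.det_coe]

/-- The final step: `x = d • s` with `s` realisable over `F₀` and enough centralising
determinants. -/
theorem conj_of_real (hn : 1 ≤ n) (F₀ : Subfield F) (x : Matrix.SpecialLinearGroup (Fin n) F)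
    (d : F) (hd : d ≠ 0) (s : E) (hts : Matrix.toLin' (x : Mat) = d • s) (hs : RealOver F₀ s)
    (hcent : ∀ δ : F, δ ≠ 0 → ∃ c : E, LinearMap.det c = δ ∧
      ∀ v, c (Matrix.toLin' (x : Mat) v) = Matrix.toLin' (x : Mat) (c v)) :
    ∃ P : Matrix.SpecialLinearGroup (Fin n) F,
      P⁻¹ * x * P ∈ (Cfsg.Geo.subfieldSubgroup F₀ (1 : GL (Fin n) F)).comap
        (Matrix.SpecialLinearGroup.toGL : Matrix.SpecialLinearGroup (Fin n) F →* GL (Fin n) F) := by
  apply conj_mem_subfield' hn F₀ x d hd s hts hs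
  intro δ hδ
  obtain ⟨c, hdet, hc⟩ := hcent δ hδ
  exact ⟨c, hc, 1, F₀.one_mem, one_ne_zero, by rw [hdet, mul_one]⟩

/-- The case `r = k`. -/
theorem backward_prime (hn : 2 ≤ n) (F₀ : Subfield F) (q₀ : ℕ) (hF₀ : Nat.card ↥F₀ = q₀)
    (r : ℕ) [Fact r.Prime] (hr2 : r ≠ 2) (hq : Fintype.card F = q₀ ^ r)
    (hgapk : r ∣ q₀ - 1 → padicValNat r n ≤ padicValNat r (Fintype.card F - 1))
    (hreal : ∀ y : E, y ^ r = 1 → RealOver F₀ y)
    (hcent : ∀ (t : E) (z : F), z ≠ 0 → t ^ r = z • 1 → ∀ δ : F, δ ≠ 0 →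
      ∃ c : E, LinearMap.det c = δ ∧ ∀ v, c (t v) = t (c v)) :
    AllConj (F := F) F₀ n r := by
  classical
  have hr : r.Prime := Fact.out
  intro x hx hns
  obtain ⟨z, hz⟩ := hx
  set t : E := Matrix.toLin' (x : Mat) with ht
  have htr : t ^ r = z • 1 := toLin_pow_eq x r z hz
  haveI : Nonempty (Fin n) := ⟨⟨0, by omega⟩⟩
  have hz0 : z ≠ 0 := by
    rintro rfl
    have h1 := congrArg Matrix.det hz
    rw [Matrix.SpecialLinearGroup.det_coe, zero_smul, Matrix.det_zero] at h1
    exact one_ne_zero h1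
  have hfr : finrank F (Fin n → F) = n := by simp
  have hq₀1 : 1 ≤ q₀ := by
    have : 0 < Nat.card F₀ := Nat.card_pos
    omega
  have hcard1 : 1 ≤ Fintype.card F := Fintype.card_pos
  -- `z` is an `r`-th power
  have hpow : ∃ d : F, d ^ r = z := by
    by_cases hd : r ∣ Fintype.card F - 1
    · by_contra hcon
      push Not at hcon
      have hdet := det_of_pow_eq_smul r hr z hcon t htr
      rw [ht, det_toLin_SL, hfr] at hdet
      have hrn : r ∣ n := by
        have := dvd_finrank_of_inv r hr z hcon t htr ⊤ (fun v _ => Submodule.mem_top)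
        rwa [finrank_top, hfr] at this
      have hq₀ : r ∣ q₀ - 1 := by
        apply (natCast_eq_one_iff r q₀ hq₀1).mp
        have h1 : ((Fintype.card F : ℕ) : ZMod r) = 1 := (natCast_eq_one_iff r _ hcard1).mpr hd
        rw [hq, Nat.cast_pow, ZMod.pow_card] at h1
        exact h1
      obtain ⟨b, hb⟩ := is_power_of_arith r hr hd n (by omega) hrn (hgapk hq₀)
        (fun h => absurd h hr2) z hz0 hdet.symm
      exact hcon b hb
    · exact exists_pow_eq_of_not_dvd r hr hd z
  obtain ⟨d, rfl⟩ := hpow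
  have hd0 : d ≠ 0 := by
    rintro rfl
    exact hz0 (zero_pow hr.ne_zero)
  set s : E := d⁻¹ • t with hs
  have hsr : s ^ r = 1 := by
    rw [hs, _root_.smul_pow, htr, smul_smul, inv_pow, inv_mul_cancel₀ (pow_ne_zero r hd0), one_smul]
  have hts : t = d • s := by
    rw [hs, smul_smul, mul_inv_cancel₀ hd0, one_smul]
  exact conj_of_real (by omega) F₀ x d hd0 s hts (hreal s hsr)
    (hcent t (d ^ r) hz0 htr)

end bwd

section eigb
variable {F : Type*} [Field F] {V : Type*} [AddCommGroup V] [Module F V]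
  {ι : Type*} [Fintype ι]

theorem repr_of_eigenbasis (b : Basis ι F V) (lam : ι → F) (t : V →ₗ[F] V)
    (hb : ∀ j, t (b j) = lam j • b j) (v : V) (j : ι) :
    b.repr (t v) j = lam j * b.repr v j := by
  classical
  have h1 : t v = ∑ i, (lam i * b.repr v i) • b i := by
    conv_lhs => rw [← b.sum_repr v]
    rw [map_sum]
    apply Finset.sum_congr rfl
    intro i _
    rw [map_smul, hb, smul_smul, mul_comm]
  rw [h1, b.repr_sum_self]

theorem finrank_eigenspace_of_eigenbasis [DecidableEq F] (b : Basis ι F V) (lam : ι → F)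
    (t : V →ₗ[F] V) (hb : ∀ j, t (b j) = lam j • b j) (μ : F) :
    finrank F (Module.End.eigenspace t μ) = (Finset.univ.filter fun j => lam j = μ).card := by
  classical
  have h1 : Module.End.eigenspace t μ = Submodule.span F (b '' {j | lam j = μ}) := by
    ext v
    rw [Module.End.mem_eigenspace_iff, b.mem_span_image]
    constructor
    · intro hv j hj
      rw [Finset.mem_coe, Finsupp.mem_support_iff] at hj
      have h2 := repr_of_eigenbasis b lam t hb v j
      rw [hv, map_smul, Finsupp.smul_apply, smul_eq_mul] at h2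
      have h3 : (lam j - μ) * b.repr v j = 0 := by rw [sub_mul, ← h2, sub_self]
      rcases mul_eq_zero.mp h3 with h | h
      · exact sub_eq_zero.mp h
      · exact absurd h hj
    · intro hv
      apply b.repr.injective
      ext j
      rw [repr_of_eigenbasis b lam t hb v j, map_smul, Finsupp.smul_apply, smul_eq_mul]
      by_cases hj : b.repr v j = 0
      · rw [hj, mul_zero, mul_zero]
      · have : j ∈ {j | lam j = μ} := hv (by
          rw [Finset.mem_coe, Finsupp.mem_support_iff]; exact hj)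
        have this' : lam j = μ := this
        rw [this']
  have h2 : b '' {j | lam j = μ} = Set.range (fun j : {j // lam j = μ} => b j) := by
    ext v
    constructor
    · rintro ⟨j, hj, rfl⟩
      exact ⟨⟨j, hj⟩, rfl⟩
    · rintro ⟨⟨j, hj⟩, rfl⟩
      exact ⟨j, hj, rfl⟩
  have h3 : LinearIndependent F (fun j : {j // lam j = μ} => b j) :=
    b.linearIndependent.comp _ Subtype.val_injective
  rw [h1, h2, finrank_span_eq_card h3, Fintype.card_subtype]

theorem det_of_eigenbasis [DecidableEq ι] (b : Basis ι F V) (lam : ι → F)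
    (t : V →ₗ[F] V) (hb : ∀ j, t (b j) = lam j • b j) :
    LinearMap.det t = ∏ j, lam j := by
  classical
  rw [← LinearMap.det_toMatrix b t]
  have : LinearMap.toMatrix b b t = Matrix.diagonal lam := by
    ext i j
    rw [LinearMap.toMatrix_apply, hb, map_smul, Finsupp.smul_apply, b.repr_self,
      Finsupp.single_apply, Matrix.diagonal_apply, smul_eq_mul]
    by_cases hij : i = j
    · subst hij; simp
    · simp [hij, Ne.symm hij]
  rw [this, Matrix.det_diagonal]

theorem pow_apply_eigen (t : V →ₗ[F] V) (v : V) (l : F) (h : t v = l • v) (m : ℕ) :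
    (t ^ m) v = l ^ m • v := by
  induction m with
  | zero => simp
  | succ m ih =>
    rw [pow_succ, Module.End.mul_apply, h, map_smul, ih, smul_smul, pow_succ, mul_comm]

end eigb


section special
variable {F : Type*} [Field F] [Fintype F] {p : ℕ} [Fact p.Prime] [CharP F p] {n : ℕ}

local notation "Mat" => Matrix (Fin n) (Fin n) F
local notation "E" => (Fin n → F) →ₗ[F] (Fin n → F)

theorem wz_sum {r : ℕ} [NeZero r] (ω : F) (hω : ω ^ r = 1) {ι : Type*} (s : Finset ι)
    (a : ι → ZMod r) : wz ω (∑ j ∈ s, a j) = ∏ j ∈ s, wz ω (a j) := by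
  classical
  induction s using Finset.induction_on with
  | empty => simp [wz_zero]
  | insert j s hj ih => rw [Finset.sum_insert hj, Finset.prod_insert hj, wz_add ω hω, ih]

theorem wz_neg {r : ℕ} [NeZero r] (ω : F) (hω : ω ^ r = 1) (u : ZMod r) :
    wz ω (-u) = (wz ω u)⁻¹ := by
  apply eq_inv_of_mul_eq_one_left
  rw [← wz_add ω hω, neg_add_cancel, wz_zero]

theorem exists_wz_eq {r : ℕ} [NeZero r] (ω : F) (hω : IsPrimitiveRoot ω r) (μ : F)
    (hμ : μ ^ r = 1) : ∃ u : ZMod r, wz ω u = μ := by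
  obtain ⟨i, -, hi⟩ := hω.eq_pow_of_pow_eq_one hμ
  exact ⟨(i : ZMod r), by rw [wz_natCast ω hω.pow_eq_one, hi]⟩

/-- The special case `k = 2`, `r = n ∈ {3, 5}`, `(q₀ + 1)_r = r`. -/
theorem backward_special (F₀ : Subfield F) (q₀ : ℕ) (hF₀ : Nat.card ↥F₀ = q₀)
    (r : ℕ) [Fact r.Prime] (hr2 : r ≠ 2) (hq : Fintype.card F = q₀ ^ 2)
    (hrn : r = n) (hn35 : n = 3 ∨ n = 5) (hv : padicValNat r (q₀ + 1) = 1)
    (hsym : ∀ y : E, y ^ r = 1 →
      (∀ μ : F, finrank F (Module.End.eigenspace y μ) =
        finrank F (Module.End.eigenspace y μ⁻¹)) → RealOver F₀ y)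
    (heig : ∀ y : E, y ^ r = 1 → ∃ (ι : Type) (_ : Fintype ι) (b : Basis ι F (Fin n → F))
      (lam : ι → F), ∀ j, y (b j) = lam j • b j)
    (hcent : ∀ (t : E) (z : F), z ≠ 0 → t ^ r = z • 1 → ∀ δ : F, δ ≠ 0 →
      ∃ c : E, LinearMap.det c = δ ∧ ∀ v, c (t v) = t (c v)) :
    AllConj (F := F) F₀ n r := by
  classical
  have hr : r.Prime := Fact.out
  haveI : NeZero r := ⟨hr.ne_zero⟩
  have hn : 3 ≤ n := by omega
  haveI : Nonempty (Fin n) := ⟨⟨0, by omega⟩⟩
  have hfr : finrank F (Fin n → F) = n := by simp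
  have hq₀2 : 2 ≤ q₀ := by
    have : 1 < Nat.card F₀ := Finite.one_lt_card
    omega
  have hcard1 : 1 ≤ Fintype.card F := Fintype.card_pos
  -- arithmetic
  have hd1 : r ∣ q₀ + 1 := dvd_of_one_le_padicValNat (by omega)
  have hnd : ¬ r ∣ q₀ - 1 := by
    intro h
    have h2 : r ∣ (q₀ + 1) - (q₀ - 1) := Nat.dvd_sub hd1 h
    have h3 : (q₀ + 1) - (q₀ - 1) = 2 := by omega
    rw [h3] at h2
    exact hr2 ((Nat.prime_dvd_prime_iff_eq hr Nat.prime_two).mp h2)
  have hfac : Fintype.card F - 1 = (q₀ - 1) * (q₀ + 1) := by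
    rw [hq]
    obtain ⟨m, rfl⟩ : ∃ m, q₀ = m + 1 := ⟨q₀ - 1, by omega⟩
    simp only [Nat.add_sub_cancel]
    have : (m + 1) ^ 2 = m * (m + 1 + 1) + 1 := by ring
    rw [this, Nat.add_sub_cancel]
  have hvq : padicValNat r (Fintype.card F - 1) = 1 := by
    rw [hfac, padicValNat.mul (by omega) (by omega), padicValNat.eq_zero_of_not_dvd hnd, zero_add,
      hv]
  have hd : r ∣ Fintype.card F - 1 := by
    rw [hfac]
    exact Dvd.dvd.mul_left hd1 _
  intro x hx hns
  obtain ⟨z, hz⟩ := hx
  set t : E := Matrix.toLin' (x : Mat) with ht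
  have htr : t ^ r = z • 1 := toLin_pow_eq x r z hz
  have hz0 : z ≠ 0 := by
    rintro rfl
    have h1 := congrArg Matrix.det hz
    rw [Matrix.SpecialLinearGroup.det_coe, zero_smul, Matrix.det_zero] at h1
    exact one_ne_zero h1
  -- `z ^ r = 1`
  have hzr : z ^ r = 1 := by
    have h1 := congrArg Matrix.det hz
    rw [Matrix.SpecialLinearGroup.det_coe, Matrix.det_smul, Matrix.det_one, mul_one,
      Fintype.card_fin, ← hrn] at h1
    exact h1.symm
  -- `z = 1`
  have hz1 : z = 1 := by
    have hpow : ∃ b : F, b ^ r = z := by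
      by_contra hcon
      push Not at hcon
      have hdet := det_of_pow_eq_smul r hr z hcon t htr
      rw [ht, det_toLin_SL, hfr, ← hrn, Nat.div_self hr.pos, pow_one,
        neg_one_pow_succ_of_odd r (hr.odd_of_ne_two hr2), one_mul] at hdet
      exact hcon 1 (by rw [one_pow, hdet])
    obtain ⟨b, hb⟩ := hpow
    have hb0 : b ≠ 0 := by
      rintro rfl
      rw [zero_pow hr.ne_zero] at hb
      exact hz0 hb.symm
    have ho1 : orderOf b ∣ r ^ 2 := by
      apply orderOf_dvd_of_pow_eq_one
      rw [pow_two, pow_mul, hb, hzr]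
    have ho2 : orderOf b ∣ Fintype.card F - 1 :=
      orderOf_dvd_of_pow_eq_one (FiniteField.pow_card_sub_one_eq_one b hb0)
    obtain ⟨e', he', hoe⟩ := (Nat.dvd_prime_pow hr).mp ho1
    have he1 : e' ≤ 1 := by
      rw [hoe] at ho2
      have hc0 : Fintype.card F - 1 ≠ 0 := by
        have : 1 < Fintype.card F := Fintype.one_lt_card
        omega
      have := (padicValNat_dvd_iff_le (p := r) hc0).mp ho2
      omega
    have ho3 : orderOf b ∣ r := by
      rw [hoe]
      calc r ^ e' ∣ r ^ 1 := pow_dvd_pow r he1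
        _ = r := pow_one r
    rw [← hb]
    exact orderOf_dvd_iff_pow_eq_one.mp ho3
  rw [hz1, one_smul] at htr
  -- eigenbasis
  obtain ⟨ι, _, b, lam, hb⟩ := heig t htr
  have hcardι : Fintype.card ι = n := by
    rw [← Module.finrank_eq_card_basis b, hfr]
  have hlamr : ∀ j, lam j ^ r = 1 := by
    intro j
    have h1 := pow_apply_eigen t (b j) (lam j) (hb j) r
    rw [htr, Module.End.one_apply] at h1
    have h2 : (lam j ^ r - 1) • b j = 0 := by rw [sub_smul, ← h1, one_smul, sub_self]
    rcases smul_eq_zero.mp h2 with h | h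
    · exact sub_eq_zero.mp h
    · exact absurd h (b.ne_zero j)
  obtain ⟨ω, hω⟩ := exists_primitiveRoot (F := F) r hd
  have hωr : ω ^ r = 1 := hω.pow_eq_one
  choose a ha using fun j => exists_wz_eq ω hω (lam j) (hlamr j)
  -- sum of exponents
  have hsum0 : ∑ j, a j = 0 := by
    apply wz_injective ω hω
    rw [wz_sum ω hωr, wz_zero]
    have h1 := det_of_eigenbasis b lam t hb
    rw [ht, det_toLin_SL] at h1
    rw [h1]
    apply Finset.prod_congr rfl
    intro j _
    exact ha j
  set m : ZMod r → ℕ := fun u => (Finset.univ.filter fun j => a j = u).card with hm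
  have hms : ∑ u, m u = r := by
    calc ∑ u, m u = (Finset.univ : Finset ι).card :=
          (Finset.card_eq_sum_card_fiberwise (f := a) (s := Finset.univ) (t := Finset.univ)
            (fun _ _ => Finset.mem_univ _)).symm
      _ = n := by rw [Finset.card_univ, hcardι]
      _ = r := hrn.symm
  have hmw : ∑ u, (m u : ZMod r) * u = 0 := by
    rw [← hsum0, ← Finset.sum_fiberwise_of_maps_to (s := Finset.univ) (t := Finset.univ)
      (g := a) (fun _ _ => Finset.mem_univ _) a]
    apply Finset.sum_congr rfl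
    intro u _
    rw [hm]
    simp only
    rw [← nsmul_eq_mul, ← Finset.sum_const]
    apply Finset.sum_congr rfl
    intro j hj
    exact ((Finset.mem_filter.mp hj).2).symm
  obtain ⟨a₀, ha₀⟩ := symm_r r (by omega) m hms hmw
  -- the shifted element
  set d : F := wz ω a₀ with hd'
  have hd0 : d ≠ 0 := wz_ne_zero ω hωr a₀
  set s : E := d⁻¹ • t with hs
  have hsr : s ^ r = 1 := by
    rw [hs, _root_.smul_pow, htr, inv_pow, hd', wz_pow ω hωr, inv_one, one_smul]
  have hts : t = d • s := by
    rw [hs, smul_smul, mul_inv_cancel₀ hd0, one_smul]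
  have hsb : ∀ j, s (b j) = wz ω (a j - a₀) • b j := by
    intro j
    rw [hs, LinearMap.smul_apply, hb, smul_smul, ← ha j]
    congr 1
    have : a j = (a j - a₀) + a₀ := by ring
    conv_lhs => rw [this, wz_add ω hωr, ← hd']
    field_simp
  have hcount : ∀ u : ZMod r,
      (Finset.univ.filter fun j => wz ω (a j - a₀) = wz ω u).card = m (a₀ + u) := by
    intro u
    rw [hm]
    simp only
    congr 1
    ext j
    simp only [Finset.mem_filter, Finset.mem_univ, true_and]
    constructor
    · intro h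
      have := wz_injective ω hω h
      rw [← this]; ring
    · intro h
      rw [h]; congr 1; ring
  have hsym' : ∀ μ : F, finrank F (Module.End.eigenspace s μ) =
      finrank F (Module.End.eigenspace s μ⁻¹) := by
    intro μ
    rw [finrank_eigenspace_of_eigenbasis b _ s hsb, finrank_eigenspace_of_eigenbasis b _ s hsb]
    by_cases hμ : μ ^ r = 1
    · obtain ⟨u, rfl⟩ := exists_wz_eq ω hω μ hμ
      rw [← wz_neg ω hωr, hcount, hcount, ← sub_eq_add_neg]
      exact ha₀ u
    · have h1 : (Finset.univ.filter fun j => wz ω (a j - a₀) = μ) = ∅ := by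
        apply Finset.filter_eq_empty_iff.mpr
        intro j _ h
        apply hμ
        rw [← h, wz_pow ω hωr]
      have h2 : (Finset.univ.filter fun j => wz ω (a j - a₀) = μ⁻¹) = ∅ := by
        apply Finset.filter_eq_empty_iff.mpr
        intro j _ h
        apply hμ
        have : μ = (wz ω (a j - a₀))⁻¹ := by rw [h, inv_inv]
        rw [this, inv_pow, wz_pow ω hωr, inv_one]
      rw [h1, h2]
  exact conj_of_real (by omega) F₀ x d hd0 s hts (hsym s hsr hsym')
    (hcent t 1 one_ne_zero (by rw [htr, one_smul]))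

end special

end Cfsg.Agent.Lib.Helper6.SubF
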