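import Mathlib
import Cfsg.Agent.Lib.Helper6.SubF_Bwd
import Cfsg.Agent.Lib.Helper1.SubF_EIG

set_option autoImplicit false
set_option linter.unusedSectionVars false

/-!
The special case `r = n ∈ {3, 5}`, `(q - 1)_r = r`: an element `t` of determinant 1 with `t ^ r`
scalar is a scalar multiple of an element of order `r` with symmetric spectrum.
-/

namespace Cfsg.Agent.Lib.Helper6.OSim

open Module Polynomial Cfsg.Agent.Lib.Helper9.H9GReal Cfsg.Agent.Lib.Helper9.H9Elus
  Cfsg.Agent.Lib.Helper6.SubF
open scoped Matrix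

section special
variable {F : Type*} [Field F] [Fintype F] {p : ℕ} [Fact p.Prime] [CharP F p] {n : ℕ}

local notation "E" => (Fin n → F) →ₗ[F] (Fin n → F)

theorem exists_symm_shift (r : ℕ) [Fact r.Prime] (hr2 : r ≠ 2) (hrp : r ≠ p)
    (hrn : r = n) (hn35 : n = 3 ∨ n = 5)
    (hvq : padicValNat r (Fintype.card F - 1) = 1)
    (t : E) (hdet : LinearMap.det t = 1) (z : F) (htr : t ^ r = z • 1) :
    ∃ (d : F) (s : E), d ≠ 0 ∧ t = d • s ∧ s ^ r = 1 ∧
      ∀ μ : F, finrank F (Module.End.eigenspace s μ) =
        finrank F (Module.End.eigenspace s μ⁻¹) := by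
  classical
  have hr : r.Prime := Fact.out
  haveI : NeZero r := ⟨hr.ne_zero⟩
  have hn : 3 ≤ n := by omega
  haveI : Nonempty (Fin n) := ⟨⟨0, by omega⟩⟩
  have hfr : finrank F (Fin n → F) = n := by simp
  have hcard1 : 1 ≤ Fintype.card F := Fintype.card_pos
  have hd : r ∣ Fintype.card F - 1 := dvd_of_one_le_padicValNat (by omega)
  -- `z ^ r = 1`
  have hzr : z ^ r = 1 := by
    have h1 := congrArg LinearMap.det htr
    rw [map_pow, hdet, one_pow, LinearMap.det_smul, hfr, map_one, mul_one, ← hrn] at h1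
    exact h1.symm
  have hz0 : z ≠ 0 := by
    rintro rfl
    rw [zero_pow hr.ne_zero] at hzr
    exact zero_ne_one hzr
  -- `z = 1`
  have hz1 : z = 1 := by
    have hpow : ∃ b : F, b ^ r = z := by
      by_contra hcon
      push Not at hcon
      have hdet' := det_of_pow_eq_smul r hr z hcon t htr
      rw [hdet, hfr, ← hrn, Nat.div_self hr.pos, pow_one,
        neg_one_pow_succ_of_odd r (hr.odd_of_ne_two hr2), one_mul] at hdet'
      exact hcon 1 (by rw [one_pow, hdet'])
    obtain ⟨b, hb⟩ := hpow
    have hb0 : b ≠ 0 := by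
      rintro rfl
      rw [zero_pow hr.ne_zero] at hb
      exact hz0 hb.symm
    have ho1 : orderOf b ∣ r ^ 2 := by
      apply orderOf_dvd_of_pow_eq_one
      rw [pow_two, pow_mul, hb, hzr]
    have ho2 : orderOf b ∣ Fintype.card F - 1 :=
      orderOf_dvd_of_pow_eq_one (FiniteField.pow_card_sub_one_eq_one b hb0)
    obtain ⟨e', he', hoe⟩ := (Nat.dvd_prime_pow hr).mp ho1
    have he1 : e' ≤ 1 := by
      rw [hoe] at ho2
      have hc0 : Fintype.card F - 1 ≠ 0 := by
        have : 1 < Fintype.card F := Fintype.one_lt_card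
        omega
      have := (padicValNat_dvd_iff_le (p := r) hc0).mp ho2
      omega
    have ho3 : orderOf b ∣ r := by
      rw [hoe]
      calc r ^ e' ∣ r ^ 1 := pow_dvd_pow r he1
        _ = r := pow_one r
    rw [← hb]
    exact orderOf_dvd_iff_pow_eq_one.mp ho3
  rw [hz1, one_smul] at htr
  -- eigenbasis
  obtain ⟨b, lam, hb⟩ := exists_eigenbasis (p := p) r hrp hd t htr
  have hcardι : Fintype.card (Fin (finrank F (Fin n → F))) = n := by
    rw [Fintype.card_fin, hfr]
  have hlamr : ∀ j, lam j ^ r = 1 := by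
    intro j
    have h1 := pow_apply_eigen t (b j) (lam j) (hb j) r
    rw [htr, Module.End.one_apply] at h1
    have h2 : (lam j ^ r - 1) • b j = 0 := by rw [sub_smul, ← h1, one_smul, sub_self]
    rcases smul_eq_zero.mp h2 with h | h
    · exact sub_eq_zero.mp h
    · exact absurd h (b.ne_zero j)
  obtain ⟨ω, hω⟩ := exists_primitiveRoot (F := F) r hd
  have hωr : ω ^ r = 1 := hω.pow_eq_one
  choose a ha using fun j => exists_wz_eq ω hω (lam j) (hlamr j)
  -- sum of exponents
  have hsum0 : ∑ j, a j = 0 := by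
    apply wz_injective ω hω
    rw [wz_sum ω hωr, wz_zero]
    have h1 := det_of_eigenbasis b lam t hb
    rw [hdet] at h1
    rw [h1]
    apply Finset.prod_congr rfl
    intro j _
    exact ha j
  set m : ZMod r → ℕ := fun u => (Finset.univ.filter fun j => a j = u).card with hm
  have hms : ∑ u, m u = r := by
    calc ∑ u, m u = (Finset.univ : Finset (Fin (finrank F (Fin n → F)))).card :=
          (Finset.card_eq_sum_card_fiberwise (f := a) (s := Finset.univ) (t := Finset.univ)
            (fun _ _ => Finset.mem_univ _)).symm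
      _ = n := by rw [Finset.card_univ, hcardι]
      _ = r := hrn.symm
  have hmw : ∑ u, (m u : ZMod r) * u = 0 := by
    rw [← hsum0, ← Finset.sum_fiberwise_of_maps_to (s := Finset.univ) (t := Finset.univ)
      (g := a) (fun _ _ => Finset.mem_univ _) a]
    apply Finset.sum_congr rfl
    intro u _
    rw [hm]
    simp only
    rw [← nsmul_eq_mul, ← Finset.sum_const]
    apply Finset.sum_congr rfl
    intro j hj
    exact ((Finset.mem_filter.mp hj).2).symm
  obtain ⟨a₀, ha₀⟩ := symm_r r (by omega) m hms hmw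
  -- the shifted element
  set d : F := wz ω a₀ with hd'
  have hd0 : d ≠ 0 := wz_ne_zero ω hωr a₀
  set s : E := d⁻¹ • t with hs
  have hsr : s ^ r = 1 := by
    rw [hs, _root_.smul_pow, htr, inv_pow, hd', wz_pow ω hωr, inv_one, one_smul]
  have hts : t = d • s := by
    rw [hs, smul_smul, mul_inv_cancel₀ hd0, one_smul]
  have hsb : ∀ j, s (b j) = wz ω (a j - a₀) • b j := by
    intro j
    rw [hs, LinearMap.smul_apply, hb, smul_smul, ← ha j]
    congr 1
    have : a j = (a j - a₀) + a₀ := by ring
    conv_lhs => rw [this, wz_add ω hωr, ← hd']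
    field_simp
  have hcount : ∀ u : ZMod r,
      (Finset.univ.filter fun j => wz ω (a j - a₀) = wz ω u).card = m (a₀ + u) := by
    intro u
    rw [hm]
    simp only
    congr 1
    ext j
    simp only [Finset.mem_filter, Finset.mem_univ, true_and]
    constructor
    · intro h
      have := wz_injective ω hω h
      rw [← this]; ring
    · intro h
      rw [h]; congr 1; ring
  refine ⟨d, s, hd0, hts, hsr, ?_⟩
  intro μ
  rw [finrank_eigenspace_of_eigenbasis b _ s hsb, finrank_eigenspace_of_eigenbasis b _ s hsb]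
  by_cases hμ : μ ^ r = 1
  · obtain ⟨u, rfl⟩ := exists_wz_eq ω hω μ hμ
    rw [← wz_neg ω hωr, hcount, hcount, ← sub_eq_add_neg]
    exact ha₀ u
  · have h1 : (Finset.univ.filter fun j => wz ω (a j - a₀) = μ) = ∅ := by
      apply Finset.filter_eq_empty_iff.mpr
      intro j _ h
      apply hμ
      rw [← h, wz_pow ω hωr]
    have h2 : (Finset.univ.filter fun j => wz ω (a j - a₀) = μ⁻¹) = ∅ := by
      apply Finset.filter_eq_empty_iff.mpr
      intro j _ h
      apply hμ
      have : μ = (wz ω (a j - a₀))⁻¹ := by rw [h, inv_inv]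
      rw [this, inv_pow, wz_pow ω hωr, inv_one]
    rw [h1, h2]

end special

end Cfsg.Agent.Lib.Helper6.OSim
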