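import Mathlib
import Cfsg.Agent.Lib.Helper6.OSim_Crit
import Cfsg.Agent.Lib.Helper6.OSim_Shift
import Cfsg.Agent.Lib.Helper6.OSim_EVEN
import Cfsg.Agent.Lib.Helper6.OSim_IDXE
import Cfsg.Agent.Lib.Helper6.OSim_ODD
import Cfsg.Agent.Lib.Helper6.OSim_INV
import Cfsg.Agent.Lib.Helper9.OSim_TRANSV
import Cfsg.Agent.Lib.Helper9.OSim_SPEC
import Cfsg.Agent.Lib.Helper4.EqDecB
import Cfsg.Agent.Lib.Helper4.EqDecC
import Cfsg.Agent.Lib.Helper9.Elus7
import Cfsg.Agent.Lib.Helper1.SubF_CENT

set_option autoImplicit false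
set_option linter.unusedSectionVars false

/-!
Assembly of the row `PSL_n(q)`, `q` odd, orthogonal-type subgroups `Sim(Q) ∩ SL_n`.
-/

namespace Cfsg.Agent.Lib.Helper6.OSim

open Module Polynomial Cfsg.Geo Cfsg.Agent.Lib.Helper6.SubF
  Cfsg.Agent.Lib.Helper4.SimU Cfsg.Agent.Lib.Helper5.PSLCoset Cfsg.Agent.Lib.Helper9.H9Elus
open scoped Matrix

section main
variable {F : Type*} [Field F] [Fintype F] {n : ℕ}

local notation "Mat" => Matrix (Fin n) (Fin n) F
local notation "E" => (Fin n → F) →ₗ[F] (Fin n → F)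

theorem det_of_mem_specialLinear (x : GL (Fin n) F) (hx : x ∈ specialLinear (Fin n) F) :
    (x : Mat).det = 1 := by
  unfold specialLinear at hx
  rw [MonoidHom.mem_ker] at hx
  have := congrArg Units.val hx
  rwa [Matrix.GeneralLinearGroup.val_det_apply, Units.val_one] at this

theorem toLin_pow_eq_GL (x : GL (Fin n) F) (r : ℕ) (z : F)
    (hz : ((x ^ r : GL (Fin n) F) : Mat) = z • (1 : Mat)) :
    (Matrix.toLin' (x : Mat)) ^ r = z • (1 : E) := by
  rw [← Matrix.toLin'_pow, ← Units.val_pow_eq_pow_val, hz, map_smul, Matrix.toLin'_one]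
  rfl

theorem toLin_ne_smul (x : GL (Fin n) F) (hns : ∀ z : F, (x : Mat) ≠ z • (1 : Mat)) (c : F) :
    Matrix.toLin' (x : Mat) ≠ c • (1 : E) := by
  intro h
  apply hns c
  apply Matrix.toLin'.injective
  rw [h, map_smul, Matrix.toLin'_one]
  rfl

/-- The multiplier of a similitude of order `r` is `1` when `r ∤ q - 1`. -/
theorem qsim_mu_eq_one (hn : 1 ≤ n) (r : ℕ) [Fact r.Prime] (hnd1 : ¬ r ∣ Fintype.card F - 1)
    (t : E) (ht : t ^ r = 1) (Q' : (Fin n → F) → F) (hQ' : IsNondegenerateQuadraticForm Q')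
    (μ : F) (hq : QSim Q' t μ) : μ = 1 := by
  have hr : r.Prime := Fact.out
  have hH := isHerm_polar Q' hQ'
  have hnd := nondeg_polar Q' hQ'
  have hsim := isSim_polar Q' t μ hq
  have hne : ∃ u v, QuadraticMap.polar Q' u v ≠ 0 := by
    have hw0 : (fun _ : Fin n => (1 : F)) ≠ 0 := by
      intro h
      have := congrFun h ⟨0, by omega⟩
      exact one_ne_zero this
    obtain ⟨v, hv⟩ := hnd _ hw0
    exact ⟨_, v, hv⟩
  have hμr : μ ^ r = 1 := by
    have := IsSim.pow_eq (σ := RingEquiv.refl F) hH hne hsim r 1 (by rw [ht, one_smul])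
    rwa [RingEquiv.refl_apply, mul_one] at this
  have hμ0 : μ ≠ 0 := by
    rintro rfl
    rw [zero_pow hr.ne_zero] at hμr
    exact zero_ne_one hμr
  have h1 : μ ^ (Fintype.card F - 1) = 1 := FiniteField.pow_card_sub_one_eq_one μ hμ0
  have h3 := pow_gcd_eq_one.mpr ⟨hμr, h1⟩
  have h4 : Nat.gcd r (Fintype.card F - 1) = 1 :=
    (Nat.Prime.coprime_iff_not_dvd hr).mpr hnd1
  rwa [h4, pow_one] at h3

theorem forward (hodd : Odd (Fintype.card F)) (hn : 3 ≤ n) (Q : (Fin n → F) → F)
    (hQ : IsNondegenerateQuadraticForm Q) (r : ℕ) [Fact r.Prime] (hgap : ¬ (n = 6 ∧ r = 3))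
    (hΩ : r ∣ (quadSimilarityGroup Q).relIndex (specialLinear (Fin n) F))
    (hL : AllConjQ Q r) (hr2 : r ≠ 2) :
    (r = 3 ∨ r = 5) ∧ n = r ∧ padicValNat r (Fintype.card F - 1) = 1 := by
  classical
  obtain ⟨p, hpc⟩ := CharP.exists F
  haveI := hpc
  haveI : Fact p.Prime := ⟨CharP.char_is_prime F p⟩
  have hr : r.Prime := Fact.out
  have hp : p.Prime := Fact.out
  haveI : NeZero r := ⟨hr.ne_zero⟩
  have h2 : (2 : F) ≠ 0 := Cfsg.Agent.Lib.Helper2.OrthEl.two_ne_zero_of_odd_card hodd
  have hp2 : p ≠ 2 := by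
    rintro rfl
    apply h2
    have := CharP.cast_eq_zero F 2
    exact_mod_cast this
  have hcard1 : 1 ≤ Fintype.card F := Fintype.card_pos
  -- the bridge
  have hbridge : ∀ x ∈ specialLinear (Fin n) F,
      (∃ z : F, ((x ^ r : GL (Fin n) F) : Mat) = z • (1 : Mat)) →
      (∀ z : F, (x : Mat) ≠ z • (1 : Mat)) →
      ∃ (Q' : (Fin n → F) → F) (μ : F), μ ≠ 0 ∧ IsNondegenerateQuadraticForm Q' ∧
        QSim Q' (Matrix.toLin' (x : Mat)) μ ∧
        Nat.card {v : Fin n → F // Q' v = 0} = Nat.card {v : Fin n → F // Q v = 0} := by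
    intro x hx hxr hns
    obtain ⟨g, -, hg⟩ := hL x hx hxr hns
    exact exists_qsim_of_conj_mem Q hQ x g hg
  -- `r ≠ p`
  have hrp : r ≠ p := by
    rintro rfl
    obtain ⟨x, hx, hxr, hns, hnot⟩ := exists_transvection_not_qsim (F := F) (p := r) (n := n) hp2
      (by omega)
    obtain ⟨Q', μ, -, hQ', hq, -⟩ := hbridge x hx ⟨1, by rw [hxr, one_smul]⟩ hns
    exact hnot Q' μ hQ' hq
  set i := orderOf ((Fintype.card F : ℕ) : ZMod r) with hidef
  by_cases hd : r ∣ Fintype.card F - 1
  · -- diagonal models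
    have hcrit := diag_crit_of_allConj h2 Q hQ r hL
    have hm0 : (-1 : ZMod r) ≠ 0 := neg_ne_zero.mpr one_ne_zero
    have hm1 : (-1 : ZMod r) ≠ 1 := by
      intro h
      have h3 : ((2 : ℕ) : ZMod r) = 0 := by
        have : (2 : ZMod r) = 0 := by
          have : (1 : ZMod r) + 1 = 0 := by
            nth_rewrite 1 [← h]
            ring
          rw [← this]; ring
        exact_mod_cast this
      have := (ZMod.natCast_eq_zero_iff 2 r).mp h3
      exact hr2 ((Nat.prime_dvd_prime_iff_eq hr Nat.prime_two).mp this)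
    obtain ⟨hrn, hn35, hv⟩ := special_gen (F := F) r (-1) hr2 hn hd hcrit hm0 hm1 hgap
    refine ⟨?_, hrn.symm, hv⟩
    rcases hn35 with h | h
    · left; omega
    · right; omega
  · exfalso
    have hi1 : i ≠ 1 := by
      intro h
      exact hd ((orderOf_eq_one_iff_dvd r _ hcard1).mp h)
    have hGL : r ∣ Nat.card (GL (Fin n) F) :=
      (hΩ.trans (Subgroup.relIndex_dvd_card _ _)).trans (Subgroup.card_subgroup_dvd_card _)
    have hin : i ≤ n := Cfsg.Agent.Lib.Helper4.EqDec.order_le_of_dvd_card_GL (p := p) r hrp hGL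
    have hi0 : 0 < i := by
      apply orderOf_pos_iff.mpr
      have hu : IsUnit ((Fintype.card F : ℕ) : ZMod r) := by
        rw [ZMod.isUnit_iff_coprime]
        obtain ⟨f, hf⟩ := FiniteField.card F p
        rw [hf.2]
        apply Nat.Coprime.pow_left
        rw [Nat.coprime_primes hp hr]
        exact fun h => hrp h.symm
      exact hu.isOfFinOrder
    have hi2 : 2 ≤ i := by omega
    rcases Nat.even_or_odd i with hev | hiodd
    · -- `i` even
      obtain ⟨hdvd, hnot⟩ := idx_even (p := p) hodd hn Q hQ r hrp hr2 hev hΩ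
      obtain ⟨x₀, hx₀r, hns₀, hinv⟩ := model_cyclotomic (F := F) (p := p) r hrp n hi2 hin
      set x : GL (Fin n) F := Matrix.SpecialLinearGroup.toGL x₀ with hxdef
      have hxm : (x : Mat) = (x₀ : Mat) := rfl
      have hxr : ((x ^ r : GL (Fin n) F) : Mat) = 1 := by
        rw [Units.val_pow_eq_pow_val, hxm, ← Matrix.SpecialLinearGroup.coe_pow, hx₀r]
      obtain ⟨Q', μ, -, hQ', hq, hcard⟩ := hbridge x (toGL_mem_specialLinear x₀)
        ⟨1, by rw [hxr, one_smul]⟩ (by rw [hxm]; exact hns₀)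
      set t : E := Matrix.toLin' (x : Mat) with ht
      have htr : t ^ r = 1 := by
        have := toLin_pow_eq_GL x r 1 (by rw [hxr, one_smul])
        rwa [one_smul] at this
      have hμ1 : μ = 1 := qsim_mu_eq_one (by omega) r hd t htr Q' hQ' μ hq
      rw [hμ1] at hq
      have hfpf : ∀ v, t v = v → v = 0 := by
        intro v hv
        by_contra hv0
        have hW : (Submodule.span F {v}).map t ≤ Submodule.span F {v} := by
          rw [Submodule.map_span, Set.image_singleton, hv]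
        have h1 := hinv (Submodule.span F {v}) hW
        rw [finrank_span_singleton hv0, Nat.mod_eq_zero_of_dvd hdvd, Nat.mod_eq_of_lt hi2] at h1
        omega
      have hQ0 : Q' 0 = 0 := by
        have := hQ'.smul 0 0
        rwa [zero_smul, zero_pow (by norm_num), zero_mul] at this
      apply hnot
      rw [← hcard]
      exact dvd_card_singular_of_fpf r t htr hfpf Q' hQ0 hq
    · -- `i` odd
      have hi3 : 3 ≤ i := by
        rcases hiodd with ⟨k, hk⟩
        omega
      obtain ⟨x₀, hx₀r, hns₀, hfix⟩ :=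
        Cfsg.Agent.Lib.Helper4.EqDec.model_one_block (F := F) (p := p) r hrp n hi2 hin
      set x : GL (Fin n) F := Matrix.SpecialLinearGroup.toGL x₀ with hxdef
      have hxm : (x : Mat) = (x₀ : Mat) := rfl
      have hxr : ((x ^ r : GL (Fin n) F) : Mat) = 1 := by
        rw [Units.val_pow_eq_pow_val, hxm, ← Matrix.SpecialLinearGroup.coe_pow, hx₀r]
      obtain ⟨Q', μ, -, hQ', hq, -⟩ := hbridge x (toGL_mem_specialLinear x₀)
        ⟨1, by rw [hxr, one_smul]⟩ (by rw [hxm]; exact hns₀)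
      set t : E := Matrix.toLin' (x : Mat) with ht
      have htr : t ^ r = 1 := by
        have := toLin_pow_eq_GL x r 1 (by rw [hxr, one_smul])
        rwa [one_smul] at this
      have ht1 : t ≠ 1 := by
        have := toLin_ne_smul x (by rw [hxm]; exact hns₀) 1
        rwa [one_smul] at this
      have hfix' : n ≤ finrank F (LinearMap.ker (aeval t (X - 1 : F[X]))) + i := by
        have : n - i ≤ finrank F (LinearMap.ker (aeval t (X - 1 : F[X]))) := hfix
        omega
      exact not_qsim_of_odd_order (p := p) h2 r hrp hr2 hiodd hi3 t htr ht1 hfix' Q' hQ' μ hq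

theorem backward (hodd : Odd (Fintype.card F)) (hn : 3 ≤ n) (Q : (Fin n → F) → F)
    (hQ : IsNondegenerateQuadraticForm Q) (r : ℕ) [Fact r.Prime]
    (h : r = 2 ∨ ((r = 3 ∨ r = 5) ∧ n = r ∧ padicValNat r (Fintype.card F - 1) = 1)) :
    AllConjQ Q r := by
  classical
  obtain ⟨p, hpc⟩ := CharP.exists F
  haveI := hpc
  haveI : Fact p.Prime := ⟨CharP.char_is_prime F p⟩
  have hr : r.Prime := Fact.out
  have hp : p.Prime := Fact.out
  have h2 : (2 : F) ≠ 0 := Cfsg.Agent.Lib.Helper2.OrthEl.two_ne_zero_of_odd_card hodd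
  have hp2 : p ≠ 2 := by
    rintro rfl
    apply h2
    have := CharP.cast_eq_zero F 2
    exact_mod_cast this
  haveI : Nontrivial (Fin n → F) := by
    haveI : Nonempty (Fin n) := ⟨⟨0, by omega⟩⟩
    infer_instance
  have hfr : finrank F (Fin n → F) = n := by simp
  intro x hx hxr hns
  obtain ⟨z, hz⟩ := hxr
  set t : E := Matrix.toLin' (x : Mat) with ht
  have htr : t ^ r = z • 1 := toLin_pow_eq_GL x r z hz
  have hdet : LinearMap.det t = 1 := by
    rw [ht, LinearMap.det_toLin', det_of_mem_specialLinear x hx]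
  have hz0 : z ≠ 0 := by
    rintro rfl
    have h1 := congrArg LinearMap.det htr
    rw [map_pow, hdet, one_pow, LinearMap.det_smul, hfr, zero_pow (by omega), zero_mul] at h1
    exact one_ne_zero h1
  rcases h with rfl | ⟨hr35, hnr, hv⟩
  · -- involutions
    obtain ⟨Q', μ, hμ, hsim, hq⟩ := exists_similar_qsim_of_sq hodd (by omega) Q hQ t z hz0 htr
      (toLin_ne_smul x hns)
    apply conj_mem_of_qsim (by omega) Q Q' hsim x hx μ hμ hq
    intro δ hδ
    exact Cfsg.Agent.Lib.Helper6.SubF.exists_commute_det_of_pow_eq_smul (p := p) 2 (by norm_num)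
      (fun h => hp2 ((Nat.prime_dvd_prime_iff_eq hp Nat.prime_two).mp h)) z hz0 t htr δ hδ
  · -- the special case
    have hr2 : r ≠ 2 := by omega
    have hd : r ∣ Fintype.card F - 1 := dvd_of_one_le_padicValNat (by omega)
    have hrp : r ≠ p := by
      rintro rfl
      obtain ⟨f, hf⟩ := FiniteField.card F r
      have h1 : r ∣ Fintype.card F := by
        rw [hf.2]
        exact dvd_pow_self r (by exact_mod_cast f.ne_zero)
      have h3 : r ∣ Fintype.card F - (Fintype.card F - 1) := Nat.dvd_sub h1 hd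
      have hc : 1 ≤ Fintype.card F := Fintype.card_pos
      have h4 : Fintype.card F - (Fintype.card F - 1) = 1 := by omega
      rw [h4] at h3
      exact hr.one_lt.ne' (Nat.dvd_one.mp h3)
    have hn35 : n = 3 ∨ n = 5 := by omega
    obtain ⟨d, s, hd0, hts, hsr, hsym⟩ :=
      exists_symm_shift (p := p) r hr2 hrp hnr.symm hn35 hv t hdet z htr
    have hnodd : Odd n := by
      rcases hn35 with h | h <;> rw [h] <;> decide
    obtain ⟨Q', hsim, hq⟩ :=
      exists_similar_qsim_of_symm (p := p) hodd hnodd Q hQ r hr2 hrp hd s hsr hsym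
    have hQ'smul : ∀ (a : F) (v : Fin n → F), Q' (a • v) = a ^ 2 * Q' v := by
      obtain ⟨c, e, -, he⟩ := hsim
      intro a v
      rw [he, he, map_smul, hQ.smul]
      ring
    have hqt : QSim Q' t (d ^ 2) := by
      intro v
      rw [hts, LinearMap.smul_apply, hQ'smul, hq v, one_mul]
    apply conj_mem_of_qsim (by omega) Q Q' hsim x hx (d ^ 2) (pow_ne_zero _ hd0) hqt
    intro δ hδ
    exact Cfsg.Agent.Lib.Helper6.SubF.exists_commute_det_of_pow_eq_smul (p := p) r hr.ne_zero
      (fun h => hrp ((Nat.prime_dvd_prime_iff_eq hp hr).mp h).symm) z hz0 t htr δ hδ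

end main

end Cfsg.Agent.Lib.Helper6.OSim
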