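import Mathlib
import Cfsg.Prelude
import Cfsg.Agent.Lib.Helper7.OSubDefs
import Cfsg.Agent.Lib.Helper6.AbsDicksonSiegel
import Cfsg.Agent.Lib.Lead.SUf_Field
import Cfsg.Agent.Lib.Helper3.OSub_BCA
import Cfsg.Agent.Lib.Helper5.OSub_BCB

set_option autoImplicit false
set_option linter.unusedSectionVars false
set_option linter.unusedVariables false

/-!
# S5683 / S5702 PK-ODD: `p` odd, `r` odd: every element of `M` lies in `N`

`g ∈ M`, `(u₀,w₀)` an RTSP, `x = g u₀`, `y = g w₀`, `E(x,y) = g E(u₀,w₀) g⁻¹ ∈ M`.  For every RTSP `(u,w)` the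
Dickson parameter `D(u,w) = B(u,x)B(w,y) − B(u,y)B(w,x)` lies in `F₀` (Dickson transport + (SS); `D² = −1` by
`mem_of_sq_mem`).  Three pairwise orthogonal rational singular `u₁,u₂,u₃` with `D₁₂ ≠ 0` give the rational singular
vector `x₀ = D₂₃u₁ − D₁₃u₂ + D₁₂u₃ ≠ 0` orthogonal to `x, y`; (NKO) finishes.
-/

namespace Cfsg.Agent.Lib.Helper7.OSub

open Matrix Cfsg.Agent.Lib.Helper7.Subg Cfsg.Agent.Lib.Helper2.LongRoot Cfsg.Agent.Lib.Helper2.OmMin
  Cfsg.Agent.Lib.Helper2.CDG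

variable {F : Type*} [Field F] [Fintype F] {ι : Type} [Fintype ι] [DecidableEq ι]
variable {Q : QuadraticForm F (ι → F)}

namespace PkODD

open Cfsg.Agent.Lib.Helper6.AbsDickson

/-- the Dickson parameter of `(u,w)` against the pair `(x,y)` -/
def Dv (Q : QuadraticForm F (ι → F)) (x y u w : ι → F) : F :=
  QuadraticMap.polar (⇑Q) u x * QuadraticMap.polar (⇑Q) w y -
    QuadraticMap.polar (⇑Q) u y * QuadraticMap.polar (⇑Q) w x

theorem siegelLam_eq (x y u w : ι → F) : siegelLam Q u w x y = - Dv Q x y u w := by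
  unfold siegelLam Dv
  ring

theorem mat_eich_ts (hQ : (QuadraticMap.polarBilin Q).Nondegenerate) {u w : ι → F}
    (hu : Q u = 0) (hw : Q w = 0) (huw : QuadraticMap.polar (⇑Q) u w = 0) (c : F) :
    mat (eich hQ u (c • w)) = Cfsg.siegelMatrix (⇑Q) u w c := by
  rw [← LR_eq_eich hQ hu hw huw c]
  rfl

theorem mat_eich_ts_one (hQ : (QuadraticMap.polarBilin Q).Nondegenerate) {u w : ι → F}
    (hu : Q u = 0) (hw : Q w = 0) (huw : QuadraticMap.polar (⇑Q) u w = 0) :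
    mat (eich hQ u w) = Cfsg.siegelMatrix (⇑Q) u w 1 := by
  have := mat_eich_ts hQ hu hw huw 1
  rwa [one_smul] at this

/-- a rational singular vector and a member of a rational hyperbolic pair orthogonal to it form an RTSP -/
theorem rtsp_of_hyp {F₀ : Subfield F} {u z z' : ι → F} (hu : Rat F₀ u) (hz : Rat F₀ z) (hu0 : u ≠ 0)
    (hQu : Q u = 0) (hQz : Q z = 0) (huz : QuadraticMap.polar (⇑Q) u z = 0)
    (huz' : QuadraticMap.polar (⇑Q) u z' = 0) (hzz' : QuadraticMap.polar (⇑Q) z z' = 1) :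
    RTSP F₀ Q u z := by
  refine ⟨hu, hz, hQu, hQz, huz, fun s t hst => ?_⟩
  have h1 := congrArg (fun x => QuadraticMap.polar (⇑Q) x z') hst
  simp only [QuadraticMap.polar_add_left, QuadraticMap.polar_smul_left, huz', hzz', smul_eq_mul,
    mul_zero, mul_one, zero_add, QuadraticMap.polar_zero_left] at h1
  subst h1
  rw [zero_smul, add_zero] at hst
  exact ⟨(smul_eq_zero.1 hst).resolve_right hu0, rfl⟩

/-- the Dickson parameters are rational -/
theorem Dv_mem (hQ : (QuadraticMap.polarBilin Q).Nondegenerate) (F₀ : Subfield F)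
    (M : Subgroup ↥(Cfsg.isometryGroup F ⇑Q)) (h2 : (2 : F) ≠ 0) (r : ℕ) (hro : Odd r)
    (hcard : Fintype.card F = Nat.card F₀ ^ r) (hE : HasRatE hQ F₀ M) (hSS : SS hQ F₀ M)
    {x y : ι → F} (hxy : TSP Q x y) (hA : eich hQ x y ∈ M) {u w : ι → F} (huw : RTSP F₀ Q u w) :
    Dv Q x y u w ∈ F₀ := by
  obtain ⟨hx, hy, hxy', -⟩ := hxy
  obtain ⟨hur, hwr, hu, hw, huw', hindep⟩ := huw
  have hlam : siegelLam Q u w x y ∈ F₀ := by
    by_cases h0 : siegelLam Q u w x y = 0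
    · rw [h0]; exact F₀.zero_mem
    by_cases hsq : siegelLam Q u w x y ^ 2 = -1
    · apply Cfsg.Agent.Lib.Helper5.SUf.mem_of_sq_mem F₀ r hro hcard
      rw [← pow_two, hsq]
      exact F₀.neg_mem F₀.one_mem
    · -- Dickson transport
      set M' : Subgroup (GL ι F) := M.map (Cfsg.isometryGroup F ⇑Q).subtype with hM'
      have hM1 : Mm M' (Cfsg.siegelMatrix (⇑Q) u w 1) :=
        ⟨_, ⟨eich hQ u w, hE u w hur hwr, rfl⟩, mat_eich_ts_one hQ hu hw huw'⟩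
      have hM2 : Mm M' (Cfsg.siegelMatrix (⇑Q) x y 1) :=
        ⟨_, ⟨eich hQ x y, hA, rfl⟩, mat_eich_ts_one hQ hx hy hxy'⟩
      obtain ⟨g', ⟨g, hg, rfl⟩, hgm⟩ := siegel_dickson h2 Q M' u w x y hu hw huw' hx hy hxy' hM1 hM2
        h0 hsq (siegelLam Q u w x y) (Subfield.subset_closure rfl)
      have e : g = eich hQ u (siegelLam Q u w x y • w) := by
        apply Subtype.ext
        apply Units.ext
        rw [← mat_eich_ts hQ hu hw huw'] at hgm
        exact hgm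
      rw [e] at hg
      exact hSS u w _ ⟨hur, hwr, hu, hw, huw', hindep⟩ hg
  rw [siegelLam_eq] at hlam
  have := F₀.neg_mem hlam
  rwa [neg_neg] at this

theorem Q_add_smul {u v : ι → F} (hu : Q u = 0) (hv : Q v = 0)
    (huv : QuadraticMap.polar (⇑Q) u v = 0) (a b : F) : Q (a • u + b • v) = 0 := by
  have := QuadraticMap.polar (⇑Q) (a • u) (b • v)
  have e : Q (a • u + b • v) = Q (a • u) + Q (b • v) + QuadraticMap.polar (⇑Q) (a • u) (b • v) := by
    unfold QuadraticMap.polar; ring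
  rw [e, QuadraticMap.map_smul, QuadraticMap.map_smul, hu, hv, QuadraticMap.polar_smul_left,
    QuadraticMap.polar_smul_right, huv]
  simp

end PkODD

open PkODD

theorem odd_case (hQ : (QuadraticMap.polarBilin Q).Nondegenerate) (F₀ : Subfield F)
    (M : Subgroup ↥(Cfsg.isometryGroup F ⇑Q)) (hR : RatQ F₀ Q) (hn : 7 ≤ Fintype.card ι)
    (h2 : (2 : F) ≠ 0) (r : ℕ) (hro : Odd r) (hcard : Fintype.card F = Nat.card F₀ ^ r)
    (hE : HasRatE hQ F₀ M) (hSS : SS hQ F₀ M) (hNKO : NKO F₀ M) :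
    ∀ g ∈ M, InN F₀ (mat g) := by
  intro g hg
  -- an RTSP `(u₀, w₀)`
  obtain ⟨p, q, hp, hq, hQp, hQq, hpq, -⟩ :=
    rat_hyp_perp hQ F₀ hR (k := 0) (fun i => i.elim0) (fun i => i.elim0) (by omega)
  obtain ⟨p₂, q₂, hp₂, hq₂, hQp₂, hQq₂, hpq₂, hperp⟩ :=
    rat_hyp_perp hQ F₀ hR ![p, q] (by
      intro i
      fin_cases i
      · exact hp
      · exact hq) (by omega)
  have hp0 : p ≠ 0 := by
    rintro rfl
    rw [QuadraticMap.polar_zero_left] at hpq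
    exact zero_ne_one hpq
  have h00 : RTSP F₀ Q p p₂ := rtsp_of_hyp hp hp₂ hp0 hQp hQp₂ (hperp 0).1 (hperp 0).2 hpq₂
  set x := mat g *ᵥ p with hx
  set y := mat g *ᵥ p₂ with hy
  have hxy : TSP Q x y := h00.2.2.map g
  have hA : eich hQ x y ∈ M := by
    rw [hx, hy, ← eich_conj' hQ g p p₂]
    exact M.mul_mem (M.mul_mem hg (hE p p₂ hp hp₂)) (M.inv_mem hg)
  have hD : ∀ u w : ι → F, RTSP F₀ Q u w → Dv Q x y u w ∈ F₀ := fun u w huw =>
    Dv_mem hQ F₀ M h2 r hro hcard hE hSS hxy hA huw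
  obtain ⟨hQx, hQy, hxy0, hind⟩ := hxy
  have hx0 : x ≠ 0 := TSP.ne_zero_left ⟨hQx, hQy, hxy0, hind⟩
  have hxx : QuadraticMap.polar (⇑Q) x x = 0 := PkE.polar_self_of_sing hQx
  have hyx : QuadraticMap.polar (⇑Q) y x = 0 := by rw [QuadraticMap.polar_comm]; exact hxy0
  -- `u₁` rational singular with `B(u₁,x) ≠ 0`
  obtain ⟨u₁, hu₁, hQu₁, hu₁x⟩ : ∃ u₁ : ι → F, Rat F₀ u₁ ∧ Q u₁ = 0 ∧
      QuadraticMap.polar (⇑Q) x u₁ ≠ 0 := by
    by_contra hcon
    push Not at hcon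
    obtain ⟨c, hc⟩ := perp_rat_sing hQ F₀ hR hn (Rat.zero F₀) (map_zero Q) x
      (fun w hw hQw _ => hcon w hw hQw)
    rw [smul_zero] at hc
    exact hx0 hc
  set a₁ := QuadraticMap.polar (⇑Q) u₁ x with ha₁
  have ha₁0 : a₁ ≠ 0 := by rw [ha₁, QuadraticMap.polar_comm]; exact hu₁x
  set κ := QuadraticMap.polar (⇑Q) u₁ y / a₁ with hκ
  set y' := y - κ • x with hy'
  have hy'0 : y' ≠ 0 := by
    intro h0
    have := hind (-κ) 1 (by rw [hy'] at h0; rw [one_smul, neg_smul, add_comm, ← sub_eq_add_neg]; exact h0)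
    exact one_ne_zero this.2
  -- `u₂` rational singular `⊥ u₁` with `B(u₂,y') ≠ 0`
  obtain ⟨u₂, hu₂, hQu₂, hu₁u₂, hu₂y'⟩ : ∃ u₂ : ι → F, Rat F₀ u₂ ∧ Q u₂ = 0 ∧
      QuadraticMap.polar (⇑Q) u₁ u₂ = 0 ∧ QuadraticMap.polar (⇑Q) y' u₂ ≠ 0 := by
    by_contra hcon
    push Not at hcon
    obtain ⟨c, hc⟩ := perp_rat_sing hQ F₀ hR hn hu₁ hQu₁ y'
      (fun w hw hQw hu₁w => hcon w hw hQw hu₁w)
    have hc0 : c ≠ 0 := by
      rintro rfl
      rw [zero_smul] at hc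
      exact hy'0 hc
    -- then `u₁ ∈ ⟨x,y⟩` is orthogonal to `x`
    have h1 : QuadraticMap.polar (⇑Q) y' x = 0 := by
      rw [hy', QuadraticMap.polar_sub_left, QuadraticMap.polar_smul_left, hyx, hxx]
      simp
    rw [hc, QuadraticMap.polar_smul_left, smul_eq_mul] at h1
    rcases mul_eq_zero.1 h1 with h | h
    · exact hc0 h
    · exact ha₁0 h
  -- the parameters
  have hD12 : Dv Q x y u₁ u₂ = a₁ * QuadraticMap.polar (⇑Q) y' u₂ := by
    have hak : a₁ * κ = QuadraticMap.polar (⇑Q) u₁ y := by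
      rw [hκ]; field_simp
    unfold Dv
    rw [hy', QuadraticMap.polar_sub_left, QuadraticMap.polar_smul_left, smul_eq_mul,
      QuadraticMap.polar_comm (⇑Q) y u₂, QuadraticMap.polar_comm (⇑Q) x u₂, ← ha₁]
    linear_combination (QuadraticMap.polar (⇑Q) u₂ x) * hak
  have hD12_0 : Dv Q x y u₁ u₂ ≠ 0 := by
    rw [hD12]
    exact mul_ne_zero ha₁0 hu₂y'
  have hu₁0 : u₁ ≠ 0 := by
    rintro rfl
    rw [QuadraticMap.polar_zero_right] at hu₁x
    exact hu₁x rfl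
  have hu₂0 : u₂ ≠ 0 := by
    rintro rfl
    rw [QuadraticMap.polar_zero_right] at hu₂y'
    exact hu₂y' rfl
  have h12 : RTSP F₀ Q u₁ u₂ := by
    refine ⟨hu₁, hu₂, hQu₁, hQu₂, hu₁u₂, fun s t hst => ?_⟩
    have e1 := congrArg (fun v => QuadraticMap.polar (⇑Q) v x) hst
    have e2 := congrArg (fun v => QuadraticMap.polar (⇑Q) v y) hst
    simp only [QuadraticMap.polar_add_left, QuadraticMap.polar_smul_left, smul_eq_mul,
      QuadraticMap.polar_zero_left] at e1 e2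
    unfold Dv at hD12_0
    constructor
    · by_contra hs
      apply hD12_0
      have : s * (QuadraticMap.polar (⇑Q) u₁ x * QuadraticMap.polar (⇑Q) u₂ y -
          QuadraticMap.polar (⇑Q) u₁ y * QuadraticMap.polar (⇑Q) u₂ x) = 0 := by
        linear_combination QuadraticMap.polar (⇑Q) u₂ y * e1 - QuadraticMap.polar (⇑Q) u₂ x * e2
      exact (mul_eq_zero.1 this).resolve_left hs
    · by_contra ht
      apply hD12_0
      have : t * (QuadraticMap.polar (⇑Q) u₁ x * QuadraticMap.polar (⇑Q) u₂ y -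
          QuadraticMap.polar (⇑Q) u₁ y * QuadraticMap.polar (⇑Q) u₂ x) = 0 := by
        linear_combination QuadraticMap.polar (⇑Q) u₁ x * e2 - QuadraticMap.polar (⇑Q) u₁ y * e1
      exact (mul_eq_zero.1 this).resolve_left ht
  -- the third vector
  obtain ⟨u₃, z', hu₃, hz', hQu₃, hQz', hu₃z', hperp3⟩ :=
    rat_hyp_perp hQ F₀ hR ![u₁, u₂] (by
      intro i
      fin_cases i
      · exact hu₁
      · exact hu₂) (by omega)
  have hu₁u₃ : QuadraticMap.polar (⇑Q) u₁ u₃ = 0 := (hperp3 0).1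
  have hu₁z' : QuadraticMap.polar (⇑Q) u₁ z' = 0 := (hperp3 0).2
  have hu₂u₃ : QuadraticMap.polar (⇑Q) u₂ u₃ = 0 := (hperp3 1).1
  have hu₂z' : QuadraticMap.polar (⇑Q) u₂ z' = 0 := (hperp3 1).2
  have h13 : RTSP F₀ Q u₁ u₃ := rtsp_of_hyp hu₁ hu₃ hu₁0 hQu₁ hQu₃ hu₁u₃ hu₁z' hu₃z'
  have h23 : RTSP F₀ Q u₂ u₃ := rtsp_of_hyp hu₂ hu₃ hu₂0 hQu₂ hQu₃ hu₂u₃ hu₂z' hu₃z'
  have m12 := hD u₁ u₂ h12
  have m13 := hD u₁ u₃ h13
  have m23 := hD u₂ u₃ h23
  set x₀ : ι → F := Dv Q x y u₂ u₃ • u₁ - Dv Q x y u₁ u₃ • u₂ + Dv Q x y u₁ u₂ • u₃ with hx₀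
  have hx₀r : Rat F₀ x₀ := ((hu₁.smul m23).sub (hu₂.smul m13)).add (hu₃.smul m12)
  have hx₀z' : QuadraticMap.polar (⇑Q) x₀ z' = Dv Q x y u₁ u₂ := by
    rw [hx₀, QuadraticMap.polar_add_left, QuadraticMap.polar_sub_left, QuadraticMap.polar_smul_left,
      QuadraticMap.polar_smul_left, QuadraticMap.polar_smul_left, hu₁z', hu₂z', hu₃z']
    simp
  have hx₀0 : x₀ ≠ 0 := by
    intro h0
    rw [h0, QuadraticMap.polar_zero_left] at hx₀z'
    exact hD12_0 hx₀z'.symm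
  have hQx₀ : Q x₀ = 0 := by
    have e : x₀ = (1 : F) • (Dv Q x y u₂ u₃ • u₁ + (-Dv Q x y u₁ u₃) • u₂) + Dv Q x y u₁ u₂ • u₃ := by
      rw [hx₀]; module
    rw [e]
    apply Q_add_smul (Q_add_smul hQu₁ hQu₂ hu₁u₂ _ _) hQu₃
    rw [QuadraticMap.polar_add_left, QuadraticMap.polar_smul_left, QuadraticMap.polar_smul_left,
      hu₁u₃, hu₂u₃]
    simp
  have hx₀x : QuadraticMap.polar (⇑Q) x₀ x = 0 := by
    rw [hx₀, QuadraticMap.polar_add_left, QuadraticMap.polar_sub_left, QuadraticMap.polar_smul_left,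
      QuadraticMap.polar_smul_left, QuadraticMap.polar_smul_left]
    unfold Dv
    simp only [smul_eq_mul]
    ring
  have hx₀y : QuadraticMap.polar (⇑Q) x₀ y = 0 := by
    rw [hx₀, QuadraticMap.polar_add_left, QuadraticMap.polar_sub_left, QuadraticMap.polar_smul_left,
      QuadraticMap.polar_smul_left, QuadraticMap.polar_smul_left]
    unfold Dv
    simp only [smul_eq_mul]
    ring
  exact hNKO g hg p p₂ x₀ h00 hx₀r hx₀0 hQx₀ hx₀x hx₀y

end Cfsg.Agent.Lib.Helper7.OSub
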