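import Mathlib
import Cfsg.Prelude
import Cfsg.Agent.Lib.Helper7.OSubDefs
import Cfsg.Agent.Lib.Helper1.Subf_A4
import Cfsg.Agent.Lib.Helper3.OSub_BCA

set_option autoImplicit false
set_option linter.unusedSectionVars false
set_option linter.unusedVariables false

/-!
# S5683 / S5702 PK-S: the coefficient field `AL` is `F₀` or everything; `AL = F₀ ⇒ (SS)`
-/

namespace Cfsg.Agent.Lib.Helper7.OSub

open Matrix Cfsg.Agent.Lib.Helper7.Subg Cfsg.Agent.Lib.Helper2.LongRoot Cfsg.Agent.Lib.Helper2.OmMin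
  Cfsg.Agent.Lib.Helper2.CDG

variable {F : Type*} [Field F] [Fintype F] {ι : Type} [Fintype ι] [DecidableEq ι]
variable {Q : QuadraticForm F (ι → F)}

namespace PkS

theorem polar_smul_zero {u w : ι → F} (h : QuadraticMap.polar (⇑Q) u w = 0) (a : F) :
    QuadraticMap.polar (⇑Q) u (a • w) = 0 := by
  rw [QuadraticMap.polar_smul_right, h, smul_zero]

theorem of_mem (hQ : (QuadraticMap.polarBilin Q).Nondegenerate) {F₀ : Subfield F}
    {M : Subgroup ↥(Cfsg.isometryGroup F ⇑Q)} (hE : HasRatE hQ F₀ M) {a : F} (ha : a ∈ F₀) :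
    a ∈ AL hQ F₀ M := fun u w h => hE u (a • w) h.1 (h.2.1.smul ha)

theorem zero_mem (hQ : (QuadraticMap.polarBilin Q).Nondegenerate) {F₀ : Subfield F}
    {M : Subgroup ↥(Cfsg.isometryGroup F ⇑Q)} : (0 : F) ∈ AL hQ F₀ M := by
  intro u w h
  rw [zero_smul, eich_zero]
  exact M.one_mem

theorem add_mem (hQ : (QuadraticMap.polarBilin Q).Nondegenerate) {F₀ : Subfield F}
    {M : Subgroup ↥(Cfsg.isometryGroup F ⇑Q)} {a b : F} (ha : a ∈ AL hQ F₀ M)
    (hb : b ∈ AL hQ F₀ M) : a + b ∈ AL hQ F₀ M := by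
  intro u w h
  obtain ⟨hu, hw, huw, -⟩ := h.2.2
  rw [add_smul, eich_add hQ hu (polar_smul_zero huw a) (polar_smul_zero huw b)]
  exact M.mul_mem (ha u w h) (hb u w h)

theorem neg_mem (hQ : (QuadraticMap.polarBilin Q).Nondegenerate) {F₀ : Subfield F}
    {M : Subgroup ↥(Cfsg.isometryGroup F ⇑Q)} {a : F} (ha : a ∈ AL hQ F₀ M) :
    -a ∈ AL hQ F₀ M := by
  intro u w h
  obtain ⟨hu, hw, huw, -⟩ := h.2.2
  rw [neg_smul, eich_neg hQ hu (polar_smul_zero huw a)]
  exact M.inv_mem (ha u w h)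

/-- a rational singular vector and a member of a rational hyperbolic pair orthogonal to it form an RTSP -/
theorem rtsp_of_hyp {F₀ : Subfield F} {u z z' : ι → F} (hu : Rat F₀ u) (hz : Rat F₀ z) (hu0 : u ≠ 0)
    (hQu : Q u = 0) (hQz : Q z = 0) (huz : QuadraticMap.polar (⇑Q) u z = 0)
    (huz' : QuadraticMap.polar (⇑Q) u z' = 0) (hzz' : QuadraticMap.polar (⇑Q) z z' = 1) :
    RTSP F₀ Q u z := by
  refine ⟨hu, hz, hQu, hQz, huz, fun s t hst => ?_⟩
  have h1 := congrArg (fun x => QuadraticMap.polar (⇑Q) x z') hst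
  simp only [QuadraticMap.polar_add_left, QuadraticMap.polar_smul_left, huz', hzz', smul_eq_mul,
    mul_zero, mul_one, zero_add, QuadraticMap.polar_zero_left] at h1
  subst h1
  rw [zero_smul, add_zero] at hst
  exact ⟨(smul_eq_zero.1 hst).resolve_right hu0, rfl⟩

theorem mul_mem (hQ : (QuadraticMap.polarBilin Q).Nondegenerate) {F₀ : Subfield F}
    {M : Subgroup ↥(Cfsg.isometryGroup F ⇑Q)} (hR : RatQ F₀ Q) (hn : 7 ≤ Fintype.card ι)
    {a b : F} (ha : a ∈ AL hQ F₀ M) (hb : b ∈ AL hQ F₀ M) : a * b ∈ AL hQ F₀ M := by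
  intro u w h
  obtain ⟨hu, hw, huw, -⟩ := h.2.2
  obtain ⟨z, z', hz, hz', hQz, hQz', hzz', hperp⟩ :=
    rat_hyp_perp hQ F₀ hR ![u, w] (by
      intro i
      fin_cases i
      · exact h.1
      · exact h.2.1) (by omega)
  have huz : QuadraticMap.polar (⇑Q) u z = 0 := (hperp 0).1
  have huz' : QuadraticMap.polar (⇑Q) u z' = 0 := (hperp 0).2
  have hwz : QuadraticMap.polar (⇑Q) w z = 0 := (hperp 1).1
  have hwz' : QuadraticMap.polar (⇑Q) w z' = 0 := (hperp 1).2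
  have hz'z : QuadraticMap.polar (⇑Q) z' z = 1 := by rw [QuadraticMap.polar_comm]; exact hzz'
  have h1 : RTSP F₀ Q u z :=
    rtsp_of_hyp h.1 hz h.2.2.ne_zero_left hu hQz huz huz' hzz'
  have h2 : RTSP F₀ Q w z' :=
    rtsp_of_hyp h.2.1 hz' h.2.2.ne_zero_right hw hQz' hwz' hwz hz'z
  have hc := eich_comm hQ hu hw huw (polar_smul_zero huz a) (polar_smul_zero huz' b)
    (polar_smul_zero hwz a) (polar_smul_zero hwz' b)
  have e : QuadraticMap.polar (⇑Q) (a • z) (b • z') = a * b := by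
    rw [QuadraticMap.polar_smul_left, QuadraticMap.polar_smul_right, hzz']
    simp only [smul_eq_mul, mul_one]
  rw [e, LR_eq_eich hQ hu hw huw] at hc
  rw [← hc]
  have m1 := ha u z h1
  have m2 := hb w z' h2
  exact M.mul_mem (M.mul_mem (M.mul_mem m1 m2) (M.inv_mem m1)) (M.inv_mem m2)

theorem pow_mem (hQ : (QuadraticMap.polarBilin Q).Nondegenerate) {F₀ : Subfield F}
    {M : Subgroup ↥(Cfsg.isometryGroup F ⇑Q)} (hR : RatQ F₀ Q) (hn : 7 ≤ Fintype.card ι)
    (hE : HasRatE hQ F₀ M) {a : F} (ha : a ∈ AL hQ F₀ M) (k : ℕ) : a ^ k ∈ AL hQ F₀ M := by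
  induction k with
  | zero =>
    rw [pow_zero]
    exact of_mem hQ hE F₀.one_mem
  | succ k ih =>
    rw [pow_succ]
    exact mul_mem hQ hR hn ih ha

theorem inv_mem (hQ : (QuadraticMap.polarBilin Q).Nondegenerate) {F₀ : Subfield F}
    {M : Subgroup ↥(Cfsg.isometryGroup F ⇑Q)} (hR : RatQ F₀ Q) (hn : 7 ≤ Fintype.card ι)
    (hE : HasRatE hQ F₀ M) {a : F} (ha : a ∈ AL hQ F₀ M) : a⁻¹ ∈ AL hQ F₀ M := by
  by_cases ha0 : a = 0
  · rw [ha0, _root_.inv_zero]
    exact zero_mem hQ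
  · have h1 : a ^ (Fintype.card F - 1) = 1 := FiniteField.pow_card_sub_one_eq_one a ha0
    have hq : 2 ≤ Fintype.card F := Fintype.one_lt_card
    have h2 : a * a ^ (Fintype.card F - 2) = 1 := by
      rw [← pow_succ', ← h1]
      congr 1
      omega
    have h3 : a⁻¹ = a ^ (Fintype.card F - 2) := (eq_inv_of_mul_eq_one_right h2).symm ▸ rfl
    rw [h3]
    exact pow_mem hQ hR hn hE ha _

end PkS

open PkS

/-- the coefficient set is `F₀` or everything -/
theorem al_dichotomy (hQ : (QuadraticMap.polarBilin Q).Nondegenerate) (F₀ : Subfield F)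
    (M : Subgroup ↥(Cfsg.isometryGroup F ⇑Q)) (hR : RatQ F₀ Q) (hn : 7 ≤ Fintype.card ι)
    (hE : HasRatE hQ F₀ M) (r : ℕ) (hr : r.Prime) (hcard : Fintype.card F = Nat.card F₀ ^ r) :
    AL hQ F₀ M = (F₀ : Set F) ∨ AL hQ F₀ M = Set.univ := by
  let 𝔸 : Subfield F :=
    { carrier := AL hQ F₀ M
      mul_mem' := fun ha hb => mul_mem hQ hR hn ha hb
      one_mem' := of_mem hQ hE F₀.one_mem
      add_mem' := fun ha hb => add_mem hQ ha hb
      zero_mem' := zero_mem hQ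
      neg_mem' := fun ha => neg_mem hQ ha
      inv_mem' := fun _ ha => inv_mem hQ hR hn hE ha }
  have hle : F₀ ≤ 𝔸 := fun a ha => of_mem hQ hE ha
  rcases Cfsg.Agent.Lib.Helper7.Subf.subfield_eq_or_eq_top F₀ 𝔸 hle r hr hcard with h | h
  · left
    show (𝔸 : Set F) = (F₀ : Set F)
    rw [h]
  · right
    show (𝔸 : Set F) = Set.univ
    rw [h]
    rfl

/-- if the coefficient set is `F₀` then (SS) holds -/
theorem ss_of_al (hQ : (QuadraticMap.polarBilin Q).Nondegenerate) (F₀ : Subfield F)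
    (M : Subgroup ↥(Cfsg.isometryGroup F ⇑Q)) (hR : RatQ F₀ Q) (hn : 7 ≤ Fintype.card ι)
    (hE : HasRatE hQ F₀ M) (h : AL hQ F₀ M = (F₀ : Set F)) : SS hQ F₀ M := by
  intro u w a huw hm
  have hmem : a ∈ AL hQ F₀ M := by
    intro u' w' h'
    obtain ⟨t, ht, -, -, htu, htw⟩ := rat_trans hQ F₀ M hR hn hE huw h'
    have := eich_conj' hQ t u (a • w)
    rw [Matrix.mulVec_smul, htu, htw] at this
    rw [← this]
    exact M.mul_mem (M.mul_mem ht hm) (M.inv_mem ht)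
  rw [h] at hmem
  exact hmem

end Cfsg.Agent.Lib.Helper7.OSub
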