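import Mathlib
import Cfsg.Agent.Lib.Helper6.OrdF2

/-!
# No simple group of order 4032
-/

set_option autoImplicit false
set_option maxHeartbeats 800000

namespace Cfsg.Agent.Lib.Helper6.OrdF

open Cfsg Cfsg.Agent.Lib.Helper8 Cfsg.Agent.Lib.Helper6.OrdB Cfsg.Agent.Lib.Helper6.OrdD
  Cfsg.Agent.Lib.Helper6.OrdE
open scoped ComplexConjugate

universe u

theorem not_sq_of_between (n N r : ℕ) (h1 : r * r < N) (h2 : N < (r + 1) * (r + 1)) :
    n * n ≠ N := by
  intro h
  rcases le_or_gt n r with hle | hgt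
  · have : n * n ≤ r * r := Nat.mul_le_mul hle hle
    omega
  · have : (r + 1) * (r + 1) ≤ n * n := Nat.mul_le_mul hgt hgt
    omega

/-- the arithmetic at the end -/
theorem final_arith (m k b : ℕ) (hm : m ≤ 13) (hk : 0 < k) (hb : b ≠ 0)
    (h : m * 72576 = (k * b) * (k * b)) : False := by
  have hm0 : m ≠ 0 := by
    rintro rfl
    have : k * b = 0 := by
      by_contra h0
      have : 0 < (k * b) * (k * b) := Nat.mul_pos (Nat.pos_of_ne_zero h0) (Nat.pos_of_ne_zero h0)
      omega
    rcases Nat.mul_eq_zero.1 this with h | h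
    · omega
    · exact hb h
  have := h.symm
  have hm1 : 1 ≤ m := Nat.pos_of_ne_zero hm0
  interval_cases m
  · exact not_sq_of_between _ _ 269 (by norm_num) (by norm_num) this
  · exact not_sq_of_between _ _ 380 (by norm_num) (by norm_num) this
  · exact not_sq_of_between _ _ 466 (by norm_num) (by norm_num) this
  · exact not_sq_of_between _ _ 538 (by norm_num) (by norm_num) this
  · exact not_sq_of_between _ _ 602 (by norm_num) (by norm_num) this
  · exact not_sq_of_between _ _ 659 (by norm_num) (by norm_num) this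
  · exact not_sq_of_between _ _ 712 (by norm_num) (by norm_num) this
  · exact not_sq_of_between _ _ 761 (by norm_num) (by norm_num) this
  · exact not_sq_of_between _ _ 808 (by norm_num) (by norm_num) this
  · exact not_sq_of_between _ _ 851 (by norm_num) (by norm_num) this
  · exact not_sq_of_between _ _ 893 (by norm_num) (by norm_num) this
  · exact not_sq_of_between _ _ 933 (by norm_num) (by norm_num) this
  · exact not_sq_of_between _ _ 971 (by norm_num) (by norm_num) this

variable {G : Type u} [Group G] [Fintype G]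

namespace Cfg

variable (c : Cfg G)

/-- the number of ways of writing `x` as a product of two conjugates of an involution -/
theorem count_le {t : G} (htt : t * t = 1) (ht1 : t ≠ 1) :
    Nat.card {q : G × G // IsConj t q.1 ∧ IsConj t q.2 ∧ q.1 * q.2 = c.x} ≤ 13 := by
  classical
  have h7 : Fact (Nat.Prime 7) := ⟨by norm_num⟩
  have hinv : ∀ g : G, IsConj t g → g * g = 1 ∧ g ≠ 1 := by
    intro g hg
    obtain ⟨u, hu⟩ := isConj_iff.1 hg
    constructor
    · rw [← hu]
      have : u * t * u⁻¹ * (u * t * u⁻¹) = u * (t * t) * u⁻¹ := by group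
      rw [this, htt]; group
    · intro h1
      apply ht1
      rw [h1] at hu
      have : t = u⁻¹ * (u * t * u⁻¹) * u := by group
      rw [this, hu]; group
  have hx1 : c.x ≠ 1 := (c.mem_S.1 c.x_mem_S).2
  have hmemN : ∀ q : {q : G × G // IsConj t q.1 ∧ IsConj t q.2 ∧ q.1 * q.2 = c.x},
      q.1.1 ∈ Subgroup.normalizer ((c.P : Subgroup G) : Set G) ∧ q.1.1 ≠ 1 := by
    rintro ⟨⟨q1, q2⟩, hq1, hq2, hq⟩
    obtain ⟨h11, h12⟩ := hinv q1 hq1
    obtain ⟨h21, -⟩ := hinv q2 hq2
    refine ⟨?_, h12⟩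
    rw [c.hPx]
    apply d1_mem_normalizer (p := 7) c.hx (Subgroup.mem_zpowers c.x) hx1
    have hq1inv : q1⁻¹ = q1 := inv_eq_of_mul_eq_one_right h11
    have hq2inv : q2⁻¹ = q2 := inv_eq_of_mul_eq_one_right h21
    have : q1⁻¹ * c.x * q1 = c.x⁻¹ := by
      simp only at hq
      rw [← hq, hq1inv, mul_inv_rev, hq1inv, hq2inv, ← mul_assoc, h11, one_mul]
    rw [this]
    exact (Subgroup.zpowers c.x).inv_mem (Subgroup.mem_zpowers c.x)
  let f : {q : G × G // IsConj t q.1 ∧ IsConj t q.2 ∧ q.1 * q.2 = c.x} →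
      {n : G // n ∈ Subgroup.normalizer ((c.P : Subgroup G) : Set G) ∧ n ≠ 1} :=
    fun q => ⟨q.1.1, hmemN q⟩
  have hf : Function.Injective f := by
    rintro ⟨⟨q1, q2⟩, hq1, hq2, hq⟩ ⟨⟨r1, r2⟩, hr1, hr2, hr⟩ h
    have h1 : q1 = r1 := congrArg Subtype.val h
    simp only at hq hr
    apply Subtype.ext
    apply Prod.ext h1
    show q2 = r2
    have : q2 = q1⁻¹ * c.x := by rw [← hq]; group
    rw [this, h1, ← hr]; group
  have hcard : Nat.card {n : G // n ∈ Subgroup.normalizer ((c.P : Subgroup G) : Set G) ∧ n ≠ 1}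
      = 13 := by
    rw [Nat.card_eq_fintype_card, Fintype.card_subtype, card_filter_mem_ne_one, c.hN]
  rw [← hcard]
  exact Nat.card_le_card_of_injective f hf

/-- **The configuration is contradictory.** -/
theorem absurd [IsSimpleGroup G] (c : Cfg G) (hperf : commutator G = ⊤) : False := by
  classical
  have h2 : Fact (Nat.Prime 2) := ⟨Nat.prime_two⟩
  obtain ⟨t', ht'⟩ := exists_prime_orderOf_dvd_card' (G :=
    Subgroup.normalizer ((c.P : Subgroup G) : Set G)) 2 (by rw [c.hN]; norm_num)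
  have hto : orderOf (t' : G) = 2 := by rw [Subgroup.orderOf_coe, ht']
  have ht7 : ¬ 7 ∣ orderOf (t' : G) := by rw [hto]; norm_num
  have htt : (t' : G) * (t' : G) = 1 := by
    rw [← pow_two, ← hto]; exact pow_orderOf_eq_one _
  have ht1 : (t' : G) ≠ 1 := by
    intro h
    rw [h, orderOf_one] at hto
    norm_num at hto
  obtain ⟨b, hb, hχt, hbe⟩ := involution_apply hperf c.χ htt
  rw [c.hd8] at hχt hb
  have hx1 : c.x ≠ 1 := (c.mem_S.1 c.x_mem_S).2
  have hb0 : b ≠ 0 := by
    rintro rfl
    apply ht1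
    apply eq_one_of_apply_eq c.χ (h0 := c.x)
    · rw [c.hval c.x (c.mem_S.1 c.x_mem_S).1 hx1, apply_one, c.hd8]; norm_num
    · rw [hχt, apply_one, c.hd8]; norm_num
  have hcm := c.class_mult ht7
  rw [hχt] at hcm
  have hk : 0 < Nat.card {g : G // IsConj (t' : G) g} := by
    have : Nonempty {g : G // IsConj (t' : G) g} := ⟨⟨(t' : G), IsConj.refl _⟩⟩
    exact Nat.card_pos
  have hnat : Nat.card {q : G × G // IsConj (t' : G) q.1 ∧ IsConj (t' : G) q.2 ∧
      q.1 * q.2 = c.x} * 72576 =
      (Nat.card {g : G // IsConj (t' : G) g} * b) *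
        (Nat.card {g : G // IsConj (t' : G) g} * b) := by
    have : ((Nat.card {q : G × G // IsConj (t' : G) q.1 ∧ IsConj (t' : G) q.2 ∧
        q.1 * q.2 = c.x} * 72576 : ℕ) : ℂ) =
        (((Nat.card {g : G // IsConj (t' : G) g} * b) *
          (Nat.card {g : G // IsConj (t' : G) g} * b) : ℕ) : ℂ) := by
      push_cast
      linear_combination (1 / 4 : ℂ) * hcm
    exact_mod_cast this
  exact final_arith _ _ b (c.count_le htt ht1) hk hb0 hnat

end Cfg

end Cfsg.Agent.Lib.Helper6.OrdF
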