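import Mathlib
import Cfsg.Agent.Lib.Helper6.OrdF3

/-!
# No simple group of order 4032: assembly
-/

set_option autoImplicit false
set_option maxHeartbeats 800000

namespace Cfsg.Agent.Lib.Helper6.OrdF

open Cfsg Cfsg.Agent.Lib.Helper8 Cfsg.Agent.Lib.Helper6.OrdB Cfsg.Agent.Lib.Helper6.OrdD
  Cfsg.Agent.Lib.Helper6.OrdE

universe u

theorem ne_4032 {G : Type u} [Group G] [Finite G] [IsSimpleGroup G] (hG : ¬ IsMulCommutative G) :
    Nat.card G ≠ 4032 := by
  intro hcard
  classical
  have : Fintype G := Fintype.ofFinite G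
  have h7 : Fact (Nat.Prime 7) := ⟨by norm_num⟩
  have hperf : commutator G = ⊤ := commutator_eq_top hG
  have hS := fun Q : Sylow 7 G => sylow7_self_centralizing hG hcard Q
  obtain ⟨P⟩ : Nonempty (Sylow 7 G) := inferInstance
  obtain ⟨hPcard, hN, hC, he⟩ := hS P
  obtain ⟨x, hx, hPx, hsq⟩ := d1_sylow_data 7 P hPcard
  obtain ⟨M, hM⟩ := exists_isPModular 7
  obtain ⟨χ, Y, hχne, hd8, htrivY, hχY, hYcard, hval, hYdeg, hYreg⟩ :=
    brauer_e2 hperf hcard M hM (P : Subgroup G) x hx hPx he
  have c : Cfg G :=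
    { P := P
      x := x
      χ := χ
      Y := Y
      hcard := hcard
      hS := fun Q => ⟨(hS Q).1, (hS Q).2.2.1⟩
      hN := hN
      hx := hx
      hPx := hPx
      hχne := hχne
      hd8 := hd8
      htrivY := htrivY
      hχY := hχY
      hYcard := hYcard
      hval := by
        intro s hs hs1
        have := hval s hs hs1 1 (one_mem _) (by rw [orderOf_one]; norm_num)
        rwa [mul_one] at this
      hYdeg := hYdeg
      hYreg := hYreg }
  exact c.absurd hperf

end Cfsg.Agent.Lib.Helper6.OrdF
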