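import Mathlib

/-!
# A `p`-subgroup normalizing a subgroup of order divisible by `p` centralizes an element of order `p`
-/

set_option autoImplicit false
set_option maxHeartbeats 800000

namespace Cfsg.Agent.Lib.Helper6.OrdG

variable {G : Type*} [Group G] [Finite G]

/-- If the `p`-subgroup `S` normalizes `H` and `p` divides `|H|`, then `p` divides `|C_H(S)|`. -/
theorem dvd_card_inf_centralizer {p : ℕ} [hp : Fact p.Prime] (S H : Subgroup G)
    (hS : IsPGroup p S) (hSH : S ≤ Subgroup.normalizer (H : Set G)) (hdvd : p ∣ Nat.card H) :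
    p ∣ Nat.card (H ⊓ Subgroup.centralizer (S : Set G) : Subgroup G) := by
  classical
  let act : MulAction S H :=
    { smul := fun s h => ⟨(s : G) * h * (s : G)⁻¹,
        ((Subgroup.mem_normalizer_iff.1 (hSH s.2)) (h : G)).1 h.2⟩
      one_smul := fun h => by
        apply Subtype.ext
        show ((1 : S) : G) * h * ((1 : S) : G)⁻¹ = h
        simp
      mul_smul := fun s t h => by
        apply Subtype.ext
        show ((s * t : S) : G) * h * ((s * t : S) : G)⁻¹ =
          (s : G) * ((t : G) * h * (t : G)⁻¹) * (s : G)⁻¹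
        simp [mul_assoc] }
  have hsmul : ∀ (s : S) (h : H), ((s • h : H) : G) = (s : G) * h * (s : G)⁻¹ := fun _ _ => rfl
  have h1 := hS.card_modEq_card_fixedPoints (α := H)
  have hA : ∀ h : MulAction.fixedPoints S H,
      ((h : H) : G) ∈ Subgroup.centralizer (S : Set G) := by
    intro h
    rw [Subgroup.mem_centralizer_iff]
    intro s hs
    have h3 := h.2 ⟨s, hs⟩
    have h4 : (s : G) * (h : H) * (s : G)⁻¹ = ((h : H) : G) := by
      rw [← hsmul ⟨s, hs⟩ (h : H), h3]
    calc s * ((h : H) : G) = (s * ((h : H) : G) * s⁻¹) * s := by group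
      _ = ((h : H) : G) * s := by rw [h4]
  have hB : ∀ g : (H ⊓ Subgroup.centralizer (S : Set G) : Subgroup G),
      (⟨(g : G), (Subgroup.mem_inf.1 g.2).1⟩ : H) ∈ MulAction.fixedPoints S H := by
    intro g s
    apply Subtype.ext
    rw [hsmul]
    have h3 := Subgroup.mem_centralizer_iff.1 (Subgroup.mem_inf.1 g.2).2 (s : G) s.2
    calc (s : G) * (g : G) * (s : G)⁻¹ = ((g : G) * (s : G)) * (s : G)⁻¹ := by rw [h3]
      _ = (g : G) := by group
  have h2 : Nat.card (MulAction.fixedPoints S H) =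
      Nat.card (H ⊓ Subgroup.centralizer (S : Set G) : Subgroup G) :=
    Nat.card_congr
      { toFun := fun h => ⟨((h : H) : G), Subgroup.mem_inf.2 ⟨(h : H).2, hA h⟩⟩
        invFun := fun g => ⟨⟨(g : G), (Subgroup.mem_inf.1 g.2).1⟩, hB g⟩
        left_inv := fun h => rfl
        right_inv := fun g => rfl }
  rw [← h2]
  exact (Nat.modEq_zero_iff_dvd.1 (h1.symm.trans (Nat.modEq_zero_iff_dvd.2 hdvd)))

/-- an element of order `p` of `H` centralized by `S` -/
theorem exists_orderOf_eq_centralized {p : ℕ} [hp : Fact p.Prime] (S H : Subgroup G)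
    (hS : IsPGroup p S) (hSH : S ≤ Subgroup.normalizer (H : Set G)) (hdvd : p ∣ Nat.card H) :
    ∃ y : G, y ∈ H ∧ orderOf y = p ∧ ∀ s ∈ S, s * y = y * s := by
  have h1 := dvd_card_inf_centralizer S H hS hSH hdvd
  obtain ⟨y, hy⟩ := exists_prime_orderOf_dvd_card' p h1
  refine ⟨(y : G), y.2.1, ?_, ?_⟩
  · rw [Subgroup.orderOf_coe]
    exact hy
  · intro s hs
    exact Subgroup.mem_centralizer_iff.1 y.2.2 s hs

end Cfsg.Agent.Lib.Helper6.OrdG
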