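import Mathlib
import Cfsg.Agent.Lib.Helper6.OrdC1

/-!
# Sylow 19-subgroups of a simple group of order 459648
-/

set_option autoImplicit false
set_option maxHeartbeats 800000

namespace Cfsg.Agent.Lib.Helper6.OrdG

open Subgroup Cfsg.Agent.Lib.Helper9.SmallOrd Cfsg.Agent.Lib.Helper6.OrdC

variable {G : Type*} [Group G] [Finite G] [IsSimpleGroup G]

set_option maxRecDepth 100000 in
theorem np19_cases : ∀ j < 1274, (19 * j + 1) ∣ 24192 → j = 0 ∨ j = 5 ∨ j = 53 := by
  decide

/-- The two possible configurations of a Sylow 19-subgroup in a simple group of order 459648. -/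
theorem sylow19_data (hG : ¬ IsMulCommutative G) (hcard : Nat.card G = 459648) (P : Sylow 19 G) :
    Nat.card P = 19 ∧ (P : Subgroup G) ≠ ⊥ ∧ (P : Subgroup G) ≠ ⊤ ∧
      (centralizer ((P : Subgroup G) : Set G)).relIndex
            (normalizer ((P : Subgroup G) : Set G)) ≠ 1 ∧
      ((Nat.card (normalizer ((P : Subgroup G) : Set G)) = 4788 ∧
          (centralizer ((P : Subgroup G) : Set G)).relIndex
            (normalizer ((P : Subgroup G) : Set G)) ∣ 18 ∧
          Nat.card (centralizer ((P : Subgroup G) : Set G)) *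
            (centralizer ((P : Subgroup G) : Set G)).relIndex
              (normalizer ((P : Subgroup G) : Set G)) = 4788) ∨
        (Nat.card (normalizer ((P : Subgroup G) : Set G)) = 456 ∧
          (centralizer ((P : Subgroup G) : Set G)).relIndex
            (normalizer ((P : Subgroup G) : Set G)) ∣ 6 ∧
          Nat.card (centralizer ((P : Subgroup G) : Set G)) *
            (centralizer ((P : Subgroup G) : Set G)).relIndex
              (normalizer ((P : Subgroup G) : Set G)) = 456)) := by
  have : Fact (Nat.Prime 19) := ⟨by norm_num⟩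
  have hc : Nat.card G = 19 ^ 1 * 24192 := by rw [hcard]; norm_num
  obtain ⟨hPcard, hPbot, hPtop, hdvd, hmod, hne1, hNtop, hNcard, hfact⟩ :=
    sylow_data hG 1 24192 Nat.one_pos (by norm_num) hc (by norm_num) P
  rw [pow_one] at hPcard
  have hburn : (centralizer ((P : Subgroup G) : Set G)).relIndex
      (normalizer ((P : Subgroup G) : Set G)) ≠ 1 := by
    intro h1
    have h4 : normalizer ((P : Subgroup G) : Set G) ≤ centralizer ((P : Subgroup G) : Set G) :=
      relIndex_eq_one.mp h1
    rcases Cfsg.Agent.Lib.Helper3.sylow_eq_bot_or_top_of_normalizer_le_centralizer P h4 with h' | h'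
    · exact hPbot h'
    · exact hPtop h'
  refine ⟨hPcard, hPbot, hPtop, hburn, ?_⟩
  -- the number of Sylow subgroups
  have hle : Nat.card (Sylow 19 G) ≤ 24192 := Nat.le_of_dvd (by norm_num) hdvd
  have hj : Nat.card (Sylow 19 G) = 19 * (Nat.card (Sylow 19 G) / 19) + 1 := by omega
  have hcases := np19_cases (Nat.card (Sylow 19 G) / 19) (by omega) (by rw [← hj]; exact hdvd)
  rcases hcases with h | h | h
  · exfalso
    apply hne1
    omega
  · left
    have hn : Nat.card (Sylow 19 G) = 96 := by omega
    have hN : Nat.card (normalizer ((P : Subgroup G) : Set G)) = 19 * 252 := by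
      rw [hn, hcard] at hNcard; omega
    obtain ⟨hr, hCr⟩ := relIndex_data P hPcard 252 hN
    exact ⟨by rw [hN], by simpa using hr, by rw [hCr]⟩
  · right
    have hn : Nat.card (Sylow 19 G) = 1008 := by omega
    have hN : Nat.card (normalizer ((P : Subgroup G) : Set G)) = 19 * 24 := by
      rw [hn, hcard] at hNcard; omega
    obtain ⟨hr, hCr⟩ := relIndex_data P hPcard 24 hN
    exact ⟨by rw [hN], by simpa using hr, by rw [hCr]⟩

end Cfsg.Agent.Lib.Helper6.OrdG
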