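import Mathlib

/-!
# Counting the members of a finite set by four possible values
-/

set_option autoImplicit false
set_option maxHeartbeats 800000

namespace Cfsg.Agent.Lib.Helper6.OrdG

/-- splitting a sum of values in `{-18, -56, 96, -189}` by the value -/
theorem count4 {α : Type*} [DecidableEq α] (T : Finset α) (g : α → ℤ)
    (hg : ∀ χ ∈ T, g χ = -18 ∨ g χ = -56 ∨ g χ = 96 ∨ g χ = -189) :
    ∃ a b c d : ℕ, a + b + c + d = T.card ∧
      ∑ χ ∈ T, g χ = -18 * (a : ℤ) - 56 * (b : ℤ) + 96 * (c : ℤ) - 189 * (d : ℤ) ∧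
      a = (T.filter (fun χ => g χ = -18)).card ∧ b = (T.filter (fun χ => g χ = -56)).card := by
  classical
  let V : Finset ℤ := {-18, -56, 96, -189}
  have hmaps : ∀ χ ∈ T, g χ ∈ V := by
    intro χ hχ
    simp only [V, Finset.mem_insert, Finset.mem_singleton]
    exact hg χ hχ
  have h1 := Finset.card_eq_sum_card_fiberwise hmaps
  have h2 := Finset.sum_fiberwise_of_maps_to hmaps g
  have h3 : ∀ v ∈ V, ∑ χ ∈ T.filter (fun χ => g χ = v), g χ =
      ((T.filter (fun χ => g χ = v)).card : ℤ) * v := by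
    intro v _
    rw [Finset.sum_congr rfl (fun χ hχ => (Finset.mem_filter.1 hχ).2), Finset.sum_const]
    simp
  rw [Finset.sum_congr rfl h3] at h2
  refine ⟨(T.filter (fun χ => g χ = -18)).card, (T.filter (fun χ => g χ = -56)).card,
    (T.filter (fun χ => g χ = 96)).card, (T.filter (fun χ => g χ = -189)).card, ?_, ?_, rfl, rfl⟩
  · rw [h1]
    simp only [V]
    rw [Finset.sum_insert (by decide), Finset.sum_insert (by decide), Finset.sum_insert (by decide),
      Finset.sum_singleton]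
    ring
  · rw [← h2]
    simp only [V]
    rw [Finset.sum_insert (by decide), Finset.sum_insert (by decide), Finset.sum_insert (by decide),
      Finset.sum_singleton]
    ring

set_option maxRecDepth 100000 in
theorem arith1008_fin : ∀ a b c d : Fin 6,
    ¬ (a.1 + b.1 + c.1 + d.1 + 1 = 2 ∨ a.1 + b.1 + c.1 + d.1 + 1 = 3 ∨
        a.1 + b.1 + c.1 + d.1 + 1 = 6) ∨
    ¬ ((1 - 18 * (a.1 : ℤ) - 56 * (b.1 : ℤ) + 96 * (c.1 : ℤ) - 189 * (d.1 : ℤ)).natAbs ∣
        459648) ∨
    (a.1 + b.1 + c.1 + d.1 = 5 ∧ (1 ≤ a.1 ∨ 2 ≤ b.1)) := by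
  decide

/-- the arithmetic of the principal block for `|N(P)| = 456` -/
theorem arith1008 (a b c d e : ℕ) (he : e = 2 ∨ e = 3 ∨ e = 6) (hsum : a + b + c + d + 1 = e)
    (hdvd : (1 - 18 * (a : ℤ) - 56 * (b : ℤ) + 96 * (c : ℤ) - 189 * (d : ℤ)).natAbs ∣ 459648) :
    e = 6 ∧ (1 ≤ a ∨ 2 ≤ b) := by
  have ha : a < 6 := by omega
  have hb : b < 6 := by omega
  have hc : c < 6 := by omega
  have hd : d < 6 := by omega
  rcases arith1008_fin ⟨a, ha⟩ ⟨b, hb⟩ ⟨c, hc⟩ ⟨d, hd⟩ with h | h | h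
  · exfalso
    apply h
    simp only
    omega
  · exact absurd hdvd h
  · simp only at h
    exact ⟨by omega, h.2⟩

end Cfsg.Agent.Lib.Helper6.OrdG
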