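import Mathlib
import Cfsg.Agent.Lib.Helper6.OrdG4
import Cfsg.Agent.Lib.Helper6.OrdG5
import Cfsg.Agent.Lib.Helper8.DO18

/-!
# Simple groups of order 459648: the case of 96 Sylow 19-subgroups
-/

set_option autoImplicit false
set_option maxHeartbeats 1600000

namespace Cfsg.Agent.Lib.Helper6.OrdG

open Cfsg Cfsg.Agent.Lib.Helper8 Cfsg.Agent.Lib.Helper6.OrdB Cfsg.Agent.Lib.Helper6.OrdD

universe u

variable {G : Type u} [Group G] [Fintype G]

omit [Fintype G] in
/-- the values of a character as in Brauer's theorem on the powers of `x * y` -/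
theorem apply_pow_mul19 {P' : Subgroup G} {x y : G} (hx : orderOf x = 19) (hxP : x ∈ P')
    (hy : y ∈ Subgroup.centralizer (P' : Set G)) {r : ℕ} (hr : orderOf y = r) (hr19 : ¬ 19 ∣ r)
    {χ : IrrCharacter G} {c : ℂ}
    (hval : ∀ x' : G, x' ∈ P' → x' ≠ 1 → ∀ y : G, y ∈ Subgroup.centralizer (P' : Set G) →
      ¬ 19 ∣ orderOf y → χ.1 (x' * y) = c) (i : ℕ) (hi : ¬ 19 ∣ i) :
    χ.1 ((x * y) ^ i) = c := by
  have hcomm : Commute x y := Subgroup.mem_centralizer_iff.1 hy x hxP
  rw [hcomm.mul_pow]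
  apply hval _ (pow_mem hxP i) _ _ (pow_mem hy i)
  · intro h19
    apply hr19
    rw [← hr]
    exact dvd_trans h19 (orderOf_pow_dvd i)
  · intro h1
    apply hi
    rw [← hx]
    exact orderOf_dvd_of_pow_eq_one h1

variable [IsSimpleGroup G]

/-- **There are not 96 Sylow 19-subgroups.** -/
theorem case96 (hperf : commutator G = ⊤) (hcard : Nat.card G = 459648)
    (M : Ideal AlgInt) [Fact (Nat.Prime 19)] (hM : IsPModular 19 M) (P' : Subgroup G) (x : G)
    (hx : orderOf x = 19) (hP' : P' = Subgroup.zpowers x) (e : ℕ)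
    (he : (Subgroup.centralizer (P' : Set G)).relIndex (Subgroup.normalizer (P' : Set G)) = e)
    (he18 : e ∣ 18) (he1 : e ≠ 1)
    (hC : Nat.card (Subgroup.centralizer (P' : Set G)) * e = 4788) : False := by
  classical
  have h7 : Fact (Nat.Prime 7) := ⟨by norm_num⟩
  have hsq19 : ¬ 19 ^ 2 ∣ Nat.card G := by rw [hcard]; norm_num
  obtain ⟨-, X, Y, hXY, hdisj, hXc, hYc, εX, ε, hX, hε, hYdeg, hYagree, hYsum⟩ :=
    d1_principal 19 M hM P' x hx hP' hsq19 e he
  have hMtop : M ≠ ⊤ := (isPModular_isPrime hM).ne_top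
  have htriv : trivIrr G ∈ X ∪ Y := hXY ▸ trivIrr_mem_principalBlock hMtop
  have hecases : e = 2 ∨ e = 3 ∨ e = 6 ∨ e = 9 ∨ e = 18 := by
    have hle : e ≤ 18 := Nat.le_of_dvd (by norm_num) he18
    interval_cases e <;> omega
  -- an element of order 7 in the centralizer
  have h7C : 7 ∣ Nat.card (Subgroup.centralizer (P' : Set G)) := by
    have h1 : 7 ∣ Nat.card (Subgroup.centralizer (P' : Set G)) * e := by rw [hC]; norm_num
    rcases (Nat.Prime.dvd_mul (by norm_num)).1 h1 with h | h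
    · exact h
    · exfalso
      have := dvd_trans h he18
      norm_num at this
  obtain ⟨y', hy'⟩ := exists_prime_orderOf_dvd_card' 7 h7C
  have hyC : (y' : G) ∈ Subgroup.centralizer (P' : Set G) := y'.2
  have hy7 : orderOf (y' : G) = 7 := by rw [Subgroup.orderOf_coe]; exact hy'
  have hxP : x ∈ P' := by rw [hP']; exact Subgroup.mem_zpowers x
  have hcomm : Commute x (y' : G) := Subgroup.mem_centralizer_iff.1 hyC x hxP
  have hord : orderOf (x * (y' : G)) = 133 := by
    rw [hcomm.orderOf_mul_eq_mul_orderOf_of_coprime (by rw [hx, hy7]; norm_num), hx, hy7]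
  have hpow : ∀ χ ∈ X, ∀ i, ¬ 19 ∣ i → χ.1 ((x * (y' : G)) ^ i) = (εX χ : ℂ) := by
    intro χ hχ i hi
    exact apply_pow_mul19 hx hxP hyC hy7 (by norm_num) (hX χ hχ).2.2 i hi
  have hd1 : ∀ χ : IrrCharacter G, χ ≠ trivIrr G → charDegree χ.1 ≠ 1 :=
    fun χ hne h => hne (eq_trivIrr_of_charDegree_eq_one hperf χ h)
  have hdvd : ∀ χ : IrrCharacter G, charDegree χ.1 ∣ 459648 := fun χ => hcard ▸ charDegree_dvd χ
  have hsq : ∀ χ : IrrCharacter G, (charDegree χ.1) ^ 2 ≤ 459648 := fun χ => hcard ▸ sq_le_card χ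
  have h7G : 7 ∣ Nat.card G := by rw [hcard]; norm_num
  have h49G : ¬ 7 ^ 2 ∣ Nat.card G := by rw [hcard]; norm_num
  -- the non-trivial members of `X` have degree 96
  have h96 : ∀ χ ∈ X, χ ≠ trivIrr G → εX χ * (charDegree χ.1 : ℤ) = 96 := by
    intro χ hχ hne
    obtain ⟨hεχ, hmod, -⟩ := hX χ hχ
    have hzero : 7 ∣ charDegree χ.1 → False := by
      intro h7d
      have h1 := defect_zero_vanish χ 7 (by norm_num) h7G h49G h7d (x * (y' : G))
        (by rw [hord]; norm_num)
      have h2 := hpow χ hχ 1 (by norm_num)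
      rw [pow_one, h1] at h2
      rcases hεχ with h | h <;> rw [h] at h2 <;> norm_num at h2
    rcases deg_cases19 _ _ hεχ (hdvd χ) (hsq χ) (hd1 χ hne) hmod with h | h | h | h
    · exfalso
      obtain ⟨hεm, hd⟩ := (sign_deg hεχ (charDegree_pos χ) h).2 (by norm_num)
      have hd18 : charDegree χ.1 = 18 := by
        have : (charDegree χ.1 : ℤ) = 18 := by rw [hd]; norm_num
        exact_mod_cast this
      refine kill18 χ hx hy7 (by norm_num) (by norm_num) hcomm hd18 (fun i hi => ?_)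
      rw [hpow χ hχ i hi, hεm]
      norm_num
    · exfalso
      obtain ⟨-, hd⟩ := (sign_deg hεχ (charDegree_pos χ) h).2 (by norm_num)
      apply hzero
      have : (charDegree χ.1 : ℤ) = 56 := by rw [hd]; norm_num
      have h56 : charDegree χ.1 = 56 := by exact_mod_cast this
      rw [h56]
      norm_num
    · exact h
    · exfalso
      obtain ⟨-, hd⟩ := (sign_deg hεχ (charDegree_pos χ) h).2 (by norm_num)
      apply hzero
      have : (charDegree χ.1 : ℤ) = 189 := by rw [hd]; norm_num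
      have h189 : charDegree χ.1 = 189 := by exact_mod_cast this
      rw [h189]
      norm_num
  -- the degree equation
  have hXfin : X.Finite := Set.toFinite X
  have hXfcard : hXfin.toFinset.card = e := by
    rw [← hXc, ← Set.ncard_eq_toFinset_card X hXfin, Nat.card_coe_set_eq]
  have h1reg : ¬ 19 ∣ orderOf (1 : G) := by rw [orderOf_one]; norm_num
  have hsumZ : ∀ θ ∈ Y, ε * (charDegree θ.1 : ℤ) =
      ∑ χ ∈ hXfin.toFinset, εX χ * (charDegree χ.1 : ℤ) := by
    intro θ hθ
    have h1 := hYsum θ hθ 1 h1reg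
    rw [finsum_mem_eq_finite_toFinset_sum _ hXfin, apply_one θ] at h1
    have h2 : ∑ χ ∈ hXfin.toFinset, (εX χ : ℂ) * (χ : G → ℂ) 1 =
        ((∑ χ ∈ hXfin.toFinset, εX χ * (charDegree χ.1 : ℤ) : ℤ) : ℂ) := by
      push_cast
      refine Finset.sum_congr rfl fun χ _ => ?_
      rw [apply_one χ]
    rw [h2] at h1
    exact_mod_cast h1
  have hYne : Y.Nonempty := by
    rw [← Set.nonempty_coe_sort]
    apply Nat.card_pos_iff.1 ?_ |>.1
    rw [hYc]
    rcases hecases with rfl | rfl | rfl | rfl | rfl <;> norm_num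
  by_cases htX : trivIrr G ∈ X
  · -- the sum is `1 + 96 (e - 1)`
    obtain ⟨θ0, hθ0⟩ := hYne
    have h1 := hsumZ θ0 hθ0
    have htXf : trivIrr G ∈ hXfin.toFinset := by rwa [Set.Finite.mem_toFinset]
    rw [← Finset.add_sum_erase _ _ htXf] at h1
    have h2 : ∑ χ ∈ hXfin.toFinset.erase (trivIrr G), εX χ * (charDegree χ.1 : ℤ) =
        ∑ _χ ∈ hXfin.toFinset.erase (trivIrr G), (96 : ℤ) := by
      refine Finset.sum_congr rfl fun χ hχ => ?_
      rw [Finset.mem_erase, Set.Finite.mem_toFinset] at hχ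
      exact h96 χ hχ.2 hχ.1
    have hεtriv : εX (trivIrr G) = 1 := by
      obtain ⟨h1, h2, -⟩ := hX _ htX
      rw [charDegree_trivIrr] at h2
      unfold Int.ModEq at h2
      rcases h1 with h1 | h1
      · exact h1
      · rw [h1] at h2; norm_num at h2
    rw [h2, Finset.sum_const, Finset.card_erase_of_mem htXf, hXfcard, hεtriv,
      charDegree_trivIrr] at h1
    have hdvdθ' : (ε * (charDegree θ0.1 : ℤ)).natAbs ∣ 459648 := by
      rcases hε with rfl | rfl
      · simpa using hdvd θ0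
      · simpa using hdvd θ0
    rw [h1] at hdvdθ'
    rcases hecases with rfl | rfl | rfl | rfl | rfl <;> revert hdvdθ' <;> decide
  · -- the trivial character is exceptional: impossible
    have htY : trivIrr G ∈ Y := by
      rcases htriv with h | h
      · exact absurd h htX
      · exact h
    have h1 := hsumZ _ htY
    have h2 : ∑ χ ∈ hXfin.toFinset, εX χ * (charDegree χ.1 : ℤ) =
        ∑ _χ ∈ hXfin.toFinset, (96 : ℤ) := by
      refine Finset.sum_congr rfl fun χ hχ => ?_
      rw [Set.Finite.mem_toFinset] at hχ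
      exact h96 χ hχ (fun h => htX (h ▸ hχ))
    rw [h2, Finset.sum_const, hXfcard, charDegree_trivIrr] at h1
    rcases hε with rfl | rfl <;> rcases hecases with rfl | rfl | rfl | rfl | rfl <;>
      norm_num at h1

end Cfsg.Agent.Lib.Helper6.OrdG
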