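import Mathlib
import Cfsg.Agent.Lib.Helper6.OrdG2
import Cfsg.Agent.Lib.Helper6.OrdG6
import Cfsg.Agent.Lib.Helper1.CharFound5
import Cfsg.Agent.Lib.Helper9.SmallOrd16

/-!
# Simple groups of order 459648: the case of 1008 Sylow 19-subgroups
-/

set_option autoImplicit false
set_option maxHeartbeats 1600000

namespace Cfsg.Agent.Lib.Helper6.OrdG

open Cfsg Cfsg.Agent.Lib.Helper8 Cfsg.Agent.Lib.Helper6.OrdB Cfsg.Agent.Lib.Helper6.OrdD
  Cfsg.Agent.Lib.Helper1 Cfsg.Agent.Lib.Helper9.SmallOrd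
open scoped ComplexConjugate

universe u

theorem np_cases3024 : ∀ j < 160, (19 * j + 1) ∣ 3024 → j = 0 ∨ j = 53 := by
  decide

/-- the order of a subgroup `D` with `|D| = n' m`, `n' ≡ 1 (mod 19)`, `152 ∣ m ∣ 456` -/
theorem card_D_cases (n' m : ℕ) (hn' : n' % 19 = 1) (hm1 : 152 ∣ m) (hm2 : m ∣ 456)
    (hdvd : n' * m ∣ 459648) (hbig : 649 ≤ n' * m) :
    n' * m = 153216 ∨ n' * m = 459648 := by
  have hm : m = 152 ∨ m = 456 := by
    obtain ⟨k, rfl⟩ := hm1
    have hk : k ∣ 3 := by
      have : 152 * k ∣ 152 * 3 := hm2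
      exact Nat.dvd_of_mul_dvd_mul_left (by norm_num) this
    have hk' : k = 1 ∨ k = 3 := (Nat.dvd_prime (by norm_num)).1 hk
    rcases hk' with rfl | rfl
    · left; rfl
    · right; rfl
  have h3024 : n' ∣ 3024 := by
    have h1 : n' * 152 ∣ 459648 := dvd_trans (Nat.mul_dvd_mul_left n' hm1) hdvd
    have h2 : n' * 152 ∣ 3024 * 152 := h1
    exact Nat.dvd_of_mul_dvd_mul_right (by norm_num) h2
  have hle : n' ≤ 3024 := Nat.le_of_dvd (by norm_num) h3024
  have hj : n' = 19 * (n' / 19) + 1 := by omega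
  have hcases := np_cases3024 (n' / 19) (by omega) (by rw [← hj]; exact h3024)
  have hn1 : n' = 1 ∨ n' = 1008 := by omega
  rcases hn1 with rfl | rfl
  · exfalso
    rcases hm with rfl | rfl <;> omega
  · rcases hm with rfl | rfl
    · left; rfl
    · right; rfl

variable {G : Type u} [Group G] [Fintype G] [IsSimpleGroup G]

/-- **There are not 1008 Sylow 19-subgroups.** -/
theorem case1008 (hG : ¬ IsMulCommutative G) (hperf : commutator G = ⊤)
    (hcard : Nat.card G = 459648)
    (M : Ideal AlgInt) [Fact (Nat.Prime 19)] (hM : IsPModular 19 M) (P : Sylow 19 G) (x : G)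
    (hx : orderOf x = 19) (hPx : (P : Subgroup G) = Subgroup.zpowers x) (e : ℕ)
    (he : (Subgroup.centralizer ((P : Subgroup G) : Set G)).relIndex
      (Subgroup.normalizer ((P : Subgroup G) : Set G)) = e)
    (he6 : e ∣ 6) (he1 : e ≠ 1)
    (hN : Nat.card (Subgroup.normalizer ((P : Subgroup G) : Set G)) = 456)
    (hC : Nat.card (Subgroup.centralizer ((P : Subgroup G) : Set G)) * e = 456) : False := by
  classical
  have h2 : Fact (Nat.Prime 2) := ⟨by norm_num⟩
  have : Fintype (IrrCharacter G) := Fintype.ofFinite _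
  have hsq19 : ¬ 19 ^ 2 ∣ Nat.card G := by rw [hcard]; norm_num
  have hecases : e = 2 ∨ e = 3 ∨ e = 6 := by
    have hle : e ≤ 6 := Nat.le_of_dvd (by norm_num) he6
    interval_cases e <;> omega
  -- a subgroup `S` of order 8 of the normalizer
  obtain ⟨S, hScard, hSN⟩ : ∃ S : Subgroup G, Nat.card S = 2 ^ 3 ∧
      S ≤ Subgroup.normalizer ((P : Subgroup G) : Set G) := by
    obtain ⟨K, hK⟩ := Sylow.exists_subgroup_card_pow_prime 2 (n := 3)
      (G := Subgroup.normalizer ((P : Subgroup G) : Set G)) (by rw [hN]; norm_num)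
    refine ⟨K.map (Subgroup.normalizer ((P : Subgroup G) : Set G)).subtype, ?_,
      Subgroup.map_subtype_le K⟩
    rw [Subgroup.card_map_of_injective (Subgroup.subtype_injective _), hK]
  have hSp : IsPGroup 2 S := IsPGroup.of_card hScard
  have hNC : Subgroup.normalizer ((P : Subgroup G) : Set G) ≤
      Subgroup.normalizer
        ((Subgroup.centralizer ((P : Subgroup G) : Set G) : Subgroup G) : Set G) :=
    (Subgroup.normal_subgroupOf_iff_le_normalizer
      (Subgroup.centralizer_le_normalizer _)).1 inferInstance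
  have h2C : 2 ∣ Nat.card (Subgroup.centralizer ((P : Subgroup G) : Set G)) := by
    rcases hecases with rfl | rfl | rfl <;> omega
  obtain ⟨y, hyC, hy2, hyS⟩ := exists_orderOf_eq_centralized _ _ hSp (hSN.trans hNC) h2C
  have hxP : x ∈ (P : Subgroup G) := by rw [hPx]; exact Subgroup.mem_zpowers x
  have hcomm : Commute x y := Subgroup.mem_centralizer_iff.1 hyC x hxP
  -- the principal block
  obtain ⟨-, X, Y, hXY, hdisj, hXc, hYc, εX, ε, hX, hε, hYdeg, hYagree, hYsum⟩ :=
    d1_principal 19 M hM (P : Subgroup G) x hx hPx hsq19 e he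
  have hMtop : M ≠ ⊤ := (isPModular_isPrime hM).ne_top
  have htriv : trivIrr G ∈ X ∪ Y := hXY ▸ trivIrr_mem_principalBlock hMtop
  have htrivY : trivIrr G ∉ Y := by
    intro h
    have h1 := hYdeg _ h
    rw [charDegree_trivIrr] at h1
    unfold Int.ModEq at h1
    rcases hε with rfl | rfl <;> rcases hecases with rfl | rfl | rfl <;> norm_num at h1
  have htX : trivIrr G ∈ X := by
    rcases htriv with h | h
    · exact h
    · exact absurd h htrivY
  have hεtriv : εX (trivIrr G) = 1 := by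
    obtain ⟨h1, h2, -⟩ := hX _ htX
    rw [charDegree_trivIrr] at h2
    unfold Int.ModEq at h2
    rcases h1 with h1 | h1
    · exact h1
    · rw [h1] at h2; norm_num at h2
  have hpow : ∀ χ ∈ X, ∀ i, ¬ 19 ∣ i → χ.1 ((x * y) ^ i) = (εX χ : ℂ) :=
    fun χ hχ i hi => apply_pow_mul19 hx hxP hyC hy2 (by norm_num) (hX χ hχ).2.2 i hi
  have hd1 : ∀ χ : IrrCharacter G, χ ≠ trivIrr G → charDegree χ.1 ≠ 1 :=
    fun χ hne h => hne (eq_trivIrr_of_charDegree_eq_one hperf χ h)
  have hdvd : ∀ χ : IrrCharacter G, charDegree χ.1 ∣ 459648 := fun χ => hcard ▸ charDegree_dvd χ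
  have hsq : ∀ χ : IrrCharacter G, (charDegree χ.1) ^ 2 ≤ 459648 := fun χ => hcard ▸ sq_le_card χ
  -- the signed degrees of the non-trivial members of `X`
  have hsd : ∀ χ ∈ X, χ ≠ trivIrr G → εX χ * (charDegree χ.1 : ℤ) = -56 ∨
      εX χ * (charDegree χ.1 : ℤ) = 96 ∨ εX χ * (charDegree χ.1 : ℤ) = -189 := by
    intro χ hχ hne
    obtain ⟨hεχ, hmod, -⟩ := hX χ hχ
    rcases deg_cases19 _ _ hεχ (hdvd χ) (hsq χ) (hd1 χ hne) hmod with h | h | h | h
    · exfalso
      obtain ⟨hεm, hd⟩ := (sign_deg hεχ (charDegree_pos χ) h).2 (by norm_num)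
      have hd18 : charDegree χ.1 = 18 := by
        have : (charDegree χ.1 : ℤ) = 18 := by rw [hd]; norm_num
        exact_mod_cast this
      refine kill18 χ hx hy2 (by norm_num) (by norm_num) hcomm hd18 (fun i hi => ?_)
      rw [hpow χ hχ i hi, hεm]
      norm_num
    · exact Or.inl h
    · exact Or.inr (Or.inl h)
    · exact Or.inr (Or.inr h)
  -- counting
  have hXfin : X.Finite := Set.toFinite X
  have hXfcard : hXfin.toFinset.card = e := by
    rw [← hXc, ← Set.ncard_eq_toFinset_card X hXfin, Nat.card_coe_set_eq]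
  have htXf : trivIrr G ∈ hXfin.toFinset := by rwa [Set.Finite.mem_toFinset]
  have hTcard : (hXfin.toFinset.erase (trivIrr G)).card = e - 1 := by
    rw [Finset.card_erase_of_mem htXf, hXfcard]
  have hTmem : ∀ χ ∈ hXfin.toFinset.erase (trivIrr G), χ ∈ X ∧ χ ≠ trivIrr G := by
    intro χ hχ
    rw [Finset.mem_erase, Set.Finite.mem_toFinset] at hχ
    exact ⟨hχ.2, hχ.1⟩
  obtain ⟨a, b, c, d, habcd, hsum, ha, hb⟩ := count4 (hXfin.toFinset.erase (trivIrr G))
    (fun χ => εX χ * (charDegree χ.1 : ℤ))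
    (fun χ hχ => Or.inr (hsd χ (hTmem χ hχ).1 (hTmem χ hχ).2))
  have ha0 : a = 0 := by
    rw [ha, Finset.card_eq_zero, Finset.filter_eq_empty_iff]
    intro χ hχ h18
    rcases hsd χ (hTmem χ hχ).1 (hTmem χ hχ).2 with h | h | h <;> omega
  -- the degree equation
  have h1reg : ¬ 19 ∣ orderOf (1 : G) := by rw [orderOf_one]; norm_num
  have hYne : Y.Nonempty := by
    rw [← Set.nonempty_coe_sort]
    apply Nat.card_pos_iff.1 ?_ |>.1
    rw [hYc]
    rcases hecases with rfl | rfl | rfl <;> norm_num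
  obtain ⟨θ0, hθ0⟩ := hYne
  have heq : ε * (charDegree θ0.1 : ℤ) =
      1 + ∑ χ ∈ hXfin.toFinset.erase (trivIrr G), εX χ * (charDegree χ.1 : ℤ) := by
    have h1 := hYsum θ0 hθ0 1 h1reg
    rw [finsum_mem_eq_finite_toFinset_sum _ hXfin, apply_one θ0] at h1
    have h2 : ∑ χ ∈ hXfin.toFinset, (εX χ : ℂ) * (χ : G → ℂ) 1 =
        ((∑ χ ∈ hXfin.toFinset, εX χ * (charDegree χ.1 : ℤ) : ℤ) : ℂ) := by
      push_cast
      refine Finset.sum_congr rfl fun χ _ => ?_
      rw [apply_one χ]
    rw [h2] at h1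
    have h3 : ε * (charDegree θ0.1 : ℤ) =
        ∑ χ ∈ hXfin.toFinset, εX χ * (charDegree χ.1 : ℤ) := by exact_mod_cast h1
    rw [h3, ← Finset.add_sum_erase _ _ htXf, hεtriv, charDegree_trivIrr]
    norm_num
  have hdvdθ' : (ε * (charDegree θ0.1 : ℤ)).natAbs ∣ 459648 := by
    rcases hε with rfl | rfl
    · simpa using hdvd θ0
    · simpa using hdvd θ0
  rw [heq, hsum] at hdvdθ'
  have harith := arith1008 a b c d e hecases (by omega) (by
    have : (1 - 18 * (a : ℤ) - 56 * (b : ℤ) + 96 * (c : ℤ) - 189 * (d : ℤ)) =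
        1 + (-18 * (a : ℤ) - 56 * (b : ℤ) + 96 * (c : ℤ) - 189 * (d : ℤ)) := by ring
    rw [this]
    exact hdvdθ')
  obtain ⟨he6', hab⟩ := harith
  have hb2 : 1 < b := by omega
  rw [hb] at hb2
  obtain ⟨χ1, hχ1, χ2, hχ2, h12⟩ := Finset.one_lt_card.1 hb2
  -- the values at `y`
  have hval56 : ∀ χ ∈ (hXfin.toFinset.erase (trivIrr G)).filter
      (fun χ => εX χ * (charDegree χ.1 : ℤ) = -56), χ ≠ trivIrr G ∧
        324 ≤ Complex.normSq (χ.1 y) := by
    intro χ hχ
    rw [Finset.mem_filter] at hχ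
    obtain ⟨hχX, hχne⟩ := hTmem χ hχ.1
    obtain ⟨hεχ, -, -⟩ := hX χ hχX
    obtain ⟨hεm, hd⟩ := (sign_deg hεχ (charDegree_pos χ) hχ.2).2 (by norm_num)
    have hd56 : charDegree χ.1 = 56 := by
      have : (charDegree χ.1 : ℤ) = 56 := by rw [hd]; norm_num
      exact_mod_cast this
    have hv := val56 χ hx hy2 hcomm hd56 (fun i hi => by
      rw [hpow χ hχX i hi, hεm]
      norm_num)
    refine ⟨hχne, ?_⟩
    rcases hv with h | h
    · rw [h, show (18 : ℂ) = ((18 : ℝ) : ℂ) by norm_num, Complex.normSq_ofReal]; norm_num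
    · rw [h, show (-20 : ℂ) = ((-20 : ℝ) : ℂ) by norm_num, Complex.normSq_ofReal]; norm_num
  obtain ⟨hχ1ne, hχ1v⟩ := hval56 χ1 hχ1
  obtain ⟨hχ2ne, hχ2v⟩ := hval56 χ2 hχ2
  -- the centralizer of `y`
  have hPD : (P : Subgroup G) ≤ Subgroup.centralizer ({y} : Set G) := by
    intro z hz
    rw [Subgroup.mem_centralizer_iff]
    intro h hh
    rw [Set.mem_singleton_iff] at hh
    rw [hh]
    exact (Subgroup.mem_centralizer_iff.1 hyC z hz).symm
  have hSD : S ≤ Subgroup.centralizer ({y} : Set G) := by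
    intro s hs
    rw [Subgroup.mem_centralizer_iff]
    intro h hh
    rw [Set.mem_singleton_iff] at hh
    rw [hh]
    exact (hyS s hs).symm
  have hcardD := card_eq_card_sylow_mul P (Subgroup.centralizer ({y} : Set G)) hPD
  have hn' : Nat.card (Sylow 19 (Subgroup.centralizer ({y} : Set G))) % 19 = 1 := by
    have h := card_sylow_modEq_one 19 (Subgroup.centralizer ({y} : Set G))
    have h' : Nat.card (Sylow 19 (Subgroup.centralizer ({y} : Set G))) % 19 = 1 % 19 := h
    rw [h']
  have hPcard : Nat.card (P : Subgroup G) = 19 := by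
    rw [hPx, Nat.card_zpowers, hx]
  have hm1 : 152 ∣ Nat.card (Subgroup.centralizer ({y} : Set G) ⊓
      Subgroup.normalizer ((P : Subgroup G) : Set G) : Subgroup G) := by
    have h19 : 19 ∣ Nat.card (Subgroup.centralizer ({y} : Set G) ⊓
        Subgroup.normalizer ((P : Subgroup G) : Set G) : Subgroup G) := by
      have h := Subgroup.card_dvd_of_le
        (le_inf hPD (Subgroup.le_normalizer : (P : Subgroup G) ≤ _))
      rwa [hPcard] at h
    have h8 : 8 ∣ Nat.card (Subgroup.centralizer ({y} : Set G) ⊓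
        Subgroup.normalizer ((P : Subgroup G) : Set G) : Subgroup G) := by
      have h := Subgroup.card_dvd_of_le (le_inf hSD hSN)
      rw [hScard] at h
      exact h
    exact Nat.Coprime.mul_dvd_of_dvd_of_dvd (by norm_num : Nat.Coprime 19 8) h19 h8
  have hm2 : Nat.card (Subgroup.centralizer ({y} : Set G) ⊓
      Subgroup.normalizer ((P : Subgroup G) : Set G) : Subgroup G) ∣ 456 := by
    rw [← hN]
    exact Subgroup.card_dvd_of_le inf_le_right
  have hDdvd : Nat.card (Subgroup.centralizer ({y} : Set G)) ∣ 459648 := by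
    rw [← hcard]
    exact Subgroup.card_subgroup_dvd_card _
  -- column orthogonality
  have hcol := column_orthogonality y y
  have hci : classIndicator y y = 1 := by
    unfold classIndicator
    rw [if_pos (IsConj.refl y)]
  rw [hci, mul_one] at hcol
  have hreal : ∑ χ : IrrCharacter G, Complex.normSq (χ.1 y) =
      (Nat.card (Subgroup.centralizer ({y} : Set G)) : ℝ) := by
    have h3 : ((∑ χ : IrrCharacter G, Complex.normSq (χ.1 y) : ℝ) : ℂ) =
        ((Nat.card (Subgroup.centralizer ({y} : Set G)) : ℝ) : ℂ) := by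
      push_cast
      rw [← hcol]
      refine Finset.sum_congr rfl fun χ _ => ?_
      rw [Complex.mul_conj]
    exact_mod_cast h3
  have hbig : 649 ≤ Nat.card (Subgroup.centralizer ({y} : Set G)) := by
    have h4 : ∑ χ ∈ ({trivIrr G, χ1, χ2} : Finset (IrrCharacter G)), Complex.normSq (χ.1 y) ≤
        ∑ χ : IrrCharacter G, Complex.normSq (χ.1 y) :=
      Finset.sum_le_univ_sum_of_nonneg (fun χ => Complex.normSq_nonneg _)
    have hnot : trivIrr G ∉ ({χ1, χ2} : Finset (IrrCharacter G)) := by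
      intro h
      rw [Finset.mem_insert, Finset.mem_singleton] at h
      rcases h with h | h
      · exact hχ1ne h.symm
      · exact hχ2ne h.symm
    rw [Finset.sum_insert hnot, Finset.sum_pair h12, trivIrr_apply, map_one, hreal] at h4
    have h5 : (649 : ℝ) ≤ (Nat.card (Subgroup.centralizer ({y} : Set G)) : ℝ) := by linarith
    exact_mod_cast h5
  rw [hcardD] at hDdvd hbig
  have hDcases := card_D_cases _ _ hn' hm1 hm2 hDdvd hbig
  rw [← hcardD] at hDcases
  have hidx := (Subgroup.centralizer ({y} : Set G)).index_mul_card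
  rw [hcard] at hidx
  rcases hDcases with hD | hD
  · -- index 3
    rw [hD] at hidx
    have hi3 : (Subgroup.centralizer ({y} : Set G)).index = 3 := by omega
    have hDtop : Subgroup.centralizer ({y} : Set G) ≠ ⊤ := by
      intro h
      rw [h, Subgroup.index_top] at hi3
      norm_num at hi3
    have := two_mul_card_dvd_factorial hG _ hDtop
    rw [hi3, hcard] at this
    norm_num at this
  · -- index 1
    rw [hD] at hidx
    have hi1 : (Subgroup.centralizer ({y} : Set G)).index = 1 := by omega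
    have hDtop : Subgroup.centralizer ({y} : Set G) = ⊤ := Subgroup.index_eq_one.1 hi1
    have hyZ : y ∈ Subgroup.center G := by
      rw [Subgroup.mem_center_iff]
      intro g
      have hg : g ∈ Subgroup.centralizer ({y} : Set G) := by rw [hDtop]; trivial
      exact (Subgroup.mem_centralizer_iff.1 hg y rfl).symm
    rw [center_eq_bot hG, Subgroup.mem_bot] at hyZ
    rw [hyZ, orderOf_one] at hy2
    norm_num at hy2

end Cfsg.Agent.Lib.Helper6.OrdG
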