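import Mathlib
import Cfsg.Agent.Lib.Helper6.OrdG3
import Cfsg.Agent.Lib.Helper6.OrdG7

/-!
# No simple group of order 459648: assembly
-/

set_option autoImplicit false
set_option maxHeartbeats 800000

namespace Cfsg.Agent.Lib.Helper6.OrdG

open Cfsg Cfsg.Agent.Lib.Helper8 Cfsg.Agent.Lib.Helper6.OrdB

universe u

theorem ne_459648 {G : Type u} [Group G] [Finite G] [IsSimpleGroup G] (hG : ¬ IsMulCommutative G) :
    Nat.card G ≠ 459648 := by
  intro hcard
  classical
  have : Fintype G := Fintype.ofFinite G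
  have h19 : Fact (Nat.Prime 19) := ⟨by norm_num⟩
  have hperf : commutator G = ⊤ := commutator_eq_top hG
  obtain ⟨P⟩ : Nonempty (Sylow 19 G) := inferInstance
  obtain ⟨hPcard, -, -, hburn, hcases⟩ := sylow19_data hG hcard P
  obtain ⟨x, hx, hPx, hsq⟩ := d1_sylow_data 19 P hPcard
  obtain ⟨M, hM⟩ := exists_isPModular 19
  rcases hcases with ⟨hN, he, hC⟩ | ⟨hN, he, hC⟩
  · exact case96 hperf hcard M hM (P : Subgroup G) x hx hPx _ rfl he hburn hC
  · exact case1008 hG hperf hcard M hM P x hx hPx _ rfl he hburn hN hC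

end Cfsg.Agent.Lib.Helper6.OrdG
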