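import Mathlib
import Cfsg.Agent.Lib.Helper6.OrdC1
import Cfsg.Agent.S0904

/-!
# Sylow 5-subgroups of simple groups of order 5760 and 4320
-/

set_option autoImplicit false
set_option maxHeartbeats 800000

namespace Cfsg.Agent.Lib.Helper6.OrdI

open Subgroup Cfsg.Agent.Lib.Helper9.SmallOrd Cfsg.Agent.Lib.Helper6.OrdC

variable {G : Type*} [Group G] [Finite G] [IsSimpleGroup G]

/-- Sylow 5-subgroups of a simple group of order `2 ^ a * 3 ^ b * 5`: self-centralizing, with
`|N(P)| = 5 e`, `e ∣ 4`, `e * n_5 = 2 ^ a * 3 ^ b`. -/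
theorem sylow5_data (hG : ¬ IsMulCommutative G) (a b : ℕ) (hm : 1 < 2 ^ a * 3 ^ b)
    (hcard : Nat.card G = 2 ^ a * 3 ^ b * 5) (P : Sylow 5 G) :
    Nat.card P = 5 ∧ centralizer ((P : Subgroup G) : Set G) = (P : Subgroup G) ∧
      ∃ e : ℕ, (centralizer ((P : Subgroup G) : Set G)).relIndex
            (normalizer ((P : Subgroup G) : Set G)) = e ∧ e ∣ 4 ∧
        Nat.card (normalizer ((P : Subgroup G) : Set G)) = 5 * e ∧
        e * Nat.card (Sylow 5 G) = 2 ^ a * 3 ^ b ∧ Nat.card (Sylow 5 G) % 5 = 1 := by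
  have : Fact (Nat.Prime 5) := ⟨by norm_num⟩
  have hc : Nat.card G = 5 ^ 1 * (2 ^ a * 3 ^ b) := by rw [hcard]; ring
  have h5 : ¬ 5 ∣ 2 ^ a * 3 ^ b := by
    intro h
    rcases (Nat.Prime.dvd_mul (by norm_num)).1 h with h | h
    · have := Nat.Prime.dvd_of_dvd_pow (by norm_num) h
      norm_num at this
    · have := Nat.Prime.dvd_of_dvd_pow (by norm_num) h
      norm_num at this
  obtain ⟨hPcard, hPbot, hPtop, hdvd, hmod, hne1, hNtop, hNcard, hfact⟩ :=
    sylow_data hG 1 (2 ^ a * 3 ^ b) Nat.one_pos hm hc h5 P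
  rw [pow_one] at hPcard
  have hCP : centralizer ((P : Subgroup G) : Set G) = (P : Subgroup G) :=
    Cfsg.Agent.S0904.result 2 3 5 a b (by norm_num) (by norm_num) (by norm_num) (by norm_num)
      (by norm_num) hcard P
  refine ⟨hPcard, hCP, ?_⟩
  have hPN : (P : Subgroup G) ≤ normalizer ((P : Subgroup G) : Set G) := le_normalizer
  have h5N : 5 ∣ Nat.card (normalizer ((P : Subgroup G) : Set G)) := by
    have := Subgroup.card_dvd_of_le hPN
    rwa [hPcard] at this
  obtain ⟨k, hk⟩ := h5N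
  obtain ⟨hr, hCr⟩ := relIndex_data P hPcard k hk
  have hCcard : Nat.card (centralizer ((P : Subgroup G) : Set G)) = 5 := by rw [hCP]; exact hPcard
  rw [hCcard] at hCr
  have hek : (centralizer ((P : Subgroup G) : Set G)).relIndex
      (normalizer ((P : Subgroup G) : Set G)) = k := by omega
  refine ⟨k, hek, ?_, hk, ?_, hmod⟩
  · rw [hek] at hr
    exact dvd_trans hr (Nat.gcd_dvd_right k _)
  · rw [hk, hcard] at hNcard
    have : 5 * (k * Nat.card (Sylow 5 G)) = 5 * (2 ^ a * 3 ^ b) := by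
      linarith
    exact Nat.eq_of_mul_eq_mul_left (by norm_num) this

end Cfsg.Agent.Lib.Helper6.OrdI
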