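import Mathlib
import Cfsg.Agent.Lib.Helper6.OrdI1
import Cfsg.Agent.Lib.Helper6.OrdH3
import Cfsg.Agent.Lib.Helper6.OrdG2
import Cfsg.Agent.Lib.Helper6.OrdD1

/-!
# No simple group of order 5760
-/

set_option autoImplicit false
set_option maxHeartbeats 1600000

namespace Cfsg.Agent.Lib.Helper6.OrdI

open Cfsg Cfsg.Agent.Lib.Helper8 Cfsg.Agent.Lib.Helper6.OrdB Cfsg.Agent.Lib.Helper6.OrdD
  Cfsg.Agent.Lib.Helper6.OrdH Cfsg.Agent.Lib.Helper6.OrdG Cfsg.Agent.Lib.Helper1
open scoped ComplexConjugate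

universe u

set_option maxRecDepth 100000 in
theorem deg_table5760 : ∀ d < 76, d ∣ 5760 → d = 1 ∨ (d % 5 = 1 ∧ (d = 6 ∨ d = 16 ∨ d = 36)) ∨
    (d % 5 = 4 ∧ (d = 4 ∨ d = 9 ∨ d = 24 ∨ d = 64)) ∨ (d % 5 ≠ 1 ∧ d % 5 ≠ 4) := by
  decide

/-- the possible signed degrees `≡ ±1` modulo 5 -/
theorem deg_cases5760 (d : ℕ) (ε : ℤ) (hε : ε = 1 ∨ ε = -1) (hdvd : d ∣ 5760)
    (hsq : d ^ 2 ≤ 5760) (hd1 : d ≠ 1) (hmod : (d : ℤ) ≡ ε [ZMOD 5]) :
    ε * (d : ℤ) = -4 ∨ ε * (d : ℤ) = 6 ∨ ε * (d : ℤ) = -9 ∨ ε * (d : ℤ) = 16 ∨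
      ε * (d : ℤ) = -24 ∨ ε * (d : ℤ) = 36 ∨ ε * (d : ℤ) = -64 := by
  have hle : d < 76 := by nlinarith
  have htab := deg_table5760 d hle hdvd
  unfold Int.ModEq at hmod
  rcases hε with rfl | rfl
  · have h3 : d % 5 = 1 := by omega
    rcases htab with h | ⟨-, h | h | h⟩ | ⟨h, -⟩ | ⟨h, -⟩ <;> omega
  · have h3 : d % 5 = 4 := by omega
    rcases htab with h | ⟨h, -⟩ | ⟨-, h | h | h | h⟩ | ⟨-, h⟩ <;> omega

/-- the final arithmetic: `m c² = A b²` with `128 ∣ c` -/
theorem arith5760 (m c b : ℕ) (hc : 128 ∣ c) (hb1 : 1 ≤ b) :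
    (b ≤ 4 → m * c ^ 2 = 1920 * b ^ 2 → False) ∧ (b ≤ 9 → m * c ^ 2 = 320 * b ^ 2 → False) := by
  obtain ⟨c', rfl⟩ := hc
  constructor
  · intro hb h
    have h1 : 128 * (m * c' ^ 2) = 15 * b ^ 2 := by nlinarith
    generalize m * c' ^ 2 = w at h1
    interval_cases b <;> omega
  · intro hb h
    have h1 : 256 * (m * c' ^ 2) = 5 * b ^ 2 := by nlinarith
    generalize m * c' ^ 2 = w at h1
    interval_cases b <;> omega

theorem ne_5760 {G : Type u} [Group G] [Finite G] [IsSimpleGroup G] (hG : ¬ IsMulCommutative G) :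
    Nat.card G ≠ 5760 := by
  intro hcard
  classical
  have : Fintype G := Fintype.ofFinite G
  have : Fintype (IrrCharacter G) := Fintype.ofFinite _
  have h5 : Fact (Nat.Prime 5) := ⟨by norm_num⟩
  have h2 : Fact (Nat.Prime 2) := ⟨by norm_num⟩
  have hperf : commutator G = ⊤ := commutator_eq_top hG
  have hcard' : Nat.card G = 2 ^ 7 * 3 ^ 2 * 5 := by rw [hcard]; norm_num
  have hS := fun Q : Sylow 5 G => sylow5_data hG 7 2 (by norm_num) hcard' Q
  obtain ⟨P⟩ : Nonempty (Sylow 5 G) := inferInstance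
  obtain ⟨hPcard, hCP, e, he, he4, hN, hen, hmod⟩ := hS P
  have he2 : e = 2 := by
    have hle : e ≤ 4 := Nat.le_of_dvd (by norm_num) he4
    have h1 : e * Nat.card (Sylow 5 G) = 1152 := by rw [hen]; norm_num
    interval_cases e <;> omega
  subst he2
  obtain ⟨x, hx, hPx, hsq⟩ := d1_sylow_data 5 P hPcard
  obtain ⟨M, hM⟩ := exists_isPModular 5
  obtain ⟨c, hcP, hcx, htriv, hXdeg, hYdeg⟩ := exists_TI 5 M hM P x hx hPx hsq 2 he
    (fun Q => ⟨(hS Q).1, (hS Q).2.1⟩) hN (by norm_num)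
  -- the trivial character is non-exceptional
  have htrivY : trivIrr G ∉ c.Y := by
    intro h
    have h1 := hYdeg _ h
    rw [charDegree_trivIrr] at h1
    unfold Int.ModEq at h1
    rcases c.hε with h | h <;> rw [h] at h1 <;> norm_num at h1
  have htrivX : trivIrr G ∈ c.X := by
    rcases htriv with h | h
    · exact h
    · exact absurd h htrivY
  have hεtriv : c.εX (trivIrr G) = 1 := by
    have h2 := hXdeg _ htrivX
    rw [charDegree_trivIrr] at h2
    unfold Int.ModEq at h2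
    rcases c.hεX _ htrivX with h1 | h1
    · exact h1
    · rw [h1] at h2; norm_num at h2
  -- the second member of `X`
  have hX2 : c.X.ncard = 2 := by rw [← Nat.card_coe_set_eq]; exact c.hXc
  obtain ⟨a', b', hab, hXab⟩ := Set.ncard_eq_two.1 hX2
  obtain ⟨χ, hχne, hXeq⟩ : ∃ χ : IrrCharacter G, χ ≠ trivIrr G ∧ c.X = {trivIrr G, χ} := by
    rw [hXab] at htrivX
    rcases htrivX with h | h
    · exact ⟨b', fun hb => hab (by rw [← h, hb]), by rw [hXab, h]⟩
    · rw [Set.mem_singleton_iff] at h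
      exact ⟨a', fun ha => hab (by rw [← h, ha]), by rw [hXab, h, Set.pair_comm]⟩
  have hχX : χ ∈ c.X := by rw [hXeq]; simp
  have hXfeq : c.Xf = {trivIrr G, χ} := by
    ext ψ
    rw [c.mem_Xf, hXeq]
    simp
  have hYne : c.Yf.Nonempty := by
    rw [← Finset.card_pos]
    have := c.card_Yf
    omega
  obtain ⟨θ0, hθ0f⟩ := hYne
  have hθ0 := c.mem_Yf.1 hθ0f
  -- the equation on regular elements
  have hsumX : ∀ g : G, ¬ 5 ∣ orderOf g →
      (c.ε : ℂ) * θ0.1 g = 1 + (c.εX χ : ℂ) * χ.1 g := by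
    intro g hg
    rw [c.hYsum θ0 hθ0 g hg, c.finsum_X, hXfeq, Finset.sum_pair (Ne.symm hχne), hεtriv,
      trivIrr_apply]
    push_cast
    ring
  have h1reg : ¬ 5 ∣ orderOf (1 : G) := by rw [orderOf_one]; norm_num
  have heq1 := hsumX 1 h1reg
  rw [apply_one θ0, apply_one χ] at heq1
  have heqZ : c.ε * (charDegree θ0.1 : ℤ) = 1 + c.εX χ * (charDegree χ.1 : ℤ) := by
    exact_mod_cast heq1
  have hd1 : charDegree χ.1 ≠ 1 := fun h => hχne (eq_trivIrr_of_charDegree_eq_one hperf χ h)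
  have hdvd : ∀ ψ : IrrCharacter G, charDegree ψ.1 ∣ 5760 := fun ψ => hcard ▸ charDegree_dvd ψ
  have hsqd : (charDegree χ.1) ^ 2 ≤ 5760 := hcard ▸ sq_le_card χ
  have hposθ : 0 < charDegree θ0.1 := charDegree_pos θ0
  have hdvdθ' : (c.ε * (charDegree θ0.1 : ℤ)).natAbs ∣ 5760 := by
    rcases c.hε with h | h <;> rw [h]
    · simpa using hdvd θ0
    · simpa using hdvd θ0
  have hcases := deg_cases5760 _ _ (c.hεX χ hχX) (hdvd χ) hsqd hd1 (hXdeg χ hχX)
  rw [heqZ] at hdvdθ'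
  have hpat : (c.εX χ * (charDegree χ.1 : ℤ) = -4) ∨ (c.εX χ * (charDegree χ.1 : ℤ) = -9) := by
    rcases hcases with h | h | h | h | h | h | h
    · exact Or.inl h
    · exfalso; rw [h] at hdvdθ'; revert hdvdθ'; decide
    · exact Or.inr h
    · exfalso; rw [h] at hdvdθ'; revert hdvdθ'; decide
    · exfalso; rw [h] at hdvdθ'; revert hdvdθ'; decide
    · exfalso; rw [h] at hdvdθ'; revert hdvdθ'; decide
    · exfalso; rw [h] at hdvdθ'; revert hdvdθ'; decide
  -- a central involution of a Sylow 2-subgroup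
  obtain ⟨T⟩ : Nonempty (Sylow 2 G) := inferInstance
  have hTcard : Nat.card T = 2 ^ 7 :=
    Cfsg.Agent.Lib.Helper3.sylow_card_eq_of_card_eq T 7 45 (by rw [hcard]; norm_num)
      (by norm_num)
  obtain ⟨z, hzT, hz2, hzc⟩ := exists_orderOf_eq_centralized (p := 2) (T : Subgroup G)
    (T : Subgroup G) T.isPGroup' Subgroup.le_normalizer (by rw [hTcard]; norm_num)
  have hzreg : ¬ 5 ∣ orderOf z := by rw [hz2]; norm_num
  have hzz : z * z = 1 := by rw [← pow_two, ← hz2]; exact pow_orderOf_eq_one z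
  have hz1 : z ≠ 1 := by
    intro h
    rw [h, orderOf_one] at hz2
    norm_num at hz2
  have hTC : (T : Subgroup G) ≤ Subgroup.centralizer ({z} : Set G) := by
    intro s hs
    rw [Subgroup.mem_centralizer_iff]
    intro h hh
    rw [Set.mem_singleton_iff] at hh
    rw [hh]
    exact (hzc s hs).symm
  have h128 : 128 ∣ Nat.card (Subgroup.centralizer ({z} : Set G)) := by
    have h := Subgroup.card_dvd_of_le hTC
    rw [hTcard] at h
    have h' : (128 : ℕ) = 2 ^ 7 := by norm_num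
    rw [h']
    exact h
  -- values at `z`
  have hxS := c.x_mem_S
  have hx1 : c.x ≠ 1 := (c.mem_S.1 hxS).2
  obtain ⟨b, hb, hχz, -⟩ := involution_apply hperf χ hzz
  have hkc := card_isConj_mul_card_centralizer z
  rw [hcard] at hkc
  have hkcC : (Nat.card {v : G // IsConj z v} : ℂ) *
      (Nat.card (Subgroup.centralizer ({z} : Set G)) : ℂ) = 5760 := by exact_mod_cast hkc
  have hcm := c.class_mult hθ0 hzreg
  rw [hXfeq, Finset.sum_pair (Ne.symm hχne), hεtriv, trivIrr_apply, trivIrr_apply, hcard] at hcm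
  have hθz := hsumX z hzreg
  have hθ1 := heq1
  rcases hpat with hp4 | hp9
  · -- degrees 4 and 3
    obtain ⟨hεm, hd⟩ := (sign_deg (c.hεX χ hχX) (charDegree_pos χ) hp4).2 (by norm_num)
    have hd4 : charDegree χ.1 = 4 := by
      have : (charDegree χ.1 : ℤ) = 4 := by rw [hd]; norm_num
      exact_mod_cast this
    rw [hp4] at heqZ
    obtain ⟨hε1, hdθ⟩ := (sign_deg c.hε hposθ heqZ).2 (by norm_num)
    have hdθ3 : charDegree θ0.1 = 3 := by
      have : (charDegree θ0.1 : ℤ) = 3 := by rw [hdθ]; norm_num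
      exact_mod_cast this
    rw [hd4] at hχz hb
    have hb1 : 1 ≤ b := by
      rcases Nat.eq_zero_or_pos b with h0 | h0
      · exfalso
        apply hz1
        apply eq_one_of_apply_eq χ (h0 := c.x)
        · rw [c.hval χ hχX c.x (c.mem_S.1 hxS).1 hx1, apply_one, hd4, hεm]; norm_num
        · rw [hχz, apply_one, hd4, h0]; norm_num
      · exact h0
    have hθz' : θ0.1 z = 3 - 2 * (b : ℂ) := by
      rw [hε1, hεm, hχz] at hθz
      push_cast at hθz
      linear_combination -hθz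
    rw [hεm, hε1, hχz, hθz', apply_one χ, apply_one θ0, hd4, hdθ3] at hcm
    push_cast at hcm
    have hfin : ((Nat.card {q : G × G // IsConj z q.1 ∧ IsConj z q.2 ∧ q.1 * q.2 = c.x} *
        (Nat.card (Subgroup.centralizer ({z} : Set G))) ^ 2 : ℕ) : ℂ) =
        ((1920 * b ^ 2 : ℕ) : ℂ) := by
      push_cast
      linear_combination (1 / 5760 : ℂ) *
        ((Nat.card (Subgroup.centralizer ({z} : Set G)) : ℂ) ^ 2 * hcm +
          ((b : ℂ) ^ 2 / 3) * ((Nat.card {v : G // IsConj z v} : ℂ) *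
            (Nat.card (Subgroup.centralizer ({z} : Set G)) : ℂ) + 5760) * hkcC)
    have hfinN := Nat.cast_injective hfin
    exact (arith5760 _ _ b h128 hb1).1 hb hfinN
  · -- degrees 9 and 8
    obtain ⟨hεm, hd⟩ := (sign_deg (c.hεX χ hχX) (charDegree_pos χ) hp9).2 (by norm_num)
    have hd9 : charDegree χ.1 = 9 := by
      have : (charDegree χ.1 : ℤ) = 9 := by rw [hd]; norm_num
      exact_mod_cast this
    rw [hp9] at heqZ
    obtain ⟨hε1, hdθ⟩ := (sign_deg c.hε hposθ heqZ).2 (by norm_num)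
    have hdθ8 : charDegree θ0.1 = 8 := by
      have : (charDegree θ0.1 : ℤ) = 8 := by rw [hdθ]; norm_num
      exact_mod_cast this
    rw [hd9] at hχz hb
    have hb1 : 1 ≤ b := by
      rcases Nat.eq_zero_or_pos b with h0 | h0
      · exfalso
        apply hz1
        apply eq_one_of_apply_eq χ (h0 := c.x)
        · rw [c.hval χ hχX c.x (c.mem_S.1 hxS).1 hx1, apply_one, hd9, hεm]; norm_num
        · rw [hχz, apply_one, hd9, h0]; norm_num
      · exact h0
    have hθz' : θ0.1 z = 8 - 2 * (b : ℂ) := by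
      rw [hε1, hεm, hχz] at hθz
      push_cast at hθz
      linear_combination -hθz
    rw [hεm, hε1, hχz, hθz', apply_one χ, apply_one θ0, hd9, hdθ8] at hcm
    push_cast at hcm
    have hfin : ((Nat.card {q : G × G // IsConj z q.1 ∧ IsConj z q.2 ∧ q.1 * q.2 = c.x} *
        (Nat.card (Subgroup.centralizer ({z} : Set G))) ^ 2 : ℕ) : ℂ) =
        ((320 * b ^ 2 : ℕ) : ℂ) := by
      push_cast
      linear_combination (1 / 5760 : ℂ) *
        ((Nat.card (Subgroup.centralizer ({z} : Set G)) : ℂ) ^ 2 * hcm +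
          ((b : ℂ) ^ 2 / 18) * ((Nat.card {v : G // IsConj z v} : ℂ) *
            (Nat.card (Subgroup.centralizer ({z} : Set G)) : ℂ) + 5760) * hkcC)
    have hfinN := Nat.cast_injective hfin
    exact (arith5760 _ _ b h128 hb1).2 hb hfinN

end Cfsg.Agent.Lib.Helper6.OrdI
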