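import Mathlib

/-!
# Arithmetic for simple groups of order 4320: the four degree patterns of the principal 5-block
-/

set_option autoImplicit false
set_option maxHeartbeats 1600000

namespace Cfsg.Agent.Lib.Helper6.OrdJ

/-- divisors of 864 -/
theorem dvd_864 (c : ℕ) (h : c ∣ 864) : ∃ i j : ℕ, i < 6 ∧ j < 4 ∧ c = 2 ^ i * 3 ^ j := by
  have h' : c ∣ 2 ^ 5 * 3 ^ 3 := by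
    have : (2 : ℕ) ^ 5 * 3 ^ 3 = 864 := by norm_num
    rw [this]; exact h
  obtain ⟨a, b, ha, hb, rfl⟩ := (Nat.dvd_mul).1 h'
  obtain ⟨i, hi, rfl⟩ := (Nat.dvd_prime_pow Nat.prime_two).1 ha
  obtain ⟨j, hj, rfl⟩ := (Nat.dvd_prime_pow Nat.prime_three).1 hb
  exact ⟨i, j, by omega, by omega, rfl⟩

set_option maxRecDepth 1000000 in
/-- degrees `4, 4, 9, 16` with signs `-, -, -, +` -/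
theorem canonA_fin : ∀ (β1 β2 : Fin 3) (β3 : Fin 5) (m : Fin 6) (i : Fin 6) (j : Fin 4),
    ¬ (1 ≤ m.1 ∧
      1 + (4 - 4 * (β1.1 : ℤ)) ^ 2 + (4 - 4 * (β2.1 : ℤ)) ^ 2 + (9 - 4 * (β3.1 : ℤ)) ^ 2 +
        (16 - 4 * ((β1.1 : ℤ) + (β2.1 : ℤ) + (β3.1 : ℤ))) ^ 2 ≤ ((2 ^ i.1 * 3 ^ j.1 : ℕ) : ℤ) ∧
      (m.1 : ℤ) * ((2 ^ i.1 * 3 ^ j.1 : ℕ) : ℤ) ^ 2 * 144 =
        4320 * (144 - 36 * (4 - 4 * (β1.1 : ℤ)) ^ 2 - 36 * (4 - 4 * (β2.1 : ℤ)) ^ 2 -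
          16 * (9 - 4 * (β3.1 : ℤ)) ^ 2 +
          9 * (16 - 4 * ((β1.1 : ℤ) + (β2.1 : ℤ) + (β3.1 : ℤ))) ^ 2)) := by
  decide

set_option maxRecDepth 1000000 in
/-- degrees `4, 6, 6, 9` with signs `-, +, +, -` -/
theorem canonB_fin : ∀ (β1 : Fin 3) (β2 β3 : Fin 4) (m : Fin 6) (i : Fin 6) (j : Fin 4),
    ¬ (1 ≤ m.1 ∧
      1 + (4 - 4 * (β1.1 : ℤ)) ^ 2 + (6 - 4 * (β2.1 : ℤ)) ^ 2 + (6 - 4 * (β3.1 : ℤ)) ^ 2 +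
        (9 - 4 * ((β2.1 : ℤ) + (β3.1 : ℤ) - (β1.1 : ℤ))) ^ 2 ≤ ((2 ^ i.1 * 3 ^ j.1 : ℕ) : ℤ) ∧
      (m.1 : ℤ) * ((2 ^ i.1 * 3 ^ j.1 : ℕ) : ℤ) ^ 2 * 36 =
        4320 * (36 - 9 * (4 - 4 * (β1.1 : ℤ)) ^ 2 + 6 * (6 - 4 * (β2.1 : ℤ)) ^ 2 +
          6 * (6 - 4 * (β3.1 : ℤ)) ^ 2 -
          4 * (9 - 4 * ((β2.1 : ℤ) + (β3.1 : ℤ) - (β1.1 : ℤ))) ^ 2)) := by
  decide

set_option maxRecDepth 1000000 in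
/-- degrees `4, 9, 24, 36` with signs `-, -, -, +` -/
theorem canonC_fin : ∀ (β1 : Fin 3) (β2 : Fin 5) (β3 : Fin 13) (m : Fin 6) (i : Fin 6) (j : Fin 4),
    ¬ (1 ≤ m.1 ∧
      1 + (4 - 4 * (β1.1 : ℤ)) ^ 2 + (9 - 4 * (β2.1 : ℤ)) ^ 2 + (24 - 4 * (β3.1 : ℤ)) ^ 2 +
        (36 - 4 * ((β1.1 : ℤ) + (β2.1 : ℤ) + (β3.1 : ℤ))) ^ 2 ≤ ((2 ^ i.1 * 3 ^ j.1 : ℕ) : ℤ) ∧
      (m.1 : ℤ) * ((2 ^ i.1 * 3 ^ j.1 : ℕ) : ℤ) ^ 2 * 72 =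
        4320 * (72 - 18 * (4 - 4 * (β1.1 : ℤ)) ^ 2 - 8 * (9 - 4 * (β2.1 : ℤ)) ^ 2 -
          3 * (24 - 4 * (β3.1 : ℤ)) ^ 2 +
          2 * (36 - 4 * ((β1.1 : ℤ) + (β2.1 : ℤ) + (β3.1 : ℤ))) ^ 2)) := by
  decide

set_option maxRecDepth 1000000 in
/-- degrees `9, 16, 16, 24` with signs `-, +, +, -` -/
theorem canonD_fin : ∀ (β1 : Fin 5) (β2 β3 : Fin 9) (m : Fin 6) (i : Fin 6) (j : Fin 4),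
    ¬ (1 ≤ m.1 ∧
      1 + (9 - 4 * (β1.1 : ℤ)) ^ 2 + (16 - 4 * (β2.1 : ℤ)) ^ 2 + (16 - 4 * (β3.1 : ℤ)) ^ 2 +
        (24 - 4 * ((β2.1 : ℤ) + (β3.1 : ℤ) - (β1.1 : ℤ))) ^ 2 ≤ ((2 ^ i.1 * 3 ^ j.1 : ℕ) : ℤ) ∧
      (m.1 : ℤ) * ((2 ^ i.1 * 3 ^ j.1 : ℕ) : ℤ) ^ 2 * 144 =
        4320 * (144 - 16 * (9 - 4 * (β1.1 : ℤ)) ^ 2 + 9 * (16 - 4 * (β2.1 : ℤ)) ^ 2 +
          9 * (16 - 4 * (β3.1 : ℤ)) ^ 2 -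
          6 * (24 - 4 * ((β2.1 : ℤ) + (β3.1 : ℤ) - (β1.1 : ℤ))) ^ 2)) := by
  decide

end Cfsg.Agent.Lib.Helper6.OrdJ
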