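import Mathlib
import Cfsg.Agent.Lib.Helper6.OrdJ1
import Cfsg.Agent.Lib.Helper6.OrdD1

/-!
# Arithmetic for simple groups of order 4320: degrees, patterns and the final contradiction
-/

set_option autoImplicit false
set_option maxHeartbeats 1600000

namespace Cfsg.Agent.Lib.Helper6.OrdJ

open Cfsg.Agent.Lib.Helper6.OrdD

set_option maxRecDepth 100000 in
theorem deg_table4320 : ∀ d < 66, d ∣ 4320 → d = 1 ∨ (d % 5 = 1 ∧ (d = 6 ∨ d = 16 ∨ d = 36)) ∨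
    (d % 5 = 4 ∧ (d = 4 ∨ d = 9 ∨ d = 24 ∨ d = 54)) ∨ (d % 5 ≠ 1 ∧ d % 5 ≠ 4) := by
  decide

/-- the possible signed degrees `≡ ±1` modulo 5 -/
theorem deg_cases4320 (d : ℕ) (ε : ℤ) (hε : ε = 1 ∨ ε = -1) (hdvd : d ∣ 4320)
    (hsq : d ^ 2 ≤ 4320) (hd1 : d ≠ 1) (hmod : (d : ℤ) ≡ ε [ZMOD 5]) :
    ε * (d : ℤ) = -54 ∨ ε * (d : ℤ) = -24 ∨ ε * (d : ℤ) = -9 ∨ ε * (d : ℤ) = -4 ∨
      ε * (d : ℤ) = 6 ∨ ε * (d : ℤ) = 16 ∨ ε * (d : ℤ) = 36 := by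
  have hle : d < 66 := by nlinarith
  have htab := deg_table4320 d hle hdvd
  unfold Int.ModEq at hmod
  rcases hε with rfl | rfl
  · have h3 : d % 5 = 1 := by omega
    rcases htab with h | ⟨-, h | h | h⟩ | ⟨h, -⟩ | ⟨h, -⟩ <;> omega
  · have h3 : d % 5 = 4 := by omega
    rcases htab with h | ⟨h, -⟩ | ⟨-, h | h | h | h⟩ | ⟨-, h⟩ <;> omega

/-- four elements, sorted by a key -/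
theorem exists_sorted4 {α : Type*} [DecidableEq α] (T : Finset α) (hT : T.card = 4) (s : α → ℤ) :
    ∃ χ1 χ2 χ3 χ4 : α, T = {χ1, χ2, χ3, χ4} ∧ χ1 ≠ χ2 ∧ χ1 ≠ χ3 ∧ χ1 ≠ χ4 ∧ χ2 ≠ χ3 ∧ χ2 ≠ χ4 ∧
      χ3 ≠ χ4 ∧ s χ1 ≤ s χ2 ∧ s χ2 ≤ s χ3 ∧ s χ3 ≤ s χ4 := by
  have hne : T.Nonempty := Finset.card_pos.1 (by omega)
  obtain ⟨χ1, h1T, h1min⟩ := Finset.exists_min_image T s hne
  have hT1 : (T.erase χ1).card = 3 := by rw [Finset.card_erase_of_mem h1T, hT]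
  obtain ⟨χ2, h2T, h2min⟩ := Finset.exists_min_image (T.erase χ1) s
    (Finset.card_pos.1 (by omega))
  have hT2 : ((T.erase χ1).erase χ2).card = 2 := by rw [Finset.card_erase_of_mem h2T, hT1]
  obtain ⟨χ3, h3T, h3min⟩ := Finset.exists_min_image ((T.erase χ1).erase χ2) s
    (Finset.card_pos.1 (by omega))
  have hT3 : (((T.erase χ1).erase χ2).erase χ3).card = 1 := by
    rw [Finset.card_erase_of_mem h3T, hT2]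
  obtain ⟨χ4, h4⟩ := Finset.card_eq_one.1 hT3
  have h4T : χ4 ∈ ((T.erase χ1).erase χ2).erase χ3 := by
    rw [h4]; exact Finset.mem_singleton_self _
  have h4T' := Finset.mem_erase.1 h4T
  have h4T'' := Finset.mem_erase.1 h4T'.2
  have h4T''' := Finset.mem_erase.1 h4T''.2
  have h3T' := Finset.mem_erase.1 h3T
  have h3T'' := Finset.mem_erase.1 h3T'.2
  have h2T' := Finset.mem_erase.1 h2T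
  refine ⟨χ1, χ2, χ3, χ4, ?_, Ne.symm h2T'.1, Ne.symm h3T''.1, Ne.symm h4T'''.1, Ne.symm h3T'.1,
    Ne.symm h4T''.1, Ne.symm h4T'.1, h1min χ2 h2T'.2, h2min χ3 h3T'.2, h3min χ4 h4T'.2⟩
  calc T = insert χ1 (T.erase χ1) := (Finset.insert_erase h1T).symm
    _ = insert χ1 (insert χ2 ((T.erase χ1).erase χ2)) := by rw [Finset.insert_erase h2T]
    _ = insert χ1 (insert χ2 (insert χ3 (((T.erase χ1).erase χ2).erase χ3))) := by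
        rw [Finset.insert_erase h3T]
    _ = {χ1, χ2, χ3, χ4} := by rw [h4]

/-- a sum over five distinct elements -/
theorem sum_five {α M : Type*} [DecidableEq α] [AddCommMonoid M] {a0 a1 a2 a3 a4 : α}
    (h01 : a0 ≠ a1) (h02 : a0 ≠ a2) (h03 : a0 ≠ a3) (h04 : a0 ≠ a4) (h12 : a1 ≠ a2)
    (h13 : a1 ≠ a3) (h14 : a1 ≠ a4) (h23 : a2 ≠ a3) (h24 : a2 ≠ a4) (h34 : a3 ≠ a4)
    (f : α → M) :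
    ∑ χ ∈ ({a0, a1, a2, a3, a4} : Finset α), f χ = f a0 + (f a1 + (f a2 + (f a3 + f a4))) := by
  rw [Finset.sum_insert (by simp [h01, h02, h03, h04]), Finset.sum_insert (by simp [h12, h13, h14]),
    Finset.sum_insert (by simp [h23, h24]), Finset.sum_pair h34]

/-- the seven possible signed degrees -/
def vals : Fin 7 → ℤ := ![-54, -24, -9, -4, 6, 16, 36]

set_option maxRecDepth 100000 in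
theorem patterns_fin : ∀ i1 i2 i3 i4 : Fin 7,
    ¬ (vals i1 ≤ vals i2 ∧ vals i2 ≤ vals i3 ∧ vals i3 ≤ vals i4 ∧
        1 + (vals i1 + (vals i2 + (vals i3 + vals i4))) = 0 ∧
        vals i1 ^ 2 + vals i2 ^ 2 + vals i3 ^ 2 + vals i4 ^ 2 ≤ 4319) ∨
      (vals i1 = -9 ∧ vals i2 = -4 ∧ vals i3 = -4 ∧ vals i4 = 16) ∨
      (vals i1 = -9 ∧ vals i2 = -4 ∧ vals i3 = 6 ∧ vals i4 = 6) ∨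
      (vals i1 = -24 ∧ vals i2 = -9 ∧ vals i3 = -4 ∧ vals i4 = 36) ∨
      (vals i1 = -24 ∧ vals i2 = -9 ∧ vals i3 = 16 ∧ vals i4 = 16) := by
  decide

theorem exists_vals {s : ℤ} (h : s = -54 ∨ s = -24 ∨ s = -9 ∨ s = -4 ∨ s = 6 ∨ s = 16 ∨ s = 36) :
    ∃ i : Fin 7, s = vals i := by
  rcases h with h | h | h | h | h | h | h
  · exact ⟨0, h⟩
  · exact ⟨1, h⟩
  · exact ⟨2, h⟩
  · exact ⟨3, h⟩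
  · exact ⟨4, h⟩
  · exact ⟨5, h⟩
  · exact ⟨6, h⟩

/-- the four patterns of signed degrees -/
theorem patterns4320 {s1 s2 s3 s4 : ℤ}
    (h1 : s1 = -54 ∨ s1 = -24 ∨ s1 = -9 ∨ s1 = -4 ∨ s1 = 6 ∨ s1 = 16 ∨ s1 = 36)
    (h2 : s2 = -54 ∨ s2 = -24 ∨ s2 = -9 ∨ s2 = -4 ∨ s2 = 6 ∨ s2 = 16 ∨ s2 = 36)
    (h3 : s3 = -54 ∨ s3 = -24 ∨ s3 = -9 ∨ s3 = -4 ∨ s3 = 6 ∨ s3 = 16 ∨ s3 = 36)
    (h4 : s4 = -54 ∨ s4 = -24 ∨ s4 = -9 ∨ s4 = -4 ∨ s4 = 6 ∨ s4 = 16 ∨ s4 = 36)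
    (h12 : s1 ≤ s2) (h23 : s2 ≤ s3) (h34 : s3 ≤ s4)
    (hsum : 1 + (s1 + (s2 + (s3 + s4))) = 0)
    (hsq : s1 ^ 2 + s2 ^ 2 + s3 ^ 2 + s4 ^ 2 ≤ 4319) :
    (s1 = -9 ∧ s2 = -4 ∧ s3 = -4 ∧ s4 = 16) ∨ (s1 = -9 ∧ s2 = -4 ∧ s3 = 6 ∧ s4 = 6) ∨
      (s1 = -24 ∧ s2 = -9 ∧ s3 = -4 ∧ s4 = 36) ∨ (s1 = -24 ∧ s2 = -9 ∧ s3 = 16 ∧ s4 = 16) := by
  obtain ⟨i1, rfl⟩ := exists_vals h1
  obtain ⟨i2, rfl⟩ := exists_vals h2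
  obtain ⟨i3, rfl⟩ := exists_vals h3
  obtain ⟨i4, rfl⟩ := exists_vals h4
  rcases patterns_fin i1 i2 i3 i4 with h | h
  · exact absurd ⟨h12, h23, h34, hsum, hsq⟩ h
  · exact h

theorem canonA (β1 β2 β3 m i j : ℕ) (h1 : β1 < 3) (h2 : β2 < 3) (h3 : β3 < 5) (hm : m < 6)
    (hi : i < 6) (hj : j < 4) :
    ¬ (1 ≤ m ∧
      1 + (4 - 4 * (β1 : ℤ)) ^ 2 + (4 - 4 * (β2 : ℤ)) ^ 2 + (9 - 4 * (β3 : ℤ)) ^ 2 +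
        (16 - 4 * ((β1 : ℤ) + (β2 : ℤ) + (β3 : ℤ))) ^ 2 ≤ ((2 ^ i * 3 ^ j : ℕ) : ℤ) ∧
      (m : ℤ) * ((2 ^ i * 3 ^ j : ℕ) : ℤ) ^ 2 * 144 =
        4320 * (144 - 36 * (4 - 4 * (β1 : ℤ)) ^ 2 - 36 * (4 - 4 * (β2 : ℤ)) ^ 2 -
          16 * (9 - 4 * (β3 : ℤ)) ^ 2 +
          9 * (16 - 4 * ((β1 : ℤ) + (β2 : ℤ) + (β3 : ℤ))) ^ 2)) :=
  canonA_fin ⟨β1, h1⟩ ⟨β2, h2⟩ ⟨β3, h3⟩ ⟨m, hm⟩ ⟨i, hi⟩ ⟨j, hj⟩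

theorem canonB (β1 β2 β3 m i j : ℕ) (h1 : β1 < 3) (h2 : β2 < 4) (h3 : β3 < 4) (hm : m < 6)
    (hi : i < 6) (hj : j < 4) :
    ¬ (1 ≤ m ∧
      1 + (4 - 4 * (β1 : ℤ)) ^ 2 + (6 - 4 * (β2 : ℤ)) ^ 2 + (6 - 4 * (β3 : ℤ)) ^ 2 +
        (9 - 4 * ((β2 : ℤ) + (β3 : ℤ) - (β1 : ℤ))) ^ 2 ≤ ((2 ^ i * 3 ^ j : ℕ) : ℤ) ∧
      (m : ℤ) * ((2 ^ i * 3 ^ j : ℕ) : ℤ) ^ 2 * 36 =
        4320 * (36 - 9 * (4 - 4 * (β1 : ℤ)) ^ 2 + 6 * (6 - 4 * (β2 : ℤ)) ^ 2 +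
          6 * (6 - 4 * (β3 : ℤ)) ^ 2 -
          4 * (9 - 4 * ((β2 : ℤ) + (β3 : ℤ) - (β1 : ℤ))) ^ 2)) :=
  canonB_fin ⟨β1, h1⟩ ⟨β2, h2⟩ ⟨β3, h3⟩ ⟨m, hm⟩ ⟨i, hi⟩ ⟨j, hj⟩

theorem canonC (β1 β2 β3 m i j : ℕ) (h1 : β1 < 3) (h2 : β2 < 5) (h3 : β3 < 13) (hm : m < 6)
    (hi : i < 6) (hj : j < 4) :
    ¬ (1 ≤ m ∧
      1 + (4 - 4 * (β1 : ℤ)) ^ 2 + (9 - 4 * (β2 : ℤ)) ^ 2 + (24 - 4 * (β3 : ℤ)) ^ 2 +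
        (36 - 4 * ((β1 : ℤ) + (β2 : ℤ) + (β3 : ℤ))) ^ 2 ≤ ((2 ^ i * 3 ^ j : ℕ) : ℤ) ∧
      (m : ℤ) * ((2 ^ i * 3 ^ j : ℕ) : ℤ) ^ 2 * 72 =
        4320 * (72 - 18 * (4 - 4 * (β1 : ℤ)) ^ 2 - 8 * (9 - 4 * (β2 : ℤ)) ^ 2 -
          3 * (24 - 4 * (β3 : ℤ)) ^ 2 +
          2 * (36 - 4 * ((β1 : ℤ) + (β2 : ℤ) + (β3 : ℤ))) ^ 2)) :=
  canonC_fin ⟨β1, h1⟩ ⟨β2, h2⟩ ⟨β3, h3⟩ ⟨m, hm⟩ ⟨i, hi⟩ ⟨j, hj⟩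

theorem canonD (β1 β2 β3 m i j : ℕ) (h1 : β1 < 5) (h2 : β2 < 9) (h3 : β3 < 9) (hm : m < 6)
    (hi : i < 6) (hj : j < 4) :
    ¬ (1 ≤ m ∧
      1 + (9 - 4 * (β1 : ℤ)) ^ 2 + (16 - 4 * (β2 : ℤ)) ^ 2 + (16 - 4 * (β3 : ℤ)) ^ 2 +
        (24 - 4 * ((β2 : ℤ) + (β3 : ℤ) - (β1 : ℤ))) ^ 2 ≤ ((2 ^ i * 3 ^ j : ℕ) : ℤ) ∧
      (m : ℤ) * ((2 ^ i * 3 ^ j : ℕ) : ℤ) ^ 2 * 144 =
        4320 * (144 - 16 * (9 - 4 * (β1 : ℤ)) ^ 2 + 9 * (16 - 4 * (β2 : ℤ)) ^ 2 +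
          9 * (16 - 4 * (β3 : ℤ)) ^ 2 -
          6 * (24 - 4 * ((β2 : ℤ) + (β3 : ℤ) - (β1 : ℤ))) ^ 2)) :=
  canonD_fin ⟨β1, h1⟩ ⟨β2, h2⟩ ⟨β3, h3⟩ ⟨m, hm⟩ ⟨i, hi⟩ ⟨j, hj⟩

end Cfsg.Agent.Lib.Helper6.OrdJ
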