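import Mathlib
import Cfsg.Agent.Lib.Helper6.OrdJ2

/-!
# Arithmetic for simple groups of order 4320: the final contradiction
-/

set_option autoImplicit false
set_option maxHeartbeats 3200000

namespace Cfsg.Agent.Lib.Helper6.OrdJ

open Cfsg.Agent.Lib.Helper6.OrdD

/-- recovering sign and degree, natural number form -/
theorem sign_deg' {d : ℕ} {δ : ℤ} (hδ : δ = 1 ∨ δ = -1) (hd : 0 < d) :
    (∀ n : ℕ, δ * (d : ℤ) = (n : ℤ) → 0 < n → δ = 1 ∧ d = n) ∧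
      (∀ n : ℕ, δ * (d : ℤ) = -(n : ℤ) → 0 < n → δ = -1 ∧ d = n) := by
  constructor
  · intro n h hn
    rcases hδ with rfl | rfl
    · exact ⟨rfl, by omega⟩
    · omega
  · intro n h hn
    rcases hδ with rfl | rfl
    · omega
    · exact ⟨rfl, by omega⟩

/-- the final contradiction, from the values of the four non-trivial characters of the block at an
involution -/
theorem final_step (δ1 δ2 δ3 δ4 : ℤ) (d1 d2 d3 d4 β1 β2 β3 β4 m c' : ℕ)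
    (hδ1 : δ1 = 1 ∨ δ1 = -1) (hδ2 : δ2 = 1 ∨ δ2 = -1) (hδ3 : δ3 = 1 ∨ δ3 = -1)
    (hδ4 : δ4 = 1 ∨ δ4 = -1) (hd1 : 0 < d1) (hd2 : 0 < d2) (hd3 : 0 < d3) (hd4 : 0 < d4)
    (hβ1 : β1 + β1 ≤ d1) (hβ2 : β2 + β2 ≤ d2) (hβ3 : β3 + β3 ≤ d3) (hβ4 : β4 + β4 ≤ d4)
    (hpat : (δ1 * (d1 : ℤ) = -9 ∧ δ2 * (d2 : ℤ) = -4 ∧ δ3 * (d3 : ℤ) = -4 ∧ δ4 * (d4 : ℤ) = 16) ∨
      (δ1 * (d1 : ℤ) = -9 ∧ δ2 * (d2 : ℤ) = -4 ∧ δ3 * (d3 : ℤ) = 6 ∧ δ4 * (d4 : ℤ) = 6) ∨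
      (δ1 * (d1 : ℤ) = -24 ∧ δ2 * (d2 : ℤ) = -9 ∧ δ3 * (d3 : ℤ) = -4 ∧ δ4 * (d4 : ℤ) = 36) ∨
      (δ1 * (d1 : ℤ) = -24 ∧ δ2 * (d2 : ℤ) = -9 ∧ δ3 * (d3 : ℤ) = 16 ∧ δ4 * (d4 : ℤ) = 16))
    (hm1 : 1 ≤ m) (hm5 : m ≤ 5) (hc : c' ∣ 864)
    (hcol : 1 + ((((d1 : ℤ) - 4 * β1) ^ 2 + (((d2 : ℤ) - 4 * β2) ^ 2 +
      (((d3 : ℤ) - 4 * β3) ^ 2 + ((d4 : ℤ) - 4 * β4) ^ 2)))) ≤ (c' : ℤ))
    (hsum : 1 + (δ1 * ((d1 : ℤ) - 4 * β1) + (δ2 * ((d2 : ℤ) - 4 * β2) +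
      (δ3 * ((d3 : ℤ) - 4 * β3) + δ4 * ((d4 : ℤ) - 4 * β4)))) = 0)
    (hcm : (m : ℂ) * (c' : ℂ) ^ 2 = 4320 * (1 +
      ((δ1 : ℂ) * (((d1 : ℂ) - 4 * β1) * ((d1 : ℂ) - 4 * β1) / d1) +
        ((δ2 : ℂ) * (((d2 : ℂ) - 4 * β2) * ((d2 : ℂ) - 4 * β2) / d2) +
          ((δ3 : ℂ) * (((d3 : ℂ) - 4 * β3) * ((d3 : ℂ) - 4 * β3) / d3) +
            (δ4 : ℂ) * (((d4 : ℂ) - 4 * β4) * ((d4 : ℂ) - 4 * β4) / d4)))))) :
    False := by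
  obtain ⟨i, j, hi, hj, rfl⟩ := dvd_864 c' hc
  have hm6 : m < 6 := by omega
  rcases hpat with ⟨h1, h2, h3, h4⟩ | ⟨h1, h2, h3, h4⟩ | ⟨h1, h2, h3, h4⟩ | ⟨h1, h2, h3, h4⟩
  · -- degrees 9, 4, 4, 16
    obtain ⟨rfl, rfl⟩ := (sign_deg' hδ1 hd1).2 9 (by exact_mod_cast h1) (by norm_num)
    obtain ⟨rfl, rfl⟩ := (sign_deg' hδ2 hd2).2 4 (by exact_mod_cast h2) (by norm_num)
    obtain ⟨rfl, rfl⟩ := (sign_deg' hδ3 hd3).2 4 (by exact_mod_cast h3) (by norm_num)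
    obtain ⟨rfl, rfl⟩ := (sign_deg' hδ4 hd4).1 16 (by exact_mod_cast h4) (by norm_num)
    have hβ : β4 = β2 + β3 + β1 := by
      push_cast at hsum
      omega
    subst hβ
    refine canonA β2 β3 β1 m i j (by omega) (by omega) (by omega) hm6 hi hj ⟨hm1, ?_, ?_⟩
    · push_cast at hcol ⊢
      linarith
    · have hZ : (((m : ℤ) * ((2 ^ i * 3 ^ j : ℕ) : ℤ) ^ 2 * 144 : ℤ) : ℂ) =
          ((4320 * (144 - 36 * (4 - 4 * (β2 : ℤ)) ^ 2 - 36 * (4 - 4 * (β3 : ℤ)) ^ 2 -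
            16 * (9 - 4 * (β1 : ℤ)) ^ 2 +
            9 * (16 - 4 * ((β2 : ℤ) + (β3 : ℤ) + (β1 : ℤ))) ^ 2) : ℤ) : ℂ) := by
        push_cast at hcm ⊢
        linear_combination 144 * hcm
      exact_mod_cast hZ
  · -- degrees 9, 4, 6, 6
    obtain ⟨rfl, rfl⟩ := (sign_deg' hδ1 hd1).2 9 (by exact_mod_cast h1) (by norm_num)
    obtain ⟨rfl, rfl⟩ := (sign_deg' hδ2 hd2).2 4 (by exact_mod_cast h2) (by norm_num)
    obtain ⟨rfl, rfl⟩ := (sign_deg' hδ3 hd3).1 6 (by exact_mod_cast h3) (by norm_num)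
    obtain ⟨rfl, rfl⟩ := (sign_deg' hδ4 hd4).1 6 (by exact_mod_cast h4) (by norm_num)
    have hβ : β1 + β2 = β3 + β4 := by
      push_cast at hsum
      omega
    have hβZ : (β1 : ℤ) = (β3 : ℤ) + (β4 : ℤ) - (β2 : ℤ) := by omega
    have hβC : (β1 : ℂ) = (β3 : ℂ) + (β4 : ℂ) - (β2 : ℂ) := by exact_mod_cast hβZ
    refine canonB β2 β3 β4 m i j (by omega) (by omega) (by omega) hm6 hi hj ⟨hm1, ?_, ?_⟩
    · rw [hβZ] at hcol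
      push_cast at hcol ⊢
      linarith
    · have hZ : (((m : ℤ) * ((2 ^ i * 3 ^ j : ℕ) : ℤ) ^ 2 * 36 : ℤ) : ℂ) =
          ((4320 * (36 - 9 * (4 - 4 * (β2 : ℤ)) ^ 2 + 6 * (6 - 4 * (β3 : ℤ)) ^ 2 +
            6 * (6 - 4 * (β4 : ℤ)) ^ 2 -
            4 * (9 - 4 * ((β3 : ℤ) + (β4 : ℤ) - (β2 : ℤ))) ^ 2) : ℤ) : ℂ) := by
        rw [hβC] at hcm
        push_cast at hcm ⊢
        linear_combination 36 * hcm
      exact_mod_cast hZ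
  · -- degrees 24, 9, 4, 36
    obtain ⟨rfl, rfl⟩ := (sign_deg' hδ1 hd1).2 24 (by exact_mod_cast h1) (by norm_num)
    obtain ⟨rfl, rfl⟩ := (sign_deg' hδ2 hd2).2 9 (by exact_mod_cast h2) (by norm_num)
    obtain ⟨rfl, rfl⟩ := (sign_deg' hδ3 hd3).2 4 (by exact_mod_cast h3) (by norm_num)
    obtain ⟨rfl, rfl⟩ := (sign_deg' hδ4 hd4).1 36 (by exact_mod_cast h4) (by norm_num)
    have hβ : β4 = β3 + β2 + β1 := by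
      push_cast at hsum
      omega
    subst hβ
    refine canonC β3 β2 β1 m i j (by omega) (by omega) (by omega) hm6 hi hj ⟨hm1, ?_, ?_⟩
    · push_cast at hcol ⊢
      linarith
    · have hZ : (((m : ℤ) * ((2 ^ i * 3 ^ j : ℕ) : ℤ) ^ 2 * 72 : ℤ) : ℂ) =
          ((4320 * (72 - 18 * (4 - 4 * (β3 : ℤ)) ^ 2 - 8 * (9 - 4 * (β2 : ℤ)) ^ 2 -
            3 * (24 - 4 * (β1 : ℤ)) ^ 2 +
            2 * (36 - 4 * ((β3 : ℤ) + (β2 : ℤ) + (β1 : ℤ))) ^ 2) : ℤ) : ℂ) := by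
        push_cast at hcm ⊢
        linear_combination 72 * hcm
      exact_mod_cast hZ
  · -- degrees 24, 9, 16, 16
    obtain ⟨rfl, rfl⟩ := (sign_deg' hδ1 hd1).2 24 (by exact_mod_cast h1) (by norm_num)
    obtain ⟨rfl, rfl⟩ := (sign_deg' hδ2 hd2).2 9 (by exact_mod_cast h2) (by norm_num)
    obtain ⟨rfl, rfl⟩ := (sign_deg' hδ3 hd3).1 16 (by exact_mod_cast h3) (by norm_num)
    obtain ⟨rfl, rfl⟩ := (sign_deg' hδ4 hd4).1 16 (by exact_mod_cast h4) (by norm_num)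
    have hβ : β1 + β2 = β3 + β4 := by
      push_cast at hsum
      omega
    have hβZ : (β1 : ℤ) = (β3 : ℤ) + (β4 : ℤ) - (β2 : ℤ) := by omega
    have hβC : (β1 : ℂ) = (β3 : ℂ) + (β4 : ℂ) - (β2 : ℂ) := by exact_mod_cast hβZ
    refine canonD β2 β3 β4 m i j (by omega) (by omega) (by omega) hm6 hi hj ⟨hm1, ?_, ?_⟩
    · rw [hβZ] at hcol
      push_cast at hcol ⊢
      linarith
    · have hZ : (((m : ℤ) * ((2 ^ i * 3 ^ j : ℕ) : ℤ) ^ 2 * 144 : ℤ) : ℂ) =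
          ((4320 * (144 - 16 * (9 - 4 * (β2 : ℤ)) ^ 2 + 9 * (16 - 4 * (β3 : ℤ)) ^ 2 +
            9 * (16 - 4 * (β4 : ℤ)) ^ 2 -
            6 * (24 - 4 * ((β3 : ℤ) + (β4 : ℤ) - (β2 : ℤ))) ^ 2) : ℤ) : ℂ) := by
        rw [hβC] at hcm
        push_cast at hcm ⊢
        linear_combination 144 * hcm
      exact_mod_cast hZ

end Cfsg.Agent.Lib.Helper6.OrdJ
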