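import Mathlib
import Cfsg.Agent.Lib.Helper6.OrdJ3
import Cfsg.Agent.Lib.Helper6.OrdH5
import Cfsg.Agent.Lib.Helper6.OrdI1
import Cfsg.Agent.Lib.Helper6.OrdH3
import Cfsg.Agent.Lib.Helper6.OrdG2
import Cfsg.Agent.Lib.Helper6.OrdD1

/-!
# No simple group of order 4320
-/

set_option autoImplicit false
set_option maxHeartbeats 3200000

namespace Cfsg.Agent.Lib.Helper6.OrdJ

open Cfsg Cfsg.Agent.Lib.Helper8 Cfsg.Agent.Lib.Helper6.OrdB Cfsg.Agent.Lib.Helper6.OrdD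
  Cfsg.Agent.Lib.Helper6.OrdH Cfsg.Agent.Lib.Helper6.OrdG Cfsg.Agent.Lib.Helper1
  Cfsg.Agent.Lib.Helper6.OrdI
open scoped ComplexConjugate

universe u

theorem ne_4320 {G : Type u} [Group G] [Finite G] [IsSimpleGroup G] (hG : ¬ IsMulCommutative G) :
    Nat.card G ≠ 4320 := by
  intro hcard
  classical
  have : Fintype G := Fintype.ofFinite G
  have : Fintype (IrrCharacter G) := Fintype.ofFinite _
  have h5 : Fact (Nat.Prime 5) := ⟨by norm_num⟩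
  have h2 : Fact (Nat.Prime 2) := ⟨by norm_num⟩
  have hperf : commutator G = ⊤ := commutator_eq_top hG
  have hcard' : Nat.card G = 2 ^ 5 * 3 ^ 3 * 5 := by rw [hcard]; norm_num
  have hS := fun Q : Sylow 5 G => sylow5_data hG 5 3 (by norm_num) hcard' Q
  obtain ⟨P⟩ : Nonempty (Sylow 5 G) := inferInstance
  obtain ⟨hPcard, hCP, e, he, he4, hN, hen, hmod⟩ := hS P
  have he4' : e = 4 := by
    have hle : e ≤ 4 := Nat.le_of_dvd (by norm_num) he4
    have h1 : e * Nat.card (Sylow 5 G) = 864 := by rw [hen]; norm_num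
    interval_cases e <;> omega
  subst he4'
  obtain ⟨x, hx, hPx, hsq⟩ := d1_sylow_data 5 P hPcard
  obtain ⟨M, hM⟩ := exists_isPModular 5
  obtain ⟨c, hcP, hcx, htriv, hXdeg, hYdeg⟩ := exists_TI 5 M hM P x hx hPx hsq 4 he
    (fun Q => ⟨(hS Q).1, (hS Q).2.1⟩) hN (by norm_num)
  -- the exceptional character
  have hYcard : c.Yf.card = 1 := by have := c.card_Yf; omega
  obtain ⟨θ0, hYeq⟩ := Finset.card_eq_one.1 hYcard
  have hθ0 : θ0 ∈ c.Y := c.mem_Yf.1 (by rw [hYeq]; exact Finset.mem_singleton_self _)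
  -- the degrees modulo 5
  have hdeg : ∀ χ ∈ c.Bf θ0, (charDegree χ.1 : ℤ) ≡ c.δ θ0 χ [ZMOD 5] := by
    intro χ hχ
    rcases (c.mem_Bf θ0).1 hχ with h | h
    · rw [h, c.δ_self]
      have h1 := hYdeg θ0 hθ0
      unfold Int.ModEq at h1 ⊢
      push_cast at h1
      omega
    · rw [c.δ_of_mem_X θ0 hθ0 h]
      exact hXdeg χ h
  have htrivB : trivIrr G ∈ c.Bf θ0 := by
    rw [c.mem_Bf]
    rcases htriv with h | h
    · exact Or.inr h
    · left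
      have : trivIrr G ∈ c.Yf := c.mem_Yf.2 h
      rw [hYeq, Finset.mem_singleton] at this
      exact this
  have hδtriv : c.δ θ0 (trivIrr G) = 1 := by
    have h2 := hdeg _ htrivB
    rw [charDegree_trivIrr] at h2
    unfold Int.ModEq at h2
    rcases c.δ_cases θ0 htrivB with h1 | h1
    · exact h1
    · rw [h1] at h2; norm_num at h2
  -- the four other characters
  have hTcard : ((c.Bf θ0).erase (trivIrr G)).card = 4 := by
    rw [Finset.card_erase_of_mem htrivB, c.card_Bf θ0 hθ0]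
  obtain ⟨χ1, χ2, χ3, χ4, hTeq, h12, h13, h14, h23, h24, h34, hs12, hs23, hs34⟩ :=
    exists_sorted4 _ hTcard (fun χ => c.δ θ0 χ * (charDegree χ.1 : ℤ))
  have hBeq : c.Bf θ0 = {trivIrr G, χ1, χ2, χ3, χ4} := by
    rw [← hTeq, Finset.insert_erase htrivB]
  have hm : ∀ χ, χ ∈ ({χ1, χ2, χ3, χ4} : Finset (IrrCharacter G)) →
      χ ∈ c.Bf θ0 ∧ χ ≠ trivIrr G := by
    intro χ h
    rw [← hTeq, Finset.mem_erase] at h
    exact ⟨h.2, h.1⟩
  obtain ⟨hB1, hne1⟩ := hm χ1 (by simp)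
  obtain ⟨hB2, hne2⟩ := hm χ2 (by simp)
  obtain ⟨hB3, hne3⟩ := hm χ3 (by simp)
  obtain ⟨hB4, hne4⟩ := hm χ4 (by simp)
  have hsumB : ∀ f : IrrCharacter G → ℂ, ∑ χ ∈ c.Bf θ0, f χ =
      f (trivIrr G) + (f χ1 + (f χ2 + (f χ3 + f χ4))) := by
    intro f
    rw [hBeq]
    exact sum_five (Ne.symm hne1) (Ne.symm hne2) (Ne.symm hne3) (Ne.symm hne4) h12 h13 h14 h23
      h24 h34 f
  have hsumBN : ∑ χ ∈ c.Bf θ0, (charDegree χ.1) ^ 2 =
      (charDegree (trivIrr G).1) ^ 2 + ((charDegree χ1.1) ^ 2 + ((charDegree χ2.1) ^ 2 +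
        ((charDegree χ3.1) ^ 2 + (charDegree χ4.1) ^ 2))) := by
    rw [hBeq]
    exact sum_five (Ne.symm hne1) (Ne.symm hne2) (Ne.symm hne3) (Ne.symm hne4) h12 h13 h14 h23
      h24 h34 (fun χ => (charDegree χ.1) ^ 2)
  have hdvd : ∀ ψ : IrrCharacter G, charDegree ψ.1 ∣ 4320 := fun ψ => hcard ▸ charDegree_dvd ψ
  have hcase : ∀ χ, χ ∈ c.Bf θ0 → χ ≠ trivIrr G →
      c.δ θ0 χ * (charDegree χ.1 : ℤ) = -54 ∨ c.δ θ0 χ * (charDegree χ.1 : ℤ) = -24 ∨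
      c.δ θ0 χ * (charDegree χ.1 : ℤ) = -9 ∨ c.δ θ0 χ * (charDegree χ.1 : ℤ) = -4 ∨
      c.δ θ0 χ * (charDegree χ.1 : ℤ) = 6 ∨ c.δ θ0 χ * (charDegree χ.1 : ℤ) = 16 ∨
      c.δ θ0 χ * (charDegree χ.1 : ℤ) = 36 := by
    intro χ hB' hne
    exact deg_cases4320 _ _ (c.δ_cases θ0 hB') (hdvd χ) (hcard ▸ sq_le_card χ)
      (fun h1 => hne (eq_trivIrr_of_charDegree_eq_one hperf χ h1)) (hdeg χ hB')
  -- the sum of the signed degrees
  have h1reg : ¬ 5 ∣ orderOf (1 : G) := by rw [orderOf_one]; norm_num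
  have hsumZ : 1 + (c.δ θ0 χ1 * (charDegree χ1.1 : ℤ) + (c.δ θ0 χ2 * (charDegree χ2.1 : ℤ) +
      (c.δ θ0 χ3 * (charDegree χ3.1 : ℤ) + c.δ θ0 χ4 * (charDegree χ4.1 : ℤ)))) = 0 := by
    have h := c.sum_Bf_reg θ0 hθ0 h1reg
    rw [hsumB, hδtriv] at h
    simp only [apply_one] at h
    rw [charDegree_trivIrr] at h
    exact_mod_cast h
  have hsqN : (charDegree χ1.1) ^ 2 + ((charDegree χ2.1) ^ 2 +
        ((charDegree χ3.1) ^ 2 + (charDegree χ4.1) ^ 2)) ≤ 4319 := by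
    have h := sum_sq_le (c.Bf θ0)
    rw [hsumBN, charDegree_trivIrr, hcard] at h
    omega
  have hsqZ : (c.δ θ0 χ1 * (charDegree χ1.1 : ℤ)) ^ 2 + (c.δ θ0 χ2 * (charDegree χ2.1 : ℤ)) ^ 2 +
      (c.δ θ0 χ3 * (charDegree χ3.1 : ℤ)) ^ 2 + (c.δ θ0 χ4 * (charDegree χ4.1 : ℤ)) ^ 2 ≤ 4319 := by
    have hsq1 : ∀ χ ∈ c.Bf θ0, (c.δ θ0 χ * (charDegree χ.1 : ℤ)) ^ 2 = (charDegree χ.1 : ℤ) ^ 2 := by
      intro χ hχ
      rcases c.δ_cases θ0 hχ with h | h <;> rw [h] <;> ring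
    rw [hsq1 χ1 hB1, hsq1 χ2 hB2, hsq1 χ3 hB3, hsq1 χ4 hB4]
    have : ((charDegree χ1.1) ^ 2 + ((charDegree χ2.1) ^ 2 +
        ((charDegree χ3.1) ^ 2 + (charDegree χ4.1) ^ 2)) : ℤ) ≤ 4319 := by exact_mod_cast hsqN
    linarith
  have hpat := patterns4320 (hcase χ1 hB1 hne1) (hcase χ2 hB2 hne2) (hcase χ3 hB3 hne3)
    (hcase χ4 hB4 hne4) hs12 hs23 hs34 hsumZ hsqZ
  -- an involution of the normalizer
  have h2N : 2 ∣ Nat.card (Subgroup.normalizer ((P : Subgroup G) : Set G)) := by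
    rw [hN]; norm_num
  obtain ⟨t', ht'⟩ := exists_prime_orderOf_dvd_card' 2 h2N
  have ht2 : orderOf (t' : G) = 2 := by rw [Subgroup.orderOf_coe]; exact ht'
  have htN : (t' : G) ∈ Subgroup.normalizer ((c.P : Subgroup G) : Set G) := by
    rw [hcP]; exact t'.2
  generalize (t' : G) = t at ht2 htN
  have htt : t * t = 1 := by rw [← pow_two, ← ht2]; exact pow_orderOf_eq_one t
  have ht1 : t ≠ 1 := by
    intro h
    rw [h, orderOf_one] at ht2
    norm_num at ht2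
  have htreg : ¬ 5 ∣ orderOf t := by rw [ht2]; norm_num
  have hm1 := c.count_pos (by norm_num) htN ht2
  have hm5 := c.count_le htt
  -- the centralizer of `t`
  have hnd := c.not_dvd_card_centralizer htreg ht1
  have hkc := card_isConj_mul_card_centralizer t
  rw [hcard] at hkc
  have hc864 : Nat.card (Subgroup.centralizer ({t} : Set G)) ∣ 864 := by
    have h1 : Nat.card (Subgroup.centralizer ({t} : Set G)) ∣ 864 * 5 := by
      have h0 : (864 * 5 : ℕ) = Nat.card {v : G // IsConj t v} *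
          Nat.card (Subgroup.centralizer ({t} : Set G)) := by rw [hkc]
      rw [h0]
      exact dvd_mul_left _ _
    have hcop : Nat.Coprime (Nat.card (Subgroup.centralizer ({t} : Set G))) 5 :=
      ((Nat.Prime.coprime_iff_not_dvd h5.1).2 hnd).symm
    exact hcop.dvd_of_dvd_mul_right h1
  have hkcC : (Nat.card {v : G // IsConj t v} : ℂ) *
      (Nat.card (Subgroup.centralizer ({t} : Set G)) : ℂ) = 4320 := by exact_mod_cast hkc
  -- the values at `t`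
  obtain ⟨b1, hb1, hχ1t, hev1⟩ := involution_apply hperf χ1 htt
  obtain ⟨b2, hb2, hχ2t, hev2⟩ := involution_apply hperf χ2 htt
  obtain ⟨b3, hb3, hχ3t, hev3⟩ := involution_apply hperf χ3 htt
  obtain ⟨b4, hb4, hχ4t, hev4⟩ := involution_apply hperf χ4 htt
  obtain ⟨β1, rfl⟩ := hev1
  obtain ⟨β2, rfl⟩ := hev2
  obtain ⟨β3, rfl⟩ := hev3
  obtain ⟨β4, rfl⟩ := hev4
  have hv : ∀ (χ : IrrCharacter G) (β : ℕ),
      χ.1 t = (charDegree χ.1 : ℂ) - 2 * ((β + β : ℕ) : ℂ) →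
      χ.1 t = (((charDegree χ.1 : ℝ) - 4 * (β : ℝ) : ℝ) : ℂ) := by
    intro χ β h
    rw [h]
    push_cast
    ring
  -- the sum of the values
  have hsumt : 1 + (c.δ θ0 χ1 * ((charDegree χ1.1 : ℤ) - 4 * β1) +
      (c.δ θ0 χ2 * ((charDegree χ2.1 : ℤ) - 4 * β2) +
      (c.δ θ0 χ3 * ((charDegree χ3.1 : ℤ) - 4 * β3) +
        c.δ θ0 χ4 * ((charDegree χ4.1 : ℤ) - 4 * β4)))) = 0 := by
    have h := c.sum_Bf_reg θ0 hθ0 htreg
    rw [hsumB, hδtriv, trivIrr_apply, hχ1t, hχ2t, hχ3t, hχ4t] at h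
    have h' : ((1 + (c.δ θ0 χ1 * ((charDegree χ1.1 : ℤ) - 4 * β1) +
      (c.δ θ0 χ2 * ((charDegree χ2.1 : ℤ) - 4 * β2) +
      (c.δ θ0 χ3 * ((charDegree χ3.1 : ℤ) - 4 * β3) +
        c.δ θ0 χ4 * ((charDegree χ4.1 : ℤ) - 4 * β4)))) : ℤ) : ℂ) = 0 := by
      push_cast at h ⊢
      linear_combination h
    exact_mod_cast h'
  -- column orthogonality
  have hcol := column_orthogonality t t
  have hci : classIndicator t t = 1 := by
    unfold classIndicator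
    rw [if_pos (IsConj.refl t)]
  rw [hci, mul_one] at hcol
  have hreal : ∑ χ : IrrCharacter G, Complex.normSq (χ.1 t) =
      (Nat.card (Subgroup.centralizer ({t} : Set G)) : ℝ) := by
    have h3 : ((∑ χ : IrrCharacter G, Complex.normSq (χ.1 t) : ℝ) : ℂ) =
        ((Nat.card (Subgroup.centralizer ({t} : Set G)) : ℝ) : ℂ) := by
      push_cast
      rw [← hcol]
      refine Finset.sum_congr rfl fun χ _ => ?_
      rw [Complex.mul_conj]
    exact_mod_cast h3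
  have hcolZ : 1 + ((((charDegree χ1.1 : ℤ) - 4 * β1) ^ 2 + (((charDegree χ2.1 : ℤ) - 4 * β2) ^ 2 +
      (((charDegree χ3.1 : ℤ) - 4 * β3) ^ 2 + ((charDegree χ4.1 : ℤ) - 4 * β4) ^ 2)))) ≤
      (Nat.card (Subgroup.centralizer ({t} : Set G)) : ℤ) := by
    have h4 : ∑ χ ∈ c.Bf θ0, Complex.normSq (χ.1 t) ≤
        ∑ χ : IrrCharacter G, Complex.normSq (χ.1 t) :=
      Finset.sum_le_univ_sum_of_nonneg (fun χ => Complex.normSq_nonneg _)
    have h5' : ∑ χ ∈ c.Bf θ0, Complex.normSq (χ.1 t) =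
        Complex.normSq ((trivIrr G).1 t) + (Complex.normSq (χ1.1 t) + (Complex.normSq (χ2.1 t) +
          (Complex.normSq (χ3.1 t) + Complex.normSq (χ4.1 t)))) := by
      rw [hBeq]
      exact sum_five (Ne.symm hne1) (Ne.symm hne2) (Ne.symm hne3) (Ne.symm hne4) h12 h13 h14 h23
        h24 h34 (fun χ => Complex.normSq (χ.1 t))
    rw [h5', hreal, trivIrr_apply, map_one, hv χ1 β1 hχ1t, hv χ2 β2 hχ2t, hv χ3 β3 hχ3t,
      hv χ4 β4 hχ4t, Complex.normSq_ofReal, Complex.normSq_ofReal, Complex.normSq_ofReal,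
      Complex.normSq_ofReal] at h4
    have h6 : ((1 + ((((charDegree χ1.1 : ℤ) - 4 * β1) ^ 2 +
      (((charDegree χ2.1 : ℤ) - 4 * β2) ^ 2 +
      (((charDegree χ3.1 : ℤ) - 4 * β3) ^ 2 + ((charDegree χ4.1 : ℤ) - 4 * β4) ^ 2)))) : ℤ) : ℝ) ≤
      ((Nat.card (Subgroup.centralizer ({t} : Set G)) : ℤ) : ℝ) := by
      push_cast
      linarith
    exact_mod_cast h6
  -- the class multiplication identity
  have hcm := c.class_mult' θ0 hθ0 htreg
  rw [hsumB, hδtriv, trivIrr_apply, trivIrr_apply, hcard, hχ1t, hχ2t, hχ3t, hχ4t,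
    apply_one χ1, apply_one χ2, apply_one χ3, apply_one χ4] at hcm
  have hcmC : (Nat.card {q : G × G // IsConj t q.1 ∧ IsConj t q.2 ∧ q.1 * q.2 = c.x} : ℂ) *
      (Nat.card (Subgroup.centralizer ({t} : Set G)) : ℂ) ^ 2 = 4320 * (1 +
      ((c.δ θ0 χ1 : ℂ) * (((charDegree χ1.1 : ℂ) - 4 * β1) * ((charDegree χ1.1 : ℂ) - 4 * β1) /
          (charDegree χ1.1 : ℂ)) +
        ((c.δ θ0 χ2 : ℂ) * (((charDegree χ2.1 : ℂ) - 4 * β2) * ((charDegree χ2.1 : ℂ) - 4 * β2) /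
            (charDegree χ2.1 : ℂ)) +
          ((c.δ θ0 χ3 : ℂ) * (((charDegree χ3.1 : ℂ) - 4 * β3) * ((charDegree χ3.1 : ℂ) - 4 * β3) /
              (charDegree χ3.1 : ℂ)) +
            (c.δ θ0 χ4 : ℂ) * (((charDegree χ4.1 : ℂ) - 4 * β4) *
              ((charDegree χ4.1 : ℂ) - 4 * β4) / (charDegree χ4.1 : ℂ)))))) := by
    have hgen : ∀ (m k c' S' : ℂ), m * 4320 = k ^ 2 * S' → k * c' = 4320 →
        m * c' ^ 2 = 4320 * S' := by
      intro m k c' S' h1 h2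
      linear_combination (c' ^ 2 / 4320) * h1 + (S' * (k * c' + 4320) / 4320) * h2
    refine hgen _ _ _ _ ?_ hkcC
    push_cast at hcm ⊢
    rw [hcm]
    congr 1
    simp only [mul_one, div_one]
    ring
  exact final_step _ _ _ _ _ _ _ _ β1 β2 β3 β4 _ _ (c.δ_cases θ0 hB1) (c.δ_cases θ0 hB2)
    (c.δ_cases θ0 hB3) (c.δ_cases θ0 hB4) (charDegree_pos χ1) (charDegree_pos χ2)
    (charDegree_pos χ3) (charDegree_pos χ4) hb1 hb2 hb3 hb4 hpat hm1 hm5 hc864 hcolZ hsumt hcmC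

end Cfsg.Agent.Lib.Helper6.OrdJ
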