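import Mathlib
import Cfsg.Agent.Lib.Helper6.OrdK1
import Cfsg.Agent.Lib.Helper6.OrdK2
import Cfsg.Agent.Lib.Helper6.OrdJ2
import Cfsg.Agent.Lib.Helper6.OrdD1

/-!
# Simple groups of order 5040: the principal 5-block
-/

set_option autoImplicit false
set_option maxHeartbeats 1600000

namespace Cfsg.Agent.Lib.Helper6.OrdK

open Cfsg Cfsg.Agent.Lib.Helper8 Cfsg.Agent.Lib.Helper6.OrdB Cfsg.Agent.Lib.Helper6.OrdD
  Cfsg.Agent.Lib.Helper6.OrdJ
open scoped ComplexConjugate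

universe u

set_option maxRecDepth 100000 in
theorem deg_table5040_5 : ∀ d < 71, d ∣ 5040 → d < 10 ∨
    (d % 5 = 1 ∧ (d = 16 ∨ d = 21 ∨ d = 36 ∨ d = 56)) ∨
    (d % 5 = 4 ∧ (d = 14 ∨ d = 24)) ∨ (d % 5 ≠ 1 ∧ d % 5 ≠ 4) := by
  decide

/-- the possible signed degrees `≡ ±1` modulo 5, at least 10 -/
theorem deg_cases5040_5 (d : ℕ) (ε : ℤ) (hε : ε = 1 ∨ ε = -1) (hdvd : d ∣ 5040)
    (hsq : d ^ 2 ≤ 5040) (hd10 : 10 ≤ d) (hmod : (d : ℤ) ≡ ε [ZMOD 5]) :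
    ε * (d : ℤ) = -24 ∨ ε * (d : ℤ) = -14 ∨ ε * (d : ℤ) = 16 ∨ ε * (d : ℤ) = 21 ∨
      ε * (d : ℤ) = 36 ∨ ε * (d : ℤ) = 56 := by
  have hle : d < 71 := by nlinarith
  have htab := deg_table5040_5 d hle hdvd
  unfold Int.ModEq at hmod
  rcases hε with rfl | rfl
  · have h3 : d % 5 = 1 := by omega
    rcases htab with h | ⟨-, h | h | h | h⟩ | ⟨h, -⟩ | ⟨h, -⟩ <;> omega
  · have h3 : d % 5 = 4 := by omega
    rcases htab with h | ⟨h, -⟩ | ⟨-, h | h⟩ | ⟨-, h⟩ <;> omega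

/-- the six possible signed degrees -/
def vals5 : Fin 6 → ℤ := ![-24, -14, 16, 21, 36, 56]

set_option maxRecDepth 100000 in
theorem patterns5_fin : ∀ i1 i2 i3 i4 : Fin 6,
    ¬ (vals5 i1 ≤ vals5 i2 ∧ vals5 i2 ≤ vals5 i3 ∧ vals5 i3 ≤ vals5 i4 ∧
        1 + (vals5 i1 + (vals5 i2 + (vals5 i3 + vals5 i4))) = 0) ∨
      (vals5 i1 = -24 ∧ vals5 i2 = -14 ∧ vals5 i3 = 16 ∧ vals5 i4 = 21) := by
  decide

theorem exists_vals5 {s : ℤ} (h : s = -24 ∨ s = -14 ∨ s = 16 ∨ s = 21 ∨ s = 36 ∨ s = 56) :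
    ∃ i : Fin 6, s = vals5 i := by
  rcases h with h | h | h | h | h | h
  · exact ⟨0, h⟩
  · exact ⟨1, h⟩
  · exact ⟨2, h⟩
  · exact ⟨3, h⟩
  · exact ⟨4, h⟩
  · exact ⟨5, h⟩

/-- the pattern of signed degrees of the principal 5-block -/
theorem patterns5040_5 {s1 s2 s3 s4 : ℤ}
    (h1 : s1 = -24 ∨ s1 = -14 ∨ s1 = 16 ∨ s1 = 21 ∨ s1 = 36 ∨ s1 = 56)
    (h2 : s2 = -24 ∨ s2 = -14 ∨ s2 = 16 ∨ s2 = 21 ∨ s2 = 36 ∨ s2 = 56)
    (h3 : s3 = -24 ∨ s3 = -14 ∨ s3 = 16 ∨ s3 = 21 ∨ s3 = 36 ∨ s3 = 56)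
    (h4 : s4 = -24 ∨ s4 = -14 ∨ s4 = 16 ∨ s4 = 21 ∨ s4 = 36 ∨ s4 = 56)
    (h12 : s1 ≤ s2) (h23 : s2 ≤ s3) (h34 : s3 ≤ s4)
    (hsum : 1 + (s1 + (s2 + (s3 + s4))) = 0) :
    s1 = -24 ∧ s2 = -14 ∧ s3 = 16 ∧ s4 = 21 := by
  obtain ⟨i1, rfl⟩ := exists_vals5 h1
  obtain ⟨i2, rfl⟩ := exists_vals5 h2
  obtain ⟨i3, rfl⟩ := exists_vals5 h3
  obtain ⟨i4, rfl⟩ := exists_vals5 h4
  rcases patterns5_fin i1 i2 i3 i4 with h | h
  · exact absurd ⟨h12, h23, h34, hsum⟩ h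
  · exact h

/-- The Sylow 5-subgroups of a simple group of order 5040: the centralizer has order 35 or 10, and
the group has an irreducible character of degree 16. -/
theorem five_data {G : Type u} [Group G] [Finite G] [IsSimpleGroup G]
    (hG : ¬ IsMulCommutative G) (hcard : Nat.card G = 5040) (P : Sylow 5 G) :
    (Nat.card (Subgroup.centralizer ((P : Subgroup G) : Set G)) = 35 ∨
      Nat.card (Subgroup.centralizer ((P : Subgroup G) : Set G)) = 10) ∧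
    ∃ χ : IrrCharacter G, charDegree χ.1 = 16 := by
  classical
  have : Fintype G := Fintype.ofFinite G
  have : Fintype (IrrCharacter G) := Fintype.ofFinite _
  have h5 : Fact (Nat.Prime 5) := ⟨by norm_num⟩
  have hperf : commutator G = ⊤ := commutator_eq_top hG
  have hcard' : Nat.card G = 5 * 1008 := by rw [hcard]
  obtain ⟨hPcard, n, k, e, c', hn, hnk, hmod, hn1, hfact, hN, he, hediv, he1, hc', hce, -⟩ :=
    sylow_prime_data hG 1008 (by norm_num) hcard' (by norm_num) P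
  have hn21 : n ≠ 21 := by
    rw [← hn]
    exact Cfsg.Agent.S1010.result
  have harith := arith5 n k e c' hnk hmod hn1 hfact hn21 hediv he1 hce
  have he4 : e ∣ 5 - 1 := by
    rcases harith with ⟨h, -⟩ | ⟨h, -⟩ <;> rw [h] <;> norm_num
  -- the centralizer is not a 5-group
  have hC : ¬ IsPGroup 5 (Subgroup.centralizer ((P : Subgroup G) : Set G)) := by
    intro h
    obtain ⟨j, hj⟩ := IsPGroup.iff_card.1 h
    rw [hc'] at hj
    have hj2 : j ≤ 2 := by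
      by_contra hcon
      push Not at hcon
      have : 5 ^ 3 ≤ 5 ^ j := Nat.pow_le_pow_right (by norm_num) hcon
      rcases harith with ⟨-, h | h | h⟩ | ⟨-, h | h⟩ <;> omega
    interval_cases j <;> rcases harith with ⟨-, h | h | h⟩ | ⟨-, h | h⟩ <;> omega
  obtain ⟨c, hcP⟩ := exists_D1 5 P hPcard e he he4
  rw [← hcP] at hC
  have hdvd : ∀ ψ : IrrCharacter G, charDegree ψ.1 ∣ 5040 := fun ψ => hcard ▸ charDegree_dvd ψ
  have hsq : ∀ ψ : IrrCharacter G, (charDegree ψ.1) ^ 2 ≤ 5040 := fun ψ => hcard ▸ sq_le_card ψ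
  have hge : ∀ ψ : IrrCharacter G, ψ ∈ c.X ∪ c.Y → ψ ≠ trivIrr G → 10 ≤ charDegree ψ.1 :=
    fun ψ h1 h2 => c.two_mul_le_deg hG hC h1 h2
  have htriv := c.triv_mem
  have h1reg : ¬ 5 ∣ orderOf (1 : G) := by rw [orderOf_one]; norm_num
  rcases harith with ⟨rfl, -⟩ | ⟨rfl, hc35⟩
  · -- `e = 2` is impossible
    exfalso
    have htrivY : trivIrr G ∉ c.Y := by
      intro h
      have h1 := c.hYdeg _ h
      rw [charDegree_trivIrr] at h1
      unfold Int.ModEq at h1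
      rcases c.hε with h | h <;> rw [h] at h1 <;> norm_num at h1
    have htrivX : trivIrr G ∈ c.X := by
      rcases htriv with h | h
      · exact h
      · exact absurd h htrivY
    have hεtriv : c.εX (trivIrr G) = 1 := by
      have h2 := c.hXdeg _ htrivX
      rw [charDegree_trivIrr] at h2
      unfold Int.ModEq at h2
      rcases c.hεX _ htrivX with h1 | h1
      · exact h1
      · rw [h1] at h2; norm_num at h2
    have hX2 : c.X.ncard = 2 := by rw [← Nat.card_coe_set_eq]; exact c.hXc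
    obtain ⟨a', b', hab, hXab⟩ := Set.ncard_eq_two.1 hX2
    obtain ⟨χ, hχne, hXeq⟩ : ∃ χ : IrrCharacter G, χ ≠ trivIrr G ∧ c.X = {trivIrr G, χ} := by
      rw [hXab] at htrivX
      rcases htrivX with h | h
      · exact ⟨b', fun hb => hab (by rw [← h, hb]), by rw [hXab, h]⟩
      · rw [Set.mem_singleton_iff] at h
        exact ⟨a', fun ha => hab (by rw [← h, ha]), by rw [hXab, h, Set.pair_comm]⟩
    have hχX : χ ∈ c.X := by rw [hXeq]; simp
    have hXfeq : c.Xf = {trivIrr G, χ} := by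
      ext ψ
      rw [c.mem_Xf, hXeq]
      simp
    have hYne : c.Yf.Nonempty := by
      rw [← Finset.card_pos]
      have := c.card_Yf
      omega
    obtain ⟨θ0, hθ0f⟩ := hYne
    have hθ0 := c.mem_Yf.1 hθ0f
    have heq1 := c.sum_reg hθ0 h1reg
    rw [hXfeq, Finset.sum_pair (Ne.symm hχne), hεtriv, trivIrr_apply, apply_one θ0,
      apply_one χ] at heq1
    have heqZ : c.ε * (charDegree θ0.1 : ℤ) = 1 + c.εX χ * (charDegree χ.1 : ℤ) := by
      have : ((c.ε * (charDegree θ0.1 : ℤ) : ℤ) : ℂ) =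
          ((1 + c.εX χ * (charDegree χ.1 : ℤ) : ℤ) : ℂ) := by
        push_cast
        push_cast at heq1
        linear_combination heq1
      exact_mod_cast this
    have hcases := deg_cases5040_5 _ _ (c.hεX χ hχX) (hdvd χ) (hsq χ)
      (hge χ (Or.inl hχX) hχne) (c.hXdeg χ hχX)
    have hdvdθ' : (c.ε * (charDegree θ0.1 : ℤ)).natAbs ∣ 5040 := by
      rcases c.hε with h | h <;> rw [h]
      · simpa using hdvd θ0
      · simpa using hdvd θ0
    rw [heqZ] at hdvdθ'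
    rcases hcases with h | h | h | h | h | h <;> rw [h] at hdvdθ' <;> revert hdvdθ' <;> decide
  · -- `e = 4`
    refine ⟨by rw [hc']; rcases hc35 with h | h <;> [left; right] <;> exact h, ?_⟩
    have hYcard : c.Yf.card = 1 := by have := c.card_Yf; omega
    obtain ⟨θ0, hYeq⟩ := Finset.card_eq_one.1 hYcard
    have hθ0 : θ0 ∈ c.Y := c.mem_Yf.1 (by rw [hYeq]; exact Finset.mem_singleton_self _)
    have hdeg : ∀ χ ∈ c.Bf θ0, (charDegree χ.1 : ℤ) ≡ c.δ θ0 χ [ZMOD 5] := by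
      intro χ hχ
      rcases (c.mem_Bf θ0).1 hχ with h | h
      · rw [h, c.δ_self]
        have h1 := c.hYdeg θ0 hθ0
        unfold Int.ModEq at h1 ⊢
        push_cast at h1
        omega
      · rw [c.δ_of_mem_X θ0 hθ0 h]
        exact c.hXdeg χ h
    have hBsub : ∀ χ ∈ c.Bf θ0, χ ∈ c.X ∪ c.Y := by
      intro χ hχ
      rcases (c.mem_Bf θ0).1 hχ with h | h
      · right; rw [h]; exact hθ0
      · left; exact h
    have htrivB : trivIrr G ∈ c.Bf θ0 := by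
      rw [c.mem_Bf]
      rcases htriv with h | h
      · exact Or.inr h
      · left
        have : trivIrr G ∈ c.Yf := c.mem_Yf.2 h
        rw [hYeq, Finset.mem_singleton] at this
        exact this
    have hδtriv : c.δ θ0 (trivIrr G) = 1 := by
      have h2 := hdeg _ htrivB
      rw [charDegree_trivIrr] at h2
      unfold Int.ModEq at h2
      rcases c.δ_cases θ0 htrivB with h1 | h1
      · exact h1
      · rw [h1] at h2; norm_num at h2
    have hTcard : ((c.Bf θ0).erase (trivIrr G)).card = 4 := by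
      rw [Finset.card_erase_of_mem htrivB, c.card_Bf θ0 hθ0]
    obtain ⟨χ1, χ2, χ3, χ4, hTeq, h12, h13, h14, h23, h24, h34, hs12, hs23, hs34⟩ :=
      exists_sorted4 _ hTcard (fun χ => c.δ θ0 χ * (charDegree χ.1 : ℤ))
    have hBeq : c.Bf θ0 = {trivIrr G, χ1, χ2, χ3, χ4} := by
      rw [← hTeq, Finset.insert_erase htrivB]
    have hm : ∀ χ, χ ∈ ({χ1, χ2, χ3, χ4} : Finset (IrrCharacter G)) →
        χ ∈ c.Bf θ0 ∧ χ ≠ trivIrr G := by
      intro χ h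
      rw [← hTeq, Finset.mem_erase] at h
      exact ⟨h.2, h.1⟩
    obtain ⟨hB1, hne1⟩ := hm χ1 (by simp)
    obtain ⟨hB2, hne2⟩ := hm χ2 (by simp)
    obtain ⟨hB3, hne3⟩ := hm χ3 (by simp)
    obtain ⟨hB4, hne4⟩ := hm χ4 (by simp)
    have hsumB : ∀ f : IrrCharacter G → ℂ, ∑ χ ∈ c.Bf θ0, f χ =
        f (trivIrr G) + (f χ1 + (f χ2 + (f χ3 + f χ4))) := by
      intro f
      rw [hBeq]
      exact sum_five (Ne.symm hne1) (Ne.symm hne2) (Ne.symm hne3) (Ne.symm hne4) h12 h13 h14 h23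
        h24 h34 f
    have hcase : ∀ χ, χ ∈ c.Bf θ0 → χ ≠ trivIrr G →
        c.δ θ0 χ * (charDegree χ.1 : ℤ) = -24 ∨ c.δ θ0 χ * (charDegree χ.1 : ℤ) = -14 ∨
        c.δ θ0 χ * (charDegree χ.1 : ℤ) = 16 ∨ c.δ θ0 χ * (charDegree χ.1 : ℤ) = 21 ∨
        c.δ θ0 χ * (charDegree χ.1 : ℤ) = 36 ∨ c.δ θ0 χ * (charDegree χ.1 : ℤ) = 56 := by
      intro χ hB' hne
      exact deg_cases5040_5 _ _ (c.δ_cases θ0 hB') (hdvd χ) (hsq χ) (hge χ (hBsub χ hB') hne)
        (hdeg χ hB')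
    have hsumZ : 1 + (c.δ θ0 χ1 * (charDegree χ1.1 : ℤ) + (c.δ θ0 χ2 * (charDegree χ2.1 : ℤ) +
        (c.δ θ0 χ3 * (charDegree χ3.1 : ℤ) + c.δ θ0 χ4 * (charDegree χ4.1 : ℤ)))) = 0 := by
      have h := c.sum_Bf_reg θ0 hθ0 h1reg
      rw [hsumB, hδtriv] at h
      simp only [apply_one] at h
      rw [charDegree_trivIrr] at h
      exact_mod_cast h
    obtain ⟨-, -, h16, -⟩ := patterns5040_5 (hcase χ1 hB1 hne1) (hcase χ2 hB2 hne2)
      (hcase χ3 hB3 hne3) (hcase χ4 hB4 hne4) hs12 hs23 hs34 hsumZ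
    refine ⟨χ3, ?_⟩
    obtain ⟨-, hd⟩ := (sign_deg (c.δ_cases θ0 hB3) (charDegree_pos χ3) h16).1 (by norm_num)
    exact_mod_cast hd

end Cfsg.Agent.Lib.Helper6.OrdK
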