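import Mathlib

/-!
# Simple groups of order 5040: the arithmetic of the principal 7-block
-/

set_option autoImplicit false
set_option maxHeartbeats 1600000

namespace Cfsg.Agent.Lib.Helper6.OrdK

set_option maxRecDepth 100000 in
theorem deg_table5040_7 : ∀ d < 71, d ∣ 5040 → d < 14 ∨
    (d % 7 = 1 ∧ (d = 15 ∨ d = 36)) ∨
    (d % 7 = 6 ∧ (d = 20 ∨ d = 48)) ∨ (d % 7 ≠ 1 ∧ d % 7 ≠ 6) := by
  decide

/-- the possible signed degrees `≡ ±1` modulo 7, at least 14 -/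
theorem deg_cases5040_7 (d : ℕ) (ε : ℤ) (hε : ε = 1 ∨ ε = -1) (hdvd : d ∣ 5040)
    (hsq : d ^ 2 ≤ 5040) (hd14 : 14 ≤ d) (hmod : (d : ℤ) ≡ ε [ZMOD 7]) :
    ε * (d : ℤ) = 15 ∨ ε * (d : ℤ) = 36 ∨ ε * (d : ℤ) = -20 ∨ ε * (d : ℤ) = -48 := by
  have hle : d < 71 := by nlinarith
  have htab := deg_table5040_7 d hle hdvd
  unfold Int.ModEq at hmod
  rcases hε with rfl | rfl
  · have h3 : d % 7 = 1 := by omega
    rcases htab with h | ⟨-, h | h⟩ | ⟨h, -⟩ | ⟨h, -⟩ <;> omega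
  · have h3 : d % 7 = 6 := by omega
    rcases htab with h | ⟨h, -⟩ | ⟨-, h | h⟩ | ⟨-, h⟩ <;> omega

/-- counting the values of a function with four possible values -/
theorem count4sq {α : Type*} [DecidableEq α] (v1 v2 v3 v4 : ℤ) (T : Finset α) (g : α → ℤ)
    (hg : ∀ χ ∈ T, g χ = v1 ∨ g χ = v2 ∨ g χ = v3 ∨ g χ = v4) :
    ∃ a b c d : ℕ, a + b + c + d = T.card ∧
      ∑ χ ∈ T, g χ = (a : ℤ) * v1 + (b : ℤ) * v2 + (c : ℤ) * v3 + (d : ℤ) * v4 ∧
      ∑ χ ∈ T, g χ ^ 2 =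
        (a : ℤ) * v1 ^ 2 + (b : ℤ) * v2 ^ 2 + (c : ℤ) * v3 ^ 2 + (d : ℤ) * v4 ^ 2 := by
  induction T using Finset.induction_on with
  | empty => exact ⟨0, 0, 0, 0, by simp, by simp, by simp⟩
  | insert x T hx ih =>
    obtain ⟨a, b, c, d, h1, h2, h3⟩ := ih (fun χ hχ => hg χ (Finset.mem_insert_of_mem hχ))
    rw [Finset.sum_insert hx, Finset.sum_insert hx, Finset.card_insert_of_notMem hx, h2, h3]
    rcases hg x (Finset.mem_insert_self x T) with h | h | h | h
    · exact ⟨a + 1, b, c, d, by omega, by rw [h]; push_cast; ring, by rw [h]; push_cast; ring⟩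
    · exact ⟨a, b + 1, c, d, by omega, by rw [h]; push_cast; ring, by rw [h]; push_cast; ring⟩
    · exact ⟨a, b, c + 1, d, by omega, by rw [h]; push_cast; ring, by rw [h]; push_cast; ring⟩
    · exact ⟨a, b, c, d + 1, by omega, by rw [h]; push_cast; ring, by rw [h]; push_cast; ring⟩

/-- six signed degrees with sum `-1` and small squares do not exist -/
theorem arith_e6 (a b c d : ℕ) (h1 : a + b + c + d = 6)
    (h2 : (a : ℤ) * 15 + (b : ℤ) * 36 + (c : ℤ) * (-20) + (d : ℤ) * (-48) = -1)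
    (h3 : (a : ℤ) * 15 ^ 2 + (b : ℤ) * 36 ^ 2 + (c : ℤ) * (-20) ^ 2 + (d : ℤ) * (-48) ^ 2 ≤ 5039) :
    False := by
  have ha : a ≤ 6 := by omega
  have hb : b ≤ 6 := by omega
  have hc : c ≤ 6 := by omega
  interval_cases a <;> interval_cases b <;> interval_cases c <;> omega

theorem natAbs_sign_mul {ε : ℤ} (hε : ε = 1 ∨ ε = -1) (d : ℕ) : (ε * (d : ℤ)).natAbs = d := by
  rcases hε with rfl | rfl <;> simp

/-- three non-exceptional characters: impossible -/
theorem arith_e3 {s2 s3 : ℤ} (h2 : s2 = 15 ∨ s2 = 36 ∨ s2 = -20 ∨ s2 = -48)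
    (h3 : s3 = 15 ∨ s3 = 36 ∨ s3 = -20 ∨ s3 = -48) {d : ℕ} (hd : d ∣ 5040) (hd14 : 14 ≤ d)
    {ε : ℤ} (hε : ε = 1 ∨ ε = -1) (h : ε * (d : ℤ) = 1 + (s2 + s3)) : False := by
  have hd' : d = (1 + (s2 + s3)).natAbs := by rw [← h, natAbs_sign_mul hε]
  rcases h2 with rfl | rfl | rfl | rfl <;> rcases h3 with rfl | rfl | rfl | rfl <;>
    norm_num at hd' <;> subst hd' <;> revert hd hd14 <;> decide

/-- two non-exceptional characters: the degrees are 15 and 16 -/
theorem arith_e2 {s : ℤ} (hs : s = 15 ∨ s = 36 ∨ s = -20 ∨ s = -48) {d : ℕ} (hd : d ∣ 5040)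
    {ε : ℤ} (hε : ε = 1 ∨ ε = -1) (h : ε * (d : ℤ) = 1 + s) : s = 15 ∧ ε = 1 ∧ d = 16 := by
  have hd' : d = (1 + s).natAbs := by rw [← h, natAbs_sign_mul hε]
  rcases hs with rfl | rfl | rfl | rfl
  · norm_num at hd'
    subst hd'
    refine ⟨rfl, ?_, rfl⟩
    rcases hε with rfl | rfl
    · rfl
    · norm_num at h
  · exfalso; norm_num at hd'; subst hd'; revert hd; decide
  · exfalso; norm_num at hd'; subst hd'; revert hd; decide
  · exfalso; norm_num at hd'; subst hd'; revert hd; decide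

/-- the centralizer of the involution in the case of 15 Sylow 7-subgroups -/
theorem arith168 (i m : ℕ) (h1 : i * m = 5040) (h2 : 602 ≤ m) (h3 : 56 ∣ m)
    (h4 : i ≠ 1) (h5 : 2 * 5040 ∣ i.factorial) : False := by
  have hi8 : i ≤ 8 := by
    by_contra hcon
    push Not at hcon
    have : 9 * 602 ≤ i * m := Nat.mul_le_mul hcon h2
    omega
  interval_cases i
  · omega
  · exact h4 rfl
  all_goals first | (revert h5; decide) | omega

/-- the centralizer of an element of order 3 in the case of 120 Sylow 7-subgroups -/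
theorem arith21 (n m : ℕ) (h1 : n * m ∣ 5040) (h2 : 9 ∣ n * m) (h3 : ¬ 5 ∣ n * m)
    (h4 : n % 7 = 1) (h5 : 21 ∣ m) (h6 : m ∣ 42) : False := by
  have hm : m = 21 ∨ m = 42 := by
    have hle : m ≤ 42 := Nat.le_of_dvd (by norm_num) h6
    obtain ⟨j, rfl⟩ := h5
    have : j ≤ 2 := by omega
    interval_cases j
    · simp at h6
    · left; rfl
    · right; rfl
  have hn240 : n ∣ 240 := by
    rcases hm with rfl | rfl
    · have : n * 21 ∣ 240 * 21 := h1
      exact Nat.dvd_of_mul_dvd_mul_right (by norm_num) this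
    · have : n * 42 ∣ 120 * 42 := h1
      exact dvd_trans (Nat.dvd_of_mul_dvd_mul_right (by norm_num) this) (by norm_num)
  have hle : n ≤ 240 := Nat.le_of_dvd (by norm_num) hn240
  have h3n : 3 ∣ n := by
    rcases hm with rfl | rfl
    · have : 3 * 3 ∣ n * 7 * 3 := by rw [mul_assoc]; exact h2
      have h' : 3 ∣ n * 7 := Nat.dvd_of_mul_dvd_mul_right (by norm_num) this
      exact (Nat.Coprime.dvd_mul_right (by norm_num : Nat.Coprime 3 7)).1 h'
    · have : 3 * 3 ∣ n * 14 * 3 := by rw [mul_assoc]; exact h2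
      have h' : 3 ∣ n * 14 := Nat.dvd_of_mul_dvd_mul_right (by norm_num) this
      exact (Nat.Coprime.dvd_mul_right (by norm_num : Nat.Coprime 3 14)).1 h'
  have h5n : ¬ 5 ∣ n := fun h => h3 (dvd_mul_of_dvd_left h m)
  obtain ⟨t, rfl⟩ := h3n
  have ht : t ≤ 80 := by omega
  have ht80 : t ∣ 80 := by
    have : 3 * t ∣ 3 * 80 := hn240
    exact Nat.dvd_of_mul_dvd_mul_left (by norm_num) this
  have h5t : ¬ 5 ∣ t := fun h => h5n (dvd_mul_of_dvd_right h 3)
  interval_cases t <;> omega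

end Cfsg.Agent.Lib.Helper6.OrdK
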