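import Mathlib
import Cfsg.Agent.Lib.Helper6.OrdK1
import Cfsg.Agent.Lib.Helper6.OrdK4
import Cfsg.Agent.Lib.Helper6.OrdD1

/-!
# Simple groups of order 5040: the principal 7-block when the centralizer of a Sylow 7-subgroup is
not a 7-group
-/

set_option autoImplicit false
set_option maxHeartbeats 1600000

namespace Cfsg.Agent.Lib.Helper6.OrdK

open Cfsg Cfsg.Agent.Lib.Helper8 Cfsg.Agent.Lib.Helper6.OrdB Cfsg.Agent.Lib.Helper6.OrdD
open scoped ComplexConjugate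

universe u

variable {G : Type u} [Group G] [Fintype G]

section seven

variable [Fact (Nat.Prime 7)] {e : ℕ} (c : D1 G 7 e)

theorem triv_mem_X7 (he : e = 2 ∨ e = 3) : trivIrr G ∈ c.X := by
  rcases c.triv_mem with h | h
  · exact h
  · exfalso
    have h1 := c.hYdeg _ h
    rw [charDegree_trivIrr] at h1
    unfold Int.ModEq at h1
    rcases c.hε with h2 | h2 <;> rcases he with rfl | rfl <;> rw [h2] at h1 <;> norm_num at h1

theorem εX_triv7 (h : trivIrr G ∈ c.X) : c.εX (trivIrr G) = 1 := by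
  have h2 := c.hXdeg _ h
  rw [charDegree_trivIrr] at h2
  unfold Int.ModEq at h2
  rcases c.hεX _ h with h1 | h1
  · exact h1
  · rw [h1] at h2; norm_num at h2

end seven

variable [IsSimpleGroup G] [Fact (Nat.Prime 7)]

/-- the signed degrees of the non-trivial non-exceptional characters -/
theorem sdeg7 (hG : ¬ IsMulCommutative G) (hcard : Nat.card G = 5040) {e : ℕ} (c : D1 G 7 e)
    (hC : ¬ IsPGroup 7 (Subgroup.centralizer ((c.P : Subgroup G) : Set G)))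
    {χ : IrrCharacter G} (hχ : χ ∈ c.X) (hne : χ ≠ trivIrr G) :
    c.εX χ * (charDegree χ.1 : ℤ) = 15 ∨ c.εX χ * (charDegree χ.1 : ℤ) = 36 ∨
      c.εX χ * (charDegree χ.1 : ℤ) = -20 ∨ c.εX χ * (charDegree χ.1 : ℤ) = -48 :=
  deg_cases5040_7 _ _ (c.hεX χ hχ) (hcard ▸ charDegree_dvd χ) (hcard ▸ sq_le_card χ)
    (c.two_mul_le_deg hG hC (Or.inl hχ) hne) (c.hXdeg χ hχ)

/-- **The inertial index 3 is impossible.** -/
theorem e3_false (hG : ¬ IsMulCommutative G) (hcard : Nat.card G = 5040) (c : D1 G 7 3)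
    (hC : ¬ IsPGroup 7 (Subgroup.centralizer ((c.P : Subgroup G) : Set G))) : False := by
  classical
  have : Fintype (IrrCharacter G) := Fintype.ofFinite _
  have htX := triv_mem_X7 c (Or.inr rfl)
  have hεt := εX_triv7 c htX
  have hcardX : c.Xf.card = 3 := c.card_Xf
  have htXf : trivIrr G ∈ c.Xf := c.mem_Xf.2 htX
  have hT : (c.Xf.erase (trivIrr G)).card = 2 := by
    rw [Finset.card_erase_of_mem htXf, hcardX]
  obtain ⟨χ2, χ3, h23, hTeq⟩ := Finset.card_eq_two.1 hT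
  have hXfeq : c.Xf = insert (trivIrr G) {χ2, χ3} := by
    rw [← hTeq, Finset.insert_erase htXf]
  have hm : ∀ χ ∈ ({χ2, χ3} : Finset (IrrCharacter G)), χ ∈ c.X ∧ χ ≠ trivIrr G := by
    intro χ h
    rw [← hTeq, Finset.mem_erase, c.mem_Xf] at h
    exact ⟨h.2, h.1⟩
  obtain ⟨hX2, hne2⟩ := hm χ2 (by simp)
  obtain ⟨hX3, hne3⟩ := hm χ3 (by simp)
  have hYne : c.Yf.Nonempty := by
    rw [← Finset.card_pos]
    have := c.card_Yf
    omega
  obtain ⟨θ0, hθ0f⟩ := hYne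
  have hθ0 := c.mem_Yf.1 hθ0f
  have hθne : θ0 ≠ trivIrr G := fun h => c.ne_of_mem htX hθ0 h.symm
  have hnot : trivIrr G ∉ ({χ2, χ3} : Finset (IrrCharacter G)) := by
    intro h
    exact (hm _ h).2 rfl
  have heq1 := c.sum_reg hθ0 c.one_reg
  rw [hXfeq, Finset.sum_insert hnot, Finset.sum_pair h23, hεt, trivIrr_apply, apply_one θ0,
    apply_one χ2, apply_one χ3] at heq1
  have heqZ : c.ε * (charDegree θ0.1 : ℤ) =
      1 + (c.εX χ2 * (charDegree χ2.1 : ℤ) + c.εX χ3 * (charDegree χ3.1 : ℤ)) := by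
    have : ((c.ε * (charDegree θ0.1 : ℤ) : ℤ) : ℂ) =
        ((1 + (c.εX χ2 * (charDegree χ2.1 : ℤ) + c.εX χ3 * (charDegree χ3.1 : ℤ)) : ℤ) : ℂ) := by
      push_cast
      push_cast at heq1
      linear_combination heq1
    exact_mod_cast this
  exact arith_e3 (sdeg7 hG hcard c hC hX2 hne2) (sdeg7 hG hcard c hC hX3 hne3)
    (hcard ▸ charDegree_dvd θ0) (c.two_mul_le_deg hG hC (Or.inr hθ0) hθne) c.hε heqZ

/-- **The inertial index 6 is impossible when the centralizer is not a 7-group.** -/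
theorem e6_false (hG : ¬ IsMulCommutative G) (hcard : Nat.card G = 5040) (c : D1 G 7 6)
    (hC : ¬ IsPGroup 7 (Subgroup.centralizer ((c.P : Subgroup G) : Set G))) : False := by
  classical
  have : Fintype (IrrCharacter G) := Fintype.ofFinite _
  have hdvd : ∀ ψ : IrrCharacter G, charDegree ψ.1 ∣ 5040 := fun ψ => hcard ▸ charDegree_dvd ψ
  have hsq : ∀ ψ : IrrCharacter G, (charDegree ψ.1) ^ 2 ≤ 5040 := fun ψ => hcard ▸ sq_le_card ψ
  have hge : ∀ ψ : IrrCharacter G, ψ ∈ c.X ∪ c.Y → ψ ≠ trivIrr G → 14 ≤ charDegree ψ.1 :=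
    fun ψ h1 h2 => c.two_mul_le_deg hG hC h1 h2
  have htriv := c.triv_mem
  have hYcard : c.Yf.card = 1 := by have := c.card_Yf; omega
  obtain ⟨θ0, hYeq⟩ := Finset.card_eq_one.1 hYcard
  have hθ0 : θ0 ∈ c.Y := c.mem_Yf.1 (by rw [hYeq]; exact Finset.mem_singleton_self _)
  have hdeg : ∀ χ ∈ c.Bf θ0, (charDegree χ.1 : ℤ) ≡ c.δ θ0 χ [ZMOD 7] := by
    intro χ hχ
    rcases (c.mem_Bf θ0).1 hχ with h | h
    · rw [h, c.δ_self]
      have h1 := c.hYdeg θ0 hθ0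
      unfold Int.ModEq at h1 ⊢
      push_cast at h1
      omega
    · rw [c.δ_of_mem_X θ0 hθ0 h]
      exact c.hXdeg χ h
  have hBsub : ∀ χ ∈ c.Bf θ0, χ ∈ c.X ∪ c.Y := by
    intro χ hχ
    rcases (c.mem_Bf θ0).1 hχ with h | h
    · right; rw [h]; exact hθ0
    · left; exact h
  have htrivB : trivIrr G ∈ c.Bf θ0 := by
    rw [c.mem_Bf]
    rcases htriv with h | h
    · exact Or.inr h
    · left
      have : trivIrr G ∈ c.Yf := c.mem_Yf.2 h
      rw [hYeq, Finset.mem_singleton] at this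
      exact this
  have hδtriv : c.δ θ0 (trivIrr G) = 1 := by
    have h2 := hdeg _ htrivB
    rw [charDegree_trivIrr] at h2
    unfold Int.ModEq at h2
    rcases c.δ_cases θ0 htrivB with h1 | h1
    · exact h1
    · rw [h1] at h2; norm_num at h2
  have hTcard : ((c.Bf θ0).erase (trivIrr G)).card = 6 := by
    rw [Finset.card_erase_of_mem htrivB, c.card_Bf θ0 hθ0]
  have hTmem : ∀ χ ∈ (c.Bf θ0).erase (trivIrr G), χ ∈ c.Bf θ0 ∧ χ ≠ trivIrr G := by
    intro χ h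
    rw [Finset.mem_erase] at h
    exact ⟨h.2, h.1⟩
  have hcase : ∀ χ ∈ (c.Bf θ0).erase (trivIrr G),
      c.δ θ0 χ * (charDegree χ.1 : ℤ) = 15 ∨ c.δ θ0 χ * (charDegree χ.1 : ℤ) = 36 ∨
      c.δ θ0 χ * (charDegree χ.1 : ℤ) = -20 ∨ c.δ θ0 χ * (charDegree χ.1 : ℤ) = -48 := by
    intro χ hχ
    obtain ⟨hB', hne⟩ := hTmem χ hχ
    exact deg_cases5040_7 _ _ (c.δ_cases θ0 hB') (hdvd χ) (hsq χ) (hge χ (hBsub χ hB') hne)
      (hdeg χ hB')
  obtain ⟨a, b, c', d, habcd, hsum, hsumsq⟩ := count4sq 15 36 (-20) (-48) _ _ hcase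
  rw [hTcard] at habcd
  -- the sum of the signed degrees
  have hs1 : ∑ χ ∈ (c.Bf θ0).erase (trivIrr G), c.δ θ0 χ * (charDegree χ.1 : ℤ) = -1 := by
    have h := c.sum_Bf_reg θ0 hθ0 c.one_reg
    rw [← Finset.add_sum_erase _ _ htrivB, hδtriv] at h
    simp only [apply_one] at h
    rw [charDegree_trivIrr] at h
    have h' : (1 : ℤ) + ∑ χ ∈ (c.Bf θ0).erase (trivIrr G), c.δ θ0 χ * (charDegree χ.1 : ℤ) = 0 := by
      have : (((1 : ℤ) + ∑ χ ∈ (c.Bf θ0).erase (trivIrr G), c.δ θ0 χ * (charDegree χ.1 : ℤ) : ℤ) : ℂ)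
          = 0 := by
        push_cast
        push_cast at h
        linear_combination h
      exact_mod_cast this
    omega
  -- the sum of the squares
  have hs2 : ∑ χ ∈ (c.Bf θ0).erase (trivIrr G), (c.δ θ0 χ * (charDegree χ.1 : ℤ)) ^ 2 ≤ 5039 := by
    have h1 := sum_sq_le (c.Bf θ0)
    rw [hcard, ← Finset.add_sum_erase _ _ htrivB, charDegree_trivIrr] at h1
    have h2 : ∑ χ ∈ (c.Bf θ0).erase (trivIrr G), (c.δ θ0 χ * (charDegree χ.1 : ℤ)) ^ 2 =
        ((∑ χ ∈ (c.Bf θ0).erase (trivIrr G), (charDegree χ.1) ^ 2 : ℕ) : ℤ) := by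
      push_cast
      refine Finset.sum_congr rfl fun χ hχ => ?_
      rcases c.δ_cases θ0 (hTmem χ hχ).1 with h | h <;> rw [h] <;> ring
    rw [h2]
    have : (∑ χ ∈ (c.Bf θ0).erase (trivIrr G), (charDegree χ.1) ^ 2 : ℕ) ≤ 5039 := by omega
    exact_mod_cast this
  rw [hsum] at hs1
  rw [hsumsq] at hs2
  exact arith_e6 a b c' d habcd hs1 hs2

/-- **The inertial index 2**: the principal block consists of the trivial character, a character of
degree 15 and three characters of degree 16. -/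
theorem e2_pattern (hG : ¬ IsMulCommutative G) (hcard : Nat.card G = 5040) (c : D1 G 7 2)
    [Fintype (IrrCharacter G)]
    (hC : ¬ IsPGroup 7 (Subgroup.centralizer ((c.P : Subgroup G) : Set G))) :
    ∃ χ : IrrCharacter G, χ ∈ c.X ∧ χ ≠ trivIrr G ∧ χ ∉ c.Y ∧ charDegree χ.1 = 15 ∧
      c.εX χ = 1 ∧ c.Yf.card = 3 ∧ trivIrr G ∉ c.Y ∧
      ∀ θ ∈ c.Y, ∀ g : G, ¬ 7 ∣ orderOf g → θ.1 g = 1 + χ.1 g := by
  classical
  have htX := triv_mem_X7 c (Or.inl rfl)
  have hεt := εX_triv7 c htX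
  have hcardX : c.Xf.card = 2 := c.card_Xf
  have htXf : trivIrr G ∈ c.Xf := c.mem_Xf.2 htX
  have hT : (c.Xf.erase (trivIrr G)).card = 1 := by
    rw [Finset.card_erase_of_mem htXf, hcardX]
  obtain ⟨χ, hTeq⟩ := Finset.card_eq_one.1 hT
  have hXfeq : c.Xf = {trivIrr G, χ} := by
    rw [← hTeq, Finset.insert_erase htXf]
  have hm : χ ∈ c.X ∧ χ ≠ trivIrr G := by
    have h : χ ∈ c.Xf.erase (trivIrr G) := by rw [hTeq]; exact Finset.mem_singleton_self _
    rw [Finset.mem_erase, c.mem_Xf] at h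
    exact ⟨h.2, h.1⟩
  obtain ⟨hχX, hχne⟩ := hm
  have hYc : c.Yf.card = 3 := by have := c.card_Yf; omega
  have hYne : c.Yf.Nonempty := by rw [← Finset.card_pos]; omega
  obtain ⟨θ0, hθ0f⟩ := hYne
  have hθ0 := c.mem_Yf.1 hθ0f
  have hsumreg : ∀ θ ∈ c.Y, ∀ g : G, ¬ 7 ∣ orderOf g →
      (c.ε : ℂ) * θ.1 g = 1 + (c.εX χ : ℂ) * χ.1 g := by
    intro θ hθ g hg
    have h := c.sum_reg hθ hg
    rw [hXfeq, Finset.sum_pair (Ne.symm hχne), hεt, trivIrr_apply] at h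
    rw [h]
    push_cast
    ring
  have heq1 := hsumreg θ0 hθ0 1 c.one_reg
  rw [apply_one θ0, apply_one χ] at heq1
  have heqZ : c.ε * (charDegree θ0.1 : ℤ) = 1 + c.εX χ * (charDegree χ.1 : ℤ) := by
    have : ((c.ε * (charDegree θ0.1 : ℤ) : ℤ) : ℂ) =
        ((1 + c.εX χ * (charDegree χ.1 : ℤ) : ℤ) : ℂ) := by
      push_cast
      push_cast at heq1
      linear_combination heq1
    exact_mod_cast this
  obtain ⟨hs15, hε1, -⟩ := arith_e2 (sdeg7 hG hcard c hC hχX hχne) (hcard ▸ charDegree_dvd θ0)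
    c.hε heqZ
  obtain ⟨hεχ, hd⟩ := (sign_deg (c.hεX χ hχX) (charDegree_pos χ) hs15).1 (by norm_num)
  refine ⟨χ, hχX, hχne, fun h => c.ne_of_mem hχX h rfl, by exact_mod_cast hd, hεχ, hYc,
    fun h => c.ne_of_mem htX h rfl, ?_⟩
  intro θ hθ g hg
  have h := hsumreg θ hθ g hg
  rw [hε1, hεχ] at h
  push_cast at h
  linear_combination h

end Cfsg.Agent.Lib.Helper6.OrdK
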