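import Mathlib
import Cfsg.Agent.Lib.Helper6.OrdK3
import Cfsg.Agent.Lib.Helper6.OrdK5
import Cfsg.Agent.Lib.Helper6.OrdG1
import Cfsg.Agent.Lib.Helper6.OrdG2
import Cfsg.Agent.Lib.Helper6.OrdG4
import Cfsg.Agent.Lib.Helper1.CharFound5
import Cfsg.Agent.Lib.Helper9.SmallOrd16
import Cfsg.Agent.Lib.Helper3.SylowCount

/-!
# Simple groups of order 5040: the Sylow 7-subgroups with inertial index 2
-/

set_option autoImplicit false
set_option maxHeartbeats 1600000
set_option linter.unusedSectionVars false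

namespace Cfsg.Agent.Lib.Helper6.OrdK

open Cfsg Cfsg.Agent.Lib.Helper8 Cfsg.Agent.Lib.Helper6.OrdB Cfsg.Agent.Lib.Helper6.OrdD
  Cfsg.Agent.Lib.Helper6.OrdG Cfsg.Agent.Lib.Helper1 Cfsg.Agent.Lib.Helper9.SmallOrd
  Cfsg.Agent.Lib.Helper3
open scoped ComplexConjugate

universe u

variable {G : Type u} [Group G] [Fintype G]

/-- the values of a character on the powers of `x y` -/
theorem apply_pow_mul {p : ℕ} {P' : Subgroup G} {x y : G} (hx : orderOf x = p) (hxP : x ∈ P')
    (hy : y ∈ Subgroup.centralizer (P' : Set G)) (hrp : ¬ p ∣ orderOf y)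
    {χ : IrrCharacter G} {c : ℂ}
    (hval : ∀ x' : G, x' ∈ P' → x' ≠ 1 → ∀ y : G, y ∈ Subgroup.centralizer (P' : Set G) →
      ¬ p ∣ orderOf y → χ.1 (x' * y) = c) (i : ℕ) (hi : ¬ p ∣ i) :
    χ.1 ((x * y) ^ i) = c := by
  have hcomm : Commute x y := Subgroup.mem_centralizer_iff.1 hy x hxP
  rw [hcomm.mul_pow]
  apply hval _ (pow_mem hxP i) _ _ (pow_mem hy i)
  · intro h
    exact hrp (dvd_trans h (orderOf_pow_dvd i))
  · intro h1
    apply hi
    rw [← hx]
    exact orderOf_dvd_of_pow_eq_one h1

/-- a lower bound for the order of a centralizer from the second orthogonality relation -/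
theorem card_centralizer_ge [Fintype (IrrCharacter G)] (y : G) (S : Finset (IrrCharacter G)) :
    ∑ χ ∈ S, Complex.normSq (χ.1 y) ≤ (Nat.card (Subgroup.centralizer ({y} : Set G)) : ℝ) := by
  classical
  have hcol := column_orthogonality y y
  have hci : classIndicator y y = 1 := by
    unfold classIndicator
    rw [if_pos (IsConj.refl y)]
  rw [hci, mul_one] at hcol
  have hreal : ∑ χ : IrrCharacter G, Complex.normSq (χ.1 y) =
      (Nat.card (Subgroup.centralizer ({y} : Set G)) : ℝ) := by
    have h3 : ((∑ χ : IrrCharacter G, Complex.normSq (χ.1 y) : ℝ) : ℂ) =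
        ((Nat.card (Subgroup.centralizer ({y} : Set G)) : ℝ) : ℂ) := by
      push_cast
      rw [← hcol]
      refine Finset.sum_congr rfl fun χ _ => ?_
      rw [Complex.mul_conj]
    exact_mod_cast h3
  rw [← hreal]
  exact Finset.sum_le_univ_sum_of_nonneg (fun χ => Complex.normSq_nonneg _)


variable [IsSimpleGroup G] [Fact (Nat.Prime 7)]

/-- **Inertial index 2 and a centralizer of order divisible by 5: impossible.** -/
theorem c70_false (hG : ¬ IsMulCommutative G) (hcard : Nat.card G = 5040) (c : D1 G 7 2)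
    (h5 : 5 ∣ Nat.card (Subgroup.centralizer ((c.P : Subgroup G) : Set G))) : False := by
  classical
  have : Fintype (IrrCharacter G) := Fintype.ofFinite _
  have h5p : Fact (Nat.Prime 5) := ⟨by norm_num⟩
  obtain ⟨y, hy⟩ := exists_prime_orderOf_dvd_card' 5 h5
  have hyC : (y : G) ∈ Subgroup.centralizer ((c.P : Subgroup G) : Set G) := y.2
  have hy5 : orderOf (y : G) = 5 := by rw [Subgroup.orderOf_coe]; exact hy
  have hC : ¬ IsPGroup 7 (Subgroup.centralizer ((c.P : Subgroup G) : Set G)) := by
    intro h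
    obtain ⟨j, hj⟩ := h y
    have h1 : orderOf y ∣ 7 ^ j := orderOf_dvd_of_pow_eq_one hj
    rw [hy] at h1
    have := (Nat.Prime.dvd_of_dvd_pow (by norm_num : Nat.Prime 5) h1)
    norm_num at this
  obtain ⟨χ, hχX, hχne, -, hd15, hεχ, -, -, -⟩ := e2_pattern hG hcard c hC
  have hval := c.hval χ hχX c.x c.x_mem c.x_ne_one (y : G) hyC (by rw [hy5]; norm_num)
  have hcomm : Commute c.x (y : G) := Subgroup.mem_centralizer_iff.1 hyC c.x c.x_mem
  have hord : orderOf (c.x * (y : G)) = 7 * 5 := by
    rw [hcomm.orderOf_mul_eq_mul_orderOf_of_coprime (by rw [c.hx, hy5]; norm_num), c.hx, hy5]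
  have h0 := defect_zero_vanish χ 5 (by norm_num) (by rw [hcard]; norm_num)
    (by rw [hcard]; norm_num) (by rw [hd15]; norm_num) (c.x * (y : G)) (by rw [hord]; norm_num)
  rw [hval, hεχ] at h0
  norm_num at h0

/-- **Inertial index 2 and a centralizer of order 168: impossible.** -/
theorem c168_false (hG : ¬ IsMulCommutative G) (hcard : Nat.card G = 5040) (c : D1 G 7 2)
    (hc168 : Nat.card (Subgroup.centralizer ((c.P : Subgroup G) : Set G)) = 168) : False := by
  classical
  have : Fintype (IrrCharacter G) := Fintype.ofFinite _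
  have h2 : Fact (Nat.Prime 2) := ⟨by norm_num⟩
  have hperf : commutator G = ⊤ := commutator_eq_top hG
  have hC : ¬ IsPGroup 7 (Subgroup.centralizer ((c.P : Subgroup G) : Set G)) := by
    intro h
    obtain ⟨j, hj⟩ := IsPGroup.iff_card.1 h
    rw [hc168] at hj
    have hj2 : j ≤ 2 := by
      by_contra hcon
      push Not at hcon
      have : 7 ^ 3 ≤ 7 ^ j := Nat.pow_le_pow_right (by norm_num) hcon
      omega
    interval_cases j <;> omega
  obtain ⟨χ, hχX, hχne, hχY, hd15, hεχ, hYc, htY, hθ⟩ := e2_pattern hG hcard c hC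
  -- a subgroup of order 8 of the centralizer
  obtain ⟨S, hScard, hSC⟩ : ∃ S : Subgroup G, Nat.card S = 2 ^ 3 ∧
      S ≤ Subgroup.centralizer ((c.P : Subgroup G) : Set G) := by
    obtain ⟨K, hK⟩ := Sylow.exists_subgroup_card_pow_prime 2 (n := 3)
      (G := Subgroup.centralizer ((c.P : Subgroup G) : Set G)) (by rw [hc168]; norm_num)
    refine ⟨K.map (Subgroup.centralizer ((c.P : Subgroup G) : Set G)).subtype, ?_,
      Subgroup.map_subtype_le K⟩
    rw [Subgroup.card_map_of_injective (Subgroup.subtype_injective _), hK]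
  have hSp : IsPGroup 2 S := IsPGroup.of_card hScard
  obtain ⟨y, hyS, hy2, hyc⟩ := exists_orderOf_eq_centralized S S hSp Subgroup.le_normalizer
    (by rw [hScard]; norm_num)
  have hyC := hSC hyS
  have hcomm : Commute c.x y := Subgroup.mem_centralizer_iff.1 hyC c.x c.x_mem
  have hy7 : ¬ 7 ∣ orderOf y := by rw [hy2]; norm_num
  have hpow : ∀ i, ¬ 7 ∣ i → χ.1 ((c.x * y) ^ i) = 1 := by
    intro i hi
    rw [apply_pow_mul c.hx c.x_mem hyC hy7 (c.hval χ hχX) i hi, hεχ]
    norm_num
  obtain ⟨n, f, hf, hsum, htop, hfn⟩ := fix_dim χ c.hx hy2 (by norm_num) (by norm_num)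
    (by norm_num) hcomm 1 hpow
  have hyy : y * y = 1 := by rw [← pow_two, ← hy2, pow_orderOf_eq_one]
  have hy7' : y ^ 7 = y := by
    rw [show 7 = 2 * 3 + 1 from rfl, pow_succ, pow_mul, pow_two, hyy, one_pow, one_mul]
  rw [hy7'] at hsum htop
  rw [Finset.sum_range_succ, Finset.sum_range_one, pow_zero, pow_one, apply_one, hd15] at hsum
  obtain ⟨b, hb, hχy, hbe⟩ := involution_apply hperf χ hyy
  rw [hd15] at hf hb hχy htop
  have hfn' : f + 6 = 7 * n := by
    have : ((f + 6 : ℕ) : ℂ) = ((7 * n : ℕ) : ℂ) := by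
      push_cast
      push_cast at hfn
      linear_combination hfn
    exact_mod_cast this
  have hfb : f + b = 15 := by
    have : ((f + b : ℕ) : ℂ) = ((15 : ℕ) : ℂ) := by
      rw [hχy] at hsum
      push_cast
      push_cast at hsum
      linear_combination (-1 / 2 : ℂ) * hsum
    exact_mod_cast this
  have hf1 : f = 1 := by
    have h3 : f = 1 ∨ f = 8 ∨ f = 15 := by omega
    rcases h3 with h | h | h
    · exact h
    · exfalso
      have hb7 : b = 7 := by omega
      rw [hb7] at hbe
      exact absurd hbe (by decide)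
    · exfalso
      have h1 := htop h
      have hy1 := D1.faithful_of_ne_triv χ hχne y h1
      rw [hy1, orderOf_one] at hy2
      norm_num at hy2
  have hb14 : b = 14 := by omega
  have hχy' : χ.1 y = ((-13 : ℝ) : ℂ) := by rw [hχy, hb14]; push_cast; norm_num
  have hθy : ∀ θ ∈ c.Yf, Complex.normSq (θ.1 y) = 144 := by
    intro θ hθf
    rw [hθ θ (c.mem_Yf.1 hθf) y hy7, hχy',
      show (1 : ℂ) + ((-13 : ℝ) : ℂ) = ((-12 : ℝ) : ℂ) by push_cast; norm_num,
      Complex.normSq_ofReal]
    norm_num
  -- the second orthogonality relation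
  have hcol := card_centralizer_ge y (insert (trivIrr G) (insert χ c.Yf))
  have hn1 : χ ∉ c.Yf := fun h => hχY (c.mem_Yf.1 h)
  have hn2 : trivIrr G ∉ insert χ c.Yf := by
    intro h
    rw [Finset.mem_insert] at h
    rcases h with h | h
    · exact hχne h.symm
    · exact htY (c.mem_Yf.1 h)
  rw [Finset.sum_insert hn2, Finset.sum_insert hn1, Finset.sum_congr rfl hθy, Finset.sum_const,
    hYc, trivIrr_apply, hχy', Complex.normSq_ofReal, map_one] at hcol
  have hbig : 602 ≤ Nat.card (Subgroup.centralizer ({y} : Set G)) := by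
    have h5 : (602 : ℝ) ≤ (Nat.card (Subgroup.centralizer ({y} : Set G)) : ℝ) := by
      refine le_trans (le_of_eq ?_) hcol
      norm_num
    exact_mod_cast h5
  -- the order of the centralizer of `y` is divisible by 56
  have hPD : (c.P : Subgroup G) ≤ Subgroup.centralizer ({y} : Set G) := by
    intro z hz
    rw [Subgroup.mem_centralizer_iff]
    intro h hh
    rw [Set.mem_singleton_iff] at hh
    rw [hh]
    exact (Subgroup.mem_centralizer_iff.1 hyC z hz).symm
  have hSD : S ≤ Subgroup.centralizer ({y} : Set G) := by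
    intro s hs
    rw [Subgroup.mem_centralizer_iff]
    intro h hh
    rw [Set.mem_singleton_iff] at hh
    rw [hh]
    exact (hyc s hs).symm
  have h56 : 56 ∣ Nat.card (Subgroup.centralizer ({y} : Set G)) := by
    have h7 : 7 ∣ Nat.card (Subgroup.centralizer ({y} : Set G)) := by
      have h := Subgroup.card_dvd_of_le hPD
      rwa [c.card_P] at h
    have h8 : 8 ∣ Nat.card (Subgroup.centralizer ({y} : Set G)) := by
      have h := Subgroup.card_dvd_of_le hSD
      rw [hScard] at h
      exact h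
    exact Nat.Coprime.mul_dvd_of_dvd_of_dvd (by norm_num : Nat.Coprime 7 8) h7 h8
  have hidx := (Subgroup.centralizer ({y} : Set G)).index_mul_card
  rw [hcard] at hidx
  have hDtop : Subgroup.centralizer ({y} : Set G) ≠ ⊤ := by
    intro hDtop
    have hyZ : y ∈ Subgroup.center G := by
      rw [Subgroup.mem_center_iff]
      intro g
      have hg : g ∈ Subgroup.centralizer ({y} : Set G) := by rw [hDtop]; trivial
      exact (Subgroup.mem_centralizer_iff.1 hg y rfl).symm
    rw [center_eq_bot hG, Subgroup.mem_bot] at hyZ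
    rw [hyZ, orderOf_one] at hy2
    norm_num at hy2
  have hfac := two_mul_card_dvd_factorial hG _ hDtop
  rw [hcard] at hfac
  exact arith168 _ _ hidx hbig h56 (fun h => hDtop (Subgroup.index_eq_one.1 h)) hfac

end Cfsg.Agent.Lib.Helper6.OrdK
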