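import Mathlib
import Cfsg.Agent.Lib.Helper6.OrdK6
import Cfsg.Agent.Lib.Helper6.OrdH3

/-!
# No simple group of order 5040
-/

set_option autoImplicit false
set_option maxHeartbeats 1600000
set_option linter.unusedSectionVars false

namespace Cfsg.Agent.Lib.Helper6.OrdK

open Cfsg Cfsg.Agent.Lib.Helper8 Cfsg.Agent.Lib.Helper6.OrdB Cfsg.Agent.Lib.Helper6.OrdD
  Cfsg.Agent.Lib.Helper6.OrdG Cfsg.Agent.Lib.Helper6.OrdH Cfsg.Agent.Lib.Helper1
  Cfsg.Agent.Lib.Helper9.SmallOrd Cfsg.Agent.Lib.Helper3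
open scoped ComplexConjugate

universe u

variable {G : Type u} [Group G] [Fintype G] [IsSimpleGroup G] [Fact (Nat.Prime 7)]

/-- **A centralizer of order 21 of a Sylow 7-subgroup is impossible.** -/
theorem c21_false (hG : ¬ IsMulCommutative G) (hcard : Nat.card G = 5040) (P : Sylow 7 G)
    (hP : Nat.card P = 7)
    (hc21 : Nat.card (Subgroup.centralizer ((P : Subgroup G) : Set G)) = 21)
    (hN : Nat.card (Subgroup.normalizer ((P : Subgroup G) : Set G)) = 42) : False := by
  classical
  have h3 : Fact (Nat.Prime 3) := ⟨by norm_num⟩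
  have h5 : Fact (Nat.Prime 5) := ⟨by norm_num⟩
  obtain ⟨w', hw'⟩ := exists_prime_orderOf_dvd_card' 3
    (by rw [hc21]; norm_num : 3 ∣ Nat.card (Subgroup.centralizer ((P : Subgroup G) : Set G)))
  obtain ⟨w, hwC, hw3⟩ : ∃ w : G, w ∈ Subgroup.centralizer ((P : Subgroup G) : Set G) ∧
      orderOf w = 3 := ⟨(w' : G), w'.2, by rw [Subgroup.orderOf_coe]; exact hw'⟩
  have hPD : (P : Subgroup G) ≤ Subgroup.centralizer ({w} : Set G) := by
    intro z hz
    rw [Subgroup.mem_centralizer_iff]
    intro h hh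
    rw [Set.mem_singleton_iff] at hh
    rw [hh]
    exact (Subgroup.mem_centralizer_iff.1 hwC z hz).symm
  have hwD : w ∈ Subgroup.centralizer ({w} : Set G) := by
    rw [Subgroup.mem_centralizer_iff]
    intro h hh
    rw [Set.mem_singleton_iff] at hh
    rw [hh]
  have hcardD := card_eq_card_sylow_mul P (Subgroup.centralizer ({w} : Set G)) hPD
  have hn' : Nat.card (Sylow 7 (Subgroup.centralizer ({w} : Set G))) % 7 = 1 := by
    have h := card_sylow_modEq_one 7 (Subgroup.centralizer ({w} : Set G))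
    have h' : Nat.card (Sylow 7 (Subgroup.centralizer ({w} : Set G))) % 7 = 1 % 7 := h
    rw [h']
  have hm21 : 21 ∣ Nat.card (Subgroup.centralizer ({w} : Set G) ⊓
      Subgroup.normalizer ((P : Subgroup G) : Set G) : Subgroup G) := by
    have h7 : 7 ∣ Nat.card (Subgroup.centralizer ({w} : Set G) ⊓
        Subgroup.normalizer ((P : Subgroup G) : Set G) : Subgroup G) := by
      have h := Subgroup.card_dvd_of_le
        (le_inf hPD (Subgroup.le_normalizer : (P : Subgroup G) ≤ _))
      rwa [hP] at h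
    have h3' : 3 ∣ Nat.card (Subgroup.centralizer ({w} : Set G) ⊓
        Subgroup.normalizer ((P : Subgroup G) : Set G) : Subgroup G) := by
      have hw : w ∈ (Subgroup.centralizer ({w} : Set G) ⊓
          Subgroup.normalizer ((P : Subgroup G) : Set G) : Subgroup G) :=
        ⟨hwD, Subgroup.centralizer_le_normalizer _ hwC⟩
      have := Subgroup.orderOf_dvd_natCard _ hw
      rwa [hw3] at this
    exact Nat.Coprime.mul_dvd_of_dvd_of_dvd (by norm_num : Nat.Coprime 3 7) h3' h7
  have hm42 : Nat.card (Subgroup.centralizer ({w} : Set G) ⊓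
      Subgroup.normalizer ((P : Subgroup G) : Set G) : Subgroup G) ∣ 42 := by
    rw [← hN]
    exact Subgroup.card_dvd_of_le inf_le_right
  -- the order of the centralizer of `w` is divisible by 9
  have h9 : 9 ∣ Nat.card (Subgroup.centralizer ({w} : Set G)) := by
    have hzp : IsPGroup 3 (Subgroup.zpowers w) :=
      IsPGroup.of_card (n := 1) (by rw [Nat.card_zpowers, hw3]; norm_num)
    obtain ⟨R, hR⟩ := IsPGroup.exists_le_sylow hzp
    have hRcard : Nat.card R = 3 ^ 2 :=
      sylow_card_eq_of_card_eq R 2 560 (by rw [hcard]; norm_num) (by norm_num)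
    have hRcomm : IsMulCommutative R := IsPGroup.isMulCommutative_of_card_eq_prime_sq hRcard
    have hwR : w ∈ (R : Subgroup G) := hR (Subgroup.mem_zpowers w)
    have hRD : (R : Subgroup G) ≤ Subgroup.centralizer ({w} : Set G) := by
      intro r hr
      rw [Subgroup.mem_centralizer_iff]
      intro h hh
      rw [Set.mem_singleton_iff] at hh
      rw [hh]
      have := hRcomm.is_comm.comm (⟨w, hwR⟩ : R) ⟨r, hr⟩
      exact congrArg Subtype.val this
    have := Subgroup.card_dvd_of_le hRD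
    rwa [hRcard] at this
  -- the order of the centralizer of `w` is not divisible by 5
  have h5D : ¬ 5 ∣ Nat.card (Subgroup.centralizer ({w} : Set G)) := by
    intro h
    obtain ⟨z', hz'⟩ := exists_prime_orderOf_dvd_card' 5 h
    obtain ⟨z, hzD, hz5⟩ : ∃ z : G, z ∈ Subgroup.centralizer ({w} : Set G) ∧ orderOf z = 5 :=
      ⟨(z' : G), z'.2, by rw [Subgroup.orderOf_coe]; exact hz'⟩
    have hzp : IsPGroup 5 (Subgroup.zpowers z) :=
      IsPGroup.of_card (n := 1) (by rw [Nat.card_zpowers, hz5]; norm_num)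
    obtain ⟨Q, hQ⟩ := IsPGroup.exists_le_sylow hzp
    have hQcard : Nat.card Q = 5 ^ 1 :=
      sylow_card_eq_of_card_eq Q 1 1008 (by rw [hcard]; norm_num) (by norm_num)
    have hQeq : Subgroup.zpowers z = (Q : Subgroup G) :=
      Subgroup.eq_of_le_of_card_ge hQ (by rw [hQcard, Nat.card_zpowers, hz5]; norm_num)
    have hQD : (Q : Subgroup G) ≤ Subgroup.centralizer ({w} : Set G) := by
      rw [← hQeq, Subgroup.zpowers_le]
      exact hzD
    have hwCQ : w ∈ Subgroup.centralizer ((Q : Subgroup G) : Set G) := by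
      rw [Subgroup.mem_centralizer_iff]
      intro h hh
      exact (Subgroup.mem_centralizer_iff.1 (hQD hh) w rfl).symm
    have h3' : 3 ∣ Nat.card (Subgroup.centralizer ((Q : Subgroup G) : Set G)) := by
      have := Subgroup.orderOf_dvd_natCard _ hwCQ
      rwa [hw3] at this
    rcases (five_data hG hcard Q).1 with h | h <;> rw [h] at h3' <;> norm_num at h3'
  have hDdvd : Nat.card (Subgroup.centralizer ({w} : Set G)) ∣ 5040 := by
    rw [← hcard]
    exact Subgroup.card_subgroup_dvd_card _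
  rw [hcardD] at hDdvd h9 h5D
  exact arith21 _ _ hDdvd h9 h5D hn' hm21 hm42

theorem not_isPGroup7 {H : Type*} [Group H] {c' : ℕ} (hc' : Nat.card H = c')
    (h : c' = 168 ∨ c' = 112 ∨ c' = 56 ∨ c' = 70 ∨ c' = 21 ∨ c' = 14) : ¬ IsPGroup 7 H := by
  intro hp
  have : Finite H := Nat.finite_of_card_ne_zero (by rw [hc']; omega)
  obtain ⟨j, hj⟩ := IsPGroup.iff_card.1 hp
  rw [hc'] at hj
  have hj2 : j ≤ 2 := by
    by_contra hcon
    push Not at hcon
    have : 7 ^ 3 ≤ 7 ^ j := Nat.pow_le_pow_right (by norm_num) hcon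
    omega
  interval_cases j <;> omega

/-- **The Sylow 7-subgroups of a simple group of order 5040 are self-centralizing, with normalizer
of order 42.** -/
theorem seven_data (hG : ¬ IsMulCommutative G) (hcard : Nat.card G = 5040) (P : Sylow 7 G) :
    Nat.card P = 7 ∧ Nat.card (Subgroup.normalizer ((P : Subgroup G) : Set G)) = 7 * 6 ∧
      (Subgroup.centralizer ((P : Subgroup G) : Set G)).relIndex
        (Subgroup.normalizer ((P : Subgroup G) : Set G)) = 6 ∧
      Nat.card (Subgroup.centralizer ((P : Subgroup G) : Set G)) = 7 := by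
  have hcard' : Nat.card G = 7 * 720 := by rw [hcard]
  obtain ⟨hPcard, n, k, e, c', hn, hnk, hmod, hn1, hfact, hN, he, hediv, he1, hc', hce, h8⟩ :=
    sylow_prime_data hG 720 (by norm_num) hcard' (by norm_num) P
  have harith := arith7 n k e c' hnk hmod hn1 hediv he1 hce h8
  have he6 : e ∣ 7 - 1 := dvd_trans hediv (Nat.gcd_dvd_right k 6)
  obtain ⟨c, hcP⟩ := exists_D1 7 P hPcard e he he6
  have hC : (c' = 168 ∨ c' = 112 ∨ c' = 56 ∨ c' = 70 ∨ c' = 21 ∨ c' = 14) →
      ¬ IsPGroup 7 (Subgroup.centralizer ((c.P : Subgroup G) : Set G)) := by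
    intro h
    rw [hcP]
    exact not_isPGroup7 hc' h
  rw [← hcP] at hc'
  rcases harith with ⟨rfl, rfl, ⟨rfl, rfl⟩ | ⟨rfl, rfl⟩ | ⟨rfl, rfl⟩⟩ | ⟨rfl, rfl, rfl, rfl⟩ |
    ⟨rfl, rfl, ⟨rfl, rfl⟩ | ⟨rfl, rfl⟩ | ⟨rfl, rfl⟩⟩
  · exact (c168_false hG hcard c hc').elim
  · exact (e3_false hG hcard c (hC (by omega))).elim
  · exact (e6_false hG hcard c (hC (by omega))).elim
  · exact (c70_false hG hcard c (by rw [hc']; norm_num)).elim
  · rw [hcP] at hc'
    exact (c21_false hG hcard P hPcard hc' hN).elim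
  · exact (e3_false hG hcard c (hC (by omega))).elim
  · rw [hcP] at hc'
    exact ⟨hPcard, hN, he, hc'⟩

end Cfsg.Agent.Lib.Helper6.OrdK
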