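import Mathlib
import Cfsg.Agent.Lib.Helper6.OrdK7
import Cfsg.Agent.Lib.Helper6.OrdH2

/-!
# No simple group of order 5040: the final contradiction
-/

set_option autoImplicit false
set_option maxHeartbeats 1600000

namespace Cfsg.Agent.Lib.Helper6.OrdK

open Cfsg Cfsg.Agent.Lib.Helper8 Cfsg.Agent.Lib.Helper6.OrdB Cfsg.Agent.Lib.Helper6.OrdD
  Cfsg.Agent.Lib.Helper6.OrdG Cfsg.Agent.Lib.Helper6.OrdH Cfsg.Agent.Lib.Helper1
open scoped ComplexConjugate

universe u

theorem ne_5040 {G : Type u} [Group G] [Finite G] [IsSimpleGroup G] (hG : ¬ IsMulCommutative G) :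
    Nat.card G ≠ 5040 := by
  intro hcard
  classical
  have : Fintype G := Fintype.ofFinite G
  have : Fintype (IrrCharacter G) := Fintype.ofFinite _
  have h7 : Fact (Nat.Prime 7) := ⟨by norm_num⟩
  have h5 : Fact (Nat.Prime 5) := ⟨by norm_num⟩
  obtain ⟨P⟩ : Nonempty (Sylow 7 G) := inferInstance
  obtain ⟨hPcard, hN, he, hC⟩ := seven_data hG hcard P
  have hS : ∀ Q : Sylow 7 G, Nat.card Q = 7 ∧
      Subgroup.centralizer ((Q : Subgroup G) : Set G) = (Q : Subgroup G) := by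
    intro Q
    obtain ⟨hQcard, -, -, hCQ⟩ := seven_data hG hcard Q
    refine ⟨hQcard, ?_⟩
    obtain ⟨x', -, hQx, -⟩ := d1_sylow_data 7 Q hQcard
    have hQle : (Q : Subgroup G) ≤ Subgroup.centralizer ((Q : Subgroup G) : Set G) := by
      intro a ha
      rw [Subgroup.mem_centralizer_iff]
      intro b hb
      rw [SetLike.mem_coe] at hb
      rw [hQx] at ha hb
      obtain ⟨i, rfl⟩ := Subgroup.mem_zpowers_iff.1 ha
      obtain ⟨j, rfl⟩ := Subgroup.mem_zpowers_iff.1 hb
      exact ((Commute.refl x').zpow_zpow j i)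
    exact (Subgroup.eq_of_le_of_card_ge hQle (by rw [hCQ, hQcard])).symm
  obtain ⟨x, hx, hPx, hsq⟩ := d1_sylow_data 7 P hPcard
  obtain ⟨M, hM⟩ := exists_isPModular 7
  obtain ⟨c, hcP, hcx, htriv, hXdeg, hYdeg⟩ := exists_TI 7 M hM P x hx hPx hsq 6 he hS hN
    (by norm_num)
  obtain ⟨Q5⟩ : Nonempty (Sylow 5 G) := inferInstance
  obtain ⟨-, χ, hχ16⟩ := five_data hG hcard Q5
  have hχX : χ ∉ c.X := by
    intro h
    have h1 := hXdeg χ h
    rw [hχ16] at h1
    unfold Int.ModEq at h1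
    rcases c.hεX χ h with h2 | h2 <;> rw [h2] at h1 <;> norm_num at h1
  have hχY : χ ∉ c.Y := by
    intro h
    have h1 := hYdeg χ h
    rw [hχ16] at h1
    unfold Int.ModEq at h1
    rcases c.hε with h2 | h2 <;> rw [h2] at h1 <;> norm_num at h1
  obtain ⟨n, -, hsum, -⟩ := sum_pow χ x
  rw [hx] at hsum
  have hxP : x ∈ (c.P : Subgroup G) := by rw [hcP, hPx]; exact Subgroup.mem_zpowers x
  have hvan : ∀ i ∈ Finset.range 6, χ.1 (x ^ (i + 1)) = 0 := by
    intro i hi
    rw [Finset.mem_range] at hi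
    apply c.vanish_off_block hχX hχY
    rw [c.mem_S]
    refine ⟨pow_mem hxP _, ?_⟩
    intro h1
    have := orderOf_dvd_of_pow_eq_one h1
    rw [hx] at this
    have := Nat.le_of_dvd (by omega) this
    omega
  rw [Finset.sum_range_succ', Finset.sum_congr rfl hvan, Finset.sum_const_zero, zero_add, pow_zero,
    apply_one, hχ16] at hsum
  have : (16 : ℕ) = 7 * n := by exact_mod_cast hsum
  omega

end Cfsg.Agent.Lib.Helper6.OrdK
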