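import Mathlib
import Cfsg.Agent.Lib.Helper6.OrdL3

/-!
# No simple groups of order 4620 or 5460
-/

set_option autoImplicit false
set_option maxHeartbeats 1600000
set_option maxRecDepth 1000000

namespace Cfsg.Agent.Lib.Helper6.OrdL

open Cfsg

universe u

variable {G : Type u} [Group G] [Finite G] [IsSimpleGroup G]

/-- Order `4620 = 2^2·3·5·7·11`: the Sylow 11-subgroups are self-centralizing with inertial index
2, so all degrees are `0, ±1, ±2` modulo 11; then the degree equation of the principal 7-block has
no solution. -/
theorem ne_4620 (hG : ¬ IsMulCommutative G) : Nat.card G ≠ 4620 := by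
  intro hcard
  have hti := ti_degrees hG (fun _ => true) (fun _ => rfl) 11 420 79 2 (hp := ⟨by norm_num⟩)
    (by norm_num) (by norm_num) (by rw [hcard]) (by norm_num) (by norm_num) (by decide)
  exact block_kill hG (okTI 11 2) hti 7 660 79 (hp := ⟨by norm_num⟩) (by norm_num) (by norm_num)
    (by rw [hcard]) (by norm_num) (by norm_num) (by decide)

/-- Order `5460 = 2^2·3·5·7·13`: the Sylow 13-subgroups are self-centralizing with inertial index
4, so all degrees are `0, ±1, ±4` modulo 13; then the degree equation of the principal 7-block has
no solution. -/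
theorem ne_5460 (hG : ¬ IsMulCommutative G) : Nat.card G ≠ 5460 := by
  intro hcard
  have hti := ti_degrees hG (fun _ => true) (fun _ => rfl) 13 420 79 4 (hp := ⟨by norm_num⟩)
    (by norm_num) (by norm_num) (by rw [hcard]) (by norm_num) (by norm_num) (by decide)
  exact block_kill hG (okTI 13 4) hti 7 780 79 (hp := ⟨by norm_num⟩) (by norm_num) (by norm_num)
    (by rw [hcard]) (by norm_num) (by norm_num) (by decide)

end Cfsg.Agent.Lib.Helper6.OrdL
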