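import Mathlib
import Cfsg.Agent.Lib.Helper6.OrdL5
import Cfsg.Agent.Lib.Helper9.SmallOrd2

/-!
# No simple group of order 5400
-/

set_option autoImplicit false
set_option maxHeartbeats 1600000

namespace Cfsg.Agent.Lib.Helper6.OrdL

open Subgroup MulAction Cfsg.Agent.Lib.Helper9.SmallOrd Cfsg.Agent.Lib.Helper3

set_option maxRecDepth 100000 in
theorem filter216 : (Nat.divisors 216).filter (fun n => n % 5 = 1) = {1, 6, 36, 216} := by
  decide

theorem arithH (i n m : ℕ) (h1 : i * (n * m) = 5400) (h2 : 2 * 5400 ∣ i.factorial)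
    (h3 : n % 5 = 1) (h4 : 1 < n) (h5 : 75 ∣ m) (h6 : m ∣ 150) : n * m = 450 := by
  have hm : m = 75 ∨ m = 150 := by
    obtain ⟨j, rfl⟩ := h5
    have hle : 75 * j ≤ 150 := Nat.le_of_dvd (by norm_num) h6
    have : j ≤ 2 := by omega
    interval_cases j
    · simp at h6
    · left; rfl
    · right; rfl
  have hn72 : n ≤ 72 := by
    rcases hm with rfl | rfl
    · have h7 : 0 < i := by
        rcases Nat.eq_zero_or_pos i with h0 | h0
        · rw [h0] at h1; omega
        · exact h0
      nlinarith
    · have h7 : 0 < i := by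
        rcases Nat.eq_zero_or_pos i with h0 | h0
        · rw [h0] at h1; omega
        · exact h0
      nlinarith
  have hi : i ≤ 72 := by
    rcases hm with rfl | rfl <;> nlinarith
  rcases hm with rfl | rfl
  · have h8 : i * n = 72 := by nlinarith
    interval_cases n <;> first | omega | (
      have h9 : i ≤ 12 := by omega
      interval_cases i <;> first | omega | (exfalso; revert h2; decide))
  · exfalso
    have h8 : i * n = 36 := by nlinarith
    interval_cases n <;> first | omega | (
      have h9 : i ≤ 6 := by omega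
      interval_cases i <;> first | omega | (revert h2; decide))

theorem arithK (n m : ℕ) (h1 : n * m = 225) (h2 : 25 ∣ m) (h3 : n % 5 = 1) (h4 : 1 < n) :
    False := by
  obtain ⟨j, rfl⟩ := h2
  have h5 : n * j = 9 := by nlinarith
  have h6 : n ≤ 9 := by
    have : 0 < j := by
      rcases Nat.eq_zero_or_pos j with h0 | h0
      · rw [h0] at h5; omega
      · exact h0
    nlinarith
  interval_cases n <;> omega

variable {G : Type*} [Group G] [Finite G] [IsSimpleGroup G]

/-- the Sylow 5-subgroups of a simple group of order 5400 -/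
theorem sylow5_5400 [Fact (Nat.Prime 5)] (hG : ¬ IsMulCommutative G) (hcard : Nat.card G = 5400)
    (P : Sylow 5 G) : Nat.card P = 25 ∧ (P : Subgroup G) ≠ ⊥ ∧ Nat.card (Sylow 5 G) = 36 ∧
      Nat.card (normalizer ((P : Subgroup G) : Set G)) = 150 := by
  have hcard' : Nat.card G = 5 ^ 2 * 216 := by rw [hcard]; norm_num
  obtain ⟨hPcard, hPbot, hPtop, hdvd, hmod, hne1, hNtop, hNcard, hfact⟩ :=
    sylow_data hG 2 216 (by norm_num) (by norm_num) hcard' (by norm_num) P
  have hmem : Nat.card (Sylow 5 G) ∈ (Nat.divisors 216).filter (fun n => n % 5 = 1) := by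
    rw [Finset.mem_filter, Nat.mem_divisors]
    exact ⟨⟨hdvd, by norm_num⟩, hmod⟩
  rw [filter216] at hmem
  simp only [Finset.mem_insert, Finset.mem_singleton] at hmem
  rw [hcard] at hfact hNcard
  rcases hmem with h | h | h | h
  · exact absurd h hne1
  · exfalso
    rw [h] at hfact
    revert hfact
    decide
  · refine ⟨by rw [hPcard]; norm_num, hPbot, h, ?_⟩
    rw [h] at hNcard
    omega
  · exfalso
    have hN : Nat.card (normalizer ((P : Subgroup G) : Set G)) = 5 ^ 2 := by
      rw [h] at hNcard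
      omega
    exact transfer_kill_self P 2 le_rfl hPcard hPbot hPtop hN

/-- two Sylow 5-subgroups with a non-trivial intersection `D`: the order of `N(D) ∩ N(P)` is not
divisible by 3 -/
theorem pair_5400 [Fact (Nat.Prime 5)] (hG : ¬ IsMulCommutative G) (hcard : Nat.card G = 5400)
    (P R : Sylow 5 G) (hRP : R ≠ P) (hm : Meets P R) :
    ¬ 3 ∣ Nat.card (normalizer ((((P : Subgroup G) ⊓ (R : Subgroup G) : Subgroup G)) : Set G) ⊓
      normalizer ((P : Subgroup G) : Set G) : Subgroup G) := by
  intro h3dvd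
  classical
  obtain ⟨hPcard, hPbot, hn, hN⟩ := sylow5_5400 hG hcard P
  obtain ⟨hRcard, -, -, -⟩ := sylow5_5400 hG hcard R
  set D : Subgroup G := (P : Subgroup G) ⊓ (R : Subgroup G) with hDdef
  have hDbot : D ≠ ⊥ := (meets_iff P R).1 hm
  have hDcard : Nat.card D = 5 := by
    have h1 : Nat.card D ∣ 5 ^ 2 := by
      have := Subgroup.card_dvd_of_le (inf_le_left : D ≤ (P : Subgroup G))
      rw [hPcard] at this
      exact this
    obtain ⟨j, hj, hjeq⟩ := (Nat.dvd_prime_pow (by norm_num : Nat.Prime 5)).1 h1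
    interval_cases j
    · exfalso
      apply hDbot
      rw [pow_zero] at hjeq
      exact Subgroup.card_eq_one.1 hjeq
    · rw [hjeq]; norm_num
    · exfalso
      have hDP : D = (P : Subgroup G) :=
        Subgroup.eq_of_le_of_card_ge inf_le_left (by rw [hjeq, hPcard]; norm_num)
      have hPR : (P : Subgroup G) ≤ (R : Subgroup G) := by
        rw [← hDP]
        exact inf_le_right
      exact hRP (sylow_eq_of_le P R hPR).symm
  have hPN : (P : Subgroup G) ≤ normalizer (D : Set G) :=
    le_normalizer_of_card_mul (P : Subgroup G) P.2 D inf_le_left (by rw [hDcard, hPcard])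
  have hRN : (R : Subgroup G) ≤ normalizer (D : Set G) :=
    le_normalizer_of_card_mul (R : Subgroup G) R.2 D inf_le_right (by rw [hDcard, hRcard])
  have hDtop : D ≠ ⊤ := by
    intro h
    have : Nat.card D = Nat.card G := by rw [h, Subgroup.card_top]
    omega
  have hHtop : normalizer (D : Set G) ≠ ⊤ := fun h =>
    normal_absurd D (Subgroup.normalizer_eq_top_iff.mp h) hDbot hDtop
  have hcardH := card_eq_card_sylow_mul P (normalizer (D : Set G)) hPN
  have hn'' : Nat.card (Sylow 5 (normalizer (D : Set G))) % 5 = 1 := by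
    have h := card_sylow_modEq_one 5 (normalizer (D : Set G))
    have h' : Nat.card (Sylow 5 (normalizer (D : Set G))) % 5 = 1 % 5 := h
    rw [h']
  have hn2 : 1 < Nat.card (Sylow 5 (normalizer (D : Set G))) :=
    one_lt_card_sylow_of_two P R hRP _ hPN hRN
  have h25 : 25 ∣ Nat.card (normalizer (D : Set G) ⊓
      normalizer ((P : Subgroup G) : Set G) : Subgroup G) := by
    have h := Subgroup.card_dvd_of_le (le_inf hPN (le_normalizer : (P : Subgroup G) ≤ _))
    rwa [hPcard] at h
  have h150 : Nat.card (normalizer (D : Set G) ⊓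
      normalizer ((P : Subgroup G) : Set G) : Subgroup G) ∣ 150 := by
    rw [← hN]
    exact Subgroup.card_dvd_of_le inf_le_right
  have h75 : 75 ∣ Nat.card (normalizer (D : Set G) ⊓
      normalizer ((P : Subgroup G) : Set G) : Subgroup G) :=
    Nat.Coprime.mul_dvd_of_dvd_of_dvd (by norm_num : Nat.Coprime 3 25) h3dvd h25
  have hfac := two_mul_card_dvd_factorial hG _ hHtop
  rw [hcard] at hfac
  have hidx := (normalizer (D : Set G)).index_mul_card
  rw [hcard, hcardH] at hidx
  have h450 := arithH _ _ _ hidx hfac hn'' hn2 h75 h150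
  rw [← hcardH] at h450
  obtain ⟨K, hKH, hKcard, hKodd⟩ := exists_half (normalizer (D : Set G)) 225 (by decide)
    (by rw [h450])
  have hPK : (P : Subgroup G) ≤ K := hKodd P hPN (by rw [hPcard]; decide)
  have hRK : (R : Subgroup G) ≤ K := hKodd R hRN (by rw [hRcard]; decide)
  have hcardK := card_eq_card_sylow_mul P K hPK
  rw [hKcard] at hcardK
  have hnK : Nat.card (Sylow 5 K) % 5 = 1 := by
    have h := card_sylow_modEq_one 5 K
    have h' : Nat.card (Sylow 5 K) % 5 = 1 % 5 := h
    rw [h']
  have hnK2 : 1 < Nat.card (Sylow 5 K) := one_lt_card_sylow_of_two P R hRP _ hPK hRK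
  have h25K : 25 ∣ Nat.card (K ⊓ normalizer ((P : Subgroup G) : Set G) : Subgroup G) := by
    have h := Subgroup.card_dvd_of_le (le_inf hPK (le_normalizer : (P : Subgroup G) ≤ _))
    rwa [hPcard] at h
  exact arithK _ _ hcardK.symm h25K hnK hnK2

/-- **No simple group of order 5400.** -/
theorem ne_5400 (hG : ¬ IsMulCommutative G) : Nat.card G ≠ 5400 := by
  intro hcard
  classical
  have h5 : Fact (Nat.Prime 5) := ⟨by norm_num⟩
  have h3 : Fact (Nat.Prime 3) := ⟨by norm_num⟩
  obtain ⟨P⟩ : Nonempty (Sylow 5 G) := inferInstance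
  obtain ⟨hPcard, hPbot, hn, hN⟩ := sylow5_5400 hG hcard P
  obtain ⟨y', hy'⟩ := exists_prime_orderOf_dvd_card' 3
    (by rw [hN]; norm_num : 3 ∣ Nat.card (normalizer ((P : Subgroup G) : Set G)))
  obtain ⟨y, hyN, hy3⟩ : ∃ y : G, y ∈ normalizer ((P : Subgroup G) : Set G) ∧ orderOf y = 3 :=
    ⟨(y' : G), y'.2, by rw [Subgroup.orderOf_coe]; exact hy'⟩
  have hA := card_meets_dvd (q := 3) P y hyN hy3 (fun R hRP hm hyR => by
    apply pair_5400 hG hcard P R hRP hm
    have hyD : y ∈ normalizer ((((P : Subgroup G) ⊓ (R : Subgroup G) : Subgroup G)) : Set G) := by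
      rw [mem_normalizer_iff]
      intro z
      rw [Subgroup.mem_inf, Subgroup.mem_inf, ← (mem_normalizer_iff.1 hyN z),
        ← (mem_normalizer_iff.1 hyR z)]
    have := Subgroup.orderOf_dvd_natCard _
      (show y ∈ (normalizer ((((P : Subgroup G) ⊓ (R : Subgroup G) : Subgroup G)) : Set G) ⊓
        normalizer ((P : Subgroup G) : Set G) : Subgroup G) from ⟨hyD, hyN⟩)
    rwa [hy3] at this)
  have hB := card_not_meets_dvd P
  have hsum := card_sylow_eq_add P hPbot
  rw [hn] at hsum
  rw [hPcard] at hB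
  obtain ⟨a, ha⟩ := hA
  obtain ⟨b, hb⟩ := hB
  omega

end Cfsg.Agent.Lib.Helper6.OrdL
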