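import Mathlib
import Cfsg.Agent.Lib.Helper6.OrdL2
import Cfsg.Agent.S0974
import Cfsg.Agent.S0975

/-!
# Orders of non-abelian simple groups between 3640 and 3840 (generated)
-/

set_option autoImplicit false
set_option maxHeartbeats 4000000
set_option maxRecDepth 1000000

namespace Cfsg.Agent.Lib.Helper6.OrdL

open Cfsg.Agent.Lib.Helper9.SmallOrd

variable {G : Type*} [Group G] [Finite G] [IsSimpleGroup G]

theorem sweep_3640_3840 (hG : ¬ IsMulCommutative G) (n : ℕ) (hn : Nat.card G = n) (h1 : 3640 < n)
    (h2 : n ≤ 3840) : n = 4080 ∨ n = 5616 ∨ n = 6048 ∨ n = 6072 := by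
  interval_cases n
  · exact (paqb hG 11 331 1 1 (by norm_num) (by norm_num) (by rw [hn]; norm_num)).elim
  · exact (two_odd hG 1821 (by decide) (by rw [hn])).elim
  · exact (paqb hG 3643 2 1 0 (by norm_num) (by norm_num) (by rw [hn]; norm_num)).elim
  · exact (paqb hG 2 911 2 1 (by norm_num) (by norm_num) (by rw [hn]; norm_num)).elim
  · exact (paqb hG 3 5 6 1 (by norm_num) (by norm_num) (by rw [hn]; norm_num)).elim
  · exact (paqb hG 2 1823 1 1 (by norm_num) (by norm_num) (by rw [hn]; norm_num)).elim
  · exact (paqb hG 7 521 1 1 (by norm_num) (by norm_num) (by rw [hn]; norm_num)).elim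
  · exact (Cfsg.Agent.S0974.result hn).elim
  · exact (paqb hG 41 89 1 1 (by norm_num) (by norm_num) (by rw [hn]; norm_num)).elim
  · exact (two_odd hG 1825 (by decide) (by rw [hn])).elim
  · exact (paqb hG 3 1217 1 1 (by norm_num) (by norm_num) (by rw [hn]; norm_num)).elim
  · exact (block_kill hG (fun _ => true) (fun _ => rfl) 83 44 79 (hp := ⟨by norm_num⟩) (by norm_num) (by norm_num) (by rw [hn]) (by norm_num) (by norm_num) (by decide)).elim
  · exact (paqb hG 13 281 1 1 (by norm_num) (by norm_num) (by rw [hn]; norm_num)).elim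
  · exact (two_odd hG 1827 (by decide) (by rw [hn])).elim
  · exact (block_kill hG (fun _ => true) (fun _ => rfl) 5 731 79 (hp := ⟨by norm_num⟩) (by norm_num) (by norm_num) (by rw [hn]) (by norm_num) (by norm_num) (by decide)).elim
  · exact (paqb hG 2 457 3 1 (by norm_num) (by norm_num) (by rw [hn]; norm_num)).elim
  · exact (block_kill hG (fun _ => true) (fun _ => rfl) 3 1219 79 (hp := ⟨by norm_num⟩) (by norm_num) (by norm_num) (by rw [hn]) (by norm_num) (by norm_num) (by decide)).elim
  · exact (two_odd hG 1829 (by decide) (by rw [hn])).elim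
  · exact (paqb hG 3659 2 1 0 (by norm_num) (by norm_num) (by rw [hn]; norm_num)).elim
  · exact (block_kill hG (fun _ => true) (fun _ => rfl) 61 60 79 (hp := ⟨by norm_num⟩) (by norm_num) (by norm_num) (by rw [hn]) (by norm_num) (by norm_num) (by decide)).elim
  · exact (paqb hG 7 523 1 1 (by norm_num) (by norm_num) (by rw [hn]; norm_num)).elim
  · exact (paqb hG 2 1831 1 1 (by norm_num) (by norm_num) (by rw [hn]; norm_num)).elim
  · exact (block_kill hG (fun _ => true) (fun _ => rfl) 11 333 79 (hp := ⟨by norm_num⟩) (by norm_num) (by norm_num) (by rw [hn]) (by norm_num) (by norm_num) (by decide)).elim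
  · exact (paqb hG 2 229 4 1 (by norm_num) (by norm_num) (by rw [hn]; norm_num)).elim
  · exact (paqb hG 5 733 1 1 (by norm_num) (by norm_num) (by rw [hn]; norm_num)).elim
  · exact (two_odd hG 1833 (by decide) (by rw [hn])).elim
  · exact (paqb hG 19 193 1 1 (by norm_num) (by norm_num) (by rw [hn]; norm_num)).elim
  · exact (block_kill hG (fun _ => true) (fun _ => rfl) 7 524 79 (hp := ⟨by norm_num⟩) (by norm_num) (by norm_num) (by rw [hn]) (by norm_num) (by norm_num) (by decide)).elim
  · exact (paqb hG 3 1223 1 1 (by norm_num) (by norm_num) (by rw [hn]; norm_num)).elim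
  · exact (two_odd hG 1835 (by decide) (by rw [hn])).elim
  · exact (paqb hG 3671 2 1 0 (by norm_num) (by norm_num) (by rw [hn]; norm_num)).elim
  · exact (block_kill hG (fun _ => true) (fun _ => rfl) 17 216 79 (hp := ⟨by norm_num⟩) (by norm_num) (by norm_num) (by rw [hn]) (by norm_num) (by norm_num) (by decide)).elim
  · exact (paqb hG 3673 2 1 0 (by norm_num) (by norm_num) (by rw [hn]; norm_num)).elim
  · exact (two_odd hG 1837 (by decide) (by rw [hn])).elim
  · exact (block_kill hG (fun _ => true) (fun _ => rfl) 3 1225 79 (hp := ⟨by norm_num⟩) (by norm_num) (by norm_num) (by rw [hn]) (by norm_num) (by norm_num) (by decide)).elim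
  · exact (paqb hG 2 919 2 1 (by norm_num) (by norm_num) (by rw [hn]; norm_num)).elim
  · exact (paqb hG 3677 2 1 0 (by norm_num) (by norm_num) (by rw [hn]; norm_num)).elim
  · exact (two_odd hG 1839 (by decide) (by rw [hn])).elim
  · exact (paqb hG 13 283 1 1 (by norm_num) (by norm_num) (by rw [hn]; norm_num)).elim
  · exact (block_kill hG (fun _ => true) (fun _ => rfl) 23 160 79 (hp := ⟨by norm_num⟩) (by norm_num) (by norm_num) (by rw [hn]) (by norm_num) (by norm_num) (by decide)).elim
  · exact (paqb hG 3 409 2 1 (by norm_num) (by norm_num) (by rw [hn]; norm_num)).elim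
  · exact (two_odd hG 1841 (by decide) (by rw [hn])).elim
  · exact (paqb hG 29 127 1 1 (by norm_num) (by norm_num) (by rw [hn]; norm_num)).elim
  · exact (block_kill hG (fun _ => true) (fun _ => rfl) 307 12 79 (hp := ⟨by norm_num⟩) (by norm_num) (by norm_num) (by rw [hn]) (by norm_num) (by norm_num) (by decide)).elim
  · exact (block_kill hG (fun _ => true) (fun _ => rfl) 5 737 79 (hp := ⟨by norm_num⟩) (by norm_num) (by norm_num) (by rw [hn]) (by norm_num) (by norm_num) (by decide)).elim
  · exact (two_odd hG 1843 (by decide) (by rw [hn])).elim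
  · exact (paqb hG 3 1229 1 1 (by norm_num) (by norm_num) (by rw [hn]; norm_num)).elim
  · exact (paqb hG 2 461 3 1 (by norm_num) (by norm_num) (by rw [hn]; norm_num)).elim
  · exact (block_kill hG (fun _ => true) (fun _ => rfl) 7 527 79 (hp := ⟨by norm_num⟩) (by norm_num) (by norm_num) (by rw [hn]) (by norm_num) (by norm_num) (by decide)).elim
  · exact (two_odd hG 1845 (by decide) (by rw [hn])).elim
  · exact (paqb hG 3691 2 1 0 (by norm_num) (by norm_num) (by rw [hn]; norm_num)).elim
  · exact (block_kill hG (fun _ => true) (fun _ => rfl) 13 284 79 (hp := ⟨by norm_num⟩) (by norm_num) (by norm_num) (by rw [hn]) (by norm_num) (by norm_num) (by decide)).elim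
  · exact (paqb hG 3 1231 1 1 (by norm_num) (by norm_num) (by rw [hn]; norm_num)).elim
  · exact (paqb hG 2 1847 1 1 (by norm_num) (by norm_num) (by rw [hn]; norm_num)).elim
  · exact (paqb hG 5 739 1 1 (by norm_num) (by norm_num) (by rw [hn]; norm_num)).elim
  · exact (block_kill hG (fun _ => true) (fun _ => rfl) 11 336 79 (hp := ⟨by norm_num⟩) (by norm_num) (by norm_num) (by rw [hn]) (by norm_num) (by norm_num) (by decide)).elim
  · exact (paqb hG 3697 2 1 0 (by norm_num) (by norm_num) (by rw [hn]; norm_num)).elim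
  · exact (paqb hG 2 43 1 2 (by norm_num) (by norm_num) (by rw [hn]; norm_num)).elim
  · exact (paqb hG 3 137 3 1 (by norm_num) (by norm_num) (by rw [hn]; norm_num)).elim
  · exact (block_kill hG (fun _ => true) (fun _ => rfl) 37 100 79 (hp := ⟨by norm_num⟩) (by norm_num) (by norm_num) (by rw [hn]) (by norm_num) (by norm_num) (by decide)).elim
  · exact (paqb hG 3701 2 1 0 (by norm_num) (by norm_num) (by rw [hn]; norm_num)).elim
  · exact (two_odd hG 1851 (by decide) (by rw [hn])).elim
  · exact (paqb hG 7 23 1 2 (by norm_num) (by norm_num) (by rw [hn]; norm_num)).elim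
  · exact (paqb hG 2 463 3 1 (by norm_num) (by norm_num) (by rw [hn]; norm_num)).elim
  · exact (block_kill hG (fun _ => true) (fun _ => rfl) 3 1235 79 (hp := ⟨by norm_num⟩) (by norm_num) (by norm_num) (by rw [hn]) (by norm_num) (by norm_num) (by decide)).elim
  · exact (two_odd hG 1853 (by decide) (by rw [hn])).elim
  · exact (paqb hG 11 337 1 1 (by norm_num) (by norm_num) (by rw [hn]; norm_num)).elim
  · exact (block_kill hG (fun _ => true) (fun _ => rfl) 103 36 79 (hp := ⟨by norm_num⟩) (by norm_num) (by norm_num) (by rw [hn]) (by norm_num) (by norm_num) (by decide)).elim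
  · exact (paqb hG 3709 2 1 0 (by norm_num) (by norm_num) (by rw [hn]; norm_num)).elim
  · exact (two_odd hG 1855 (by decide) (by rw [hn])).elim
  · exact (paqb hG 3 1237 1 1 (by norm_num) (by norm_num) (by rw [hn]; norm_num)).elim
  · exact (paqb hG 2 29 7 1 (by norm_num) (by norm_num) (by rw [hn]; norm_num)).elim
  · exact (paqb hG 47 79 1 1 (by norm_num) (by norm_num) (by rw [hn]; norm_num)).elim
  · exact (two_odd hG 1857 (by decide) (by rw [hn])).elim
  · exact (paqb hG 5 743 1 1 (by norm_num) (by norm_num) (by rw [hn]; norm_num)).elim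
  · exact (paqb hG 2 929 2 1 (by norm_num) (by norm_num) (by rw [hn]; norm_num)).elim
  · exact (block_kill hG (fun _ => true) (fun _ => rfl) 7 531 79 (hp := ⟨by norm_num⟩) (by norm_num) (by norm_num) (by rw [hn]) (by norm_num) (by norm_num) (by decide)).elim
  · exact (two_odd hG 1859 (by decide) (by rw [hn])).elim
  · exact (paqb hG 3719 2 1 0 (by norm_num) (by norm_num) (by rw [hn]; norm_num)).elim
  · exact (block_kill hG (fun _ => true) (fun _ => rfl) 31 120 79 (hp := ⟨by norm_num⟩) (by norm_num) (by norm_num) (by rw [hn]) (by norm_num) (by norm_num) (by decide)).elim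
  · exact (paqb hG 61 2 2 0 (by norm_num) (by norm_num) (by rw [hn]; norm_num)).elim
  · exact (paqb hG 2 1861 1 1 (by norm_num) (by norm_num) (by rw [hn]; norm_num)).elim
  · exact (block_kill hG (fun _ => true) (fun _ => rfl) 3 1241 79 (hp := ⟨by norm_num⟩) (by norm_num) (by norm_num) (by rw [hn]) (by norm_num) (by norm_num) (by decide)).elim
  · exact (block_kill hG (fun _ => true) (fun _ => rfl) 19 196 79 (hp := ⟨by norm_num⟩) (by norm_num) (by norm_num) (by rw [hn]) (by norm_num) (by norm_num) (by decide)).elim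
  · exact (paqb hG 5 149 2 1 (by norm_num) (by norm_num) (by rw [hn]; norm_num)).elim
  · exact (two_odd hG 1863 (by decide) (by rw [hn])).elim
  · exact (paqb hG 3727 2 1 0 (by norm_num) (by norm_num) (by rw [hn]; norm_num)).elim
  · exact (paqb hG 2 233 4 1 (by norm_num) (by norm_num) (by rw [hn]; norm_num)).elim
  · exact (block_kill hG (fun _ => true) (fun _ => rfl) 3 1243 79 (hp := ⟨by norm_num⟩) (by norm_num) (by norm_num) (by rw [hn]) (by norm_num) (by norm_num) (by decide)).elim
  · exact (two_odd hG 1865 (by decide) (by rw [hn])).elim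
  · exact (block_kill hG (fun _ => true) (fun _ => rfl) 7 533 79 (hp := ⟨by norm_num⟩) (by norm_num) (by norm_num) (by rw [hn]) (by norm_num) (by norm_num) (by decide)).elim
  · exact (block_kill hG (fun _ => true) (fun _ => rfl) 311 12 79 (hp := ⟨by norm_num⟩) (by norm_num) (by norm_num) (by rw [hn]) (by norm_num) (by norm_num) (by decide)).elim
  · exact (paqb hG 3733 2 1 0 (by norm_num) (by norm_num) (by rw [hn]; norm_num)).elim
  · exact (paqb hG 2 1867 1 1 (by norm_num) (by norm_num) (by rw [hn]; norm_num)).elim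
  · exact (block_kill hG (fun _ => true) (fun _ => rfl) 5 747 79 (hp := ⟨by norm_num⟩) (by norm_num) (by norm_num) (by rw [hn]) (by norm_num) (by norm_num) (by decide)).elim
  · exact (paqb hG 2 467 3 1 (by norm_num) (by norm_num) (by rw [hn]; norm_num)).elim
  · exact (paqb hG 37 101 1 1 (by norm_num) (by norm_num) (by rw [hn]; norm_num)).elim
  · exact (two_odd hG 1869 (by decide) (by rw [hn])).elim
  · exact (paqb hG 3739 2 1 0 (by norm_num) (by norm_num) (by rw [hn]; norm_num)).elim
  · exact (block_kill hG (fun _ => true) (fun _ => rfl) 5 748 79 (hp := ⟨by norm_num⟩) (by norm_num) (by norm_num) (by rw [hn]) (by norm_num) (by norm_num) (by decide)).elim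
  · exact (block_kill hG (fun _ => true) (fun _ => rfl) 3 1247 79 (hp := ⟨by norm_num⟩) (by norm_num) (by norm_num) (by rw [hn]) (by norm_num) (by norm_num) (by decide)).elim
  · exact (paqb hG 2 1871 1 1 (by norm_num) (by norm_num) (by rw [hn]; norm_num)).elim
  · exact (paqb hG 19 197 1 1 (by norm_num) (by norm_num) (by rw [hn]; norm_num)).elim
  · exact (Cfsg.Agent.S0975.result hn).elim
  · exact (block_kill hG (fun _ => true) (fun _ => rfl) 5 749 79 (hp := ⟨by norm_num⟩) (by norm_num) (by norm_num) (by rw [hn]) (by norm_num) (by norm_num) (by decide)).elim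
  · exact (paqb hG 2 1873 1 1 (by norm_num) (by norm_num) (by rw [hn]; norm_num)).elim
  · exact (paqb hG 3 1249 1 1 (by norm_num) (by norm_num) (by rw [hn]; norm_num)).elim
  · exact (paqb hG 2 937 2 1 (by norm_num) (by norm_num) (by rw [hn]; norm_num)).elim
  · exact (paqb hG 23 163 1 1 (by norm_num) (by norm_num) (by rw [hn]; norm_num)).elim
  · exact (two_odd hG 1875 (by decide) (by rw [hn])).elim
  · exact (paqb hG 11 31 2 1 (by norm_num) (by norm_num) (by rw [hn]; norm_num)).elim
  · exact (block_kill hG (fun _ => true) (fun _ => rfl) 67 56 79 (hp := ⟨by norm_num⟩) (by norm_num) (by norm_num) (by rw [hn]) (by norm_num) (by norm_num) (by decide)).elim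
  · exact (paqb hG 3 139 3 1 (by norm_num) (by norm_num) (by rw [hn]; norm_num)).elim
  · exact (paqb hG 2 1877 1 1 (by norm_num) (by norm_num) (by rw [hn]; norm_num)).elim
  · exact (paqb hG 5 751 1 1 (by norm_num) (by norm_num) (by rw [hn]; norm_num)).elim
  · exact (block_kill hG (fun _ => true) (fun _ => rfl) 313 12 79 (hp := ⟨by norm_num⟩) (by norm_num) (by norm_num) (by rw [hn]) (by norm_num) (by norm_num) (by decide)).elim
  · exact (paqb hG 13 17 1 2 (by norm_num) (by norm_num) (by rw [hn]; norm_num)).elim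
  · exact (paqb hG 2 1879 1 1 (by norm_num) (by norm_num) (by rw [hn]; norm_num)).elim
  · exact (block_kill hG (fun _ => true) (fun _ => rfl) 3 1253 79 (hp := ⟨by norm_num⟩) (by norm_num) (by norm_num) (by rw [hn]) (by norm_num) (by norm_num) (by decide)).elim
  · exact (block_kill hG (fun _ => true) (fun _ => rfl) 47 80 79 (hp := ⟨by norm_num⟩) (by norm_num) (by norm_num) (by rw [hn]) (by norm_num) (by norm_num) (by decide)).elim
  · exact (paqb hG 3761 2 1 0 (by norm_num) (by norm_num) (by rw [hn]; norm_num)).elim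
  · exact (two_odd hG 1881 (by decide) (by rw [hn])).elim
  · exact (paqb hG 53 71 1 1 (by norm_num) (by norm_num) (by rw [hn]; norm_num)).elim
  · exact (paqb hG 2 941 2 1 (by norm_num) (by norm_num) (by rw [hn]; norm_num)).elim
  · exact (block_kill hG (fun _ => true) (fun _ => rfl) 3 1255 79 (hp := ⟨by norm_num⟩) (by norm_num) (by norm_num) (by rw [hn]) (by norm_num) (by norm_num) (by decide)).elim
  · exact (two_odd hG 1883 (by decide) (by rw [hn])).elim
  · exact (paqb hG 3767 2 1 0 (by norm_num) (by norm_num) (by rw [hn]; norm_num)).elim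
  · exact (block_kill hG (fun _ => true) (fun _ => rfl) 157 24 79 (hp := ⟨by norm_num⟩) (by norm_num) (by norm_num) (by rw [hn]) (by norm_num) (by norm_num) (by decide)).elim
  · exact (paqb hG 3769 2 1 0 (by norm_num) (by norm_num) (by rw [hn]; norm_num)).elim
  · exact (two_odd hG 1885 (by decide) (by rw [hn])).elim
  · exact (paqb hG 3 419 2 1 (by norm_num) (by norm_num) (by rw [hn]; norm_num)).elim
  · exact (block_kill hG (fun _ => true) (fun _ => rfl) 23 164 79 (hp := ⟨by norm_num⟩) (by norm_num) (by norm_num) (by rw [hn]) (by norm_num) (by norm_num) (by decide)).elim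
  · exact (paqb hG 7 11 3 1 (by norm_num) (by norm_num) (by rw [hn]; norm_num)).elim
  · exact (two_odd hG 1887 (by decide) (by rw [hn])).elim
  · exact (paqb hG 5 151 2 1 (by norm_num) (by norm_num) (by rw [hn]; norm_num)).elim
  · exact (paqb hG 2 59 6 1 (by norm_num) (by norm_num) (by rw [hn]; norm_num)).elim
  · exact (paqb hG 3 1259 1 1 (by norm_num) (by norm_num) (by rw [hn]; norm_num)).elim
  · exact (paqb hG 2 1889 1 1 (by norm_num) (by norm_num) (by rw [hn]; norm_num)).elim
  · exact (paqb hG 3779 2 1 0 (by norm_num) (by norm_num) (by rw [hn]; norm_num)).elim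
  · exact (block_kill hG (fun _ => true) (fun _ => rfl) 5 756 79 (hp := ⟨by norm_num⟩) (by norm_num) (by norm_num) (by rw [hn]) (by norm_num) (by norm_num) (by decide)).elim
  · exact (paqb hG 19 199 1 1 (by norm_num) (by norm_num) (by rw [hn]; norm_num)).elim
  · exact (two_odd hG 1891 (by decide) (by rw [hn])).elim
  · exact (block_kill hG (fun _ => true) (fun _ => rfl) 3 1261 79 (hp := ⟨by norm_num⟩) (by norm_num) (by norm_num) (by rw [hn]) (by norm_num) (by norm_num) (by decide)).elim
  · exact (block_kill hG (fun _ => true) (fun _ => rfl) 11 344 79 (hp := ⟨by norm_num⟩) (by norm_num) (by norm_num) (by rw [hn]) (by norm_num) (by norm_num) (by decide)).elim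
  · exact (paqb hG 5 757 1 1 (by norm_num) (by norm_num) (by rw [hn]; norm_num)).elim
  · exact (two_odd hG 1893 (by decide) (by rw [hn])).elim
  · exact (paqb hG 7 541 1 1 (by norm_num) (by norm_num) (by rw [hn]; norm_num)).elim
  · exact (paqb hG 2 947 2 1 (by norm_num) (by norm_num) (by rw [hn]; norm_num)).elim
  · exact (paqb hG 3 421 2 1 (by norm_num) (by norm_num) (by rw [hn]; norm_num)).elim
  · exact (two_odd hG 1895 (by decide) (by rw [hn])).elim
  · exact (paqb hG 17 223 1 1 (by norm_num) (by norm_num) (by rw [hn]; norm_num)).elim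
  · exact (block_kill hG (fun _ => true) (fun _ => rfl) 79 48 79 (hp := ⟨by norm_num⟩) (by norm_num) (by norm_num) (by rw [hn]) (by norm_num) (by norm_num) (by decide)).elim
  · exact (paqb hG 3793 2 1 0 (by norm_num) (by norm_num) (by rw [hn]; norm_num)).elim
  · exact (two_odd hG 1897 (by decide) (by rw [hn])).elim
  · exact (block_kill hG (fun _ => true) (fun _ => rfl) 3 1265 79 (hp := ⟨by norm_num⟩) (by norm_num) (by norm_num) (by rw [hn]) (by norm_num) (by norm_num) (by decide)).elim
  · exact (block_kill hG (fun _ => true) (fun _ => rfl) 13 292 79 (hp := ⟨by norm_num⟩) (by norm_num) (by norm_num) (by rw [hn]) (by norm_num) (by norm_num) (by decide)).elim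
  · exact (paqb hG 3797 2 1 0 (by norm_num) (by norm_num) (by rw [hn]; norm_num)).elim
  · exact (two_odd hG 1899 (by decide) (by rw [hn])).elim
  · exact (paqb hG 29 131 1 1 (by norm_num) (by norm_num) (by rw [hn]; norm_num)).elim
  · exact (block_kill hG (fun _ => true) (fun _ => rfl) 19 200 79 (hp := ⟨by norm_num⟩) (by norm_num) (by norm_num) (by rw [hn]) (by norm_num) (by norm_num) (by decide)).elim
  · exact (block_kill hG (fun _ => true) (fun _ => rfl) 3 1267 79 (hp := ⟨by norm_num⟩) (by norm_num) (by norm_num) (by rw [hn]) (by norm_num) (by norm_num) (by decide)).elim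
  · exact (paqb hG 2 1901 1 1 (by norm_num) (by norm_num) (by rw [hn]; norm_num)).elim
  · exact (paqb hG 3803 2 1 0 (by norm_num) (by norm_num) (by rw [hn]; norm_num)).elim
  · exact (block_kill hG (fun _ => true) (fun _ => rfl) 317 12 79 (hp := ⟨by norm_num⟩) (by norm_num) (by norm_num) (by rw [hn]) (by norm_num) (by norm_num) (by decide)).elim
  · exact (paqb hG 5 761 1 1 (by norm_num) (by norm_num) (by rw [hn]; norm_num)).elim
  · exact (two_odd hG 1903 (by decide) (by rw [hn])).elim
  · exact (paqb hG 3 47 4 1 (by norm_num) (by norm_num) (by rw [hn]; norm_num)).elim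
  · exact (block_kill hG (fun _ => true) (fun _ => rfl) 7 544 79 (hp := ⟨by norm_num⟩) (by norm_num) (by norm_num) (by rw [hn]) (by norm_num) (by norm_num) (by decide)).elim
  · exact (paqb hG 13 293 1 1 (by norm_num) (by norm_num) (by rw [hn]; norm_num)).elim
  · exact (two_odd hG 1905 (by decide) (by rw [hn])).elim
  · exact (paqb hG 37 103 1 1 (by norm_num) (by norm_num) (by rw [hn]; norm_num)).elim
  · exact (paqb hG 2 953 2 1 (by norm_num) (by norm_num) (by rw [hn]; norm_num)).elim
  · exact (block_kill hG (fun _ => true) (fun _ => rfl) 3 1271 79 (hp := ⟨by norm_num⟩) (by norm_num) (by norm_num) (by rw [hn]) (by norm_num) (by norm_num) (by decide)).elim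
  · exact (paqb hG 2 1907 1 1 (by norm_num) (by norm_num) (by rw [hn]; norm_num)).elim
  · exact (block_kill hG (fun _ => true) (fun _ => rfl) 5 763 79 (hp := ⟨by norm_num⟩) (by norm_num) (by norm_num) (by rw [hn]) (by norm_num) (by norm_num) (by decide)).elim
  · exact (block_kill hG (fun _ => true) (fun _ => rfl) 53 72 79 (hp := ⟨by norm_num⟩) (by norm_num) (by norm_num) (by rw [hn]) (by norm_num) (by norm_num) (by decide)).elim
  · exact (paqb hG 11 347 1 1 (by norm_num) (by norm_num) (by rw [hn]; norm_num)).elim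
  · exact (two_odd hG 1909 (by decide) (by rw [hn])).elim
  · exact (block_kill hG (fun _ => true) (fun _ => rfl) 3 1273 79 (hp := ⟨by norm_num⟩) (by norm_num) (by norm_num) (by rw [hn]) (by norm_num) (by norm_num) (by decide)).elim
  · exact (block_kill hG (fun _ => true) (fun _ => rfl) 191 20 79 (hp := ⟨by norm_num⟩) (by norm_num) (by norm_num) (by rw [hn]) (by norm_num) (by norm_num) (by decide)).elim
  · exact (paqb hG 3821 2 1 0 (by norm_num) (by norm_num) (by rw [hn]; norm_num)).elim
  · exact (two_odd hG 1911 (by decide) (by rw [hn])).elim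
  · exact (paqb hG 3823 2 1 0 (by norm_num) (by norm_num) (by rw [hn]; norm_num)).elim
  · exact (paqb hG 2 239 4 1 (by norm_num) (by norm_num) (by rw [hn]; norm_num)).elim
  · exact (block_kill hG (fun _ => true) (fun _ => rfl) 17 225 79 (hp := ⟨by norm_num⟩) (by norm_num) (by norm_num) (by rw [hn]) (by norm_num) (by norm_num) (by decide)).elim
  · exact (paqb hG 2 1913 1 1 (by norm_num) (by norm_num) (by rw [hn]; norm_num)).elim
  · exact (paqb hG 43 89 1 1 (by norm_num) (by norm_num) (by rw [hn]; norm_num)).elim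
  · exact (block_kill hG (fun _ => true) (fun _ => rfl) 11 348 79 (hp := ⟨by norm_num⟩) (by norm_num) (by norm_num) (by rw [hn]) (by norm_num) (by norm_num) (by decide)).elim
  · exact (paqb hG 7 547 1 1 (by norm_num) (by norm_num) (by rw [hn]; norm_num)).elim
  · exact (two_odd hG 1915 (by decide) (by rw [hn])).elim
  · exact (paqb hG 3 1277 1 1 (by norm_num) (by norm_num) (by rw [hn]; norm_num)).elim
  · exact (paqb hG 2 479 3 1 (by norm_num) (by norm_num) (by rw [hn]; norm_num)).elim
  · exact (paqb hG 3833 2 1 0 (by norm_num) (by norm_num) (by rw [hn]; norm_num)).elim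
  · exact (two_odd hG 1917 (by decide) (by rw [hn])).elim
  · exact (block_kill hG (fun _ => true) (fun _ => rfl) 5 767 79 (hp := ⟨by norm_num⟩) (by norm_num) (by norm_num) (by rw [hn]) (by norm_num) (by norm_num) (by decide)).elim
  · exact (block_kill hG (fun _ => true) (fun _ => rfl) 137 28 79 (hp := ⟨by norm_num⟩) (by norm_num) (by norm_num) (by rw [hn]) (by norm_num) (by norm_num) (by decide)).elim
  · exact (paqb hG 3 1279 1 1 (by norm_num) (by norm_num) (by rw [hn]; norm_num)).elim
  · exact (two_odd hG 1919 (by decide) (by rw [hn])).elim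
  · exact (paqb hG 11 349 1 1 (by norm_num) (by norm_num) (by rw [hn]; norm_num)).elim
  · exact (block_kill hG (fun _ => true) (fun _ => rfl) 5 768 79 (hp := ⟨by norm_num⟩) (by norm_num) (by norm_num) (by rw [hn]) (by norm_num) (by norm_num) (by decide)).elim

end Cfsg.Agent.Lib.Helper6.OrdL
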