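import Mathlib
import Cfsg.Agent.Lib.Helper6.OrdL2
import Cfsg.Agent.Lib.Helper9.SmallOrd2
import Cfsg.Agent.S0976

/-!
# Orders of non-abelian simple groups between 3840 and 4040 (generated)
-/

set_option autoImplicit false
set_option maxHeartbeats 4000000
set_option maxRecDepth 1000000

namespace Cfsg.Agent.Lib.Helper6.OrdL

open Cfsg.Agent.Lib.Helper9.SmallOrd

variable {G : Type*} [Group G] [Finite G] [IsSimpleGroup G]

theorem sweep_3840_4040 (hG : ¬ IsMulCommutative G) (n : ℕ) (hn : Nat.card G = n) (h1 : 3840 < n)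
    (h2 : n ≤ 4040) : n = 4080 ∨ n = 5616 ∨ n = 6048 ∨ n = 6072 := by
  interval_cases n
  · exact (paqb hG 23 167 1 1 (by norm_num) (by norm_num) (by rw [hn]; norm_num)).elim
  · exact (two_odd hG 1921 (by decide) (by rw [hn])).elim
  · exact (block_kill hG (fun _ => true) (fun _ => rfl) 61 63 79 (hp := ⟨by norm_num⟩) (by norm_num) (by norm_num) (by rw [hn]) (by norm_num) (by norm_num) (by decide)).elim
  · exact (paqb hG 2 31 2 2 (by norm_num) (by norm_num) (by rw [hn]; norm_num)).elim
  · exact (paqb hG 5 769 1 1 (by norm_num) (by norm_num) (by rw [hn]; norm_num)).elim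
  · exact (two_odd hG 1923 (by decide) (by rw [hn])).elim
  · exact (paqb hG 3847 2 1 0 (by norm_num) (by norm_num) (by rw [hn]; norm_num)).elim
  · exact (block_kill hG (fun _ => true) (fun _ => rfl) 13 296 79 (hp := ⟨by norm_num⟩) (by norm_num) (by norm_num) (by rw [hn]) (by norm_num) (by norm_num) (by decide)).elim
  · exact (paqb hG 3 1283 1 1 (by norm_num) (by norm_num) (by rw [hn]; norm_num)).elim
  · exact (two_odd hG 1925 (by decide) (by rw [hn])).elim
  · exact (paqb hG 3851 2 1 0 (by norm_num) (by norm_num) (by rw [hn]; norm_num)).elim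
  · exact (block_kill hG (fun _ => true) (fun _ => rfl) 107 36 79 (hp := ⟨by norm_num⟩) (by norm_num) (by norm_num) (by rw [hn]) (by norm_num) (by norm_num) (by decide)).elim
  · exact (paqb hG 3853 2 1 0 (by norm_num) (by norm_num) (by rw [hn]; norm_num)).elim
  · exact (two_odd hG 1927 (by decide) (by rw [hn])).elim
  · exact (block_kill hG (fun _ => true) (fun _ => rfl) 3 1285 79 (hp := ⟨by norm_num⟩) (by norm_num) (by norm_num) (by rw [hn]) (by norm_num) (by norm_num) (by decide)).elim
  · exact (paqb hG 2 241 4 1 (by norm_num) (by norm_num) (by rw [hn]; norm_num)).elim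
  · exact (block_kill hG (fun _ => true) (fun _ => rfl) 7 551 79 (hp := ⟨by norm_num⟩) (by norm_num) (by norm_num) (by rw [hn]) (by norm_num) (by norm_num) (by decide)).elim
  · exact (two_odd hG 1929 (by decide) (by rw [hn])).elim
  · exact (paqb hG 17 227 1 1 (by norm_num) (by norm_num) (by rw [hn]; norm_num)).elim
  · exact (block_kill hG (fun _ => true) (fun _ => rfl) 193 20 79 (hp := ⟨by norm_num⟩) (by norm_num) (by norm_num) (by rw [hn]) (by norm_num) (by norm_num) (by decide)).elim
  · exact (block_kill hG (fun _ => true) (fun _ => rfl) 11 351 79 (hp := ⟨by norm_num⟩) (by norm_num) (by norm_num) (by rw [hn]) (by norm_num) (by norm_num) (by decide)).elim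
  · exact (paqb hG 2 1931 1 1 (by norm_num) (by norm_num) (by rw [hn]; norm_num)).elim
  · exact (paqb hG 3863 2 1 0 (by norm_num) (by norm_num) (by rw [hn]; norm_num)).elim
  · exact (block_kill hG (fun _ => true) (fun _ => rfl) 23 168 79 (hp := ⟨by norm_num⟩) (by norm_num) (by norm_num) (by rw [hn]) (by norm_num) (by norm_num) (by decide)).elim
  · exact (paqb hG 5 773 1 1 (by norm_num) (by norm_num) (by rw [hn]; norm_num)).elim
  · exact (paqb hG 2 1933 1 1 (by norm_num) (by norm_num) (by rw [hn]; norm_num)).elim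
  · exact (paqb hG 3 1289 1 1 (by norm_num) (by norm_num) (by rw [hn]; norm_num)).elim
  · exact (paqb hG 2 967 2 1 (by norm_num) (by norm_num) (by rw [hn]; norm_num)).elim
  · exact (paqb hG 53 73 1 1 (by norm_num) (by norm_num) (by rw [hn]; norm_num)).elim
  · exact (two_odd hG 1935 (by decide) (by rw [hn])).elim
  · exact (paqb hG 7 79 2 1 (by norm_num) (by norm_num) (by rw [hn]; norm_num)).elim
  · exact (paqb hG 2 11 5 2 (by norm_num) (by norm_num) (by rw [hn]; norm_num)).elim
  · exact (paqb hG 3 1291 1 1 (by norm_num) (by norm_num) (by rw [hn]; norm_num)).elim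
  · exact (two_odd hG 1937 (by decide) (by rw [hn])).elim
  · exact (paqb hG 5 31 3 1 (by norm_num) (by norm_num) (by rw [hn]; norm_num)).elim
  · exact (block_kill hG (fun _ => true) (fun _ => rfl) 17 228 79 (hp := ⟨by norm_num⟩) (by norm_num) (by norm_num) (by rw [hn]) (by norm_num) (by norm_num) (by decide)).elim
  · exact (paqb hG 3877 2 1 0 (by norm_num) (by norm_num) (by rw [hn]; norm_num)).elim
  · exact (two_odd hG 1939 (by decide) (by rw [hn])).elim
  · exact (paqb hG 3 431 2 1 (by norm_num) (by norm_num) (by rw [hn]; norm_num)).elim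
  · exact (block_kill hG (fun _ => true) (fun _ => rfl) 5 776 79 (hp := ⟨by norm_num⟩) (by norm_num) (by norm_num) (by rw [hn]) (by norm_num) (by norm_num) (by decide)).elim
  · exact (paqb hG 3881 2 1 0 (by norm_num) (by norm_num) (by rw [hn]; norm_num)).elim
  · exact (two_odd hG 1941 (by decide) (by rw [hn])).elim
  · exact (paqb hG 11 353 1 1 (by norm_num) (by norm_num) (by rw [hn]; norm_num)).elim
  · exact (paqb hG 2 971 2 1 (by norm_num) (by norm_num) (by rw [hn]; norm_num)).elim
  · exact (block_kill hG (fun _ => true) (fun _ => rfl) 3 1295 79 (hp := ⟨by norm_num⟩) (by norm_num) (by norm_num) (by rw [hn]) (by norm_num) (by norm_num) (by decide)).elim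
  · exact (two_odd hG 1943 (by decide) (by rw [hn])).elim
  · exact (paqb hG 13 23 2 1 (by norm_num) (by norm_num) (by rw [hn]; norm_num)).elim
  · exact (paqb hG 2 3 4 5 (by norm_num) (by norm_num) (by rw [hn]; norm_num)).elim
  · exact (paqb hG 3889 2 1 0 (by norm_num) (by norm_num) (by rw [hn]; norm_num)).elim
  · exact (two_odd hG 1945 (by decide) (by rw [hn])).elim
  · exact (paqb hG 3 1297 1 1 (by norm_num) (by norm_num) (by rw [hn]; norm_num)).elim
  · exact (block_kill hG (fun _ => true) (fun _ => rfl) 7 556 79 (hp := ⟨by norm_num⟩) (by norm_num) (by norm_num) (by rw [hn]) (by norm_num) (by norm_num) (by decide)).elim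
  · exact (paqb hG 17 229 1 1 (by norm_num) (by norm_num) (by rw [hn]; norm_num)).elim
  · exact (two_odd hG 1947 (by decide) (by rw [hn])).elim
  · exact (block_kill hG (fun _ => true) (fun _ => rfl) 5 779 79 (hp := ⟨by norm_num⟩) (by norm_num) (by norm_num) (by rw [hn]) (by norm_num) (by norm_num) (by decide)).elim
  · exact (paqb hG 2 487 3 1 (by norm_num) (by norm_num) (by rw [hn]; norm_num)).elim
  · exact (paqb hG 3 433 2 1 (by norm_num) (by norm_num) (by rw [hn]; norm_num)).elim
  · exact (paqb hG 2 1949 1 1 (by norm_num) (by norm_num) (by rw [hn]; norm_num)).elim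
  · exact (paqb hG 7 557 1 1 (by norm_num) (by norm_num) (by rw [hn]; norm_num)).elim
  · exact (block_kill hG (fun _ => true) (fun _ => rfl) 13 300 79 (hp := ⟨by norm_num⟩) (by norm_num) (by norm_num) (by rw [hn]) (by norm_num) (by norm_num) (by decide)).elim
  · exact (paqb hG 47 83 1 1 (by norm_num) (by norm_num) (by rw [hn]; norm_num)).elim
  · exact (paqb hG 2 1951 1 1 (by norm_num) (by norm_num) (by rw [hn]; norm_num)).elim
  · exact (paqb hG 3 1301 1 1 (by norm_num) (by norm_num) (by rw [hn]; norm_num)).elim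
  · exact (paqb hG 2 61 6 1 (by norm_num) (by norm_num) (by rw [hn]; norm_num)).elim
  · exact (block_kill hG (fun _ => true) (fun _ => rfl) 5 781 79 (hp := ⟨by norm_num⟩) (by norm_num) (by norm_num) (by rw [hn]) (by norm_num) (by norm_num) (by decide)).elim
  · exact (two_odd hG 1953 (by decide) (by rw [hn])).elim
  · exact (paqb hG 3907 2 1 0 (by norm_num) (by norm_num) (by rw [hn]; norm_num)).elim
  · exact (paqb hG 2 977 2 1 (by norm_num) (by norm_num) (by rw [hn]; norm_num)).elim
  · exact (paqb hG 3 1303 1 1 (by norm_num) (by norm_num) (by rw [hn]; norm_num)).elim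
  · exact (two_odd hG 1955 (by decide) (by rw [hn])).elim
  · exact (paqb hG 3911 2 1 0 (by norm_num) (by norm_num) (by rw [hn]; norm_num)).elim
  · exact (block_kill hG (fun _ => true) (fun _ => rfl) 163 24 79 (hp := ⟨by norm_num⟩) (by norm_num) (by norm_num) (by rw [hn]) (by norm_num) (by norm_num) (by decide)).elim
  · exact (block_kill hG (fun _ => true) (fun _ => rfl) 7 559 79 (hp := ⟨by norm_num⟩) (by norm_num) (by norm_num) (by rw [hn]) (by norm_num) (by norm_num) (by decide)).elim
  · exact (two_odd hG 1957 (by decide) (by rw [hn])).elim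
  · exact (block_kill hG (fun _ => true) (fun _ => rfl) 5 783 79 (hp := ⟨by norm_num⟩) (by norm_num) (by norm_num) (by rw [hn]) (by norm_num) (by norm_num) (by decide)).elim
  · exact (block_kill hG (fun _ => true) (fun _ => rfl) 89 44 79 (hp := ⟨by norm_num⟩) (by norm_num) (by norm_num) (by rw [hn]) (by norm_num) (by norm_num) (by decide)).elim
  · exact (paqb hG 3917 2 1 0 (by norm_num) (by norm_num) (by rw [hn]; norm_num)).elim
  · exact (two_odd hG 1959 (by decide) (by rw [hn])).elim
  · exact (paqb hG 3919 2 1 0 (by norm_num) (by norm_num) (by rw [hn]; norm_num)).elim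
  · exact (@sylow_kill G _ _ _ 7 ⟨by norm_num⟩ hG 2 80 (by norm_num) (by norm_num) (by rw [hn]; norm_num) (by norm_num) (by decide)).elim
  · exact (paqb hG 3 1307 1 1 (by norm_num) (by norm_num) (by rw [hn]; norm_num)).elim
  · exact (two_odd hG 1961 (by decide) (by rw [hn])).elim
  · exact (paqb hG 3923 2 1 0 (by norm_num) (by norm_num) (by rw [hn]; norm_num)).elim
  · exact (block_kill hG (fun _ => true) (fun _ => rfl) 109 36 79 (hp := ⟨by norm_num⟩) (by norm_num) (by norm_num) (by rw [hn]) (by norm_num) (by norm_num) (by decide)).elim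
  · exact (paqb hG 5 157 2 1 (by norm_num) (by norm_num) (by rw [hn]; norm_num)).elim
  · exact (two_odd hG 1963 (by decide) (by rw [hn])).elim
  · exact (block_kill hG (fun _ => true) (fun _ => rfl) 3 1309 79 (hp := ⟨by norm_num⟩) (by norm_num) (by norm_num) (by rw [hn]) (by norm_num) (by norm_num) (by decide)).elim
  · exact (paqb hG 2 491 3 1 (by norm_num) (by norm_num) (by rw [hn]; norm_num)).elim
  · exact (paqb hG 3929 2 1 0 (by norm_num) (by norm_num) (by rw [hn]; norm_num)).elim
  · exact (two_odd hG 1965 (by decide) (by rw [hn])).elim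
  · exact (paqb hG 3931 2 1 0 (by norm_num) (by norm_num) (by rw [hn]; norm_num)).elim
  · exact (paqb hG 2 983 2 1 (by norm_num) (by norm_num) (by rw [hn]; norm_num)).elim
  · exact (block_kill hG (fun _ => true) (fun _ => rfl) 19 207 79 (hp := ⟨by norm_num⟩) (by norm_num) (by norm_num) (by rw [hn]) (by norm_num) (by norm_num) (by decide)).elim
  · exact (two_odd hG 1967 (by decide) (by rw [hn])).elim
  · exact (paqb hG 5 787 1 1 (by norm_num) (by norm_num) (by rw [hn]; norm_num)).elim
  · exact (block_kill hG (fun _ => true) (fun _ => rfl) 41 96 79 (hp := ⟨by norm_num⟩) (by norm_num) (by norm_num) (by rw [hn]) (by norm_num) (by norm_num) (by decide)).elim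
  · exact (paqb hG 31 127 1 1 (by norm_num) (by norm_num) (by rw [hn]; norm_num)).elim
  · exact (two_odd hG 1969 (by decide) (by rw [hn])).elim
  · exact (block_kill hG (fun _ => true) (fun _ => rfl) 3 1313 79 (hp := ⟨by norm_num⟩) (by norm_num) (by norm_num) (by rw [hn]) (by norm_num) (by norm_num) (by decide)).elim
  · exact (block_kill hG (fun _ => true) (fun _ => rfl) 5 788 79 (hp := ⟨by norm_num⟩) (by norm_num) (by norm_num) (by rw [hn]) (by norm_num) (by norm_num) (by decide)).elim
  · exact (paqb hG 7 563 1 1 (by norm_num) (by norm_num) (by rw [hn]; norm_num)).elim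
  · exact (two_odd hG 1971 (by decide) (by rw [hn])).elim
  · exact (paqb hG 3943 2 1 0 (by norm_num) (by norm_num) (by rw [hn]; norm_num)).elim
  · exact (block_kill hG (fun _ => true) (fun _ => rfl) 17 232 79 (hp := ⟨by norm_num⟩) (by norm_num) (by norm_num) (by rw [hn]) (by norm_num) (by norm_num) (by decide)).elim
  · exact (block_kill hG (fun _ => true) (fun _ => rfl) 3 1315 79 (hp := ⟨by norm_num⟩) (by norm_num) (by norm_num) (by rw [hn]) (by norm_num) (by norm_num) (by decide)).elim
  · exact (paqb hG 2 1973 1 1 (by norm_num) (by norm_num) (by rw [hn]; norm_num)).elim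
  · exact (paqb hG 3947 2 1 0 (by norm_num) (by norm_num) (by rw [hn]; norm_num)).elim
  · exact (block_kill hG (fun _ => true) (fun _ => rfl) 47 84 79 (hp := ⟨by norm_num⟩) (by norm_num) (by norm_num) (by rw [hn]) (by norm_num) (by norm_num) (by decide)).elim
  · exact (paqb hG 11 359 1 1 (by norm_num) (by norm_num) (by rw [hn]; norm_num)).elim
  · exact (two_odd hG 1975 (by decide) (by rw [hn])).elim
  · exact (paqb hG 3 439 2 1 (by norm_num) (by norm_num) (by rw [hn]; norm_num)).elim
  · exact (block_kill hG (fun _ => true) (fun _ => rfl) 13 304 79 (hp := ⟨by norm_num⟩) (by norm_num) (by norm_num) (by rw [hn]) (by norm_num) (by norm_num) (by decide)).elim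
  · exact (paqb hG 59 67 1 1 (by norm_num) (by norm_num) (by rw [hn]; norm_num)).elim
  · exact (two_odd hG 1977 (by decide) (by rw [hn])).elim
  · exact (block_kill hG (fun _ => true) (fun _ => rfl) 5 791 79 (hp := ⟨by norm_num⟩) (by norm_num) (by norm_num) (by rw [hn]) (by norm_num) (by norm_num) (by decide)).elim
  · exact (block_kill hG (fun _ => true) (fun _ => rfl) 23 172 79 (hp := ⟨by norm_num⟩) (by norm_num) (by norm_num) (by rw [hn]) (by norm_num) (by norm_num) (by decide)).elim
  · exact (paqb hG 3 1319 1 1 (by norm_num) (by norm_num) (by rw [hn]; norm_num)).elim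
  · exact (paqb hG 2 1979 1 1 (by norm_num) (by norm_num) (by rw [hn]; norm_num)).elim
  · exact (paqb hG 37 107 1 1 (by norm_num) (by norm_num) (by rw [hn]; norm_num)).elim
  · exact (block_kill hG (fun _ => true) (fun _ => rfl) 11 360 79 (hp := ⟨by norm_num⟩) (by norm_num) (by norm_num) (by rw [hn]) (by norm_num) (by norm_num) (by decide)).elim
  · exact (paqb hG 17 233 1 1 (by norm_num) (by norm_num) (by rw [hn]; norm_num)).elim
  · exact (two_odd hG 1981 (by decide) (by rw [hn])).elim
  · exact (paqb hG 3 1321 1 1 (by norm_num) (by norm_num) (by rw [hn]; norm_num)).elim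
  · exact (paqb hG 2 991 2 1 (by norm_num) (by norm_num) (by rw [hn]; norm_num)).elim
  · exact (block_kill hG (fun _ => true) (fun _ => rfl) 5 793 79 (hp := ⟨by norm_num⟩) (by norm_num) (by norm_num) (by rw [hn]) (by norm_num) (by norm_num) (by decide)).elim
  · exact (two_odd hG 1983 (by decide) (by rw [hn])).elim
  · exact (paqb hG 3967 2 1 0 (by norm_num) (by norm_num) (by rw [hn]; norm_num)).elim
  · exact (paqb hG 2 31 7 1 (by norm_num) (by norm_num) (by rw [hn]; norm_num)).elim
  · exact (paqb hG 3 7 4 2 (by norm_num) (by norm_num) (by rw [hn]; norm_num)).elim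
  · exact (two_odd hG 1985 (by decide) (by rw [hn])).elim
  · exact (paqb hG 11 19 1 2 (by norm_num) (by norm_num) (by rw [hn]; norm_num)).elim
  · exact (block_kill hG (fun _ => true) (fun _ => rfl) 331 12 79 (hp := ⟨by norm_num⟩) (by norm_num) (by norm_num) (by rw [hn]) (by norm_num) (by norm_num) (by decide)).elim
  · exact (paqb hG 29 137 1 1 (by norm_num) (by norm_num) (by rw [hn]; norm_num)).elim
  · exact (paqb hG 2 1987 1 1 (by norm_num) (by norm_num) (by rw [hn]; norm_num)).elim
  · exact (block_kill hG (fun _ => true) (fun _ => rfl) 3 1325 79 (hp := ⟨by norm_num⟩) (by norm_num) (by norm_num) (by rw [hn]) (by norm_num) (by norm_num) (by decide)).elim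
  · exact (block_kill hG (fun _ => true) (fun _ => rfl) 71 56 79 (hp := ⟨by norm_num⟩) (by norm_num) (by norm_num) (by rw [hn]) (by norm_num) (by norm_num) (by decide)).elim
  · exact (paqb hG 41 97 1 1 (by norm_num) (by norm_num) (by rw [hn]; norm_num)).elim
  · exact (two_odd hG 1989 (by decide) (by rw [hn])).elim
  · exact (paqb hG 23 173 1 1 (by norm_num) (by norm_num) (by rw [hn]; norm_num)).elim
  · exact (block_kill hG (fun _ => true) (fun _ => rfl) 5 796 79 (hp := ⟨by norm_num⟩) (by norm_num) (by norm_num) (by rw [hn]) (by norm_num) (by norm_num) (by decide)).elim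
  · exact (paqb hG 3 1327 1 1 (by norm_num) (by norm_num) (by rw [hn]; norm_num)).elim
  · exact (two_odd hG 1991 (by decide) (by rw [hn])).elim
  · exact (paqb hG 7 569 1 1 (by norm_num) (by norm_num) (by rw [hn]; norm_num)).elim
  · exact (block_kill hG (fun _ => true) (fun _ => rfl) 83 48 79 (hp := ⟨by norm_num⟩) (by norm_num) (by norm_num) (by rw [hn]) (by norm_num) (by norm_num) (by decide)).elim
  · exact (paqb hG 5 797 1 1 (by norm_num) (by norm_num) (by rw [hn]; norm_num)).elim
  · exact (paqb hG 2 1993 1 1 (by norm_num) (by norm_num) (by rw [hn]; norm_num)).elim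
  · exact (paqb hG 3 443 2 1 (by norm_num) (by norm_num) (by rw [hn]; norm_num)).elim
  · exact (paqb hG 2 997 2 1 (by norm_num) (by norm_num) (by rw [hn]; norm_num)).elim
  · exact (paqb hG 3989 2 1 0 (by norm_num) (by norm_num) (by rw [hn]; norm_num)).elim
  · exact (two_odd hG 1995 (by decide) (by rw [hn])).elim
  · exact (paqb hG 13 307 1 1 (by norm_num) (by norm_num) (by rw [hn]; norm_num)).elim
  · exact (paqb hG 2 499 3 1 (by norm_num) (by norm_num) (by rw [hn]; norm_num)).elim
  · exact (paqb hG 3 11 1 3 (by norm_num) (by norm_num) (by rw [hn]; norm_num)).elim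
  · exact (paqb hG 2 1997 1 1 (by norm_num) (by norm_num) (by rw [hn]; norm_num)).elim
  · exact (block_kill hG (fun _ => true) (fun _ => rfl) 5 799 79 (hp := ⟨by norm_num⟩) (by norm_num) (by norm_num) (by rw [hn]) (by norm_num) (by norm_num) (by decide)).elim
  · exact (block_kill hG (fun _ => true) (fun _ => rfl) 37 108 79 (hp := ⟨by norm_num⟩) (by norm_num) (by norm_num) (by rw [hn]) (by norm_num) (by norm_num) (by decide)).elim
  · exact (paqb hG 7 571 1 1 (by norm_num) (by norm_num) (by rw [hn]; norm_num)).elim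
  · exact (paqb hG 2 1999 1 1 (by norm_num) (by norm_num) (by rw [hn]; norm_num)).elim
  · exact (block_kill hG (fun _ => true) (fun _ => rfl) 3 1333 79 (hp := ⟨by norm_num⟩) (by norm_num) (by norm_num) (by rw [hn]) (by norm_num) (by norm_num) (by decide)).elim
  · exact (paqb hG 2 5 5 3 (by norm_num) (by norm_num) (by rw [hn]; norm_num)).elim
  · exact (paqb hG 4001 2 1 0 (by norm_num) (by norm_num) (by rw [hn]; norm_num)).elim
  · exact (two_odd hG 2001 (by decide) (by rw [hn])).elim
  · exact (paqb hG 4003 2 1 0 (by norm_num) (by norm_num) (by rw [hn]; norm_num)).elim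
  · exact (block_kill hG (fun _ => true) (fun _ => rfl) 11 364 79 (hp := ⟨by norm_num⟩) (by norm_num) (by norm_num) (by rw [hn]) (by norm_num) (by norm_num) (by decide)).elim
  · exact (block_kill hG (fun _ => true) (fun _ => rfl) 5 801 79 (hp := ⟨by norm_num⟩) (by norm_num) (by norm_num) (by rw [hn]) (by norm_num) (by norm_num) (by decide)).elim
  · exact (paqb hG 2 2003 1 1 (by norm_num) (by norm_num) (by rw [hn]; norm_num)).elim
  · exact (paqb hG 4007 2 1 0 (by norm_num) (by norm_num) (by rw [hn]; norm_num)).elim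
  · exact (block_kill hG (fun _ => true) (fun _ => rfl) 167 24 79 (hp := ⟨by norm_num⟩) (by norm_num) (by norm_num) (by rw [hn]) (by norm_num) (by norm_num) (by decide)).elim
  · exact (paqb hG 19 211 1 1 (by norm_num) (by norm_num) (by rw [hn]; norm_num)).elim
  · exact (two_odd hG 2005 (by decide) (by rw [hn])).elim
  · exact (block_kill hG (fun _ => true) (fun _ => rfl) 3 1337 79 (hp := ⟨by norm_num⟩) (by norm_num) (by norm_num) (by rw [hn]) (by norm_num) (by norm_num) (by decide)).elim
  · exact (block_kill hG (fun _ => true) (fun _ => rfl) 17 236 79 (hp := ⟨by norm_num⟩) (by norm_num) (by norm_num) (by rw [hn]) (by norm_num) (by norm_num) (by decide)).elim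
  · exact (paqb hG 4013 2 1 0 (by norm_num) (by norm_num) (by rw [hn]; norm_num)).elim
  · exact (two_odd hG 2007 (by decide) (by rw [hn])).elim
  · exact (block_kill hG (fun _ => true) (fun _ => rfl) 5 803 79 (hp := ⟨by norm_num⟩) (by norm_num) (by norm_num) (by rw [hn]) (by norm_num) (by norm_num) (by decide)).elim
  · exact (paqb hG 2 251 4 1 (by norm_num) (by norm_num) (by rw [hn]; norm_num)).elim
  · exact (block_kill hG (fun _ => true) (fun _ => rfl) 3 1339 79 (hp := ⟨by norm_num⟩) (by norm_num) (by norm_num) (by rw [hn]) (by norm_num) (by norm_num) (by decide)).elim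
  · exact (two_odd hG 2009 (by decide) (by rw [hn])).elim
  · exact (paqb hG 4019 2 1 0 (by norm_num) (by norm_num) (by rw [hn]; norm_num)).elim
  · exact (block_kill hG (fun _ => true) (fun _ => rfl) 67 60 79 (hp := ⟨by norm_num⟩) (by norm_num) (by norm_num) (by rw [hn]) (by norm_num) (by norm_num) (by decide)).elim
  · exact (paqb hG 4021 2 1 0 (by norm_num) (by norm_num) (by rw [hn]; norm_num)).elim
  · exact (paqb hG 2 2011 1 1 (by norm_num) (by norm_num) (by rw [hn]; norm_num)).elim
  · exact (paqb hG 3 149 3 1 (by norm_num) (by norm_num) (by rw [hn]; norm_num)).elim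
  · exact (paqb hG 2 503 3 1 (by norm_num) (by norm_num) (by rw [hn]; norm_num)).elim
  · exact (block_kill hG (fun _ => true) (fun _ => rfl) 7 575 79 (hp := ⟨by norm_num⟩) (by norm_num) (by norm_num) (by rw [hn]) (by norm_num) (by norm_num) (by decide)).elim
  · exact (two_odd hG 2013 (by decide) (by rw [hn])).elim
  · exact (paqb hG 4027 2 1 0 (by norm_num) (by norm_num) (by rw [hn]; norm_num)).elim
  · exact (block_kill hG (fun _ => true) (fun _ => rfl) 19 212 79 (hp := ⟨by norm_num⟩) (by norm_num) (by norm_num) (by rw [hn]) (by norm_num) (by norm_num) (by decide)).elim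
  · exact (block_kill hG (fun _ => true) (fun _ => rfl) 3 1343 79 (hp := ⟨by norm_num⟩) (by norm_num) (by norm_num) (by rw [hn]) (by norm_num) (by norm_num) (by decide)).elim
  · exact (two_odd hG 2015 (by decide) (by rw [hn])).elim
  · exact (paqb hG 29 139 1 1 (by norm_num) (by norm_num) (by rw [hn]; norm_num)).elim
  · exact (Cfsg.Agent.S0976.result hn).elim
  · exact (paqb hG 37 109 1 1 (by norm_num) (by norm_num) (by rw [hn]; norm_num)).elim
  · exact (paqb hG 2 2017 1 1 (by norm_num) (by norm_num) (by rw [hn]; norm_num)).elim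
  · exact (block_kill hG (fun _ => true) (fun _ => rfl) 3 1345 79 (hp := ⟨by norm_num⟩) (by norm_num) (by norm_num) (by rw [hn]) (by norm_num) (by norm_num) (by decide)).elim
  · exact (paqb hG 2 1009 2 1 (by norm_num) (by norm_num) (by rw [hn]; norm_num)).elim
  · exact (paqb hG 11 367 1 1 (by norm_num) (by norm_num) (by rw [hn]; norm_num)).elim
  · exact (two_odd hG 2019 (by decide) (by rw [hn])).elim
  · exact (paqb hG 7 577 1 1 (by norm_num) (by norm_num) (by rw [hn]; norm_num)).elim
  · exact (block_kill hG (fun _ => true) (fun _ => rfl) 101 40 79 (hp := ⟨by norm_num⟩) (by norm_num) (by norm_num) (by rw [hn]) (by norm_num) (by norm_num) (by decide)).elim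

end Cfsg.Agent.Lib.Helper6.OrdL
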