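import Mathlib
import Cfsg.Agent.Lib.Helper6.OrdL2

/-!
# Orders of non-abelian simple groups between 4040 and 4240 (generated)
-/

set_option autoImplicit false
set_option maxHeartbeats 4000000
set_option maxRecDepth 1000000

namespace Cfsg.Agent.Lib.Helper6.OrdL

open Cfsg.Agent.Lib.Helper9.SmallOrd

variable {G : Type*} [Group G] [Finite G] [IsSimpleGroup G]

theorem sweep_4040_4240 (hG : ¬ IsMulCommutative G) (n : ℕ) (hn : Nat.card G = n) (h1 : 4040 < n)
    (h2 : n ≤ 4240) : n = 4080 ∨ n = 5616 ∨ n = 6048 ∨ n = 6072 := by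
  interval_cases n
  · exact (paqb hG 3 449 2 1 (by norm_num) (by norm_num) (by rw [hn]; norm_num)).elim
  · exact (two_odd hG 2021 (by decide) (by rw [hn])).elim
  · exact (paqb hG 13 311 1 1 (by norm_num) (by norm_num) (by rw [hn]; norm_num)).elim
  · exact (block_kill hG (fun _ => true) (fun _ => rfl) 337 12 79 (hp := ⟨by norm_num⟩) (by norm_num) (by norm_num) (by rw [hn]) (by norm_num) (by norm_num) (by decide)).elim
  · exact (paqb hG 5 809 1 1 (by norm_num) (by norm_num) (by rw [hn]; norm_num)).elim
  · exact (two_odd hG 2023 (by decide) (by rw [hn])).elim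
  · exact (block_kill hG (fun _ => true) (fun _ => rfl) 3 1349 79 (hp := ⟨by norm_num⟩) (by norm_num) (by norm_num) (by rw [hn]) (by norm_num) (by norm_num) (by decide)).elim
  · exact (block_kill hG (fun _ => true) (fun _ => rfl) 23 176 79 (hp := ⟨by norm_num⟩) (by norm_num) (by norm_num) (by rw [hn]) (by norm_num) (by norm_num) (by decide)).elim
  · exact (paqb hG 4049 2 1 0 (by norm_num) (by norm_num) (by rw [hn]; norm_num)).elim
  · exact (two_odd hG 2025 (by decide) (by rw [hn])).elim
  · exact (paqb hG 4051 2 1 0 (by norm_num) (by norm_num) (by rw [hn]; norm_num)).elim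
  · exact (paqb hG 2 1013 2 1 (by norm_num) (by norm_num) (by rw [hn]; norm_num)).elim
  · exact (block_kill hG (fun _ => true) (fun _ => rfl) 3 1351 79 (hp := ⟨by norm_num⟩) (by norm_num) (by norm_num) (by rw [hn]) (by norm_num) (by norm_num) (by decide)).elim
  · exact (paqb hG 2 2027 1 1 (by norm_num) (by norm_num) (by rw [hn]; norm_num)).elim
  · exact (paqb hG 5 811 1 1 (by norm_num) (by norm_num) (by rw [hn]; norm_num)).elim
  · exact (block_kill hG (fun _ => true) (fun _ => rfl) 3 1352 79 (hp := ⟨by norm_num⟩) (by norm_num) (by norm_num) (by rw [hn]) (by norm_num) (by norm_num) (by decide)).elim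
  · exact (paqb hG 4057 2 1 0 (by norm_num) (by norm_num) (by rw [hn]; norm_num)).elim
  · exact (paqb hG 2 2029 1 1 (by norm_num) (by norm_num) (by rw [hn]; norm_num)).elim
  · exact (block_kill hG (fun _ => true) (fun _ => rfl) 11 369 79 (hp := ⟨by norm_num⟩) (by norm_num) (by norm_num) (by rw [hn]) (by norm_num) (by norm_num) (by decide)).elim
  · exact (block_kill hG (fun _ => true) (fun _ => rfl) 29 140 79 (hp := ⟨by norm_num⟩) (by norm_num) (by norm_num) (by rw [hn]) (by norm_num) (by norm_num) (by decide)).elim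
  · exact (paqb hG 31 131 1 1 (by norm_num) (by norm_num) (by rw [hn]; norm_num)).elim
  · exact (two_odd hG 2031 (by decide) (by rw [hn])).elim
  · exact (paqb hG 17 239 1 1 (by norm_num) (by norm_num) (by rw [hn]; norm_num)).elim
  · exact (paqb hG 2 127 5 1 (by norm_num) (by norm_num) (by rw [hn]; norm_num)).elim
  · exact (block_kill hG (fun _ => true) (fun _ => rfl) 3 1355 79 (hp := ⟨by norm_num⟩) (by norm_num) (by norm_num) (by rw [hn]) (by norm_num) (by norm_num) (by decide)).elim
  · exact (two_odd hG 2033 (by decide) (by rw [hn])).elim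
  · exact (paqb hG 7 83 2 1 (by norm_num) (by norm_num) (by rw [hn]; norm_num)).elim
  · exact (block_kill hG (fun _ => true) (fun _ => rfl) 113 36 79 (hp := ⟨by norm_num⟩) (by norm_num) (by norm_num) (by rw [hn]) (by norm_num) (by norm_num) (by decide)).elim
  · exact (paqb hG 13 313 1 1 (by norm_num) (by norm_num) (by rw [hn]; norm_num)).elim
  · exact (two_odd hG 2035 (by decide) (by rw [hn])).elim
  · exact (block_kill hG (fun _ => true) (fun _ => rfl) 3 1357 79 (hp := ⟨by norm_num⟩) (by norm_num) (by norm_num) (by rw [hn]) (by norm_num) (by norm_num) (by decide)).elim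
  · exact (paqb hG 2 509 3 1 (by norm_num) (by norm_num) (by rw [hn]; norm_num)).elim
  · exact (paqb hG 4073 2 1 0 (by norm_num) (by norm_num) (by rw [hn]; norm_num)).elim
  · exact (two_odd hG 2037 (by decide) (by rw [hn])).elim
  · exact (paqb hG 5 163 2 1 (by norm_num) (by norm_num) (by rw [hn]; norm_num)).elim
  · exact (paqb hG 2 1019 2 1 (by norm_num) (by norm_num) (by rw [hn]; norm_num)).elim
  · exact (paqb hG 3 151 3 1 (by norm_num) (by norm_num) (by rw [hn]; norm_num)).elim
  · exact (paqb hG 2 2039 1 1 (by norm_num) (by norm_num) (by rw [hn]; norm_num)).elim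
  · exact (paqb hG 4079 2 1 0 (by norm_num) (by norm_num) (by rw [hn]; norm_num)).elim
  · simp
  · exact (block_kill hG (fun _ => true) (fun _ => rfl) 7 583 79 (hp := ⟨by norm_num⟩) (by norm_num) (by norm_num) (by rw [hn]) (by norm_num) (by norm_num) (by decide)).elim
  · exact (two_odd hG 2041 (by decide) (by rw [hn])).elim
  · exact (paqb hG 3 1361 1 1 (by norm_num) (by norm_num) (by rw [hn]; norm_num)).elim
  · exact (paqb hG 2 1021 2 1 (by norm_num) (by norm_num) (by rw [hn]; norm_num)).elim
  · exact (block_kill hG (fun _ => true) (fun _ => rfl) 5 817 79 (hp := ⟨by norm_num⟩) (by norm_num) (by norm_num) (by rw [hn]) (by norm_num) (by norm_num) (by decide)).elim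
  · exact (two_odd hG 2043 (by decide) (by rw [hn])).elim
  · exact (paqb hG 61 67 1 1 (by norm_num) (by norm_num) (by rw [hn]; norm_num)).elim
  · exact (block_kill hG (fun _ => true) (fun _ => rfl) 7 584 79 (hp := ⟨by norm_num⟩) (by norm_num) (by norm_num) (by rw [hn]) (by norm_num) (by norm_num) (by decide)).elim
  · exact (block_kill hG (fun _ => true) (fun _ => rfl) 3 1363 79 (hp := ⟨by norm_num⟩) (by norm_num) (by norm_num) (by rw [hn]) (by norm_num) (by norm_num) (by decide)).elim
  · exact (two_odd hG 2045 (by decide) (by rw [hn])).elim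
  · exact (paqb hG 4091 2 1 0 (by norm_num) (by norm_num) (by rw [hn]; norm_num)).elim
  · exact (block_kill hG (fun _ => true) (fun _ => rfl) 11 372 79 (hp := ⟨by norm_num⟩) (by norm_num) (by norm_num) (by rw [hn]) (by norm_num) (by norm_num) (by decide)).elim
  · exact (paqb hG 4093 2 1 0 (by norm_num) (by norm_num) (by rw [hn]; norm_num)).elim
  · exact (two_odd hG 2047 (by decide) (by rw [hn])).elim
  · exact (block_kill hG (fun _ => true) (fun _ => rfl) 5 819 79 (hp := ⟨by norm_num⟩) (by norm_num) (by norm_num) (by rw [hn]) (by norm_num) (by norm_num) (by decide)).elim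
  · exact (paqb hG 2 3 12 0 (by norm_num) (by norm_num) (by rw [hn]; norm_num)).elim
  · exact (paqb hG 17 241 1 1 (by norm_num) (by norm_num) (by rw [hn]; norm_num)).elim
  · exact (two_odd hG 2049 (by decide) (by rw [hn])).elim
  · exact (paqb hG 4099 2 1 0 (by norm_num) (by norm_num) (by rw [hn]; norm_num)).elim
  · exact (block_kill hG (fun _ => true) (fun _ => rfl) 41 100 79 (hp := ⟨by norm_num⟩) (by norm_num) (by norm_num) (by rw [hn]) (by norm_num) (by norm_num) (by decide)).elim
  · exact (paqb hG 3 1367 1 1 (by norm_num) (by norm_num) (by rw [hn]; norm_num)).elim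
  · exact (two_odd hG 2051 (by decide) (by rw [hn])).elim
  · exact (paqb hG 11 373 1 1 (by norm_num) (by norm_num) (by rw [hn]; norm_num)).elim
  · exact (block_kill hG (fun _ => true) (fun _ => rfl) 19 216 79 (hp := ⟨by norm_num⟩) (by norm_num) (by norm_num) (by rw [hn]) (by norm_num) (by norm_num) (by decide)).elim
  · exact (paqb hG 5 821 1 1 (by norm_num) (by norm_num) (by rw [hn]; norm_num)).elim
  · exact (paqb hG 2 2053 1 1 (by norm_num) (by norm_num) (by rw [hn]; norm_num)).elim
  · exact (paqb hG 3 37 1 2 (by norm_num) (by norm_num) (by rw [hn]; norm_num)).elim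
  · exact (block_kill hG (fun _ => true) (fun _ => rfl) 79 52 79 (hp := ⟨by norm_num⟩) (by norm_num) (by norm_num) (by rw [hn]) (by norm_num) (by norm_num) (by decide)).elim
  · exact (paqb hG 7 587 1 1 (by norm_num) (by norm_num) (by rw [hn]; norm_num)).elim
  · exact (two_odd hG 2055 (by decide) (by rw [hn])).elim
  · exact (paqb hG 4111 2 1 0 (by norm_num) (by norm_num) (by rw [hn]; norm_num)).elim
  · exact (paqb hG 2 257 4 1 (by norm_num) (by norm_num) (by rw [hn]; norm_num)).elim
  · exact (paqb hG 3 457 2 1 (by norm_num) (by norm_num) (by rw [hn]; norm_num)).elim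
  · exact (two_odd hG 2057 (by decide) (by rw [hn])).elim
  · exact (paqb hG 5 823 1 1 (by norm_num) (by norm_num) (by rw [hn]; norm_num)).elim
  · exact (block_kill hG (fun _ => true) (fun _ => rfl) 3 1372 79 (hp := ⟨by norm_num⟩) (by norm_num) (by norm_num) (by rw [hn]) (by norm_num) (by norm_num) (by decide)).elim
  · exact (paqb hG 23 179 1 1 (by norm_num) (by norm_num) (by rw [hn]; norm_num)).elim
  · exact (two_odd hG 2059 (by decide) (by rw [hn])).elim
  · exact (paqb hG 3 1373 1 1 (by norm_num) (by norm_num) (by rw [hn]; norm_num)).elim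
  · exact (block_kill hG (fun _ => true) (fun _ => rfl) 103 40 79 (hp := ⟨by norm_num⟩) (by norm_num) (by norm_num) (by rw [hn]) (by norm_num) (by norm_num) (by decide)).elim
  · exact (paqb hG 13 317 1 1 (by norm_num) (by norm_num) (by rw [hn]; norm_num)).elim
  · exact (two_odd hG 2061 (by decide) (by rw [hn])).elim
  · exact (block_kill hG (fun _ => true) (fun _ => rfl) 7 589 79 (hp := ⟨by norm_num⟩) (by norm_num) (by norm_num) (by rw [hn]) (by norm_num) (by norm_num) (by decide)).elim
  · exact (paqb hG 2 1031 2 1 (by norm_num) (by norm_num) (by rw [hn]; norm_num)).elim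
  · exact (block_kill hG (fun _ => true) (fun _ => rfl) 3 1375 79 (hp := ⟨by norm_num⟩) (by norm_num) (by norm_num) (by rw [hn]) (by norm_num) (by norm_num) (by decide)).elim
  · exact (paqb hG 2 2063 1 1 (by norm_num) (by norm_num) (by rw [hn]; norm_num)).elim
  · exact (paqb hG 4127 2 1 0 (by norm_num) (by norm_num) (by rw [hn]; norm_num)).elim
  · exact (block_kill hG (fun _ => true) (fun _ => rfl) 43 96 79 (hp := ⟨by norm_num⟩) (by norm_num) (by norm_num) (by rw [hn]) (by norm_num) (by norm_num) (by decide)).elim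
  · exact (paqb hG 4129 2 1 0 (by norm_num) (by norm_num) (by rw [hn]; norm_num)).elim
  · exact (two_odd hG 2065 (by decide) (by rw [hn])).elim
  · exact (paqb hG 3 17 5 1 (by norm_num) (by norm_num) (by rw [hn]; norm_num)).elim
  · exact (paqb hG 2 1033 2 1 (by norm_num) (by norm_num) (by rw [hn]; norm_num)).elim
  · exact (paqb hG 4133 2 1 0 (by norm_num) (by norm_num) (by rw [hn]; norm_num)).elim
  · exact (two_odd hG 2067 (by decide) (by rw [hn])).elim
  · exact (paqb hG 5 827 1 1 (by norm_num) (by norm_num) (by rw [hn]; norm_num)).elim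
  · exact (block_kill hG (fun _ => true) (fun _ => rfl) 47 88 79 (hp := ⟨by norm_num⟩) (by norm_num) (by norm_num) (by rw [hn]) (by norm_num) (by norm_num) (by decide)).elim
  · exact (block_kill hG (fun _ => true) (fun _ => rfl) 3 1379 79 (hp := ⟨by norm_num⟩) (by norm_num) (by norm_num) (by rw [hn]) (by norm_num) (by norm_num) (by decide)).elim
  · exact (paqb hG 2 2069 1 1 (by norm_num) (by norm_num) (by rw [hn]; norm_num)).elim
  · exact (paqb hG 4139 2 1 0 (by norm_num) (by norm_num) (by rw [hn]; norm_num)).elim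
  · exact (block_kill hG (fun _ => true) (fun _ => rfl) 23 180 79 (hp := ⟨by norm_num⟩) (by norm_num) (by norm_num) (by rw [hn]) (by norm_num) (by norm_num) (by decide)).elim
  · exact (paqb hG 41 101 1 1 (by norm_num) (by norm_num) (by rw [hn]; norm_num)).elim
  · exact (two_odd hG 2071 (by decide) (by rw [hn])).elim
  · exact (paqb hG 3 1381 1 1 (by norm_num) (by norm_num) (by rw [hn]; norm_num)).elim
  · exact (block_kill hG (fun _ => true) (fun _ => rfl) 37 112 79 (hp := ⟨by norm_num⟩) (by norm_num) (by norm_num) (by rw [hn]) (by norm_num) (by norm_num) (by decide)).elim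
  · exact (paqb hG 5 829 1 1 (by norm_num) (by norm_num) (by rw [hn]; norm_num)).elim
  · exact (two_odd hG 2073 (by decide) (by rw [hn])).elim
  · exact (block_kill hG (fun _ => true) (fun _ => rfl) 11 377 79 (hp := ⟨by norm_num⟩) (by norm_num) (by norm_num) (by rw [hn]) (by norm_num) (by norm_num) (by decide)).elim
  · exact (block_kill hG (fun _ => true) (fun _ => rfl) 17 244 79 (hp := ⟨by norm_num⟩) (by norm_num) (by norm_num) (by rw [hn]) (by norm_num) (by norm_num) (by decide)).elim
  · exact (paqb hG 3 461 2 1 (by norm_num) (by norm_num) (by rw [hn]; norm_num)).elim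
  · exact (two_odd hG 2075 (by decide) (by rw [hn])).elim
  · exact (paqb hG 7 593 1 1 (by norm_num) (by norm_num) (by rw [hn]; norm_num)).elim
  · exact (block_kill hG (fun _ => true) (fun _ => rfl) 173 24 79 (hp := ⟨by norm_num⟩) (by norm_num) (by norm_num) (by rw [hn]) (by norm_num) (by norm_num) (by decide)).elim
  · exact (paqb hG 4153 2 1 0 (by norm_num) (by norm_num) (by rw [hn]; norm_num)).elim
  · exact (two_odd hG 2077 (by decide) (by rw [hn])).elim
  · exact (block_kill hG (fun _ => true) (fun _ => rfl) 3 1385 79 (hp := ⟨by norm_num⟩) (by norm_num) (by norm_num) (by rw [hn]) (by norm_num) (by norm_num) (by decide)).elim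
  · exact (paqb hG 2 1039 2 1 (by norm_num) (by norm_num) (by rw [hn]; norm_num)).elim
  · exact (paqb hG 4157 2 1 0 (by norm_num) (by norm_num) (by rw [hn]; norm_num)).elim
  · exact (two_odd hG 2079 (by decide) (by rw [hn])).elim
  · exact (paqb hG 4159 2 1 0 (by norm_num) (by norm_num) (by rw [hn]; norm_num)).elim
  · exact (block_kill hG (fun _ => true) (fun _ => rfl) 13 320 79 (hp := ⟨by norm_num⟩) (by norm_num) (by norm_num) (by rw [hn]) (by norm_num) (by norm_num) (by decide)).elim
  · exact (block_kill hG (fun _ => true) (fun _ => rfl) 3 1387 79 (hp := ⟨by norm_num⟩) (by norm_num) (by norm_num) (by rw [hn]) (by norm_num) (by norm_num) (by decide)).elim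
  · exact (paqb hG 2 2081 1 1 (by norm_num) (by norm_num) (by rw [hn]; norm_num)).elim
  · exact (paqb hG 23 181 1 1 (by norm_num) (by norm_num) (by rw [hn]; norm_num)).elim
  · exact (block_kill hG (fun _ => true) (fun _ => rfl) 347 12 79 (hp := ⟨by norm_num⟩) (by norm_num) (by norm_num) (by rw [hn]) (by norm_num) (by norm_num) (by decide)).elim
  · exact (block_kill hG (fun _ => true) (fun _ => rfl) 5 833 79 (hp := ⟨by norm_num⟩) (by norm_num) (by norm_num) (by rw [hn]) (by norm_num) (by norm_num) (by decide)).elim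
  · exact (paqb hG 2 2083 1 1 (by norm_num) (by norm_num) (by rw [hn]; norm_num)).elim
  · exact (paqb hG 3 463 2 1 (by norm_num) (by norm_num) (by rw [hn]; norm_num)).elim
  · exact (paqb hG 2 521 3 1 (by norm_num) (by norm_num) (by rw [hn]; norm_num)).elim
  · exact (paqb hG 11 379 1 1 (by norm_num) (by norm_num) (by rw [hn]; norm_num)).elim
  · exact (two_odd hG 2085 (by decide) (by rw [hn])).elim
  · exact (paqb hG 43 97 1 1 (by norm_num) (by norm_num) (by rw [hn]; norm_num)).elim
  · exact (block_kill hG (fun _ => true) (fun _ => rfl) 7 596 79 (hp := ⟨by norm_num⟩) (by norm_num) (by norm_num) (by rw [hn]) (by norm_num) (by norm_num) (by decide)).elim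
  · exact (block_kill hG (fun _ => true) (fun _ => rfl) 3 1391 79 (hp := ⟨by norm_num⟩) (by norm_num) (by norm_num) (by rw [hn]) (by norm_num) (by norm_num) (by decide)).elim
  · exact (paqb hG 2 2087 1 1 (by norm_num) (by norm_num) (by rw [hn]; norm_num)).elim
  · exact (paqb hG 5 167 2 1 (by norm_num) (by norm_num) (by rw [hn]; norm_num)).elim
  · exact (block_kill hG (fun _ => true) (fun _ => rfl) 29 144 79 (hp := ⟨by norm_num⟩) (by norm_num) (by norm_num) (by rw [hn]) (by norm_num) (by norm_num) (by decide)).elim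
  · exact (paqb hG 4177 2 1 0 (by norm_num) (by norm_num) (by rw [hn]; norm_num)).elim
  · exact (paqb hG 2 2089 1 1 (by norm_num) (by norm_num) (by rw [hn]; norm_num)).elim
  · exact (block_kill hG (fun _ => true) (fun _ => rfl) 3 1393 79 (hp := ⟨by norm_num⟩) (by norm_num) (by norm_num) (by rw [hn]) (by norm_num) (by norm_num) (by decide)).elim
  · exact (block_kill hG (fun _ => true) (fun _ => rfl) 5 836 79 (hp := ⟨by norm_num⟩) (by norm_num) (by norm_num) (by rw [hn]) (by norm_num) (by norm_num) (by decide)).elim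
  · exact (paqb hG 37 113 1 1 (by norm_num) (by norm_num) (by rw [hn]; norm_num)).elim
  · exact (two_odd hG 2091 (by decide) (by rw [hn])).elim
  · exact (paqb hG 47 89 1 1 (by norm_num) (by norm_num) (by rw [hn]; norm_num)).elim
  · exact (paqb hG 2 523 3 1 (by norm_num) (by norm_num) (by rw [hn]; norm_num)).elim
  · exact (block_kill hG (fun _ => true) (fun _ => rfl) 5 837 79 (hp := ⟨by norm_num⟩) (by norm_num) (by norm_num) (by rw [hn]) (by norm_num) (by norm_num) (by decide)).elim
  · exact (two_odd hG 2093 (by decide) (by rw [hn])).elim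
  · exact (paqb hG 53 79 1 1 (by norm_num) (by norm_num) (by rw [hn]; norm_num)).elim
  · exact (block_kill hG (fun _ => true) (fun _ => rfl) 349 12 79 (hp := ⟨by norm_num⟩) (by norm_num) (by norm_num) (by rw [hn]) (by norm_num) (by norm_num) (by decide)).elim
  · exact (paqb hG 59 71 1 1 (by norm_num) (by norm_num) (by rw [hn]; norm_num)).elim
  · exact (two_odd hG 2095 (by decide) (by rw [hn])).elim
  · exact (block_kill hG (fun _ => true) (fun _ => rfl) 3 1397 79 (hp := ⟨by norm_num⟩) (by norm_num) (by norm_num) (by rw [hn]) (by norm_num) (by norm_num) (by decide)).elim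
  · exact (paqb hG 2 131 5 1 (by norm_num) (by norm_num) (by rw [hn]; norm_num)).elim
  · exact (paqb hG 7 599 1 1 (by norm_num) (by norm_num) (by rw [hn]; norm_num)).elim
  · exact (two_odd hG 2097 (by decide) (by rw [hn])).elim
  · exact (paqb hG 5 839 1 1 (by norm_num) (by norm_num) (by rw [hn]; norm_num)).elim
  · exact (paqb hG 2 1049 2 1 (by norm_num) (by norm_num) (by rw [hn]; norm_num)).elim
  · exact (paqb hG 3 1399 1 1 (by norm_num) (by norm_num) (by rw [hn]; norm_num)).elim
  · exact (paqb hG 2 2099 1 1 (by norm_num) (by norm_num) (by rw [hn]; norm_num)).elim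
  · exact (block_kill hG (fun _ => true) (fun _ => rfl) 13 323 79 (hp := ⟨by norm_num⟩) (by norm_num) (by norm_num) (by rw [hn]) (by norm_num) (by norm_num) (by decide)).elim
  · exact (block_kill hG (fun _ => true) (fun _ => rfl) 7 600 79 (hp := ⟨by norm_num⟩) (by norm_num) (by norm_num) (by rw [hn]) (by norm_num) (by norm_num) (by decide)).elim
  · exact (paqb hG 4201 2 1 0 (by norm_num) (by norm_num) (by rw [hn]; norm_num)).elim
  · exact (two_odd hG 2101 (by decide) (by rw [hn])).elim
  · exact (paqb hG 3 467 2 1 (by norm_num) (by norm_num) (by rw [hn]; norm_num)).elim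
  · exact (paqb hG 2 1051 2 1 (by norm_num) (by norm_num) (by rw [hn]; norm_num)).elim
  · exact (paqb hG 5 29 1 2 (by norm_num) (by norm_num) (by rw [hn]; norm_num)).elim
  · exact (two_odd hG 2103 (by decide) (by rw [hn])).elim
  · exact (paqb hG 7 601 1 1 (by norm_num) (by norm_num) (by rw [hn]; norm_num)).elim
  · exact (paqb hG 2 263 4 1 (by norm_num) (by norm_num) (by rw [hn]; norm_num)).elim
  · exact (block_kill hG (fun _ => true) (fun _ => rfl) 3 1403 79 (hp := ⟨by norm_num⟩) (by norm_num) (by norm_num) (by rw [hn]) (by norm_num) (by norm_num) (by decide)).elim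
  · exact (two_odd hG 2105 (by decide) (by rw [hn])).elim
  · exact (paqb hG 4211 2 1 0 (by norm_num) (by norm_num) (by rw [hn]; norm_num)).elim
  · exact (block_kill hG (fun _ => true) (fun _ => rfl) 13 324 79 (hp := ⟨by norm_num⟩) (by norm_num) (by norm_num) (by rw [hn]) (by norm_num) (by norm_num) (by decide)).elim
  · exact (paqb hG 11 383 1 1 (by norm_num) (by norm_num) (by rw [hn]; norm_num)).elim
  · exact (two_odd hG 2107 (by decide) (by rw [hn])).elim
  · exact (block_kill hG (fun _ => true) (fun _ => rfl) 3 1405 79 (hp := ⟨by norm_num⟩) (by norm_num) (by norm_num) (by rw [hn]) (by norm_num) (by norm_num) (by decide)).elim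
  · exact (block_kill hG (fun _ => true) (fun _ => rfl) 17 248 79 (hp := ⟨by norm_num⟩) (by norm_num) (by norm_num) (by rw [hn]) (by norm_num) (by norm_num) (by decide)).elim
  · exact (paqb hG 4217 2 1 0 (by norm_num) (by norm_num) (by rw [hn]; norm_num)).elim
  · exact (two_odd hG 2109 (by decide) (by rw [hn])).elim
  · exact (paqb hG 4219 2 1 0 (by norm_num) (by norm_num) (by rw [hn]; norm_num)).elim
  · exact (block_kill hG (fun _ => true) (fun _ => rfl) 211 20 79 (hp := ⟨by norm_num⟩) (by norm_num) (by norm_num) (by rw [hn]) (by norm_num) (by norm_num) (by decide)).elim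
  · exact (block_kill hG (fun _ => true) (fun _ => rfl) 7 603 79 (hp := ⟨by norm_num⟩) (by norm_num) (by norm_num) (by rw [hn]) (by norm_num) (by norm_num) (by decide)).elim
  · exact (paqb hG 2 2111 1 1 (by norm_num) (by norm_num) (by rw [hn]; norm_num)).elim
  · exact (paqb hG 41 103 1 1 (by norm_num) (by norm_num) (by rw [hn]; norm_num)).elim
  · exact (block_kill hG (fun _ => true) (fun _ => rfl) 11 384 79 (hp := ⟨by norm_num⟩) (by norm_num) (by norm_num) (by rw [hn]) (by norm_num) (by norm_num) (by decide)).elim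
  · exact (paqb hG 5 13 2 2 (by norm_num) (by norm_num) (by rw [hn]; norm_num)).elim
  · exact (paqb hG 2 2113 1 1 (by norm_num) (by norm_num) (by rw [hn]; norm_num)).elim
  · exact (paqb hG 3 1409 1 1 (by norm_num) (by norm_num) (by rw [hn]; norm_num)).elim
  · exact (block_kill hG (fun _ => true) (fun _ => rfl) 151 28 79 (hp := ⟨by norm_num⟩) (by norm_num) (by norm_num) (by rw [hn]) (by norm_num) (by norm_num) (by decide)).elim
  · exact (paqb hG 4229 2 1 0 (by norm_num) (by norm_num) (by rw [hn]; norm_num)).elim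
  · exact (two_odd hG 2115 (by decide) (by rw [hn])).elim
  · exact (paqb hG 4231 2 1 0 (by norm_num) (by norm_num) (by rw [hn]; norm_num)).elim
  · exact (paqb hG 2 23 3 2 (by norm_num) (by norm_num) (by rw [hn]; norm_num)).elim
  · exact (block_kill hG (fun _ => true) (fun _ => rfl) 3 1411 79 (hp := ⟨by norm_num⟩) (by norm_num) (by norm_num) (by rw [hn]) (by norm_num) (by norm_num) (by decide)).elim
  · exact (two_odd hG 2117 (by decide) (by rw [hn])).elim
  · exact (block_kill hG (fun _ => true) (fun _ => rfl) 5 847 79 (hp := ⟨by norm_num⟩) (by norm_num) (by norm_num) (by rw [hn]) (by norm_num) (by norm_num) (by decide)).elim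
  · exact (block_kill hG (fun _ => true) (fun _ => rfl) 353 12 79 (hp := ⟨by norm_num⟩) (by norm_num) (by norm_num) (by rw [hn]) (by norm_num) (by norm_num) (by decide)).elim
  · exact (paqb hG 19 223 1 1 (by norm_num) (by norm_num) (by rw [hn]; norm_num)).elim
  · exact (two_odd hG 2119 (by decide) (by rw [hn])).elim
  · exact (paqb hG 3 157 3 1 (by norm_num) (by norm_num) (by rw [hn]; norm_num)).elim
  · exact (block_kill hG (fun _ => true) (fun _ => rfl) 53 80 79 (hp := ⟨by norm_num⟩) (by norm_num) (by norm_num) (by rw [hn]) (by norm_num) (by norm_num) (by decide)).elim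

end Cfsg.Agent.Lib.Helper6.OrdL
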