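import Mathlib
import Cfsg.Agent.Lib.Helper6.OrdL2
import Cfsg.Agent.Lib.Helper9.SmallOrd2
import Cfsg.Agent.S0977

/-!
# Orders of non-abelian simple groups between 4240 and 4440 (generated)
-/

set_option autoImplicit false
set_option maxHeartbeats 4000000
set_option maxRecDepth 1000000

namespace Cfsg.Agent.Lib.Helper6.OrdL

open Cfsg.Agent.Lib.Helper9.SmallOrd

variable {G : Type*} [Group G] [Finite G] [IsSimpleGroup G]

theorem sweep_4240_4440 (hG : ¬ IsMulCommutative G) (n : ℕ) (hn : Nat.card G = n) (h1 : 4240 < n)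
    (h2 : n ≤ 4440) : n = 4080 ∨ n = 5616 ∨ n = 6048 ∨ n = 6072 := by
  interval_cases n
  · exact (paqb hG 4241 2 1 0 (by norm_num) (by norm_num) (by rw [hn]; norm_num)).elim
  · exact (two_odd hG 2121 (by decide) (by rw [hn])).elim
  · exact (paqb hG 4243 2 1 0 (by norm_num) (by norm_num) (by rw [hn]; norm_num)).elim
  · exact (paqb hG 2 1061 2 1 (by norm_num) (by norm_num) (by rw [hn]; norm_num)).elim
  · exact (block_kill hG (fun _ => true) (fun _ => rfl) 3 1415 79 (hp := ⟨by norm_num⟩) (by norm_num) (by norm_num) (by rw [hn]) (by norm_num) (by norm_num) (by decide)).elim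
  · exact (two_odd hG 2123 (by decide) (by rw [hn])).elim
  · exact (paqb hG 31 137 1 1 (by norm_num) (by norm_num) (by rw [hn]; norm_num)).elim
  · exact (block_kill hG (fun _ => true) (fun _ => rfl) 59 72 79 (hp := ⟨by norm_num⟩) (by norm_num) (by norm_num) (by rw [hn]) (by norm_num) (by norm_num) (by decide)).elim
  · exact (paqb hG 7 607 1 1 (by norm_num) (by norm_num) (by rw [hn]; norm_num)).elim
  · exact (two_odd hG 2125 (by decide) (by rw [hn])).elim
  · exact (block_kill hG (fun _ => true) (fun _ => rfl) 3 1417 79 (hp := ⟨by norm_num⟩) (by norm_num) (by norm_num) (by rw [hn]) (by norm_num) (by norm_num) (by decide)).elim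
  · exact (paqb hG 2 1063 2 1 (by norm_num) (by norm_num) (by rw [hn]; norm_num)).elim
  · exact (paqb hG 4253 2 1 0 (by norm_num) (by norm_num) (by rw [hn]; norm_num)).elim
  · exact (two_odd hG 2127 (by decide) (by rw [hn])).elim
  · exact (block_kill hG (fun _ => true) (fun _ => rfl) 5 851 79 (hp := ⟨by norm_num⟩) (by norm_num) (by norm_num) (by rw [hn]) (by norm_num) (by norm_num) (by decide)).elim
  · exact (block_kill hG (fun _ => true) (fun _ => rfl) 7 608 79 (hp := ⟨by norm_num⟩) (by norm_num) (by norm_num) (by rw [hn]) (by norm_num) (by norm_num) (by decide)).elim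
  · exact (block_kill hG (fun _ => true) (fun _ => rfl) 11 387 79 (hp := ⟨by norm_num⟩) (by norm_num) (by norm_num) (by rw [hn]) (by norm_num) (by norm_num) (by decide)).elim
  · exact (paqb hG 2 2129 1 1 (by norm_num) (by norm_num) (by rw [hn]; norm_num)).elim
  · exact (paqb hG 4259 2 1 0 (by norm_num) (by norm_num) (by rw [hn]; norm_num)).elim
  · exact (block_kill hG (fun _ => true) (fun _ => rfl) 71 60 79 (hp := ⟨by norm_num⟩) (by norm_num) (by norm_num) (by rw [hn]) (by norm_num) (by norm_num) (by decide)).elim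
  · exact (paqb hG 4261 2 1 0 (by norm_num) (by norm_num) (by rw [hn]; norm_num)).elim
  · exact (paqb hG 2 2131 1 1 (by norm_num) (by norm_num) (by rw [hn]; norm_num)).elim
  · exact (block_kill hG (fun _ => true) (fun _ => rfl) 3 1421 79 (hp := ⟨by norm_num⟩) (by norm_num) (by norm_num) (by rw [hn]) (by norm_num) (by norm_num) (by decide)).elim
  · exact (block_kill hG (fun _ => true) (fun _ => rfl) 13 328 79 (hp := ⟨by norm_num⟩) (by norm_num) (by norm_num) (by rw [hn]) (by norm_num) (by norm_num) (by decide)).elim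
  · exact (paqb hG 5 853 1 1 (by norm_num) (by norm_num) (by rw [hn]; norm_num)).elim
  · exact (two_odd hG 2133 (by decide) (by rw [hn])).elim
  · exact (paqb hG 17 251 1 1 (by norm_num) (by norm_num) (by rw [hn]; norm_num)).elim
  · exact (block_kill hG (fun _ => true) (fun _ => rfl) 11 388 79 (hp := ⟨by norm_num⟩) (by norm_num) (by norm_num) (by rw [hn]) (by norm_num) (by norm_num) (by decide)).elim
  · exact (paqb hG 3 1423 1 1 (by norm_num) (by norm_num) (by rw [hn]; norm_num)).elim
  · exact (two_odd hG 2135 (by decide) (by rw [hn])).elim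
  · exact (paqb hG 4271 2 1 0 (by norm_num) (by norm_num) (by rw [hn]; norm_num)).elim
  · exact (block_kill hG (fun _ => true) (fun _ => rfl) 89 48 79 (hp := ⟨by norm_num⟩) (by norm_num) (by norm_num) (by rw [hn]) (by norm_num) (by norm_num) (by decide)).elim
  · exact (paqb hG 4273 2 1 0 (by norm_num) (by norm_num) (by rw [hn]; norm_num)).elim
  · exact (paqb hG 2 2137 1 1 (by norm_num) (by norm_num) (by rw [hn]; norm_num)).elim
  · exact (block_kill hG (fun _ => true) (fun _ => rfl) 19 225 79 (hp := ⟨by norm_num⟩) (by norm_num) (by norm_num) (by rw [hn]) (by norm_num) (by norm_num) (by decide)).elim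
  · exact (paqb hG 2 1069 2 1 (by norm_num) (by norm_num) (by rw [hn]; norm_num)).elim
  · exact (block_kill hG (fun _ => true) (fun _ => rfl) 7 611 79 (hp := ⟨by norm_num⟩) (by norm_num) (by norm_num) (by rw [hn]) (by norm_num) (by norm_num) (by decide)).elim
  · exact (two_odd hG 2139 (by decide) (by rw [hn])).elim
  · exact (paqb hG 11 389 1 1 (by norm_num) (by norm_num) (by rw [hn]; norm_num)).elim
  · exact (block_kill hG (fun _ => true) (fun _ => rfl) 5 856 79 (hp := ⟨by norm_num⟩) (by norm_num) (by norm_num) (by rw [hn]) (by norm_num) (by norm_num) (by decide)).elim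
  · exact (paqb hG 3 1427 1 1 (by norm_num) (by norm_num) (by rw [hn]; norm_num)).elim
  · exact (paqb hG 2 2141 1 1 (by norm_num) (by norm_num) (by rw [hn]; norm_num)).elim
  · exact (paqb hG 4283 2 1 0 (by norm_num) (by norm_num) (by rw [hn]; norm_num)).elim
  · exact (block_kill hG (fun _ => true) (fun _ => rfl) 17 252 79 (hp := ⟨by norm_num⟩) (by norm_num) (by norm_num) (by rw [hn]) (by norm_num) (by norm_num) (by decide)).elim
  · exact (paqb hG 5 857 1 1 (by norm_num) (by norm_num) (by rw [hn]; norm_num)).elim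
  · exact (paqb hG 2 2143 1 1 (by norm_num) (by norm_num) (by rw [hn]; norm_num)).elim
  · exact (paqb hG 3 1429 1 1 (by norm_num) (by norm_num) (by rw [hn]; norm_num)).elim
  · exact (paqb hG 2 67 6 1 (by norm_num) (by norm_num) (by rw [hn]; norm_num)).elim
  · exact (paqb hG 4289 2 1 0 (by norm_num) (by norm_num) (by rw [hn]; norm_num)).elim
  · exact (two_odd hG 2145 (by decide) (by rw [hn])).elim
  · exact (paqb hG 7 613 1 1 (by norm_num) (by norm_num) (by rw [hn]; norm_num)).elim
  · exact (block_kill hG (fun _ => true) (fun _ => rfl) 29 148 79 (hp := ⟨by norm_num⟩) (by norm_num) (by norm_num) (by rw [hn]) (by norm_num) (by norm_num) (by decide)).elim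
  · exact (paqb hG 3 53 4 1 (by norm_num) (by norm_num) (by rw [hn]; norm_num)).elim
  · exact (two_odd hG 2147 (by decide) (by rw [hn])).elim
  · exact (paqb hG 5 859 1 1 (by norm_num) (by norm_num) (by rw [hn]; norm_num)).elim
  · exact (block_kill hG (fun _ => true) (fun _ => rfl) 179 24 79 (hp := ⟨by norm_num⟩) (by norm_num) (by norm_num) (by rw [hn]) (by norm_num) (by norm_num) (by decide)).elim
  · exact (paqb hG 4297 2 1 0 (by norm_num) (by norm_num) (by rw [hn]; norm_num)).elim
  · exact (two_odd hG 2149 (by decide) (by rw [hn])).elim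
  · exact (paqb hG 3 1433 1 1 (by norm_num) (by norm_num) (by rw [hn]; norm_num)).elim
  · exact (block_kill hG (fun _ => true) (fun _ => rfl) 43 100 79 (hp := ⟨by norm_num⟩) (by norm_num) (by norm_num) (by rw [hn]) (by norm_num) (by norm_num) (by decide)).elim
  · exact (block_kill hG (fun _ => true) (fun _ => rfl) 11 391 79 (hp := ⟨by norm_num⟩) (by norm_num) (by norm_num) (by rw [hn]) (by norm_num) (by norm_num) (by decide)).elim
  · exact (two_odd hG 2151 (by decide) (by rw [hn])).elim
  · exact (paqb hG 13 331 1 1 (by norm_num) (by norm_num) (by rw [hn]; norm_num)).elim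
  · exact (paqb hG 2 269 4 1 (by norm_num) (by norm_num) (by rw [hn]; norm_num)).elim
  · exact (block_kill hG (fun _ => true) (fun _ => rfl) 3 1435 79 (hp := ⟨by norm_num⟩) (by norm_num) (by norm_num) (by rw [hn]) (by norm_num) (by norm_num) (by decide)).elim
  · exact (paqb hG 2 2153 1 1 (by norm_num) (by norm_num) (by rw [hn]; norm_num)).elim
  · exact (paqb hG 59 73 1 1 (by norm_num) (by norm_num) (by rw [hn]; norm_num)).elim
  · exact (block_kill hG (fun _ => true) (fun _ => rfl) 359 12 79 (hp := ⟨by norm_num⟩) (by norm_num) (by norm_num) (by rw [hn]) (by norm_num) (by norm_num) (by decide)).elim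
  · exact (paqb hG 31 139 1 1 (by norm_num) (by norm_num) (by rw [hn]; norm_num)).elim
  · exact (two_odd hG 2155 (by decide) (by rw [hn])).elim
  · exact (paqb hG 3 479 2 1 (by norm_num) (by norm_num) (by rw [hn]; norm_num)).elim
  · exact (block_kill hG (fun _ => true) (fun _ => rfl) 11 392 79 (hp := ⟨by norm_num⟩) (by norm_num) (by norm_num) (by rw [hn]) (by norm_num) (by norm_num) (by decide)).elim
  · exact (paqb hG 19 227 1 1 (by norm_num) (by norm_num) (by rw [hn]; norm_num)).elim
  · exact (two_odd hG 2157 (by decide) (by rw [hn])).elim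
  · exact (paqb hG 5 863 1 1 (by norm_num) (by norm_num) (by rw [hn]; norm_num)).elim
  · exact (block_kill hG (fun _ => true) (fun _ => rfl) 13 332 79 (hp := ⟨by norm_num⟩) (by norm_num) (by norm_num) (by rw [hn]) (by norm_num) (by norm_num) (by decide)).elim
  · exact (paqb hG 3 1439 1 1 (by norm_num) (by norm_num) (by rw [hn]; norm_num)).elim
  · exact (two_odd hG 2159 (by decide) (by rw [hn])).elim
  · exact (paqb hG 7 617 1 1 (by norm_num) (by norm_num) (by rw [hn]; norm_num)).elim
  · exact (Cfsg.Agent.S0977.result hn).elim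
  · exact (paqb hG 29 149 1 1 (by norm_num) (by norm_num) (by rw [hn]; norm_num)).elim
  · exact (paqb hG 2 2161 1 1 (by norm_num) (by norm_num) (by rw [hn]; norm_num)).elim
  · exact (block_kill hG (fun _ => true) (fun _ => rfl) 3 1441 79 (hp := ⟨by norm_num⟩) (by norm_num) (by norm_num) (by rw [hn]) (by norm_num) (by norm_num) (by decide)).elim
  · exact (block_kill hG (fun _ => true) (fun _ => rfl) 47 92 79 (hp := ⟨by norm_num⟩) (by norm_num) (by norm_num) (by rw [hn]) (by norm_num) (by norm_num) (by decide)).elim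
  · exact (paqb hG 5 173 2 1 (by norm_num) (by norm_num) (by rw [hn]; norm_num)).elim
  · exact (two_odd hG 2163 (by decide) (by rw [hn])).elim
  · exact (paqb hG 4327 2 1 0 (by norm_num) (by norm_num) (by rw [hn]; norm_num)).elim
  · exact (paqb hG 2 541 3 1 (by norm_num) (by norm_num) (by rw [hn]; norm_num)).elim
  · exact (block_kill hG (fun _ => true) (fun _ => rfl) 13 333 79 (hp := ⟨by norm_num⟩) (by norm_num) (by norm_num) (by rw [hn]) (by norm_num) (by norm_num) (by decide)).elim
  · exact (two_odd hG 2165 (by decide) (by rw [hn])).elim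
  · exact (paqb hG 61 71 1 1 (by norm_num) (by norm_num) (by rw [hn]; norm_num)).elim
  · exact (block_kill hG (fun _ => true) (fun _ => rfl) 3 1444 79 (hp := ⟨by norm_num⟩) (by norm_num) (by norm_num) (by rw [hn]) (by norm_num) (by norm_num) (by decide)).elim
  · exact (paqb hG 7 619 1 1 (by norm_num) (by norm_num) (by rw [hn]; norm_num)).elim
  · exact (two_odd hG 2167 (by decide) (by rw [hn])).elim
  · exact (block_kill hG (fun _ => true) (fun _ => rfl) 3 1445 79 (hp := ⟨by norm_num⟩) (by norm_num) (by norm_num) (by rw [hn]) (by norm_num) (by norm_num) (by decide)).elim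
  · exact (paqb hG 2 271 4 1 (by norm_num) (by norm_num) (by rw [hn]; norm_num)).elim
  · exact (paqb hG 4337 2 1 0 (by norm_num) (by norm_num) (by rw [hn]; norm_num)).elim
  · exact (two_odd hG 2169 (by decide) (by rw [hn])).elim
  · exact (paqb hG 4339 2 1 0 (by norm_num) (by norm_num) (by rw [hn]; norm_num)).elim
  · exact (block_kill hG (fun _ => true) (fun _ => rfl) 31 140 79 (hp := ⟨by norm_num⟩) (by norm_num) (by norm_num) (by rw [hn]) (by norm_num) (by norm_num) (by decide)).elim
  · exact (paqb hG 3 1447 1 1 (by norm_num) (by norm_num) (by rw [hn]; norm_num)).elim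
  · exact (two_odd hG 2171 (by decide) (by rw [hn])).elim
  · exact (paqb hG 43 101 1 1 (by norm_num) (by norm_num) (by rw [hn]; norm_num)).elim
  · exact (block_kill hG (fun _ => true) (fun _ => rfl) 181 24 79 (hp := ⟨by norm_num⟩) (by norm_num) (by norm_num) (by rw [hn]) (by norm_num) (by norm_num) (by decide)).elim
  · exact (block_kill hG (fun _ => true) (fun _ => rfl) 5 869 79 (hp := ⟨by norm_num⟩) (by norm_num) (by norm_num) (by rw [hn]) (by norm_num) (by norm_num) (by decide)).elim
  · exact (two_odd hG 2173 (by decide) (by rw [hn])).elim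
  · exact (block_kill hG (fun _ => true) (fun _ => rfl) 7 621 79 (hp := ⟨by norm_num⟩) (by norm_num) (by norm_num) (by rw [hn]) (by norm_num) (by norm_num) (by decide)).elim
  · exact (paqb hG 2 1087 2 1 (by norm_num) (by norm_num) (by rw [hn]; norm_num)).elim
  · exact (paqb hG 4349 2 1 0 (by norm_num) (by norm_num) (by rw [hn]; norm_num)).elim
  · exact (two_odd hG 2175 (by decide) (by rw [hn])).elim
  · exact (paqb hG 19 229 1 1 (by norm_num) (by norm_num) (by rw [hn]; norm_num)).elim
  · exact (paqb hG 2 17 8 1 (by norm_num) (by norm_num) (by rw [hn]; norm_num)).elim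
  · exact (paqb hG 3 1451 1 1 (by norm_num) (by norm_num) (by rw [hn]; norm_num)).elim
  · exact (two_odd hG 2177 (by decide) (by rw [hn])).elim
  · exact (block_kill hG (fun _ => true) (fun _ => rfl) 5 871 79 (hp := ⟨by norm_num⟩) (by norm_num) (by norm_num) (by rw [hn]) (by norm_num) (by norm_num) (by decide)).elim
  · exact (@sylow_kill G _ _ _ 11 ⟨by norm_num⟩ hG 2 36 (by norm_num) (by norm_num) (by rw [hn]; norm_num) (by norm_num) (by decide)).elim
  · exact (paqb hG 4357 2 1 0 (by norm_num) (by norm_num) (by rw [hn]; norm_num)).elim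
  · exact (paqb hG 2 2179 1 1 (by norm_num) (by norm_num) (by rw [hn]; norm_num)).elim
  · exact (paqb hG 3 1453 1 1 (by norm_num) (by norm_num) (by rw [hn]; norm_num)).elim
  · exact (block_kill hG (fun _ => true) (fun _ => rfl) 109 40 79 (hp := ⟨by norm_num⟩) (by norm_num) (by norm_num) (by rw [hn]) (by norm_num) (by norm_num) (by decide)).elim
  · exact (paqb hG 7 89 2 1 (by norm_num) (by norm_num) (by rw [hn]; norm_num)).elim
  · exact (two_odd hG 2181 (by decide) (by rw [hn])).elim
  · exact (paqb hG 4363 2 1 0 (by norm_num) (by norm_num) (by rw [hn]; norm_num)).elim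
  · exact (paqb hG 2 1091 2 1 (by norm_num) (by norm_num) (by rw [hn]; norm_num)).elim
  · exact (block_kill hG (fun _ => true) (fun _ => rfl) 5 873 79 (hp := ⟨by norm_num⟩) (by norm_num) (by norm_num) (by rw [hn]) (by norm_num) (by norm_num) (by decide)).elim
  · exact (two_odd hG 2183 (by decide) (by rw [hn])).elim
  · exact (paqb hG 11 397 1 1 (by norm_num) (by norm_num) (by rw [hn]; norm_num)).elim
  · exact (block_kill hG (fun _ => true) (fun _ => rfl) 13 336 79 (hp := ⟨by norm_num⟩) (by norm_num) (by norm_num) (by rw [hn]) (by norm_num) (by norm_num) (by decide)).elim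
  · exact (paqb hG 17 257 1 1 (by norm_num) (by norm_num) (by rw [hn]; norm_num)).elim
  · exact (two_odd hG 2185 (by decide) (by rw [hn])).elim
  · exact (block_kill hG (fun _ => true) (fun _ => rfl) 3 1457 79 (hp := ⟨by norm_num⟩) (by norm_num) (by norm_num) (by rw [hn]) (by norm_num) (by norm_num) (by decide)).elim
  · exact (paqb hG 2 1093 2 1 (by norm_num) (by norm_num) (by rw [hn]; norm_num)).elim
  · exact (paqb hG 4373 2 1 0 (by norm_num) (by norm_num) (by rw [hn]; norm_num)).elim
  · exact (paqb hG 2 3 1 7 (by norm_num) (by norm_num) (by rw [hn]; norm_num)).elim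
  · exact (paqb hG 5 7 4 1 (by norm_num) (by norm_num) (by rw [hn]; norm_num)).elim
  · exact (paqb hG 2 547 3 1 (by norm_num) (by norm_num) (by rw [hn]; norm_num)).elim
  · exact (paqb hG 3 1459 1 1 (by norm_num) (by norm_num) (by rw [hn]; norm_num)).elim
  · exact (two_odd hG 2189 (by decide) (by rw [hn])).elim
  · exact (paqb hG 29 151 1 1 (by norm_num) (by norm_num) (by rw [hn]; norm_num)).elim
  · exact (block_kill hG (fun _ => true) (fun _ => rfl) 73 60 79 (hp := ⟨by norm_num⟩) (by norm_num) (by norm_num) (by rw [hn]) (by norm_num) (by norm_num) (by decide)).elim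
  · exact (paqb hG 13 337 1 1 (by norm_num) (by norm_num) (by rw [hn]; norm_num)).elim
  · exact (two_odd hG 2191 (by decide) (by rw [hn])).elim
  · exact (paqb hG 3 487 2 1 (by norm_num) (by norm_num) (by rw [hn]; norm_num)).elim
  · exact (paqb hG 2 137 5 1 (by norm_num) (by norm_num) (by rw [hn]; norm_num)).elim
  · exact (paqb hG 5 877 1 1 (by norm_num) (by norm_num) (by rw [hn]; norm_num)).elim
  · exact (two_odd hG 2193 (by decide) (by rw [hn])).elim
  · exact (paqb hG 41 107 1 1 (by norm_num) (by norm_num) (by rw [hn]; norm_num)).elim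
  · exact (paqb hG 2 1097 2 1 (by norm_num) (by norm_num) (by rw [hn]; norm_num)).elim
  · exact (block_kill hG (fun _ => true) (fun _ => rfl) 3 1463 79 (hp := ⟨by norm_num⟩) (by norm_num) (by norm_num) (by rw [hn]) (by norm_num) (by norm_num) (by decide)).elim
  · exact (two_odd hG 2195 (by decide) (by rw [hn])).elim
  · exact (paqb hG 4391 2 1 0 (by norm_num) (by norm_num) (by rw [hn]; norm_num)).elim
  · exact (block_kill hG (fun _ => true) (fun _ => rfl) 61 72 79 (hp := ⟨by norm_num⟩) (by norm_num) (by norm_num) (by rw [hn]) (by norm_num) (by norm_num) (by decide)).elim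
  · exact (paqb hG 23 191 1 1 (by norm_num) (by norm_num) (by rw [hn]; norm_num)).elim
  · exact (paqb hG 2 13 1 3 (by norm_num) (by norm_num) (by rw [hn]; norm_num)).elim
  · exact (block_kill hG (fun _ => true) (fun _ => rfl) 3 1465 79 (hp := ⟨by norm_num⟩) (by norm_num) (by norm_num) (by rw [hn]) (by norm_num) (by norm_num) (by decide)).elim
  · exact (block_kill hG (fun _ => true) (fun _ => rfl) 7 628 79 (hp := ⟨by norm_num⟩) (by norm_num) (by norm_num) (by rw [hn]) (by norm_num) (by norm_num) (by decide)).elim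
  · exact (paqb hG 4397 2 1 0 (by norm_num) (by norm_num) (by rw [hn]; norm_num)).elim
  · exact (two_odd hG 2199 (by decide) (by rw [hn])).elim
  · exact (paqb hG 53 83 1 1 (by norm_num) (by norm_num) (by rw [hn]; norm_num)).elim
  · exact (block_kill hG (fun _ => true) (fun _ => rfl) 11 400 79 (hp := ⟨by norm_num⟩) (by norm_num) (by norm_num) (by rw [hn]) (by norm_num) (by norm_num) (by decide)).elim
  · exact (paqb hG 3 163 3 1 (by norm_num) (by norm_num) (by rw [hn]; norm_num)).elim
  · exact (two_odd hG 2201 (by decide) (by rw [hn])).elim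
  · exact (block_kill hG (fun _ => true) (fun _ => rfl) 7 629 79 (hp := ⟨by norm_num⟩) (by norm_num) (by norm_num) (by rw [hn]) (by norm_num) (by norm_num) (by decide)).elim
  · exact (block_kill hG (fun _ => true) (fun _ => rfl) 367 12 79 (hp := ⟨by norm_num⟩) (by norm_num) (by norm_num) (by rw [hn]) (by norm_num) (by norm_num) (by decide)).elim
  · exact (paqb hG 5 881 1 1 (by norm_num) (by norm_num) (by rw [hn]; norm_num)).elim
  · exact (paqb hG 2 2203 1 1 (by norm_num) (by norm_num) (by rw [hn]; norm_num)).elim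
  · exact (block_kill hG (fun _ => true) (fun _ => rfl) 3 1469 79 (hp := ⟨by norm_num⟩) (by norm_num) (by norm_num) (by rw [hn]) (by norm_num) (by norm_num) (by decide)).elim
  · exact (block_kill hG (fun _ => true) (fun _ => rfl) 29 152 79 (hp := ⟨by norm_num⟩) (by norm_num) (by norm_num) (by rw [hn]) (by norm_num) (by norm_num) (by decide)).elim
  · exact (paqb hG 4409 2 1 0 (by norm_num) (by norm_num) (by rw [hn]; norm_num)).elim
  · exact (two_odd hG 2205 (by decide) (by rw [hn])).elim
  · exact (paqb hG 11 401 1 1 (by norm_num) (by norm_num) (by rw [hn]; norm_num)).elim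
  · exact (paqb hG 2 1103 2 1 (by norm_num) (by norm_num) (by rw [hn]; norm_num)).elim
  · exact (paqb hG 3 1471 1 1 (by norm_num) (by norm_num) (by rw [hn]; norm_num)).elim
  · exact (paqb hG 2 2207 1 1 (by norm_num) (by norm_num) (by rw [hn]; norm_num)).elim
  · exact (paqb hG 5 883 1 1 (by norm_num) (by norm_num) (by rw [hn]; norm_num)).elim
  · exact (block_kill hG (fun _ => true) (fun _ => rfl) 23 192 79 (hp := ⟨by norm_num⟩) (by norm_num) (by norm_num) (by rw [hn]) (by norm_num) (by norm_num) (by decide)).elim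
  · exact (paqb hG 7 631 1 1 (by norm_num) (by norm_num) (by rw [hn]; norm_num)).elim
  · exact (paqb hG 2 47 1 2 (by norm_num) (by norm_num) (by rw [hn]; norm_num)).elim
  · exact (paqb hG 3 491 2 1 (by norm_num) (by norm_num) (by rw [hn]; norm_num)).elim
  · exact (block_kill hG (fun _ => true) (fun _ => rfl) 17 260 79 (hp := ⟨by norm_num⟩) (by norm_num) (by norm_num) (by rw [hn]) (by norm_num) (by norm_num) (by decide)).elim
  · exact (paqb hG 4421 2 1 0 (by norm_num) (by norm_num) (by rw [hn]; norm_num)).elim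
  · exact (two_odd hG 2211 (by decide) (by rw [hn])).elim
  · exact (paqb hG 4423 2 1 0 (by norm_num) (by norm_num) (by rw [hn]; norm_num)).elim
  · exact (block_kill hG (fun _ => true) (fun _ => rfl) 79 56 79 (hp := ⟨by norm_num⟩) (by norm_num) (by norm_num) (by rw [hn]) (by norm_num) (by norm_num) (by decide)).elim
  · exact (block_kill hG (fun _ => true) (fun _ => rfl) 3 1475 79 (hp := ⟨by norm_num⟩) (by norm_num) (by norm_num) (by rw [hn]) (by norm_num) (by norm_num) (by decide)).elim
  · exact (paqb hG 2 2213 1 1 (by norm_num) (by norm_num) (by rw [hn]; norm_num)).elim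
  · exact (paqb hG 19 233 1 1 (by norm_num) (by norm_num) (by rw [hn]; norm_num)).elim
  · exact (block_kill hG (fun _ => true) (fun _ => rfl) 41 108 79 (hp := ⟨by norm_num⟩) (by norm_num) (by norm_num) (by rw [hn]) (by norm_num) (by norm_num) (by decide)).elim
  · exact (paqb hG 43 103 1 1 (by norm_num) (by norm_num) (by rw [hn]; norm_num)).elim
  · exact (two_odd hG 2215 (by decide) (by rw [hn])).elim
  · exact (block_kill hG (fun _ => true) (fun _ => rfl) 3 1477 79 (hp := ⟨by norm_num⟩) (by norm_num) (by norm_num) (by rw [hn]) (by norm_num) (by norm_num) (by decide)).elim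
  · exact (paqb hG 2 277 4 1 (by norm_num) (by norm_num) (by rw [hn]; norm_num)).elim
  · exact (block_kill hG (fun _ => true) (fun _ => rfl) 11 403 79 (hp := ⟨by norm_num⟩) (by norm_num) (by norm_num) (by rw [hn]) (by norm_num) (by norm_num) (by decide)).elim
  · exact (two_odd hG 2217 (by decide) (by rw [hn])).elim
  · exact (paqb hG 5 887 1 1 (by norm_num) (by norm_num) (by rw [hn]; norm_num)).elim
  · exact (paqb hG 2 1109 2 1 (by norm_num) (by norm_num) (by rw [hn]; norm_num)).elim
  · exact (block_kill hG (fun _ => true) (fun _ => rfl) 17 261 79 (hp := ⟨by norm_num⟩) (by norm_num) (by norm_num) (by rw [hn]) (by norm_num) (by norm_num) (by decide)).elim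
  · exact (two_odd hG 2219 (by decide) (by rw [hn])).elim
  · exact (paqb hG 23 193 1 1 (by norm_num) (by norm_num) (by rw [hn]; norm_num)).elim
  · exact (block_kill hG (fun _ => true) (fun _ => rfl) 37 120 79 (hp := ⟨by norm_num⟩) (by norm_num) (by norm_num) (by rw [hn]) (by norm_num) (by norm_num) (by decide)).elim

end Cfsg.Agent.Lib.Helper6.OrdL
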