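import Mathlib
import Cfsg.Agent.Lib.Helper6.OrdL2
import Cfsg.Agent.Lib.Helper6.OrdL4
import Cfsg.Agent.Lib.Helper9.SmallOrd9

/-!
# Orders of non-abelian simple groups between 4440 and 4640 (generated)
-/

set_option autoImplicit false
set_option maxHeartbeats 4000000
set_option maxRecDepth 1000000

namespace Cfsg.Agent.Lib.Helper6.OrdL

open Cfsg.Agent.Lib.Helper9.SmallOrd

variable {G : Type*} [Group G] [Finite G] [IsSimpleGroup G]

theorem sweep_4440_4640 (hG : ¬ IsMulCommutative G) (n : ℕ) (hn : Nat.card G = n) (h1 : 4440 < n)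
    (h2 : n ≤ 4640) : n = 4080 ∨ n = 5616 ∨ n = 6048 ∨ n = 6072 := by
  interval_cases n
  · exact (paqb hG 4441 2 1 0 (by norm_num) (by norm_num) (by rw [hn]; norm_num)).elim
  · exact (paqb hG 2 2221 1 1 (by norm_num) (by norm_num) (by rw [hn]; norm_num)).elim
  · exact (paqb hG 3 1481 1 1 (by norm_num) (by norm_num) (by rw [hn]; norm_num)).elim
  · exact (block_kill hG (fun _ => true) (fun _ => rfl) 11 404 79 (hp := ⟨by norm_num⟩) (by norm_num) (by norm_num) (by rw [hn]) (by norm_num) (by norm_num) (by decide)).elim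
  · exact (block_kill hG (fun _ => true) (fun _ => rfl) 5 889 79 (hp := ⟨by norm_num⟩) (by norm_num) (by norm_num) (by rw [hn]) (by norm_num) (by norm_num) (by decide)).elim
  · exact (two_odd hG 2223 (by decide) (by rw [hn])).elim
  · exact (paqb hG 4447 2 1 0 (by norm_num) (by norm_num) (by rw [hn]; norm_num)).elim
  · exact (paqb hG 2 139 5 1 (by norm_num) (by norm_num) (by rw [hn]; norm_num)).elim
  · exact (paqb hG 3 1483 1 1 (by norm_num) (by norm_num) (by rw [hn]; norm_num)).elim
  · exact (two_odd hG 2225 (by decide) (by rw [hn])).elim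
  · exact (paqb hG 4451 2 1 0 (by norm_num) (by norm_num) (by rw [hn]; norm_num)).elim
  · exact (block_kill hG (fun _ => true) (fun _ => rfl) 53 84 79 (hp := ⟨by norm_num⟩) (by norm_num) (by norm_num) (by rw [hn]) (by norm_num) (by norm_num) (by decide)).elim
  · exact (paqb hG 61 73 1 1 (by norm_num) (by norm_num) (by rw [hn]; norm_num)).elim
  · exact (two_odd hG 2227 (by decide) (by rw [hn])).elim
  · exact (block_kill hG (fun _ => true) (fun _ => rfl) 5 891 79 (hp := ⟨by norm_num⟩) (by norm_num) (by norm_num) (by rw [hn]) (by norm_num) (by norm_num) (by decide)).elim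
  · exact (paqb hG 2 557 3 1 (by norm_num) (by norm_num) (by rw [hn]; norm_num)).elim
  · exact (paqb hG 4457 2 1 0 (by norm_num) (by norm_num) (by rw [hn]; norm_num)).elim
  · exact (two_odd hG 2229 (by decide) (by rw [hn])).elim
  · exact (paqb hG 7 13 3 1 (by norm_num) (by norm_num) (by rw [hn]; norm_num)).elim
  · exact (block_kill hG (fun _ => true) (fun _ => rfl) 223 20 79 (hp := ⟨by norm_num⟩) (by norm_num) (by norm_num) (by rw [hn]) (by norm_num) (by norm_num) (by decide)).elim
  · exact (paqb hG 3 1487 1 1 (by norm_num) (by norm_num) (by rw [hn]; norm_num)).elim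
  · exact (two_odd hG 2231 (by decide) (by rw [hn])).elim
  · exact (paqb hG 4463 2 1 0 (by norm_num) (by norm_num) (by rw [hn]; norm_num)).elim
  · exact (block_kill hG (fun _ => true) (fun _ => rfl) 31 144 79 (hp := ⟨by norm_num⟩) (by norm_num) (by norm_num) (by rw [hn]) (by norm_num) (by norm_num) (by decide)).elim
  · exact (block_kill hG (fun _ => true) (fun _ => rfl) 5 893 79 (hp := ⟨by norm_num⟩) (by norm_num) (by norm_num) (by rw [hn]) (by norm_num) (by norm_num) (by decide)).elim
  · exact (two_odd hG 2233 (by decide) (by rw [hn])).elim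
  · exact (paqb hG 3 1489 1 1 (by norm_num) (by norm_num) (by rw [hn]; norm_num)).elim
  · exact (paqb hG 2 1117 2 1 (by norm_num) (by norm_num) (by rw [hn]; norm_num)).elim
  · exact (paqb hG 41 109 1 1 (by norm_num) (by norm_num) (by rw [hn]; norm_num)).elim
  · exact (two_odd hG 2235 (by decide) (by rw [hn])).elim
  · exact (paqb hG 17 263 1 1 (by norm_num) (by norm_num) (by rw [hn]; norm_num)).elim
  · exact (block_kill hG (fun _ => true) (fun _ => rfl) 13 344 79 (hp := ⟨by norm_num⟩) (by norm_num) (by norm_num) (by rw [hn]) (by norm_num) (by norm_num) (by decide)).elim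
  · exact (block_kill hG (fun _ => true) (fun _ => rfl) 71 63 79 (hp := ⟨by norm_num⟩) (by norm_num) (by norm_num) (by rw [hn]) (by norm_num) (by norm_num) (by decide)).elim
  · exact (paqb hG 2 2237 1 1 (by norm_num) (by norm_num) (by rw [hn]; norm_num)).elim
  · exact (paqb hG 5 179 2 1 (by norm_num) (by norm_num) (by rw [hn]; norm_num)).elim
  · exact (block_kill hG (fun _ => true) (fun _ => rfl) 373 12 79 (hp := ⟨by norm_num⟩) (by norm_num) (by norm_num) (by rw [hn]) (by norm_num) (by norm_num) (by decide)).elim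
  · exact (paqb hG 11 37 2 1 (by norm_num) (by norm_num) (by rw [hn]; norm_num)).elim
  · exact (paqb hG 2 2239 1 1 (by norm_num) (by norm_num) (by rw [hn]; norm_num)).elim
  · exact (paqb hG 3 1493 1 1 (by norm_num) (by norm_num) (by rw [hn]; norm_num)).elim
  · exact (block_kill hG (fun _ => true) (fun _ => rfl) 7 640 79 (hp := ⟨by norm_num⟩) (by norm_num) (by norm_num) (by rw [hn]) (by norm_num) (by norm_num) (by decide)).elim
  · exact (paqb hG 4481 2 1 0 (by norm_num) (by norm_num) (by rw [hn]; norm_num)).elim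
  · exact (two_odd hG 2241 (by decide) (by rw [hn])).elim
  · exact (paqb hG 4483 2 1 0 (by norm_num) (by norm_num) (by rw [hn]; norm_num)).elim
  · exact (block_kill hG (fun _ => true) (fun _ => rfl) 19 236 79 (hp := ⟨by norm_num⟩) (by norm_num) (by norm_num) (by rw [hn]) (by norm_num) (by norm_num) (by decide)).elim
  · exact (block_kill hG (fun _ => true) (fun _ => rfl) 3 1495 79 (hp := ⟨by norm_num⟩) (by norm_num) (by norm_num) (by rw [hn]) (by norm_num) (by norm_num) (by decide)).elim
  · exact (paqb hG 2 2243 1 1 (by norm_num) (by norm_num) (by rw [hn]; norm_num)).elim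
  · exact (paqb hG 7 641 1 1 (by norm_num) (by norm_num) (by rw [hn]; norm_num)).elim
  · exact (block_kill hG (fun _ => true) (fun _ => rfl) 17 264 79 (hp := ⟨by norm_num⟩) (by norm_num) (by norm_num) (by rw [hn]) (by norm_num) (by norm_num) (by decide)).elim
  · exact (paqb hG 67 2 2 0 (by norm_num) (by norm_num) (by rw [hn]; norm_num)).elim
  · exact (two_odd hG 2245 (by decide) (by rw [hn])).elim
  · exact (paqb hG 3 499 2 1 (by norm_num) (by norm_num) (by rw [hn]; norm_num)).elim
  · exact (paqb hG 2 1123 2 1 (by norm_num) (by norm_num) (by rw [hn]; norm_num)).elim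
  · exact (paqb hG 4493 2 1 0 (by norm_num) (by norm_num) (by rw [hn]; norm_num)).elim
  · exact (two_odd hG 2247 (by decide) (by rw [hn])).elim
  · exact (block_kill hG (fun _ => true) (fun _ => rfl) 5 899 79 (hp := ⟨by norm_num⟩) (by norm_num) (by norm_num) (by rw [hn]) (by norm_num) (by norm_num) (by decide)).elim
  · exact (paqb hG 2 281 4 1 (by norm_num) (by norm_num) (by rw [hn]; norm_num)).elim
  · exact (paqb hG 3 1499 1 1 (by norm_num) (by norm_num) (by rw [hn]; norm_num)).elim
  · exact (two_odd hG 2249 (by decide) (by rw [hn])).elim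
  · exact (paqb hG 11 409 1 1 (by norm_num) (by norm_num) (by rw [hn]; norm_num)).elim
  · exact (@inter_kill G _ _ _ 5 ⟨by norm_num⟩ hG 3 36 (by norm_num) (by norm_num) (by rw [hn]; norm_num) (by norm_num) (by decide) (by decide)).elim
  · exact (paqb hG 7 643 1 1 (by norm_num) (by norm_num) (by rw [hn]; norm_num)).elim
  · exact (paqb hG 2 2251 1 1 (by norm_num) (by norm_num) (by rw [hn]; norm_num)).elim
  · exact (block_kill hG (fun _ => true) (fun _ => rfl) 3 1501 79 (hp := ⟨by norm_num⟩) (by norm_num) (by norm_num) (by rw [hn]) (by norm_num) (by norm_num) (by decide)).elim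
  · exact (paqb hG 2 563 3 1 (by norm_num) (by norm_num) (by rw [hn]; norm_num)).elim
  · exact (block_kill hG (fun _ => true) (fun _ => rfl) 5 901 79 (hp := ⟨by norm_num⟩) (by norm_num) (by norm_num) (by rw [hn]) (by norm_num) (by norm_num) (by decide)).elim
  · exact (two_odd hG 2253 (by decide) (by rw [hn])).elim
  · exact (paqb hG 4507 2 1 0 (by norm_num) (by norm_num) (by rw [hn]; norm_num)).elim
  · exact (block_kill hG (fun _ => true) (fun _ => rfl) 23 196 79 (hp := ⟨by norm_num⟩) (by norm_num) (by norm_num) (by rw [hn]) (by norm_num) (by norm_num) (by decide)).elim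
  · exact (paqb hG 3 167 3 1 (by norm_num) (by norm_num) (by rw [hn]; norm_num)).elim
  · exact (two_odd hG 2255 (by decide) (by rw [hn])).elim
  · exact (paqb hG 13 347 1 1 (by norm_num) (by norm_num) (by rw [hn]; norm_num)).elim
  · exact (block_kill hG (fun _ => true) (fun _ => rfl) 47 96 79 (hp := ⟨by norm_num⟩) (by norm_num) (by norm_num) (by rw [hn]) (by norm_num) (by norm_num) (by decide)).elim
  · exact (paqb hG 4513 2 1 0 (by norm_num) (by norm_num) (by rw [hn]; norm_num)).elim
  · exact (two_odd hG 2257 (by decide) (by rw [hn])).elim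
  · exact (block_kill hG (fun _ => true) (fun _ => rfl) 3 1505 79 (hp := ⟨by norm_num⟩) (by norm_num) (by norm_num) (by rw [hn]) (by norm_num) (by norm_num) (by decide)).elim
  · exact (paqb hG 2 1129 2 1 (by norm_num) (by norm_num) (by rw [hn]; norm_num)).elim
  · exact (paqb hG 4517 2 1 0 (by norm_num) (by norm_num) (by rw [hn]; norm_num)).elim
  · exact (two_odd hG 2259 (by decide) (by rw [hn])).elim
  · exact (paqb hG 4519 2 1 0 (by norm_num) (by norm_num) (by rw [hn]; norm_num)).elim
  · exact (block_kill hG (fun _ => true) (fun _ => rfl) 113 40 79 (hp := ⟨by norm_num⟩) (by norm_num) (by norm_num) (by rw [hn]) (by norm_num) (by norm_num) (by decide)).elim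
  · exact (block_kill hG (fun _ => true) (fun _ => rfl) 3 1507 79 (hp := ⟨by norm_num⟩) (by norm_num) (by norm_num) (by rw [hn]) (by norm_num) (by norm_num) (by decide)).elim
  · exact (two_odd hG 2261 (by decide) (by rw [hn])).elim
  · exact (paqb hG 4523 2 1 0 (by norm_num) (by norm_num) (by rw [hn]; norm_num)).elim
  · exact (block_kill hG (fun _ => true) (fun _ => rfl) 13 348 79 (hp := ⟨by norm_num⟩) (by norm_num) (by norm_num) (by rw [hn]) (by norm_num) (by norm_num) (by decide)).elim
  · exact (paqb hG 5 181 2 1 (by norm_num) (by norm_num) (by rw [hn]; norm_num)).elim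
  · exact (two_odd hG 2263 (by decide) (by rw [hn])).elim
  · exact (paqb hG 3 503 2 1 (by norm_num) (by norm_num) (by rw [hn]; norm_num)).elim
  · exact (paqb hG 2 283 4 1 (by norm_num) (by norm_num) (by rw [hn]; norm_num)).elim
  · exact (paqb hG 7 647 1 1 (by norm_num) (by norm_num) (by rw [hn]; norm_num)).elim
  · exact (two_odd hG 2265 (by decide) (by rw [hn])).elim
  · exact (paqb hG 23 197 1 1 (by norm_num) (by norm_num) (by rw [hn]; norm_num)).elim
  · exact (block_kill hG (fun _ => true) (fun _ => rfl) 11 412 79 (hp := ⟨by norm_num⟩) (by norm_num) (by norm_num) (by rw [hn]) (by norm_num) (by norm_num) (by decide)).elim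
  · exact (paqb hG 3 1511 1 1 (by norm_num) (by norm_num) (by rw [hn]; norm_num)).elim
  · exact (paqb hG 2 2267 1 1 (by norm_num) (by norm_num) (by rw [hn]; norm_num)).elim
  · exact (paqb hG 5 907 1 1 (by norm_num) (by norm_num) (by rw [hn]; norm_num)).elim
  · exact (block_kill hG (fun _ => true) (fun _ => rfl) 7 648 79 (hp := ⟨by norm_num⟩) (by norm_num) (by norm_num) (by rw [hn]) (by norm_num) (by norm_num) (by decide)).elim
  · exact (paqb hG 13 349 1 1 (by norm_num) (by norm_num) (by rw [hn]; norm_num)).elim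
  · exact (paqb hG 2 2269 1 1 (by norm_num) (by norm_num) (by rw [hn]; norm_num)).elim
  · exact (block_kill hG (fun _ => true) (fun _ => rfl) 3 1513 79 (hp := ⟨by norm_num⟩) (by norm_num) (by norm_num) (by rw [hn]) (by norm_num) (by norm_num) (by decide)).elim
  · exact (block_kill hG (fun _ => true) (fun _ => rfl) 5 908 79 (hp := ⟨by norm_num⟩) (by norm_num) (by norm_num) (by rw [hn]) (by norm_num) (by norm_num) (by decide)).elim
  · exact (paqb hG 19 239 1 1 (by norm_num) (by norm_num) (by rw [hn]; norm_num)).elim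
  · exact (two_odd hG 2271 (by decide) (by rw [hn])).elim
  · exact (block_kill hG (fun _ => true) (fun _ => rfl) 7 649 79 (hp := ⟨by norm_num⟩) (by norm_num) (by norm_num) (by rw [hn]) (by norm_num) (by norm_num) (by decide)).elim
  · exact (paqb hG 2 71 6 1 (by norm_num) (by norm_num) (by rw [hn]; norm_num)).elim
  · exact (block_kill hG (fun _ => true) (fun _ => rfl) 5 909 79 (hp := ⟨by norm_num⟩) (by norm_num) (by norm_num) (by rw [hn]) (by norm_num) (by norm_num) (by decide)).elim
  · exact (paqb hG 2 2273 1 1 (by norm_num) (by norm_num) (by rw [hn]; norm_num)).elim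
  · exact (paqb hG 4547 2 1 0 (by norm_num) (by norm_num) (by rw [hn]; norm_num)).elim
  · exact (block_kill hG (fun _ => true) (fun _ => rfl) 379 12 79 (hp := ⟨by norm_num⟩) (by norm_num) (by norm_num) (by rw [hn]) (by norm_num) (by norm_num) (by decide)).elim
  · exact (paqb hG 4549 2 1 0 (by norm_num) (by norm_num) (by rw [hn]; norm_num)).elim
  · exact (two_odd hG 2275 (by decide) (by rw [hn])).elim
  · exact (block_kill hG (fun _ => true) (fun _ => rfl) 3 1517 79 (hp := ⟨by norm_num⟩) (by norm_num) (by norm_num) (by rw [hn]) (by norm_num) (by norm_num) (by decide)).elim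
  · exact (paqb hG 2 569 3 1 (by norm_num) (by norm_num) (by rw [hn]; norm_num)).elim
  · exact (paqb hG 29 157 1 1 (by norm_num) (by norm_num) (by rw [hn]; norm_num)).elim
  · exact (two_odd hG 2277 (by decide) (by rw [hn])).elim
  · exact (paqb hG 5 911 1 1 (by norm_num) (by norm_num) (by rw [hn]; norm_num)).elim
  · exact (block_kill hG (fun _ => true) (fun _ => rfl) 17 268 79 (hp := ⟨by norm_num⟩) (by norm_num) (by norm_num) (by rw [hn]) (by norm_num) (by norm_num) (by decide)).elim
  · exact (block_kill hG (fun _ => true) (fun _ => rfl) 3 1519 79 (hp := ⟨by norm_num⟩) (by norm_num) (by norm_num) (by rw [hn]) (by norm_num) (by norm_num) (by decide)).elim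
  · exact (two_odd hG 2279 (by decide) (by rw [hn])).elim
  · exact (paqb hG 47 97 1 1 (by norm_num) (by norm_num) (by rw [hn]; norm_num)).elim
  · exact (block_kill hG (fun _ => true) (fun _ => rfl) 19 240 79 (hp := ⟨by norm_num⟩) (by norm_num) (by norm_num) (by rw [hn]) (by norm_num) (by norm_num) (by decide)).elim
  · exact (paqb hG 4561 2 1 0 (by norm_num) (by norm_num) (by rw [hn]; norm_num)).elim
  · exact (paqb hG 2 2281 1 1 (by norm_num) (by norm_num) (by rw [hn]; norm_num)).elim
  · exact (paqb hG 3 13 3 2 (by norm_num) (by norm_num) (by rw [hn]; norm_num)).elim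
  · exact (block_kill hG (fun _ => true) (fun _ => rfl) 7 652 79 (hp := ⟨by norm_num⟩) (by norm_num) (by norm_num) (by rw [hn]) (by norm_num) (by norm_num) (by decide)).elim
  · exact (block_kill hG (fun _ => true) (fun _ => rfl) 5 913 79 (hp := ⟨by norm_num⟩) (by norm_num) (by norm_num) (by rw [hn]) (by norm_num) (by norm_num) (by decide)).elim
  · exact (two_odd hG 2283 (by decide) (by rw [hn])).elim
  · exact (paqb hG 4567 2 1 0 (by norm_num) (by norm_num) (by rw [hn]; norm_num)).elim
  · exact (paqb hG 2 571 3 1 (by norm_num) (by norm_num) (by rw [hn]; norm_num)).elim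
  · exact (paqb hG 3 1523 1 1 (by norm_num) (by norm_num) (by rw [hn]; norm_num)).elim
  · exact (two_odd hG 2285 (by decide) (by rw [hn])).elim
  · exact (paqb hG 7 653 1 1 (by norm_num) (by norm_num) (by rw [hn]; norm_num)).elim
  · exact (block_kill hG (fun _ => true) (fun _ => rfl) 127 36 79 (hp := ⟨by norm_num⟩) (by norm_num) (by norm_num) (by rw [hn]) (by norm_num) (by norm_num) (by decide)).elim
  · exact (paqb hG 17 269 1 1 (by norm_num) (by norm_num) (by rw [hn]; norm_num)).elim
  · exact (paqb hG 2 2287 1 1 (by norm_num) (by norm_num) (by rw [hn]; norm_num)).elim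
  · exact (block_kill hG (fun _ => true) (fun _ => rfl) 3 1525 79 (hp := ⟨by norm_num⟩) (by norm_num) (by norm_num) (by rw [hn]) (by norm_num) (by norm_num) (by decide)).elim
  · exact (block_kill hG (fun _ => true) (fun _ => rfl) 11 416 79 (hp := ⟨by norm_num⟩) (by norm_num) (by norm_num) (by rw [hn]) (by norm_num) (by norm_num) (by decide)).elim
  · exact (paqb hG 23 199 1 1 (by norm_num) (by norm_num) (by rw [hn]; norm_num)).elim
  · exact (two_odd hG 2289 (by decide) (by rw [hn])).elim
  · exact (paqb hG 19 241 1 1 (by norm_num) (by norm_num) (by rw [hn]; norm_num)).elim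
  · exact (block_kill hG (fun _ => true) (fun _ => rfl) 5 916 79 (hp := ⟨by norm_num⟩) (by norm_num) (by norm_num) (by rw [hn]) (by norm_num) (by norm_num) (by decide)).elim
  · exact (paqb hG 3 509 2 1 (by norm_num) (by norm_num) (by rw [hn]; norm_num)).elim
  · exact (two_odd hG 2291 (by decide) (by rw [hn])).elim
  · exact (paqb hG 4583 2 1 0 (by norm_num) (by norm_num) (by rw [hn]; norm_num)).elim
  · exact (block_kill hG (fun _ => true) (fun _ => rfl) 191 24 79 (hp := ⟨by norm_num⟩) (by norm_num) (by norm_num) (by rw [hn]) (by norm_num) (by norm_num) (by decide)).elim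
  · exact (block_kill hG (fun _ => true) (fun _ => rfl) 5 917 79 (hp := ⟨by norm_num⟩) (by norm_num) (by norm_num) (by rw [hn]) (by norm_num) (by norm_num) (by decide)).elim
  · exact (paqb hG 2 2293 1 1 (by norm_num) (by norm_num) (by rw [hn]; norm_num)).elim
  · exact (block_kill hG (fun _ => true) (fun _ => rfl) 3 1529 79 (hp := ⟨by norm_num⟩) (by norm_num) (by norm_num) (by rw [hn]) (by norm_num) (by norm_num) (by decide)).elim
  · exact (block_kill hG (fun _ => true) (fun _ => rfl) 31 148 79 (hp := ⟨by norm_num⟩) (by norm_num) (by norm_num) (by rw [hn]) (by norm_num) (by norm_num) (by decide)).elim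
  · exact (paqb hG 13 353 1 1 (by norm_num) (by norm_num) (by rw [hn]; norm_num)).elim
  · exact (two_odd hG 2295 (by decide) (by rw [hn])).elim
  · exact (paqb hG 4591 2 1 0 (by norm_num) (by norm_num) (by rw [hn]; norm_num)).elim
  · exact (block_kill hG (fun _ => true) (fun _ => rfl) 7 656 79 (hp := ⟨by norm_num⟩) (by norm_num) (by norm_num) (by rw [hn]) (by norm_num) (by norm_num) (by decide)).elim
  · exact (paqb hG 3 1531 1 1 (by norm_num) (by norm_num) (by rw [hn]; norm_num)).elim
  · exact (paqb hG 2 2297 1 1 (by norm_num) (by norm_num) (by rw [hn]; norm_num)).elim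
  · exact (paqb hG 5 919 1 1 (by norm_num) (by norm_num) (by rw [hn]; norm_num)).elim
  · exact (block_kill hG (fun _ => true) (fun _ => rfl) 383 12 79 (hp := ⟨by norm_num⟩) (by norm_num) (by norm_num) (by rw [hn]) (by norm_num) (by norm_num) (by decide)).elim
  · exact (paqb hG 4597 2 1 0 (by norm_num) (by norm_num) (by rw [hn]; norm_num)).elim
  · exact (two_odd hG 2299 (by decide) (by rw [hn])).elim
  · exact (block_kill hG (fun _ => true) (fun _ => rfl) 7 657 79 (hp := ⟨by norm_num⟩) (by norm_num) (by norm_num) (by rw [hn]) (by norm_num) (by norm_num) (by decide)).elim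
  · exact (block_kill hG (fun _ => true) (fun _ => rfl) 23 200 79 (hp := ⟨by norm_num⟩) (by norm_num) (by norm_num) (by rw [hn]) (by norm_num) (by norm_num) (by decide)).elim
  · exact (paqb hG 43 107 1 1 (by norm_num) (by norm_num) (by rw [hn]; norm_num)).elim
  · exact (two_odd hG 2301 (by decide) (by rw [hn])).elim
  · exact (paqb hG 4603 2 1 0 (by norm_num) (by norm_num) (by rw [hn]; norm_num)).elim
  · exact (paqb hG 2 1151 2 1 (by norm_num) (by norm_num) (by rw [hn]; norm_num)).elim
  · exact (block_kill hG (fun _ => true) (fun _ => rfl) 3 1535 79 (hp := ⟨by norm_num⟩) (by norm_num) (by norm_num) (by rw [hn]) (by norm_num) (by norm_num) (by decide)).elim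
  · exact (two_odd hG 2303 (by decide) (by rw [hn])).elim
  · exact (paqb hG 17 271 1 1 (by norm_num) (by norm_num) (by rw [hn]; norm_num)).elim
  · exact (paqb hG 2 3 9 2 (by norm_num) (by norm_num) (by rw [hn]; norm_num)).elim
  · exact (paqb hG 11 419 1 1 (by norm_num) (by norm_num) (by rw [hn]; norm_num)).elim
  · exact (two_odd hG 2305 (by decide) (by rw [hn])).elim
  · exact (block_kill hG (fun _ => true) (fun _ => rfl) 3 1537 79 (hp := ⟨by norm_num⟩) (by norm_num) (by norm_num) (by rw [hn]) (by norm_num) (by norm_num) (by decide)).elim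
  · exact (paqb hG 2 1153 2 1 (by norm_num) (by norm_num) (by rw [hn]; norm_num)).elim
  · exact (paqb hG 7 659 1 1 (by norm_num) (by norm_num) (by rw [hn]; norm_num)).elim
  · exact (two_odd hG 2307 (by decide) (by rw [hn])).elim
  · exact (block_kill hG (fun _ => true) (fun _ => rfl) 5 923 79 (hp := ⟨by norm_num⟩) (by norm_num) (by norm_num) (by rw [hn]) (by norm_num) (by norm_num) (by decide)).elim
  · exact (paqb hG 2 577 3 1 (by norm_num) (by norm_num) (by rw [hn]; norm_num)).elim
  · exact (paqb hG 3 19 5 1 (by norm_num) (by norm_num) (by rw [hn]; norm_num)).elim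
  · exact (paqb hG 2 2309 1 1 (by norm_num) (by norm_num) (by rw [hn]; norm_num)).elim
  · exact (paqb hG 31 149 1 1 (by norm_num) (by norm_num) (by rw [hn]; norm_num)).elim
  · exact (ne_4620 hG hn).elim
  · exact (paqb hG 4621 2 1 0 (by norm_num) (by norm_num) (by rw [hn]; norm_num)).elim
  · exact (paqb hG 2 2311 1 1 (by norm_num) (by norm_num) (by rw [hn]; norm_num)).elim
  · exact (block_kill hG (fun _ => true) (fun _ => rfl) 3 1541 79 (hp := ⟨by norm_num⟩) (by norm_num) (by norm_num) (by rw [hn]) (by norm_num) (by norm_num) (by decide)).elim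
  · exact (paqb hG 2 17 4 2 (by norm_num) (by norm_num) (by rw [hn]; norm_num)).elim
  · exact (paqb hG 5 37 3 1 (by norm_num) (by norm_num) (by rw [hn]; norm_num)).elim
  · exact (two_odd hG 2313 (by decide) (by rw [hn])).elim
  · exact (paqb hG 7 661 1 1 (by norm_num) (by norm_num) (by rw [hn]; norm_num)).elim
  · exact (block_kill hG (fun _ => true) (fun _ => rfl) 13 356 79 (hp := ⟨by norm_num⟩) (by norm_num) (by norm_num) (by rw [hn]) (by norm_num) (by norm_num) (by decide)).elim
  · exact (paqb hG 3 1543 1 1 (by norm_num) (by norm_num) (by rw [hn]; norm_num)).elim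
  · exact (two_odd hG 2315 (by decide) (by rw [hn])).elim
  · exact (paqb hG 11 421 1 1 (by norm_num) (by norm_num) (by rw [hn]; norm_num)).elim
  · exact (block_kill hG (fun _ => true) (fun _ => rfl) 193 24 79 (hp := ⟨by norm_num⟩) (by norm_num) (by norm_num) (by rw [hn]) (by norm_num) (by norm_num) (by decide)).elim
  · exact (paqb hG 41 113 1 1 (by norm_num) (by norm_num) (by rw [hn]; norm_num)).elim
  · exact (two_odd hG 2317 (by decide) (by rw [hn])).elim
  · exact (block_kill hG (fun _ => true) (fun _ => rfl) 5 927 79 (hp := ⟨by norm_num⟩) (by norm_num) (by norm_num) (by rw [hn]) (by norm_num) (by norm_num) (by decide)).elim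
  · exact (block_kill hG (fun _ => true) (fun _ => rfl) 19 244 79 (hp := ⟨by norm_num⟩) (by norm_num) (by norm_num) (by rw [hn]) (by norm_num) (by norm_num) (by decide)).elim
  · exact (paqb hG 4637 2 1 0 (by norm_num) (by norm_num) (by rw [hn]; norm_num)).elim
  · exact (two_odd hG 2319 (by decide) (by rw [hn])).elim
  · exact (paqb hG 4639 2 1 0 (by norm_num) (by norm_num) (by rw [hn]; norm_num)).elim
  · exact (block_kill hG (fun _ => true) (fun _ => rfl) 29 160 79 (hp := ⟨by norm_num⟩) (by norm_num) (by norm_num) (by rw [hn]) (by norm_num) (by norm_num) (by decide)).elim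

end Cfsg.Agent.Lib.Helper6.OrdL
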