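import Mathlib
import Cfsg.Agent.Lib.Helper6.OrdM01
import Cfsg.Agent.Lib.Helper6.OrdM02
import Cfsg.Agent.Lib.Helper6.OrdM03
import Cfsg.Agent.Lib.Helper6.OrdM04
import Cfsg.Agent.Lib.Helper6.OrdM05
import Cfsg.Agent.Lib.Helper6.OrdM06
import Cfsg.Agent.Lib.Helper6.OrdM07
import Cfsg.Agent.Lib.Helper6.OrdM08
import Cfsg.Agent.Lib.Helper6.OrdM09
import Cfsg.Agent.Lib.Helper6.OrdM10
import Cfsg.Agent.Lib.Helper6.OrdM11
import Cfsg.Agent.Lib.Helper6.OrdM12
import Cfsg.Agent.Lib.Helper6.OrdM13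

/-!
# Orders of non-abelian simple groups between 3640 and 6232
-/

set_option autoImplicit false

namespace Cfsg.Agent.Lib.Helper6.OrdL

variable {G : Type*} [Group G] [Finite G] [IsSimpleGroup G]

/-- A non-abelian simple group of order `n` with `3640 < n ≤ 6232` has order 4080, 5616, 6048 or
6072. -/
theorem sweep_3640_6232 (hG : ¬ IsMulCommutative G) (n : ℕ) (hn : Nat.card G = n) (h1 : 3640 < n)
    (h2 : n ≤ 6232) : n = 4080 ∨ n = 5616 ∨ n = 6048 ∨ n = 6072 := by
  by_cases c1 : n ≤ 3840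
  · exact sweep_3640_3840 hG n hn h1 c1
  by_cases c2 : n ≤ 4040
  · exact sweep_3840_4040 hG n hn (by omega) c2
  by_cases c3 : n ≤ 4240
  · exact sweep_4040_4240 hG n hn (by omega) c3
  by_cases c4 : n ≤ 4440
  · exact sweep_4240_4440 hG n hn (by omega) c4
  by_cases c5 : n ≤ 4640
  · exact sweep_4440_4640 hG n hn (by omega) c5
  by_cases c6 : n ≤ 4840
  · exact sweep_4640_4840 hG n hn (by omega) c6
  by_cases c7 : n ≤ 5040
  · exact sweep_4840_5040 hG n hn (by omega) c7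
  by_cases c8 : n ≤ 5240
  · exact sweep_5040_5240 hG n hn (by omega) c8
  by_cases c9 : n ≤ 5440
  · exact sweep_5240_5440 hG n hn (by omega) c9
  by_cases c10 : n ≤ 5640
  · exact sweep_5440_5640 hG n hn (by omega) c10
  by_cases c11 : n ≤ 5840
  · exact sweep_5640_5840 hG n hn (by omega) c11
  by_cases c12 : n ≤ 6040
  · exact sweep_5840_6040 hG n hn (by omega) c12
  exact sweep_6040_6232 hG n hn (by omega) h2

end Cfsg.Agent.Lib.Helper6.OrdL
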