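import Mathlib
import Cfsg.Agent.Lib.Helper6.OrdN2
import Cfsg.Agent.Lib.Helper9.SmallOrd1

/-!
# There is no non-abelian simple group of order `19 m`, `m` a proper divisor of `9240` (generated)
-/

set_option autoImplicit false
set_option maxHeartbeats 4000000
set_option maxRecDepth 1000000

namespace Cfsg.Agent.Lib.Helper6.OrdL

open Cfsg Cfsg.Agent.Lib.Helper9.SmallOrd Cfsg.Agent.Lib.Helper6.OrdB

variable {G : Type*} [Group G] [Finite G] [IsSimpleGroup G]

/-- the order `58520 = 2 ^ 3 * 5 * 7 * 11 * 19`: the principal `11`-block forces characters of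
degree divisible by `19` whose squares add up to at least `32129`; what is left is too little for
the principal `19`-block -/
theorem ne_58520 (hG : ¬ IsMulCommutative G) (hn : Nat.card G = 58520) : False := by
  classical
  have : Fintype G := Fintype.ofFinite G
  have : Fintype (IrrCharacter G) := Fintype.ofFinite _
  obtain ⟨S, hS, hL⟩ := block_low hG (fun _ => true) (fun d => decide (19 ∣ d)) (fun _ => rfl)
    11 5320 241 58520 32129 (hp := ⟨by norm_num⟩) (by norm_num) (by norm_num) (by rw [hn])
    (by norm_num) (by norm_num) (fun S _ => by rw [← hn]; exact sum_sq_le S) (by decide)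
  refine block_kill_budget hG (fun _ => true) (fun _ => rfl) 19 3080 241 26391
    (hp := ⟨by norm_num⟩) (by norm_num) (by norm_num) (by rw [hn]) (by norm_num) (by norm_num) ?_
    (by decide)
  intro S' hS'
  have hdisj : Disjoint S S' := by
    rw [Finset.disjoint_left]
    intro ψ h1 h2
    exact hS' ψ h2 (by simpa using hS ψ h1)
  have h1 := sum_sq_le (S ∪ S')
  rw [Finset.sum_union hdisj, hn] at h1
  omega

/-- the divisors of `9240` -/
theorem divisors_9240 (d : ℕ) (hd : d ∣ 9240) :
    d ∈ [1, 2, 3, 4, 5, 6, 7, 8, 10, 11, 12, 14, 15, 20, 21, 22, 24, 28, 30, 33, 35, 40, 42, 44, 55, 56, 60, 66, 70, 77, 84, 88, 105, 110, 120, 132, 140, 154, 165, 168, 210, 220, 231, 264, 280, 308, 330, 385, 420, 440, 462, 616, 660, 770, 840, 924, 1155, 1320, 1540, 1848, 2310, 3080, 4620, 9240] := by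
  have hle : d ≤ 9240 := Nat.le_of_dvd (by norm_num) hd
  have hall : (List.range 9241).all (fun d => !(9240 % d == 0) ||
      [1, 2, 3, 4, 5, 6, 7, 8, 10, 11, 12, 14, 15, 20, 21, 22, 24, 28, 30, 33, 35, 40, 42, 44, 55, 56, 60, 66, 70, 77, 84, 88, 105, 110, 120, 132, 140, 154, 165, 168, 210, 220, 231, 264, 280, 308, 330, 385, 420, 440, 462, 616, 660, 770, 840, 924, 1155, 1320, 1540, 1848, 2310, 3080, 4620, 9240].contains d) = true := by
    decide
  rw [List.all_eq_true] at hall
  have h1 := hall d (List.mem_range.2 (by omega))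
  have h2 : (9240 % d == 0) = true := by
    rw [beq_iff_eq]
    exact Nat.mod_eq_zero_of_dvd hd
  rw [h2] at h1
  simpa using h1

/-- there is no non-abelian simple group of order `19 m`, `m` a proper divisor of `9240` -/
theorem no_simple_19 (hG : ¬ IsMulCommutative G) (m' : ℕ) (hm' : m' ∣ 9240) (hne : m' ≠ 9240)
    (hn' : Nat.card G = 19 * m') : False := by
  have hmem := divisors_9240 m' hm'
  simp only [List.mem_cons, List.mem_nil_iff, or_false] at hmem
  rcases hmem with rfl | rfl | rfl | rfl | rfl | rfl | rfl | rfl | rfl | rfl | rfl | rfl | rfl | rfl | rfl | rfl | rfl | rfl | rfl | rfl | rfl | rfl | rfl | rfl | rfl | rfl | rfl | rfl | rfl | rfl | rfl | rfl | rfl | rfl | rfl | rfl | rfl | rfl | rfl | rfl | rfl | rfl | rfl | rfl | rfl | rfl | rfl | rfl | rfl | rfl | rfl | rfl | rfl | rfl | rfl | rfl | rfl | rfl | rfl | rfl | rfl | rfl | rfl | rfl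
  · have hn : Nat.card G = 19 := by rw [hn']
    exact paqb hG 19 2 1 0 (by norm_num) (by norm_num) (by rw [hn]; norm_num)
  · have hn : Nat.card G = 38 := by rw [hn']
    exact paqb hG 2 19 1 1 (by norm_num) (by norm_num) (by rw [hn]; norm_num)
  · have hn : Nat.card G = 57 := by rw [hn']
    exact paqb hG 3 19 1 1 (by norm_num) (by norm_num) (by rw [hn]; norm_num)
  · have hn : Nat.card G = 76 := by rw [hn']
    exact paqb hG 2 19 2 1 (by norm_num) (by norm_num) (by rw [hn]; norm_num)
  · have hn : Nat.card G = 95 := by rw [hn']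
    exact paqb hG 5 19 1 1 (by norm_num) (by norm_num) (by rw [hn]; norm_num)
  · have hn : Nat.card G = 114 := by rw [hn']
    exact two_odd hG 57 (by decide) (by rw [hn])
  · have hn : Nat.card G = 133 := by rw [hn']
    exact paqb hG 7 19 1 1 (by norm_num) (by norm_num) (by rw [hn]; norm_num)
  · have hn : Nat.card G = 152 := by rw [hn']
    exact paqb hG 2 19 3 1 (by norm_num) (by norm_num) (by rw [hn]; norm_num)
  · have hn : Nat.card G = 190 := by rw [hn']
    exact two_odd hG 95 (by decide) (by rw [hn])
  · have hn : Nat.card G = 209 := by rw [hn']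
    exact paqb hG 11 19 1 1 (by norm_num) (by norm_num) (by rw [hn]; norm_num)
  · have hn : Nat.card G = 228 := by rw [hn']
    exact block_kill hG (fun _ => true) (fun _ => rfl) 19 12 15 (hp := ⟨by norm_num⟩) (by norm_num) (by norm_num) (by rw [hn]) (by norm_num) (by norm_num) (by decide)
  · have hn : Nat.card G = 266 := by rw [hn']
    exact two_odd hG 133 (by decide) (by rw [hn])
  · have hn : Nat.card G = 285 := by rw [hn']
    exact block_kill hG (fun _ => true) (fun _ => rfl) 3 95 16 (hp := ⟨by norm_num⟩) (by norm_num) (by norm_num) (by rw [hn]) (by norm_num) (by norm_num) (by decide)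
  · have hn : Nat.card G = 380 := by rw [hn']
    exact block_kill hG (fun _ => true) (fun _ => rfl) 5 76 19 (hp := ⟨by norm_num⟩) (by norm_num) (by norm_num) (by rw [hn]) (by norm_num) (by norm_num) (by decide)
  · have hn : Nat.card G = 399 := by rw [hn']
    exact block_kill hG (fun _ => true) (fun _ => rfl) 3 133 19 (hp := ⟨by norm_num⟩) (by norm_num) (by norm_num) (by rw [hn]) (by norm_num) (by norm_num) (by decide)
  · have hn : Nat.card G = 418 := by rw [hn']
    exact two_odd hG 209 (by decide) (by rw [hn])
  · have hn : Nat.card G = 456 := by rw [hn']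
    exact block_kill hG (fun _ => true) (fun _ => rfl) 19 24 21 (hp := ⟨by norm_num⟩) (by norm_num) (by norm_num) (by rw [hn]) (by norm_num) (by norm_num) (by decide)
  · have hn : Nat.card G = 532 := by rw [hn']
    exact block_kill hG (fun _ => true) (fun _ => rfl) 7 76 23 (hp := ⟨by norm_num⟩) (by norm_num) (by norm_num) (by rw [hn]) (by norm_num) (by norm_num) (by decide)
  · have hn : Nat.card G = 570 := by rw [hn']
    exact two_odd hG 285 (by decide) (by rw [hn])
  · have hn : Nat.card G = 627 := by rw [hn']
    exact block_kill hG (fun _ => true) (fun _ => rfl) 3 209 25 (hp := ⟨by norm_num⟩) (by norm_num) (by norm_num) (by rw [hn]) (by norm_num) (by norm_num) (by decide)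
  · have hn : Nat.card G = 665 := by rw [hn']
    exact block_kill hG (fun _ => true) (fun _ => rfl) 5 133 25 (hp := ⟨by norm_num⟩) (by norm_num) (by norm_num) (by rw [hn]) (by norm_num) (by norm_num) (by decide)
  · have hn : Nat.card G = 760 := by rw [hn']
    exact block_kill hG (fun _ => true) (fun _ => rfl) 19 40 27 (hp := ⟨by norm_num⟩) (by norm_num) (by norm_num) (by rw [hn]) (by norm_num) (by norm_num) (by decide)
  · have hn : Nat.card G = 798 := by rw [hn']
    exact two_odd hG 399 (by decide) (by rw [hn])
  · have hn : Nat.card G = 836 := by rw [hn']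
    exact block_kill hG (fun _ => true) (fun _ => rfl) 11 76 28 (hp := ⟨by norm_num⟩) (by norm_num) (by norm_num) (by rw [hn]) (by norm_num) (by norm_num) (by decide)
  · have hn : Nat.card G = 1045 := by rw [hn']
    exact block_kill hG (fun _ => true) (fun _ => rfl) 5 209 32 (hp := ⟨by norm_num⟩) (by norm_num) (by norm_num) (by rw [hn]) (by norm_num) (by norm_num) (by decide)
  · have hn : Nat.card G = 1064 := by rw [hn']
    exact block_kill hG (fun _ => true) (fun _ => rfl) 7 152 32 (hp := ⟨by norm_num⟩) (by norm_num) (by norm_num) (by rw [hn]) (by norm_num) (by norm_num) (by decide)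
  · have hn : Nat.card G = 1140 := by rw [hn']
    exact block_kill hG (fun _ => true) (fun _ => rfl) 5 228 33 (hp := ⟨by norm_num⟩) (by norm_num) (by norm_num) (by rw [hn]) (by norm_num) (by norm_num) (by decide)
  · have hn : Nat.card G = 1254 := by rw [hn']
    exact two_odd hG 627 (by decide) (by rw [hn])
  · have hn : Nat.card G = 1330 := by rw [hn']
    exact two_odd hG 665 (by decide) (by rw [hn])
  · have hn : Nat.card G = 1463 := by rw [hn']
    exact block_kill hG (fun _ => true) (fun _ => rfl) 7 209 38 (hp := ⟨by norm_num⟩) (by norm_num) (by norm_num) (by rw [hn]) (by norm_num) (by norm_num) (by decide)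
  · have hn : Nat.card G = 1596 := by rw [hn']
    exact block_kill hG (fun _ => true) (fun _ => rfl) 19 84 39 (hp := ⟨by norm_num⟩) (by norm_num) (by norm_num) (by rw [hn]) (by norm_num) (by norm_num) (by decide)
  · have hn : Nat.card G = 1672 := by rw [hn']
    exact block_kill hG (fun _ => true) (fun _ => rfl) 11 152 40 (hp := ⟨by norm_num⟩) (by norm_num) (by norm_num) (by rw [hn]) (by norm_num) (by norm_num) (by decide)
  · have hn : Nat.card G = 1995 := by rw [hn']
    exact block_kill hG (fun _ => true) (fun _ => rfl) 3 665 44 (hp := ⟨by norm_num⟩) (by norm_num) (by norm_num) (by rw [hn]) (by norm_num) (by norm_num) (by decide)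
  · have hn : Nat.card G = 2090 := by rw [hn']
    exact two_odd hG 1045 (by decide) (by rw [hn])
  · have hn : Nat.card G = 2280 := by rw [hn']
    exact block_kill hG (fun _ => true) (fun _ => rfl) 5 456 47 (hp := ⟨by norm_num⟩) (by norm_num) (by norm_num) (by rw [hn]) (by norm_num) (by norm_num) (by decide)
  · have hn : Nat.card G = 2508 := by rw [hn']
    exact block_kill hG (fun _ => true) (fun _ => rfl) 11 228 50 (hp := ⟨by norm_num⟩) (by norm_num) (by norm_num) (by rw [hn]) (by norm_num) (by norm_num) (by decide)
  · have hn : Nat.card G = 2660 := by rw [hn']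
    exact block_kill hG (fun _ => true) (fun _ => rfl) 19 140 51 (hp := ⟨by norm_num⟩) (by norm_num) (by norm_num) (by rw [hn]) (by norm_num) (by norm_num) (by decide)
  · have hn : Nat.card G = 2926 := by rw [hn']
    exact two_odd hG 1463 (by decide) (by rw [hn])
  · have hn : Nat.card G = 3135 := by rw [hn']
    exact block_kill hG (fun _ => true) (fun _ => rfl) 3 1045 55 (hp := ⟨by norm_num⟩) (by norm_num) (by norm_num) (by rw [hn]) (by norm_num) (by norm_num) (by decide)
  · have hn : Nat.card G = 3192 := by rw [hn']
    exact block_kill hG (fun _ => true) (fun _ => rfl) 19 168 56 (hp := ⟨by norm_num⟩) (by norm_num) (by norm_num) (by rw [hn]) (by norm_num) (by norm_num) (by decide)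
  · have hn : Nat.card G = 3990 := by rw [hn']
    exact two_odd hG 1995 (by decide) (by rw [hn])
  · have hn : Nat.card G = 4180 := by rw [hn']
    exact block_kill hG (fun _ => true) (fun _ => rfl) 5 836 64 (hp := ⟨by norm_num⟩) (by norm_num) (by norm_num) (by rw [hn]) (by norm_num) (by norm_num) (by decide)
  · have hn : Nat.card G = 4389 := by rw [hn']
    exact block_kill hG (fun _ => true) (fun _ => rfl) 3 1463 66 (hp := ⟨by norm_num⟩) (by norm_num) (by norm_num) (by rw [hn]) (by norm_num) (by norm_num) (by decide)
  · have hn : Nat.card G = 5016 := by rw [hn']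
    exact block_kill hG (fun _ => true) (fun _ => rfl) 11 456 70 (hp := ⟨by norm_num⟩) (by norm_num) (by norm_num) (by rw [hn]) (by norm_num) (by norm_num) (by decide)
  · have hn : Nat.card G = 5320 := by rw [hn']
    exact block_kill hG (fun _ => true) (fun _ => rfl) 19 280 72 (hp := ⟨by norm_num⟩) (by norm_num) (by norm_num) (by rw [hn]) (by norm_num) (by norm_num) (by decide)
  · have hn : Nat.card G = 5852 := by rw [hn']
    exact block_kill hG (fun _ => true) (fun _ => rfl) 19 308 76 (hp := ⟨by norm_num⟩) (by norm_num) (by norm_num) (by rw [hn]) (by norm_num) (by norm_num) (by decide)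
  · have hn : Nat.card G = 6270 := by rw [hn']
    exact two_odd hG 3135 (by decide) (by rw [hn])
  · have hn : Nat.card G = 7315 := by rw [hn']
    exact block_kill hG (fun _ => true) (fun _ => rfl) 5 1463 85 (hp := ⟨by norm_num⟩) (by norm_num) (by norm_num) (by rw [hn]) (by norm_num) (by norm_num) (by decide)
  · have hn : Nat.card G = 7980 := by rw [hn']
    exact block_kill hG (fun _ => true) (fun _ => rfl) 5 1596 89 (hp := ⟨by norm_num⟩) (by norm_num) (by norm_num) (by rw [hn]) (by norm_num) (by norm_num) (by decide)
  · have hn : Nat.card G = 8360 := by rw [hn']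
    exact block_kill hG (fun _ => true) (fun _ => rfl) 11 760 91 (hp := ⟨by norm_num⟩) (by norm_num) (by norm_num) (by rw [hn]) (by norm_num) (by norm_num) (by decide)
  · have hn : Nat.card G = 8778 := by rw [hn']
    exact two_odd hG 4389 (by decide) (by rw [hn])
  · have hn : Nat.card G = 11704 := by rw [hn']
    exact block_kill hG (fun _ => true) (fun _ => rfl) 7 1672 108 (hp := ⟨by norm_num⟩) (by norm_num) (by norm_num) (by rw [hn]) (by norm_num) (by norm_num) (by decide)
  · have hn : Nat.card G = 12540 := by rw [hn']
    exact block_kill hG (fun _ => true) (fun _ => rfl) 11 1140 111 (hp := ⟨by norm_num⟩) (by norm_num) (by norm_num) (by rw [hn]) (by norm_num) (by norm_num) (by decide)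
  · have hn : Nat.card G = 14630 := by rw [hn']
    exact two_odd hG 7315 (by decide) (by rw [hn])
  · have hn : Nat.card G = 15960 := by rw [hn']
    exact block_kill hG (fun _ => true) (fun _ => rfl) 19 840 126 (hp := ⟨by norm_num⟩) (by norm_num) (by norm_num) (by rw [hn]) (by norm_num) (by norm_num) (by decide)
  · have hn : Nat.card G = 17556 := by rw [hn']
    exact block_kill hG (fun _ => true) (fun _ => rfl) 11 1596 132 (hp := ⟨by norm_num⟩) (by norm_num) (by norm_num) (by rw [hn]) (by norm_num) (by norm_num) (by decide)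
  · have hn : Nat.card G = 21945 := by rw [hn']
    exact block_kill hG (fun _ => true) (fun _ => rfl) 3 7315 148 (hp := ⟨by norm_num⟩) (by norm_num) (by norm_num) (by rw [hn]) (by norm_num) (by norm_num) (by decide)
  · have hn : Nat.card G = 25080 := by rw [hn']
    exact block_kill hG (fun _ => true) (fun _ => rfl) 11 2280 158 (hp := ⟨by norm_num⟩) (by norm_num) (by norm_num) (by rw [hn]) (by norm_num) (by norm_num) (by decide)
  · have hn : Nat.card G = 29260 := by rw [hn']
    exact block_kill hG (fun _ => true) (fun _ => rfl) 19 1540 171 (hp := ⟨by norm_num⟩) (by norm_num) (by norm_num) (by rw [hn]) (by norm_num) (by norm_num) (by decide)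
  · have hn : Nat.card G = 35112 := by rw [hn']
    exact block_kill hG (fun _ => true) (fun _ => rfl) 19 1848 187 (hp := ⟨by norm_num⟩) (by norm_num) (by norm_num) (by rw [hn]) (by norm_num) (by norm_num) (by decide)
  · have hn : Nat.card G = 43890 := by rw [hn']
    exact two_odd hG 21945 (by decide) (by rw [hn])
  · have hn : Nat.card G = 58520 := by rw [hn']
    exact ne_58520 hG hn
  · have hn : Nat.card G = 87780 := by rw [hn']
    exact block_kill hG (fun _ => true) (fun _ => rfl) 19 4620 296 (hp := ⟨by norm_num⟩) (by norm_num) (by norm_num) (by rw [hn]) (by norm_num) (by norm_num) (by decide)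
  · exact hne rfl

end Cfsg.Agent.Lib.Helper6.OrdL
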