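import Mathlib
import Cfsg.Agent.Lib.Lead.CoprimeSylow3

/-!
# A subgroup of order `19` centralizes every normal subgroup whose order divides `9240`
-/

set_option autoImplicit false
set_option maxHeartbeats 1600000

namespace Cfsg.Agent.Lib.Helper6.OrdN

universe u

variable {G : Type u} [Group G]

/-- an element `a` with `a ^ 19 = 1` that normalizes a subgroup with fewer than `19` elements
centralizes it -/
theorem commute_of_normalizes_small (a : G) (ha : a ^ 19 = 1) (Q : Subgroup G) [Finite Q]
    (hQ : Nat.card Q < 19) (hn : ∀ x ∈ Q, a * x * a⁻¹ ∈ Q) (x : G) (hx : x ∈ Q) :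
    Commute a x := by
  classical
  have hpow : ∀ i : ℕ, a ^ i * x * (a ^ i)⁻¹ ∈ Q := by
    intro i
    induction i with
    | zero => simpa using hx
    | succ i ih =>
      have h1 := hn _ ih
      have h2 : a * (a ^ i * x * (a ^ i)⁻¹) * a⁻¹ = a ^ (i + 1) * x * (a ^ (i + 1))⁻¹ := by
        rw [pow_succ', mul_inv_rev]
        group
      rw [h2] at h1
      exact h1
  have : Fintype Q := Fintype.ofFinite Q
  let f : Fin 19 → Q := fun i => ⟨a ^ (i : ℕ) * x * (a ^ (i : ℕ))⁻¹, hpow i⟩
  have hcard : Fintype.card Q < Fintype.card (Fin 19) := by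
    rw [Fintype.card_fin, ← Nat.card_eq_fintype_card]
    exact hQ
  obtain ⟨i, j, hij, hf⟩ := Fintype.exists_ne_map_eq_of_card_lt f hcard
  -- a power `a ^ d`, `0 < d < 19`, commutes with `x`
  have key : ∀ i j : ℕ, i < j → j < 19 → a ^ i * x * (a ^ i)⁻¹ = a ^ j * x * (a ^ j)⁻¹ →
      Commute a x := by
    intro i j hij hj h
    have hd : a ^ (j - i) * x = x * a ^ (j - i) := by
      have hj' : a ^ j = a ^ i * a ^ (j - i) := by
        rw [← pow_add]
        congr 1
        omega
      rw [hj', mul_inv_rev] at h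
      have h3 : x = a ^ (j - i) * x * (a ^ (j - i))⁻¹ := by
        have h4 : (a ^ i)⁻¹ * (a ^ i * x * (a ^ i)⁻¹) * a ^ i =
            (a ^ i)⁻¹ * (a ^ i * a ^ (j - i) * x * ((a ^ (j - i))⁻¹ * (a ^ i)⁻¹)) * a ^ i := by
          rw [h]
        have h5 : (a ^ i)⁻¹ * (a ^ i * x * (a ^ i)⁻¹) * a ^ i = x := by group
        have h6 : (a ^ i)⁻¹ * (a ^ i * a ^ (j - i) * x * ((a ^ (j - i))⁻¹ * (a ^ i)⁻¹)) * a ^ i =
            a ^ (j - i) * x * (a ^ (j - i))⁻¹ := by group
        rw [h5, h6] at h4
        exact h4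
      calc a ^ (j - i) * x = a ^ (j - i) * x * (a ^ (j - i))⁻¹ * a ^ (j - i) := by group
        _ = x * a ^ (j - i) := by rw [← h3]
    have hcop : Nat.Coprime (j - i) 19 := by
      have hp : Nat.Prime 19 := by norm_num
      refine (Nat.Coprime.symm ?_)
      rw [Nat.Prime.coprime_iff_not_dvd hp]
      intro hdvd
      have := Nat.le_of_dvd (by omega) hdvd
      omega
    obtain ⟨u, -, hu⟩ := Nat.exists_mul_mod_eq_one_of_coprime hcop (by norm_num)
    have hau : a ^ ((j - i) * u) = a := by
      have h1 : (j - i) * u = 19 * ((j - i) * u / 19) + 1 := by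
        have := Nat.div_add_mod ((j - i) * u) 19
        omega
      rw [h1, pow_add, pow_mul, ha, one_pow, one_mul, pow_one]
    have hc : Commute (a ^ (j - i)) x := hd
    have := hc.pow_left u
    rw [← pow_mul, hau] at this
    exact this
  have hf' : a ^ (i : ℕ) * x * (a ^ (i : ℕ))⁻¹ = a ^ (j : ℕ) * x * (a ^ (j : ℕ))⁻¹ :=
    congrArg Subtype.val hf
  have hne : (i : ℕ) ≠ (j : ℕ) := fun h => hij (Fin.ext h)
  rcases Nat.lt_or_gt_of_ne hne with h | h
  · exact key i j h j.2 hf'
  · exact key j i h i.2 hf'.symm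

/-- a prime power that divides `9240` is less than `19` -/
theorem prime_pow_dvd_9240 (q k : ℕ) (hq : q.Prime) (h : q ^ k ∣ 9240) : q ^ k < 19 := by
  rcases Nat.eq_zero_or_pos k with rfl | hk
  · norm_num
  have hq1 : q ∣ 9240 := dvd_trans (dvd_pow_self q (by omega)) h
  have h9240 : (9240 : ℕ) = 2 ^ 3 * 3 * 5 * 7 * 11 := by norm_num
  have hcases : q = 2 ∨ q = 3 ∨ q = 5 ∨ q = 7 ∨ q = 11 := by
    rw [h9240] at hq1
    rcases (Nat.Prime.dvd_mul hq).1 hq1 with h1 | h1
    · rcases (Nat.Prime.dvd_mul hq).1 h1 with h2 | h2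
      · rcases (Nat.Prime.dvd_mul hq).1 h2 with h3 | h3
        · rcases (Nat.Prime.dvd_mul hq).1 h3 with h4 | h4
          · left
            exact (Nat.prime_dvd_prime_iff_eq hq (by norm_num)).1 (hq.dvd_of_dvd_pow h4)
          · right; left
            exact (Nat.prime_dvd_prime_iff_eq hq (by norm_num)).1 h4
        · right; right; left
          exact (Nat.prime_dvd_prime_iff_eq hq (by norm_num)).1 h3
      · right; right; right; left
        exact (Nat.prime_dvd_prime_iff_eq hq (by norm_num)).1 h2
    · right; right; right; right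
      exact (Nat.prime_dvd_prime_iff_eq hq (by norm_num)).1 h1
  have hbound : ∀ (q b : ℕ), ¬ q ^ (b + 1) ∣ 9240 → q ^ k ∣ 9240 → k ≤ b := by
    intro q b h1 h2
    by_contra hcon
    push Not at hcon
    exact h1 (dvd_trans (pow_dvd_pow q hcon) h2)
  rcases hcases with rfl | rfl | rfl | rfl | rfl
  · have hk3 : k ≤ 3 := hbound 2 3 (by norm_num) h
    interval_cases k
    all_goals norm_num
  · have hk3 : k ≤ 1 := hbound 3 1 (by norm_num) h
    interval_cases k
    all_goals norm_num
  · have hk3 : k ≤ 1 := hbound 5 1 (by norm_num) h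
    interval_cases k
    all_goals norm_num
  · have hk3 : k ≤ 1 := hbound 7 1 (by norm_num) h
    interval_cases k
    all_goals norm_num
  · have hk3 : k ≤ 1 := hbound 11 1 (by norm_num) h
    interval_cases k
    all_goals norm_num

variable [Finite G]

/-- **Coprime action**: a subgroup of order `19` centralizes every subgroup that it normalizes and
whose order divides `9240`. -/
theorem le_centralizer_of_card (N A : Subgroup G) (hAN : A ≤ Subgroup.normalizer (N : Set G))
    (hA : Nat.card A = 19) (hN : Nat.card N ∣ 9240) :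
    N ≤ Subgroup.centralizer (A : Set G) := by
  classical
  have hp19 : Nat.Prime 19 := by norm_num
  have hcopA : (Nat.card A).Coprime (Nat.card N) := by
    rw [hA]
    refine Nat.Coprime.coprime_dvd_right hN ?_
    norm_num
  have hsolv : Group.IsSolvable A := by
    have : Fact (Nat.Prime 19) := ⟨hp19⟩
    have hcyc : IsCyclic A := isCyclic_of_prime_card hA
    have hcomm : IsMulCommutative A := IsCyclic.isMulCommutative
    exact Group.isSolvable_of_comm (fun a b => hcomm.is_comm.comm a b)
  -- the subgroup of the elements of `N` that commute with `A`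
  set C : Subgroup G := N ⊓ Subgroup.centralizer (A : Set G) with hC
  have hdvd : Nat.card N ∣ Nat.card C := by
    rw [Nat.dvd_iff_prime_pow_dvd_dvd]
    intro q k hq hqk
    have : Fact q.Prime := ⟨hq⟩
    obtain ⟨Q, hQ⟩ := Cfsg.Agent.Lib.Lead.coprime_invariant_sylow_exists A N hAN hcopA
      (Or.inl hsolv) q
    set Q' : Subgroup G := (Q : Subgroup N).map N.subtype with hQ'
    have hQcard : Nat.card Q' = q ^ (Nat.card N).factorization q := by
      rw [hQ', Subgroup.card_map_of_injective N.subtype_injective]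
      exact Q.card_eq_multiplicity
    have hQlt : Nat.card Q' < 19 := by
      rw [hQcard]
      exact prime_pow_dvd_9240 q _ hq (dvd_trans (Nat.ordProj_dvd _ _) hN)
    have hQle : Q' ≤ C := by
      intro x hx
      rw [hC, Subgroup.mem_inf]
      refine ⟨Subgroup.map_subtype_le _ hx, ?_⟩
      rw [Subgroup.mem_centralizer_iff]
      intro a ha
      have ha19 : a ^ 19 = 1 := by
        have h1 : (⟨a, ha⟩ : A) ^ Nat.card A = 1 := pow_card_eq_one'
        rw [hA] at h1
        exact congrArg Subtype.val h1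
      have hnorm : ∀ y ∈ Q', a * y * a⁻¹ ∈ Q' := by
        intro y hy
        have h1 := hQ ha
        rw [Subgroup.mem_normalizer_iff] at h1
        exact (h1 y).1 hy
      exact (commute_of_normalizes_small a ha19 Q' hQlt hnorm x hx).eq
    have h1 : q ^ k ∣ q ^ (Nat.card N).factorization q := by
      apply pow_dvd_pow
      exact (hq.pow_dvd_iff_le_factorization Nat.card_pos.ne').1 hqk
    rw [← hQcard] at h1
    exact dvd_trans h1 (Subgroup.card_dvd_of_le hQle)
  have hCN : C ≤ N := inf_le_left
  have hle : Nat.card N ≤ Nat.card C := Nat.le_of_dvd Nat.card_pos hdvd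
  have heq : C = N := Subgroup.eq_of_le_of_card_ge hCN hle
  rw [← heq]
  exact inf_le_right

end Cfsg.Agent.Lib.Helper6.OrdN
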