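import Mathlib
import Cfsg.Agent.Lib.Helper6.OrdN3
import Cfsg.Agent.Lib.Helper6.OrdN4

/-!
# Groups whose order divides `175560`: simple, or the Sylow `19`-subgroups are normal
-/

set_option autoImplicit false
set_option maxHeartbeats 1600000

namespace Cfsg.Agent.Lib.Helper6.OrdN

open Cfsg.Agent.Lib.Helper6.OrdL

universe u

/-- the order of a Sylow `19`-subgroup of a group whose order divides `175560` -/
theorem card_sylow19 {H : Type u} [Group H] [Finite H] (hn : Nat.card H ∣ 175560)
    (P : Sylow 19 H) :
    (¬ 19 ∣ Nat.card H ∧ Nat.card P = 1) ∨ (19 ∣ Nat.card H ∧ Nat.card P = 19) := by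
  have : Fact (Nat.Prime 19) := ⟨by norm_num⟩
  obtain ⟨k, hk⟩ := IsPGroup.iff_card.1 P.2
  have hdvd : 19 ^ k ∣ 175560 := by
    rw [← hk]
    exact dvd_trans (Subgroup.card_subgroup_dvd_card _) hn
  have hk1 : k ≤ 1 := by
    by_contra hcon
    push Not at hcon
    have h1 : 19 ^ 2 ∣ 175560 := dvd_trans (pow_dvd_pow 19 hcon) hdvd
    norm_num at h1
  by_cases h19 : 19 ∣ Nat.card H
  · right
    refine ⟨h19, ?_⟩
    have h2 : 19 ∣ Nat.card P := P.dvd_card_of_dvd_card h19
    interval_cases k
    · rw [hk] at h2
      norm_num at h2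
    · rw [hk]
      norm_num
  · left
    refine ⟨h19, ?_⟩
    interval_cases k
    · rw [hk]
      norm_num
    · exfalso
      apply h19
      have h2 : Nat.card P ∣ Nat.card H := Subgroup.card_subgroup_dvd_card _
      rw [hk] at h2
      simpa using h2

/-- **Groups whose order divides `175560`** are non-abelian simple, or their Sylow `19`-subgroups
are normal. -/
theorem main19 (n : ℕ) : ∀ (H : Type u) [Group H] [Finite H], Nat.card H = n → n ∣ 175560 →
    (IsSimpleGroup H ∧ ¬ IsMulCommutative H) ∨ ∀ P : Sylow 19 H, (P : Subgroup H).Normal := by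
  induction n using Nat.strong_induction_on with
  | _ n ih =>
  intro H _ _ hcard hdvd
  have : Fact (Nat.Prime 19) := ⟨by norm_num⟩
  have hp19 : Nat.Prime 19 := by norm_num
  have hHdvd : Nat.card H ∣ 175560 := hcard ▸ hdvd
  have hnle : n ≤ 175560 := Nat.le_of_dvd (by norm_num) hdvd
  by_cases h19 : 19 ∣ n
  swap
  · right
    intro P
    rcases card_sylow19 hHdvd P with ⟨-, h1⟩ | ⟨h1, -⟩
    · rw [Subgroup.card_eq_one.1 h1]
      infer_instance
    · exact absurd (hcard ▸ h1) h19
  by_cases hs : IsSimpleGroup H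
  · by_cases hc : IsMulCommutative H
    · right
      intro P
      refine ⟨fun x hx g => ?_⟩
      have h1 : g * x = x * g := hc.is_comm.comm g x
      rw [h1, mul_assoc, mul_inv_cancel, mul_one]
      exact hx
    · left
      exact ⟨hs, hc⟩
  right
  intro P
  have hPcard : Nat.card P = 19 := by
    rcases card_sylow19 hHdvd P with ⟨h1, -⟩ | ⟨-, h1⟩
    · exact absurd (hcard.symm ▸ h19) h1
    · exact h1
  have hnt : Nontrivial H := by
    rw [← Finite.one_lt_card_iff_nontrivial, hcard]
    have := Nat.le_of_dvd (Nat.pos_of_dvd_of_pos hdvd (by norm_num)) h19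
    omega
  obtain ⟨N, hNn, hNbot, hNtop⟩ : ∃ N : Subgroup H, N.Normal ∧ N ≠ ⊥ ∧ N ≠ ⊤ := by
    by_contra hcon
    push Not at hcon
    exact hs { exists_pair_ne := hnt.exists_pair_ne
               eq_bot_or_eq_top_of_normal := fun N hN => by
                by_contra h
                push Not at h
                exact h.2 (hcon N hN h.1) }
  have := hNn
  have hNcard_dvd : Nat.card N ∣ n := hcard ▸ Subgroup.card_subgroup_dvd_card N
  have hmul : Nat.card (H ⧸ N) * Nat.card N = n := by
    rw [← hcard]
    exact (Subgroup.card_eq_card_quotient_mul_card_subgroup N).symm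
  have hN1 : 1 < Nat.card N := (Subgroup.one_lt_card_iff_ne_bot N).2 hNbot
  have hQ1 : 1 < Nat.card (H ⧸ N) := by
    have h1 : N.index ≠ 1 := fun h => hNtop (Subgroup.index_eq_one.1 h)
    have h2 : N.index ≠ 0 := Subgroup.index_ne_zero_of_finite
    rw [Subgroup.index_eq_card] at h1 h2
    omega
  have hNlt : Nat.card N < n := by
    rw [← hmul]
    have hpos : 0 < Nat.card N := Nat.card_pos
    nlinarith
  have hQlt : Nat.card (H ⧸ N) < n := by
    rw [← hmul]
    have hpos : 0 < Nat.card (H ⧸ N) := Nat.card_pos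
    nlinarith
  have hQcard_dvd : Nat.card (H ⧸ N) ∣ n := ⟨Nat.card N, hmul.symm⟩
  -- a non-abelian simple group of order `19 m`, `m` a proper divisor of `9240`, does not exist
  have hno : ∀ (K : Type u) [Group K] [Finite K], Nat.card K < n → Nat.card K ∣ 175560 →
      19 ∣ Nat.card K → IsSimpleGroup K → ¬ IsMulCommutative K → False := by
    intro K _ _ hlt hKdvd hK19 hsK hcK
    obtain ⟨m', hm'⟩ := hK19
    have h1 : m' ∣ 9240 := by
      rw [hm'] at hKdvd
      have h2 : (175560 : ℕ) = 19 * 9240 := by norm_num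
      rw [h2] at hKdvd
      exact Nat.dvd_of_mul_dvd_mul_left (by norm_num) hKdvd
    have h2 : m' ≠ 9240 := by
      intro h
      rw [h] at hm'
      omega
    have := hsK
    exact no_simple_19 hcK m' h1 h2 hm'
  by_cases hN19 : 19 ∣ Nat.card N
  · -- the normal subgroup contains the Sylow `19`-subgroups
    rcases ih (Nat.card N) hNlt N rfl (dvd_trans hNcard_dvd hdvd) with ⟨hsN, hcN⟩ | hnorm
    · exact (hno N hNlt (dvd_trans hNcard_dvd hdvd) hN19 hsN hcN).elim
    · obtain ⟨Q⟩ : Nonempty (Sylow 19 N) := inferInstance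
      have hQcard : Nat.card Q = 19 := by
        rcases card_sylow19 (dvd_trans hNcard_dvd hdvd) Q with ⟨h1, -⟩ | ⟨-, h1⟩
        · exact absurd hN19 h1
        · exact h1
      have := Sylow.characteristic_of_normal Q (hnorm Q)
      have hQ'n : ((Q : Subgroup N).map N.subtype).Normal :=
        ConjAct.normal_of_characteristic_of_normal
      have hQ'card : Nat.card ((Q : Subgroup N).map N.subtype) =
          19 ^ (Nat.card H).factorization 19 := by
        rw [Subgroup.card_map_of_injective N.subtype_injective, ← P.card_eq_multiplicity, hPcard]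
        exact hQcard
      let S : Sylow 19 H := Sylow.ofCard _ hQ'card
      have hS : (S : Subgroup H).Normal := hQ'n
      have := Sylow.unique_of_normal S hS
      have hPS : P = S := Subsingleton.elim _ _
      rw [hPS]
      exact hS
  · -- the normal subgroup has order prime to `19`
    have hNdvd : Nat.card N ∣ 9240 := by
      have h1 : Nat.card N ∣ 19 * 9240 := by
        have h2 : (19 : ℕ) * 9240 = 175560 := by norm_num
        rw [h2]
        exact dvd_trans hNcard_dvd hdvd
      exact Nat.Coprime.dvd_of_dvd_mul_left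
        (Nat.Coprime.symm ((Nat.Prime.coprime_iff_not_dvd hp19).2 hN19)) h1
    have hq19 : 19 ∣ Nat.card (H ⧸ N) := by
      rw [← hmul] at h19
      rcases (Nat.Prime.dvd_mul hp19).1 h19 with h | h
      · exact h
      · exact absurd h hN19
    rcases ih (Nat.card (H ⧸ N)) hQlt (H ⧸ N) rfl (dvd_trans hQcard_dvd hdvd) with
      ⟨hsQ, hcQ⟩ | hnorm
    · exact (hno (H ⧸ N) hQlt (dvd_trans hQcard_dvd hdvd) hq19 hsQ hcQ).elim
    · have hPbar := hnorm (P.mapSurjective (QuotientGroup.mk'_surjective N))
      rw [Sylow.coe_mapSurjective] at hPbar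
      have hM : (Subgroup.comap (QuotientGroup.mk' N)
          ((P : Subgroup H).map (QuotientGroup.mk' N))).Normal := hPbar.comap _
      rw [QuotientGroup.comap_map_mk'] at hM
      have := hM
      have hfr := Sylow.normalizer_sup_eq_top' P (le_sup_right : (P : Subgroup H) ≤ N ⊔ P)
      have hPN : (P : Subgroup H) ≤ Subgroup.normalizer (N : Set H) := by
        rw [Subgroup.normalizer_eq_top_iff.2 hNn]
        exact le_top
      have hcen := le_centralizer_of_card N (P : Subgroup H) hPN hPcard hNdvd
      have hle : N ⊔ (P : Subgroup H) ≤ Subgroup.normalizer ((P : Subgroup H) : Set H) :=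
        sup_le (hcen.trans (Subgroup.centralizer_le_normalizer _)) Subgroup.le_normalizer
      have htop : Subgroup.normalizer ((P : Subgroup H) : Set H) = ⊤ := by
        rw [← hfr]
        exact (sup_eq_left.2 hle).symm
      exact Subgroup.normalizer_eq_top_iff.1 htop

end Cfsg.Agent.Lib.Helper6.OrdN
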