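import Mathlib
import Cfsg.Agent.Lib.Helper6.OrdQ1

/-!
# Simple groups of order `2520`: the Sylow `7`- and `5`-subgroups
-/

set_option autoImplicit false
set_option maxHeartbeats 1600000
set_option maxRecDepth 1000000

namespace Cfsg.Agent.Lib.Helper6.OrdT

open Cfsg Cfsg.Agent.Lib.Helper8 Cfsg.Agent.Lib.Helper6.OrdB Cfsg.Agent.Lib.Helper6.OrdD
  Cfsg.Agent.Lib.Helper6.OrdK Cfsg.Agent.Lib.Helper6.OrdH Cfsg.Agent.Lib.Helper6.OrdL
  Cfsg.Agent.Lib.Helper6.OrdG Cfsg.Agent.Lib.Helper6.OrdQ
open scoped ComplexConjugate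

universe u

theorem ti7 : tiFor (fun _ => true) 7 360 50 3 = true := by decide

theorem ti5 : tiFor (fun _ => true) 5 504 50 4 = true := by decide

section fin

variable {G : Type u} [Group G] [Finite G] [IsSimpleGroup G]

/-- the degrees of the irreducible characters are `0`, `±1` or `±3` modulo `7` -/
theorem ok7 (hG : ¬ IsMulCommutative G) (hn : Nat.card G = 2520) (ψ : IrrCharacter G) :
    okTI 7 3 (charDegree ψ.1) = true :=
  ti_degrees hG (fun _ => true) (fun _ => rfl) 7 360 50 3 (hp := ⟨by norm_num⟩) (by norm_num)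
    (by norm_num) (by rw [hn]) (by norm_num) (by norm_num) ti7 ψ

/-- the degrees of the irreducible characters are `0` or `±1` modulo `5` -/
theorem ok5 (hG : ¬ IsMulCommutative G) (hn : Nat.card G = 2520) (ψ : IrrCharacter G) :
    okTI 5 4 (charDegree ψ.1) = true :=
  ti_degrees hG (fun _ => true) (fun _ => rfl) 5 504 50 4 (hp := ⟨by norm_num⟩) (by norm_num)
    (by norm_num) (by rw [hn]) (by norm_num) (by norm_num) ti5 ψ

/-- the Sylow `7`-subgroups are self-centralizing, with normalizer of order `21` -/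
theorem cfg7 (hG : ¬ IsMulCommutative G) (hn : Nat.card G = 2520) (Q : Sylow 7 G) :
    Nat.card Q = 7 ∧
      Nat.card (Subgroup.normalizer ((Q : Subgroup G) : Set G)) = 7 * 3 ∧
      (Subgroup.centralizer ((Q : Subgroup G) : Set G)).relIndex
        (Subgroup.normalizer ((Q : Subgroup G) : Set G)) = 3 ∧ 3 ∣ 7 - 1 ∧
      Nat.card (Subgroup.centralizer ((Q : Subgroup G) : Set G)) = 7 ∧
      Subgroup.centralizer ((Q : Subgroup G) : Set G) = (Q : Subgroup G) :=
  ti_cfg hG (fun _ => true) (fun _ => rfl) 7 360 50 3 (hp := ⟨by norm_num⟩) (by norm_num)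
    (by norm_num) (by rw [hn]) (by norm_num) (by norm_num) ti7 Q

/-- the Sylow `5`-subgroups are self-centralizing, with normalizer of order `20` -/
theorem cfg5 (hG : ¬ IsMulCommutative G) (hn : Nat.card G = 2520) (Q : Sylow 5 G) :
    Nat.card Q = 5 ∧
      Nat.card (Subgroup.normalizer ((Q : Subgroup G) : Set G)) = 5 * 4 ∧
      (Subgroup.centralizer ((Q : Subgroup G) : Set G)).relIndex
        (Subgroup.normalizer ((Q : Subgroup G) : Set G)) = 4 ∧ 4 ∣ 5 - 1 ∧
      Nat.card (Subgroup.centralizer ((Q : Subgroup G) : Set G)) = 5 ∧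
      Subgroup.centralizer ((Q : Subgroup G) : Set G) = (Q : Subgroup G) :=
  ti_cfg hG (fun _ => true) (fun _ => rfl) 5 504 50 4 (hp := ⟨by norm_num⟩) (by norm_num)
    (by norm_num) (by rw [hn]) (by norm_num) (by norm_num) ti5 Q

/-- the possible degrees of the irreducible characters -/
def okD : ℕ → Bool := fun d => okTI 7 3 d && okTI 5 4 d

theorem okD_spec (hG : ¬ IsMulCommutative G) (hn : Nat.card G = 2520) (ψ : IrrCharacter G) :
    okD (charDegree ψ.1) = true := by
  unfold okD
  rw [Bool.and_eq_true]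
  exact ⟨ok7 hG hn ψ, ok5 hG hn ψ⟩

end fin

end Cfsg.Agent.Lib.Helper6.OrdT
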