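import Mathlib
import Cfsg.Agent.Lib.Helper6.OrdT1
import Cfsg.Agent.Lib.Helper6.OrdQ4
import Cfsg.Agent.Lib.Helper1.O7920a

/-!
# Simple groups of order `2520`: the principal `7`-block, and no irreducible character of degree `4`
-/

set_option autoImplicit false
set_option maxHeartbeats 1600000
set_option maxRecDepth 1000000

namespace Cfsg.Agent.Lib.Helper6.OrdT

open Cfsg Cfsg.Agent.Lib.Helper8 Cfsg.Agent.Lib.Helper6.OrdB Cfsg.Agent.Lib.Helper6.OrdD
  Cfsg.Agent.Lib.Helper6.OrdK Cfsg.Agent.Lib.Helper6.OrdH Cfsg.Agent.Lib.Helper6.OrdL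
  Cfsg.Agent.Lib.Helper6.OrdG Cfsg.Agent.Lib.Helper6.OrdQ
open scoped ComplexConjugate

universe u

section general

variable {G : Type u} [Group G] [Fintype G] {p e : ℕ} [hp : Fact p.Prime]

/-- if the normalizer of `P` has odd order, the generator of `P` is not a product of two conjugate
involutions -/
theorem count_eq_zero_of_odd (c : TI G p e) (hodd : ¬ 2 ∣ p * e) {t : G} (htt : t * t = 1)
    (ht1 : t ≠ 1) :
    Nat.card {q : G × G // IsConj t q.1 ∧ IsConj t q.2 ∧ q.1 * q.2 = c.x} = 0 := by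
  have hinv : ∀ g : G, IsConj t g → g * g = 1 ∧ g ≠ 1 := by
    intro g hg
    obtain ⟨u, hu⟩ := isConj_iff.1 hg
    rw [← hu]
    refine ⟨?_, ?_⟩
    · have : u * t * u⁻¹ * (u * t * u⁻¹) = u * (t * t) * u⁻¹ := by group
      rw [this, htt]; group
    · intro h
      apply ht1
      calc t = u⁻¹ * (u * t * u⁻¹) * u := by group
        _ = 1 := by rw [h]; group
  by_contra hne
  have hpos : 0 < Nat.card {q : G × G // IsConj t q.1 ∧ IsConj t q.2 ∧ q.1 * q.2 = c.x} :=
    Nat.pos_of_ne_zero hne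
  have hfin : Finite {q : G × G // IsConj t q.1 ∧ IsConj t q.2 ∧ q.1 * q.2 = c.x} :=
    (Nat.card_pos_iff.1 hpos).2
  obtain ⟨⟨⟨s1, s2⟩, h1, h2, h3⟩⟩ := (Nat.card_pos_iff.1 hpos).1
  simp only at h1 h2 h3
  obtain ⟨hs1, hs1ne⟩ := hinv s1 h1
  obtain ⟨hs2, -⟩ := hinv s2 h2
  have hs1inv : s1⁻¹ = s1 := inv_eq_of_mul_eq_one_right hs1
  have hs2inv : s2⁻¹ = s2 := inv_eq_of_mul_eq_one_right hs2
  -- `s1` inverts `x`
  have hconj : s1 * c.x * s1⁻¹ = c.x⁻¹ := by
    rw [← h3, hs1inv, mul_inv_rev, hs1inv, hs2inv]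
    calc s1 * (s1 * s2) * s1 = (s1 * s1) * s2 * s1 := by group
      _ = s2 * s1 := by rw [hs1, one_mul]
  have hN : s1 ∈ Subgroup.normalizer ((c.P : Subgroup G) : Set G) := by
    rw [Subgroup.mem_normalizer_iff]
    intro h
    rw [c.hPx]
    constructor
    · intro hh
      obtain ⟨k, rfl⟩ := Subgroup.mem_zpowers_iff.1 hh
      rw [← conj_zpow, hconj]
      exact Subgroup.zpow_mem _ (Subgroup.inv_mem _ (Subgroup.mem_zpowers _)) k
    · intro hh
      obtain ⟨k, hk⟩ := Subgroup.mem_zpowers_iff.1 hh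
      have : h = s1⁻¹ * (s1 * h * s1⁻¹) * s1 := by group
      rw [this, ← hk, hs1inv]
      have h5 : s1 * c.x ^ k * s1 = (s1 * c.x * s1⁻¹) ^ k := by
        rw [conj_zpow, hs1inv]
      rw [h5, hconj]
      exact Subgroup.zpow_mem _ (Subgroup.inv_mem _ (Subgroup.mem_zpowers _)) k
  have ho : orderOf s1 = 2 := orderOf_eq_prime (by rw [pow_two]; exact hs1) hs1ne
  have := orderOf_dvd_natCard (⟨s1, hN⟩ : Subgroup.normalizer ((c.P : Subgroup G) : Set G))
  rw [Subgroup.orderOf_mk, ho, c.hN] at this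
  exact hodd this

end general

variable {G : Type u} [Group G] [Fintype G] [IsSimpleGroup G] [Fintype (IrrCharacter G)]

open Classical in
/-- the principal `7`-block, with all predicates verified by the search -/
theorem seven_block (hG : ¬ IsMulCommutative G) (hn : Nat.card G = 2520) (ok : ℕ → Bool)
    (hok : ∀ ψ : IrrCharacter G, ok (charDegree ψ.1) = true) :
    ∃ c : TI G 7 3, trivIrr G ∈ c.X ∧
      (∀ χ ∈ c.X, (charDegree χ.1 : ℤ) ≡ c.εX χ [ZMOD 7]) ∧
      (∀ θ ∈ c.Y, (charDegree θ.1 : ℤ) ≡ c.ε * (3 : ℤ) [ZMOD 7]) ∧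
      ∀ (w : ℕ → ℕ) (R : ℕ → ℕ → ℕ → ℕ → Bool),
        chkW ok w R (7 * 360) 2520 7 360 50 3 7 = true →
        ∃ θ0 ∈ c.Y, R 3 7 (∑ χ ∈ c.Xf.erase (trivIrr G), w (charDegree χ.1))
          (charDegree θ0.1) = true := by
  have h7 : Fact (Nat.Prime 7) := ⟨by norm_num⟩
  obtain ⟨P⟩ : Nonempty (Sylow 7 G) := inferInstance
  obtain ⟨hPcard, hN, he, hep, hc', hCP⟩ := cfg7 hG hn P
  have hS : ∀ Q : Sylow 7 G, Nat.card Q = 7 ∧
      Subgroup.centralizer ((Q : Subgroup G) : Set G) = (Q : Subgroup G) := by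
    intro Q
    obtain ⟨h1, -, -, -, -, h2⟩ := cfg7 hG hn Q
    exact ⟨h1, h2⟩
  obtain ⟨c, hcP⟩ := exists_D1 7 P hPcard 3 he hep
  have hbud : ∀ S : Finset (IrrCharacter G), (∀ ψ ∈ S, ¬ 7 ∣ charDegree ψ.1) →
      ∑ ψ ∈ S, (charDegree ψ.1) ^ 2 ≤ 2520 := by
    intro S _
    rw [← hn]
    exact sum_sq_le S
  have htX : trivIrr G ∈ c.X := by
    have hspec := chkW_spec hG (fun _ => true) (fun _ => 0) (fun _ _ _ _ => true) (fun _ => rfl)
      7 360 50 2520 (by norm_num) (by rw [hn]) (by norm_num) (by norm_num) hbud P (k := 3)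
      (by norm_num) hep (by norm_num) hc' (by norm_num) c hcP (by decide)
    exact (hspec.2 (by norm_num)).1
  refine ⟨toTI c hS (by rw [hcP]; exact hN), htX, c.hXdeg, ?_, ?_⟩
  · intro θ hθ
    have := c.hYdeg θ hθ
    exact_mod_cast this
  · intro w R hdec
    have hspec := chkW_spec hG ok w R hok 7 360 50 2520 (by norm_num)
      (by rw [hn]) (by norm_num) (by norm_num) hbud P (k := 3) (by norm_num) hep (by norm_num) hc'
      (by norm_num) c hcP hdec
    obtain ⟨-, θ0, hθ0, hR⟩ := hspec.2 (by norm_num)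
    exact ⟨θ0, hθ0, hR⟩

theorem chk7_15 : chkW okD (fun d => if d = 15 then 1 else 0)
    (fun _ _ q2 d0 => (d0 != 4) || (q2 == 1)) (7 * 360) 2520 7 360 50 3 7 = true := by
  decide

theorem chk7_20 : chkW okD (fun d => if d = 20 then 1 else 0)
    (fun _ _ q2 d0 => (d0 != 4) || (q2 == 1)) (7 * 360) 2520 7 360 50 3 7 = true := by
  decide

/-- the arithmetic of the class multiplication coefficient -/
theorem arith_deg4 (k : ℕ) (n : ℤ) (hk : 0 < k)
    (h : (k : ℤ) ^ 2 * (n ^ 2 - 6 * n + 57) = 0) : False := by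
  have h1 : 0 < (k : ℤ) ^ 2 := by positivity
  have h2 : 0 < n ^ 2 - 6 * n + 57 := by nlinarith [sq_nonneg (n - 3)]
  have := mul_pos h1 h2
  omega

open Classical in
/-- **No irreducible character has degree `4`.** -/
theorem no_deg4 (hG : ¬ IsMulCommutative G) (hn : Nat.card G = 2520) (θ : IrrCharacter G) :
    charDegree θ.1 ≠ 4 := by
  intro h4
  have h7 : Fact (Nat.Prime 7) := ⟨by norm_num⟩
  have h2' : Fact (Nat.Prime 2) := ⟨by norm_num⟩
  have hperf : commutator G = ⊤ := commutator_eq_top hG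
  obtain ⟨c, htX, hXdeg, hYdeg, hsearch⟩ := seven_block hG hn okD (okD_spec hG hn)
  have h1reg : ¬ 7 ∣ orderOf (1 : G) := by rw [orderOf_one]; norm_num
  -- `θ` is exceptional
  have hθY : θ ∈ c.Y := by
    by_contra hY
    by_cases hX : θ ∈ c.X
    · have h1 := hXdeg θ hX
      rw [h4] at h1
      unfold Int.ModEq at h1
      rcases c.hεX θ hX with h2 | h2 <;> rw [h2] at h1 <;> norm_num at h1
    · have h1 := TI.dvd_deg_of_not_mem c hX hY
      rw [h4] at h1
      norm_num at h1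
  have hYdeg4 : ∀ θ' ∈ c.Y, charDegree θ'.1 = 4 := by
    intro θ' hθ'
    have h := c.hYagree θ' hθ' θ hθY 1 h1reg
    rw [apply_one, apply_one, h4] at h
    exact_mod_cast h
  have hε : c.ε = -1 := by
    have h := hYdeg θ hθY
    rw [h4] at h
    unfold Int.ModEq at h
    rcases c.hε with h2 | h2
    · rw [h2] at h
      norm_num at h
    · exact h2
  obtain ⟨θ1, hθ1, hR1⟩ := hsearch _ _ chk7_15
  obtain ⟨θ2, hθ2, hR2⟩ := hsearch _ _ chk7_20
  rw [hYdeg4 θ1 hθ1] at hR1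
  rw [hYdeg4 θ2 hθ2] at hR2
  simp only [bne_self_eq_false, Bool.false_or, beq_iff_eq] at hR1 hR2
  rw [← Finset.card_filter] at hR1 hR2
  -- the non-exceptional characters
  have htXf : trivIrr G ∈ c.Xf := c.mem_Xf.2 htX
  obtain ⟨B, hB⟩ : ∃ B, B = c.Xf.erase (trivIrr G) := ⟨_, rfl⟩
  have hBcard : B.card = 2 := by rw [hB, Finset.card_erase_of_mem htXf, c.card_Xf]
  rw [← hB] at hR1 hR2
  obtain ⟨T15, hT15⟩ : ∃ T, T = B.filter (fun χ => charDegree χ.1 = 15) := ⟨_, rfl⟩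
  obtain ⟨T20, hT20⟩ : ∃ T, T = B.filter (fun χ => charDegree χ.1 = 20) := ⟨_, rfl⟩
  rw [← hT15] at hR1
  rw [← hT20] at hR2
  have hdis : Disjoint T15 T20 := by
    rw [hT15, hT20]
    exact Finset.disjoint_filter.2 (fun χ _ h1 h2 => by rw [h1] at h2; norm_num at h2)
  have hpart : T15 ∪ T20 = B := by
    apply Finset.eq_of_subset_of_card_le
    · rw [hT15, hT20]
      exact Finset.union_subset (Finset.filter_subset _ _) (Finset.filter_subset _ _)
    · rw [Finset.card_union_of_disjoint hdis, hR1, hR2, hBcard]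
  obtain ⟨d, hd⟩ := Finset.card_eq_one.1 hR1
  obtain ⟨f, hf⟩ := Finset.card_eq_one.1 hR2
  have hXsum : ∀ F : IrrCharacter G → ℂ, ∑ χ ∈ c.Xf, F χ = F (trivIrr G) + (F d + F f) := by
    intro F
    rw [← Finset.add_sum_erase _ F htXf, ← hB, ← hpart, Finset.sum_union hdis, hd, hf,
      Finset.sum_singleton, Finset.sum_singleton]
  have hdmem : d ∈ B ∧ charDegree d.1 = 15 := by
    have : d ∈ T15 := by rw [hd]; exact Finset.mem_singleton_self _
    rw [hT15] at this
    exact Finset.mem_filter.1 this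
  have hfmem : f ∈ B ∧ charDegree f.1 = 20 := by
    have : f ∈ T20 := by rw [hf]; exact Finset.mem_singleton_self _
    rw [hT20] at this
    exact Finset.mem_filter.1 this
  have hBX : ∀ χ : IrrCharacter G, χ ∈ B → χ ∈ c.X := by
    intro χ hχ
    rw [hB] at hχ
    exact c.mem_Xf.1 (Finset.mem_erase.1 hχ).2
  have hεt : c.εX (trivIrr G) = 1 := by
    have h := hXdeg _ htX
    rw [charDegree_trivIrr] at h
    unfold Int.ModEq at h
    rcases c.hεX _ htX with h2 | h2
    · exact h2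
    · rw [h2] at h
      norm_num at h
  have hεd : c.εX d = 1 := by
    have h := hXdeg d (hBX d hdmem.1)
    rw [hdmem.2] at h
    unfold Int.ModEq at h
    rcases c.hεX d (hBX d hdmem.1) with h2 | h2
    · exact h2
    · rw [h2] at h
      norm_num at h
  have hεf : c.εX f = -1 := by
    have h := hXdeg f (hBX f hfmem.1)
    rw [hfmem.2] at h
    unfold Int.ModEq at h
    rcases c.hεX f (hBX f hfmem.1) with h2 | h2
    · rw [h2] at h
      norm_num at h
    · exact h2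
  -- an involution
  obtain ⟨t, ht⟩ := exists_prime_orderOf_dvd_card' (G := G) 2 (by rw [hn]; norm_num)
  have htt : t * t = 1 := by rw [← pow_two, ← ht]; exact pow_orderOf_eq_one t
  have ht1 : t ≠ 1 := by
    rintro rfl
    rw [orderOf_one] at ht
    norm_num at ht
  have hreg : ¬ 7 ∣ orderOf t := by rw [ht]; norm_num
  -- the value of `θ`
  have hθne : θ ≠ trivIrr G := by
    intro h
    rw [h, charDegree_trivIrr] at h4
    norm_num at h4
  obtain ⟨b, hb, hθt, hbe⟩ := involution_apply hperf θ htt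
  rw [h4] at hb hθt
  have hθ0 : θ.1 t = 0 := by
    obtain ⟨r, hr⟩ := hbe
    have hcases : b = 0 ∨ b = 2 ∨ b = 4 := by omega
    rcases hcases with h | h | h
    · exfalso
      rw [h] at hθt
      have h5 : θ.1 t = θ.1 1 := by rw [hθt, apply_one, h4]; push_cast; ring
      exact ht1 (D1.faithful_of_ne_triv θ hθne t h5)
    · rw [hθt, h]; push_cast; ring
    · exfalso
      rw [h] at hθt
      have h5 : θ.1 t * θ.1 t = θ.1 1 * θ.1 1 := by
        rw [hθt, apply_one, h4]; push_cast; ring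
      exact ht1 (Cfsg.Agent.Lib.Helper1.O7920.eq_one_of_sq_eq θ.2 (d := 4)
        (by rw [apply_one, h4]) (by norm_num) h5)
  obtain ⟨bd, hbd, hdt, -⟩ := involution_apply hperf d htt
  rw [hdmem.2] at hbd hdt
  have hrel := c.hYsum θ hθY t hreg
  rw [c.finsum_X, hXsum, hεt, hεd, hεf, hε, hθ0, trivIrr_apply] at hrel
  have hft : f.1 t = 1 + d.1 t := by
    push_cast at hrel
    linear_combination hrel
  have hcm := c.class_mult hθY hreg
  rw [count_eq_zero_of_odd c (by norm_num) htt ht1, hXsum, hεt, hεd, hεf, hε, hθ0, trivIrr_apply,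
    trivIrr_apply, apply_one d, apply_one f, hdmem.2, hfmem.2, hft, hdt] at hcm
  obtain ⟨k, hkdef⟩ : ∃ k, k = Nat.card {v : G // IsConj t v} := ⟨_, rfl⟩
  rw [← hkdef] at hcm
  have hk0 : 0 < k := by
    rw [hkdef]
    have : Nonempty {v : G // IsConj t v} := ⟨⟨t, IsConj.refl t⟩⟩
    exact Nat.card_pos
  have hfin : ((k : ℤ) ^ 2 * (((15 : ℤ) - 2 * (bd : ℤ)) ^ 2 - 6 * ((15 : ℤ) - 2 * (bd : ℤ)) + 57)
      : ℤ) = 0 := by
    have : ((((k : ℤ) ^ 2 * (((15 : ℤ) - 2 * (bd : ℤ)) ^ 2 - 6 * ((15 : ℤ) - 2 * (bd : ℤ)) + 57)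
        : ℤ)) : ℂ) = 0 := by
      push_cast
      push_cast at hcm
      linear_combination (-60 : ℂ) * hcm
    exact_mod_cast this
  exact arith_deg4 k _ hk0 hfin

end Cfsg.Agent.Lib.Helper6.OrdT
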