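import Mathlib
import Cfsg.Agent.Lib.Helper6.OrdT2

/-!
# Simple groups of order `2520`: the principal blocks for the primes `7` and `5`
-/

set_option autoImplicit false
set_option maxHeartbeats 1600000
set_option maxRecDepth 1000000

namespace Cfsg.Agent.Lib.Helper6.OrdT

open Cfsg Cfsg.Agent.Lib.Helper8 Cfsg.Agent.Lib.Helper6.OrdB Cfsg.Agent.Lib.Helper6.OrdD
  Cfsg.Agent.Lib.Helper6.OrdK Cfsg.Agent.Lib.Helper6.OrdH Cfsg.Agent.Lib.Helper6.OrdL
  Cfsg.Agent.Lib.Helper6.OrdG Cfsg.Agent.Lib.Helper6.OrdQ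
open scoped ComplexConjugate

universe u

/-- the possible degrees of the irreducible characters, second version -/
def okE : ℕ → Bool := fun d => okD d && (d != 4)

theorem chk7_6 : chkW okE (fun d => if d = 6 then 1 else 0)
    (fun _ _ q2 d0 => (d0 == 10) && (q2 == 1)) (7 * 360) 2520 7 360 50 3 7 = true := by
  decide

theorem chk7_15' : chkW okE (fun d => if d = 15 then 1 else 0)
    (fun _ _ q2 d0 => (d0 == 10) && (q2 == 1)) (7 * 360) 2520 7 360 50 3 7 = true := by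
  decide

theorem chk5_6 : chkW okE (fun d => if d = 6 then 1 else 0)
    (fun _ _ q2 _ => (q2 == 1)) (5 * 504) 2520 5 504 50 4 5 = true := by
  decide

theorem chk5_21 : chkW okE (fun d => if d = 21 then 1 else 0)
    (fun _ _ q2 _ => (q2 == 1)) (5 * 504) 2520 5 504 50 4 5 = true := by
  decide

theorem chk5_14 : chkW okE (fun d => if d = 14 then 1 else 0)
    (fun _ _ q2 _ => (q2 == 2)) (5 * 504) 2520 5 504 50 4 5 = true := by
  decide

variable {G : Type u} [Group G] [Fintype G] [IsSimpleGroup G] [Fintype (IrrCharacter G)]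

omit [Fintype G] [Fintype (IrrCharacter G)] in
theorem okE_spec [Finite G] (hG : ¬ IsMulCommutative G) (hn : Nat.card G = 2520)
    (ψ : IrrCharacter G) : okE (charDegree ψ.1) = true := by
  classical
  have : Fintype G := Fintype.ofFinite G
  have : Fintype (IrrCharacter G) := Fintype.ofFinite _
  unfold okE
  simp only [Bool.and_eq_true, bne_iff_ne]
  exact ⟨okD_spec hG hn ψ, no_deg4 hG hn ψ⟩

open Classical in
/-- **The principal `7`-block** consists of the trivial character, a character of degree `15`, a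
character of degree `6` and two exceptional characters of degree `10`. -/
theorem seven_core (hG : ¬ IsMulCommutative G) (hn : Nat.card G = 2520) :
    ∃ (c : TI G 7 3) (θ0 : IrrCharacter G), θ0 ∈ c.Y ∧ trivIrr G ∈ c.X ∧
      c.εX (trivIrr G) = 1 ∧ c.ε = 1 ∧ (∀ θ ∈ c.Y, charDegree θ.1 = 10) ∧
      (∀ χ ∈ c.X, charDegree χ.1 = 15 → c.εX χ = 1) ∧
      (∀ χ ∈ c.X, charDegree χ.1 = 6 → c.εX χ = -1) ∧
      ((c.Xf.erase (trivIrr G)).filter (fun χ => charDegree χ.1 = 15)).card = 1 ∧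
      ((c.Xf.erase (trivIrr G)).filter (fun χ => charDegree χ.1 = 6)).card = 1 := by
  have h7 : Fact (Nat.Prime 7) := ⟨by norm_num⟩
  obtain ⟨c, htX, hXdeg, hYdeg, hsearch⟩ := seven_block hG hn okE (okE_spec hG hn)
  obtain ⟨θ1, hθ1, hR1⟩ := hsearch _ _ chk7_15'
  obtain ⟨θ2, hθ2, hR2⟩ := hsearch _ _ chk7_6
  simp only [Bool.and_eq_true, beq_iff_eq] at hR1 hR2
  obtain ⟨hd1, hq1⟩ := hR1
  obtain ⟨-, hq2⟩ := hR2
  rw [← Finset.card_filter] at hq1 hq2
  have h1reg : ¬ 7 ∣ orderOf (1 : G) := by rw [orderOf_one]; norm_num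
  have hYdeg10 : ∀ θ ∈ c.Y, charDegree θ.1 = 10 := by
    intro θ hθ
    have h := c.hYagree θ hθ θ1 hθ1 1 h1reg
    rw [apply_one, apply_one, hd1] at h
    exact_mod_cast h
  have hε : c.ε = 1 := by
    have h := hYdeg θ1 hθ1
    rw [hd1] at h
    unfold Int.ModEq at h
    rcases c.hε with h2 | h2
    · exact h2
    · rw [h2] at h
      norm_num at h
  have hεtriv : c.εX (trivIrr G) = 1 := by
    have h := hXdeg _ htX
    rw [charDegree_trivIrr] at h
    unfold Int.ModEq at h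
    rcases c.hεX _ htX with h2 | h2
    · exact h2
    · rw [h2] at h
      norm_num at h
  have h15 : ∀ χ ∈ c.X, charDegree χ.1 = 15 → c.εX χ = 1 := by
    intro χ hχ hd
    have h := hXdeg χ hχ
    rw [hd] at h
    unfold Int.ModEq at h
    rcases c.hεX χ hχ with h2 | h2
    · exact h2
    · rw [h2] at h
      norm_num at h
  have h6 : ∀ χ ∈ c.X, charDegree χ.1 = 6 → c.εX χ = -1 := by
    intro χ hχ hd
    have h := hXdeg χ hχ
    rw [hd] at h
    unfold Int.ModEq at h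
    rcases c.hεX χ hχ with h2 | h2
    · rw [h2] at h
      norm_num at h
    · exact h2
  exact ⟨c, θ1, hθ1, htX, hεtriv, hε, hYdeg10, h15, h6, hq1, hq2⟩

open Classical in
/-- **The principal `5`-block** consists of the trivial character, a character of degree `6`, a
character of degree `21` and two characters of degree `14`. -/
theorem five_core (hG : ¬ IsMulCommutative G) (hn : Nat.card G = 2520) :
    ∃ (c : TI G 5 4) (θ0 : IrrCharacter G), θ0 ∈ c.Y ∧ trivIrr G ∈ c.Bf θ0 ∧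
      (∀ χ ∈ c.Bf θ0, (charDegree χ.1 % 5 = 1 → c.δ θ0 χ = 1) ∧
        (charDegree χ.1 % 5 = 4 → c.δ θ0 χ = -1)) ∧
      (((c.Bf θ0).erase (trivIrr G)).filter (fun χ => charDegree χ.1 = 6)).card = 1 ∧
      (((c.Bf θ0).erase (trivIrr G)).filter (fun χ => charDegree χ.1 = 21)).card = 1 ∧
      (((c.Bf θ0).erase (trivIrr G)).filter (fun χ => charDegree χ.1 = 14)).card = 2 := by
  have h5 : Fact (Nat.Prime 5) := ⟨by norm_num⟩
  obtain ⟨P⟩ : Nonempty (Sylow 5 G) := inferInstance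
  obtain ⟨hPcard, hN, he, hep, hc', hCP⟩ := cfg5 hG hn P
  have hS : ∀ Q : Sylow 5 G, Nat.card Q = 5 ∧
      Subgroup.centralizer ((Q : Subgroup G) : Set G) = (Q : Subgroup G) := by
    intro Q
    obtain ⟨h1, -, -, -, -, h2⟩ := cfg5 hG hn Q
    exact ⟨h1, h2⟩
  obtain ⟨c, hcP⟩ := exists_D1 5 P hPcard 4 he hep
  have hbud : ∀ S : Finset (IrrCharacter G), (∀ ψ ∈ S, ¬ 5 ∣ charDegree ψ.1) →
      ∑ ψ ∈ S, (charDegree ψ.1) ^ 2 ≤ 2520 := by
    intro S _
    rw [← hn]
    exact sum_sq_le S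
  have hspec1 := chkW_spec hG okE _ _ (okE_spec hG hn) 5 504 50 2520 (by norm_num) (by rw [hn])
    (by norm_num) (by norm_num) hbud P (k := 4) (by norm_num) hep (by norm_num) hc'
    (by norm_num) c hcP chk5_6
  have hspec2 := chkW_spec hG okE _ _ (okE_spec hG hn) 5 504 50 2520 (by norm_num) (by rw [hn])
    (by norm_num) (by norm_num) hbud P (k := 4) (by norm_num) hep (by norm_num) hc'
    (by norm_num) c hcP chk5_21
  have hspec3 := chkW_spec hG okE _ _ (okE_spec hG hn) 5 504 50 2520 (by norm_num) (by rw [hn])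
    (by norm_num) (by norm_num) hbud P (k := 4) (by norm_num) hep (by norm_num) hc'
    (by norm_num) c hcP chk5_14
  obtain ⟨θ1, hθ1, hR1⟩ := hspec1.1 rfl
  obtain ⟨θ2, hθ2, hR2⟩ := hspec2.1 rfl
  obtain ⟨θ3, hθ3, hR3⟩ := hspec3.1 rfl
  have hYcard : c.Yf.card = 1 := by
    have := c.card_Yf
    omega
  obtain ⟨θ0, hYeq⟩ := Finset.card_eq_one.1 hYcard
  have hYuniq : ∀ θ ∈ c.Y, θ = θ0 := by
    intro θ hθ
    have : θ ∈ c.Yf := c.mem_Yf.2 hθ
    rw [hYeq, Finset.mem_singleton] at this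
    exact this
  rw [hYuniq θ1 hθ1] at hR1
  rw [hYuniq θ2 hθ2] at hR2
  rw [hYuniq θ3 hθ3] at hR3
  have hθ0 : θ0 ∈ c.Y := by rw [← hYuniq θ1 hθ1]; exact hθ1
  simp only [beq_iff_eq] at hR1 hR2 hR3
  rw [← Finset.card_filter] at hR1 hR2 hR3
  have htrivmem : trivIrr G ∈ c.Bf θ0 := by
    rw [c.mem_Bf]
    rcases c.triv_mem with h | h
    · exact Or.inr h
    · left
      exact hYuniq _ h
  refine ⟨toTI c hS (by rw [hcP]; exact hN), θ0, hθ0, htrivmem, ?_, hR1, hR2, hR3⟩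
  intro χ hχ
  exact δ_of_deg5 c hθ0 hχ

end Cfsg.Agent.Lib.Helper6.OrdT
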