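import Mathlib
import Cfsg.Agent.Lib.Helper6.OrdT3
import Cfsg.Agent.Lib.Helper6.OrdR3

/-!
# Simple groups of order `2520`: the relations between the irreducible characters
-/

set_option autoImplicit false
set_option maxHeartbeats 3200000
set_option maxRecDepth 1000000

namespace Cfsg.Agent.Lib.Helper6.OrdT

open Cfsg Cfsg.Agent.Lib.Helper8 Cfsg.Agent.Lib.Helper6.OrdB Cfsg.Agent.Lib.Helper6.OrdD
  Cfsg.Agent.Lib.Helper6.OrdK Cfsg.Agent.Lib.Helper6.OrdH Cfsg.Agent.Lib.Helper6.OrdL
  Cfsg.Agent.Lib.Helper6.OrdG Cfsg.Agent.Lib.Helper6.OrdQ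
open scoped ComplexConjugate

universe u

/-- The irreducible characters of a simple group of order `2520`, with the relations of the
principal blocks for the primes `5` and `7`. -/
structure Tab (G : Type u) [Group G] [Fintype G] [Fintype (IrrCharacter G)] where
  a : IrrCharacter G
  s1 : IrrCharacter G
  s2 : IrrCharacter G
  c1 : IrrCharacter G
  c2 : IrrCharacter G
  d : IrrCharacter G
  b : IrrCharacter G
  f : IrrCharacter G
  x7 : G
  y5 : G
  da : charDegree a.1 = 6
  ds1 : charDegree s1.1 = 10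
  ds2 : charDegree s2.1 = 10
  dc1 : charDegree c1.1 = 14
  dc2 : charDegree c2.1 = 14
  dd : charDegree d.1 = 15
  db : charDegree b.1 = 21
  df : charDegree f.1 = 35
  hsum : ∀ F : IrrCharacter G → ℂ, ∑ χ : IrrCharacter G, F χ =
      F (trivIrr G) + F a + F s1 + F s2 + F c1 + F c2 + F d + F b + F f
  rel7 : ∀ g : G, ¬ 7 ∣ orderOf g → 1 + d.1 g - a.1 g - s1.1 g = 0
  agree : ∀ g : G, ¬ 7 ∣ orderOf g → s1.1 g = s2.1 g
  rel5 : ∀ g : G, ¬ 5 ∣ orderOf g → 1 + a.1 g + b.1 g - c1.1 g - c2.1 g = 0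
  cm7 : ∀ g h : G, ¬ 7 ∣ orderOf g → ¬ 7 ∣ orderOf h →
      (Nat.card {q : G × G // IsConj g q.1 ∧ IsConj h q.2 ∧ q.1 * q.2 = x7} : ℂ) * 2520 =
        (Nat.card {v : G // IsConj g v} : ℂ) * (Nat.card {v : G // IsConj h v} : ℂ) *
        (1 + d.1 g * d.1 h / 15 - a.1 g * a.1 h / 6 - s1.1 g * s1.1 h / 10)
  cm5 : ∀ g h : G, ¬ 5 ∣ orderOf g → ¬ 5 ∣ orderOf h →
      (Nat.card {q : G × G // IsConj g q.1 ∧ IsConj h q.2 ∧ q.1 * q.2 = y5} : ℂ) * 2520 =
        (Nat.card {v : G // IsConj g v} : ℂ) * (Nat.card {v : G // IsConj h v} : ℂ) *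
        (1 + a.1 g * a.1 h / 6 + b.1 g * b.1 h / 21 - c1.1 g * c1.1 h / 14
          - c2.1 g * c2.1 h / 14)
  cnt7 : ∀ t : G, t * t = 1 → t ≠ 1 →
      Nat.card {q : G × G // IsConj t q.1 ∧ IsConj t q.2 ∧ q.1 * q.2 = x7} = 0
  cnt5 : ∀ t : G, t * t = 1 →
      Nat.card {q : G × G // IsConj t q.1 ∧ IsConj t q.2 ∧ q.1 * q.2 = y5} ≤ 5
  reg7 : ∀ t : G, t ≠ 1 → ¬ 7 ∣ orderOf t → ¬ 7 ∣ Nat.card (Subgroup.centralizer ({t} : Set G))
  reg5 : ∀ t : G, t ≠ 1 → ¬ 5 ∣ orderOf t → ¬ 5 ∣ Nat.card (Subgroup.centralizer ({t} : Set G))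

variable {G : Type u} [Group G] [Fintype G] [IsSimpleGroup G] [Fintype (IrrCharacter G)]

open Classical in
/-- **The character table data** of a simple group of order `2520`. -/
theorem exists_tab (hG : ¬ IsMulCommutative G) (hn : Nat.card G = 2520) : Nonempty (Tab G) := by
  have h7 : Fact (Nat.Prime 7) := ⟨by norm_num⟩
  have h5 : Fact (Nat.Prime 5) := ⟨by norm_num⟩
  have hperf : commutator G = ⊤ := commutator_eq_top hG
  obtain ⟨c7, θ0, hθ0, htX, hεt, hε, hY10, h15s, h6s, hc15, hc6⟩ := seven_core hG hn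
  obtain ⟨c5, θ5, hθ5, htriv5, hδ5, hq6, hq21, hq14⟩ := five_core hG hn
  -- the principal `7`-block
  have hXcard : c7.Xf.card = 3 := c7.card_Xf
  have htXf : trivIrr G ∈ c7.Xf := c7.mem_Xf.2 htX
  obtain ⟨B, hB⟩ : ∃ B, B = c7.Xf.erase (trivIrr G) := ⟨_, rfl⟩
  have hBcard : B.card = 2 := by rw [hB, Finset.card_erase_of_mem htXf, hXcard]
  rw [← hB] at hc15 hc6
  obtain ⟨T15, hT15⟩ : ∃ T, T = B.filter (fun χ => charDegree χ.1 = 15) := ⟨_, rfl⟩
  obtain ⟨T6, hT6⟩ : ∃ T, T = B.filter (fun χ => charDegree χ.1 = 6) := ⟨_, rfl⟩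
  rw [← hT15] at hc15
  rw [← hT6] at hc6
  have hdis : Disjoint T15 T6 := by
    rw [hT15, hT6]
    exact Finset.disjoint_filter.2 (fun χ _ h1 h2 => by rw [h1] at h2; norm_num at h2)
  have hpart : T15 ∪ T6 = B := by
    apply Finset.eq_of_subset_of_card_le
    · rw [hT15, hT6]
      exact Finset.union_subset (Finset.filter_subset _ _) (Finset.filter_subset _ _)
    · rw [Finset.card_union_of_disjoint hdis, hc15, hc6, hBcard]
  obtain ⟨d, hd⟩ := Finset.card_eq_one.1 hc15
  obtain ⟨a, ha⟩ := Finset.card_eq_one.1 hc6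
  have hXsum : ∀ F : IrrCharacter G → ℂ, ∑ χ ∈ c7.Xf, F χ = F (trivIrr G) + (F d + F a) := by
    intro F
    rw [← Finset.add_sum_erase _ F htXf, ← hB, ← hpart, Finset.sum_union hdis, hd, ha,
      Finset.sum_singleton, Finset.sum_singleton]
  have hdmem : d ∈ B ∧ charDegree d.1 = 15 := by
    have : d ∈ T15 := by rw [hd]; exact Finset.mem_singleton_self _
    rw [hT15] at this
    exact Finset.mem_filter.1 this
  have hamem : a ∈ B ∧ charDegree a.1 = 6 := by
    have : a ∈ T6 := by rw [ha]; exact Finset.mem_singleton_self _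
    rw [hT6] at this
    exact Finset.mem_filter.1 this
  have hBX : ∀ χ : IrrCharacter G, χ ∈ B → χ ∈ c7.X := by
    intro χ hχ
    rw [hB] at hχ
    exact c7.mem_Xf.1 (Finset.mem_erase.1 hχ).2
  -- the members of `X`
  have hXmem : ∀ χ : IrrCharacter G, χ ∈ c7.X → χ = trivIrr G ∨ χ = d ∨ χ = a := by
    intro χ hχ
    by_cases h1 : χ = trivIrr G
    · left; exact h1
    · have : χ ∈ B := by
        rw [hB]
        exact Finset.mem_erase.2 ⟨h1, c7.mem_Xf.2 hχ⟩
      rw [← hpart, Finset.mem_union, hd, ha, Finset.mem_singleton, Finset.mem_singleton] at this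
      right; exact this
  have hYcard : c7.Yf.card = 2 := by
    have := c7.card_Yf
    omega
  obtain ⟨s1, s2, hs12, hs⟩ := Finset.card_eq_two.1 hYcard
  have hs1Y : s1 ∈ c7.Y := c7.mem_Yf.1 (by rw [hs]; simp)
  have hs2Y : s2 ∈ c7.Y := c7.mem_Yf.1 (by rw [hs]; simp)
  have hYmem : ∀ χ : IrrCharacter G, χ ∈ c7.Y → χ = s1 ∨ χ = s2 := by
    intro χ hχ
    have : χ ∈ c7.Yf := c7.mem_Yf.2 hχ
    rw [hs, Finset.mem_insert, Finset.mem_singleton] at this
    exact this
  -- a character of degree prime to `7`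
  have h7mem : ∀ χ : IrrCharacter G, ¬ 7 ∣ charDegree χ.1 →
      χ = trivIrr G ∨ χ = d ∨ χ = a ∨ χ = s1 ∨ χ = s2 := by
    intro χ hχ
    by_cases hX : χ ∈ c7.X
    · rcases hXmem χ hX with h | h | h
      · left; exact h
      · right; left; exact h
      · right; right; left; exact h
    · by_cases hY : χ ∈ c7.Y
      · rcases hYmem χ hY with h | h
        · right; right; right; left; exact h
        · right; right; right; right; exact h
      · exact absurd (TI.dvd_deg_of_not_mem c7 hX hY) hχ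
  -- the principal `5`-block
  have hYcard5 : c5.Yf.card = 1 := by
    have := c5.card_Yf
    omega
  have hcardB5 : ((c5.Bf θ5).erase (trivIrr G)).card = 4 := by
    rw [Finset.card_erase_of_mem htriv5, c5.card_Bf θ5 hθ5]
  obtain ⟨B', hB'⟩ : ∃ B', B' = (c5.Bf θ5).erase (trivIrr G) := ⟨_, rfl⟩
  rw [← hB'] at hq6 hq21 hq14 hcardB5
  obtain ⟨U6, hU6⟩ : ∃ T, T = B'.filter (fun χ => charDegree χ.1 = 6) := ⟨_, rfl⟩
  obtain ⟨U21, hU21⟩ : ∃ T, T = B'.filter (fun χ => charDegree χ.1 = 21) := ⟨_, rfl⟩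
  obtain ⟨U14, hU14⟩ : ∃ T, T = B'.filter (fun χ => charDegree χ.1 = 14) := ⟨_, rfl⟩
  rw [← hU6] at hq6
  rw [← hU21] at hq21
  rw [← hU14] at hq14
  have hd1 : Disjoint U21 U14 := by
    rw [hU21, hU14]
    exact Finset.disjoint_filter.2 (fun χ _ h1 h2 => by rw [h1] at h2; norm_num at h2)
  have hd2 : Disjoint U6 (U21 ∪ U14) := by
    rw [Finset.disjoint_union_right, hU6, hU21, hU14]
    exact ⟨Finset.disjoint_filter.2 (fun χ _ h1 h2 => by rw [h1] at h2; norm_num at h2),
      Finset.disjoint_filter.2 (fun χ _ h1 h2 => by rw [h1] at h2; norm_num at h2)⟩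
  have hpart5 : U6 ∪ (U21 ∪ U14) = B' := by
    apply Finset.eq_of_subset_of_card_le
    · rw [hU6, hU21, hU14]
      exact Finset.union_subset (Finset.filter_subset _ _)
        (Finset.union_subset (Finset.filter_subset _ _) (Finset.filter_subset _ _))
    · rw [Finset.card_union_of_disjoint hd2, Finset.card_union_of_disjoint hd1, hq6, hq21, hq14,
        hcardB5]
  obtain ⟨a', ha'⟩ := Finset.card_eq_one.1 hq6
  obtain ⟨b, hb⟩ := Finset.card_eq_one.1 hq21
  obtain ⟨c1, c2, hc12, hc⟩ := Finset.card_eq_two.1 hq14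
  have hsplit5 : ∀ F : IrrCharacter G → ℂ, ∑ χ ∈ c5.Bf θ5, F χ =
      F (trivIrr G) + (F a' + (F b + (F c1 + F c2))) := by
    intro F
    rw [← Finset.add_sum_erase _ F htriv5, ← hB', ← hpart5, Finset.sum_union hd2,
      Finset.sum_union hd1, ha', hb, hc, Finset.sum_singleton, Finset.sum_singleton,
      Finset.sum_pair hc12]
  have hmemB5 : ∀ χ : IrrCharacter G, χ ∈ B' → χ ∈ c5.Bf θ5 := by
    intro χ hχ
    rw [hB'] at hχ
    exact (Finset.mem_erase.1 hχ).2
  have ha'mem : a' ∈ B' ∧ charDegree a'.1 = 6 := by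
    have : a' ∈ U6 := by rw [ha']; exact Finset.mem_singleton_self _
    rw [hU6] at this
    exact Finset.mem_filter.1 this
  have hbmem : b ∈ B' ∧ charDegree b.1 = 21 := by
    have : b ∈ U21 := by rw [hb]; exact Finset.mem_singleton_self _
    rw [hU21] at this
    exact Finset.mem_filter.1 this
  have hcmem : ∀ χ : IrrCharacter G, χ ∈ U14 → χ ∈ B' ∧ charDegree χ.1 = 14 := by
    intro χ hχ
    rw [hU14] at hχ
    exact Finset.mem_filter.1 hχ
  have hc1 := hcmem c1 (by rw [hc]; simp)
  have hc2 := hcmem c2 (by rw [hc]; simp)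
  -- the two characters of degree `6` coincide
  have haa : a' = a := by
    rcases h7mem a' (by rw [ha'mem.2]; norm_num) with h | h | h | h | h
    · rw [h, charDegree_trivIrr] at ha'mem; exact absurd ha'mem.2 (by norm_num)
    · rw [h, hdmem.2] at ha'mem; exact absurd ha'mem.2 (by norm_num)
    · exact h
    · rw [h, hY10 s1 hs1Y] at ha'mem; exact absurd ha'mem.2 (by norm_num)
    · rw [h, hY10 s2 hs2Y] at ha'mem; exact absurd ha'mem.2 (by norm_num)
  rw [haa] at hsplit5 ha'mem
  have hδ1 : c5.δ θ5 (trivIrr G) = 1 := (hδ5 _ htriv5).1 (by rw [charDegree_trivIrr])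
  have hδa : c5.δ θ5 a = 1 := (hδ5 a (hmemB5 _ ha'mem.1)).1 (by rw [hamem.2])
  have hδb : c5.δ θ5 b = 1 := (hδ5 b (hmemB5 _ hbmem.1)).1 (by rw [hbmem.2])
  have hδc1 : c5.δ θ5 c1 = -1 := (hδ5 c1 (hmemB5 _ hc1.1)).2 (by rw [hc1.2])
  have hδc2 : c5.δ θ5 c2 = -1 := (hδ5 c2 (hmemB5 _ hc2.1)).2 (by rw [hc2.2])
  -- a character of degree prime to `5`
  have h5mem : ∀ χ : IrrCharacter G, ¬ 5 ∣ charDegree χ.1 →
      χ = trivIrr G ∨ χ = a ∨ χ = b ∨ χ = c1 ∨ χ = c2 := by
    intro χ hχ
    have hBf : χ ∈ c5.Bf θ5 := by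
      rw [c5.mem_Bf]
      by_cases hX : χ ∈ c5.X
      · exact Or.inr hX
      · by_cases hY : χ ∈ c5.Y
        · left
          exact Finset.card_le_one.1 hYcard5.le _ (c5.mem_Yf.2 hY) _ (c5.mem_Yf.2 hθ5)
        · exact absurd (TI.dvd_deg_of_not_mem c5 hX hY) hχ
    by_cases h1 : χ = trivIrr G
    · left; exact h1
    · have : χ ∈ B' := by
        rw [hB']
        exact Finset.mem_erase.2 ⟨h1, hBf⟩
      rw [← hpart5, Finset.mem_union, Finset.mem_union, ha', hb, hc, haa, Finset.mem_singleton,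
        Finset.mem_singleton, Finset.mem_insert, Finset.mem_singleton] at this
      right
      rcases this with h | h | h | h
      · left; exact h
      · right; left; exact h
      · right; right; left; exact h
      · right; right; right; exact h
  -- the degrees
  have hdegmem : ∀ χ : IrrCharacter G,
      charDegree χ.1 ∈ ({1, 6, 10, 14, 15, 21, 35} : Finset ℕ) := by
    intro χ
    simp only [Finset.mem_insert, Finset.mem_singleton]
    by_cases h7d : 7 ∣ charDegree χ.1
    · by_cases h5d : 5 ∣ charDegree χ.1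
      · have h35 : 35 ∣ charDegree χ.1 :=
          Nat.Coprime.mul_dvd_of_dvd_of_dvd (by norm_num : Nat.Coprime 5 7) h5d h7d
        have hsq := sq_le_card χ
        rw [hn] at hsq
        have hpos := charDegree_pos χ
        have hle : charDegree χ.1 ≤ 50 := by nlinarith
        obtain ⟨k, hk⟩ := h35
        have : k = 1 := by omega
        rw [hk, this]
        simp
      · rcases h5mem χ h5d with h | h | h | h | h
        · rw [h, charDegree_trivIrr]; simp
        · rw [h, hamem.2]; simp
        · rw [h, hbmem.2]; simp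
        · rw [h, hc1.2]; simp
        · rw [h, hc2.2]; simp
    · rcases h7mem χ h7d with h | h | h | h | h
      · rw [h, charDegree_trivIrr]; simp
      · rw [h, hdmem.2]; simp
      · rw [h, hamem.2]; simp
      · rw [h, hY10 s1 hs1Y]; simp
      · rw [h, hY10 s2 hs2Y]; simp
  -- the fibres of the degree
  have hD1 : Finset.univ.filter (fun χ : IrrCharacter G => charDegree χ.1 = 1) =
      {trivIrr G} := by
    ext χ
    simp only [Finset.mem_filter, Finset.mem_univ, true_and, Finset.mem_singleton]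
    constructor
    · exact fun h => eq_trivIrr_of_charDegree_eq_one hperf χ h
    · rintro rfl; exact charDegree_trivIrr
  have hD6 : Finset.univ.filter (fun χ : IrrCharacter G => charDegree χ.1 = 6) = {a} := by
    ext χ
    simp only [Finset.mem_filter, Finset.mem_univ, true_and, Finset.mem_singleton]
    constructor
    · intro h
      rcases h7mem χ (by rw [h]; norm_num) with h' | h' | h' | h' | h'
      · rw [h', charDegree_trivIrr] at h; exact absurd h (by norm_num)
      · rw [h', hdmem.2] at h; exact absurd h (by norm_num)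
      · exact h'
      · rw [h', hY10 s1 hs1Y] at h; exact absurd h (by norm_num)
      · rw [h', hY10 s2 hs2Y] at h; exact absurd h (by norm_num)
    · rintro rfl; exact hamem.2
  have hD10 : Finset.univ.filter (fun χ : IrrCharacter G => charDegree χ.1 = 10) = {s1, s2} := by
    ext χ
    simp only [Finset.mem_filter, Finset.mem_univ, true_and, Finset.mem_insert,
      Finset.mem_singleton]
    constructor
    · intro h
      rcases h7mem χ (by rw [h]; norm_num) with h' | h' | h' | h' | h'
      · rw [h', charDegree_trivIrr] at h; exact absurd h (by norm_num)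
      · rw [h', hdmem.2] at h; exact absurd h (by norm_num)
      · rw [h', hamem.2] at h; exact absurd h (by norm_num)
      · left; exact h'
      · right; exact h'
    · rintro (rfl | rfl)
      · exact hY10 _ hs1Y
      · exact hY10 _ hs2Y
  have hD15 : Finset.univ.filter (fun χ : IrrCharacter G => charDegree χ.1 = 15) = {d} := by
    ext χ
    simp only [Finset.mem_filter, Finset.mem_univ, true_and, Finset.mem_singleton]
    constructor
    · intro h
      rcases h7mem χ (by rw [h]; norm_num) with h' | h' | h' | h' | h'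
      · rw [h', charDegree_trivIrr] at h; exact absurd h (by norm_num)
      · exact h'
      · rw [h', hamem.2] at h; exact absurd h (by norm_num)
      · rw [h', hY10 s1 hs1Y] at h; exact absurd h (by norm_num)
      · rw [h', hY10 s2 hs2Y] at h; exact absurd h (by norm_num)
    · rintro rfl; exact hdmem.2
  have hD14 : Finset.univ.filter (fun χ : IrrCharacter G => charDegree χ.1 = 14) = {c1, c2} := by
    ext χ
    simp only [Finset.mem_filter, Finset.mem_univ, true_and, Finset.mem_insert,
      Finset.mem_singleton]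
    constructor
    · intro h
      rcases h5mem χ (by rw [h]; norm_num) with h' | h' | h' | h' | h'
      · rw [h', charDegree_trivIrr] at h; exact absurd h (by norm_num)
      · rw [h', hamem.2] at h; exact absurd h (by norm_num)
      · rw [h', hbmem.2] at h; exact absurd h (by norm_num)
      · left; exact h'
      · right; exact h'
    · rintro (rfl | rfl)
      · exact hc1.2
      · exact hc2.2
  have hD21 : Finset.univ.filter (fun χ : IrrCharacter G => charDegree χ.1 = 21) = {b} := by
    ext χ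
    simp only [Finset.mem_filter, Finset.mem_univ, true_and, Finset.mem_singleton]
    constructor
    · intro h
      rcases h5mem χ (by rw [h]; norm_num) with h' | h' | h' | h' | h'
      · rw [h', charDegree_trivIrr] at h; exact absurd h (by norm_num)
      · rw [h', hamem.2] at h; exact absurd h (by norm_num)
      · exact h'
      · rw [h', hc1.2] at h; exact absurd h (by norm_num)
      · rw [h', hc2.2] at h; exact absurd h (by norm_num)
    · rintro rfl; exact hbmem.2
  -- the characters of degree `35`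
  have hfib : ∀ F : IrrCharacter G → ℂ, ∑ χ : IrrCharacter G, F χ =
      F (trivIrr G) + F a + F s1 + F s2 + F c1 + F c2 + F d + F b +
        ∑ χ ∈ Finset.univ.filter (fun χ : IrrCharacter G => charDegree χ.1 = 35), F χ := by
    intro F
    rw [← Finset.sum_fiberwise_of_maps_to (s := (Finset.univ : Finset (IrrCharacter G)))
      (t := ({1, 6, 10, 14, 15, 21, 35} : Finset ℕ)) (g := fun χ => charDegree χ.1)
      (fun χ _ => hdegmem χ) F]
    rw [Finset.sum_insert (by decide), Finset.sum_insert (by decide), Finset.sum_insert (by decide),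
      Finset.sum_insert (by decide), Finset.sum_insert (by decide), Finset.sum_insert (by decide),
      Finset.sum_singleton, hD1, hD6, hD10, hD14, hD15, hD21, Finset.sum_singleton,
      Finset.sum_singleton, Finset.sum_singleton, Finset.sum_singleton,
      Finset.sum_pair hs12, Finset.sum_pair hc12]
    ring
  have hc35 : (Finset.univ.filter (fun χ : IrrCharacter G => charDegree χ.1 = 35)).card = 1 := by
    have hsq := sum_sq_charDegree (G := G)
    rw [hn] at hsq
    have h1 := hfib (fun χ => (((charDegree χ.1) ^ 2 : ℕ) : ℂ))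
    rw [← Nat.cast_sum, hsq, charDegree_trivIrr, hamem.2, hY10 s1 hs1Y, hY10 s2 hs2Y, hc1.2, hc2.2,
      hdmem.2, hbmem.2] at h1
    have h2 : ∑ χ ∈ Finset.univ.filter (fun χ : IrrCharacter G => charDegree χ.1 = 35),
        (((charDegree χ.1) ^ 2 : ℕ) : ℂ) =
        ((Finset.univ.filter (fun χ : IrrCharacter G => charDegree χ.1 = 35)).card : ℂ) * 1225 := by
      have : ∀ χ ∈ Finset.univ.filter (fun χ : IrrCharacter G => charDegree χ.1 = 35),
          (((charDegree χ.1) ^ 2 : ℕ) : ℂ) = 1225 := by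
        intro χ hχ
        rw [(Finset.mem_filter.1 hχ).2]
        norm_num
      rw [Finset.sum_congr rfl this, Finset.sum_const, nsmul_eq_mul]
    rw [h2] at h1
    have h3 : ((Finset.univ.filter (fun χ : IrrCharacter G => charDegree χ.1 = 35)).card : ℂ) = 1 := by
      push_cast at h1
      linear_combination (-1 / 1225 : ℂ) * h1
    exact_mod_cast h3
  obtain ⟨f, hf⟩ := Finset.card_eq_one.1 hc35
  have hfdeg : charDegree f.1 = 35 := by
    have : f ∈ Finset.univ.filter (fun χ : IrrCharacter G => charDegree χ.1 = 35) := by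
      rw [hf]; exact Finset.mem_singleton_self _
    exact (Finset.mem_filter.1 this).2
  have hgsum : ∀ F : IrrCharacter G → ℂ, ∑ χ : IrrCharacter G, F χ =
      F (trivIrr G) + F a + F s1 + F s2 + F c1 + F c2 + F d + F b + F f := by
    intro F
    rw [hfib F, hf, Finset.sum_singleton]
  -- the relations
  have hεd : c7.εX d = 1 := h15s d (hBX d hdmem.1) hdmem.2
  have hεa : c7.εX a = -1 := h6s a (hBX a hamem.1) hamem.2
  have hagree : ∀ g : G, ¬ 7 ∣ orderOf g → θ0.1 g = s1.1 g ∧ s1.1 g = s2.1 g := by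
    intro g hg
    exact ⟨c7.hYagree θ0 hθ0 s1 hs1Y g hg, c7.hYagree s1 hs1Y s2 hs2Y g hg⟩
  have h1reg7 : ¬ 7 ∣ orderOf (1 : G) := by rw [orderOf_one]; norm_num
  refine ⟨{ a := a, s1 := s1, s2 := s2, c1 := c1, c2 := c2, d := d, b := b, f := f,
            x7 := c7.x, y5 := c5.x, da := hamem.2, ds1 := hY10 s1 hs1Y, ds2 := hY10 s2 hs2Y,
            dc1 := hc1.2, dc2 := hc2.2, dd := hdmem.2, db := hbmem.2, df := hfdeg,
            hsum := hgsum, rel7 := ?_, agree := fun g hg => (hagree g hg).2, rel5 := ?_,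
            cm7 := ?_, cm5 := ?_, cnt7 := ?_, cnt5 := ?_, reg7 := ?_, reg5 := ?_ }⟩
  · intro g hg
    have h := c7.sum_Bf_reg θ0 hθ0 hg
    rw [c7.sum_Bf θ0 hθ0 (fun χ => χ.1 g), hXsum, hεt, hεd, hεa, hε,
      trivIrr_apply, (hagree g hg).1] at h
    push_cast at h
    linear_combination h
  · intro g hg
    have h := c5.sum_Bf_reg θ5 hθ5 hg
    rw [hsplit5, hδ1, hδa, hδb, hδc1, hδc2, trivIrr_apply] at h
    push_cast at h
    linear_combination h
  · intro g h hg hh
    have hcm := c7.class_mult2 hθ0 hg hh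
    rw [hXsum, hεt, hεd, hεa, hε, trivIrr_apply, trivIrr_apply, trivIrr_apply,
      (hagree g hg).1, (hagree h hh).1, (hagree 1 h1reg7).1, apply_one d, apply_one a,
      apply_one s1, hdmem.2, hamem.2, hY10 s1 hs1Y, hn] at hcm
    push_cast at hcm ⊢
    linear_combination hcm
  · intro g h hg hh
    have hcm := c5.class_mult2 hθ5 hg hh
    rw [← c5.sum_Bf θ5 hθ5 (fun χ => χ.1 g * χ.1 h / χ.1 1), hsplit5, hδ1, hδa, hδb, hδc1, hδc2,
      trivIrr_apply, trivIrr_apply, trivIrr_apply, apply_one a, apply_one b, apply_one c1,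
      apply_one c2, hamem.2, hbmem.2, hc1.2, hc2.2, hn] at hcm
    push_cast at hcm ⊢
    linear_combination hcm
  · intro t htt ht1
    exact count_eq_zero_of_odd c7 (by norm_num) htt ht1
  · intro t htt
    exact c5.count_le htt
  · intro t ht1 ht
    exact c7.not_dvd_card_centralizer ht ht1
  · intro t ht1 ht
    exact c5.not_dvd_card_centralizer ht ht1

end Cfsg.Agent.Lib.Helper6.OrdT
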