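import Mathlib

/-!
# Simple groups of order `2520`: the arithmetic of the values at an involution
-/

set_option autoImplicit false
set_option maxHeartbeats 1600000
set_option maxRecDepth 1000000

namespace Cfsg.Agent.Lib.Helper6.OrdT

/-- scaling of a class multiplication identity -/
theorem cm_scale (n k C E : ℂ) (hcm : n * 2520 = k * k * E) (hkc : k * C = 2520) :
    n * (C * C) = 2520 * E := by
  linear_combination (C * C / 2520) * hcm + (E / 2520 * (k * C + 2520)) * hkc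

/-- scaling of a class multiplication identity, two classes -/
theorem cm_scale2 (n k k' C C' E : ℂ) (hcm : n * 2520 = k * k' * E) (hkc : k * C = 2520)
    (hkc' : k' * C' = 2520) : n * (C * C') = 2520 * E := by
  linear_combination (C * C' / 2520) * hcm + (E / 2520 * k' * C') * hkc + E * hkc'

def ivD (a s : ℤ) : ℤ := a + s - 1

def ivC2 (a b c1 : ℤ) : ℤ := 1 + a + b - c1

def ivT (a s b c1 : ℤ) : ℤ :=
  1 + 6 * a + 20 * s + 14 * c1 + 14 * ivC2 a b c1 + 15 * ivD a s + 21 * b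

def ivF (a s b c1 : ℤ) : ℤ := -(ivT a s b c1 / 35)

def ivC (a s b c1 : ℤ) : ℤ :=
  1 + a * a + 2 * (s * s) + c1 * c1 + ivC2 a b c1 * ivC2 a b c1 + ivD a s * ivD a s + b * b
    + ivF a s b c1 * ivF a s b c1

def ivE5 (a b c1 : ℤ) : ℤ :=
  42 + 7 * (a * a) + 2 * (b * b) - 3 * (c1 * c1) - 3 * (ivC2 a b c1 * ivC2 a b c1)

def ivM (a s b c1 : ℤ) : ℤ :=
  210 + 35 * (a * a * a) + 42 * (s * s * s) + 15 * (c1 * c1 * c1)
    + 15 * (ivC2 a b c1 * ivC2 a b c1 * ivC2 a b c1) + 14 * (ivD a s * ivD a s * ivD a s)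
    + 10 * (b * b * b) + 6 * (ivF a s b c1 * ivF a s b c1 * ivF a s b c1)

/-- the final test -/
def ivFin (a s b c1 : ℤ) : Bool :=
  !(decide (ivT a s b c1 % 35 = 0) && decide (72 % ivC a s b c1 = 0) &&
    decide (0 ≤ ivE5 a b c1) &&
    decide ((2520 * ivE5 a b c1) % (42 * (ivC a s b c1 * ivC a s b c1)) = 0) &&
    decide (2520 * ivE5 a b c1 ≤ 5 * (42 * (ivC a s b c1 * ivC a s b c1))) &&
    decide (0 ≤ ivM a s b c1) &&
    decide ((2520 * ivM a s b c1) % (210 * (ivC a s b c1 * ivC a s b c1)) = 0)) ||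
  (decide (a = 2) && decide (s = -2) && decide (b = 1) && decide (c1 = 2) &&
    decide (ivC a s b c1 = 24))

/-- the search -/
def ivChk : Bool :=
  (List.range 4).all fun ja => (List.range 6).all fun js => (List.range 11).all fun jb =>
    (List.range 8).all fun jc =>
      ivFin (6 - 4 * (ja : ℤ)) (10 - 4 * (js : ℤ)) (21 - 4 * (jb : ℤ)) (14 - 4 * (jc : ℤ))

theorem ivChk_true : ivChk = true := by
  decide

/-- **The arithmetic of the column of an involution.** -/
theorem invol_arith (ja js jb jc : ℕ) (hja : ja ≤ 3) (hjs : js ≤ 5) (hjb : jb ≤ 10) (hjc : jc ≤ 7)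
    (a s b c1 c2 d f : ℤ) (ha : a = 6 - 4 * (ja : ℤ)) (hs : s = 10 - 4 * (js : ℤ))
    (hb : b = 21 - 4 * (jb : ℤ)) (hc1 : c1 = 14 - 4 * (jc : ℤ))
    (hd : d = a + s - 1) (hc2 : c2 = 1 + a + b - c1)
    (hf : 35 * f = -(1 + 6 * a + 20 * s + 14 * c1 + 14 * c2 + 15 * d + 21 * b))
    (C n5 m : ℕ)
    (hC : (C : ℤ) = 1 + a * a + 2 * (s * s) + c1 * c1 + c2 * c2 + d * d + b * b + f * f)
    (hCd : C ∣ 72) (hn5 : n5 ≤ 5)
    (hcm5 : (n5 : ℤ) * (42 * ((C : ℤ) * (C : ℤ))) =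
      2520 * (42 + 7 * (a * a) + 2 * (b * b) - 3 * (c1 * c1) - 3 * (c2 * c2)))
    (hm : (m : ℤ) * (210 * ((C : ℤ) * (C : ℤ))) =
      2520 * (210 + 35 * (a * a * a) + 42 * (s * s * s) + 15 * (c1 * c1 * c1)
        + 15 * (c2 * c2 * c2) + 14 * (d * d * d) + 10 * (b * b * b) + 6 * (f * f * f))) :
    a = 2 ∧ s = -2 ∧ b = 1 ∧ c1 = 2 ∧ C = 24 := by
  have h0 := ivChk_true
  unfold ivChk at h0
  rw [List.all_eq_true] at h0
  have h1 := h0 ja (List.mem_range.2 (by omega))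
  rw [List.all_eq_true] at h1
  have h2 := h1 js (List.mem_range.2 (by omega))
  rw [List.all_eq_true] at h2
  have h3 := h2 jb (List.mem_range.2 (by omega))
  rw [List.all_eq_true] at h3
  have h4 := h3 jc (List.mem_range.2 (by omega))
  rw [← ha, ← hs, ← hb, ← hc1] at h4
  have hD : ivD a s = d := by unfold ivD; rw [hd]
  have hC2 : ivC2 a b c1 = c2 := by unfold ivC2; rw [hc2]
  have hT : ivT a s b c1 = 1 + 6 * a + 20 * s + 14 * c1 + 14 * c2 + 15 * d + 21 * b := by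
    unfold ivT; rw [hD, hC2]
  have hF : ivF a s b c1 = f := by
    unfold ivF; rw [hT]; omega
  have hCv : ivC a s b c1 = (C : ℤ) := by
    unfold ivC; rw [hD, hC2, hF, hC]
  have hE5 : ivE5 a b c1 =
      42 + 7 * (a * a) + 2 * (b * b) - 3 * (c1 * c1) - 3 * (c2 * c2) := by
    unfold ivE5; rw [hC2]
  have hM : ivM a s b c1 = 210 + 35 * (a * a * a) + 42 * (s * s * s) + 15 * (c1 * c1 * c1)
        + 15 * (c2 * c2 * c2) + 14 * (d * d * d) + 10 * (b * b * b) + 6 * (f * f * f) := by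
    unfold ivM; rw [hD, hC2, hF]
  have hCpos : 0 < (C : ℤ) := by
    have : 0 < C := Nat.pos_of_dvd_of_pos hCd (by norm_num)
    exact_mod_cast this
  have hCC : 0 < (C : ℤ) * (C : ℤ) := mul_pos hCpos hCpos
  unfold ivFin at h4
  rw [hCv, hT, hE5, hM] at h4
  simp only [Bool.or_eq_true, Bool.not_eq_true', Bool.and_eq_true, decide_eq_true_eq,
    Bool.and_eq_false_iff, decide_eq_false_iff_not] at h4
  rcases h4 with h4 | h4
  · exfalso
    rcases h4 with (((((h4 | h4) | h4) | h4) | h4) | h4) | h4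
    · apply h4; omega
    · apply h4
      apply Int.emod_eq_zero_of_dvd
      exact_mod_cast hCd
    · apply h4
      have h5 : 0 ≤ (n5 : ℤ) * (42 * ((C : ℤ) * (C : ℤ))) := by positivity
      rw [hcm5] at h5
      omega
    · apply h4
      rw [← hcm5]
      exact Int.mul_emod_left _ _
    · apply h4
      rw [← hcm5]
      have : (n5 : ℤ) ≤ 5 := by exact_mod_cast hn5
      exact mul_le_mul_of_nonneg_right this (by positivity)
    · apply h4
      have h5 : 0 ≤ (m : ℤ) * (210 * ((C : ℤ) * (C : ℤ))) := by positivity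
      rw [hm] at h5
      omega
    · apply h4
      rw [← hm]
      exact Int.mul_emod_left _ _
  · obtain ⟨⟨⟨⟨e1, e2⟩, e3⟩, e4⟩, e5⟩ := h4
    exact ⟨e1, e2, e3, e4, by exact_mod_cast e5⟩

end Cfsg.Agent.Lib.Helper6.OrdT
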