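import Mathlib
import Cfsg.Agent.Lib.Helper6.OrdT4
import Cfsg.Agent.Lib.Helper6.OrdT5
import Cfsg.Agent.Lib.Helper1.ConjCount

/-!
# Simple groups of order `2520`: the values of the irreducible characters at an involution
-/

set_option autoImplicit false
set_option maxHeartbeats 3200000
set_option maxRecDepth 1000000

namespace Cfsg.Agent.Lib.Helper6.OrdT

open Cfsg Cfsg.Agent.Lib.Helper8 Cfsg.Agent.Lib.Helper6.OrdB Cfsg.Agent.Lib.Helper6.OrdD
  Cfsg.Agent.Lib.Helper6.OrdK Cfsg.Agent.Lib.Helper6.OrdH Cfsg.Agent.Lib.Helper6.OrdL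
  Cfsg.Agent.Lib.Helper6.OrdG Cfsg.Agent.Lib.Helper6.OrdQ Cfsg.Agent.Lib.Helper1
open scoped ComplexConjugate

universe u

/-- the value of an irreducible character of a perfect group at an involution -/
theorem invol_val {G : Type u} [Group G] [Finite G] (hperf : commutator G = ⊤)
    (χ : IrrCharacter G) {t : G} (htt : t * t = 1) {n : ℕ} (hdeg : charDegree χ.1 = n) :
    ∃ j : ℕ, 2 * j ≤ n ∧ χ.1 t = (((n : ℤ) - 4 * (j : ℤ) : ℤ) : ℂ) := by
  obtain ⟨b, hb, hχt, r, hr⟩ := involution_apply hperf χ htt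
  rw [hdeg] at hb hχt
  refine ⟨r, by omega, ?_⟩
  rw [hχt, hr]
  push_cast
  ring

theorem divisors_2520 : ∀ C ∈ Nat.divisors 2520, ¬ 5 ∣ C → ¬ 7 ∣ C → C ∣ 72 := by
  decide

variable {G : Type u} [Group G] [Fintype G] [Fintype (IrrCharacter G)]

/-- the centralizer of a non-trivial element of order prime to `5` and `7` -/
theorem card_centralizer_dvd_72 (hn : Nat.card G = 2520) (T : Tab G) {t : G} (ht1 : t ≠ 1)
    (h5 : ¬ 5 ∣ orderOf t) (h7 : ¬ 7 ∣ orderOf t) :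
    Nat.card (Subgroup.centralizer ({t} : Set G)) ∣ 72 := by
  have hdvd : Nat.card (Subgroup.centralizer ({t} : Set G)) ∣ 2520 := by
    rw [← hn]
    exact Subgroup.card_subgroup_dvd_card _
  exact divisors_2520 _ (Nat.mem_divisors.2 ⟨hdvd, by norm_num⟩) (T.reg5 t ht1 h5)
    (T.reg7 t ht1 h7)

open Classical in
/-- **The column of an involution** in the character table of a simple group of order `2520`. -/
theorem invol_col (hperf : commutator G = ⊤) (hn : Nat.card G = 2520) (T : Tab G) {t : G}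
    (ht : orderOf t = 2) :
    T.a.1 t = 2 ∧ T.s1.1 t = -2 ∧ T.s2.1 t = -2 ∧ T.c1.1 t = 2 ∧ T.c2.1 t = 2 ∧
      T.d.1 t = -1 ∧ T.b.1 t = 1 ∧ T.f.1 t = -1 ∧
      Nat.card (Subgroup.centralizer ({t} : Set G)) = 24 := by
  have htt : t * t = 1 := by rw [← pow_two, ← ht]; exact pow_orderOf_eq_one t
  have ht1 : t ≠ 1 := by
    rintro rfl
    rw [orderOf_one] at ht
    norm_num at ht
  have hr7 : ¬ 7 ∣ orderOf t := by rw [ht]; norm_num
  have hr5 : ¬ 5 ∣ orderOf t := by rw [ht]; norm_num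
  obtain ⟨ja, hja, hva⟩ := invol_val hperf T.a htt T.da
  obtain ⟨js, hjs, hvs⟩ := invol_val hperf T.s1 htt T.ds1
  obtain ⟨jb, hjb, hvb⟩ := invol_val hperf T.b htt T.db
  obtain ⟨jc, hjc, hvc1⟩ := invol_val hperf T.c1 htt T.dc1
  obtain ⟨jc2, -, hvc2⟩ := invol_val hperf T.c2 htt T.dc2
  obtain ⟨jd, -, hvd⟩ := invol_val hperf T.d htt T.dd
  obtain ⟨jf, -, hvf⟩ := invol_val hperf T.f htt T.df
  obtain ⟨a, ha⟩ : ∃ a : ℤ, a = ((6 : ℕ) : ℤ) - 4 * (ja : ℤ) := ⟨_, rfl⟩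
  obtain ⟨s, hs⟩ : ∃ a : ℤ, a = ((10 : ℕ) : ℤ) - 4 * (js : ℤ) := ⟨_, rfl⟩
  obtain ⟨b, hb⟩ : ∃ a : ℤ, a = ((21 : ℕ) : ℤ) - 4 * (jb : ℤ) := ⟨_, rfl⟩
  obtain ⟨c1, hc1⟩ : ∃ a : ℤ, a = ((14 : ℕ) : ℤ) - 4 * (jc : ℤ) := ⟨_, rfl⟩
  obtain ⟨c2, hc2⟩ : ∃ a : ℤ, a = ((14 : ℕ) : ℤ) - 4 * (jc2 : ℤ) := ⟨_, rfl⟩
  obtain ⟨d, hd⟩ : ∃ a : ℤ, a = ((15 : ℕ) : ℤ) - 4 * (jd : ℤ) := ⟨_, rfl⟩
  obtain ⟨f, hf⟩ : ∃ a : ℤ, a = ((35 : ℕ) : ℤ) - 4 * (jf : ℤ) := ⟨_, rfl⟩
  rw [← ha] at hva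
  rw [← hs] at hvs
  rw [← hb] at hvb
  rw [← hc1] at hvc1
  rw [← hc2] at hvc2
  rw [← hd] at hvd
  rw [← hf] at hvf
  have hvs2 : T.s2.1 t = ((s : ℤ) : ℂ) := by rw [← T.agree t hr7]; exact hvs
  -- the relations of the blocks
  have hrel7 : d = a + s - 1 := by
    have h := T.rel7 t hr7
    rw [hvd, hva, hvs] at h
    have : (((1 + d - a - s : ℤ)) : ℂ) = 0 := by push_cast; linear_combination h
    have h2 : 1 + d - a - s = 0 := by exact_mod_cast this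
    omega
  have hrel5 : c2 = 1 + a + b - c1 := by
    have h := T.rel5 t hr5
    rw [hva, hvb, hvc1, hvc2] at h
    have : (((1 + a + b - c1 - c2 : ℤ)) : ℂ) = 0 := by push_cast; linear_combination h
    have h2 : 1 + a + b - c1 - c2 = 0 := by exact_mod_cast this
    omega
  -- orthogonality with the column of the identity
  have hcol1 := column_orthogonality (1 : G) t
  have hnc : ¬ IsConj (1 : G) t := by
    intro h
    exact ht1 (isConj_one_right.1 h)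
  rw [classIndicator, if_neg hnc, mul_zero, T.hsum] at hcol1
  simp only [apply_one, T.da, T.ds1, T.ds2, T.dc1, T.dc2, T.dd, T.db, T.df,
    trivIrr_apply, Complex.conj_natCast, map_one] at hcol1
  rw [hva, hvs, hvs2, hvc1, hvc2, hvd, hvb, hvf] at hcol1
  have hcolz : 35 * f = -(1 + 6 * a + 20 * s + 14 * c1 + 14 * c2 + 15 * d + 21 * b) := by
    have : (((35 * f + (1 + 6 * a + 20 * s + 14 * c1 + 14 * c2 + 15 * d + 21 * b) : ℤ)) : ℂ)
        = 0 := by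
      push_cast at hcol1 ⊢
      linear_combination hcol1
    have h2 : 35 * f + (1 + 6 * a + 20 * s + 14 * c1 + 14 * c2 + 15 * d + 21 * b) = 0 := by
      exact_mod_cast this
    omega
  -- the norm of the column
  obtain ⟨C, hCdef⟩ : ∃ C, C = Nat.card (Subgroup.centralizer ({t} : Set G)) := ⟨_, rfl⟩
  have hCd : C ∣ 72 := by rw [hCdef]; exact card_centralizer_dvd_72 hn T ht1 hr5 hr7
  have hcol2 := column_orthogonality t t
  rw [classIndicator, if_pos (IsConj.refl t), mul_one, T.hsum, ← hCdef] at hcol2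
  rw [hva, hvs, hvs2, hvc1, hvc2, hvd, hvb, hvf, trivIrr_apply] at hcol2
  simp only [map_intCast, map_one, mul_one] at hcol2
  have hC : (C : ℤ) = 1 + a * a + 2 * (s * s) + c1 * c1 + c2 * c2 + d * d + b * b + f * f := by
    have : ((C : ℤ) : ℂ) = ((1 + a * a + 2 * (s * s) + c1 * c1 + c2 * c2 + d * d + b * b
        + f * f : ℤ) : ℂ) := by
      push_cast
      linear_combination (-1 : ℂ) * hcol2
    exact_mod_cast this
  -- the class multiplication coefficients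
  have hkc := card_isConj_mul_card_centralizer t
  rw [hn, ← hCdef] at hkc
  obtain ⟨k, hkdef⟩ : ∃ k, k = Nat.card {v : G // IsConj t v} := ⟨_, rfl⟩
  rw [← hkdef] at hkc
  have hkcC : (k : ℂ) * (C : ℂ) = 2520 := by exact_mod_cast hkc
  obtain ⟨n5, hn5def⟩ : ∃ n, n = Nat.card {q : G × G // IsConj t q.1 ∧ IsConj t q.2 ∧
      q.1 * q.2 = T.y5} := ⟨_, rfl⟩
  have hn5 : n5 ≤ 5 := by rw [hn5def]; exact T.cnt5 t htt
  have hcm5 := T.cm5 t t hr5 hr5
  rw [← hn5def, ← hkdef, hva, hvb, hvc1, hvc2] at hcm5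
  have hcm5' := cm_scale _ _ _ _ hcm5 hkcC
  have hcm5z : (n5 : ℤ) * (42 * ((C : ℤ) * (C : ℤ))) =
      2520 * (42 + 7 * (a * a) + 2 * (b * b) - 3 * (c1 * c1) - 3 * (c2 * c2)) := by
    have : (((n5 : ℤ) * (42 * ((C : ℤ) * (C : ℤ))) : ℤ) : ℂ) =
        ((2520 * (42 + 7 * (a * a) + 2 * (b * b) - 3 * (c1 * c1) - 3 * (c2 * c2)) : ℤ) : ℂ) := by
      push_cast
      linear_combination (42 : ℂ) * hcm5'
    exact_mod_cast this
  -- the structure constant of the class with itself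
  obtain ⟨m, hmdef⟩ : ∃ n, n = Nat.card {q : G × G // IsConj t q.1 ∧ IsConj t q.2 ∧
      q.1 * q.2 = t} := ⟨_, rfl⟩
  have hsc := Cfsg.Agent.S0840.result t t t
  rw [finsum_eq_sum_of_fintype, T.hsum, ← hmdef, ← hkdef, hn] at hsc
  simp only [apply_one, T.da, T.ds1, T.ds2, T.dc1, T.dc2, T.dd, T.db, T.df, trivIrr_apply] at hsc
  rw [hva, hvs, hvs2, hvc1, hvc2, hvd, hvb, hvf] at hsc
  simp only [map_intCast, map_one, mul_one] at hsc
  have hsc1 : (m : ℂ) * 2520 = (k : ℂ) * (k : ℂ) * (1 + (a : ℂ) * a * a / 6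
      + (s : ℂ) * s * s / 10 + (s : ℂ) * s * s / 10 + (c1 : ℂ) * c1 * c1 / 14
      + (c2 : ℂ) * c2 * c2 / 14 + (d : ℂ) * d * d / 15 + (b : ℂ) * b * b / 21
      + (f : ℂ) * f * f / 35) := by
    rw [hsc]
    push_cast
    ring
  have hsc2 := cm_scale _ _ _ _ hsc1 hkcC
  have hmz : (m : ℤ) * (210 * ((C : ℤ) * (C : ℤ))) =
      2520 * (210 + 35 * (a * a * a) + 42 * (s * s * s) + 15 * (c1 * c1 * c1)
        + 15 * (c2 * c2 * c2) + 14 * (d * d * d) + 10 * (b * b * b) + 6 * (f * f * f)) := by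
    have : (((m : ℤ) * (210 * ((C : ℤ) * (C : ℤ))) : ℤ) : ℂ) =
        ((2520 * (210 + 35 * (a * a * a) + 42 * (s * s * s) + 15 * (c1 * c1 * c1)
        + 15 * (c2 * c2 * c2) + 14 * (d * d * d) + 10 * (b * b * b) + 6 * (f * f * f)) : ℤ)
          : ℂ) := by
      push_cast
      linear_combination (210 : ℂ) * hsc2
    exact_mod_cast this
  obtain ⟨e1, e2, e3, e4, e5⟩ := invol_arith ja js jb jc (by omega) (by omega) (by omega)
    (by omega) a s b c1 c2 d f (by rw [ha]; norm_num) (by rw [hs]; norm_num)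
    (by rw [hb]; norm_num) (by rw [hc1]; norm_num) hrel7 hrel5 hcolz C n5 m hC hCd hn5 hcm5z hmz
  have e6 : c2 = 2 := by omega
  have e7 : d = -1 := by omega
  have e8 : f = -1 := by omega
  refine ⟨?_, ?_, ?_, ?_, ?_, ?_, ?_, ?_, ?_⟩
  · rw [hva, e1]; norm_num
  · rw [hvs, e2]; norm_num
  · rw [hvs2, e2]; norm_num
  · rw [hvc1, e4]; norm_num
  · rw [hvc2, e6]; norm_num
  · rw [hvd, e7]; norm_num
  · rw [hvb, e3]; norm_num
  · rw [hvf, e8]; norm_num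
  · rw [← hCdef]; exact e5

end Cfsg.Agent.Lib.Helper6.OrdT
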