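import Mathlib
import Cfsg.Agent.Lib.Helper6.OrdB1

/-!
# Values of characters at elements of order `4`, and the arithmetic of the column of an element
of order `4` in a simple group of order `2520`
-/

set_option autoImplicit false
set_option maxHeartbeats 1600000
set_option maxRecDepth 1000000

namespace Cfsg.Agent.Lib.Helper6.OrdT

open Cfsg Cfsg.Agent.Lib.Helper8 Cfsg.Agent.Lib.Helper6.OrdB
open scoped ComplexConjugate

universe u

/-- the fourth roots of unity -/
theorem fourth_root_cases {μ : ℂ} (h : μ * μ * μ * μ = 1) :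
    μ = 1 ∨ μ = Complex.I ∨ μ = -1 ∨ μ = -Complex.I := by
  have hI : Complex.I * Complex.I = -1 := Complex.I_mul_I
  have h1 : (μ - 1) * ((μ - Complex.I) * ((μ + 1) * (μ + Complex.I))) = 0 := by
    linear_combination h + (-(μ * μ) + 1) * hI
  rcases mul_eq_zero.1 h1 with h2 | h2
  · left; linear_combination h2
  · rcases mul_eq_zero.1 h2 with h3 | h3
    · right; left; linear_combination h3
    · rcases mul_eq_zero.1 h3 with h4 | h4
      · right; right; left; linear_combination h4
      · right; right; right; linear_combination h4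

/-- a multiset of fourth roots of unity: its sum -/
theorem multiset_fourth (s : Multiset ℂ)
    (hs : ∀ μ ∈ s, μ = 1 ∨ μ = Complex.I ∨ μ = -1 ∨ μ = -Complex.I) :
    ∃ x y : ℤ, s.sum = (x : ℂ) + (y : ℂ) * Complex.I ∧
      (x + y - (Multiset.card s : ℤ)) % 2 = 0 := by
  induction s using Multiset.induction_on with
  | empty => exact ⟨0, 0, by simp, by simp⟩
  | cons z s ih =>
    obtain ⟨x, y, hsum, hpar⟩ := ih (fun μ hμ => hs μ (Multiset.mem_cons_of_mem hμ))
    rcases hs z (Multiset.mem_cons_self z s) with rfl | rfl | rfl | rfl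
    · refine ⟨x + 1, y, ?_, ?_⟩
      · rw [Multiset.sum_cons, hsum]; push_cast; ring
      · rw [Multiset.card_cons]; push_cast; omega
    · refine ⟨x, y + 1, ?_, ?_⟩
      · rw [Multiset.sum_cons, hsum]; push_cast; ring
      · rw [Multiset.card_cons]; push_cast; omega
    · refine ⟨x - 1, y, ?_, ?_⟩
      · rw [Multiset.sum_cons, hsum]; push_cast; ring
      · rw [Multiset.card_cons]; push_cast; omega
    · refine ⟨x, y - 1, ?_, ?_⟩
      · rw [Multiset.sum_cons, hsum]; push_cast; ring
      · rw [Multiset.card_cons]; push_cast; omega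

section linear

variable {V : Type*} [AddCommGroup V] [Module ℂ V] [FiniteDimensional ℂ V]

/-- the trace of an operator of order dividing `4` -/
theorem order4_trace (A : V →ₗ[ℂ] V) (hA : A * A * A * A = 1) :
    ∃ x y : ℤ, LinearMap.trace ℂ V A = (x : ℂ) + (y : ℂ) * Complex.I ∧
      (x + y - (Module.finrank ℂ V : ℤ)) % 2 = 0 := by
  have hsplit : (LinearMap.charpoly A).Splits := IsAlgClosed.splits _
  have hroots : ∀ μ ∈ (LinearMap.charpoly A).roots,
      μ = 1 ∨ μ = Complex.I ∨ μ = -1 ∨ μ = -Complex.I := by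
    intro μ hμ
    have hroot : (LinearMap.charpoly A).IsRoot μ := (Polynomial.mem_roots'.1 hμ).2
    have hev : Module.End.HasEigenvalue A μ :=
      (Module.End.hasEigenvalue_iff_isRoot_charpoly A μ).2 hroot
    obtain ⟨v, hv⟩ := hev.exists_hasEigenvector
    have h1 : A v = μ • v := hv.apply_eq_smul
    have e2 : A (A v) = (μ * μ) • v := by rw [h1, map_smul, h1, smul_smul]
    have e3 : A (A (A v)) = (μ * μ * μ) • v := by rw [e2, map_smul, h1, smul_smul]
    have e4 : A (A (A (A v))) = (μ * μ * μ * μ) • v := by rw [e3, map_smul, h1, smul_smul]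
    have h2 : (A * A * A * A) v = (μ * μ * μ * μ) • v := by
      rw [Module.End.mul_apply, Module.End.mul_apply, Module.End.mul_apply]
      exact e4
    rw [hA, Module.End.one_apply] at h2
    have h3 : (μ * μ * μ * μ - 1) • v = 0 := by
      rw [sub_smul, one_smul, ← h2, sub_self]
    have h4 : μ * μ * μ * μ - 1 = 0 := by
      rcases smul_eq_zero.1 h3 with h | h
      · exact h
      · exact absurd h hv.2
    exact fourth_root_cases (by linear_combination h4)
  obtain ⟨x, y, hsum, hpar⟩ := multiset_fourth _ hroots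
  have hcard : Multiset.card (LinearMap.charpoly A).roots = Module.finrank ℂ V := by
    rw [IsAlgClosed.card_roots_eq_natDegree, LinearMap.charpoly_natDegree]
  rw [hcard] at hpar
  refine ⟨x, y, ?_, hpar⟩
  rw [Module.End.trace_eq_sum_roots_charpoly_of_splits hsplit, hsum]

end linear

/-- **The value of an irreducible character at an element of order dividing `4`** is a Gaussian
integer congruent to the degree. -/
theorem order4_apply {G : Type u} [Group G] [Finite G] (χ : IrrCharacter G) {u : G}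
    (hu : u * u * u * u = 1) :
    ∃ x y : ℤ, χ.1 u = (x : ℂ) + (y : ℂ) * Complex.I ∧
      (x + y - (charDegree χ.1 : ℤ)) % 2 = 0 := by
  obtain ⟨n, ρ, hirr, hχ, hn⟩ := exists_rep χ
  have hA : ρ u * ρ u * ρ u * ρ u = 1 := by
    rw [← map_mul, ← map_mul, ← map_mul, hu, map_one]
  obtain ⟨x, y, htr, hpar⟩ := order4_trace (ρ u) hA
  rw [Module.finrank_fin_fun] at hpar
  refine ⟨x, y, ?_, hn ▸ hpar⟩
  have h1 : χ.1 u = ρ.character u := by rw [hχ]
  rw [h1]
  unfold Representation.character
  exact htr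

/-- `1` and `I` are linearly independent over the integers -/
theorem I_indep {x y : ℤ} (h : (x : ℂ) + (y : ℂ) * Complex.I = 0) : x = 0 ∧ y = 0 := by
  have hre := congrArg Complex.re h
  have him := congrArg Complex.im h
  simp at hre him
  exact ⟨by exact_mod_cast hre, by exact_mod_cast him⟩

/-- the norm of `x + y I` -/
def gn (x y : ℤ) : ℤ := x * x + y * y

/-- the square of `x + y I` -/
def gs0 (x y : ℤ) : ℤ := x * x - y * y

def gs1 (x y : ℤ) : ℤ := 2 * (x * y)

theorem gn_nonneg (x y : ℤ) : 0 ≤ gn x y := by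
  unfold gn
  nlinarith [sq_nonneg x, sq_nonneg y]

theorem gn_eq (x y : ℤ) :
    ((x : ℂ) + (y : ℂ) * Complex.I) * conj ((x : ℂ) + (y : ℂ) * Complex.I) =
      ((gn x y : ℤ) : ℂ) := by
  simp only [map_add, map_mul, map_intCast, Complex.conj_I]
  unfold gn
  push_cast
  linear_combination (-(y : ℂ) ^ 2) * Complex.I_mul_I

theorem gs_eq (x y : ℤ) :
    ((x : ℂ) + (y : ℂ) * Complex.I) * ((x : ℂ) + (y : ℂ) * Complex.I) =
      ((gs0 x y : ℤ) : ℂ) + ((gs1 x y : ℤ) : ℂ) * Complex.I := by
  unfold gs0 gs1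
  push_cast
  linear_combination ((y : ℂ) ^ 2) * Complex.I_mul_I

theorem abs_le_of_gn_le {x y : ℤ} (h : gn x y ≤ 23) : -4 ≤ x ∧ x ≤ 4 ∧ -4 ≤ y ∧ y ≤ 4 := by
  unfold gn at h
  refine ⟨?_, ?_, ?_, ?_⟩ <;> nlinarith [sq_nonneg x, sq_nonneg y]

/-- the box of Gaussian integers of norm at most `23`, with a parity condition -/
def gbox (n : ℤ) (P : ℤ → ℤ → Bool) : Bool :=
  (List.range 9).all fun i => (List.range 9).all fun j =>
    decide ((((i : ℤ) - 4) + ((j : ℤ) - 4) - n) % 2 ≠ 0) || P ((i : ℤ) - 4) ((j : ℤ) - 4)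

theorem gbox_sound {n : ℤ} {P : ℤ → ℤ → Bool} (h : gbox n P = true) {x y : ℤ}
    (hx : -4 ≤ x ∧ x ≤ 4 ∧ -4 ≤ y ∧ y ≤ 4) (hpar : (x + y - n) % 2 = 0) : P x y = true := by
  unfold gbox at h
  rw [List.all_eq_true] at h
  have h1 := h (x + 4).toNat (List.mem_range.2 (by omega))
  rw [List.all_eq_true] at h1
  have h2 := h1 (y + 4).toNat (List.mem_range.2 (by omega))
  have e1 : (((x + 4).toNat : ℕ) : ℤ) - 4 = x := by omega
  have e2 : (((y + 4).toNat : ℕ) : ℤ) - 4 = y := by omega
  rw [e1, e2, Bool.or_eq_true, decide_eq_true_eq] at h2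
  rcases h2 with h2 | h2
  · exact absurd hpar h2
  · exact h2

end Cfsg.Agent.Lib.Helper6.OrdT
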