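import Mathlib
import Cfsg.Agent.Lib.Helper6.OrdT7

/-!
# Simple groups of order `2520`: the arithmetic of the values at an element of order `4`
-/

set_option autoImplicit false
set_option maxHeartbeats 1600000
set_option maxRecDepth 1000000

namespace Cfsg.Agent.Lib.Helper6.OrdT

/-- the value of the characters of degree `10` -/
def q4xs (xa xd : ℤ) : ℤ := 1 + xd - xa

def q4ys (ya yd : ℤ) : ℤ := yd - ya

/-- the value of the character of degree `21` -/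
def q4xb (xa xc xe : ℤ) : ℤ := xc + xe - 1 - xa

def q4yb (ya yc ye : ℤ) : ℤ := yc + ye - ya

/-- `-35` times the value of the character of degree `35` -/
def q4t0 (xa xd xc xe : ℤ) : ℤ :=
  1 + 6 * xa + 20 * q4xs xa xd + 14 * (xc + xe) + 15 * xd + 21 * q4xb xa xc xe

def q4t1 (ya yd yc ye : ℤ) : ℤ :=
  6 * ya + 20 * q4ys ya yd + 14 * (yc + ye) + 15 * yd + 21 * q4yb ya yc ye

def q4xf (xa xd xc xe : ℤ) : ℤ := -(q4t0 xa xd xc xe / 35)

def q4yf (ya yd yc ye : ℤ) : ℤ := -(q4t1 ya yd yc ye / 35)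

/-- the order of the centralizer -/
def q4C (xa ya xd yd xc yc xe ye : ℤ) : ℤ :=
  1 + gn xa ya + 2 * gn (q4xs xa xd) (q4ys ya yd) + gn xc yc + gn xe ye + gn xd yd
    + gn (q4xb xa xc xe) (q4yb ya yc ye) + gn (q4xf xa xd xc xe) (q4yf ya yd yc ye)

/-- orthogonality with the column of the square -/
def q4o0 (xa xd xc xe : ℤ) : ℤ :=
  1 + 2 * xa - 4 * q4xs xa xd + 2 * (xc + xe) - xd + q4xb xa xc xe - q4xf xa xd xc xe

def q4o1 (ya yd yc ye : ℤ) : ℤ :=
  2 * ya - 4 * q4ys ya yd + 2 * (yc + ye) - yd + q4yb ya yc ye - q4yf ya yd yc ye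

/-- the sum of the squares of the values -/
def q4S0 (xa ya xd yd xc yc xe ye : ℤ) : ℤ :=
  1 + gs0 xa ya + 2 * gs0 (q4xs xa xd) (q4ys ya yd) + gs0 xc yc + gs0 xe ye + gs0 xd yd
    + gs0 (q4xb xa xc xe) (q4yb ya yc ye) + gs0 (q4xf xa xd xc xe) (q4yf ya yd yc ye)

def q4S1 (xa ya xd yd xc yc xe ye : ℤ) : ℤ :=
  gs1 xa ya + 2 * gs1 (q4xs xa xd) (q4ys ya yd) + gs1 xc yc + gs1 xe ye + gs1 xd yd
    + gs1 (q4xb xa xc xe) (q4yb ya yc ye) + gs1 (q4xf xa xd xc xe) (q4yf ya yd yc ye)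

/-- the class multiplication coefficient for the prime `7` -/
def q4E7 (xa ya xd yd : ℤ) : ℤ :=
  30 + 2 * gn xd yd - 5 * gn xa ya - 3 * gn (q4xs xa xd) (q4ys ya yd)

/-- the final test -/
def fin4 (xa ya xd yd xc yc xe ye : ℤ) : Bool :=
  !(decide (q4t0 xa xd xc xe % 35 = 0) && decide (q4t1 ya yd yc ye % 35 = 0) &&
    decide (q4o0 xa xd xc xe = 0) && decide (q4o1 ya yd yc ye = 0) &&
    decide (q4S1 xa ya xd yd xc yc xe ye = 0) &&
    (decide (q4S0 xa ya xd yd xc yc xe ye = 0) ||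
      decide (q4S0 xa ya xd yd xc yc xe ye = q4C xa ya xd yd xc yc xe ye)) &&
    decide (24 % q4C xa ya xd yd xc yc xe ye = 0) &&
    decide (0 ≤ q4E7 xa ya xd yd) &&
    decide ((2520 * q4E7 xa ya xd yd) %
      (30 * (q4C xa ya xd yd xc yc xe ye * q4C xa ya xd yd xc yc xe ye)) = 0)) ||
  (decide (xa = 0) && decide (ya = 0) && decide (xd = -1) && decide (yd = 0) &&
    decide (xc = 0) && decide (yc = 0) && decide (xe = 0) && decide (ye = 0))

/-- the search -/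
def chk4 : Bool :=
  gbox 6 fun xa ya => decide (23 < gn xa ya) ||
  gbox 15 fun xd yd =>
    decide (23 < gn xa ya + gn xd yd + 2 * gn (q4xs xa xd) (q4ys ya yd)) ||
  gbox 14 fun xc yc =>
    decide (23 < gn xa ya + gn xd yd + 2 * gn (q4xs xa xd) (q4ys ya yd) + gn xc yc) ||
  gbox 14 fun xe ye =>
    decide (23 < gn xa ya + gn xd yd + 2 * gn (q4xs xa xd) (q4ys ya yd) + gn xc yc + gn xe ye) ||
    fin4 xa ya xd yd xc yc xe ye

theorem chk4_true : chk4 = true := by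
  decide

/-- **The arithmetic of the column of an element of order `4`.** -/
theorem order4_arith (xa ya xd yd xc yc xe ye xs ys xb yb xf yf : ℤ)
    (hpa : (xa + ya - 6) % 2 = 0) (hpd : (xd + yd - 15) % 2 = 0)
    (hpc : (xc + yc - 14) % 2 = 0) (hpe : (xe + ye - 14) % 2 = 0)
    (hxs : xs = 1 + xd - xa) (hys : ys = yd - ya)
    (hxb : xb = xc + xe - 1 - xa) (hyb : yb = yc + ye - ya)
    (hxf : 35 * xf = -(1 + 6 * xa + 20 * xs + 14 * (xc + xe) + 15 * xd + 21 * xb))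
    (hyf : 35 * yf = -(6 * ya + 20 * ys + 14 * (yc + ye) + 15 * yd + 21 * yb))
    (C n7 : ℕ) (ι : ℤ) (hι : ι = 0 ∨ ι = 1)
    (hC : (C : ℤ) = 1 + gn xa ya + 2 * gn xs ys + gn xc yc + gn xe ye + gn xd yd + gn xb yb
      + gn xf yf)
    (hCd : C ∣ 24)
    (ho0 : 1 + 2 * xa - 4 * xs + 2 * (xc + xe) - xd + xb - xf = 0)
    (ho1 : 2 * ya - 4 * ys + 2 * (yc + ye) - yd + yb - yf = 0)
    (hS0 : 1 + gs0 xa ya + 2 * gs0 xs ys + gs0 xc yc + gs0 xe ye + gs0 xd yd + gs0 xb yb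
      + gs0 xf yf = (C : ℤ) * ι)
    (hS1 : gs1 xa ya + 2 * gs1 xs ys + gs1 xc yc + gs1 xe ye + gs1 xd yd + gs1 xb yb
      + gs1 xf yf = 0)
    (hcm7 : (n7 : ℤ) * (30 * ((C : ℤ) * (C : ℤ))) =
      2520 * (30 + 2 * gn xd yd - 5 * gn xa ya - 3 * gn xs ys)) :
    xa = 0 ∧ ya = 0 ∧ xd = -1 ∧ yd = 0 ∧ xc = 0 ∧ yc = 0 ∧ xe = 0 ∧ ye = 0 := by
  have hXS : q4xs xa xd = xs := by unfold q4xs; rw [hxs]
  have hYS : q4ys ya yd = ys := by unfold q4ys; rw [hys]
  have hXB : q4xb xa xc xe = xb := by unfold q4xb; rw [hxb]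
  have hYB : q4yb ya yc ye = yb := by unfold q4yb; rw [hyb]
  have hT0 : q4t0 xa xd xc xe = 1 + 6 * xa + 20 * xs + 14 * (xc + xe) + 15 * xd + 21 * xb := by
    unfold q4t0; rw [hXS, hXB]
  have hT1 : q4t1 ya yd yc ye = 6 * ya + 20 * ys + 14 * (yc + ye) + 15 * yd + 21 * yb := by
    unfold q4t1; rw [hYS, hYB]
  have hXF : q4xf xa xd xc xe = xf := by unfold q4xf; rw [hT0]; omega
  have hYF : q4yf ya yd yc ye = yf := by unfold q4yf; rw [hT1]; omega
  have hCv : q4C xa ya xd yd xc yc xe ye = (C : ℤ) := by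
    unfold q4C; rw [hXS, hYS, hXB, hYB, hXF, hYF, hC]
  have hO0 : q4o0 xa xd xc xe = 0 := by unfold q4o0; rw [hXS, hXB, hXF]; exact ho0
  have hO1 : q4o1 ya yd yc ye = 0 := by unfold q4o1; rw [hYS, hYB, hYF]; exact ho1
  have hS0v : q4S0 xa ya xd yd xc yc xe ye = (C : ℤ) * ι := by
    unfold q4S0; rw [hXS, hYS, hXB, hYB, hXF, hYF]; exact hS0
  have hS1v : q4S1 xa ya xd yd xc yc xe ye = 0 := by
    unfold q4S1; rw [hXS, hYS, hXB, hYB, hXF, hYF]; exact hS1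
  have hE7 : q4E7 xa ya xd yd = 30 + 2 * gn xd yd - 5 * gn xa ya - 3 * gn xs ys := by
    unfold q4E7; rw [hXS, hYS]
  have hCpos : 0 < (C : ℤ) := by
    have : 0 < C := Nat.pos_of_dvd_of_pos hCd (by norm_num)
    exact_mod_cast this
  have hCle : (C : ℤ) ≤ 24 := by
    have : C ≤ 24 := Nat.le_of_dvd (by norm_num) hCd
    exact_mod_cast this
  have na := gn_nonneg xa ya
  have nd := gn_nonneg xd yd
  have ns := gn_nonneg xs ys
  have nc := gn_nonneg xc yc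
  have ne := gn_nonneg xe ye
  have nb := gn_nonneg xb yb
  have nf := gn_nonneg xf yf
  have e1 := gbox_sound chk4_true (abs_le_of_gn_le (by omega)) hpa
  rw [Bool.or_eq_true, decide_eq_true_eq] at e1
  rcases e1 with e1 | e1
  · omega
  have e2 := gbox_sound e1 (abs_le_of_gn_le (by omega)) hpd
  rw [hXS, hYS, Bool.or_eq_true, decide_eq_true_eq] at e2
  rcases e2 with e2 | e2
  · omega
  have e3 := gbox_sound e2 (abs_le_of_gn_le (by omega)) hpc
  rw [Bool.or_eq_true, decide_eq_true_eq] at e3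
  rcases e3 with e3 | e3
  · omega
  have e4 := gbox_sound e3 (abs_le_of_gn_le (by omega)) hpe
  rw [Bool.or_eq_true, decide_eq_true_eq] at e4
  rcases e4 with e4 | e4
  · omega
  unfold fin4 at e4
  rw [hCv, hT0, hT1, hO0, hO1, hS0v, hS1v, hE7] at e4
  simp only [Bool.or_eq_true, Bool.not_eq_true', Bool.and_eq_true, decide_eq_true_eq,
    Bool.and_eq_false_iff, Bool.or_eq_false_iff, decide_eq_false_iff_not] at e4
  rcases e4 with e4 | e4
  · exfalso
    rcases e4 with (((((((e4 | e4) | e4) | e4) | e4) | e4) | e4) | e4) | e4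
    · apply e4; omega
    · apply e4; omega
    · exact e4 trivial
    · exact e4 trivial
    · exact e4 trivial
    · rcases hι with h | h
      · apply e4.1; rw [h, mul_zero]
      · apply e4.2; rw [h, mul_one]
    · apply e4
      apply Int.emod_eq_zero_of_dvd
      exact_mod_cast hCd
    · apply e4
      have h5 : 0 ≤ (n7 : ℤ) * (30 * ((C : ℤ) * (C : ℤ))) := by positivity
      rw [hcm7] at h5
      omega
    · apply e4
      rw [← hcm7]
      exact Int.mul_emod_left _ _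
  · obtain ⟨⟨⟨⟨⟨⟨⟨h1, h2⟩, h3⟩, h4⟩, h5⟩, h6⟩, h7⟩, h8⟩ := e4
    exact ⟨h1, h2, h3, h4, h5, h6, h7, h8⟩

end Cfsg.Agent.Lib.Helper6.OrdT
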