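import Mathlib
import Cfsg.Agent.Lib.Helper6.OrdT6
import Cfsg.Agent.Lib.Helper6.OrdT8
import Cfsg.Agent.Lib.Helper6.OrdR6

/-!
# Simple groups of order `2520`: the values of the irreducible characters at an element of
order `4`
-/

set_option autoImplicit false
set_option maxHeartbeats 3200000
set_option maxRecDepth 1000000

namespace Cfsg.Agent.Lib.Helper6.OrdT

open Cfsg Cfsg.Agent.Lib.Helper8 Cfsg.Agent.Lib.Helper6.OrdB Cfsg.Agent.Lib.Helper6.OrdD
  Cfsg.Agent.Lib.Helper6.OrdK Cfsg.Agent.Lib.Helper6.OrdH Cfsg.Agent.Lib.Helper6.OrdL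
  Cfsg.Agent.Lib.Helper6.OrdG Cfsg.Agent.Lib.Helper6.OrdQ Cfsg.Agent.Lib.Helper1
open scoped ComplexConjugate

universe u

theorem centralizer_le_sq {G : Type*} [Group G] (u : G) :
    Subgroup.centralizer ({u} : Set G) ≤ Subgroup.centralizer ({u * u} : Set G) := by
  intro g hg
  rw [Subgroup.mem_centralizer_singleton_iff] at hg ⊢
  calc g * (u * u) = (g * u) * u := by group
    _ = (u * g) * u := by rw [hg]
    _ = u * (g * u) := by group
    _ = u * (u * g) := by rw [hg]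
    _ = u * u * g := by group

variable {G : Type u} [Group G] [Fintype G] [Fintype (IrrCharacter G)]

open Classical in
/-- **The column of an element of order `4`** in the character table of a simple group of order
`2520`. -/
theorem order4_col (hperf : commutator G = ⊤) (hn : Nat.card G = 2520) (T : Tab G) {u : G}
    (hu : orderOf u = 4) :
    T.a.1 u = 0 ∧ T.s1.1 u = 0 ∧ T.s2.1 u = 0 ∧ T.c1.1 u = 0 ∧ T.c2.1 u = 0 ∧
      T.d.1 u = -1 ∧ T.b.1 u = -1 ∧ T.f.1 u = 1 ∧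
      Nat.card (Subgroup.centralizer ({u} : Set G)) = 4 := by
  have hu4 : u * u * u * u = 1 := by
    have := pow_orderOf_eq_one u
    rw [hu] at this
    rw [← this, pow_succ, pow_succ, pow_succ, pow_one]
  have hu1 : u ≠ 1 := by
    rintro rfl
    rw [orderOf_one] at hu
    norm_num at hu
  have hto : orderOf (u * u) = 2 := by
    rw [← pow_two, orderOf_pow' u (by norm_num), hu]
    norm_num
  have hr7 : ¬ 7 ∣ orderOf u := by rw [hu]; norm_num
  have hr7' : ¬ 7 ∣ orderOf u⁻¹ := by rw [orderOf_inv, hu]; norm_num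
  have hr5 : ¬ 5 ∣ orderOf u := by rw [hu]; norm_num
  have hinv : ∀ χ : IrrCharacter G, χ.1 u⁻¹ = conj (χ.1 u) := fun χ =>
    Cfsg.Agent.Lib.Helper4.isCharacter_inv (Cfsg.Agent.Lib.Helper4.isCharacter_of_irr χ.2) u
  obtain ⟨ta, ts1, ts2, tc1, tc2, td, tb, tf, tC⟩ := invol_col hperf hn T hto
  -- the coordinates of the values
  obtain ⟨xa, ya, hva, hpa⟩ := order4_apply T.a hu4
  obtain ⟨xd, yd, hvd, hpd⟩ := order4_apply T.d hu4
  obtain ⟨xc, yc, hvc, hpc⟩ := order4_apply T.c1 hu4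
  obtain ⟨xe, ye, hve, hpe⟩ := order4_apply T.c2 hu4
  obtain ⟨xs, ys, hvs, -⟩ := order4_apply T.s1 hu4
  obtain ⟨xb, yb, hvb, -⟩ := order4_apply T.b hu4
  obtain ⟨xf, yf, hvf, -⟩ := order4_apply T.f hu4
  rw [T.da] at hpa
  rw [T.dd] at hpd
  rw [T.dc1] at hpc
  rw [T.dc2] at hpe
  have hvs2 : T.s2.1 u = (xs : ℂ) + (ys : ℂ) * Complex.I := by
    rw [← T.agree u hr7]; exact hvs
  -- the relations of the blocks
  have hrel7 : xs = 1 + xd - xa ∧ ys = yd - ya := by
    have h := T.rel7 u hr7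
    rw [hvd, hva, hvs] at h
    have : (((1 + xd - xa - xs : ℤ)) : ℂ) + (((yd - ya - ys : ℤ)) : ℂ) * Complex.I = 0 := by
      push_cast; linear_combination h
    obtain ⟨h1, h2⟩ := I_indep this
    constructor <;> omega
  have hrel5 : xb = xc + xe - 1 - xa ∧ yb = yc + ye - ya := by
    have h := T.rel5 u hr5
    rw [hva, hvb, hvc, hve] at h
    have : (((1 + xa + xb - xc - xe : ℤ)) : ℂ) + (((ya + yb - yc - ye : ℤ)) : ℂ) * Complex.I
        = 0 := by
      push_cast; linear_combination h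
    obtain ⟨h1, h2⟩ := I_indep this
    constructor <;> omega
  -- orthogonality with the column of the identity
  have hcol1 := column_orthogonality (1 : G) u
  have hnc : ¬ IsConj (1 : G) u := by
    intro h
    exact hu1 (isConj_one_right.1 h)
  rw [classIndicator, if_neg hnc, mul_zero, T.hsum] at hcol1
  simp only [apply_one, T.da, T.ds1, T.ds2, T.dc1, T.dc2, T.dd, T.db, T.df,
    trivIrr_apply, Complex.conj_natCast, map_one] at hcol1
  rw [hva, hvs, hvs2, hvc, hve, hvd, hvb, hvf] at hcol1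
  have hcolz : 35 * xf = -(1 + 6 * xa + 20 * xs + 14 * (xc + xe) + 15 * xd + 21 * xb) ∧
      35 * yf = -(6 * ya + 20 * ys + 14 * (yc + ye) + 15 * yd + 21 * yb) := by
    have : (((35 * xf + (1 + 6 * xa + 20 * xs + 14 * (xc + xe) + 15 * xd + 21 * xb) : ℤ)) : ℂ)
        + (((35 * yf + (6 * ya + 20 * ys + 14 * (yc + ye) + 15 * yd + 21 * yb) : ℤ)) : ℂ)
          * Complex.I = 0 := by
      push_cast at hcol1 ⊢
      linear_combination hcol1
    obtain ⟨h1, h2⟩ := I_indep this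
    constructor <;> omega
  -- orthogonality with the column of the square
  have hcolT := column_orthogonality (u * u) u
  have hncT : ¬ IsConj (u * u) u := by
    intro h
    obtain ⟨c, hc⟩ := isConj_iff.1 h
    have h2 : u * u = 1 := by
      have htt : (u * u) * (u * u) = 1 := by rw [← hu4]; group
      calc u * u = (c * (u * u) * c⁻¹) * (c * (u * u) * c⁻¹) := by rw [hc]
        _ = c * ((u * u) * (u * u)) * c⁻¹ := by group
        _ = 1 := by rw [htt]; group
    have := orderOf_dvd_of_pow_eq_one (show u ^ 2 = 1 by rw [pow_two]; exact h2)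
    rw [hu] at this
    norm_num at this
  rw [classIndicator, if_neg hncT, mul_zero, T.hsum] at hcolT
  rw [ta, ts1, ts2, tc1, tc2, td, tb, tf, trivIrr_apply, trivIrr_apply] at hcolT
  rw [hva, hvs, hvs2, hvc, hve, hvd, hvb, hvf] at hcolT
  have hcolTz : 1 + 2 * xa - 4 * xs + 2 * (xc + xe) - xd + xb - xf = 0 ∧
      2 * ya - 4 * ys + 2 * (yc + ye) - yd + yb - yf = 0 := by
    have : (((1 + 2 * xa - 4 * xs + 2 * (xc + xe) - xd + xb - xf : ℤ)) : ℂ)
        + (((2 * ya - 4 * ys + 2 * (yc + ye) - yd + yb - yf : ℤ)) : ℂ) * Complex.I = 0 := by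
      simp only [map_ofNat, map_neg, map_one] at hcolT
      push_cast at hcolT ⊢
      linear_combination hcolT
    exact I_indep this
  -- the norm of the column
  obtain ⟨C, hCdef⟩ : ∃ C, C = Nat.card (Subgroup.centralizer ({u} : Set G)) := ⟨_, rfl⟩
  have hCd : C ∣ 24 := by
    rw [hCdef, ← tC]
    exact Subgroup.card_dvd_of_le (centralizer_le_sq u)
  have hcol2 := column_orthogonality u u
  rw [classIndicator, if_pos (IsConj.refl u), mul_one, T.hsum, ← hCdef] at hcol2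
  rw [hva, hvs, hvs2, hvc, hve, hvd, hvb, hvf, trivIrr_apply] at hcol2
  simp only [gn_eq, map_one, mul_one] at hcol2
  have hC : (C : ℤ) = 1 + gn xa ya + 2 * gn xs ys + gn xc yc + gn xe ye + gn xd yd + gn xb yb
      + gn xf yf := by
    have : ((C : ℤ) : ℂ) = ((1 + gn xa ya + 2 * gn xs ys + gn xc yc + gn xe ye + gn xd yd
      + gn xb yb + gn xf yf : ℤ) : ℂ) := by
      push_cast
      linear_combination (-1 : ℂ) * hcol2
    exact_mod_cast this
  -- the squares
  have hcol3 := column_orthogonality u⁻¹ u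
  rw [OrdR.centralizer_inv, ← hCdef, T.hsum] at hcol3
  simp only [hinv, Complex.conj_conj] at hcol3
  rw [hva, hvs, hvs2, hvc, hve, hvd, hvb, hvf, trivIrr_apply] at hcol3
  simp only [gs_eq, mul_one] at hcol3
  obtain ⟨ι, hι, hιdef⟩ : ∃ ι : ℤ, (ι = 0 ∨ ι = 1) ∧ classIndicator u⁻¹ u = (ι : ℂ) := by
    unfold classIndicator
    split_ifs
    · exact ⟨1, Or.inr rfl, by simp⟩
    · exact ⟨0, Or.inl rfl, by simp⟩
  rw [hιdef] at hcol3
  have hsqz : ((1 + gs0 xa ya + 2 * gs0 xs ys + gs0 xc yc + gs0 xe ye + gs0 xd yd + gs0 xb yb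
        + gs0 xf yf - (C : ℤ) * ι : ℤ) : ℂ) +
      ((gs1 xa ya + 2 * gs1 xs ys + gs1 xc yc + gs1 xe ye + gs1 xd yd + gs1 xb yb
        + gs1 xf yf : ℤ) : ℂ) * Complex.I = 0 := by
    push_cast
    linear_combination hcol3
  obtain ⟨hS0, hS1⟩ := I_indep hsqz
  -- the class multiplication coefficient
  have hkc := card_isConj_mul_card_centralizer u
  rw [hn, ← hCdef] at hkc
  have hkc' := card_isConj_mul_card_centralizer u⁻¹
  rw [hn, OrdR.centralizer_inv, ← hCdef] at hkc'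
  obtain ⟨k, hkdef⟩ : ∃ k, k = Nat.card {v : G // IsConj u v} := ⟨_, rfl⟩
  obtain ⟨k', hk'def⟩ : ∃ k, k = Nat.card {v : G // IsConj u⁻¹ v} := ⟨_, rfl⟩
  rw [← hkdef] at hkc
  rw [← hk'def] at hkc'
  have hkcC : (k : ℂ) * (C : ℂ) = 2520 := by exact_mod_cast hkc
  have hkcC' : (k' : ℂ) * (C : ℂ) = 2520 := by exact_mod_cast hkc'
  obtain ⟨n7, hn7def⟩ : ∃ n, n = Nat.card {q : G × G // IsConj u q.1 ∧ IsConj u⁻¹ q.2 ∧
      q.1 * q.2 = T.x7} := ⟨_, rfl⟩
  have hcm := T.cm7 u u⁻¹ hr7 hr7'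
  simp only [hinv] at hcm
  rw [← hn7def, ← hkdef, ← hk'def, hva, hvd, hvs] at hcm
  simp only [gn_eq] at hcm
  have hcm' := cm_scale2 _ _ _ _ _ _ hcm hkcC hkcC'
  have hcm7z : (n7 : ℤ) * (30 * ((C : ℤ) * (C : ℤ))) =
      2520 * (30 + 2 * gn xd yd - 5 * gn xa ya - 3 * gn xs ys) := by
    have : (((n7 : ℤ) * (30 * ((C : ℤ) * (C : ℤ))) : ℤ) : ℂ) =
        ((2520 * (30 + 2 * gn xd yd - 5 * gn xa ya - 3 * gn xs ys) : ℤ) : ℂ) := by
      push_cast
      linear_combination (30 : ℂ) * hcm'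
    exact_mod_cast this
  obtain ⟨e1, e2, e3, e4, e5, e6, e7, e8⟩ := order4_arith xa ya xd yd xc yc xe ye xs ys xb yb xf yf
    hpa hpd hpc hpe hrel7.1 hrel7.2 hrel5.1 hrel5.2 hcolz.1 hcolz.2 C n7 ι hι hC hCd
    hcolTz.1 hcolTz.2 (by linarith) hS1 hcm7z
  have f1 : xs = 0 := by omega
  have f2 : ys = 0 := by omega
  have f3 : xb = -1 := by omega
  have f4 : yb = 0 := by omega
  have f5 : xf = 1 := by omega
  have f6 : yf = 0 := by omega
  refine ⟨?_, ?_, ?_, ?_, ?_, ?_, ?_, ?_, ?_⟩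
  · rw [hva, e1, e2]; norm_num
  · rw [hvs, f1, f2]; norm_num
  · rw [hvs2, f1, f2]; norm_num
  · rw [hvc, e5, e6]; norm_num
  · rw [hve, e7, e8]; norm_num
  · rw [hvd, e3, e4]; norm_num
  · rw [hvb, f3, f4]; norm_num
  · rw [hvf, f5, f6]; norm_num
  · rw [← hCdef]
    have : (C : ℤ) = 4 := by
      rw [hC, e1, e2, e3, e4, e5, e6, e7, e8, f1, f2, f3, f4, f5, f6]
      unfold gn
      norm_num
    exact_mod_cast this

end Cfsg.Agent.Lib.Helper6.OrdT
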