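import Mathlib
import Cfsg.Agent.Lib.Helper6.OrdT9

/-!
# Simple groups of order `2520`: an element of order `4` is inverted by an involution
-/

set_option autoImplicit false
set_option maxHeartbeats 3200000
set_option maxRecDepth 1000000

namespace Cfsg.Agent.Lib.Helper6.OrdT

open Cfsg Cfsg.Agent.Lib.Helper8 Cfsg.Agent.Lib.Helper6.OrdB Cfsg.Agent.Lib.Helper6.OrdD
  Cfsg.Agent.Lib.Helper6.OrdK Cfsg.Agent.Lib.Helper6.OrdH Cfsg.Agent.Lib.Helper6.OrdL
  Cfsg.Agent.Lib.Helper6.OrdG Cfsg.Agent.Lib.Helper6.OrdQ Cfsg.Agent.Lib.Helper1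
open scoped ComplexConjugate

universe u

variable {G : Type u} [Group G] [Fintype G] [Fintype (IrrCharacter G)]

open Classical in
/-- **An element of order `4` is inverted by an involution.** -/
theorem exists_invert4 (hperf : commutator G = ⊤) (hn : Nat.card G = 2520) (T : Tab G) {u : G}
    (hu : orderOf u = 4) : ∃ s : G, orderOf s = 2 ∧ s * u * s⁻¹ = u⁻¹ := by
  have hto : orderOf (u * u) = 2 := by
    rw [← pow_two, orderOf_pow' u (by norm_num), hu]
    norm_num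
  obtain ⟨t, htdef⟩ : ∃ t, t = u * u := ⟨_, rfl⟩
  rw [← htdef] at hto
  have htt : t * t = 1 := by rw [← pow_two, ← hto]; exact pow_orderOf_eq_one t
  have ht1 : t ≠ 1 := by
    rintro rfl
    rw [orderOf_one] at hto
    norm_num at hto
  obtain ⟨ta, ts1, ts2, tc1, tc2, td, tb, tf, tC⟩ := invol_col hperf hn T hto
  obtain ⟨ua, us1, us2, uc1, uc2, ud, ub, uf, -⟩ := order4_col hperf hn T hu
  have hkc := card_isConj_mul_card_centralizer t
  rw [hn, tC] at hkc
  have hk : Nat.card {v : G // IsConj t v} = 105 := by omega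
  have hsc := Cfsg.Agent.S0840.result t t u
  rw [finsum_eq_sum_of_fintype, T.hsum, hk, hn] at hsc
  simp only [apply_one, T.da, T.ds1, T.ds2, T.dc1, T.dc2, T.dd, T.db, T.df, trivIrr_apply] at hsc
  rw [ta, ts1, ts2, tc1, tc2, td, tb, tf, ua, us1, us2, uc1, uc2, ud, ub, uf] at hsc
  have hcount : (Nat.card {p : G × G // IsConj t p.1 ∧ IsConj t p.2 ∧ p.1 * p.2 = u} : ℂ) = 4 := by
    rw [hsc]
    simp only [map_zero, map_neg, map_one]
    norm_num
  have hpos : 0 < Nat.card {p : G × G // IsConj t p.1 ∧ IsConj t p.2 ∧ p.1 * p.2 = u} := by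
    have : Nat.card {p : G × G // IsConj t p.1 ∧ IsConj t p.2 ∧ p.1 * p.2 = u} = 4 := by
      exact_mod_cast hcount
    omega
  obtain ⟨⟨⟨s1, s2⟩, h1, h2, h3⟩⟩ := (Nat.card_pos_iff.1 hpos).1
  simp only at h1 h2 h3
  have hinv : ∀ g : G, IsConj t g → g * g = 1 ∧ g ≠ 1 := by
    intro g hg
    obtain ⟨v, hv⟩ := isConj_iff.1 hg
    rw [← hv]
    refine ⟨?_, ?_⟩
    · have : v * t * v⁻¹ * (v * t * v⁻¹) = v * (t * t) * v⁻¹ := by group
      rw [this, htt]; group
    · intro h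
      apply ht1
      calc t = v⁻¹ * (v * t * v⁻¹) * v := by group
        _ = 1 := by rw [h]; group
  obtain ⟨hs1, hs1ne⟩ := hinv s1 h1
  obtain ⟨hs2, -⟩ := hinv s2 h2
  have hs1inv : s1⁻¹ = s1 := inv_eq_of_mul_eq_one_right hs1
  have hs2inv : s2⁻¹ = s2 := inv_eq_of_mul_eq_one_right hs2
  refine ⟨s1, orderOf_eq_prime (by rw [pow_two]; exact hs1) hs1ne, ?_⟩
  rw [← h3, hs1inv, mul_inv_rev, hs1inv, hs2inv]
  calc s1 * (s1 * s2) * s1 = (s1 * s1) * s2 * s1 := by group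
    _ = s2 * s1 := by rw [hs1, one_mul]

end Cfsg.Agent.Lib.Helper6.OrdT
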