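import Mathlib
import Cfsg.Agent.Lib.Helper6.OrdR5

/-!
# Simple groups of order `2520`: the arithmetic of the values at an element of order `3`

The values of the irreducible characters at an element of order `3` are written `x + y ω`. The
search runs over the multiplicities of the eigenvalues for the characters of degrees `6`, `15`,
`14`, `14`; the other values are determined by the relations of the principal blocks for `5` and
`7` and by the orthogonality with the column of the identity.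
-/

set_option autoImplicit false
set_option maxHeartbeats 1600000
set_option maxRecDepth 1000000

namespace Cfsg.Agent.Lib.Helper6.OrdT

open Cfsg.Agent.Lib.Helper6.OrdR

/-- the value of the characters of degree `10` -/
def q3xs (xa xd : ℤ) : ℤ := 1 + xd - xa

def q3ys (ya yd : ℤ) : ℤ := yd - ya

/-- the value of the character of degree `21` -/
def q3xb (xa xc xe : ℤ) : ℤ := xc + xe - 1 - xa

def q3yb (ya yc ye : ℤ) : ℤ := yc + ye - ya

/-- `-35` times the value of the character of degree `35` -/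
def q3t0 (xa xd xc xe : ℤ) : ℤ :=
  1 + 6 * xa + 20 * q3xs xa xd + 14 * (xc + xe) + 15 * xd + 21 * q3xb xa xc xe

def q3t1 (ya yd yc ye : ℤ) : ℤ :=
  6 * ya + 20 * q3ys ya yd + 14 * (yc + ye) + 15 * yd + 21 * q3yb ya yc ye

def q3xf (xa xd xc xe : ℤ) : ℤ := -(q3t0 xa xd xc xe / 35)

def q3yf (ya yd yc ye : ℤ) : ℤ := -(q3t1 ya yd yc ye / 35)

/-- the order of the centralizer -/
def q3C (xa ya xd yd xc yc xe ye : ℤ) : ℤ :=
  1 + nrm xa ya + 2 * nrm (q3xs xa xd) (q3ys ya yd) + nrm xc yc + nrm xe ye + nrm xd yd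
    + nrm (q3xb xa xc xe) (q3yb ya yc ye) + nrm (q3xf xa xd xc xe) (q3yf ya yd yc ye)

/-- the sum of the squares of the values -/
def q3S0 (xa ya xd yd xc yc xe ye : ℤ) : ℤ :=
  1 + sq0 xa ya + 2 * sq0 (q3xs xa xd) (q3ys ya yd) + sq0 xc yc + sq0 xe ye + sq0 xd yd
    + sq0 (q3xb xa xc xe) (q3yb ya yc ye) + sq0 (q3xf xa xd xc xe) (q3yf ya yd yc ye)

def q3S1 (xa ya xd yd xc yc xe ye : ℤ) : ℤ :=
  sq1 xa ya + 2 * sq1 (q3xs xa xd) (q3ys ya yd) + sq1 xc yc + sq1 xe ye + sq1 xd yd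
    + sq1 (q3xb xa xc xe) (q3yb ya yc ye) + sq1 (q3xf xa xd xc xe) (q3yf ya yd yc ye)

/-- the class multiplication coefficient with an involution, for the prime `7` -/
def q3g0 (xa xd : ℤ) : ℤ := 15 - xd - 5 * xa + 3 * q3xs xa xd

def q3g1 (ya yd : ℤ) : ℤ := -yd - 5 * ya + 3 * q3ys ya yd

/-- the class multiplication coefficient with an involution, for the prime `5` -/
def q3h0 (xa xc xe : ℤ) : ℤ := 21 + 7 * xa + q3xb xa xc xe - 3 * (xc + xe)

def q3h1 (ya yc ye : ℤ) : ℤ := 7 * ya + q3yb ya yc ye - 3 * (yc + ye)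

/-- the final test -/
def fin3 (xa ya xd yd xc yc xe ye : ℤ) : Bool :=
  !(decide (q3t0 xa xd xc xe % 35 = 0) && decide (q3t1 ya yd yc ye % 35 = 0) &&
    decide (q3S1 xa ya xd yd xc yc xe ye = 0) &&
    (decide (q3S0 xa ya xd yd xc yc xe ye = 0) ||
      decide (q3S0 xa ya xd yd xc yc xe ye = q3C xa ya xd yd xc yc xe ye)) &&
    decide (72 % q3C xa ya xd yd xc yc xe ye = 0) &&
    decide ((7 * q3g0 xa xd) % q3C xa ya xd yd xc yc xe ye = 0) &&
    decide ((5 * q3h0 xa xc xe) % q3C xa ya xd yd xc yc xe ye = 0)) ||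
  (decide (q3C xa ya xd yd xc yc xe ye = 9) || decide (q3C xa ya xd yd xc yc xe ye = 36))

/-- the search -/
def chk3 : Bool :=
  cube 6 fun xa ya => decide (71 < nrm xa ya) ||
  cube 15 fun xd yd =>
    (decide (71 < nrm xa ya + nrm xd yd + 2 * nrm (q3xs xa xd) (q3ys ya yd)) ||
      decide (q3g1 ya yd ≠ 0) || decide (q3g0 xa xd % 9 ≠ 0)) ||
  cube 14 fun xc yc =>
    decide (71 < nrm xa ya + nrm xd yd + 2 * nrm (q3xs xa xd) (q3ys ya yd) + nrm xc yc) ||
  cube 14 fun xe ye =>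
    (decide (71 < nrm xa ya + nrm xd yd + 2 * nrm (q3xs xa xd) (q3ys ya yd) + nrm xc yc
        + nrm xe ye) ||
      decide (q3h1 ya yc ye ≠ 0) || decide (q3h0 xa xc xe % 9 ≠ 0)) ||
    fin3 xa ya xd yd xc yc xe ye

theorem chk3_true : chk3 = true := by
  decide

theorem mod9_of_mul_eq (n C g k : ℤ) (hC : (9 : ℤ) ∣ C) (h : n * C = k * g)
    (hk : k = 7 ∨ k = 5) : g % 9 = 0 := by
  obtain ⟨C', rfl⟩ := hC
  have h1 : 9 * (n * C') = k * g := by rw [← h]; ring
  rcases hk with rfl | rfl <;> omega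

/-- **The arithmetic of the column of an element of order `3`.** -/
theorem order3_arith (aa ba ca ad bd cd ac bc cc ae be ce : ℕ) (ha : aa + ba + ca = 6)
    (hd : ad + bd + cd = 15) (hc : ac + bc + cc = 14) (he : ae + be + ce = 14)
    (xa ya xd yd xc yc xe ye xs ys xb yb xf yf : ℤ)
    (hxa : xa = (aa : ℤ) - (ca : ℤ)) (hya : ya = (ba : ℤ) - (ca : ℤ))
    (hxd : xd = (ad : ℤ) - (cd : ℤ)) (hyd : yd = (bd : ℤ) - (cd : ℤ))
    (hxc : xc = (ac : ℤ) - (cc : ℤ)) (hyc : yc = (bc : ℤ) - (cc : ℤ))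
    (hxe : xe = (ae : ℤ) - (ce : ℤ)) (hye : ye = (be : ℤ) - (ce : ℤ))
    (hxs : xs = 1 + xd - xa) (hys : ys = yd - ya)
    (hxb : xb = xc + xe - 1 - xa) (hyb : yb = yc + ye - ya)
    (hxf : 35 * xf = -(1 + 6 * xa + 20 * xs + 14 * (xc + xe) + 15 * xd + 21 * xb))
    (hyf : 35 * yf = -(6 * ya + 20 * ys + 14 * (yc + ye) + 15 * yd + 21 * yb))
    (C n7 n5 : ℕ) (ι : ℤ) (hι : ι = 0 ∨ ι = 1)
    (hC : (C : ℤ) = 1 + nrm xa ya + 2 * nrm xs ys + nrm xc yc + nrm xe ye + nrm xd yd + nrm xb yb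
      + nrm xf yf)
    (hCd : C ∣ 72) (hC9 : 9 ∣ C)
    (hS0 : 1 + sq0 xa ya + 2 * sq0 xs ys + sq0 xc yc + sq0 xe ye + sq0 xd yd + sq0 xb yb
      + sq0 xf yf = (C : ℤ) * ι)
    (hS1 : sq1 xa ya + 2 * sq1 xs ys + sq1 xc yc + sq1 xe ye + sq1 xd yd + sq1 xb yb
      + sq1 xf yf = 0)
    (hg0 : (n7 : ℤ) * (C : ℤ) = 7 * (15 - xd - 5 * xa + 3 * xs))
    (hg1 : -yd - 5 * ya + 3 * ys = 0)
    (hh0 : (n5 : ℤ) * (C : ℤ) = 5 * (21 + 7 * xa + xb - 3 * (xc + xe)))
    (hh1 : 7 * ya + yb - 3 * (yc + ye) = 0) :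
    C = 9 ∨ C = 36 := by
  have hXS : q3xs xa xd = xs := by unfold q3xs; rw [hxs]
  have hYS : q3ys ya yd = ys := by unfold q3ys; rw [hys]
  have hXB : q3xb xa xc xe = xb := by unfold q3xb; rw [hxb]
  have hYB : q3yb ya yc ye = yb := by unfold q3yb; rw [hyb]
  have hT0 : q3t0 xa xd xc xe = 1 + 6 * xa + 20 * xs + 14 * (xc + xe) + 15 * xd + 21 * xb := by
    unfold q3t0; rw [hXS, hXB]
  have hT1 : q3t1 ya yd yc ye = 6 * ya + 20 * ys + 14 * (yc + ye) + 15 * yd + 21 * yb := by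
    unfold q3t1; rw [hYS, hYB]
  have hXF : q3xf xa xd xc xe = xf := by unfold q3xf; rw [hT0]; omega
  have hYF : q3yf ya yd yc ye = yf := by unfold q3yf; rw [hT1]; omega
  have hCv : q3C xa ya xd yd xc yc xe ye = (C : ℤ) := by
    unfold q3C; rw [hXS, hYS, hXB, hYB, hXF, hYF, hC]
  have hS0v : q3S0 xa ya xd yd xc yc xe ye = (C : ℤ) * ι := by
    unfold q3S0; rw [hXS, hYS, hXB, hYB, hXF, hYF]; exact hS0
  have hS1v : q3S1 xa ya xd yd xc yc xe ye = 0 := by
    unfold q3S1; rw [hXS, hYS, hXB, hYB, hXF, hYF]; exact hS1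
  have hG0 : q3g0 xa xd = 15 - xd - 5 * xa + 3 * xs := by unfold q3g0; rw [hXS]
  have hG1 : q3g1 ya yd = 0 := by unfold q3g1; rw [hYS]; exact hg1
  have hH0 : q3h0 xa xc xe = 21 + 7 * xa + xb - 3 * (xc + xe) := by unfold q3h0; rw [hXB]
  have hH1 : q3h1 ya yc ye = 0 := by unfold q3h1; rw [hYB]; exact hh1
  have hCle : (C : ℤ) ≤ 72 := by
    have : C ≤ 72 := Nat.le_of_dvd (by norm_num) hCd
    exact_mod_cast this
  have hC9' : (9 : ℤ) ∣ (C : ℤ) := by exact_mod_cast hC9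
  have hg9 : q3g0 xa xd % 9 = 0 := by
    rw [hG0]
    exact mod9_of_mul_eq _ _ _ 7 hC9' hg0 (Or.inl rfl)
  have hh9 : q3h0 xa xc xe % 9 = 0 := by
    rw [hH0]
    exact mod9_of_mul_eq _ _ _ 5 hC9' hh0 (Or.inr rfl)
  have na := nrm_nonneg xa ya
  have nd := nrm_nonneg xd yd
  have ns := nrm_nonneg xs ys
  have nc := nrm_nonneg xc yc
  have ne := nrm_nonneg xe ye
  have nb := nrm_nonneg xb yb
  have nf := nrm_nonneg xf yf
  have e1 := cube_sound chk3_true aa ba ca ha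
  rw [← hxa, ← hya, Bool.or_eq_true, decide_eq_true_eq] at e1
  rcases e1 with e1 | e1
  · omega
  have e2 := cube_sound e1 ad bd cd hd
  rw [← hxd, ← hyd, hXS, hYS, Bool.or_eq_true, Bool.or_eq_true, Bool.or_eq_true,
    decide_eq_true_eq, decide_eq_true_eq, decide_eq_true_eq] at e2
  rcases e2 with ((e2 | e2) | e2) | e2
  · omega
  · exact absurd hG1 e2
  · exact absurd hg9 e2
  have e3 := cube_sound e2 ac bc cc hc
  rw [← hxc, ← hyc, Bool.or_eq_true, decide_eq_true_eq] at e3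
  rcases e3 with e3 | e3
  · omega
  have e4 := cube_sound e3 ae be ce he
  rw [← hxe, ← hye, Bool.or_eq_true, Bool.or_eq_true, Bool.or_eq_true,
    decide_eq_true_eq, decide_eq_true_eq, decide_eq_true_eq] at e4
  rcases e4 with ((e4 | e4) | e4) | e4
  · omega
  · exact absurd hH1 e4
  · exact absurd hh9 e4
  unfold fin3 at e4
  rw [hCv, hT0, hT1, hS0v, hS1v, hG0, hH0] at e4
  simp only [Bool.or_eq_true, Bool.not_eq_true', Bool.and_eq_true, decide_eq_true_eq,
    Bool.and_eq_false_iff, Bool.or_eq_false_iff, decide_eq_false_iff_not] at e4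
  rcases e4 with e4 | e4
  · exfalso
    rcases e4 with (((((e4 | e4) | e4) | e4) | e4) | e4) | e4
    · apply e4; omega
    · apply e4; omega
    · exact e4 trivial
    · rcases hι with h | h
      · apply e4.1; rw [h, mul_zero]
      · apply e4.2; rw [h, mul_one]
    · apply e4
      apply Int.emod_eq_zero_of_dvd
      exact_mod_cast hCd
    · apply e4
      rw [← hg0]
      exact Int.mul_emod_left _ _
    · apply e4
      rw [← hh0]
      exact Int.mul_emod_left _ _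
  · rcases e4 with e4 | e4
    · left; exact_mod_cast e4
    · right; exact_mod_cast e4

end Cfsg.Agent.Lib.Helper6.OrdT
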