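import Mathlib
import Cfsg.Agent.Lib.Helper6.OrdT6
import Cfsg.Agent.Lib.Helper6.OrdT11
import Cfsg.Agent.Lib.Helper6.OrdR6
import Cfsg.Agent.Lib.Helper3.SylowCount

/-!
# Simple groups of order `2520`: the centralizer of an element of order `3`
-/

set_option autoImplicit false
set_option maxHeartbeats 3200000
set_option maxRecDepth 1000000

namespace Cfsg.Agent.Lib.Helper6.OrdT

open Cfsg Cfsg.Agent.Lib.Helper8 Cfsg.Agent.Lib.Helper6.OrdB Cfsg.Agent.Lib.Helper6.OrdD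
  Cfsg.Agent.Lib.Helper6.OrdK Cfsg.Agent.Lib.Helper6.OrdH Cfsg.Agent.Lib.Helper6.OrdL
  Cfsg.Agent.Lib.Helper6.OrdG Cfsg.Agent.Lib.Helper6.OrdQ Cfsg.Agent.Lib.Helper1
  Cfsg.Agent.Lib.Helper6.OrdR
open scoped ComplexConjugate

universe u

variable {G : Type u} [Group G] [Fintype G] [Fintype (IrrCharacter G)]

omit [Fintype (IrrCharacter G)] in
/-- a Sylow `3`-subgroup has order `9` -/
theorem sylow3_card (hn : Nat.card G = 2520) (P : Sylow 3 G) : Nat.card P = 9 := by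
  have hp3 : Fact (Nat.Prime 3) := ⟨by norm_num⟩
  have := Cfsg.Agent.Lib.Helper3.sylow_card_eq_of_card_eq P 2 280 (by rw [hn]; norm_num) (by norm_num)
  rw [this]
  norm_num

omit [Fintype (IrrCharacter G)] in
/-- a Sylow `3`-subgroup is commutative -/
theorem sylow3_comm (hn : Nat.card G = 2520) (P : Sylow 3 G) {a b : G}
    (ha : a ∈ (P : Subgroup G)) (hb : b ∈ (P : Subgroup G)) : a * b = b * a := by
  have hp3 : Fact (Nat.Prime 3) := ⟨by norm_num⟩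
  have hc : Nat.card (P : Subgroup G) = 3 ^ 2 := by
    have := Cfsg.Agent.Lib.Helper3.sylow_card_eq_of_card_eq P 2 280 (by rw [hn]; norm_num) (by norm_num)
    exact this
  have := IsPGroup.commutative_of_card_eq_prime_sq hc ⟨a, ha⟩ ⟨b, hb⟩
  exact congrArg Subtype.val this

open Classical in
/-- **The centralizer of an element of order `3`** has order `9` or `36`. -/
theorem order3_card (hperf : commutator G = ⊤) (hn : Nat.card G = 2520) (T : Tab G) {u t : G}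
    (hu : orderOf u = 3) (ht : orderOf t = 2) :
    Nat.card (Subgroup.centralizer ({u} : Set G)) = 9 ∨
      Nat.card (Subgroup.centralizer ({u} : Set G)) = 36 := by
  have hp3 : Fact (Nat.Prime 3) := ⟨by norm_num⟩
  have hu3 : u * u * u = 1 := by
    have := pow_orderOf_eq_one u
    rw [hu, pow_three'] at this
    exact this
  have hu1 : u ≠ 1 := by
    intro h
    rw [h, orderOf_one] at hu
    norm_num at hu
  have hr7 : ¬ 7 ∣ orderOf u := by rw [hu]; norm_num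
  have hr5 : ¬ 5 ∣ orderOf u := by rw [hu]; norm_num
  have hr7t : ¬ 7 ∣ orderOf t := by rw [ht]; norm_num
  have hr5t : ¬ 5 ∣ orderOf t := by rw [ht]; norm_num
  have hinv : ∀ χ : IrrCharacter G, χ.1 u⁻¹ = conj (χ.1 u) := fun χ =>
    Cfsg.Agent.Lib.Helper4.isCharacter_inv (Cfsg.Agent.Lib.Helper4.isCharacter_of_irr χ.2) u
  obtain ⟨ta, ts1, ts2, tc1, tc2, td, tb, tf, tC⟩ := invol_col hperf hn T ht
  -- the coordinates of the values
  obtain ⟨aa, ba, ca, ha, hva⟩ := order3_apply T.a hu3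
  obtain ⟨ad, bd, cd, hd, hvd⟩ := order3_apply T.d hu3
  obtain ⟨ac, bc, cc, hc, hvc⟩ := order3_apply T.c1 hu3
  obtain ⟨ae, be, ce, he, hve⟩ := order3_apply T.c2 hu3
  obtain ⟨as, bs, cs, -, hvs⟩ := order3_apply T.s1 hu3
  obtain ⟨ab, bb, cb, -, hvb⟩ := order3_apply T.b hu3
  obtain ⟨af, bf, cf, -, hvf⟩ := order3_apply T.f hu3
  rw [T.da] at ha
  rw [T.dd] at hd
  rw [T.dc1] at hc
  rw [T.dc2] at he
  obtain ⟨xa, hxa⟩ : ∃ x : ℤ, x = (aa : ℤ) - (ca : ℤ) := ⟨_, rfl⟩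
  obtain ⟨ya, hya⟩ : ∃ x : ℤ, x = (ba : ℤ) - (ca : ℤ) := ⟨_, rfl⟩
  obtain ⟨xd, hxd⟩ : ∃ x : ℤ, x = (ad : ℤ) - (cd : ℤ) := ⟨_, rfl⟩
  obtain ⟨yd, hyd⟩ : ∃ x : ℤ, x = (bd : ℤ) - (cd : ℤ) := ⟨_, rfl⟩
  obtain ⟨xc, hxc⟩ : ∃ x : ℤ, x = (ac : ℤ) - (cc : ℤ) := ⟨_, rfl⟩
  obtain ⟨yc, hyc⟩ : ∃ x : ℤ, x = (bc : ℤ) - (cc : ℤ) := ⟨_, rfl⟩
  obtain ⟨xe, hxe⟩ : ∃ x : ℤ, x = (ae : ℤ) - (ce : ℤ) := ⟨_, rfl⟩
  obtain ⟨ye, hye⟩ : ∃ x : ℤ, x = (be : ℤ) - (ce : ℤ) := ⟨_, rfl⟩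
  obtain ⟨xs, hxs⟩ : ∃ x : ℤ, x = (as : ℤ) - (cs : ℤ) := ⟨_, rfl⟩
  obtain ⟨ys, hys⟩ : ∃ x : ℤ, x = (bs : ℤ) - (cs : ℤ) := ⟨_, rfl⟩
  obtain ⟨xb, hxb⟩ : ∃ x : ℤ, x = (ab : ℤ) - (cb : ℤ) := ⟨_, rfl⟩
  obtain ⟨yb, hyb⟩ : ∃ x : ℤ, x = (bb : ℤ) - (cb : ℤ) := ⟨_, rfl⟩
  obtain ⟨xf, hxf⟩ : ∃ x : ℤ, x = (af : ℤ) - (cf : ℤ) := ⟨_, rfl⟩
  obtain ⟨yf, hyf⟩ : ∃ x : ℤ, x = (bf : ℤ) - (cf : ℤ) := ⟨_, rfl⟩
  rw [← hxa, ← hya] at hva
  rw [← hxd, ← hyd] at hvd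
  rw [← hxc, ← hyc] at hvc
  rw [← hxe, ← hye] at hve
  rw [← hxs, ← hys] at hvs
  rw [← hxb, ← hyb] at hvb
  rw [← hxf, ← hyf] at hvf
  have hvs2 : T.s2.1 u = (xs : ℂ) + (ys : ℂ) * ω := by
    rw [← T.agree u hr7]; exact hvs
  -- the relations of the blocks
  have hrel7 : xs = 1 + xd - xa ∧ ys = yd - ya := by
    have h := T.rel7 u hr7
    rw [hvd, hva, hvs] at h
    have : (((1 + xd - xa - xs : ℤ)) : ℂ) + (((yd - ya - ys : ℤ)) : ℂ) * ω = 0 := by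
      push_cast; linear_combination h
    obtain ⟨h1, h2⟩ := ω_indep this
    constructor <;> omega
  have hrel5 : xb = xc + xe - 1 - xa ∧ yb = yc + ye - ya := by
    have h := T.rel5 u hr5
    rw [hva, hvb, hvc, hve] at h
    have : (((1 + xa + xb - xc - xe : ℤ)) : ℂ) + (((ya + yb - yc - ye : ℤ)) : ℂ) * ω
        = 0 := by
      push_cast; linear_combination h
    obtain ⟨h1, h2⟩ := ω_indep this
    constructor <;> omega
  -- orthogonality with the column of the identity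
  have hcol1 := column_orthogonality (1 : G) u
  have hnc : ¬ IsConj (1 : G) u := by
    intro h
    exact hu1 (isConj_one_right.1 h)
  rw [classIndicator, if_neg hnc, mul_zero, T.hsum] at hcol1
  simp only [apply_one, T.da, T.ds1, T.ds2, T.dc1, T.dc2, T.dd, T.db, T.df,
    trivIrr_apply, Complex.conj_natCast, map_one] at hcol1
  rw [hva, hvs, hvs2, hvc, hve, hvd, hvb, hvf] at hcol1
  have hcolz : 35 * xf = -(1 + 6 * xa + 20 * xs + 14 * (xc + xe) + 15 * xd + 21 * xb) ∧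
      35 * yf = -(6 * ya + 20 * ys + 14 * (yc + ye) + 15 * yd + 21 * yb) := by
    have : (((35 * xf + (1 + 6 * xa + 20 * xs + 14 * (xc + xe) + 15 * xd + 21 * xb) : ℤ)) : ℂ)
        + (((35 * yf + (6 * ya + 20 * ys + 14 * (yc + ye) + 15 * yd + 21 * yb) : ℤ)) : ℂ)
          * ω = 0 := by
      push_cast at hcol1 ⊢
      linear_combination hcol1
    obtain ⟨h1, h2⟩ := ω_indep this
    constructor <;> omega
  -- the norm of the column
  obtain ⟨C, hCdef⟩ : ∃ C, C = Nat.card (Subgroup.centralizer ({u} : Set G)) := ⟨_, rfl⟩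
  rw [← hCdef]
  have hCd : C ∣ 72 := by
    rw [hCdef]
    exact card_centralizer_dvd_72 hn T hu1 hr5 hr7
  have hC9 : 9 ∣ C := by
    have hpg : IsPGroup 3 (Subgroup.zpowers u) :=
      IsPGroup.of_card (n := 1) (by rw [Nat.card_zpowers, hu, pow_one])
    obtain ⟨P, hP⟩ := hpg.exists_le_sylow
    have huP : u ∈ (P : Subgroup G) := hP (Subgroup.mem_zpowers u)
    have hle : (P : Subgroup G) ≤ Subgroup.centralizer ({u} : Set G) := by
      intro g hg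
      rw [Subgroup.mem_centralizer_singleton_iff]
      exact sylow3_comm hn P hg huP
    have := Subgroup.card_dvd_of_le hle
    rw [sylow3_card hn P, ← hCdef] at this
    exact this
  have hcol2 := column_orthogonality u u
  rw [classIndicator, if_pos (IsConj.refl u), mul_one, T.hsum, ← hCdef] at hcol2
  rw [hva, hvs, hvs2, hvc, hve, hvd, hvb, hvf, trivIrr_apply] at hcol2
  simp only [nrm_eq, map_one, mul_one] at hcol2
  have hC : (C : ℤ) = 1 + nrm xa ya + 2 * nrm xs ys + nrm xc yc + nrm xe ye + nrm xd yd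
      + nrm xb yb + nrm xf yf := by
    have : ((C : ℤ) : ℂ) = ((1 + nrm xa ya + 2 * nrm xs ys + nrm xc yc + nrm xe ye + nrm xd yd
      + nrm xb yb + nrm xf yf : ℤ) : ℂ) := by
      push_cast
      linear_combination (-1 : ℂ) * hcol2
    exact_mod_cast this
  -- the squares
  have hcol3 := column_orthogonality u⁻¹ u
  rw [OrdR.centralizer_inv, ← hCdef, T.hsum] at hcol3
  simp only [hinv, Complex.conj_conj] at hcol3
  rw [hva, hvs, hvs2, hvc, hve, hvd, hvb, hvf, trivIrr_apply] at hcol3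
  simp only [sq_eq, mul_one] at hcol3
  obtain ⟨ι, hι, hιdef⟩ : ∃ ι : ℤ, (ι = 0 ∨ ι = 1) ∧ classIndicator u⁻¹ u = (ι : ℂ) := by
    unfold classIndicator
    split_ifs
    · exact ⟨1, Or.inr rfl, by simp⟩
    · exact ⟨0, Or.inl rfl, by simp⟩
  rw [hιdef] at hcol3
  have hsqz : ((1 + sq0 xa ya + 2 * sq0 xs ys + sq0 xc yc + sq0 xe ye + sq0 xd yd + sq0 xb yb
        + sq0 xf yf - (C : ℤ) * ι : ℤ) : ℂ) +
      ((sq1 xa ya + 2 * sq1 xs ys + sq1 xc yc + sq1 xe ye + sq1 xd yd + sq1 xb yb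
        + sq1 xf yf : ℤ) : ℂ) * ω = 0 := by
    push_cast
    linear_combination hcol3
  obtain ⟨hS0, hS1⟩ := ω_indep hsqz
  -- the class multiplication coefficients with the class of the involution
  have hkc := card_isConj_mul_card_centralizer u
  rw [hn, ← hCdef] at hkc
  have hkc' := card_isConj_mul_card_centralizer t
  rw [hn, tC] at hkc'
  obtain ⟨k, hkdef⟩ : ∃ k, k = Nat.card {v : G // IsConj u v} := ⟨_, rfl⟩
  obtain ⟨k', hk'def⟩ : ∃ k, k = Nat.card {v : G // IsConj t v} := ⟨_, rfl⟩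
  rw [← hkdef] at hkc
  rw [← hk'def] at hkc'
  have hkcC : (k : ℂ) * (C : ℂ) = 2520 := by exact_mod_cast hkc
  have hkcC' : (k' : ℂ) * (24 : ℂ) = 2520 := by exact_mod_cast hkc'
  obtain ⟨n7, hn7def⟩ : ∃ n, n = Nat.card {q : G × G // IsConj u q.1 ∧ IsConj t q.2 ∧
      q.1 * q.2 = T.x7} := ⟨_, rfl⟩
  have hcm := T.cm7 u t hr7 hr7t
  rw [← hn7def, ← hkdef, ← hk'def, hva, hvd, hvs, ta, td, ts1] at hcm
  have hcm' := cm_scale2 _ _ _ _ _ _ hcm hkcC hkcC'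
  have hcm7z : (n7 : ℤ) * (C : ℤ) = 7 * (15 - xd - 5 * xa + 3 * xs) ∧
      -yd - 5 * ya + 3 * ys = 0 := by
    have : ((((n7 : ℤ) * (C : ℤ) - 7 * (15 - xd - 5 * xa + 3 * xs)) : ℤ) : ℂ) +
        (((-7 * (-yd - 5 * ya + 3 * ys)) : ℤ) : ℂ) * ω = 0 := by
      push_cast
      linear_combination (1 / 24 : ℂ) * hcm'
    obtain ⟨h1, h2⟩ := ω_indep this
    constructor <;> omega
  obtain ⟨n5, hn5def⟩ : ∃ n, n = Nat.card {q : G × G // IsConj u q.1 ∧ IsConj t q.2 ∧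
      q.1 * q.2 = T.y5} := ⟨_, rfl⟩
  have hcm5 := T.cm5 u t hr5 hr5t
  rw [← hn5def, ← hkdef, ← hk'def, hva, hvb, hvc, hve, ta, tb, tc1, tc2] at hcm5
  have hcm5' := cm_scale2 _ _ _ _ _ _ hcm5 hkcC hkcC'
  have hcm5z : (n5 : ℤ) * (C : ℤ) = 5 * (21 + 7 * xa + xb - 3 * (xc + xe)) ∧
      7 * ya + yb - 3 * (yc + ye) = 0 := by
    have : ((((n5 : ℤ) * (C : ℤ) - 5 * (21 + 7 * xa + xb - 3 * (xc + xe))) : ℤ) : ℂ) +
        (((-5 * (7 * ya + yb - 3 * (yc + ye))) : ℤ) : ℂ) * ω = 0 := by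
      push_cast
      linear_combination (1 / 24 : ℂ) * hcm5'
    obtain ⟨h1, h2⟩ := ω_indep this
    constructor <;> omega
  exact order3_arith aa ba ca ad bd cd ac bc cc ae be ce ha hd hc he
    xa ya xd yd xc yc xe ye xs ys xb yb xf yf hxa hya hxd hyd hxc hyc hxe hye
    hrel7.1 hrel7.2 hrel5.1 hrel5.2 hcolz.1 hcolz.2 C n7 n5 ι hι hC hCd hC9
    (by linarith) hS1 hcm7z.1 hcm7z.2 hcm5z.1 hcm5z.2

end Cfsg.Agent.Lib.Helper6.OrdT
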