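import Mathlib
import Cfsg.Agent.Lib.Helper3.SylowCount

/-!
# General lemmas on Sylow subgroups: transfer, fixed points, normalizers
-/

set_option autoImplicit false

namespace Cfsg.Agent.Lib.Helper6.OrdT

section general

variable {G : Type*} [Group G]

open scoped IsMulCommutative in
/-- **A consequence of the transfer**: in a perfect group, an element of a commutative Sylow
subgroup `P` that is central in the normalizer of `P` is trivial. -/
theorem eq_one_of_central_normalizer [Finite G] {p : ℕ} [Fact p.Prime] (P : Sylow p G)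
    [IsMulCommutative P] (hperf : commutator G = ⊤) {a : G} (haP : a ∈ (P : Subgroup G))
    (hc : ∀ g ∈ Subgroup.normalizer ((P : Subgroup G) : Set G), g * a = a * g) : a = 1 := by
  have key : ∀ (k : ℕ) (g₀ : G), g₀⁻¹ * a ^ k * g₀ ∈ (P : Subgroup G) →
      g₀⁻¹ * a ^ k * g₀ = a ^ k := by
    intro k g₀ h
    obtain ⟨n, hn, h'⟩ := P.conj_eq_normalizer_conj_of_mem (a ^ k) g₀ (pow_mem haP k) h
    rw [h']
    have hcomm : n * a ^ k = a ^ k * n := ((show Commute n a from hc n hn).pow_right k).eq
    calc n⁻¹ * a ^ k * n = n⁻¹ * (a ^ k * n) := by group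
      _ = n⁻¹ * (n * a ^ k) := by rw [hcomm]
      _ = a ^ k := by group
  have h1 := MonoidHom.transfer_eq_pow (MonoidHom.id (P : Subgroup G)) a key
  have h2 : MonoidHom.transfer (MonoidHom.id (P : Subgroup G)) a = 1 := by
    have : a ∈ commutator G := by rw [hperf]; trivial
    exact Abelianization.commutator_subset_ker _ this
  rw [h2] at h1
  have h3 : a ^ (P : Subgroup G).index = 1 := by
    have := congrArg Subtype.val h1
    simpa using this.symm
  have h4 : orderOf a ∣ (P : Subgroup G).index := orderOf_dvd_of_pow_eq_one h3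
  have h5 : orderOf a ∣ Nat.card P := Subgroup.orderOf_dvd_natCard _ haP
  have hcop : Nat.Coprime (Nat.card P) (P : Subgroup G).index := P.card_coprime_index
  have : orderOf a = 1 := Nat.eq_one_of_dvd_coprimes hcop h5 h4
  exact orderOf_eq_one_iff.1 this

/-- an element `y` with `y ^ p = 1` normalizing a finite subgroup `Q` whose order is not `1`
modulo `p` commutes with a non-trivial element of `Q` -/
theorem exists_fixed_of_normalizes (p : ℕ) [hp : Fact p.Prime] (y : G) (hy : y ^ p = 1)
    (Q : Subgroup G) [Finite Q] (hQ : ¬ Nat.card Q ≡ 1 [MOD p])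
    (hn : ∀ x ∈ Q, y * x * y⁻¹ ∈ Q) : ∃ v ∈ Q, v ≠ 1 ∧ y * v = v * y := by
  classical
  have : Fintype Q := Fintype.ofFinite Q
  let f : Function.End Q := fun x => ⟨y * x * y⁻¹, hn x x.2⟩
  have hpow : ∀ k : ℕ, ∀ x : Q, (((f ^ k) x : Q) : G) = y ^ k * x * (y ^ k)⁻¹ := by
    intro k
    induction k with
    | zero =>
      intro x
      rw [pow_zero, pow_zero, one_mul, inv_one, mul_one]
      rfl
    | succ k ih =>
      intro x
      rw [pow_succ]
      show (((f ^ k) (f x) : Q) : G) = _
      rw [ih]
      show y ^ k * (y * x * y⁻¹) * (y ^ k)⁻¹ = _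
      rw [pow_succ]; group
  have hf : f ^ p ^ 1 = 1 := by
    rw [pow_one]
    funext x
    show (f ^ p) x = x
    apply Subtype.ext
    rw [hpow, hy, one_mul, inv_one, mul_one]
  have hmod := Equiv.Perm.card_fixedPoints_modEq (f := f) hf
  by_contra hcon
  push Not at hcon
  apply hQ
  rw [Nat.card_eq_fintype_card]
  refine hmod.trans ?_
  have : Fintype.card (Function.fixedPoints f) = 1 := by
    rw [Fintype.card_eq_one_iff]
    refine ⟨⟨1, ?_⟩, ?_⟩
    · show f 1 = 1
      apply Subtype.ext
      show y * ((1 : Q) : G) * y⁻¹ = ((1 : Q) : G)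
      simp
    · rintro ⟨v, hv⟩
      apply Subtype.ext
      show v = 1
      by_contra hv1
      have hv' : f v = v := hv
      have h1 : y * (v : G) * y⁻¹ = (v : G) := congrArg Subtype.val hv'
      have h2 : y * (v : G) = (v : G) * y := by
        calc y * (v : G) = y * (v : G) * y⁻¹ * y := by group
          _ = (v : G) * y := by rw [h1]
      have h3 := hcon (v : G) v.2 (fun h => hv1 (Subtype.ext h))
      exact h3 h2
  rw [this]

/-- a `p`-element of the normalizer of a Sylow `p`-subgroup lies in the Sylow subgroup -/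
theorem mem_sylow_of_mem_normalizer {p : ℕ} [Fact p.Prime] (P : Sylow p G) {g : G}
    (hg : g ∈ Subgroup.normalizer ((P : Subgroup G) : Set G)) {k : ℕ} (hgk : g ^ p ^ k = 1) :
    g ∈ (P : Subgroup G) := by
  have hz : IsPGroup p (Subgroup.zpowers g) := by
    intro x
    obtain ⟨i, hi⟩ := Subgroup.mem_zpowers_iff.1 x.2
    refine ⟨k, ?_⟩
    apply Subtype.ext
    rw [Subgroup.coe_pow, ← hi, ← zpow_natCast, ← zpow_mul, mul_comm, zpow_mul, zpow_natCast, hgk,
      one_zpow]
    rfl
  have hle : Subgroup.zpowers g ≤ Subgroup.normalizer ((P : Subgroup G) : Set G) :=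
    Subgroup.zpowers_le.2 hg
  have hsup := IsPGroup.to_sup_of_normal_left' P.2 hz hle
  have := P.is_maximal' hsup le_sup_left
  rw [← this]
  exact (le_sup_right : Subgroup.zpowers g ≤ _) (Subgroup.mem_zpowers g)

end general

/-- in a group of order `36`, a Sylow `3`-subgroup normalized by an involution is normal -/
theorem normal_of_card36 {H : Type*} [Group H] [Finite H] (hH : Nat.card H = 36) (P : Sylow 3 H)
    {r : H} (hr : orderOf r = 2) (hrP : r ∈ Subgroup.normalizer ((P : Subgroup H) : Set H)) :
    (P : Subgroup H).Normal := by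
  have hp3 : Fact (Nat.Prime 3) := ⟨by norm_num⟩
  have hPc : Nat.card P = 9 := by
    have := Cfsg.Agent.Lib.Helper3.sylow_card_eq_of_card_eq P 2 4 (by rw [hH]; norm_num)
      (by norm_num)
    rw [this]; norm_num
  have h9 : 9 ∣ Nat.card (Subgroup.normalizer ((P : Subgroup H) : Set H)) := by
    have := Subgroup.card_dvd_of_le (Subgroup.le_normalizer (H := (P : Subgroup H)))
    rw [hPc] at this
    exact this
  have h2 : 2 ∣ Nat.card (Subgroup.normalizer ((P : Subgroup H) : Set H)) := by
    rw [← hr]
    exact Subgroup.orderOf_dvd_natCard _ hrP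
  have hmul := Subgroup.card_mul_index (Subgroup.normalizer ((P : Subgroup H) : Set H))
  have hnorm : Nat.card (Sylow 3 H) =
      (Subgroup.normalizer ((P : Subgroup H) : Set H)).index := Sylow.card_eq_index_normalizer P
  rw [hH, ← hnorm] at hmul
  have hmod := card_sylow_modEq_one 3 H
  unfold Nat.ModEq at hmod
  have hone : Nat.card (Sylow 3 H) = 1 := by
    obtain ⟨a, ha⟩ := h9
    obtain ⟨b, hb⟩ := h2
    have hpos : 0 < Nat.card (Sylow 3 H) := Nat.card_pos
    have hle : Nat.card (Sylow 3 H) ≤ 2 := by
      by_contra hgt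
      push Not at hgt
      have h18 : 18 ≤ Nat.card (Subgroup.normalizer ((P : Subgroup H) : Set H)) := by
        have : 0 < Nat.card (Subgroup.normalizer ((P : Subgroup H) : Set H)) := Nat.card_pos
        omega
      have : 18 * 3 ≤ Nat.card (Subgroup.normalizer ((P : Subgroup H) : Set H)) *
          Nat.card (Sylow 3 H) := Nat.mul_le_mul h18 hgt
      omega
    interval_cases h : Nat.card (Sylow 3 H) <;> omega
  exact Cfsg.Agent.Lib.Helper3.sylow_normal_of_card_eq_one P hone

end Cfsg.Agent.Lib.Helper6.OrdT
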