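import Mathlib
import Cfsg.Agent.Lib.Helper6.OrdT12
import Cfsg.Agent.Lib.Helper6.OrdT13

/-!
# Simple groups of order `2520`: the normalizer of a Sylow `3`-subgroup
-/

set_option autoImplicit false
set_option maxHeartbeats 1600000
set_option maxRecDepth 1000000

namespace Cfsg.Agent.Lib.Helper6.OrdT

open Cfsg Cfsg.Agent.Lib.Helper8 Cfsg.Agent.Lib.Helper6.OrdB Cfsg.Agent.Lib.Helper6.OrdD
  Cfsg.Agent.Lib.Helper6.OrdK Cfsg.Agent.Lib.Helper6.OrdH Cfsg.Agent.Lib.Helper6.OrdL
  Cfsg.Agent.Lib.Helper6.OrdG Cfsg.Agent.Lib.Helper6.OrdQ Cfsg.Agent.Lib.Helper1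
open scoped ComplexConjugate

universe u

theorem divisors_72_mod3 : ∀ n ∈ Nat.divisors 72, 9 ∣ n → (2520 / n) % 3 = 1 → n = 9 ∨ n = 36 := by
  decide

theorem divisors_36 : ∀ o ∈ Nat.divisors 36, o = 1 ∨ o = 3 ∨ o = 9 ∨ o = 2 ∨ o = 4 ∨
    o = 6 * 1 ∨ o = 6 * 2 ∨ o = 6 * 3 ∨ o = 6 * 6 := by
  decide

variable {G : Type u} [Group G] [Fintype G] [Fintype (IrrCharacter G)]

/-- the primes `5` and `7` do not divide the order of the normalizer of a Sylow `3`-subgroup -/
theorem not_dvd_card_normalizer3 (hn : Nat.card G = 2520) (T : Tab G) (P : Sylow 3 G) {p : ℕ}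
    (hp : p = 5 ∨ p = 7) :
    ¬ p ∣ Nat.card (Subgroup.normalizer ((P : Subgroup G) : Set G)) := by
  intro hdvd
  have hpp : Fact p.Prime := by rcases hp with rfl | rfl <;> exact ⟨by norm_num⟩
  obtain ⟨y, hy⟩ := exists_prime_orderOf_dvd_card'
    (G := Subgroup.normalizer ((P : Subgroup G) : Set G)) p hdvd
  have hy' : orderOf (y : G) = p := by rw [Subgroup.orderOf_coe]; exact hy
  have hyp : (y : G) ^ p = 1 := by rw [← hy']; exact pow_orderOf_eq_one _
  have hPc := sylow3_card hn P
  obtain ⟨v, hvP, hv1, hcomm⟩ := exists_fixed_of_normalizes p (y : G) hyp (P : Subgroup G) (by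
      rw [hPc]; rcases hp with rfl | rfl <;> decide)
      (fun x hx => (Subgroup.mem_normalizer_iff.1 y.2 x).1 hx)
  have hvo : orderOf v ∣ 9 := by
    have := (P : Subgroup G).orderOf_dvd_natCard hvP
    rwa [hPc] at this
  have hnp : ¬ p ∣ orderOf v := by
    intro h
    have := dvd_trans h hvo
    rcases hp with rfl | rfl <;> norm_num at this
  have hyC : (y : G) ∈ Subgroup.centralizer ({v} : Set G) := by
    rw [Subgroup.mem_centralizer_singleton_iff]
    exact hcomm
  have hpC : p ∣ Nat.card (Subgroup.centralizer ({v} : Set G)) := by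
    rw [← hy']; exact Subgroup.orderOf_dvd_natCard _ hyC
  rcases hp with rfl | rfl
  · exact T.reg5 v hv1 hnp hpC
  · exact T.reg7 v hv1 hnp hpC

/-- **The normalizer of a Sylow `3`-subgroup** has order `36`. -/
theorem card_normalizer3 (hperf : commutator G = ⊤) (hn : Nat.card G = 2520) (T : Tab G)
    (P : Sylow 3 G) : Nat.card (Subgroup.normalizer ((P : Subgroup G) : Set G)) = 36 := by
  have hp3 : Fact (Nat.Prime 3) := ⟨by norm_num⟩
  have hPc := sylow3_card hn P
  obtain ⟨N, hNdef⟩ : ∃ N, N = Nat.card (Subgroup.normalizer ((P : Subgroup G) : Set G)) :=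
    ⟨_, rfl⟩
  have hNdvd : N ∣ 2520 := by rw [hNdef, ← hn]; exact Subgroup.card_subgroup_dvd_card _
  have h5 : ¬ 5 ∣ N := hNdef ▸ not_dvd_card_normalizer3 hn T P (Or.inl rfl)
  have h7 : ¬ 7 ∣ N := hNdef ▸ not_dvd_card_normalizer3 hn T P (Or.inr rfl)
  have h72 : N ∣ 72 := divisors_2520 N (Nat.mem_divisors.2 ⟨hNdvd, by norm_num⟩) h5 h7
  have h9 : 9 ∣ N := by
    rw [hNdef, ← hPc]
    exact Subgroup.card_dvd_of_le Subgroup.le_normalizer
  have hnorm : Nat.card (Sylow 3 G) =
      (Subgroup.normalizer ((P : Subgroup G) : Set G)).index := Sylow.card_eq_index_normalizer P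
  have hmul := Subgroup.card_mul_index (Subgroup.normalizer ((P : Subgroup G) : Set G))
  rw [← hnorm, hn, ← hNdef] at hmul
  have hmod := card_sylow_modEq_one 3 G
  unfold Nat.ModEq at hmod
  have hNpos : 0 < N := Nat.pos_of_dvd_of_pos h72 (by norm_num)
  have hcases : N = 9 ∨ N = 36 := by
    apply divisors_72_mod3 N (Nat.mem_divisors.2 ⟨h72, by norm_num⟩) h9
    have : Nat.card (Sylow 3 G) = 2520 / N := by
      rw [← hmul]
      exact (Nat.mul_div_cancel_left _ hNpos).symm
    rw [← this]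
    exact hmod
  rw [← hNdef]
  rcases hcases with h | h
  · exfalso
    have hNP : Subgroup.normalizer ((P : Subgroup G) : Set G) = (P : Subgroup G) :=
      (Subgroup.eq_of_le_of_card_ge Subgroup.le_normalizer (by rw [← hNdef, h, hPc])).symm
    have : IsMulCommutative P := ⟨⟨fun a b => Subtype.ext (sylow3_comm hn P a.2 b.2)⟩⟩
    obtain ⟨v, hv⟩ := exists_prime_orderOf_dvd_card' (G := (P : Subgroup G)) 3
      (by rw [hPc]; norm_num)
    have hv1 : (v : G) = 1 := eq_one_of_central_normalizer P hperf v.2 (by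
      intro g hg
      rw [hNP] at hg
      exact sylow3_comm hn P hg v.2)
    rw [← Subgroup.orderOf_coe, hv1, orderOf_one] at hv
    norm_num at hv
  · exact h

/-- an involution of the normalizer of a Sylow `3`-subgroup `P` acts on `P` without fixed
points -/
theorem no_fixed3 (hperf : commutator G = ⊤) (hn : Nat.card G = 2520) (T : Tab G)
    (P : Sylow 3 G) {r w : G} (hr : orderOf r = 2)
    (hrN : r ∈ Subgroup.normalizer ((P : Subgroup G) : Set G)) (hw : w ∈ (P : Subgroup G))
    (hw1 : w ≠ 1) (hc : r * w = w * r) : False := by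
  have hp3 : Fact (Nat.Prime 3) := ⟨by norm_num⟩
  have hPc := sylow3_card hn P
  obtain ⟨w', hw'P, hw'o, hc'⟩ : ∃ w' ∈ (P : Subgroup G), orderOf w' = 3 ∧ r * w' = w' * r := by
    have hdvd : orderOf w ∣ 9 := by
      have := (P : Subgroup G).orderOf_dvd_natCard hw
      rwa [hPc] at this
    have hne1 : orderOf w ≠ 1 := fun h => hw1 (orderOf_eq_one_iff.1 h)
    have hle : orderOf w ≤ 9 := Nat.le_of_dvd (by norm_num) hdvd
    have hpos : 0 < orderOf w := Nat.pos_of_dvd_of_pos hdvd (by norm_num)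
    have hcases : orderOf w = 3 ∨ orderOf w = 9 := by
      interval_cases h : orderOf w <;> omega
    rcases hcases with h | h
    · exact ⟨w, hw, h, hc⟩
    · refine ⟨w ^ 3, pow_mem hw 3, ?_, ?_⟩
      · rw [orderOf_pow' w (by norm_num), h]
        norm_num
      · exact ((show Commute r w from hc).pow_right 3).eq
  have hcard := order3_card hperf hn T hw'o hr
  have hrM : r ∈ Subgroup.centralizer ({w'} : Set G) := by
    rw [Subgroup.mem_centralizer_singleton_iff]
    exact hc'
  have h2 : 2 ∣ Nat.card (Subgroup.centralizer ({w'} : Set G)) := by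
    rw [← hr]
    exact Subgroup.orderOf_dvd_natCard _ hrM
  have hM : Nat.card (Subgroup.centralizer ({w'} : Set G)) = 36 := by
    rcases hcard with h | h
    · rw [h] at h2
      norm_num at h2
    · exact h
  have hle : (P : Subgroup G) ≤ Subgroup.centralizer ({w'} : Set G) := by
    intro g hg
    rw [Subgroup.mem_centralizer_singleton_iff]
    exact sylow3_comm hn P hg hw'P
  have hr' : orderOf (⟨r, hrM⟩ : Subgroup.centralizer ({w'} : Set G)) = 2 := by
    rw [Subgroup.orderOf_mk]
    exact hr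
  have hrP' : (⟨r, hrM⟩ : Subgroup.centralizer ({w'} : Set G)) ∈
      Subgroup.normalizer (((P.subtype hle : Sylow 3 (Subgroup.centralizer ({w'} : Set G))) :
        Subgroup (Subgroup.centralizer ({w'} : Set G))) :
        Set (Subgroup.centralizer ({w'} : Set G))) := by
    rw [Subgroup.mem_normalizer_iff]
    intro h
    rw [Sylow.coe_subtype, Subgroup.mem_subgroupOf, Subgroup.mem_subgroupOf]
    exact (Subgroup.mem_normalizer_iff.1 hrN (h : G))
  have hnormal := normal_of_card36 hM (P.subtype hle) hr' hrP'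
  rw [Sylow.coe_subtype] at hnormal
  have hMN := (Subgroup.normal_subgroupOf_iff_le_normalizer hle).mp hnormal
  have hN := card_normalizer3 hperf hn T P
  have hMeq : Subgroup.centralizer ({w'} : Set G) =
      Subgroup.normalizer ((P : Subgroup G) : Set G) :=
    Subgroup.eq_of_le_of_card_ge hMN (by rw [hM, hN])
  have : IsMulCommutative P := ⟨⟨fun a b => Subtype.ext (sylow3_comm hn P a.2 b.2)⟩⟩
  have hw'1 : w' = 1 := eq_one_of_central_normalizer P hperf hw'P (by
    intro g hg
    rw [← hMeq, Subgroup.mem_centralizer_singleton_iff] at hg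
    exact hg)
  rw [hw'1, orderOf_one] at hw'o
  norm_num at hw'o

/-- an involution of the normalizer of a Sylow `3`-subgroup `P` inverts `P` -/
theorem inverts3 (hperf : commutator G = ⊤) (hn : Nat.card G = 2520) (T : Tab G)
    (P : Sylow 3 G) {r x : G} (hr : orderOf r = 2)
    (hrN : r ∈ Subgroup.normalizer ((P : Subgroup G) : Set G)) (hx : x ∈ (P : Subgroup G)) :
    r * x * r⁻¹ = x⁻¹ := by
  have hrr : r * r = 1 := by rw [← pow_two, ← hr]; exact pow_orderOf_eq_one r
  have hrinv : r⁻¹ = r := inv_eq_of_mul_eq_one_left hrr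
  have hx' : r * x * r⁻¹ ∈ (P : Subgroup G) := (Subgroup.mem_normalizer_iff.1 hrN x).1 hx
  by_contra hne
  apply no_fixed3 hperf hn T P hr hrN (mul_mem hx hx') (w := x * (r * x * r⁻¹))
  · intro h
    exact hne (eq_inv_of_mul_eq_one_right h)
  · have hcomm := sylow3_comm hn P hx hx'
    rw [hrinv] at hcomm ⊢
    calc r * (x * (r * x * r)) = ((r * x * r) * x) * r := by group
      _ = (x * (r * x * r)) * r := by rw [← hcomm]

/-- the elements of the normalizer of a Sylow `3`-subgroup `P` outside `P` have order `2`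
or `4` -/
theorem orderOf_of_mem_normalizer3 (hperf : commutator G = ⊤) (hn : Nat.card G = 2520)
    (T : Tab G) (P : Sylow 3 G) {g : G}
    (hg : g ∈ Subgroup.normalizer ((P : Subgroup G) : Set G)) (hgP : g ∉ (P : Subgroup G)) :
    orderOf g = 2 ∨ orderOf g = 4 := by
  have hp3 : Fact (Nat.Prime 3) := ⟨by norm_num⟩
  have hN := card_normalizer3 hperf hn T P
  have hdvd : orderOf g ∣ 36 := by
    rw [← hN]
    exact Subgroup.orderOf_dvd_natCard _ hg
  have h3 : ∀ k : ℕ, g ^ 3 ^ k = 1 → False := fun k hk =>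
    hgP (mem_sylow_of_mem_normalizer P hg hk)
  have h6 : ∀ m : ℕ, orderOf g = 6 * m → False := by
    intro m hm
    have ho0 : orderOf g ≠ 0 := by
      intro h
      rw [h] at hdvd
      norm_num at hdvd
    have hw : orderOf (g ^ (orderOf g / 3)) = 3 :=
      orderOf_pow_orderOf_div ho0 (by rw [hm]; exact ⟨2 * m, by ring⟩)
    have hr : orderOf (g ^ (orderOf g / 2)) = 2 :=
      orderOf_pow_orderOf_div ho0 (by rw [hm]; exact ⟨3 * m, by ring⟩)
    have hwN : g ^ (orderOf g / 3) ∈ Subgroup.normalizer ((P : Subgroup G) : Set G) :=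
      pow_mem hg _
    have hw3 : (g ^ (orderOf g / 3)) ^ 3 ^ 1 = 1 := by
      have := pow_orderOf_eq_one (g ^ (orderOf g / 3))
      rw [hw] at this
      rw [pow_one]
      exact this
    have hwP : g ^ (orderOf g / 3) ∈ (P : Subgroup G) :=
      mem_sylow_of_mem_normalizer P hwN hw3
    refine no_fixed3 hperf hn T P hr (pow_mem hg _) hwP ?_ ?_
    · intro h
      rw [h, orderOf_one] at hw
      norm_num at hw
    · have hcc : Commute (g ^ (orderOf g / 2)) (g ^ (orderOf g / 3)) :=
        Commute.pow_pow_self g _ _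
      exact hcc.eq
  rcases divisors_36 _ (Nat.mem_divisors.2 ⟨hdvd, by norm_num⟩) with
    h | h | h | h | h | h | h | h | h
  · exfalso
    apply h3 0
    rw [pow_zero, ← h]
    exact pow_orderOf_eq_one g
  · exfalso
    apply h3 1
    rw [pow_one, ← h]
    exact pow_orderOf_eq_one g
  · exfalso
    apply h3 2
    have : (3 : ℕ) ^ 2 = 9 := by norm_num
    rw [this, ← h]
    exact pow_orderOf_eq_one g
  · left; exact h
  · right; exact h
  · exact (h6 _ h).elim
  · exact (h6 _ h).elim
  · exact (h6 _ h).elim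
  · exact (h6 _ h).elim

/-- the normalizer of a Sylow `3`-subgroup contains an element of order `4` -/
theorem exists_order4_normalizer3 (hperf : commutator G = ⊤) (hn : Nat.card G = 2520)
    (T : Tab G) (P : Sylow 3 G) :
    ∃ u ∈ Subgroup.normalizer ((P : Subgroup G) : Set G), orderOf u = 4 := by
  have hp3 : Fact (Nat.Prime 3) := ⟨by norm_num⟩
  have hp2 : Fact (Nat.Prime 2) := ⟨by norm_num⟩
  have hN := card_normalizer3 hperf hn T P
  obtain ⟨K, hK⟩ := Sylow.exists_subgroup_card_pow_prime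
    (G := ↥(Subgroup.normalizer ((P : Subgroup G) : Set G))) 2 (n := 2) (by rw [hN]; norm_num)
  by_contra hcon
  push Not at hcon
  have hinv : ∀ k : ↥(Subgroup.normalizer ((P : Subgroup G) : Set G)), k ∈ K → k ≠ 1 →
      orderOf (k : G) = 2 := by
    intro k hk hk1
    have hd : orderOf k ∣ 4 := by
      have := K.orderOf_dvd_natCard hk
      rwa [hK] at this
    rw [Subgroup.orderOf_coe]
    have h1 : orderOf k ≠ 1 := fun h => hk1 (orderOf_eq_one_iff.1 h)
    have h4 : orderOf k ≠ 4 := by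
      intro h
      exact hcon (k : G) k.2 (by rw [Subgroup.orderOf_coe]; exact h)
    have hle : orderOf k ≤ 4 := Nat.le_of_dvd (by norm_num) hd
    have hpos : 0 < orderOf k := Nat.pos_of_dvd_of_pos hd (by norm_num)
    interval_cases h : orderOf k <;> omega
  obtain ⟨r1, hr1K, hr11⟩ : ∃ r1 ∈ K, r1 ≠ 1 := by
    by_contra h
    push Not at h
    have : K = ⊥ := (Subgroup.eq_bot_iff_forall _).2 h
    rw [this, Subgroup.card_bot] at hK
    norm_num at hK
  obtain ⟨r2, hr2K, hr2⟩ : ∃ r2 ∈ K, r2 ∉ Subgroup.zpowers r1 := by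
    by_contra h
    push Not at h
    have hle : K ≤ Subgroup.zpowers r1 := h
    have := Subgroup.card_le_of_le hle
    rw [hK, Nat.card_zpowers, ← Subgroup.orderOf_coe, hinv r1 hr1K hr11] at this
    norm_num at this
  have hr21 : r2 ≠ 1 := fun h => hr2 (h ▸ one_mem _)
  have hr12 : r1 * r2 ≠ 1 := by
    intro h
    apply hr2
    have : r2 = r1⁻¹ := eq_inv_of_mul_eq_one_right h
    rw [this]
    exact inv_mem (Subgroup.mem_zpowers r1)
  have ho1 := hinv r1 hr1K hr11
  have ho2 := hinv r2 hr2K hr21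
  have ho3 := hinv (r1 * r2) (mul_mem hr1K hr2K) hr12
  obtain ⟨v, hv⟩ := exists_prime_orderOf_dvd_card' (G := (P : Subgroup G)) 3
    (by rw [sylow3_card hn P]; norm_num)
  have hv1 : (v : G) ≠ 1 := by
    intro h
    rw [← Subgroup.orderOf_coe, h, orderOf_one] at hv
    norm_num at hv
  have e1 := inverts3 hperf hn T P ho1 r1.2 v.2
  have e2 := inverts3 hperf hn T P ho2 r2.2 v.2
  apply no_fixed3 hperf hn T P ho3 (r1 * r2).2 v.2 hv1
  rw [Subgroup.coe_mul]
  calc (r1 : G) * (r2 : G) * (v : G)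
      = (r1 : G) * ((r2 : G) * (v : G) * (r2 : G)⁻¹) * (r1 : G)⁻¹ * ((r1 : G) * (r2 : G)) := by
        group
    _ = (r1 : G) * (v : G)⁻¹ * (r1 : G)⁻¹ * ((r1 : G) * (r2 : G)) := by rw [e2]
    _ = ((r1 : G) * (v : G) * (r1 : G)⁻¹)⁻¹ * ((r1 : G) * (r2 : G)) := by group
    _ = (v : G) * ((r1 : G) * (r2 : G)) := by rw [e1, inv_inv]

end Cfsg.Agent.Lib.Helper6.OrdT
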