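import Mathlib
import Cfsg.Agent.Lib.Helper6.OrdT10
import Cfsg.Agent.Lib.Helper6.OrdT14
import Cfsg.Agent.Lib.Helper6.OrdS2
import Cfsg.Agent.Lib.Helper6.OrdS3
import Cfsg.Agent.Lib.Helper4.Characters

/-!
# Simple groups of order `2520`: a subgroup of index `7`
-/

set_option autoImplicit false
set_option maxHeartbeats 1600000
set_option maxRecDepth 1000000

namespace Cfsg.Agent.Lib.Helper6.OrdT

open Cfsg Cfsg.Agent.Lib.Helper8 Cfsg.Agent.Lib.Helper6.OrdB Cfsg.Agent.Lib.Helper6.OrdD
  Cfsg.Agent.Lib.Helper6.OrdK Cfsg.Agent.Lib.Helper6.OrdH Cfsg.Agent.Lib.Helper6.OrdL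
  Cfsg.Agent.Lib.Helper6.OrdG Cfsg.Agent.Lib.Helper6.OrdQ Cfsg.Agent.Lib.Helper6.OrdF
  Cfsg.Agent.Lib.Helper6.OrdS
open scoped ComplexConjugate

universe u

theorem divisors_70_mod3 : ∀ m ∈ Nat.divisors 70, m % 3 = 1 → 8 ∣ 36 * m → m ≠ 70 → m = 10 := by
  decide

section linalg

variable {V : Type*} [AddCommGroup V] [Module ℂ V] [FiniteDimensional ℂ V]

/-- the trace of an endomorphism with `F * F = c • F`, `c ≠ 0`, is a multiple of `c` -/
theorem trace_eq_of_mul_self_eq_smul (F : Module.End ℂ V) (c : ℂ) (hc : c ≠ 0)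
    (hF : F * F = c • F) : ∃ k : ℕ, LinearMap.trace ℂ V F = c * (k : ℂ) := by
  have he : IsIdempotentElem (c⁻¹ • F) := by
    show c⁻¹ • F * c⁻¹ • F = c⁻¹ • F
    rw [smul_mul_smul_comm, hF, smul_smul, mul_assoc, inv_mul_cancel₀ hc, mul_one]
  refine ⟨Module.finrank ℂ (LinearMap.range (c⁻¹ • F)), ?_⟩
  have h := ((LinearMap.isProj_range_iff_isIdempotentElem _).2 he).trace
  rw [map_smul, smul_eq_mul] at h
  rw [← h, ← mul_assoc, mul_inv_cancel₀ hc, one_mul]

end linalg

section sums

variable {G : Type*} [Group G] [Fintype G]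

open Classical in
/-- the sum of the values of a character over a subgroup is a natural number -/
theorem sum_character_subgroup {V : Type*} [AddCommGroup V] [Module ℂ V] [FiniteDimensional ℂ V]
    (ρ : Representation ℂ G V) (H : Subgroup G) :
    ∃ k : ℕ, ∑ g ∈ (Finset.univ : Finset G).filter (fun g => g ∈ H), ρ.character g =
      ((Nat.card H * k : ℕ) : ℂ) := by
  have hc : (Nat.card H : ℂ) ≠ 0 := Nat.cast_ne_zero.2 Nat.card_pos.ne'
  obtain ⟨k, hk⟩ := trace_eq_of_mul_self_eq_smul (opSum ρ H) _ hc (opSum_mul_opSum ρ le_rfl)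
  refine ⟨k, ?_⟩
  rw [← trace_opSum, hk]
  push_cast
  rfl

open Classical in
/-- a sum over a cyclic subgroup -/
theorem sum_zpowers {M : Type*} [AddCommMonoid M] (x : G) {n : ℕ} (hn : orderOf x = n)
    (hn0 : 0 < n) (F : G → M) :
    ∑ g ∈ (Finset.univ : Finset G).filter (fun g => g ∈ Subgroup.zpowers x), F g =
      ∑ i ∈ Finset.range n, F (x ^ i) := by
  have himg : (Finset.univ : Finset G).filter (fun g => g ∈ Subgroup.zpowers x) =
      (Finset.range n).image (fun i => x ^ i) := by
    ext g
    simp only [Finset.mem_filter, Finset.mem_univ, true_and, Finset.mem_image, Finset.mem_range]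
    constructor
    · intro hg
      obtain ⟨k, hk, rfl⟩ := exists_pow_of_mem_zpowers hn hn0 hg
      exact ⟨k, hk, rfl⟩
    · rintro ⟨k, -, rfl⟩
      exact Subgroup.pow_mem _ (Subgroup.mem_zpowers x) k
  rw [himg, Finset.sum_image]
  intro i hi j hj hij
  have hi' : i ∈ Set.Iio (orderOf x) := by
    rw [hn]; exact Finset.mem_range.1 hi
  have hj' : j ∈ Set.Iio (orderOf x) := by
    rw [hn]; exact Finset.mem_range.1 hj
  exact pow_injOn_Iio_orderOf hi' hj' hij

end sums

variable {G : Type u} [Group G] [Fintype G] [IsSimpleGroup G] [Fintype (IrrCharacter G)]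

open Classical in
/-- **A subgroup of order `360`** of a simple group of order `2520`. -/
theorem exists_card360 (hG : ¬ IsMulCommutative G) (hn : Nat.card G = 2520) :
    ∃ L : Subgroup G, Nat.card L = 360 := by
  have h3p : Fact (Nat.Prime 3) := ⟨by norm_num⟩
  have h2p : Fact (Nat.Prime 2) := ⟨by norm_num⟩
  have hperf : commutator G = ⊤ := commutator_eq_top hG
  obtain ⟨T⟩ := exists_tab hG hn
  obtain ⟨P⟩ : Nonempty (Sylow 3 G) := inferInstance
  have hN := card_normalizer3 hperf hn T P
  have hPc := sylow3_card hn P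
  obtain ⟨u, huN, hu⟩ := exists_order4_normalizer3 hperf hn T P
  obtain ⟨s, hs, hsu⟩ := exists_invert4 hperf hn T hu
  obtain ⟨n, ρ, -, hρχ, -⟩ := exists_rep T.a
  have hss : s * s = 1 := by rw [← pow_two, ← hs]; exact pow_orderOf_eq_one s
  have hs1 : s ≠ 1 := by
    rintro rfl
    rw [orderOf_one] at hs
    norm_num at hs
  have hsinv : s⁻¹ = s := inv_eq_of_mul_eq_one_left hss
  have hu4 : u ^ 4 = 1 := by rw [← hu]; exact pow_orderOf_eq_one u
  -- `s` inverts the elements of `⟨u⟩`
  have hsz : ∀ z ∈ Subgroup.zpowers u, s * z * s⁻¹ = z⁻¹ := by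
    intro z hz
    obtain ⟨k, rfl⟩ := Subgroup.mem_zpowers_iff.1 hz
    rw [← conj_zpow, hsu, inv_zpow]
  have hsY : ∀ z ∈ Subgroup.zpowers u, s * z * s⁻¹ ∈ Subgroup.zpowers u := by
    intro z hz
    rw [hsz z hz]
    exact Subgroup.inv_mem _ hz
  have hsnot : s ∉ Subgroup.zpowers u := by
    intro h
    obtain ⟨k, hk⟩ := Subgroup.mem_zpowers_iff.1 h
    have h1 : u ^ k * u * (u ^ k)⁻¹ = u := by group
    rw [hk, hsu] at h1
    have h2 : u ^ 2 = 1 := by
      rw [pow_two]
      nth_rewrite 1 [← h1]
      group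
    have := orderOf_dvd_of_pow_eq_one h2
    rw [hu] at this
    norm_num at this
  -- the values of the character of degree `6`
  have hval2 : ∀ g : G, orderOf g = 2 → T.a.1 g = 2 := fun g hg => (invol_col hperf hn T hg).1
  have hval4 : ∀ g : G, orderOf g = 4 → T.a.1 g = 0 := fun g hg => (order4_col hperf hn T hg).1
  have hval1 : T.a.1 1 = 6 := by rw [apply_one, T.da]; norm_num
  have ho2 : orderOf (u ^ 2) = 2 := by
    rw [orderOf_pow' u (by norm_num), hu]
    norm_num
  have ho3 : orderOf (u ^ 3) = 4 := by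
    rw [orderOf_pow' u (by norm_num), hu]
    norm_num
  have hsz2 : ∀ z ∈ Subgroup.zpowers u, orderOf (s * z) = 2 := by
    intro z hz
    apply orderOf_eq_prime
    · have := hsz z hz
      rw [pow_two]
      calc s * z * (s * z) = (s * z * s) * z := by group
        _ = (s * z * s⁻¹) * z := by rw [hsinv]
        _ = 1 := by rw [this]; group
    · intro h
      apply hsnot
      have : s = z⁻¹ := eq_inv_of_mul_eq_one_left h
      rw [this]
      exact Subgroup.inv_mem _ hz
  -- the first trace condition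
  have h1 : ∑ g ∈ (Finset.univ : Finset G).filter (fun g => g ∈ Subgroup.zpowers u),
      ρ.character g =
      ∑ g ∈ (Finset.univ : Finset G).filter (fun g => g ∈ Subgroup.zpowers u),
        ρ.character (s * g) := by
    rw [hρχ, sum_zpowers u hu (by norm_num), sum_zpowers u hu (by norm_num)]
    simp only [Finset.sum_range_succ, Finset.sum_range_zero, zero_add, pow_zero, pow_one]
    rw [hval1, hval4 u hu, hval2 (u ^ 2) ho2, hval4 (u ^ 3) ho3,
      hval2 (s * 1) (hsz2 1 (one_mem _)), hval2 (s * u) (hsz2 u (Subgroup.mem_zpowers u)),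
      hval2 (s * u ^ 2) (hsz2 _ (Subgroup.pow_mem _ (Subgroup.mem_zpowers u) 2)),
      hval2 (s * u ^ 3) (hsz2 _ (Subgroup.pow_mem _ (Subgroup.mem_zpowers u) 3))]
    norm_num
  -- orthogonality to the trivial character
  have h2 : ∑ g : G, ρ.character g = 0 := by
    rw [hρχ]
    have hne : T.a ≠ trivIrr G := by
      intro h
      have := T.da
      rw [h, charDegree_trivIrr] at this
      norm_num at this
    have := Cfsg.Agent.Lib.Helper4.classInner_irr_ne T.a.2 (trivIrr G).2
      (fun h => hne (Subtype.ext h))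
    unfold classInner at this
    have hG0 : (Nat.card G : ℂ)⁻¹ ≠ 0 := inv_ne_zero (Nat.cast_ne_zero.2 Nat.card_pos.ne')
    rcases mul_eq_zero.1 this with h | h
    · exact absurd h hG0
    · rw [← h]
      refine Finset.sum_congr rfl fun g _ => ?_
      rw [trivIrr_apply, map_one, mul_one]
  -- the fixed points of the normalizer
  have hu2P : u ^ 2 ∉ (P : Subgroup G) := by
    intro h
    have := (P : Subgroup G).orderOf_dvd_natCard h
    rw [ho2, hPc] at this
    norm_num at this
  have h3 : ∑ g ∈ (Finset.univ : Finset G).filter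
      (fun g => g ∈ Subgroup.normalizer ((P : Subgroup G) : Set G)), ρ.character g ≠ 0 := by
    obtain ⟨k, hk⟩ := sum_character_subgroup ρ (P : Subgroup G)
    rw [← Finset.sum_filter_add_sum_filter_not ((Finset.univ : Finset G).filter
      (fun g => g ∈ Subgroup.normalizer ((P : Subgroup G) : Set G)))
      (fun g => g ∈ (P : Subgroup G))]
    have hsub : ((Finset.univ : Finset G).filter
        (fun g => g ∈ Subgroup.normalizer ((P : Subgroup G) : Set G))).filter
        (fun g => g ∈ (P : Subgroup G)) =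
        (Finset.univ : Finset G).filter (fun g => g ∈ (P : Subgroup G)) := by
      ext g
      simp only [Finset.mem_filter, Finset.mem_univ, true_and]
      exact ⟨fun h => h.2, fun h => ⟨Subgroup.le_normalizer h, h⟩⟩
    rw [hsub, hk, hρχ]
    have hF : ∀ g ∈ ((Finset.univ : Finset G).filter
        (fun g => g ∈ Subgroup.normalizer ((P : Subgroup G) : Set G))).filter
        (fun g => ¬ g ∈ (P : Subgroup G)),
        T.a.1 g = (((if orderOf g = 2 then 2 else 0 : ℕ)) : ℂ) := by
      intro g hg
      rw [Finset.mem_filter, Finset.mem_filter] at hg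
      rcases orderOf_of_mem_normalizer3 hperf hn T P hg.1.2 hg.2 with h | h
      · rw [if_pos h, hval2 g h]
        norm_num
      · rw [if_neg (by rw [h]; norm_num), hval4 g h]
        norm_num
    rw [Finset.sum_congr rfl hF, ← Nat.cast_sum, ← Nat.cast_add]
    apply Nat.cast_ne_zero.2
    have hmem : u ^ 2 ∈ ((Finset.univ : Finset G).filter
        (fun g => g ∈ Subgroup.normalizer ((P : Subgroup G) : Set G))).filter
        (fun g => ¬ g ∈ (P : Subgroup G)) := by
      rw [Finset.mem_filter, Finset.mem_filter]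
      exact ⟨⟨Finset.mem_univ _, pow_mem huN 2⟩, hu2P⟩
    have hle := Finset.single_le_sum (f := fun g : G => if orderOf g = 2 then 2 else 0)
      (fun g _ => Nat.zero_le _) hmem
    simp only [if_pos ho2] at hle
    omega
  obtain ⟨L, hBL, hsL, hLtop⟩ := exists_subgroup_of_rep ρ
    (Subgroup.normalizer ((P : Subgroup G) : Set G)) (Subgroup.zpowers u)
    ((Subgroup.zpowers_le).2 huN) s hss hsY h1 h2 h3
  refine ⟨L, ?_⟩
  obtain ⟨m, hm, hLm⟩ := card_of_normalizer_le P L hBL
  rw [hN] at hLm
  have hdvd : Nat.card L ∣ 2520 := by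
    rw [← hn]; exact Subgroup.card_subgroup_dvd_card L
  have hne : Nat.card L ≠ 2520 := by
    intro h
    apply hLtop
    apply Subgroup.eq_top_of_card_eq
    rw [h, hn]
  -- a subgroup of order `8`
  have h8 : 8 ∣ Nat.card L := by
    have hYL : Subgroup.zpowers u ≤ L := le_trans ((Subgroup.zpowers_le).2 huN) hBL
    have hSL : Subgroup.zpowers s ≤ L := (Subgroup.zpowers_le).2 hsL
    have hpY : IsPGroup 2 (Subgroup.zpowers u) :=
      IsPGroup.of_card (n := 2) (by rw [Nat.card_zpowers, hu]; norm_num)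
    have hpS : IsPGroup 2 (Subgroup.zpowers s) :=
      IsPGroup.of_card (n := 1) (by rw [Nat.card_zpowers, hs]; norm_num)
    have hnorm : Subgroup.zpowers s ≤
        Subgroup.normalizer ((Subgroup.zpowers u : Subgroup G) : Set G) := by
      rw [Subgroup.zpowers_le, Subgroup.mem_normalizer_iff]
      intro z
      constructor
      · exact hsY z
      · intro hz
        have h := hsY _ hz
        have e : s * (s * z * s⁻¹) * s⁻¹ = z := by
          rw [hsinv]
          calc s * (s * z * s) * s = (s * s) * z * (s * s) := by group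
            _ = z := by rw [hss]; group
        rw [e] at h
        exact h
    have hD := IsPGroup.to_sup_of_normal_left' hpY hpS hnorm
    obtain ⟨k, hk⟩ := (IsPGroup.iff_card).1 hD
    have hYD : Subgroup.zpowers u ≤ Subgroup.zpowers u ⊔ Subgroup.zpowers s := le_sup_left
    have h4 : 4 ∣ 2 ^ k := by
      rw [← hk]
      have := Subgroup.card_dvd_of_le hYD
      rwa [Nat.card_zpowers, hu] at this
    have hne4 : 2 ^ k ≠ 4 := by
      intro h
      have : Subgroup.zpowers u = Subgroup.zpowers u ⊔ Subgroup.zpowers s :=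
        Subgroup.eq_of_le_of_card_ge hYD (by rw [hk, h, Nat.card_zpowers, hu])
      apply hsnot
      rw [this]
      exact (le_sup_right : Subgroup.zpowers s ≤ _) (Subgroup.mem_zpowers s)
    have hk3 : 3 ≤ k := by
      by_contra hlt
      push Not at hlt
      interval_cases k
      · norm_num at h4
      · norm_num at h4
      · norm_num at hne4
    have h8' : 8 ∣ 2 ^ k := by
      obtain ⟨j, rfl⟩ := Nat.exists_eq_add_of_le hk3
      rw [pow_add]
      exact ⟨2 ^ j, by norm_num⟩
    rw [← hk] at h8'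
    exact dvd_trans h8' (Subgroup.card_dvd_of_le (sup_le hYL hSL))
  rw [hLm] at hdvd h8 hne ⊢
  have hm70 : m ∣ 70 := by
    have : 36 * m ∣ 36 * 70 := by norm_num at hdvd ⊢; exact hdvd
    exact Nat.dvd_of_mul_dvd_mul_left (by norm_num) this
  have hmm : m % 3 = 1 := hm
  have := divisors_70_mod3 m (Nat.mem_divisors.2 ⟨hm70, by norm_num⟩) hmm h8
    (by intro h; apply hne; rw [h])
  rw [this]

end Cfsg.Agent.Lib.Helper6.OrdT
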