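import Mathlib

set_option autoImplicit false

/-! # Matrices over `ZMod p` with rows packed into natural numbers

A row of `n` entries below `p` is packed into one natural number in base `X = 65536`; the product
of a row by a matrix is then a sum of `n` products of a small number by a packed row, and no carry
occurs as long as `n * p * p ≤ X`.  This makes products of matrices cheap for the kernel. -/

namespace Cfsg.Agent.Lib.Helper6.PMat

open Finset

/-- the base of the packing -/
def X : ℕ := 65536

theorem X_pos : 0 < X := by decide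

/-- the digit `j` of `r` in base `X` -/
def dg (r j : ℕ) : ℕ := r / X ^ j % X

theorem dg_zero (r : ℕ) : dg r 0 = r % X := by simp [dg]

theorem dg_succ (r j : ℕ) : dg r (j + 1) = dg (r / X) j := by
  unfold dg
  rw [pow_succ, mul_comm, Nat.div_div_eq_div_mul]

theorem dg_lt (r j : ℕ) : dg r j < X := Nat.mod_lt _ X_pos

/-- the expansion of a number in base `X` -/
theorem eq_sum_dg : ∀ (m r : ℕ), r < X ^ m → r = ∑ j ∈ range m, dg r j * X ^ j := by
  intro m
  induction m with
  | zero => intro r hr; simp at hr; simp [hr]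
  | succ m ih =>
    intro r hr
    have h1 : r / X < X ^ m := by
      apply Nat.div_lt_of_lt_mul
      rwa [pow_succ, mul_comm] at hr
    have h2 := ih (r / X) h1
    rw [Finset.sum_range_succ']
    have h3 : ∑ j ∈ range m, dg r (j + 1) * X ^ (j + 1) = X * ∑ j ∈ range m, dg (r / X) j * X ^ j := by
      rw [Finset.mul_sum]
      apply Finset.sum_congr rfl
      intro j _
      rw [dg_succ, pow_succ]
      ring
    rw [h3, ← h2, dg_zero, pow_zero, mul_one]
    exact (Nat.div_add_mod r X).symm.trans (by ring)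

theorem sum_split (m : ℕ) (c : ℕ → ℕ) :
    ∑ j ∈ range (m + 1), c j * X ^ j = c 0 + X * ∑ j ∈ range m, c (j + 1) * X ^ j := by
  rw [Finset.sum_range_succ', pow_zero, mul_one, Finset.mul_sum, add_comm]
  congr 1
  apply Finset.sum_congr rfl
  intro j _
  rw [pow_succ]
  ring

/-- the digits of a sum of digits times powers -/
theorem dg_sum : ∀ (m : ℕ) (c : ℕ → ℕ), (∀ j < m, c j < X) → ∀ i < m,
    dg (∑ j ∈ range m, c j * X ^ j) i = c i := by
  intro m
  induction m with
  | zero => intro c _ i hi; omega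
  | succ m ih =>
    intro c hc i hi
    rw [sum_split]
    have h0 : c 0 < X := hc 0 (Nat.succ_pos m)
    cases i with
    | zero =>
      rw [dg_zero, Nat.add_mul_mod_self_left, Nat.mod_eq_of_lt h0]
    | succ i =>
      rw [dg_succ, Nat.add_mul_div_left _ _ X_pos, Nat.div_eq_of_lt h0, zero_add]
      exact ih (fun j => c (j + 1)) (fun j hj => hc (j + 1) (by omega)) i (by omega)

theorem sum_lt : ∀ (m : ℕ) (c : ℕ → ℕ), (∀ j < m, c j < X) →
    ∑ j ∈ range m, c j * X ^ j < X ^ m := by
  intro m
  induction m with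
  | zero => intro c _; simp
  | succ m ih =>
    intro c hc
    rw [sum_split]
    have h0 : c 0 < X := hc 0 (Nat.succ_pos m)
    have h1 := ih (fun j => c (j + 1)) (fun j hj => hc (j + 1) (by omega))
    have h2 : X * (∑ j ∈ range m, c (j + 1) * X ^ j + 1) ≤ X * X ^ m :=
      Nat.mul_le_mul_left X h1
    rw [pow_succ, mul_comm (X ^ m) X]
    calc c 0 + X * ∑ j ∈ range m, c (j + 1) * X ^ j
        < X + X * ∑ j ∈ range m, c (j + 1) * X ^ j := by omega
      _ = X * (∑ j ∈ range m, c (j + 1) * X ^ j + 1) := by ring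
      _ ≤ X * X ^ m := h2

/-- the product of the row packed in `r` by the matrix with packed rows `M` (no reduction) -/
def vmN : ℕ → List ℕ → ℕ
  | _, [] => 0
  | r, m :: M => (r % X) * m + vmN (r / X) M

theorem vmN_eq : ∀ (M : List ℕ) (r : ℕ),
    vmN r M = ∑ k ∈ range M.length, dg r k * M.getD k 0 := by
  intro M
  induction M with
  | nil => intro r; simp [vmN]
  | cons m M ih =>
    intro r
    rw [vmN, ih, List.length_cons, Finset.sum_range_succ', dg_zero, add_comm]
    congr 1
    apply Finset.sum_congr rfl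
    intro k _
    rw [dg_succ]
    rfl

/-- reduction of the first `m` digits modulo `p` -/
def redN (p : ℕ) : ℕ → ℕ → ℕ
  | 0, _ => 0
  | m + 1, n => n % X % p + X * redN p m (n / X)

theorem redN_eq (p : ℕ) : ∀ (m n : ℕ),
    redN p m n = ∑ j ∈ range m, (dg n j % p) * X ^ j := by
  intro m
  induction m with
  | zero => intro n; simp [redN]
  | succ m ih =>
    intro n
    rw [redN, ih, sum_split, dg_zero]
    congr 2
    apply Finset.sum_congr rfl
    intro j _
    rw [dg_succ]

/-- the product of packed matrices -/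
def mulM (p n : ℕ) (A B : List ℕ) : List ℕ := A.map fun r => redN p n (vmN r B)

/-- the matrix packed in a list of rows -/
def toMat (p n : ℕ) (A : List ℕ) : Matrix (Fin n) (Fin n) (ZMod p) :=
  Matrix.of fun i j => ((dg (A.getD i 0) j : ℕ) : ZMod p)

/-- well formed packed matrices -/
def Good (p n : ℕ) (A : List ℕ) : Prop :=
  A.length = n ∧ ∀ r ∈ A, r < X ^ n ∧ ∀ j < n, dg r j < p

instance (p n : ℕ) (A : List ℕ) : Decidable (Good p n A) := by
  unfold Good; infer_instance

theorem getD_mulM (p n : ℕ) (A B : List ℕ) (i : ℕ) (hi : i < A.length) :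
    (mulM p n A B).getD i 0 = redN p n (vmN (A.getD i 0) B) := by
  unfold mulM
  rw [List.getD_eq_getElem _ _ (by rwa [List.length_map]), List.getElem_map,
    List.getD_eq_getElem _ _ hi]

theorem dg_redN {p n : ℕ} (hp : 0 < p) (hpX : p ≤ X) (N j : ℕ) (hj : j < n) :
    dg (redN p n N) j = dg N j % p := by
  rw [redN_eq]
  exact dg_sum n (fun j => dg N j % p) (fun j _ => lt_of_lt_of_le (Nat.mod_lt _ hp) hpX) j hj

theorem good_mulM {p n : ℕ} (hp : 0 < p) (hpX : p ≤ X) (A B : List ℕ) (hA : A.length = n) :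
    Good p n (mulM p n A B) := by
  refine ⟨by rw [mulM, List.length_map, hA], ?_⟩
  intro r hr
  rw [mulM, List.mem_map] at hr
  obtain ⟨a, _, rfl⟩ := hr
  refine ⟨?_, ?_⟩
  · rw [redN_eq]
    exact sum_lt n _ (fun j _ => lt_of_lt_of_le (Nat.mod_lt _ hp) hpX)
  · intro j hj
    rw [dg_redN hp hpX _ j hj]
    exact Nat.mod_lt _ hp

/-- the packed product is the product -/
theorem toMat_mulM {p n : ℕ} (hp : 0 < p) (hX : n * (p * p) ≤ X) (A B : List ℕ)
    (hA : Good p n A) (hB : Good p n B) :
    toMat p n (mulM p n A B) = toMat p n A * toMat p n B := by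
  ext i j
  have hn : 0 < n := lt_of_le_of_lt (Nat.zero_le _) i.isLt
  have hpX : p ≤ X := by
    calc p = 1 * (p * 1) := by ring
      _ ≤ n * (p * p) := Nat.mul_le_mul hn (Nat.mul_le_mul_left p hp)
      _ ≤ X := hX
  rw [Matrix.mul_apply]
  simp only [toMat, Matrix.of_apply]
  rw [getD_mulM p n A B i (by rw [hA.1]; exact i.isLt), dg_redN hp hpX _ j j.isLt,
    ZMod.natCast_mod]
  set r := A.getD (↑i) 0 with hr
  have hrA : r ∈ A := by
    rw [hr, List.getD_eq_getElem _ _ (by rw [hA.1]; exact i.isLt)]
    exact List.getElem_mem _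
  have hrd : ∀ k < n, dg r k < p := (hA.2 r hrA).2
  -- the expansion of the rows of B
  have hBk : ∀ k < n, B.getD k 0 = ∑ j' ∈ range n, dg (B.getD k 0) j' * X ^ j' := by
    intro k hk
    apply eq_sum_dg
    have : B.getD k 0 ∈ B := by
      rw [List.getD_eq_getElem _ _ (by rw [hB.1]; exact hk)]
      exact List.getElem_mem _
    exact (hB.2 _ this).1
  have hBd : ∀ k < n, ∀ j' < n, dg (B.getD k 0) j' < p := by
    intro k hk j' hj'
    have : B.getD k 0 ∈ B := by
      rw [List.getD_eq_getElem _ _ (by rw [hB.1]; exact hk)]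
      exact List.getElem_mem _
    exact (hB.2 _ this).2 j' hj'
  have h1 : vmN r B = ∑ j' ∈ range n, (∑ k ∈ range n, dg r k * dg (B.getD k 0) j') * X ^ j' := by
    rw [vmN_eq, hB.1]
    calc ∑ k ∈ range n, dg r k * B.getD k 0
        = ∑ k ∈ range n, ∑ j' ∈ range n, dg r k * dg (B.getD k 0) j' * X ^ j' := by
          apply Finset.sum_congr rfl
          intro k hk
          rw [Finset.mem_range] at hk
          conv_lhs => rw [hBk k hk]
          rw [Finset.mul_sum]
          apply Finset.sum_congr rfl
          intro j' _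
          ring
      _ = ∑ j' ∈ range n, ∑ k ∈ range n, dg r k * dg (B.getD k 0) j' * X ^ j' := Finset.sum_comm
      _ = _ := by
          apply Finset.sum_congr rfl
          intro j' _
          rw [Finset.sum_mul]
  have h2 : ∀ j' < n, ∑ k ∈ range n, dg r k * dg (B.getD k 0) j' < X := by
    intro j' hj'
    have hne : (range n).Nonempty := ⟨0, Finset.mem_range.mpr hn⟩
    have : ∑ k ∈ range n, dg r k * dg (B.getD k 0) j' < ∑ _k ∈ range n, p * p := by
      apply Finset.sum_lt_sum_of_nonempty hne
      intro k hk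
      rw [Finset.mem_range] at hk
      exact Nat.mul_lt_mul'' (hrd k hk) (hBd k hk j' hj')
    rw [Finset.sum_const, Finset.card_range, smul_eq_mul] at this
    exact lt_of_lt_of_le this hX
  rw [h1, dg_sum n _ h2 j j.isLt, Nat.cast_sum, ← Fin.sum_univ_eq_sum_range
    (fun k => ((dg r k * dg (B.getD k 0) ↑j : ℕ) : ZMod p)) n]
  apply Finset.sum_congr rfl
  intro k _
  rw [Nat.cast_mul]

/-- the packed identity matrix -/
def idM (n : ℕ) : List ℕ := (List.range n).map fun i => X ^ i

theorem dg_pow {n i j : ℕ} (hi : i < n) (hj : j < n) : dg (X ^ i) j = if j = i then 1 else 0 := by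
  have h : X ^ i = ∑ j' ∈ range n, (if j' = i then 1 else 0) * X ^ j' := by
    rw [Finset.sum_eq_single i]
    · simp
    · intro b _ hb; simp [hb]
    · intro h; exact absurd (Finset.mem_range.mpr hi) h
  rw [h]
  exact dg_sum n (fun j' => if j' = i then 1 else 0)
    (fun j' _ => by split_ifs <;> decide) j hj

theorem good_idM {p n : ℕ} (hp : 1 < p) : Good p n (idM n) := by
  refine ⟨by simp [idM], ?_⟩
  intro r hr
  rw [idM, List.mem_map] at hr
  obtain ⟨i, hi, rfl⟩ := hr
  rw [List.mem_range] at hi
  refine ⟨Nat.pow_lt_pow_right (by decide) hi, ?_⟩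
  intro j hj
  rw [dg_pow hi hj]
  split_ifs <;> omega

theorem toMat_idM (p n : ℕ) : toMat p n (idM n) = 1 := by
  ext i j
  simp only [toMat, Matrix.of_apply]
  have h : (idM n).getD (↑i) 0 = X ^ (i : ℕ) := by
    unfold idM
    rw [List.getD_eq_getElem _ _ (by simp), List.getElem_map, List.getElem_range]
  rw [h, dg_pow i.isLt j.isLt, Matrix.one_apply]
  by_cases hij : i = j
  · subst hij; simp
  · have : (j : ℕ) ≠ (i : ℕ) := fun h => hij (Fin.ext h.symm)
    simp [hij, this]

/-- the packed matrix of a word in the generators `g` -/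
def wordM (p n : ℕ) (g : ℕ → List ℕ) : List ℕ → List ℕ
  | [] => idM n
  | c :: w => mulM p n (g c) (wordM p n g w)

theorem good_wordM {p n : ℕ} (hp : 1 < p) (hpX : p ≤ X) (g : ℕ → List ℕ) (w : List ℕ)
    (hg : ∀ c ∈ w, Good p n (g c)) : Good p n (wordM p n g w) := by
  cases w with
  | nil => exact good_idM hp
  | cons c w => exact good_mulM (by omega) hpX _ _ (hg c (List.mem_cons_self)).1

theorem toMat_wordM {p n : ℕ} (hp : 1 < p) (hX : n * (p * p) ≤ X) (hpX : p ≤ X)
    (g : ℕ → List ℕ) : ∀ (w : List ℕ), (∀ c ∈ w, Good p n (g c)) →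
    toMat p n (wordM p n g w) = (w.map fun c => toMat p n (g c)).prod := by
  intro w
  induction w with
  | nil => intro _; simp [wordM, toMat_idM]
  | cons c w ih =>
    intro hg
    have hg' : ∀ c ∈ w, Good p n (g c) := fun c' hc' => hg c' (List.mem_cons_of_mem _ hc')
    rw [wordM, toMat_mulM (by omega) hX _ _ (hg c List.mem_cons_self) (good_wordM hp hpX g w hg'),
      ih hg', List.map_cons, List.prod_cons]

end Cfsg.Agent.Lib.Helper6.PMat
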