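import Cfsg.Agent.Lib.Helper6.PMat

set_option autoImplicit false

/-! # Packed matrices: words evaluated in several steps -/

namespace Cfsg.Agent.Lib.Helper6.PMat

/-- the packed matrix of a word in the generators `g`, times a packed matrix -/
def wordMacc (p n : ℕ) (g : ℕ → List ℕ) : List ℕ → List ℕ → List ℕ
  | [], A => A
  | c :: w, A => mulM p n (g c) (wordMacc p n g w A)

theorem good_wordMacc {p n : ℕ} (hp : 1 < p) (hpX : p ≤ X) (g : ℕ → List ℕ) (w : List ℕ)
    (A : List ℕ) (hg : ∀ c ∈ w, Good p n (g c)) (hA : Good p n A) :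
    Good p n (wordMacc p n g w A) := by
  cases w with
  | nil => exact hA
  | cons c w => exact good_mulM (by omega) hpX _ _ (hg c (List.mem_cons_self)).1

theorem toMat_wordMacc {p n : ℕ} (hp : 1 < p) (hX : n * (p * p) ≤ X) (hpX : p ≤ X)
    (g : ℕ → List ℕ) (A : List ℕ) (hA : Good p n A) : ∀ (w : List ℕ), (∀ c ∈ w, Good p n (g c)) →
    toMat p n (wordMacc p n g w A) = (w.map fun c => toMat p n (g c)).prod * toMat p n A := by
  intro w
  induction w with
  | nil => intro _; simp [wordMacc]
  | cons c w ih =>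
    intro hg
    have hg' : ∀ c ∈ w, Good p n (g c) := fun c' hc' => hg c' (List.mem_cons_of_mem _ hc')
    rw [wordMacc, toMat_mulM (by omega) hX _ _ (hg c List.mem_cons_self)
      (good_wordMacc hp hpX g w A hg' hA), ih hg', List.map_cons, List.prod_cons, mul_assoc]

/-- one step: from the value of the tail to the value of a longer tail -/
theorem step_acc {p n : ℕ} (hp : 1 < p) (hX : n * (p * p) ≤ X) (hpX : p ≤ X)
    (g : ℕ → List ℕ) (hg : ∀ c, Good p n (g c)) {v t : List ℕ} {A B : List ℕ}
    (hA : Good p n A ∧ toMat p n A = (t.map fun c => toMat p n (g c)).prod)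
    (h : wordMacc p n g v A = B) :
    Good p n B ∧ toMat p n B = ((v ++ t).map fun c => toMat p n (g c)).prod := by
  subst h
  refine ⟨good_wordMacc hp hpX g v A (fun c _ => hg c) hA.1, ?_⟩
  rw [toMat_wordMacc hp hX hpX g A hA.1 v (fun c _ => hg c), hA.2, List.map_append, List.prod_append]

theorem start_acc {p n : ℕ} (hp : 1 < p) (g : ℕ → List ℕ) :
    Good p n (idM n) ∧ toMat p n (idM n) = (([] : List ℕ).map fun c => toMat p n (g c)).prod := by
  refine ⟨good_idM hp, ?_⟩
  rw [toMat_idM]
  rfl

end Cfsg.Agent.Lib.Helper6.PMat
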