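import Mathlib
import Cfsg.Agent.Lib.Helper8.SBS4
import Cfsg.Agent.Lib.Helper8.WardB

/-!
# S4306 tools: (L-frob), module form
-/

set_option autoImplicit false
set_option linter.unusedSectionVars false
set_option linter.unusedVariables false

namespace Cfsg.Agent.Lib.Helper6.PQTools

open Cfsg.Agent.Lib.Helper8.SBS Cfsg.Agent.Lib.Helper8.Ward

universe u w

section tools

variable {N : Type u} [AddCommGroup N] [Finite N] {L : Type w} [Group L] [Finite L]
  [DistribMulAction L N]

/-- **(L-frob)**, module form: a Frobenius-type group `K⟨a⟩` on `N`, `C_N(K) = 0 = C_N(a)` forces `N = 0`. -/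
theorem lfrob {p : ℕ} (hp : 0 < p) (K : Subgroup L) (a : L) (ha : a ^ p = 1)
    (haK : ∀ k ∈ K, a * k * a⁻¹ ∈ K)
    (hfix : ∀ j, 0 < j → j < p → ∀ k ∈ K, a ^ j * k = k * a ^ j → k = 1)
    (hcop : (Nat.card N).Coprime (Nat.card K))
    (hCK : ∀ n : N, (∀ k ∈ K, k • n = n) → n = 0) (hCa : ∀ n : N, a • n = n → n = 0) :
    ∀ n : N, n = 0 := by
  intro n
  have hmu : ∀ v : N, mu p a v = 0 := fun v => hCa _ (smul_mu_self ha v)
  have hnu : ∀ v : N, nu K v = 0 := fun v => hCK _ (fun k hk => smul_nu_of_mem hk v)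
  have h := frob_trace (p := p) K a haK hfix n (fun k _ => hmu _) (fun j _ _ => hnu _) hp
  exact eq_zero_of_nsmul_eq_zero hcop h

end tools

end Cfsg.Agent.Lib.Helper6.PQTools
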