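import Mathlib
import Cfsg.Agent.Lib.Helper6.PQTools2
import Cfsg.Agent.Lib.Lead.CoprimeAction

/-!
# S4306 tools: the Frobenius count in operator form and modulo a kernel
-/

set_option autoImplicit false
set_option linter.unusedSectionVars false
set_option linter.unusedVariables false

namespace Cfsg.Agent.Lib.Helper6.PQTools

open Cfsg.Agent.Lib.Helper8.SBS Cfsg.Agent.Lib.Helper8.Ward

universe u w

section act

variable {N : Type u} [AddCommGroup N] [Finite N] {L : Type w} [Group L] [Finite L]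
  [DistribMulAction L N]

/-- the action as a homomorphism to the units of the endomorphism ring. -/
def fcRho (N : Type u) [AddCommGroup N] (L : Type w) [Group L] [DistribMulAction L N] :
    L →* (AddMonoid.End N)ˣ :=
  (DistribMulAction.toAddMonoidEnd L N).toHomUnits

theorem fcRho_smul (g : L) (v : N) : fcRho N L g • v = g • v := rfl

theorem fcRho_ext {g g' : L} (h : ∀ v : N, g • v = g' • v) : fcRho N L g = fcRho N L g' := by
  apply Units.ext
  apply AddMonoidHom.ext
  intro v
  exact h v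

theorem fc_finite_end (N : Type u) [AddCommGroup N] [Finite N] : Finite (AddMonoid.End N) :=
  Finite.of_injective (fun f : AddMonoid.End N => (f : N → N)) DFunLike.coe_injective

/-- **The Frobenius count, operator form**: `K` need only be abelian of exponent `s` with `a`
acting without fixed points *as a group of operators on `N`*. -/
theorem frob_count_act {p s : ℕ} (hp : p.Prime) (hs : s.Prime) (K : Subgroup L) (a : L)
    (ha : ∀ n : N, a ^ p • n = n) (haK : ∀ k ∈ K, a * k * a⁻¹ ∈ K)
    (hKc : ∀ k ∈ K, ∀ k' ∈ K, ∀ n : N, (k * k') • n = (k' * k) • n)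
    (hKs : ∀ k ∈ K, ∀ n : N, k ^ s • n = n)
    (hcop : (Nat.card N).Coprime s)
    (hfpf : ∀ k ∈ K, (∀ n : N, (a * k) • n = (k * a) • n) → ∀ n : N, k • n = n)
    (hCK : ∀ n : N, (∀ k ∈ K, k • n = n) → n = 0) :
    Nat.card {n : N // a • n = n} ^ p ≤ Nat.card N := by
  have := fc_finite_end N
  have hfin : Finite (AddMonoid.End N)ˣ := inferInstance
  have hcops : (Nat.card N).Coprime s := hcop
  have h := fc_main (N := N) (L := (AddMonoid.End N)ˣ) hp hs (K.map (fcRho N L)) (fcRho N L a)
    (by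
      rw [← map_pow]
      have : fcRho N L (a ^ p) = fcRho N L 1 := fcRho_ext (fun v => by rw [ha, one_smul])
      rw [this, map_one])
    (by
      rintro _ ⟨k, hk, rfl⟩
      refine ⟨a * k * a⁻¹, haK k hk, ?_⟩
      rw [map_mul, map_mul, map_inv])
    (by
      rintro _ ⟨k, hk, rfl⟩ _ ⟨k', hk', rfl⟩
      rw [← map_mul, ← map_mul]
      exact fcRho_ext (hKc k hk k' hk'))
    (by
      rintro _ ⟨k, hk, rfl⟩
      rw [← map_pow]
      have : fcRho N L (k ^ s) = fcRho N L 1 := fcRho_ext (fun v => by rw [hKs k hk, one_smul])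
      rw [this, map_one])
    hcops
    (by
      rintro _ ⟨k, hk, rfl⟩ hcomm
      rw [← map_mul, ← map_mul] at hcomm
      have h1 : ∀ n : N, (a * k) • n = (k * a) • n := by
        intro n
        rw [← fcRho_smul (a * k) n, hcomm, fcRho_smul]
      have h2 := hfpf k hk h1
      have : fcRho N L k = fcRho N L 1 := fcRho_ext (fun v => by rw [h2, one_smul])
      rw [this, map_one])
    (by
      intro n hn
      apply hCK n
      intro k hk
      have := hn (fcRho N L k) ⟨k, hk, rfl⟩
      rwa [fcRho_smul] at this)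
    _ (⊤ : AddSubgroup N) rfl
    (fun _ _ _ _ => AddSubgroup.mem_top _) (fun _ _ => AddSubgroup.mem_top _)
  rw [AddSubgroup.card_top] at h
  have e : Nat.card {n : N // a • n = n} =
      Nat.card ↥(fcFix (N := N) (fcRho N L a) ⊓ ⊤) := by
    apply Nat.card_congr
    apply Equiv.subtypeEquivRight
    intro n
    rw [inf_top_eq]
    exact Iff.rfl
  rw [e]
  exact h

/-- **The Frobenius count modulo a kernel**: `K` an `s`-group, `C ≤ K` acting trivially on `N`,
`K/C` abelian of exponent `s`, `a` of order `p ≠ s` fixed point free on `K/C`. -/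
theorem frob_count_mod {p s : ℕ} (hp : p.Prime) (hs : s.Prime) (hps : p ≠ s) (K C : Subgroup L)
    (a : L) (ha : a ^ p = 1) (haK : ∀ k ∈ K, a * k * a⁻¹ ∈ K) (hK : IsPGroup s K)
    (hCK' : C ≤ K) (hCtriv : ∀ c ∈ C, ∀ n : N, c • n = n)
    (hKc : ∀ k ∈ K, ∀ k' ∈ K, k * k' * k⁻¹ * k'⁻¹ ∈ C) (hKs : ∀ k ∈ K, k ^ s ∈ C)
    (hcop : (Nat.card N).Coprime s)
    (hfpf : ∀ k ∈ K, a * k * a⁻¹ * k⁻¹ ∈ C → k ∈ C)
    (hCK : ∀ n : N, (∀ k ∈ K, k • n = n) → n = 0) :
    Nat.card {n : N // a • n = n} ^ p ≤ Nat.card N := by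
  -- the kernel of `K` on `N`
  let D : Subgroup L :=
    { carrier := {k | k ∈ K ∧ ∀ n : N, k • n = n}
      one_mem' := ⟨K.one_mem, fun n => one_smul _ n⟩
      mul_mem' := by
        rintro x y ⟨hx, hx'⟩ ⟨hy, hy'⟩
        exact ⟨K.mul_mem hx hy, fun n => by rw [mul_smul, hy', hx']⟩
      inv_mem' := by
        rintro x ⟨hx, hx'⟩
        refine ⟨K.inv_mem hx, fun n => ?_⟩
        have := hx' (x⁻¹ • n)
        rw [smul_inv_smul] at this
        exact this.symm }
  have hDK : D ≤ K := fun _ hx => hx.1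
  have hCD : C ≤ D := fun c hc => ⟨hCK' hc, hCtriv c hc⟩
  have hconjD : ∀ g : L, (∀ k ∈ K, g * k * g⁻¹ ∈ K) → ∀ d ∈ D, g * d * g⁻¹ ∈ D := by
    rintro g hg d ⟨hd, hd'⟩
    refine ⟨hg d hd, fun n => ?_⟩
    rw [mul_smul, mul_smul, hd', smul_inv_smul]
  have hDnorm : K ≤ Subgroup.normalizer (D : Set L) := by
    intro k hk
    apply fc_mem_normalizer
    apply hconjD
    intro k' hk'
    exact K.mul_mem (K.mul_mem hk hk') (K.inv_mem hk)
  have hAK : Subgroup.zpowers a ≤ Subgroup.normalizer (K : Set L) :=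
    (Subgroup.zpowers_le).2 (fc_mem_normalizer haK)
  have hAD : Subgroup.zpowers a ≤ Subgroup.normalizer (D : Set L) :=
    (Subgroup.zpowers_le).2 (fc_mem_normalizer (hconjD a haK))
  have hcopAK : (Nat.card (Subgroup.zpowers a)).Coprime (Nat.card K) := by
    have : Fact s.Prime := ⟨hs⟩
    obtain ⟨m, hm⟩ := IsPGroup.iff_card.1 hK
    rw [hm, Nat.card_zpowers]
    apply Nat.Coprime.coprime_dvd_left (orderOf_dvd_of_pow_eq_one ha)
    exact Nat.Coprime.pow_right m ((Nat.coprime_primes hp hs).2 hps)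
  have hsolv : Group.IsSolvable (Subgroup.zpowers a) := by
    apply Group.isSolvable_of_comm
    intro x y
    obtain ⟨x, hx⟩ := x
    obtain ⟨y, hy⟩ := y
    obtain ⟨i, rfl⟩ := Subgroup.mem_zpowers_iff.1 hx
    obtain ⟨j, rfl⟩ := Subgroup.mem_zpowers_iff.1 hy
    apply Subtype.ext
    show a ^ i * a ^ j = a ^ j * a ^ i
    rw [← zpow_add, ← zpow_add, add_comm]
  have hfpfD : ∀ k ∈ K, (∀ n : N, (a * k) • n = (k * a) • n) → ∀ n : N, k • n = n := by
    intro k hk hcomm
    -- the operators commuting with `k`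
    let Z : Subgroup L := (Subgroup.centralizer {fcRho N L k}).comap (fcRho N L)
    have haZ : a ∈ Z := by
      show fcRho N L a ∈ Subgroup.centralizer {fcRho N L k}
      rw [Subgroup.mem_centralizer_iff]
      intro x hx
      rw [Set.mem_singleton_iff] at hx
      rw [hx, ← map_mul, ← map_mul]
      exact fcRho_ext (fun v => (hcomm v).symm)
    have hZ : Subgroup.zpowers a ≤ Z := (Subgroup.zpowers_le).2 haZ
    have hfix : ∀ g ∈ Subgroup.zpowers a, g * k * g⁻¹ * k⁻¹ ∈ D := by
      intro g hg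
      have hgK : g * k * g⁻¹ ∈ K := by
        have := hAK hg
        rw [Subgroup.mem_normalizer_iff] at this
        exact (this k).1 hk
      refine ⟨K.mul_mem hgK (K.inv_mem hk), ?_⟩
      have hgZ : fcRho N L g ∈ Subgroup.centralizer {fcRho N L k} := hZ hg
      rw [Subgroup.mem_centralizer_iff] at hgZ
      have e := hgZ _ (Set.mem_singleton _)
      have e2 : fcRho N L (g * k * g⁻¹ * k⁻¹) = 1 := by
        rw [map_mul, map_mul, map_mul, map_inv, map_inv, ← e]
        group
      intro n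
      rw [← fcRho_smul (g * k * g⁻¹ * k⁻¹) n, e2, one_smul]
    obtain ⟨c, hc, hkc⟩ := Cfsg.Agent.Lib.Lead.coprime_fixed_coset (Subgroup.zpowers a) K hAK
      hcopAK (Or.inl hsolv) D hDK hDnorm hAD k hk hfix
    have hcK : c ∈ K := hc.1
    have hca : a * c = c * a := by
      have h2 : c ∈ Subgroup.centralizer (Subgroup.zpowers a : Set L) := hc.2
      rw [Subgroup.mem_centralizer_iff] at h2
      exact h2 a (Subgroup.mem_zpowers a)
    have hcC : c ∈ C := by
      apply hfpf c hcK
      have : a * c * a⁻¹ * c⁻¹ = 1 := by rw [hca]; group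
      rw [this]
      exact C.one_mem
    have hkD : k ∈ D := by
      have h1 : k⁻¹ ∈ D := by
        have : k⁻¹ = (k⁻¹ * c) * c⁻¹ := by group
        rw [this]
        exact D.mul_mem hkc (D.inv_mem (hCD hcC))
      have := D.inv_mem h1
      rwa [inv_inv] at this
    exact hkD.2
  apply frob_count_act hp hs K a (fun n => by rw [ha, one_smul]) haK ?_ ?_ hcop hfpfD hCK
  · intro k hk k' hk' n
    have e : k * k' = (k * k' * k⁻¹ * k'⁻¹) * (k' * k) := by group
    rw [e, mul_smul, hCtriv _ (hKc k hk k' hk')]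
  · intro k hk n
    exact hCtriv _ (hKs k hk) n

end act

end Cfsg.Agent.Lib.Helper6.PQTools
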