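import Mathlib
import Cfsg.Agent.Lib.Helper6.PReduced
import Cfsg.Agent.Lib.Helper6.YL2
import Cfsg.Agent.Lib.Helper3.PComp7
import Cfsg.Agent.Lib.Helper9.Hyperfocal1

set_option autoImplicit false

/-! Normal closures of `p`-reduced normal subgroups of parabolic subgroups. -/

namespace Cfsg.Agent.Lib.Helper6

open Cfsg

variable {L : Type*} [Group L]

/-- A normal subgroup `D` that is a `p`-group modulo the normal subgroup `C` lies in `K` as soon as
`C ⊓ D` and `T ⊓ D` do, `T` a Sylow `p`-subgroup. -/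
theorem normal_le_of_sylow_inf_le [Finite L] {p : ℕ} [Fact p.Prime] (T : Sylow p L)
    (D : Subgroup L) [hD : D.Normal] (C : Subgroup L) [hC : C.Normal] (K : Subgroup L)
    (hDp : ∀ d ∈ D, ∃ k : ℕ, d ^ p ^ k ∈ C) (hCK : C ⊓ D ≤ K)
    (hTK : (T : Subgroup L) ⊓ D ≤ K) : D ≤ K := by
  haveI : (C.subgroupOf D).Normal := Subgroup.normal_subgroupOf
  have hq : IsPGroup p (↥D ⧸ C.subgroupOf D) := by
    intro x
    obtain ⟨d, rfl⟩ := QuotientGroup.mk_surjective x
    obtain ⟨k, hk⟩ := hDp d d.2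
    refine ⟨k, ?_⟩
    rw [← QuotientGroup.mk_pow, QuotientGroup.eq_one_iff, Subgroup.mem_subgroupOf]
    simpa using hk
  obtain ⟨PD, hPD⟩ := Cfsg.Agent.Lib.Helper9.exists_sylow_map_eq_inf T D
  have htop := Cfsg.Agent.Lib.Helper3.sup_sylow_eq_top_of_isPGroup_quotient (C.subgroupOf D) hq PD
  intro d hd
  have h1 : (⟨d, hd⟩ : D) ∈ C.subgroupOf D ⊔ (PD : Subgroup D) := by rw [htop]; trivial
  have h2 : (C.subgroupOf D ⊔ (PD : Subgroup D)).map D.subtype ≤ K := by
    rw [Subgroup.map_sup]
    apply sup_le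
    · rw [Subgroup.subgroupOf_map_subtype]; exact hCK
    · rw [hPD]; exact hTK
  exact h2 ⟨⟨d, hd⟩, h1, rfl⟩

/-- conjugation invariance of `Ω₁(Z(P))` for normal `P` -/
theorem omegaZ_normal_of_normal (p : ℕ) (P : Subgroup L) [hP : P.Normal] : (omegaZ p P).Normal := by
  constructor
  intro w hw g
  obtain ⟨hwP, hwc, hwp⟩ := omegaZ_spec P w hw
  apply mem_omegaZ_of (hP.conj_mem _ hwP g)
  · intro y hy
    have hy' : g⁻¹ * y * g ∈ P := by
      have := hP.conj_mem _ hy g⁻¹
      simpa using this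
    have hc := hwc _ hy'
    show g * w * g⁻¹ * y = y * (g * w * g⁻¹)
    calc g * w * g⁻¹ * y = g * (w * (g⁻¹ * y * g)) * g⁻¹ := by group
      _ = g * ((g⁻¹ * y * g) * w) * g⁻¹ := by rw [hc.eq]
      _ = y * (g * w * g⁻¹) := by group
  · rw [conj_pow, hwp]; simp

/-- the normal closure in `L` of a `p`-reduced normal subgroup of a parabolic subgroup `R` of a
group of characteristic `p` is `p`-reduced normal in `L` -/
theorem isPReducedNormal_normalClosure [Finite L] {p : ℕ} [Fact p.Prime]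
    (hchar : Subgroup.centralizer (Cfsg.pCore p L : Set L) ≤ Cfsg.pCore p L) (T : Sylow p L)
    (R : Subgroup L) (hTR : (T : Subgroup L) ≤ R) (X : Subgroup ↥R)
    (hX : Cfsg.IsPReducedNormal p X) :
    Cfsg.IsPReducedNormal p (Subgroup.normalClosure ((X.map R.subtype : Subgroup L) : Set L)) := by
  classical
  set X' : Subgroup L := X.map R.subtype with hX'
  have hX'R : X' ≤ R := by rintro _ ⟨y, _, rfl⟩; exact y.2
  have hXeq : X'.subgroupOf R = X := Subgroup.comap_map_eq_self_of_injective R.subtype_injective _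
  rw [← hXeq, isPReducedNormal_subgroupOf_iff hX'R] at hX
  obtain ⟨hRn, hXea, hXred⟩ := hX
  have hPT : Cfsg.pCore p L ≤ T := pCore_le_sylow T
  -- `O_p(L)` centralizes `X'`
  have hPX : Cfsg.pCore p L ≤ Subgroup.centralizer (X' : Set L) := by
    apply hXred (Cfsg.pCore p L) (hPT.trans hTR)
    · rw [Subgroup.normalizer_eq_top_iff.mpr (Cfsg.pCore_normal p L)]; exact le_top
    · intro d hd
      obtain ⟨k, hk⟩ := (pCore_isPGroup (G := L) p) ⟨d, hd⟩
      refine ⟨k, ?_⟩
      have := congrArg Subtype.val hk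
      simp only [Subgroup.coe_pow, Subgroup.coe_one] at this
      rw [this]
      exact Subgroup.one_mem _
  have hX'P : X' ≤ Cfsg.pCore p L := (Subgroup.le_centralizer_iff.mp hPX).trans hchar
  -- `X' ≤ Ω₁(Z(O_p(L)))`
  have hX'Z : X' ≤ omegaZ p (Cfsg.pCore p L) := by
    intro x hx
    apply mem_omegaZ_of (hX'P hx)
    · intro y hy
      exact ((Subgroup.mem_centralizer_iff.mp (hPX hy)) x hx)
    · exact hXea.2 x hx
  haveI hZn : (omegaZ p (Cfsg.pCore p L)).Normal :=
    omegaZ_normal_of_normal p (Cfsg.pCore p L)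
  set V := Subgroup.normalClosure (X' : Set L) with hV
  have hVZ : V ≤ omegaZ p (Cfsg.pCore p L) := Subgroup.normalClosure_le_normal hX'Z
  have hVn : V.Normal := Subgroup.normalClosure_normal
  rw [isPReducedNormal_iff]
  refine ⟨hVn, ⟨⟨⟨?_⟩⟩, ?_⟩, ?_⟩
  · rintro ⟨a, ha⟩ ⟨b, hb⟩
    apply Subtype.ext
    obtain ⟨_, hc, _⟩ := omegaZ_spec _ a (hVZ ha)
    exact (hc b (omegaZ_le p _ (hVZ hb))).eq
  · intro a ha
    exact (omegaZ_spec _ a (hVZ ha)).2.2
  · intro D hDn hDp
    haveI := hDn
    haveI hCVn : (Subgroup.centralizer (V : Set L)).Normal := inferInstance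
    have hCVX : Subgroup.centralizer (V : Set L) ≤ Subgroup.centralizer (X' : Set L) :=
      Subgroup.centralizer_le (Subgroup.le_normalClosure)
    -- `D ⊓ R` centralizes `X'`
    have hDR : D ⊓ R ≤ Subgroup.centralizer (X' : Set L) := by
      apply hXred (D ⊓ R) inf_le_right
      · intro r hr
        rw [Subgroup.mem_normalizer_iff]
        intro d
        constructor
        · rintro ⟨hd1, hd2⟩
          exact ⟨hDn.conj_mem _ hd1 r, R.mul_mem (R.mul_mem hr hd2) (R.inv_mem hr)⟩
        · rintro ⟨hd1, hd2⟩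
          refine ⟨?_, ?_⟩
          · have := hDn.conj_mem _ hd1 r⁻¹
            simpa [mul_assoc] using this
          · have := R.mul_mem (R.mul_mem (R.inv_mem hr) hd2) hr
            simpa [mul_assoc] using this
      · intro d hd
        obtain ⟨k, hk⟩ := hDp d hd.1
        exact ⟨k, hCVX hk⟩
    have hDX : D ≤ Subgroup.centralizer (X' : Set L) := by
      apply normal_le_of_sylow_inf_le T D (Subgroup.centralizer (V : Set L)) _ hDp
      · exact inf_le_left.trans hCVX
      · exact (inf_le_inf_right D hTR).trans (by rw [inf_comm]; exact hDR)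
    -- hence `D` centralizes `V`
    intro d hd
    rw [Subgroup.mem_centralizer_iff]
    have hVle : V ≤ Subgroup.centralizer ({d} : Set L) := by
      rw [hV, Subgroup.normalClosure]
      rw [Subgroup.closure_le]
      intro v hv
      obtain ⟨a, ha, hav⟩ := Group.mem_conjugatesOfSet_iff.mp hv
      obtain ⟨c, hc⟩ := isConj_iff.mp hav
      rw [SetLike.mem_coe, Subgroup.mem_centralizer_iff]
      intro y hy
      rw [Set.mem_singleton_iff] at hy
      subst hy
      have hd' : c⁻¹ * y * c ∈ D := by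
        have := hDn.conj_mem _ hd c⁻¹
        simpa using this
      have h1 := Subgroup.mem_centralizer_iff.mp (hDX hd') a ha
      rw [← hc]
      calc y * (c * a * c⁻¹) = c * ((c⁻¹ * y * c) * a) * c⁻¹ := by group
        _ = c * (a * (c⁻¹ * y * c)) * c⁻¹ := by rw [← h1]
        _ = c * a * c⁻¹ * y := by group
    intro v hv
    exact (Subgroup.mem_centralizer_iff.mp (hVle hv) d rfl).symm

end Cfsg.Agent.Lib.Helper6
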