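import Mathlib
import Cfsg.Agent.Lib.Helper6.PReduced2

set_option autoImplicit false

/-! The largest `p`-reduced normal subgroup: `L = N_L(T_L) C_L(Y)`, `T_L = O_p(N_L(T_L))`,
`Y = Ω₁(Z(T_L))`. -/

namespace Cfsg.Agent.Lib.Helper6

open Cfsg

variable {L : Type*} [Group L]

/-- a normal subgroup centralizing `X` centralizes the normal closure of `X` -/
theorem normal_le_centralizer_normalClosure (D : Subgroup L) [hDn : D.Normal] (X : Subgroup L)
    (hDX : D ≤ Subgroup.centralizer (X : Set L)) :
    D ≤ Subgroup.centralizer ((Subgroup.normalClosure (X : Set L) : Subgroup L) : Set L) := by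
  intro d hd
  rw [Subgroup.mem_centralizer_iff]
  have hVle : Subgroup.normalClosure (X : Set L) ≤ Subgroup.centralizer ({d} : Set L) := by
    rw [Subgroup.normalClosure, Subgroup.closure_le]
    intro v hv
    obtain ⟨a, ha, hav⟩ := Group.mem_conjugatesOfSet_iff.mp hv
    obtain ⟨c, hc⟩ := isConj_iff.mp hav
    rw [SetLike.mem_coe, Subgroup.mem_centralizer_iff]
    intro y hy
    rw [Set.mem_singleton_iff] at hy
    subst hy
    have hd' : c⁻¹ * y * c ∈ D := by
      have := hDn.conj_mem _ hd c⁻¹
      simpa using this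
    have h1 := Subgroup.mem_centralizer_iff.mp (hDX hd') a ha
    rw [← hc]
    calc y * (c * a * c⁻¹) = c * ((c⁻¹ * y * c) * a) * c⁻¹ := by group
      _ = c * (a * (c⁻¹ * y * c)) * c⁻¹ := by rw [← h1]
      _ = c * a * c⁻¹ * y := by group
  intro v hv
  exact (Subgroup.mem_centralizer_iff.mp (hVle hv) d rfl).symm

theorem largest_pReduced_structure [Finite L] {p : ℕ} [Fact p.Prime]
    (hchar : Subgroup.centralizer (Cfsg.pCore p L : Set L) ≤ Cfsg.pCore p L) (T : Sylow p L)
    (Y : Subgroup L)
    (hY : (Cfsg.IsPReducedNormal p Y ∧ ∀ V : Subgroup L, Cfsg.IsPReducedNormal p V → V ≤ Y))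
    (TL : Subgroup L) (hTL : TL = (T : Subgroup L) ⊓ Subgroup.centralizer (Y : Set L)) :
    (∀ g : L, ∃ a ∈ Subgroup.normalizer (TL : Set L), ∃ c ∈ Subgroup.centralizer (Y : Set L),
      g = a * c) ∧
    (Cfsg.pCore p ↥(Subgroup.normalizer (TL : Set L))).map
      (Subgroup.normalizer (TL : Set L)).subtype = TL ∧
    Y = Cfsg.omegaOne p (TL ⊓ Subgroup.centralizer (TL : Set L)) := by
  classical
  obtain ⟨hYred, hYmax⟩ := hY
  have hYn : Y.Normal := hYred.1
  have hYea : IsElementaryAbelian p Y := hYred.2.1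
  obtain ⟨hCn, hCq⟩ := hYred.2.2
  set C := Subgroup.centralizer (Y : Set L) with hC
  haveI := hCn
  -- `T_L` is a Sylow subgroup of `C`
  obtain ⟨PC, hPC⟩ := Cfsg.Agent.Lib.Helper9.exists_sylow_map_eq_inf T C
  rw [← hTL] at hPC
  have hfrat := Sylow.normalizer_sup_eq_top PC
  rw [hPC] at hfrat
  have hTLp : IsPGroup p TL := by rw [hTL]; exact T.isPGroup'.to_le inf_le_left
  have hTLC : TL ≤ C := by rw [hTL]; exact inf_le_right
  have hsyl : IsSylowOf p C TL := by
    rw [← hPC]; exact isSylowOf_of_sylow PC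
  -- (a)
  have ha : ∀ g : L, ∃ a ∈ Subgroup.normalizer (TL : Set L), ∃ c ∈ C, g = a * c := by
    intro g
    have hg : g ∈ Subgroup.normalizer (TL : Set L) ⊔ C := by rw [hfrat]; trivial
    obtain ⟨a, ha, c, hc, h⟩ := Subgroup.mem_sup_of_normal_right.mp hg
    exact ⟨a, ha, c, hc, h.symm⟩
  -- basic facts on `Y`
  have hPY : Cfsg.pCore p L ≤ C := pReduced_pCore_le_centralizer hYred
  have hYP : Y ≤ Cfsg.pCore p L := pReduced_le_pCore hchar hYred
  have hPT : Cfsg.pCore p L ≤ T := pCore_le_sylow T
  have hPTL : Cfsg.pCore p L ≤ TL := by rw [hTL]; exact le_inf hPT hPY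
  have hYC : Y ≤ C := by
    intro y hy
    rw [hC, Subgroup.mem_centralizer_iff]
    intro z hz
    have := hYea.1.is_comm.comm ⟨z, hz⟩ ⟨y, hy⟩
    exact congrArg Subtype.val this
  have hYTL : Y ≤ TL := by rw [hTL]; exact le_inf (hYP.trans hPT) hYC
  refine ⟨ha, ?_, ?_⟩
  · -- (b)
    set N := Subgroup.normalizer (TL : Set L) with hN
    have h1 : TL ≤ (Cfsg.pCore p ↥N).map N.subtype := by
      have : TL.subgroupOf N ≤ Cfsg.pCore p ↥N :=
        le_pCore (Subgroup.normal_in_normalizer) hTLp.comap_subtype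
      intro t ht
      exact ⟨⟨t, Subgroup.le_normalizer ht⟩, this (Subgroup.mem_subgroupOf.mpr ht), rfl⟩
    have hQp : IsPGroup p ((Cfsg.pCore p ↥N).map N.subtype) := (pCore_isPGroup p).map _
    -- the image of `Q` in `L ⧸ C` is a normal `p`-subgroup
    have hQC : (Cfsg.pCore p ↥N).map N.subtype ≤ C := by
      have hbn : (((Cfsg.pCore p ↥N).map N.subtype).map (QuotientGroup.mk' C)).Normal := by
        constructor
        rintro _ ⟨_, ⟨q, hq, rfl⟩, rfl⟩ x
        obtain ⟨g, rfl⟩ := QuotientGroup.mk_surjective x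
        obtain ⟨a, haN, c, hc, rfl⟩ := ha g
        have hmk : (QuotientGroup.mk (a * c) : L ⧸ C) = QuotientGroup.mk a := by
          rw [QuotientGroup.mk_mul, (QuotientGroup.eq_one_iff c).mpr hc, mul_one]
        rw [hmk]
        have hqn : (⟨a, haN⟩ : N) * q * (⟨a, haN⟩ : N)⁻¹ ∈ Cfsg.pCore p ↥N :=
          (Cfsg.pCore_normal p ↥N).conj_mem _ hq _
        refine ⟨a * (q : L) * a⁻¹, ⟨_, hqn, rfl⟩, ?_⟩
        simp
      have hbp : IsPGroup p (((Cfsg.pCore p ↥N).map N.subtype).map (QuotientGroup.mk' C)) :=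
        hQp.map _
      have hle := le_pCore hbn hbp
      rw [hCq] at hle
      intro q hq
      have : QuotientGroup.mk' C q ∈ (⊥ : Subgroup (L ⧸ C)) := hle ⟨q, hq, rfl⟩
      rw [Subgroup.mem_bot] at this
      exact (QuotientGroup.eq_one_iff q).mp this
    exact hsyl.2.2 _ hQp hQC h1
  · -- (c)
    apply le_antisymm
    · intro y hy
      apply Subgroup.subset_closure
      refine ⟨Subgroup.mem_inf.mpr ⟨hYTL hy, ?_⟩, hYea.2 y hy⟩
      rw [Subgroup.mem_centralizer_iff]
      intro t ht
      exact (Subgroup.mem_centralizer_iff.mp (hTLC ht) y hy).symm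
    · -- the normal closure of `X = Ω₁(Z(T_L))` is `p`-reduced
      set X := Cfsg.omegaOne p (TL ⊓ Subgroup.centralizer (TL : Set L)) with hX
      have hXZ : X = omegaZ p TL := rfl
      have hXspec := omegaZ_spec (p := p) TL
      have hX'Z : X ≤ omegaZ p (Cfsg.pCore p L) := by
        intro x hx
        rw [hXZ] at hx
        obtain ⟨hxT, hxc, hxp⟩ := hXspec x hx
        have hxP : x ∈ Cfsg.pCore p L := by
          apply hchar
          rw [Subgroup.mem_centralizer_iff]
          intro y hy
          exact ((hxc y (hPTL hy)).eq).symm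
        exact mem_omegaZ_of hxP (fun y hy => hxc y (hPTL hy)) hxp
      haveI hZn : (omegaZ p (Cfsg.pCore p L)).Normal :=
        omegaZ_normal_of_normal p (Cfsg.pCore p L)
      set V := Subgroup.normalClosure (X : Set L) with hV
      have hVZ : V ≤ omegaZ p (Cfsg.pCore p L) := Subgroup.normalClosure_le_normal hX'Z
      have hVn : V.Normal := Subgroup.normalClosure_normal
      have hYX : Y ≤ X := by
        intro y hy
        apply Subgroup.subset_closure
        refine ⟨Subgroup.mem_inf.mpr ⟨hYTL hy, ?_⟩, hYea.2 y hy⟩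
        rw [Subgroup.mem_centralizer_iff]
        intro t ht
        exact (Subgroup.mem_centralizer_iff.mp (hTLC ht) y hy).symm
      have hVred : Cfsg.IsPReducedNormal p V := by
        rw [isPReducedNormal_iff]
        refine ⟨hVn, ⟨⟨⟨?_⟩⟩, ?_⟩, ?_⟩
        · rintro ⟨a, ha'⟩ ⟨b, hb⟩
          apply Subtype.ext
          obtain ⟨_, hc, _⟩ := omegaZ_spec _ a (hVZ ha')
          exact (hc b (omegaZ_le p _ (hVZ hb))).eq
        · intro a ha'
          exact (omegaZ_spec _ a (hVZ ha')).2.2
        · intro D hDn hDp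
          haveI := hDn
          haveI hCVn : (Subgroup.centralizer (V : Set L)).Normal := inferInstance
          have hCVX : Subgroup.centralizer (V : Set L) ≤ Subgroup.centralizer (X : Set L) :=
            Subgroup.centralizer_le (Subgroup.le_normalClosure)
          have hCVY : Subgroup.centralizer (V : Set L) ≤ C :=
            hCVX.trans (Subgroup.centralizer_le hYX)
          -- `D ≤ C_L(Y)` as `Y` is `p`-reduced
          have hDC : D ≤ C := by
            have := (isPReducedNormal_iff Y).mp hYred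
            apply this.2.2 D hDn
            intro d hd
            obtain ⟨k, hk⟩ := hDp d hd
            exact ⟨k, hCVY hk⟩
          have hDX : D ≤ Subgroup.centralizer (X : Set L) := by
            apply normal_le_of_sylow_inf_le T D (Subgroup.centralizer (V : Set L)) _ hDp
            · exact inf_le_left.trans hCVX
            · intro d hd
              have hdTL : d ∈ TL := by
                rw [hTL]; exact ⟨hd.1, hDC hd.2⟩
              rw [Subgroup.mem_centralizer_iff]
              intro x hx
              rw [SetLike.mem_coe, hXZ] at hx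
              exact ((hXspec x hx).2.1 d hdTL).eq
          exact normal_le_centralizer_normalClosure D X hDX
      exact (Subgroup.le_normalClosure).trans (hYmax V hVred)

end Cfsg.Agent.Lib.Helper6
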