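import Mathlib
import Cfsg.Agent.Lib.Helper6.PReduced
import Cfsg.Agent.Lib.Helper6.YL2
import Cfsg.Agent.Lib.Helper6.Subn
import Cfsg.Agent.Lib.Helper6.Stability

set_option autoImplicit false

/-! `[V, O^p(K)]` for a `p`-reduced normal subgroup `V` and a subnormal subgroup `K`. -/

namespace Cfsg.Agent.Lib.Helper6

open Cfsg
open scoped commutatorElement

variable {L : Type*} [Group L]

/-- a subnormal subgroup acting as a `p`-group on the `p`-reduced normal subgroup `V` centralizes it -/
theorem subnormal_le_centralizer_of_pReduced [Finite L] {p : ℕ} [Fact p.Prime] {V : Subgroup L}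
    (hV : Cfsg.IsPReducedNormal p V) {D : Subgroup L} (hD : D.IsSubnormal)
    (hDp : ∀ d ∈ D, ∃ k : ℕ, d ^ p ^ k ∈ Subgroup.centralizer (V : Set L)) :
    D ≤ Subgroup.centralizer (V : Set L) := by
  obtain ⟨hCn, hCq⟩ := hV.2.2
  haveI := hCn
  have hsn : (D.map (QuotientGroup.mk' (Subgroup.centralizer (V : Set L)))).IsSubnormal :=
    hD.map (QuotientGroup.mk'_surjective _)
  have hp : IsPGroup p (D.map (QuotientGroup.mk' (Subgroup.centralizer (V : Set L)))) := by
    rintro ⟨_, d, hd, rfl⟩
    obtain ⟨k, hk⟩ := hDp d hd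
    refine ⟨k, ?_⟩
    apply Subtype.ext
    show (QuotientGroup.mk' _ d) ^ p ^ k = 1
    rw [← map_pow]
    exact (QuotientGroup.eq_one_iff _).mpr hk
  have hle := le_pCore_of_isSubnormal_of_isPGroup hsn hp
  rw [hCq] at hle
  intro d hd
  have : QuotientGroup.mk' _ d ∈ (⊥ : Subgroup (L ⧸ Subgroup.centralizer (V : Set L))) :=
    hle ⟨d, hd, rfl⟩
  rw [Subgroup.mem_bot] at this
  exact (QuotientGroup.eq_one_iff d).mp this

theorem pResSub_pResSub (p : ℕ) (K : Subgroup L) : pResSub p (pResSub p K) = pResSub p K := by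
  apply le_antisymm (pResSub_le p _)
  conv_lhs => unfold pResSub
  rw [Subgroup.closure_le]
  intro g hg
  exact mem_pResSub (mem_pResSub hg.1 hg.2) hg.2

theorem pResSub_subgroupOf_normal (p : ℕ) (K : Subgroup L) : ((pResSub p K).subgroupOf K).Normal := by
  have h : (pResSub p K).subgroupOf K = pResidual p ↥K := by
    rw [← pResSub_eq]
    exact Subgroup.comap_map_eq_self_of_injective K.subtype_injective _
  rw [h]
  infer_instance

theorem commutator_pRes_isPReduced [Finite L] {p : ℕ} [Fact p.Prime]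
    (V : Subgroup L) (hV : Cfsg.IsPReducedNormal p V) (K : Subgroup L) (hK : K.IsSubnormal) :
    ⁅V, (Cfsg.pResidual p ↥K).map K.subtype⁆ ≤ K ∧
      Cfsg.IsPReducedNormal p ((⁅V, (Cfsg.pResidual p ↥K).map K.subtype⁆).subgroupOf K) := by
  classical
  rw [pResSub_eq]
  set B := pResSub p K with hB
  have hBK : B ≤ K := pResSub_le p K
  have hBnK : (B.subgroupOf K).Normal := pResSub_subgroupOf_normal p K
  have hBsn : B.IsSubnormal := Subgroup.IsSubnormal.trans hBK hBnK.isSubnormal hK
  have hBres : pResSub p B = B := pResSub_pResSub p K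
  haveI hVn : V.Normal := hV.1
  have hVea : IsElementaryAbelian p V := hV.2.1
  have hVp : IsPGroup p V := by
    intro a
    refine ⟨1, ?_⟩
    apply Subtype.ext
    have := hVea.2 a a.2
    simpa using this
  obtain ⟨hVB, _⟩ := normalizes_of_subnormal_pRes V B hVp hBsn hBres
  set W := ⁅V, B⁆ with hW
  have hWB : W ≤ B := by
    rw [hW, Subgroup.commutator_le]
    intro v hv b hb
    have h1 : v * b * v⁻¹ ∈ B := (Subgroup.mem_normalizer_iff.mp (hVB hv) b).mp hb
    rw [commutatorElement_def]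
    exact B.mul_mem h1 (B.inv_mem hb)
  have hWV : W ≤ V := Subgroup.commutator_le_left V B
  have hWK : W ≤ K := hWB.trans hBK
  refine ⟨hWK, ?_⟩
  rw [isPReducedNormal_subgroupOf_iff hWK]
  have hKB : K ≤ Subgroup.normalizer (B : Set L) :=
    (Subgroup.normal_subgroupOf_iff_le_normalizer hBK).mp hBnK
  refine ⟨?_, ?_, ?_⟩
  · intro k hk
    apply mem_normalizer_of_map_conj_eq_self
    rw [hW, Subgroup.map_commutator,
      map_conj_eq_self_of_mem_normalizer (S := V)
        (by rw [Subgroup.normalizer_eq_top_iff.mpr hVn]; trivial),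
      map_conj_eq_self_of_mem_normalizer (hKB hk)]
  · refine ⟨⟨⟨?_⟩⟩, fun a ha => hVea.2 a (hWV ha)⟩
    rintro ⟨a, ha⟩ ⟨b, hb⟩
    apply Subtype.ext
    have := hVea.1.is_comm.comm ⟨a, hWV ha⟩ ⟨b, hWV hb⟩
    have h2 : a * b = b * a := congrArg Subtype.val this
    exact h2
  · intro D hDK hKD hDp
    -- `p'`-elements of `D` centralize `V`
    have hA : ∀ x ∈ D, (orderOf x).Coprime p → x ∈ Subgroup.centralizer (V : Set L) := by
      intro x hx hxc
      have hxW : x ∈ Subgroup.centralizer (W : Set L) := by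
        obtain ⟨k, hk⟩ := hDp x hx
        obtain ⟨m, hm⟩ := exists_pow_eq_self_of_coprime (x := x) (n := p ^ k)
          (Nat.Coprime.pow_left k hxc.symm)
        rw [← hm]
        exact Subgroup.pow_mem _ hk m
      have hxB : x ∈ B := mem_pResSub (hDK hx) hxc
      rw [Subgroup.mem_centralizer_iff]
      intro v hv
      have hc : v⁻¹ * x * v * x⁻¹ ∈ W := by
        have := Subgroup.commutator_mem_commutator (H₁ := V) (H₂ := B) (V.inv_mem hv) hxB
        rw [commutatorElement_def, inv_inv] at this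
        exact this
      have hcomm : Commute x (v⁻¹ * x * v * x⁻¹) :=
        ((Subgroup.mem_centralizer_iff.mp hxW) _ hc).symm
      have hcp : ∃ k : ℕ, orderOf (v⁻¹ * x * v * x⁻¹) = p ^ k := by
        obtain ⟨k, hk⟩ := IsPGroup.iff_orderOf.mp hVp ⟨_, hWV hc⟩
        rw [Subgroup.orderOf_mk] at hk
        exact ⟨k, hk⟩
      exact (commute_of_commute_comm x v hxc hcomm hcp).symm
    have hB' : ∀ d ∈ D, ∃ k : ℕ, d ^ p ^ k ∈ Subgroup.centralizer (V : Set L) := by
      intro d hd
      have hp : p.Prime := Fact.out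
      have hd0 : orderOf d ≠ 0 := (orderOf_pos d).ne'
      obtain ⟨a, m, hm, hdm⟩ := Nat.exists_eq_pow_mul_and_not_dvd hd0 p hp.ne_one
      refine ⟨a, ?_⟩
      apply hA _ (D.pow_mem hd _)
      rw [orderOf_pow' d (pow_ne_zero a hp.ne_zero), hdm, Nat.gcd_eq_right (Dvd.intro _ rfl),
        Nat.mul_div_cancel_left m (pow_pos hp.pos a)]
      exact ((Nat.Prime.coprime_iff_not_dvd hp).mpr hm).symm
    have hDsn : D.IsSubnormal :=
      Subgroup.IsSubnormal.trans hDK
        ((Subgroup.normal_subgroupOf_iff_le_normalizer hDK).mpr hKD).isSubnormal hK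
    exact (subnormal_le_centralizer_of_pReduced hV hDsn hB').trans (Subgroup.centralizer_le hWV)

end Cfsg.Agent.Lib.Helper6
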