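import Mathlib
import Cfsg.Agent.Lib.Helper6.PReduced3
import Cfsg.Agent.Lib.Helper6.YL2

set_option autoImplicit false

/-! Subgroup-level API for the largest `p`-reduced normal subgroup `Y_X` of a subgroup `X`. -/

namespace Cfsg.Agent.Lib.Helper6

open Cfsg

section
variable {L : Type*} [Group L]

theorem isPGroup_of_isElementaryAbelian {p : ℕ} {V : Subgroup L}
    (h : IsElementaryAbelian p V) : IsPGroup p V := by
  intro ⟨v, hv⟩
  refine ⟨1, ?_⟩
  apply Subtype.ext
  simp [h.2 v hv]

theorem pReduced_le_pCore' {p : ℕ} {V : Subgroup L} (h : IsPReducedNormal p V) :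
    V ≤ pCore p L :=
  le_pCore h.1 (isPGroup_of_isElementaryAbelian h.2.1)

theorem pReduced_sup' {p : ℕ} {V W : Subgroup L}
    (hV : IsPReducedNormal p V) (hW : IsPReducedNormal p W) : IsPReducedNormal p (V ⊔ W) := by
  have hVQ := pReduced_le_pCore' hV
  have hWQ := pReduced_le_pCore' hW
  have hQV := pReduced_pCore_le_centralizer hV
  have hQW := pReduced_pCore_le_centralizer hW
  rw [isPReducedNormal_iff] at hV hW ⊢
  obtain ⟨hVn, ⟨hVc, hVp⟩, hVr⟩ := hV
  obtain ⟨hWn, ⟨hWc, hWp⟩, hWr⟩ := hW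
  have hVV : V ≤ Subgroup.centralizer (V : Set L) := Subgroup.le_centralizer_iff_isMulCommutative.mpr hVc
  have hWW : W ≤ Subgroup.centralizer (W : Set L) := Subgroup.le_centralizer_iff_isMulCommutative.mpr hWc
  have hVW : V ≤ Subgroup.centralizer (W : Set L) := hVQ.trans hQW
  have hWV : W ≤ Subgroup.centralizer (V : Set L) := hWQ.trans hQV
  have hsupV : V ⊔ W ≤ Subgroup.centralizer (V : Set L) := sup_le hVV hWV
  have hsupW : V ⊔ W ≤ Subgroup.centralizer (W : Set L) := sup_le hVW hWW
  have hcomm : V ⊔ W ≤ Subgroup.centralizer ((V ⊔ W : Subgroup L) : Set L) := by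
    rw [Subgroup.le_centralizer_iff]
    exact sup_le (Subgroup.le_centralizer_iff.mp hsupV) (Subgroup.le_centralizer_iff.mp hsupW)
  refine ⟨inferInstance, ⟨Subgroup.le_centralizer_iff_isMulCommutative.mp hcomm, ?_⟩, ?_⟩
  · intro a ha
    haveI := hWn
    obtain ⟨v, hv, w, hw, rfl⟩ := Subgroup.mem_sup_of_normal_right.mp ha
    have hc : Commute v w := (Subgroup.mem_centralizer_iff.mp (hVW hv) w hw).symm
    rw [hc.mul_pow, hVp v hv, hWp w hw, one_mul]
  · intro D hD hDp
    have h1 : D ≤ Subgroup.centralizer (V : Set L) := by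
      apply hVr D hD
      intro d hd
      obtain ⟨k, hk⟩ := hDp d hd
      exact ⟨k, Subgroup.centralizer_le (by exact_mod_cast (le_sup_left : V ≤ V ⊔ W)) hk⟩
    have h2 : D ≤ Subgroup.centralizer (W : Set L) := by
      apply hWr D hD
      intro d hd
      obtain ⟨k, hk⟩ := hDp d hd
      exact ⟨k, Subgroup.centralizer_le (by exact_mod_cast (le_sup_right : W ≤ V ⊔ W)) hk⟩
    rw [Subgroup.le_centralizer_iff]
    exact sup_le (Subgroup.le_centralizer_iff.mp h1) (Subgroup.le_centralizer_iff.mp h2)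

/-- the largest `p`-reduced normal subgroup is `p`-reduced normal (no hypothesis on `L`). -/
theorem largestPReduced_spec' {p : ℕ} [Finite L] :
    IsPReducedNormal p (largestPReduced p L) ∧
      ∀ V : Subgroup L, IsPReducedNormal p V → V ≤ largestPReduced p L := by
  obtain ⟨Y, hY⟩ := (Set.toFinite {V : Subgroup L | IsPReducedNormal p V}).exists_maximal
    ⟨⊥, isPReducedNormal_bot p⟩
  have hle : ∀ V : Subgroup L, IsPReducedNormal p V → V ≤ Y := by
    intro V hV
    have h1 : IsPReducedNormal p (Y ⊔ V) := pReduced_sup' hY.prop hV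
    exact le_sup_right.trans (hY.le_of_ge h1 le_sup_left)
  have : largestPReduced p L = Y := by
    unfold largestPReduced
    exact le_antisymm (sSup_le hle) (le_sSup hY.prop)
  rw [this]
  exact ⟨hY.prop, hle⟩

end

section
variable {H : Type*} [Group H]

theorem largestPReducedOf_le (p : ℕ) (X : Subgroup H) : largestPReducedOf p X ≤ X := by
  rintro _ ⟨y, _, rfl⟩; exact y.2

theorem largestPReducedOf_subgroupOf (p : ℕ) (X : Subgroup H) :
    (largestPReducedOf p X).subgroupOf X = largestPReduced p X := by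
  unfold largestPReducedOf
  exact Subgroup.comap_map_eq_self_of_injective X.subtype_injective _

theorem largestPReducedOf_spec [Finite H] (p : ℕ) (X : Subgroup H) :
    X ≤ Subgroup.normalizer (largestPReducedOf p X : Set H) ∧
      IsElementaryAbelian p (largestPReducedOf p X) ∧ RedOn p (largestPReducedOf p X) X := by
  have h := (largestPReduced_spec' (p := p) (L := ↥X)).1
  rw [← largestPReducedOf_subgroupOf, isPReducedNormal_subgroupOf_iff (largestPReducedOf_le p X)] at h
  exact h

theorem le_largestPReducedOf [Finite H] {p : ℕ} {V X : Subgroup H} (hVX : V ≤ X)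
    (hn : X ≤ Subgroup.normalizer (V : Set H)) (he : IsElementaryAbelian p V)
    (hr : RedOn p V X) : V ≤ largestPReducedOf p X := by
  have h1 : IsPReducedNormal p (V.subgroupOf X) :=
    (isPReducedNormal_subgroupOf_iff hVX).mpr ⟨hn, he, hr⟩
  have h2 := (largestPReduced_spec' (p := p) (L := ↥X)).2 _ h1
  intro v hv
  exact ⟨⟨v, hVX hv⟩, h2 (Subgroup.mem_subgroupOf.mpr hv), rfl⟩

theorem largestPReducedOf_le_centralizer [Finite H] (p : ℕ) (X : Subgroup H) :
    largestPReducedOf p X ≤ Subgroup.centralizer (largestPReducedOf p X : Set H) :=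
  Subgroup.le_centralizer_iff_isMulCommutative.mpr (largestPReducedOf_spec p X).2.1.1

/-- `O_p(X)` centralizes `Y_X`. -/
theorem pCoreOf_le_centralizer_largestPReducedOf' [Finite H] (p : ℕ) (X : Subgroup H) :
    pCoreOf p X ≤ Subgroup.centralizer (largestPReducedOf p X : Set H) := by
  have hY := (largestPReduced_spec' (p := p) (L := ↥X)).1
  have h2 := pReduced_pCore_le_centralizer hY
  rintro _ ⟨q, hq, rfl⟩
  rw [Subgroup.mem_centralizer_iff]
  rintro _ ⟨y, hy, rfl⟩
  have := Subgroup.mem_centralizer_iff.mp (h2 hq) y hy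
  exact congrArg Subtype.val this

/-- `Y_X ≤ O_p(X)`. -/
theorem largestPReducedOf_le_pCoreOf [Finite H] (p : ℕ) (X : Subgroup H) :
    largestPReducedOf p X ≤ pCoreOf p X := by
  have hY := (largestPReduced_spec' (p := p) (L := ↥X)).1
  exact Subgroup.map_mono (pReduced_le_pCore' hY)

theorem omegaOne_map_subtype (p : ℕ) (X : Subgroup H) (K : Subgroup ↥X) :
    (omegaOne p K).map X.subtype = omegaOne p (K.map X.subtype) := by
  unfold omegaOne
  rw [MonoidHom.map_closure]
  congr 1
  ext y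
  constructor
  · rintro ⟨x, ⟨hxK, hxp⟩, rfl⟩
    refine ⟨⟨x, hxK, rfl⟩, ?_⟩
    have := congrArg Subtype.val hxp
    simpa using this
  · rintro ⟨⟨x, hxK, rfl⟩, hxp⟩
    refine ⟨x, ⟨hxK, ?_⟩, rfl⟩
    apply Subtype.ext
    simpa using hxp

theorem map_subtype_inf_centralizer (X : Subgroup H) (K : Subgroup ↥X) :
    (K ⊓ Subgroup.centralizer (K : Set ↥X)).map X.subtype =
      K.map X.subtype ⊓ Subgroup.centralizer ((K.map X.subtype : Subgroup H) : Set H) := by
  ext y
  constructor
  · rintro ⟨x, hx, rfl⟩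
    obtain ⟨hx1, hx2⟩ := Subgroup.mem_inf.mp hx
    refine Subgroup.mem_inf.mpr ⟨⟨x, hx1, rfl⟩, ?_⟩
    rw [Subgroup.mem_centralizer_iff]
    rintro _ ⟨k, hk, rfl⟩
    exact congrArg Subtype.val ((Subgroup.mem_centralizer_iff.mp hx2) k hk)
  · intro hy
    obtain ⟨⟨x, hx1, rfl⟩, hy2⟩ := Subgroup.mem_inf.mp hy
    refine ⟨x, Subgroup.mem_inf.mpr ⟨hx1, ?_⟩, rfl⟩
    rw [Subgroup.mem_centralizer_iff]
    intro k hk
    apply Subtype.ext
    exact (Subgroup.mem_centralizer_iff.mp hy2) (k : H) ⟨k, hk, rfl⟩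

/-- `Y_X = Ω₁(Z(C_T(Y_X)))` for `X` of characteristic `p` containing the Sylow `p`-subgroup `T`. -/
theorem largestPReducedOf_eq_omegaZ [Finite H] {p : ℕ} [Fact p.Prime] (T : Sylow p H)
    (X : Subgroup H) (hTX : (T : Subgroup H) ≤ X)
    (hX : Subgroup.centralizer (pCore p ↥X : Set ↥X) ≤ pCore p ↥X) :
    largestPReducedOf p X = omegaZ p ((T : Subgroup H) ⊓
      Subgroup.centralizer (largestPReducedOf p X : Set H)) := by
  classical
  set TX : Sylow p ↥X := T.subtype hTX with hTXdef
  set Y' : Subgroup ↥X := largestPReduced p ↥X with hY'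
  set TL : Subgroup ↥X := (TX : Subgroup ↥X) ⊓ Subgroup.centralizer (Y' : Set ↥X) with hTL
  have h := (largest_pReduced_structure hX TX Y' (largestPReduced_spec hX) TL rfl).2.2
  have hmap : TL.map X.subtype = (T : Subgroup H) ⊓
      Subgroup.centralizer (largestPReducedOf p X : Set H) := by
    ext y
    constructor
    · rintro ⟨x, hx, rfl⟩
      obtain ⟨hx1, hx2⟩ := Subgroup.mem_inf.mp hx
      refine Subgroup.mem_inf.mpr ⟨?_, ?_⟩
      · have : x ∈ (T : Subgroup H).subgroupOf X := hx1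
        exact Subgroup.mem_subgroupOf.mp this
      · rw [Subgroup.mem_centralizer_iff]
        rintro _ ⟨k, hk, rfl⟩
        exact congrArg Subtype.val ((Subgroup.mem_centralizer_iff.mp hx2) k hk)
    · intro hy
      obtain ⟨hy1, hy2⟩ := Subgroup.mem_inf.mp hy
      refine ⟨⟨y, hTX hy1⟩, Subgroup.mem_inf.mpr ⟨?_, ?_⟩, rfl⟩
      · show (⟨y, hTX hy1⟩ : ↥X) ∈ (T : Subgroup H).subgroupOf X
        exact Subgroup.mem_subgroupOf.mpr hy1
      · rw [Subgroup.mem_centralizer_iff]
        intro k hk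
        apply Subtype.ext
        exact (Subgroup.mem_centralizer_iff.mp hy2) (k : H) ⟨k, hk, rfl⟩
  show Y'.map X.subtype = _
  rw [h, omegaOne_map_subtype, map_subtype_inf_centralizer, hmap]
  rfl

end

end Cfsg.Agent.Lib.Helper6
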