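import Mathlib
import Cfsg.Agent.Lib.Helper6.PReduced5
import Cfsg.Agent.Lib.Helper6.PReduced4
import Cfsg.Agent.Lib.Helper6.Stability
import Cfsg.Agent.Lib.Helper6.PRes
import Cfsg.Agent.Lib.Helper6.Amalgam4
import Cfsg.Agent.Lib.Lead.Coprime
import Cfsg.Agent.Lib.Lead.Nilpotent

set_option autoImplicit false

/-! `Y_L` for a subnormal subgroup `L`: `C_L(Y_L) = C_L(Y_H)`. -/

namespace Cfsg.Agent.Lib.Helper6

open Cfsg
open scoped commutatorElement

local notation "cj[" g "]" Q:max => Subgroup.map (MulEquiv.toMonoidHom (MulAut.conj g)) Q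

section
variable {H : Type*} [Group H]

theorem conj_mem_of_le_normalizer {D X : Subgroup H} (h : X ≤ Subgroup.normalizer (D : Set H))
    {x d : H} (hx : x ∈ X) (hd : d ∈ D) : x * d * x⁻¹ ∈ D :=
  (Subgroup.mem_normalizer_iff.mp (h hx) d).mp hd

theorem conj_mem_of_le_normalizer' {D X : Subgroup H} (h : X ≤ Subgroup.normalizer (D : Set H))
    {x d : H} (hx : x ∈ X) (hd : d ∈ D) : x⁻¹ * d * x ∈ D := by
  have := conj_mem_of_le_normalizer h (X.inv_mem hx) hd
  simpa using this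

theorem le_normalizer_of_conj_mem {D X : Subgroup H}
    (h : ∀ x ∈ X, ∀ d ∈ D, x * d * x⁻¹ ∈ D) : X ≤ Subgroup.normalizer (D : Set H) := by
  intro n hn
  rw [Subgroup.mem_normalizer_iff]
  intro x
  constructor
  · exact h n hn x
  · intro hx
    have := h n⁻¹ (Subgroup.inv_mem _ hn) _ hx
    simpa [mul_assoc] using this

/-- a `p`-group `Q` normalizing a nontrivial `p`-group `P` centralizes a nontrivial element of `P`. -/
theorem exists_ne_one_mem_inf_centralizer' [Finite H] {p : ℕ} [Fact p.Prime] {Q P : Subgroup H}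
    (hQ : IsPGroup p ↥Q) (hP : IsPGroup p ↥P) (hQP : Q ≤ Subgroup.normalizer (P : Set H))
    (hP1 : P ≠ ⊥) : ∃ y : H, y ≠ 1 ∧ y ∈ P ⊓ Subgroup.centralizer (Q : Set H) := by
  set R : Subgroup H := Q ⊔ P with hR
  have hRp : IsPGroup p R := by
    rw [hR, sup_comm]; exact IsPGroup.to_sup_of_normal_left' hP hQ hQP
  have hPR : P ≤ R := le_sup_right
  have hRN : R ≤ Subgroup.normalizer (P : Set H) := sup_le hQP Subgroup.le_normalizer
  haveI hn : (P.subgroupOf R).Normal := Subgroup.normal_subgroupOf_of_le_normalizer hRN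
  haveI : Group.IsNilpotent ↥R := hRp.isNilpotent
  have hne : P.subgroupOf R ≠ ⊥ := by
    intro h
    apply hP1
    rw [Subgroup.subgroupOf_eq_bot] at h
    have := h.eq_bot
    rwa [inf_of_le_left hPR] at this
  have h1 := Cfsg.Agent.Lib.Lead.inf_center_ne_bot (P.subgroupOf R) hne
  obtain ⟨⟨x, hx⟩, hx1⟩ := (Subgroup.ne_bot_iff_exists_ne_one).mp h1
  obtain ⟨hxP, hxZ⟩ := Subgroup.mem_inf.mp hx
  refine ⟨(x : H), ?_, Subgroup.mem_inf.mpr ⟨Subgroup.mem_subgroupOf.mp hxP, ?_⟩⟩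
  · intro h
    apply hx1
    apply Subtype.ext
    apply Subtype.ext
    simpa using h
  · rw [Subgroup.mem_centralizer_iff]
    intro q hq
    have := (Subgroup.mem_center_iff.mp hxZ) ⟨q, (le_sup_left : Q ≤ R) hq⟩
    exact congrArg Subtype.val this

/-- some `p`-power power of `d` has order prime to `p`, and so do all higher ones. -/
theorem exists_pow_coprime [Finite H] (p : ℕ) [hp : Fact p.Prime] (d : H) :
    ∃ a : ℕ, ∀ k : ℕ, (orderOf (d ^ p ^ (a + k))).Coprime p := by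
  have hd0 : orderOf d ≠ 0 := (orderOf_pos d).ne'
  obtain ⟨a, m, hm, hdm⟩ := Nat.exists_eq_pow_mul_and_not_dvd hd0 p hp.out.ne_one
  refine ⟨a, fun k => ?_⟩
  have h1 : (d ^ p ^ (a + k)) ^ m = 1 := by
    rw [← pow_mul, pow_add, mul_right_comm, ← hdm, pow_mul, pow_orderOf_eq_one, one_pow]
  have h2 : orderOf (d ^ p ^ (a + k)) ∣ m := orderOf_dvd_of_pow_eq_one h1
  have h3 : m.Coprime p := ((Nat.Prime.coprime_iff_not_dvd hp.out).mpr hm).symm
  exact Nat.Coprime.coprime_dvd_left h2 h3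

/-- an element of order prime to `p` lies in the cyclic group generated by any of its `p`-power
powers. -/
theorem mem_of_pow_mem_of_coprime {p : ℕ} {d : H} (hd : (orderOf d).Coprime p) (k : ℕ)
    {S : Subgroup H} (h : d ^ p ^ k ∈ S) : d ∈ S := by
  obtain ⟨m, hm⟩ := exists_pow_eq_self_of_coprime (Nat.Coprime.pow_right k hd).symm
  rw [← hm]
  exact S.pow_mem h m

/-- **Key subnormal lemma.** A `p'`-element of the subnormal subgroup `L` centralizing `N ∩ L`
(`N` a normal `p`-subgroup) centralizes `N`. -/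
theorem mem_centralizer_of_subnormal_coprime [Finite H] {p : ℕ} [Fact p.Prime] {N : Subgroup H}
    [hNn : N.Normal] (hN : IsPGroup p N) {L : Subgroup H} (hL : L.IsSubnormal) :
    ∀ d ∈ L, (orderOf d).Coprime p →
      d ∈ Subgroup.centralizer ((N ⊓ L : Subgroup H) : Set H) →
      d ∈ Subgroup.centralizer (N : Set H) := by
  induction hL with
  | top =>
    intro d _ _ hd
    simpa using hd
  | step L K hLK hK hn ih =>
    intro d hdL hco hd
    apply ih d (hLK hdL) hco
    rw [Subgroup.mem_centralizer_iff]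
    intro y hy
    obtain ⟨hyN, hyK⟩ := Subgroup.mem_inf.mp hy
    have hcN : y⁻¹ * d * y * d⁻¹ ∈ N := by
      have h1 : d * y * d⁻¹ ∈ N := hNn.conj_mem y hyN d
      have e : y⁻¹ * d * y * d⁻¹ = y⁻¹ * (d * y * d⁻¹) := by group
      rw [e]; exact N.mul_mem (N.inv_mem hyN) h1
    have hcL : y⁻¹ * d * y * d⁻¹ ∈ L := by
      have h1 := hn.conj_mem ⟨d, hLK hdL⟩ (Subgroup.mem_subgroupOf.mpr hdL) (⟨y, hyK⟩ : ↥K)⁻¹
      rw [Subgroup.mem_subgroupOf] at h1
      have h2 : y⁻¹ * d * y ∈ L := by simpa using h1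
      exact L.mul_mem h2 (L.inv_mem hdL)
    have hc : Commute d (y⁻¹ * d * y * d⁻¹) :=
      ((Subgroup.mem_centralizer_iff.mp hd) _ (Subgroup.mem_inf.mpr ⟨hcN, hcL⟩)).symm
    have hcp : ∃ k : ℕ, orderOf (y⁻¹ * d * y * d⁻¹) = p ^ k := by
      obtain ⟨k, hk⟩ := (IsPGroup.iff_orderOf.mp hN) ⟨_, hcN⟩
      exact ⟨k, by rw [← hk]; exact (Subgroup.orderOf_mk _ hcN).symm⟩
    exact (commute_of_commute_comm d y hco hc hcp).symm

/-- A subnormal subgroup `D ≤ L` acting as a `p`-group on `Y ∩ L` centralizes the `p`-reduced normal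
subgroup `Y`. -/
theorem le_centralizer_of_subnormal_of_acts [Finite H] {p : ℕ} [Fact p.Prime] {Y : Subgroup H}
    (hY : IsPReducedNormal p Y) {L : Subgroup H} (hL : L.IsSubnormal) {D : Subgroup H}
    (hD : D.IsSubnormal) (hDL : D ≤ L)
    (hact : ∀ d ∈ D, ∃ k : ℕ, d ^ p ^ k ∈ Subgroup.centralizer ((Y ⊓ L : Subgroup H) : Set H)) :
    D ≤ Subgroup.centralizer (Y : Set H) := by
  haveI hYn : Y.Normal := hY.1
  have hYp : IsPGroup p Y := isPGroup_of_isElementaryAbelian hY.2.1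
  apply subnormal_le_centralizer_of_pReduced hY hD
  intro d hd
  obtain ⟨k, hk⟩ := hact d hd
  obtain ⟨a, ha⟩ := exists_pow_coprime p d
  refine ⟨a + k, ?_⟩
  apply mem_centralizer_of_subnormal_coprime hYp hL _ (hDL (D.pow_mem hd _)) (ha k)
  have e : d ^ p ^ (a + k) = (d ^ p ^ k) ^ p ^ a := by
    rw [← pow_mul, pow_add, mul_comm]
  rw [e]
  exact Subgroup.pow_mem _ hk _

/-! ### conjugation equivariance -/

theorem RedOn.map_conj {p : ℕ} {W X : Subgroup H} (h : RedOn p W X) (k : H) :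
    RedOn p (cj[k] W) (cj[k] X) := by
  intro D hDX hXD hDp
  have h1 : cj[k⁻¹] D ≤ X := by
    rw [map_conj_le_iff, inv_inv]; exact hDX
  have h2 : X ≤ Subgroup.normalizer ((cj[k⁻¹] D : Subgroup H) : Set H) := by
    rw [← normalizer_map_conj]
    have := Subgroup.map_mono (f := (MulAut.conj k⁻¹).toMonoidHom) hXD
    rwa [map_conj_map_conj, inv_mul_cancel, map_conj_one] at this
  have h3 : ∀ d ∈ cj[k⁻¹] D, ∃ n : ℕ, d ^ p ^ n ∈ Subgroup.centralizer (W : Set H) := by
    rintro _ ⟨d, hd, rfl⟩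
    obtain ⟨n, hn⟩ := hDp d hd
    refine ⟨n, ?_⟩
    rw [← centralizer_map_conj, mem_map_conj] at hn
    simp only [MulEquiv.coe_toMonoidHom, MulAut.conj_apply, inv_inv]
    have e : (k⁻¹ * d * k) ^ p ^ n = k⁻¹ * d ^ p ^ n * k := by
      have := conj_pow (a := k⁻¹) (b := d) (i := p ^ n)
      simpa using this
    rw [e]
    exact hn
  have h4 := h _ h1 h2 h3
  have h5 := Subgroup.map_mono (f := (MulAut.conj k).toMonoidHom) h4
  rw [centralizer_map_conj] at h5
  have : cj[k] (cj[k⁻¹] D) = D := by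
    rw [map_conj_map_conj, mul_inv_cancel, map_conj_one]
  rwa [this] at h5

theorem isElementaryAbelian_map_conj {p : ℕ} {W : Subgroup H} (h : IsElementaryAbelian p W)
    (k : H) : IsElementaryAbelian p (cj[k] W) := by
  obtain ⟨hc, hp⟩ := h
  refine ⟨?_, ?_⟩
  · haveI := hc
    infer_instance
  · rintro _ ⟨w, hw, rfl⟩
    simp only [MulEquiv.coe_toMonoidHom, MulAut.conj_apply]
    rw [conj_pow, hp w hw]; simp

theorem largestPReducedOf_map_conj_le [Finite H] (p : ℕ) (X : Subgroup H) (k : H) :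
    cj[k] (largestPReducedOf p X) ≤ largestPReducedOf p (cj[k] X) := by
  obtain ⟨h1, h2, h3⟩ := largestPReducedOf_spec p X
  apply le_largestPReducedOf (Subgroup.map_mono (largestPReducedOf_le p X))
  · rw [← normalizer_map_conj]
    exact Subgroup.map_mono h1
  · exact isElementaryAbelian_map_conj h2 k
  · exact h3.map_conj k

theorem le_normalizer_largestPReducedOf_of_le_normalizer [Finite H] (p : ℕ) {K L : Subgroup H}
    (h : K ≤ Subgroup.normalizer (L : Set H)) :
    K ≤ Subgroup.normalizer (largestPReducedOf p L : Set H) := by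
  intro k hk
  apply mem_normalizer_of_map_conj_le
  have h1 := largestPReducedOf_map_conj_le p L k
  rwa [map_conj_eq_self_of_mem_normalizer (h hk)] at h1

end

end Cfsg.Agent.Lib.Helper6
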