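import Mathlib
import Cfsg.Agent.Lib.Helper6.PReduced6

set_option autoImplicit false

/-! `Y_L` for a subnormal subgroup `L`: `C_L(Y_L) = C_L(Y_H)` (continued). -/

namespace Cfsg.Agent.Lib.Helper6

open Cfsg
open scoped commutatorElement

local notation "cj[" g "]" Q:max => Subgroup.map (MulEquiv.toMonoidHom (MulAut.conj g)) Q

section
variable {H : Type*} [Group H]

/-- elements of `N(W)` commuting with every element of `D` modulo `C(W)` -/
def commModCentralizer (W D : Subgroup H) : Subgroup H where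
  carrier := {a | a ∈ Subgroup.normalizer (W : Set H) ∧
    ∀ d ∈ D, d * a * d⁻¹ * a⁻¹ ∈ Subgroup.centralizer (W : Set H)}
  one_mem' := ⟨Subgroup.one_mem _, fun d _ => by simp [Subgroup.one_mem]⟩
  mul_mem' := by
    rintro a b ⟨ha1, ha2⟩ ⟨hb1, hb2⟩
    refine ⟨Subgroup.mul_mem _ ha1 hb1, ?_⟩
    intro d hd
    have e : d * (a * b) * d⁻¹ * (a * b)⁻¹
        = (d * a * d⁻¹ * a⁻¹) * (a * (d * b * d⁻¹ * b⁻¹) * a⁻¹) := by group
    rw [e]
    exact Subgroup.mul_mem _ (ha2 d hd)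
      (conj_mem_of_le_normalizer (normalizer_le_normalizer_centralizer W) ha1 (hb2 d hd))
  inv_mem' := by
    rintro a ⟨ha1, ha2⟩
    refine ⟨Subgroup.inv_mem _ ha1, ?_⟩
    intro d hd
    have e : d * a⁻¹ * d⁻¹ * a⁻¹⁻¹ = a⁻¹ * (d * a * d⁻¹ * a⁻¹)⁻¹ * a⁻¹⁻¹ := by group
    rw [e]
    exact conj_mem_of_le_normalizer (normalizer_le_normalizer_centralizer W)
      (Subgroup.inv_mem _ ha1) (Subgroup.inv_mem _ (ha2 d hd))

theorem isMulCommutative_of_le {W U : Subgroup H} (h : W ≤ U) [hU : IsMulCommutative U] :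
    IsMulCommutative W := by
  refine ⟨⟨?_⟩⟩
  rintro ⟨a, ha⟩ ⟨b, hb⟩
  have := hU.is_comm.comm ⟨a, h ha⟩ ⟨b, h hb⟩
  have h2 : a * b = b * a := congrArg Subtype.val this
  exact Subtype.ext h2

/-- **`P × Q` lemma, abelian version modulo the centralizer.** -/
theorem coprime_centralizes_of_centralizes_fixed [Finite H] {p : ℕ} [Fact p.Prime]
    {W D : Subgroup H} (hWp : IsPGroup p W) [hWc : IsMulCommutative W]
    (hDW : D ≤ Subgroup.normalizer (W : Set H))
    (hDact : ∀ d ∈ D, ∃ k : ℕ, d ^ p ^ k ∈ Subgroup.centralizer (W : Set H)) {x : H}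
    (hxW : x ∈ Subgroup.normalizer (W : Set H)) (hx : (orderOf x).Coprime p)
    (hxD : ∀ d ∈ D, d * x * d⁻¹ * x⁻¹ ∈ Subgroup.centralizer (W : Set H))
    (hfix : x ∈ Subgroup.centralizer ((W ⊓ Subgroup.centralizer (D : Set H) : Subgroup H) : Set H)) :
    x ∈ Subgroup.centralizer (W : Set H) := by
  classical
  set A : Subgroup H := Subgroup.zpowers x with hA
  have hAW : A ≤ Subgroup.normalizer (W : Set H) := by
    rw [hA, Subgroup.zpowers_le]; exact hxW
  have hAcomm : A ≤ commModCentralizer W D := by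
    rw [hA, Subgroup.zpowers_le]; exact ⟨hxW, hxD⟩
  have hcop : (Nat.card A).Coprime (Nat.card W) := by
    obtain ⟨n, hn⟩ := (IsPGroup.iff_card).mp hWp
    rw [hn, hA, Nat.card_zpowers]
    exact Nat.Coprime.pow_right n hx
  obtain ⟨hdisj, hsup⟩ := Cfsg.Agent.Lib.Lead.coprime_abelian_decomp A W hAW hcop
  set W₁ : Subgroup H := ⁅W, A⁆ with hW₁
  have hW₁W : W₁ ≤ W := Cfsg.Agent.Lib.Lead.commutator_le_of_le_normalizer A W hAW
  by_cases hbot : W₁ = ⊥
  · rw [hbot, sup_bot_eq] at hsup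
    have h1 : W ≤ Subgroup.centralizer (A : Set H) := by
      intro w hw
      have : w ∈ W ⊓ Subgroup.centralizer (A : Set H) := by rw [hsup]; exact hw
      exact (Subgroup.mem_inf.mp this).2
    rw [Subgroup.mem_centralizer_iff]
    intro w hw
    exact ((Subgroup.mem_centralizer_iff.mp (h1 hw)) x (Subgroup.mem_zpowers x)).symm
  exfalso
  -- `D` normalizes `W₁`
  have hDW₁ : D ≤ Subgroup.normalizer (W₁ : Set H) := by
    intro d hd
    apply mem_normalizer_of_map_conj_le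
    rw [Subgroup.map_le_iff_le_comap, hW₁, Subgroup.commutator_le]
    intro w hw a ha
    rw [Subgroup.mem_comap]
    show d * ⁅w, a⁆ * d⁻¹ ∈ ⁅W, A⁆
    have hw' : d * w * d⁻¹ ∈ W := conj_mem_of_le_normalizer hDW hd hw
    have hc : d * a * d⁻¹ * a⁻¹ ∈ Subgroup.centralizer (W : Set H) := (hAcomm ha).2 d hd
    have hv : a * (d * w * d⁻¹)⁻¹ * a⁻¹ ∈ W :=
      conj_mem_of_le_normalizer hAW ha (W.inv_mem hw')
    have hcv := (Subgroup.mem_centralizer_iff.mp hc) _ hv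
    have e1 : d * ⁅w, a⁆ * d⁻¹ = (d * w * d⁻¹) *
        ((d * a * d⁻¹ * a⁻¹) * (a * (d * w * d⁻¹)⁻¹ * a⁻¹) * (d * a * d⁻¹ * a⁻¹)⁻¹) := by
      rw [commutatorElement_def]; group
    have e2 : (d * a * d⁻¹ * a⁻¹) * (a * (d * w * d⁻¹)⁻¹ * a⁻¹) * (d * a * d⁻¹ * a⁻¹)⁻¹
        = a * (d * w * d⁻¹)⁻¹ * a⁻¹ := by
      rw [← hcv]; group
    have e3 : (d * w * d⁻¹) * (a * (d * w * d⁻¹)⁻¹ * a⁻¹) = ⁅d * w * d⁻¹, a⁆ := by
      rw [commutatorElement_def]; group
    rw [e1, e2, e3]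
    exact Subgroup.commutator_mem_commutator hw' ha
  -- a Sylow `p`-subgroup of `D`
  obtain ⟨P⟩ : Nonempty (Sylow p ↥D) := inferInstance
  set P₁ : Subgroup H := (P : Subgroup ↥D).map D.subtype with hP₁
  have hP₁D : P₁ ≤ D := Subgroup.map_subtype_le _
  have hP₁p : IsPGroup p P₁ := P.isPGroup'.map _
  obtain ⟨y, hy1, hy2⟩ := exists_ne_one_mem_inf_centralizer' hP₁p (hWp.to_le hW₁W)
    (hP₁D.trans hDW₁) hbot
  obtain ⟨hyW₁, hyP⟩ := Subgroup.mem_inf.mp hy2
  have hyW : y ∈ W := hW₁W hyW₁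
  -- `y` is centralized by `D`
  have hres : pResidual p ↥D ≤ (Subgroup.centralizer (W : Set H)).subgroupOf D := by
    apply pResidual_le_of_forall
    intro g hg
    rw [Subgroup.mem_subgroupOf]
    obtain ⟨k, hk⟩ := hDact (g : H) g.2
    have hg' : (orderOf (g : H)).Coprime p := by
      rw [Subgroup.orderOf_coe]; exact hg
    exact mem_of_pow_mem_of_coprime hg' k hk
  have hyD : y ∈ Subgroup.centralizer (D : Set H) := by
    rw [Subgroup.mem_centralizer_iff]
    intro d hd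
    have htop := pResidual_sup_sylow P
    have hd' : (⟨d, hd⟩ : ↥D) ∈ pResidual p ↥D ⊔ (P : Subgroup ↥D) := by rw [htop]; trivial
    rw [Subgroup.mem_sup_of_normal_left] at hd'
    obtain ⟨c, hc, u, hu, hcu⟩ := hd'
    have hd_eq : d = (c : H) * (u : H) := by
      have := congrArg Subtype.val hcu
      simpa using this.symm
    have hcy : (c : H) * y = y * (c : H) :=
      ((Subgroup.mem_centralizer_iff.mp (Subgroup.mem_subgroupOf.mp (hres hc))) y hyW).symm
    have huy : (u : H) * y = y * (u : H) :=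
      (Subgroup.mem_centralizer_iff.mp hyP) (u : H) ⟨u, hu, rfl⟩
    rw [hd_eq, mul_assoc, huy, ← mul_assoc, hcy, mul_assoc]
  have hxy : y * x = x * y :=
    (Subgroup.mem_centralizer_iff.mp hfix) y (Subgroup.mem_inf.mpr ⟨hyW, hyD⟩)
  have hyA : y ∈ Subgroup.centralizer (A : Set H) := by
    rw [Subgroup.mem_centralizer_iff]
    intro z hz
    obtain ⟨k, rfl⟩ := Subgroup.mem_zpowers_iff.mp hz
    have hc : Commute x y := hxy.symm
    exact (hc.zpow_left k).eq
  have : y ∈ (W ⊓ Subgroup.centralizer (A : Set H)) ⊓ W₁ :=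
    Subgroup.mem_inf.mpr ⟨Subgroup.mem_inf.mpr ⟨hyW, hyA⟩, hyW₁⟩
  rw [hdisj, Subgroup.mem_bot] at this
  exact hy1 this

end

end Cfsg.Agent.Lib.Helper6
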