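import Mathlib
import Cfsg.Agent.Lib.Helper6.PReduced7

set_option autoImplicit false

/-! `Y_L` for a subnormal subgroup `L`: `C_L(Y_H) ≤ C_L(Y_L)`. -/

namespace Cfsg.Agent.Lib.Helper6

open Cfsg
open scoped commutatorElement

section
variable {H : Type*} [Group H]

/-- relative normal case: `L ⊴ K` implies `C_L(Y_K) ≤ C_L(Y_L)`. -/
theorem inf_centralizer_largestPReducedOf_le_of_normal [Finite H] {p : ℕ} [Fact p.Prime]
    {L K : Subgroup H} (hLK : L ≤ K) (hKL : K ≤ Subgroup.normalizer (L : Set H)) :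
    L ⊓ Subgroup.centralizer (largestPReducedOf p K : Set H) ≤
      Subgroup.centralizer (largestPReducedOf p L : Set H) := by
  classical
  set U : Subgroup H := largestPReducedOf p L with hU
  obtain ⟨hLU, hUe, hUr⟩ := largestPReducedOf_spec p L
  rw [← hU] at hLU hUe hUr
  have hUL : U ≤ L := largestPReducedOf_le p L
  have hKU : K ≤ Subgroup.normalizer (U : Set H) :=
    le_normalizer_largestPReducedOf_of_le_normalizer p hKL
  let 𝓦 : Set (Subgroup H) := {W | W ≤ U ∧ K ≤ Subgroup.normalizer (W : Set H) ∧ RedOn p W L ∧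
    L ⊓ Subgroup.centralizer (W : Set H) ≤ Subgroup.centralizer (U : Set H)}
  have hU𝓦 : U ∈ 𝓦 := ⟨le_rfl, hKU, hUr, inf_le_right⟩
  obtain ⟨W, hW⟩ := (Set.toFinite 𝓦).exists_minimal ⟨U, hU𝓦⟩
  obtain ⟨hWU, hKW, hWr, hWC⟩ := hW.prop
  haveI := hUe.1
  have hWe : IsElementaryAbelian p W :=
    ⟨isMulCommutative_of_le hWU, fun a ha => hUe.2 a (hWU ha)⟩
  haveI := hWe.1
  have hWp : IsPGroup p W := isPGroup_of_isElementaryAbelian hWe
  have hWK : RedOn p W K := by
    intro D hDK hKD hDp
    set W' : Subgroup H := W ⊓ Subgroup.centralizer (D : Set H) with hW'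
    have hA : ∀ x ∈ L, (orderOf x).Coprime p →
        x ∈ Subgroup.centralizer (W' : Set H) → x ∈ Subgroup.centralizer (W : Set H) := by
      intro x hxL hco hxW'
      apply coprime_centralizes_of_centralizes_fixed hWp (hDK.trans hKW) hDp (hKW (hLK hxL)) hco
        _ hxW'
      intro d hd
      have hcL : d * x * d⁻¹ * x⁻¹ ∈ L :=
        L.mul_mem (conj_mem_of_le_normalizer hKL (hDK hd) hxL) (L.inv_mem hxL)
      have hcD : d * x * d⁻¹ * x⁻¹ ∈ D := by
        have h1 : x * d⁻¹ * x⁻¹ ∈ D := conj_mem_of_le_normalizer hKD (hLK hxL) (D.inv_mem hd)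
        have e : d * x * d⁻¹ * x⁻¹ = d * (x * d⁻¹ * x⁻¹) := by group
        rw [e]; exact D.mul_mem hd h1
      have hF : L ⊓ D ≤ Subgroup.centralizer (W : Set H) := by
        apply hWr (L ⊓ D) inf_le_left
        · apply le_normalizer_of_conj_mem
          intro l hl f hf
          obtain ⟨hf1, hf2⟩ := Subgroup.mem_inf.mp hf
          exact Subgroup.mem_inf.mpr ⟨L.mul_mem (L.mul_mem hl hf1) (L.inv_mem hl),
            conj_mem_of_le_normalizer hKD (hLK hl) hf2⟩
        · intro f hf
          exact hDp f (Subgroup.mem_inf.mp hf).2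
      exact hF (Subgroup.mem_inf.mpr ⟨hcL, hcD⟩)
    have hB : ∀ E : Subgroup H, E ≤ L → L ≤ Subgroup.normalizer (E : Set H) →
        (∀ e ∈ E, ∃ k : ℕ, e ^ p ^ k ∈ Subgroup.centralizer (W' : Set H)) →
        E ≤ Subgroup.centralizer (W : Set H) := by
      intro E hEL hLE hEp
      apply hWr E hEL hLE
      intro e he
      obtain ⟨k, hk⟩ := hEp e he
      obtain ⟨a, ha⟩ := exists_pow_coprime p e
      refine ⟨a + k, ?_⟩
      apply hA _ (hEL (E.pow_mem he _)) (ha k)
      have e' : e ^ p ^ (a + k) = (e ^ p ^ k) ^ p ^ a := by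
        rw [← pow_mul, pow_add, mul_comm]
      rw [e']
      exact Subgroup.pow_mem _ hk _
    have hW'W : W' ≤ W := inf_le_left
    have hCWW' : Subgroup.centralizer (W : Set H) ≤ Subgroup.centralizer (W' : Set H) :=
      Subgroup.centralizer_le (by exact_mod_cast hW'W)
    have hKW' : K ≤ Subgroup.normalizer (W' : Set H) := by
      apply le_normalizer_of_conj_mem
      intro k hk w hw
      obtain ⟨hw1, hw2⟩ := Subgroup.mem_inf.mp hw
      exact Subgroup.mem_inf.mpr ⟨conj_mem_of_le_normalizer hKW hk hw1,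
        conj_mem_of_le_normalizer (hKD.trans (normalizer_le_normalizer_centralizer D)) hk hw2⟩
    have hW'𝓦 : W' ∈ 𝓦 := by
      refine ⟨hW'W.trans hWU, hKW', ?_, ?_⟩
      · intro D₁ hD₁L hLD₁ hD₁p
        exact (hB D₁ hD₁L hLD₁ hD₁p).trans hCWW'
      · have h1 : L ⊓ Subgroup.centralizer (W' : Set H) ≤ Subgroup.centralizer (W : Set H) := by
          apply hB _ inf_le_left
          · apply le_normalizer_of_conj_mem
            intro l hl f hf
            obtain ⟨hf1, hf2⟩ := Subgroup.mem_inf.mp hf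
            exact Subgroup.mem_inf.mpr ⟨L.mul_mem (L.mul_mem hl hf1) (L.inv_mem hl),
              conj_mem_of_le_normalizer
                (hKW'.trans (normalizer_le_normalizer_centralizer W')) (hLK hl) hf2⟩
          · intro e he
            exact ⟨0, by simpa using (Subgroup.mem_inf.mp he).2⟩
        exact (le_inf inf_le_left h1).trans hWC
    have h2 : W ≤ W' := hW.le_of_le hW'𝓦 hW'W
    rw [Subgroup.le_centralizer_iff]
    exact h2.trans inf_le_right
  have hWYK : W ≤ largestPReducedOf p K :=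
    le_largestPReducedOf (hWU.trans (hUL.trans hLK)) hKW hWe hWK
  calc L ⊓ Subgroup.centralizer (largestPReducedOf p K : Set H)
      ≤ L ⊓ Subgroup.centralizer (W : Set H) :=
        inf_le_inf_left _ (Subgroup.centralizer_le (by exact_mod_cast hWYK))
    _ ≤ Subgroup.centralizer (U : Set H) := hWC

theorem largestPReducedOf_top_le [Finite H] (p : ℕ) :
    largestPReducedOf p (⊤ : Subgroup H) ≤ largestPReduced p H := by
  obtain ⟨h1, h2, h3⟩ := largestPReducedOf_spec p (⊤ : Subgroup H)
  apply (largestPReduced_spec' (p := p) (L := H)).2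
  rw [isPReducedNormal_iff]
  refine ⟨?_, h2, ?_⟩
  · exact Subgroup.normalizer_eq_top_iff.mp (top_le_iff.mp h1)
  · intro D hD hDp
    exact h3 D le_top (by rw [Subgroup.normalizer_eq_top_iff.mpr hD]) hDp

/-- **`C_L(Y_H) ≤ C_L(Y_L)`** for a subnormal subgroup `L` of the finite group `H`. -/
theorem inf_centralizer_largestPReduced_le [Finite H] {p : ℕ} [Fact p.Prime] {L : Subgroup H}
    (hL : L.IsSubnormal) :
    L ⊓ Subgroup.centralizer (largestPReduced p H : Set H) ≤
      Subgroup.centralizer (largestPReducedOf p L : Set H) := by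
  induction hL with
  | top =>
    exact inf_le_right.trans
      (Subgroup.centralizer_le (by exact_mod_cast largestPReducedOf_top_le (H := H) p))
  | step L K hLK hK hn ih =>
    have hKL : K ≤ Subgroup.normalizer (L : Set H) :=
      (Subgroup.normal_subgroupOf_iff_le_normalizer hLK).mp hn
    have h1 := inf_centralizer_largestPReducedOf_le_of_normal (p := p) hLK hKL
    refine le_trans ?_ h1
    exact le_inf inf_le_left ((inf_le_inf_right _ hLK).trans ih)

end

end Cfsg.Agent.Lib.Helper6
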