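import Mathlib

set_option autoImplicit false

namespace Cfsg.Agent.Lib.Helper6.PermOrd

open Equiv

theorem prime_dvd_multiset_lcm {p : ℕ} (hp : p.Prime) (s : Multiset ℕ) (h : p ∣ s.lcm) :
    ∃ a ∈ s, p ∣ a := by
  induction s using Multiset.induction_on with
  | empty =>
    rw [Multiset.lcm_zero] at h
    exact absurd (Nat.dvd_one.mp h) hp.one_lt.ne'
  | cons a s ih =>
    rw [Multiset.lcm_cons] at h
    have h1 : GCDMonoid.lcm a s.lcm ∣ a * s.lcm := lcm_dvd (dvd_mul_right a _) (dvd_mul_left _ a)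
    rcases (Nat.Prime.dvd_mul hp).mp (dvd_trans h h1) with h2 | h2
    · exact ⟨a, Multiset.mem_cons_self a s, h2⟩
    · obtain ⟨b, hb, hpb⟩ := ih h2
      exact ⟨b, Multiset.mem_cons_of_mem hb, hpb⟩

theorem add_le_sum_of_mem_of_ne (s : Multiset ℕ) {a b : ℕ} (ha : a ∈ s) (hb : b ∈ s) (hab : a ≠ b) :
    a + b ≤ s.sum := by
  obtain ⟨t, rfl⟩ := Multiset.exists_cons_of_mem ha
  rw [Multiset.sum_cons]
  have hbt : b ∈ t := by
    rcases Multiset.mem_cons.mp hb with h | h
    · exact absurd h.symm hab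
    · exact h
  have := Multiset.le_sum_of_mem hbt
  omega

/-- no permutation on fewer than `p + q` points has order `p * q` for distinct primes `p`, `q` -/
theorem orderOf_ne_mul {α : Type*} [Fintype α] [DecidableEq α] (σ : Perm α) {p q : ℕ} (hp : p.Prime)
    (hq : q.Prime) (hpq : p ≠ q) (hn : Fintype.card α < p + q) : orderOf σ ≠ p * q := by
  intro h
  rw [← Perm.lcm_cycleType] at h
  obtain ⟨a, ha, hpa⟩ := prime_dvd_multiset_lcm hp σ.cycleType (h ▸ dvd_mul_right p q)
  obtain ⟨b, hb, hqb⟩ := prime_dvd_multiset_lcm hq σ.cycleType (h ▸ dvd_mul_left q p)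
  have hsum : σ.cycleType.sum ≤ Fintype.card α := by
    rw [Perm.sum_cycleType]
    exact Finset.card_le_univ _
  have hapos : 0 < a := by have := Perm.two_le_of_mem_cycleType ha; omega
  have hbpos : 0 < b := by have := Perm.two_le_of_mem_cycleType hb; omega
  by_cases hab : a = b
  · subst hab
    have hcop : Nat.Coprime p q := (Nat.coprime_primes hp hq).mpr hpq
    have hpqa : p * q ∣ a := hcop.mul_dvd_of_dvd_of_dvd hpa hqb
    have h1 : p * q ≤ a := Nat.le_of_dvd hapos hpqa
    have h2 : a ≤ σ.cycleType.sum := Multiset.le_sum_of_mem ha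
    have h3 : p + q ≤ p * q := by
      have := hp.two_le
      have := hq.two_le
      nlinarith
    omega
  · have h1 := add_le_sum_of_mem_of_ne _ ha hb hab
    have h2 : p ≤ a := Nat.le_of_dvd hapos hpa
    have h3 : q ≤ b := Nat.le_of_dvd hbpos hqb
    omega

end Cfsg.Agent.Lib.Helper6.PermOrd
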