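import Mathlib

set_option autoImplicit false

namespace Cfsg.Agent.Lib.Helper6.PrimePowSucc

theorem odd_sum_range_iff (f : ℕ → ℤ) (hf : ∀ i, Odd (f i)) (n : ℕ) :
    Odd (∑ i ∈ Finset.range n, f i) ↔ Odd n := by
  induction n with
  | zero => simp
  | succ n ih =>
    rw [Finset.sum_range_succ, Int.odd_add, ih, Nat.odd_add_one, ← Int.not_odd_iff_even]
    have := hf n
    tauto

/-- the alternating geometric sum `(x^n + 1)/(x + 1)` for odd `n` and odd `x` is odd -/
theorem odd_cofactor_add {x n c : ℕ} (hx : Odd x) (hn : Odd n) (h : x ^ n + 1 = (x + 1) * c) : Odd c := by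
  -- work in `ZMod 2`... use integers
  have key : ((∑ i ∈ Finset.range n, (x : ℤ) ^ i * (-1) ^ (n - 1 - i)) * ((x : ℤ) - (-1))) =
      (x : ℤ) ^ n - (-1) ^ n := (Commute.all (x : ℤ) (-1)).geom_sum₂_mul n
  rw [hn.neg_one_pow] at key
  have h' : ((x : ℤ) ^ n + 1) = ((x : ℤ) + 1) * (c : ℤ) := by exact_mod_cast h
  have hx1 : ((x : ℤ) + 1) ≠ 0 := by positivity
  have hc : (c : ℤ) = ∑ i ∈ Finset.range n, (x : ℤ) ^ i * (-1) ^ (n - 1 - i) := by
    apply mul_left_cancel₀ hx1
    rw [← h']
    have : (x : ℤ) - (-1) = x + 1 := by ring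
    rw [this] at key
    linarith [key]
  have hodd : Odd (∑ i ∈ Finset.range n, (x : ℤ) ^ i * (-1) ^ (n - 1 - i)) := by
    rw [odd_sum_range_iff (fun i => (x : ℤ) ^ i * (-1) ^ (n - 1 - i))]
    · exact hn
    · intro i
      apply Odd.mul
      · exact Odd.pow (by exact_mod_cast hx)
      · exact Odd.pow (by decide)
  rw [← hc] at hodd
  exact_mod_cast hodd

/-- the geometric sum `(x^n - 1)/(x - 1)` for odd `n` and odd `x` is odd -/
theorem odd_cofactor_sub {x n c : ℕ} (hx : Odd x) (hn : Odd n) (h : x ^ n = (x - 1) * c + 1) (hx1 : 1 < x) :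
    Odd c := by
  have key : ((∑ i ∈ Finset.range n, (x : ℤ) ^ i) * ((x : ℤ) - 1)) = (x : ℤ) ^ n - 1 := geom_sum_mul _ n
  have h' : ((x : ℤ) ^ n) = ((x : ℤ) - 1) * (c : ℤ) + 1 := by
    have : ((x - 1 : ℕ) : ℤ) = (x : ℤ) - 1 := by
      rw [Nat.cast_sub hx1.le]; simp
    rw [← this]
    exact_mod_cast h
  have hx1' : ((x : ℤ) - 1) ≠ 0 := by
    have : (1 : ℤ) < x := by exact_mod_cast hx1
    linarith
  have hc : (c : ℤ) = ∑ i ∈ Finset.range n, (x : ℤ) ^ i := by
    apply mul_left_cancel₀ hx1'
    linarith [key]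
  have hodd : Odd (∑ i ∈ Finset.range n, (x : ℤ) ^ i) := by
    rw [odd_sum_range_iff (fun i => (x : ℤ) ^ i)]
    · exact hn
    · intro i
      exact Odd.pow (by exact_mod_cast hx)
  rw [← hc] at hodd
  exact_mod_cast hodd

theorem eq_one_of_odd_of_dvd_two_pow {c k : ℕ} (hc : Odd c) (h : c ∣ 2 ^ k) : c = 1 := by
  obtain ⟨i, _, rfl⟩ := (Nat.dvd_prime_pow Nat.prime_two).mp h
  rcases Nat.eq_zero_or_pos i with h0 | h0
  · rw [h0, pow_zero]
  · exfalso
    have : Even (2 ^ i) := (Nat.even_pow.mpr ⟨even_two, by omega⟩)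
    exact (Nat.not_odd_iff_even.mpr this) hc

theorem prime_pow_eq_prime_pow_succ {q p d a : ℕ} (hq : q.Prime) (hp : p.Prime) (hd : 1 ≤ d)
    (ha : 1 ≤ a) (h : q ^ d = p ^ a + 1) :
    (q = 2 ∧ a = 1) ∨ (p = 2 ∧ d = 1) ∨ (p = 2 ∧ q = 3 ∧ d = 2) := by
  rcases hq.eq_two_or_odd' with rfl | hqodd
  · -- `q = 2`
    left
    refine ⟨rfl, ?_⟩
    have hpodd : Odd p := by
      rcases hp.eq_two_or_odd' with rfl | h'
      · exfalso
        have h1 : Even (2 ^ d) := Nat.even_pow.mpr ⟨even_two, by omega⟩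
        have h2 : Even (2 ^ a) := Nat.even_pow.mpr ⟨even_two, by omega⟩
        rw [h] at h1
        have := (Nat.even_add_one.mp h1)
        exact this h2
      · exact h'
    by_contra ha1
    have ha2 : 2 ≤ a := by omega
    have hpa : Odd (p ^ a) := hpodd.pow
    rcases Nat.even_or_odd a with hae | hao
    · -- `a` even: `p ^ a ≡ 1 mod 4`
      obtain ⟨b, rfl⟩ := hae
      have h1 : p ^ (b + b) % 4 = 1 := by
        rw [pow_add, ← pow_two]
        obtain ⟨k, hk⟩ := (hpodd.pow (n := b))
        rw [hk]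
        have : (2 * k + 1) ^ 2 = 4 * (k * k + k) + 1 := by ring
        rw [this]; omega
      have h2 : 2 ^ d % 4 = 2 := by rw [h]; omega
      rcases Nat.lt_or_ge d 2 with hd2 | hd2
      · have hd1 : d = 1 := by omega
        subst hd1
        have : p ^ (b + b) = 1 := by omega
        have h3 : 2 ≤ p := hp.two_le
        have : 2 ^ 1 ≤ p ^ (b + b) := by
          calc 2 ^ 1 ≤ p ^ 1 := by simpa using h3
            _ ≤ p ^ (b + b) := Nat.pow_le_pow_right (by omega) (by omega)
        omega
      · obtain ⟨e, rfl⟩ := Nat.exists_eq_add_of_le hd2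
        rw [pow_add] at h2
        omega
    · -- `a` odd
      obtain ⟨c, hc⟩ := Odd.nat_add_dvd_pow_add_pow p 1 hao
      rw [one_pow] at hc
      have hcodd : Odd c := odd_cofactor_add hpodd hao hc
      have hcd : c ∣ 2 ^ d := ⟨p + 1, by rw [h, hc]; ring⟩
      have hc1 := eq_one_of_odd_of_dvd_two_pow hcodd hcd
      rw [hc1, mul_one] at hc
      have : p ^ a = p ^ 1 := by rw [pow_one]; omega
      have := Nat.pow_right_injective hp.two_le this
      omega
  · -- `q` odd
    have hp2 : p = 2 := by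
      rcases hp.eq_two_or_odd' with rfl | hpodd
      · rfl
      · exfalso
        have h1 : Odd (q ^ d) := hqodd.pow
        have h2 : Odd (p ^ a) := hpodd.pow
        rw [h] at h1
        exact (Nat.not_odd_iff_even.mpr h2.add_one) h1
    subst hp2
    right
    by_cases hd1 : d = 1
    · left; exact ⟨rfl, hd1⟩
    right
    refine ⟨rfl, ?_⟩
    have hq1 : 1 < q := hq.one_lt
    rcases Nat.even_or_odd d with hde | hdo
    · obtain ⟨e, rfl⟩ := hde
      have he : 1 ≤ e := by omega
      have hqe : 1 < q ^ e := Nat.one_lt_pow (by omega) hq1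
      have hfac : (q ^ e - 1) * (q ^ e + 1) = 2 ^ a := by
        have h0 : q ^ (e + e) = q ^ e * q ^ e := pow_add q e e
        obtain ⟨m, hm⟩ := Nat.exists_eq_add_of_lt hqe
        have hm' : q ^ e = m + 2 := by omega
        rw [hm'] at h0 ⊢
        have h1 : m + 2 - 1 = m + 1 := by omega
        rw [h1]
        have h2 : (m + 2) * (m + 2) = (m + 1) * (m + 2 + 1) + 1 := by ring
        omega
      obtain ⟨i, _, hi⟩ := (Nat.dvd_prime_pow Nat.prime_two).mp ⟨_, hfac.symm⟩
      obtain ⟨j, _, hj⟩ := (Nat.dvd_prime_pow Nat.prime_two).mp ⟨_, (by rw [mul_comm] at hfac; exact hfac.symm)⟩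
      have hij : 2 ^ j = 2 ^ i + 2 := by omega
      have hi1 : i = 1 := by
        rcases Nat.lt_or_ge i 1 with h0 | h1
        · have : i = 0 := by omega
          subst this
          exfalso
          have : q ^ e = 2 := by simp at hi; omega
          have h5 : Odd (q ^ e) := hqodd.pow
          rw [this] at h5
          exact absurd h5 (by decide)
        · rcases Nat.lt_or_ge i 2 with h2 | h2
          · omega
          · exfalso
            obtain ⟨i', rfl⟩ := Nat.exists_eq_add_of_le h2
            have hji : 2 + i' < j := by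
              by_contra hle
              push Not at hle
              have : 2 ^ j ≤ 2 ^ (2 + i') := Nat.pow_le_pow_right (by norm_num) hle
              omega
            obtain ⟨j', rfl⟩ := Nat.exists_eq_add_of_lt hji
            have e1 : 2 ^ (2 + i' + j' + 1) = 4 * (2 ^ i' * 2 ^ (j' + 1)) := by ring
            have e2 : 2 ^ (2 + i') = 4 * 2 ^ i' := by ring
            omega
      subst hi1
      have hqe3 : q ^ e = 3 := by omega
      have hq3 : q = 3 := by
        have : q ∣ 3 := by
          rw [← hqe3]; exact dvd_pow_self q (by omega)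
        exact (Nat.prime_dvd_prime_iff_eq hq Nat.prime_three).mp this
      subst hq3
      refine ⟨rfl, ?_⟩
      have : (3 : ℕ) ^ e = 3 ^ 1 := by omega
      have := Nat.pow_right_injective (le_refl 2 |>.trans (by norm_num : 2 ≤ 3)) this
      omega
    · exfalso
      have hq1' : q - 1 ∣ q ^ d - 1 := by
        exact Nat.sub_one_dvd_pow_sub_one q d
      obtain ⟨c, hc⟩ := hq1'
      have hqd : 1 ≤ q ^ d := Nat.one_le_pow _ _ (by omega)
      have hc' : q ^ d = (q - 1) * c + 1 := by omega
      have hcodd : Odd c := odd_cofactor_sub hqodd hdo hc' hq1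
      have hcd : c ∣ 2 ^ a := ⟨q - 1, by rw [mul_comm]; omega⟩
      have hc1 := eq_one_of_odd_of_dvd_two_pow hcodd hcd
      rw [hc1, mul_one] at hc'
      have : q ^ d = q ^ 1 := by
        rw [pow_one]
        have : 1 ≤ q := by omega
        omega
      have := Nat.pow_right_injective hq.two_le this
      omega

end Cfsg.Agent.Lib.Helper6.PrimePowSucc
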