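import Mathlib
import Cfsg.Prelude.Def_LocalEven

set_option autoImplicit false

namespace Cfsg.Agent.Lib.Helper6.QdF

open Matrix

variable (F : Type*) [Field F]

/-- translation matrix -/
def tauMat (v : Fin 2 → F) : Matrix (Fin 3) (Fin 3) F :=
  !![1, 0, v 0; 0, 1, v 1; 0, 0, 1]

/-- block matrix -/
def deltaMat (A : Matrix (Fin 2) (Fin 2) F) : Matrix (Fin 3) (Fin 3) F :=
  !![A 0 0, A 0 1, 0; A 1 0, A 1 1, 0; 0, 0, 1]

theorem det_tauMat (v : Fin 2 → F) : (tauMat F v).det = 1 := by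
  simp [tauMat, Matrix.det_fin_three]

theorem det_deltaMat (A : Matrix (Fin 2) (Fin 2) F) : (deltaMat F A).det = A.det := by
  simp [deltaMat, Matrix.det_fin_three, Matrix.det_fin_two]

theorem tauMat_add (v w : Fin 2 → F) : tauMat F (v + w) = tauMat F v * tauMat F w := by
  ext i j
  fin_cases i <;> fin_cases j <;>
    simp [tauMat, Matrix.mul_apply, Fin.sum_univ_three, add_comm]

theorem tauMat_zero : tauMat F 0 = 1 := by
  ext i j
  fin_cases i <;> fin_cases j <;> simp [tauMat]

theorem deltaMat_mul (A B : Matrix (Fin 2) (Fin 2) F) :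
    deltaMat F (A * B) = deltaMat F A * deltaMat F B := by
  ext i j
  fin_cases i <;> fin_cases j <;>
    simp [deltaMat, Matrix.mul_apply, Fin.sum_univ_three, Fin.sum_univ_two]

theorem deltaMat_one : deltaMat F 1 = 1 := by
  ext i j
  fin_cases i <;> fin_cases j <;> simp [deltaMat]

/-- translations as a homomorphism -/
def tau : Multiplicative (Fin 2 → F) →* Matrix.SpecialLinearGroup (Fin 3) F where
  toFun v := ⟨tauMat F v.toAdd, det_tauMat F _⟩
  map_one' := Subtype.ext (tauMat_zero F)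
  map_mul' v w := Subtype.ext (tauMat_add F _ _)

/-- the block embedding of `SL₂` -/
def delta : Matrix.SpecialLinearGroup (Fin 2) F →*
    Matrix.SpecialLinearGroup (Fin 3) F where
  toFun A := ⟨deltaMat F A.1, by rw [det_deltaMat]; exact A.2⟩
  map_one' := Subtype.ext (deltaMat_one F)
  map_mul' A B := Subtype.ext (deltaMat_mul F _ _)

theorem tau_coe (v : Multiplicative (Fin 2 → F)) :
    ((tau F v : Matrix.SpecialLinearGroup (Fin 3) F) : Matrix (Fin 3) (Fin 3) F) =
      tauMat F v.toAdd := rfl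

theorem delta_coe (A : Matrix.SpecialLinearGroup (Fin 2) F) :
    ((delta F A : Matrix.SpecialLinearGroup (Fin 3) F) : Matrix (Fin 3) (Fin 3) F) =
      deltaMat F A.1 := rfl

theorem tau_mem_qd (v : Multiplicative (Fin 2 → F)) : tau F v ∈ Cfsg.qdOver F := by
  apply Subgroup.subset_closure
  refine ⟨?_, ?_, ?_⟩ <;> simp [tau_coe, tauMat]

theorem delta_mem_qd (A : Matrix.SpecialLinearGroup (Fin 2) F) : delta F A ∈ Cfsg.qdOver F := by
  apply Subgroup.subset_closure
  refine ⟨?_, ?_, ?_⟩ <;> simp [delta_coe, deltaMat]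

/-- the conjugation relation -/
theorem delta_mul_tau (A : Matrix.SpecialLinearGroup (Fin 2) F)
    (v : Multiplicative (Fin 2 → F)) :
    delta F A * tau F v = tau F (Multiplicative.ofAdd (A.1 *ᵥ v.toAdd)) * delta F A := by
  apply Subtype.ext
  rw [Matrix.SpecialLinearGroup.coe_mul, Matrix.SpecialLinearGroup.coe_mul, tau_coe, tau_coe,
    delta_coe]
  ext i j
  fin_cases i <;> fin_cases j <;>
    simp [tauMat, deltaMat, Matrix.mul_apply, Fin.sum_univ_three, Matrix.mulVec, dotProduct,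
      Fin.sum_univ_two]

/-- last row of elements of `Qd(p)` -/
theorem last_row_of_mem_qd {M : Matrix.SpecialLinearGroup (Fin 3) F} (hM : M ∈ Cfsg.qdOver F) :
    M.1 2 0 = 0 ∧ M.1 2 1 = 0 ∧ M.1 2 2 = 1 := by
  unfold Cfsg.qdOver at hM
  induction hM using Subgroup.closure_induction with
  | mem x hx => exact hx
  | one => simp
  | mul a b _ _ ha hb =>
    obtain ⟨a0, a1, a2⟩ := ha
    obtain ⟨b0, b1, b2⟩ := hb
    rw [Matrix.SpecialLinearGroup.coe_mul]
    refine ⟨?_, ?_, ?_⟩ <;> simp [Matrix.mul_apply, Fin.sum_univ_three, a0, a1, a2, b0, b1, b2]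
  | inv a _ ha =>
    obtain ⟨a0, a1, a2⟩ := ha
    have hdet : a.1.det = 1 := a.2
    rw [Matrix.det_fin_three, a0, a1, a2] at hdet
    rw [Matrix.SpecialLinearGroup.coe_inv, Matrix.adjugate_fin_three]
    refine ⟨?_, ?_, ?_⟩
    · simp [a0, a1]
    · simp [a0, a1]
    · simp only [Matrix.of_apply, Matrix.cons_val', Matrix.cons_val_two, Matrix.tail_cons,
        Matrix.head_cons, Matrix.empty_val', Matrix.cons_val_fin_one, Matrix.vecHead]
      linear_combination hdet

/-- every element of `Qd(p)` is a translation times a block matrix -/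
theorem exists_eq_tau_mul_delta {M : Matrix.SpecialLinearGroup (Fin 3) F}
    (hM : M ∈ Cfsg.qdOver F) :
    ∃ (v : Multiplicative (Fin 2 → F)) (A : Matrix.SpecialLinearGroup (Fin 2) F),
      M = tau F v * delta F A := by
  obtain ⟨h0, h1, h2⟩ := last_row_of_mem_qd F hM
  have hdet : M.1.det = 1 := M.2
  rw [Matrix.det_fin_three, h0, h1, h2] at hdet
  refine ⟨Multiplicative.ofAdd ![M.1 0 2, M.1 1 2],
    ⟨!![M.1 0 0, M.1 0 1; M.1 1 0, M.1 1 1], ?_⟩, ?_⟩
  · rw [Matrix.det_fin_two_of]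
    linear_combination hdet
  · apply Subtype.ext
    rw [Matrix.SpecialLinearGroup.coe_mul, tau_coe]
    change M.1 = tauMat F ![M.1 0 2, M.1 1 2] * deltaMat F !![M.1 0 0, M.1 0 1; M.1 1 0, M.1 1 1]
    ext i j
    fin_cases i <;> fin_cases j <;>
      simp [tauMat, deltaMat, Matrix.mul_apply, Fin.sum_univ_three, h0, h1, h2]

/-- upper-left block -/
def blockMat (M : Matrix (Fin 3) (Fin 3) F) : Matrix (Fin 2) (Fin 2) F :=
  !![M 0 0, M 0 1; M 1 0, M 1 1]

theorem det_blockMat {M : Matrix.SpecialLinearGroup (Fin 3) F} (hM : M ∈ Cfsg.qdOver F) :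
    (blockMat F M.1).det = 1 := by
  obtain ⟨h0, h1, h2⟩ := last_row_of_mem_qd F hM
  have hdet : M.1.det = 1 := M.2
  rw [Matrix.det_fin_three, h0, h1, h2] at hdet
  rw [blockMat, Matrix.det_fin_two_of]
  linear_combination hdet

/-- the projection of `Qd(p)` onto `SL₂(p)` -/
def beta : ↥(Cfsg.qdOver F) →* Matrix.SpecialLinearGroup (Fin 2) F where
  toFun M := ⟨blockMat F M.1.1, det_blockMat F M.2⟩
  map_one' := by
    apply Subtype.ext
    ext i j
    fin_cases i <;> fin_cases j <;> simp [blockMat]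
  map_mul' M N := by
    obtain ⟨h0, h1, h2⟩ := last_row_of_mem_qd F N.2
    apply Subtype.ext
    change blockMat F (M.1.1 * N.1.1) = blockMat F M.1.1 * blockMat F N.1.1
    ext i j
    fin_cases i <;> fin_cases j <;>
      simp [blockMat, Matrix.mul_apply, Fin.sum_univ_three, Fin.sum_univ_two, h0, h1]

/-- translations in `Qd(p)` -/
def tauQ : Multiplicative (Fin 2 → F) →* ↥(Cfsg.qdOver F) :=
  (tau F).codRestrict (Cfsg.qdOver F) (tau_mem_qd F)

/-- block matrices in `Qd(p)` -/
def deltaQ : Matrix.SpecialLinearGroup (Fin 2) F →* ↥(Cfsg.qdOver F) :=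
  (delta F).codRestrict (Cfsg.qdOver F) (delta_mem_qd F)

theorem beta_deltaQ (A : Matrix.SpecialLinearGroup (Fin 2) F) : beta F (deltaQ F A) = A := by
  apply Subtype.ext
  ext i j
  fin_cases i <;> fin_cases j <;> rfl

theorem beta_tauQ (v : Multiplicative (Fin 2 → F)) : beta F (tauQ F v) = 1 := by
  apply Subtype.ext
  change blockMat F (tauMat F v.toAdd) = 1
  ext i j
  fin_cases i <;> fin_cases j <;> simp [blockMat, tauMat]

theorem beta_surjective : Function.Surjective (beta F) := fun A => ⟨deltaQ F A, beta_deltaQ F A⟩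

theorem eq_tauQ_mul_deltaQ (M : ↥(Cfsg.qdOver F)) :
    ∃ v : Multiplicative (Fin 2 → F), M = tauQ F v * deltaQ F (beta F M) := by
  obtain ⟨v, A, hM⟩ := exists_eq_tau_mul_delta F M.2
  refine ⟨v, ?_⟩
  have h1 : M = tauQ F v * deltaQ F A := Subtype.ext hM
  have h2 : beta F M = A := by
    rw [h1, map_mul, beta_tauQ, beta_deltaQ, one_mul]
  rw [h2]; exact h1

theorem mem_ker_beta_iff (M : ↥(Cfsg.qdOver F)) :
    M ∈ (beta F).ker ↔ ∃ v : Multiplicative (Fin 2 → F), M = tauQ F v := by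
  constructor
  · intro h
    obtain ⟨v, hv⟩ := eq_tauQ_mul_deltaQ F M
    rw [MonoidHom.mem_ker] at h
    rw [h, map_one, mul_one] at hv
    exact ⟨v, hv⟩
  · rintro ⟨v, rfl⟩
    exact beta_tauQ F v

theorem deltaQ_mul_tauQ (A : Matrix.SpecialLinearGroup (Fin 2) F)
    (v : Multiplicative (Fin 2 → F)) :
    deltaQ F A * tauQ F v = tauQ F (Multiplicative.ofAdd (A.1 *ᵥ v.toAdd)) * deltaQ F A :=
  Subtype.ext (delta_mul_tau F A v)

theorem tauQ_injective : Function.Injective (tauQ F) := by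
  intro v w h
  have h1 : tauMat F v.toAdd = tauMat F w.toAdd :=
    congrArg (fun M : ↥(Cfsg.qdOver F) => (M.1.1 : Matrix (Fin 3) (Fin 3) F)) h
  have e0 := congrFun (congrFun h1 0) 2
  have e1 := congrFun (congrFun h1 1) 2
  simp [tauMat] at e0 e1
  have : v.toAdd = w.toAdd := by
    ext i
    fin_cases i
    · exact e0
    · exact e1
  exact this


end Cfsg.Agent.Lib.Helper6.QdF
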