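import Mathlib
import Cfsg.Agent.Lib.Helper6.QdF1
import Cfsg.Agent.Lib.Helper1.SL2Sylow
import Cfsg.Agent.Lib.Lead.Core
import Cfsg.Agent.Lib.Lead.CoprimeSylow4

set_option autoImplicit false

namespace Cfsg.Agent.Lib.Helper6.QdF

open Matrix Cfsg.Agent.Lib.Helper1

variable (F : Type*) [Field F]

theorem centralizer_ker_beta_le :
    Subgroup.centralizer ((beta F).ker : Set ↥(Cfsg.qdOver F)) ≤ (beta F).ker := by
  intro M hM
  obtain ⟨v, hv⟩ := eq_tauQ_mul_deltaQ F M
  set A := beta F M with hA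
  rw [MonoidHom.mem_ker]
  apply Subtype.ext
  apply Matrix.mulVec_injective
  funext w
  have hw := hM (tauQ F (Multiplicative.ofAdd w)) (beta_tauQ F _)
  rw [hv, mul_assoc, deltaQ_mul_tauQ, ← mul_assoc, ← mul_assoc, ← map_mul, ← map_mul] at hw
  have h1 := mul_right_cancel hw
  have h2 := tauQ_injective F h1
  have h3 := congrArg Multiplicative.toAdd h2
  simp only [toAdd_mul, toAdd_ofAdd] at h3
  rw [Matrix.SpecialLinearGroup.coe_one, Matrix.one_mulVec]
  have h4 : w = A.1 *ᵥ w := add_left_cancel (a := v.toAdd) (by rw [add_comm] at h3; rw [h3, add_comm])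
  exact h4.symm

theorem mem_ker_beta_iff_entries (M : ↥(Cfsg.qdOver F)) :
    M ∈ (beta F).ker ↔
      ((M : Matrix.SpecialLinearGroup (Fin 3) F) : Matrix (Fin 3) (Fin 3) F) 0 0 = 1 ∧
      ((M : Matrix.SpecialLinearGroup (Fin 3) F) : Matrix (Fin 3) (Fin 3) F) 0 1 = 0 ∧
      ((M : Matrix.SpecialLinearGroup (Fin 3) F) : Matrix (Fin 3) (Fin 3) F) 1 0 = 0 ∧
      ((M : Matrix.SpecialLinearGroup (Fin 3) F) : Matrix (Fin 3) (Fin 3) F) 1 1 = 1 := by
  rw [MonoidHom.mem_ker]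
  constructor
  · intro h
    have h1 : blockMat F M.1.1 = 1 := congrArg Subtype.val h
    have e00 := congrFun (congrFun h1 0) 0
    have e01 := congrFun (congrFun h1 0) 1
    have e10 := congrFun (congrFun h1 1) 0
    have e11 := congrFun (congrFun h1 1) 1
    simp [blockMat] at e00 e01 e10 e11
    exact ⟨e00, e01, e10, e11⟩
  · rintro ⟨e00, e01, e10, e11⟩
    apply Subtype.ext
    change blockMat F M.1.1 = 1
    ext i j
    fin_cases i <;> fin_cases j <;> simp [blockMat, e00, e01, e10, e11]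

theorem isPGroup_ker_beta (p : ℕ) [Fact p.Prime] [CharP F p] : IsPGroup p ↥(beta F).ker := by
  rintro ⟨M, hM⟩
  obtain ⟨v, rfl⟩ := (mem_ker_beta_iff F M).mp hM
  refine ⟨1, ?_⟩
  apply Subtype.ext
  rw [pow_one, Subgroup.coe_pow, Subgroup.coe_one, ← map_pow]
  have : v ^ p = 1 := by
    change Multiplicative.ofAdd (p • v.toAdd) = 1
    have : p • v.toAdd = 0 := by
      ext i
      simp [CharP.cast_eq_zero F p]
    rw [this]; rfl
  rw [this, map_one]

/-- a normal `p`-subgroup of `SL₂(F)` is trivial -/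
theorem normal_pgroup_SL2_eq_bot [Fintype F] (p : ℕ) [Fact p.Prime] [CharP F p]
    (P : Subgroup (SpecialLinearGroup (Fin 2) F)) (hP : P.Normal) (hp : IsPGroup p P) : P = ⊥ := by
  rw [eq_bot_iff]
  intro A hA
  have hle : P ≤ uSL F := by
    have := Cfsg.Agent.Lib.Lead.normal_pgroup_le_sylow p P hp (uSLSylow p)
    rw [coe_uSLSylow] at this
    exact this
  obtain ⟨a, ha⟩ := (mem_uSL_iff A).1 (hle hA)
  let J : SpecialLinearGroup (Fin 2) F := ⟨!![0, 1; -1, 0], by simp [Matrix.det_fin_two_of]⟩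
  have hJ : J * A * J⁻¹ ∈ P := hP.conj_mem A hA J
  obtain ⟨b, hb⟩ := (mem_uSL_iff _).1 (hle hJ)
  have hJ00 : J 0 0 = 0 := rfl
  have hJ10 : J 1 0 = -1 := rfl
  rw [ha, conj_t01_of_zero J hJ00, hJ10] at hb
  have h1 := congrArg (fun X : SpecialLinearGroup (Fin 2) F =>
    (X : Matrix (Fin 2) (Fin 2) F) 1 0) hb
  simp only [t01_val, t10_val] at h1
  simp at h1
  rw [Subgroup.mem_bot, ha, h1]
  apply Subtype.ext
  rw [t01_val]
  ext i j
  fin_cases i <;> fin_cases j <;> simp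

theorem pCore_eq_ker_beta [Fintype F] (p : ℕ) [Fact p.Prime] [CharP F p] :
    Cfsg.pCore p ↥(Cfsg.qdOver F) = (beta F).ker := by
  apply le_antisymm
  · intro M hM
    have h1 : ((Cfsg.pCore p ↥(Cfsg.qdOver F)).map (beta F)) = ⊥ := by
      apply normal_pgroup_SL2_eq_bot F p
      · haveI := Cfsg.Agent.Lib.Lead.pCore_normal (G := ↥(Cfsg.qdOver F)) p
        exact Subgroup.Normal.map inferInstance _ (beta_surjective F)
      · exact (Cfsg.Agent.Lib.Lead.pCore_isPGroup p).map _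
    have h2 : beta F M ∈ ((Cfsg.pCore p ↥(Cfsg.qdOver F)).map (beta F)) := ⟨M, hM, rfl⟩
    rw [h1, Subgroup.mem_bot] at h2
    exact h2
  · exact Cfsg.Agent.Lib.Lead.le_pCore inferInstance (isPGroup_ker_beta F p)

end Cfsg.Agent.Lib.Helper6.QdF
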