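import Mathlib

set_option autoImplicit false

namespace Cfsg.Agent.Lib.Helper6

variable {G : Type*} [Group G]

theorem comap_mk_map_mk (N : Subgroup G) [N.Normal] (K : Subgroup G) :
    (K.map (QuotientGroup.mk' N)).comap (QuotientGroup.mk' N) = K ⊔ N := by
  rw [Subgroup.comap_map_eq, QuotientGroup.ker_mk']

theorem comap_mk_map_mk_of_le (N : Subgroup G) [N.Normal] {K : Subgroup G} (h : N ≤ K) :
    (K.map (QuotientGroup.mk' N)).comap (QuotientGroup.mk' N) = K := by
  rw [comap_mk_map_mk, sup_eq_left.mpr h]

theorem map_mk_comap_mk (N : Subgroup G) [N.Normal] (K : Subgroup (G ⧸ N)) :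
    (K.comap (QuotientGroup.mk' N)).map (QuotientGroup.mk' N) = K :=
  Subgroup.map_comap_eq_self_of_surjective (QuotientGroup.mk'_surjective N) K

theorem le_comap_mk (N : Subgroup G) [N.Normal] (K : Subgroup (G ⧸ N)) :
    N ≤ K.comap (QuotientGroup.mk' N) := by
  intro n hn
  rw [Subgroup.mem_comap]
  have : (QuotientGroup.mk' N) n = 1 := (QuotientGroup.eq_one_iff n).mpr hn
  rw [this]; exact K.one_mem

theorem comap_mk_eq_top_iff (N : Subgroup G) [N.Normal] (K : Subgroup (G ⧸ N)) :
    K.comap (QuotientGroup.mk' N) = ⊤ ↔ K = ⊤ := by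
  constructor
  · intro h
    rw [← map_mk_comap_mk N K, h, ← MonoidHom.range_eq_map,
      MonoidHom.range_eq_top.mpr (QuotientGroup.mk'_surjective N)]
  · intro h; rw [h]; rfl

theorem isCoatom_comap_mk_iff (N : Subgroup G) [N.Normal] (M : Subgroup (G ⧸ N)) :
    IsCoatom (M.comap (QuotientGroup.mk' N)) ↔ IsCoatom M := by
  constructor
  · intro h
    constructor
    · intro htop
      exact h.1 ((comap_mk_eq_top_iff N M).mpr htop)
    · intro K hK
      have h1 : M.comap (QuotientGroup.mk' N) < K.comap (QuotientGroup.mk' N) := by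
        apply lt_of_le_of_ne (Subgroup.comap_mono hK.le)
        intro heq
        have : M = K := by rw [← map_mk_comap_mk N M, heq, map_mk_comap_mk]
        exact hK.ne this
      exact (comap_mk_eq_top_iff N K).mp (h.2 _ h1)
  · intro h
    constructor
    · intro htop
      exact h.1 ((comap_mk_eq_top_iff N M).mp htop)
    · intro K hK
      have hNK : N ≤ K := (le_comap_mk N M).trans hK.le
      have h1 : M < K.map (QuotientGroup.mk' N) := by
        apply lt_of_le_of_ne
        · rw [← map_mk_comap_mk N M]; exact Subgroup.map_mono hK.le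
        · intro heq
          have : K = M.comap (QuotientGroup.mk' N) := by
            rw [heq, comap_mk_map_mk_of_le N hNK]
          exact hK.ne this.symm
      have h2 := h.2 _ h1
      rw [← comap_mk_map_mk_of_le N hNK, h2]; rfl

theorem isCoatom_map_mk_iff (N : Subgroup G) [N.Normal] {M : Subgroup G} (hNM : N ≤ M) :
    IsCoatom (M.map (QuotientGroup.mk' N)) ↔ IsCoatom M := by
  rw [← isCoatom_comap_mk_iff, comap_mk_map_mk_of_le N hNM]

end Cfsg.Agent.Lib.Helper6
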