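import Mathlib
import Cfsg.Agent.Lib.Helper6.Simp1

set_option autoImplicit false

namespace Cfsg.Agent.Lib.Helper6.Rank3Reg

open Cfsg.Agent.Lib.Helper6.Simp

/-! # A group of rank three whose degree has three prime divisors has no regular normal subgroup -/

section rank3
variable {G : Type*} [Group G]

/-- the three orbits of a subgroup of rank three cover its cosets -/
theorem cover_of_rank3 (H : Subgroup G) {n s₁ s₂ : ℕ} (hidx : H.index = n)
    (q₁ q₂ : G ⧸ H) (h₁ : (MulAction.orbit H q₁).ncard = s₁)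
    (h₂ : (MulAction.orbit H q₂).ncard = s₂)
    (hsum : 1 + s₁ + s₂ = n) (hs₁ : 1 < s₁) (hs₂ : 1 < s₂) (hne : s₁ ≠ s₂) :
    ∀ q : G ⧸ H, q = ((1 : G) : G ⧸ H) ∨ q ∈ MulAction.orbit H q₁ ∨ q ∈ MulAction.orbit H q₂ := by
  have hn0 : H.index ≠ 0 := by rw [hidx]; omega
  have hfin : Finite (G ⧸ H) := by
    have : Nat.card (G ⧸ H) ≠ 0 := by rw [← Subgroup.index_eq_card]; exact hn0
    exact Nat.finite_of_card_ne_zero this
  set a : G ⧸ H := ((1 : G) : G ⧸ H) with ha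
  have hst : MulAction.stabilizer G a = H := MulAction.stabilizer_quotient H
  have hO0 : MulAction.orbit H a = {a} := by
    ext q
    constructor
    · rintro ⟨h, rfl⟩
      have : (h : G) ∈ MulAction.stabilizer G a := by rw [hst]; exact h.property
      exact this
    · rintro rfl
      exact MulAction.mem_orbit_self _
  have ha1 : a ∉ MulAction.orbit H q₁ := by
    intro h
    have := MulAction.orbit_eq_iff.mpr h
    rw [← this, hO0, Set.ncard_singleton] at h₁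
    omega
  have ha2 : a ∉ MulAction.orbit H q₂ := by
    intro h
    have := MulAction.orbit_eq_iff.mpr h
    rw [← this, hO0, Set.ncard_singleton] at h₂
    omega
  have h12 : Disjoint (MulAction.orbit H q₁) (MulAction.orbit H q₂) := by
    rcases MulAction.orbit.eq_or_disjoint (G := H) q₁ q₂ with h | h
    · rw [h, h₂] at h₁
      exact absurd h₁.symm hne
    · exact h
  have hcov : ({a} ∪ MulAction.orbit H q₁) ∪ MulAction.orbit H q₂ = Set.univ := by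
    apply Set.eq_of_subset_of_ncard_le (Set.subset_univ _)
    rw [Set.ncard_univ, ← Subgroup.index_eq_card, hidx]
    have d1 : Disjoint ({a} : Set (G ⧸ H)) (MulAction.orbit H q₁) :=
      Set.disjoint_singleton_left.mpr ha1
    have d2 : Disjoint (({a} : Set (G ⧸ H)) ∪ MulAction.orbit H q₁) (MulAction.orbit H q₂) := by
      rw [Set.disjoint_union_left]
      exact ⟨Set.disjoint_singleton_left.mpr ha2, h12⟩
    rw [Set.ncard_union_eq d2 (Set.toFinite _) (Set.toFinite _),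
      Set.ncard_union_eq d1 (Set.toFinite _) (Set.toFinite _), Set.ncard_singleton, h₁, h₂, hsum]
  intro q
  have : q ∈ (({a} ∪ MulAction.orbit H q₁) ∪ MulAction.orbit H q₂ : Set (G ⧸ H)) := by
    rw [hcov]; trivial
  rcases this with (hq | hq) | hq
  · exact Or.inl hq
  · exact Or.inr (Or.inl hq)
  · exact Or.inr (Or.inr hq)

/-- two elements of a normal subgroup meeting `H` trivially, whose cosets are in the same orbit of
`H`, have the same order -/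
theorem orderOf_eq_of_orbit (H N : Subgroup G) [hN : N.Normal] (hint : N ⊓ H = ⊥)
    {x y : G} (hx : x ∈ N) (hy : y ∈ N) (q : G ⧸ H)
    (hxq : ((x : G) : G ⧸ H) ∈ MulAction.orbit H q) (hyq : ((y : G) : G ⧸ H) ∈ MulAction.orbit H q) :
    orderOf x = orderOf y := by
  have hyx : ((y : G) : G ⧸ H) ∈ MulAction.orbit H ((x : G) : G ⧸ H) := by
    rw [MulAction.orbit_eq_iff.mpr hxq]
    exact hyq
  obtain ⟨h, hh⟩ := hyx
  have e : ((((h : G) * x * (h : G)⁻¹ : G)) : G ⧸ H) = ((y : G) : G ⧸ H) := by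
    rw [← hh]
    show _ = (((h : G) * x : G) : G ⧸ H)
    rw [QuotientGroup.eq]
    have : ((h : G) * x * (h : G)⁻¹)⁻¹ * ((h : G) * x) = (h : G) := by group
    rw [this]
    exact h.2
  rw [QuotientGroup.eq] at e
  have m1 : ((h : G) * x * (h : G)⁻¹)⁻¹ * y ∈ N :=
    N.mul_mem (N.inv_mem (hN.conj_mem x hx h)) hy
  have m2 : ((h : G) * x * (h : G)⁻¹)⁻¹ * y ∈ N ⊓ H := ⟨m1, e⟩
  rw [hint, Subgroup.mem_bot, inv_mul_eq_one] at m2
  rw [← m2]
  have := MulEquiv.orderOf_eq (MulAut.conj (h : G)) x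
  rw [MulAut.conj_apply] at this
  exact this.symm

/-- a normal subgroup supplementing a subgroup of rank three whose index has three prime divisors
meets it nontrivially -/
theorem inf_ne_bot_of_rank3 [Finite G] (H N : Subgroup G) [hN : N.Normal] {n s₁ s₂ : ℕ}
    (hidx : H.index = n)
    (q₁ q₂ : G ⧸ H) (h₁ : (MulAction.orbit H q₁).ncard = s₁)
    (h₂ : (MulAction.orbit H q₂).ncard = s₂)
    (hsum : 1 + s₁ + s₂ = n) (hs₁ : 1 < s₁) (hs₂ : 1 < s₂) (hne : s₁ ≠ s₂)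
    (hsup : H ⊔ N = ⊤) {p₁ p₂ p₃ : ℕ} [Fact p₁.Prime] [Fact p₂.Prime] [Fact p₃.Prime]
    (hp₁ : p₁ ∣ n) (hp₂ : p₂ ∣ n) (hp₃ : p₃ ∣ n) (h12 : p₁ ≠ p₂) (h13 : p₁ ≠ p₃) (h23 : p₂ ≠ p₃) :
    N ⊓ H ≠ ⊥ := by
  intro hint
  have hdvd : n ∣ Nat.card N := hidx ▸ index_dvd_card_of_sup_eq_top H N hsup
  obtain ⟨x₁, hx₁⟩ := exists_prime_orderOf_dvd_card' p₁ (hp₁.trans hdvd)
  obtain ⟨x₂, hx₂⟩ := exists_prime_orderOf_dvd_card' p₂ (hp₂.trans hdvd)
  obtain ⟨x₃, hx₃⟩ := exists_prime_orderOf_dvd_card' p₃ (hp₃.trans hdvd)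
  rw [← Subgroup.orderOf_coe] at hx₁ hx₂ hx₃
  have hcov := cover_of_rank3 H hidx q₁ q₂ h₁ h₂ hsum hs₁ hs₂ hne
  have hnot : ∀ x : N, ∀ p : ℕ, p.Prime → orderOf (x : G) = p →
      (((x : G) : G ⧸ H) ∈ MulAction.orbit H q₁ ∨ ((x : G) : G ⧸ H) ∈ MulAction.orbit H q₂) := by
    intro x p hp hx
    rcases hcov ((x : G) : G ⧸ H) with h | h
    · exfalso
      rw [QuotientGroup.eq] at h
      have : (x : G) ∈ N ⊓ H := ⟨x.2, by simpa using H.inv_mem h⟩
      rw [hint, Subgroup.mem_bot] at this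
      rw [this, orderOf_one] at hx
      exact hp.one_lt.ne hx
    · exact h
  have c1 := hnot x₁ p₁ (Fact.out) hx₁
  have c2 := hnot x₂ p₂ (Fact.out) hx₂
  have c3 := hnot x₃ p₃ (Fact.out) hx₃
  have key : ∀ (x y : N) (q : G ⧸ H), ((x : G) : G ⧸ H) ∈ MulAction.orbit H q →
      ((y : G) : G ⧸ H) ∈ MulAction.orbit H q → orderOf (x : G) = orderOf (y : G) :=
    fun x y q hx hy => orderOf_eq_of_orbit H N hint x.2 y.2 q hx hy
  rcases c1 with a1 | a1 <;> rcases c2 with a2 | a2 <;> rcases c3 with a3 | a3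
  · exact h12 (hx₁ ▸ hx₂ ▸ key x₁ x₂ _ a1 a2)
  · exact h12 (hx₁ ▸ hx₂ ▸ key x₁ x₂ _ a1 a2)
  · exact h13 (hx₁ ▸ hx₃ ▸ key x₁ x₃ _ a1 a3)
  · exact h23 (hx₂ ▸ hx₃ ▸ key x₂ x₃ _ a2 a3)
  · exact h23 (hx₂ ▸ hx₃ ▸ key x₂ x₃ _ a2 a3)
  · exact h13 (hx₁ ▸ hx₃ ▸ key x₁ x₃ _ a1 a3)
  · exact h12 (hx₁ ▸ hx₂ ▸ key x₁ x₂ _ a1 a2)
  · exact h12 (hx₁ ▸ hx₂ ▸ key x₁ x₂ _ a1 a2)

end rank3

end Cfsg.Agent.Lib.Helper6.Rank3Reg
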