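import Mathlib
import Cfsg.Agent.Lib.Lead.UniqueOrderP5
import Cfsg.Prelude.Def_CaseTheorems

set_option autoImplicit false

namespace Cfsg.Agent.Lib.Helper6

open Cfsg.Agent.Lib.Lead

/-- A finite `p`-group of `p`-rank at most 1 has a unique subgroup of order `p`. -/
theorem uniqueOrderP_of_pRankLE_one {p : ℕ} [hp : Fact p.Prime] {G : Type*} [Group G] [Finite G]
    (hG : IsPGroup p G) (hr : Cfsg.PRankLE p 1 G) : UniqueOrderP p G := by
  classical
  have key : ∀ H K : Subgroup G, Nat.card H = p → Nat.card K = p →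
      K ≤ Subgroup.center G → H = K := by
    intro H K hH hK hKZ
    haveI : Fact (Nat.card H).Prime := ⟨by rw [hH]; exact hp.out⟩
    haveI : Fact (Nat.card K).Prime := ⟨by rw [hK]; exact hp.out⟩
    haveI hHc : IsCyclic H := isCyclic_of_prime_card (hH)
    have hHcomm : ∀ a ∈ H, ∀ b ∈ H, a * b = b * a := by
      intro a ha b hb
      obtain ⟨g, hg⟩ := hHc.exists_generator
      obtain ⟨i, hi⟩ := Subgroup.mem_zpowers_iff.mp (hg ⟨a, ha⟩)
      obtain ⟨j, hj⟩ := Subgroup.mem_zpowers_iff.mp (hg ⟨b, hb⟩)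
      have h1 : (⟨a, ha⟩ : H) * ⟨b, hb⟩ = ⟨b, hb⟩ * ⟨a, ha⟩ := by
        rw [← hi, ← hj, ← zpow_add, ← zpow_add, add_comm]
      exact congrArg Subtype.val h1
    have hHp : ∀ a ∈ H, a ^ p = 1 := by
      intro a ha
      have h1 : (⟨a, ha⟩ : H) ^ Nat.card H = 1 := pow_card_eq_one'
      rw [hH] at h1
      have := congrArg Subtype.val h1
      simpa using this
    have hKp : ∀ a ∈ K, a ^ p = 1 := by
      intro a ha
      have h1 : (⟨a, ha⟩ : K) ^ Nat.card K = 1 := pow_card_eq_one'
      rw [hK] at h1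
      have := congrArg Subtype.val h1
      simpa using this
    set A := H ⊔ K with hA
    have hAC : A ≤ Subgroup.centralizer (A : Set G) := by
      rw [hA, sup_le_iff]
      constructor
      · rw [Subgroup.le_centralizer_iff, sup_le_iff]
        refine ⟨?_, hKZ.trans (Subgroup.center_le_centralizer _)⟩
        intro a ha
        rw [Subgroup.mem_centralizer_iff]
        intro b hb
        exact hHcomm b hb a ha
      · exact hKZ.trans (Subgroup.center_le_centralizer _)
    have hAcomm : ∀ a ∈ A, ∀ b ∈ A, a * b = b * a := by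
      intro a ha b hb
      exact (Subgroup.mem_centralizer_iff.mp (hAC hb) a ha)
    let Ep : Subgroup G :=
      { carrier := {a | a ∈ A ∧ a ^ p = 1}
        mul_mem' := by
          rintro a b ⟨ha, ha1⟩ ⟨hb, hb1⟩
          refine ⟨A.mul_mem ha hb, ?_⟩
          rw [(show Commute a b from hAcomm a ha b hb).mul_pow, ha1, hb1, one_mul]
        one_mem' := ⟨A.one_mem, one_pow _⟩
        inv_mem' := by
          rintro a ⟨ha, ha1⟩
          exact ⟨A.inv_mem ha, by rw [inv_pow, ha1, inv_one]⟩ }
    have hAE : A ≤ Ep := by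
      rw [hA, sup_le_iff]
      exact ⟨fun a ha => ⟨Subgroup.mem_sup_left ha, hHp a ha⟩,
        fun a ha => ⟨Subgroup.mem_sup_right ha, hKp a ha⟩⟩
    have hAcard : Nat.card A ≤ p := by
      have := hr A ⟨⟨fun a b => Subtype.ext (hAcomm a a.2 b b.2)⟩⟩ (fun a ha => (hAE ha).2)
      rwa [pow_one] at this
    have h1 : H = A := Subgroup.eq_of_le_of_card_ge le_sup_left (by rw [hH]; exact hAcard)
    have h2 : K = A := Subgroup.eq_of_le_of_card_ge le_sup_right (by rw [hK]; exact hAcard)
    rw [h1, ← h2]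
  intro H K hH hK
  -- a central subgroup of order p
  have hnt : Nontrivial G := by
    haveI : Nontrivial H := by
      rw [← Finite.one_lt_card_iff_nontrivial, hH]; exact hp.out.one_lt
    obtain ⟨a, b, hab⟩ := exists_pair_ne H
    exact ⟨⟨a, b, fun h => hab (Subtype.ext h)⟩⟩
  haveI : Nontrivial (Subgroup.center G) := hG.center_nontrivial
  have hdvd : p ∣ Nat.card (Subgroup.center G) := by
    obtain ⟨n, hn⟩ := IsPGroup.iff_card.mp (hG.to_subgroup (Subgroup.center G))
    rw [hn]
    have hn0 : n ≠ 0 := by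
      rintro rfl
      rw [pow_zero] at hn
      have := Finite.one_lt_card_iff_nontrivial.mpr (inferInstance : Nontrivial (Subgroup.center G))
      omega
    exact dvd_pow_self p hn0
  obtain ⟨z, hz⟩ := exists_prime_orderOf_dvd_card' (G := Subgroup.center G) p hdvd
  set Z₀ : Subgroup G := Subgroup.zpowers (z : G) with hZ₀
  have hZ₀card : Nat.card Z₀ = p := by
    rw [hZ₀, Nat.card_zpowers, Subgroup.orderOf_coe, hz]
  have hZ₀Z : Z₀ ≤ Subgroup.center G := by
    rw [hZ₀, Subgroup.zpowers_le]; exact z.2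
  rw [key H Z₀ hH hZ₀card hZ₀Z, key K Z₀ hK hZ₀card hZ₀Z]

/-- For odd `p`, a Sylow `p`-subgroup of a group of `p`-rank at most 1 is cyclic. -/
theorem isCyclic_sylow_of_pRankLE_one {p : ℕ} [Fact p.Prime] (hp2 : p ≠ 2) {G : Type*} [Group G]
    [Finite G] (hr : Cfsg.PRankLE p 1 G) (P : Sylow p G) : IsCyclic (P : Subgroup G) := by
  have hrP : Cfsg.PRankLE p 1 (P : Subgroup G) := by
    intro A hA hAp
    have h1 := hr (A.map (P : Subgroup G).subtype)
      ⟨⟨by
        rintro ⟨_, a, ha, rfl⟩ ⟨_, b, hb, rfl⟩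
        apply Subtype.ext
        have := hA.is_comm.comm (⟨a, ha⟩ : A) ⟨b, hb⟩
        have h2 := congrArg (fun x : A => ((x : (P : Subgroup G)) : G)) this
        simpa using h2⟩⟩
      (by
        rintro _ ⟨a, ha, rfl⟩
        have := hAp a ha
        have h2 := congrArg Subtype.val this
        simpa using h2)
    rwa [Subgroup.card_map_of_injective (Subgroup.subtype_injective _)] at h1
  rcases UniqueOrderP.main P.isPGroup' (uniqueOrderP_of_pRankLE_one P.isPGroup' hrP) with h | ⟨h, -⟩
  · exact h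
  · exact absurd h hp2

end Cfsg.Agent.Lib.Helper6
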