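import Mathlib
import Cfsg.Agent.Lib.Helper2.S3557_Base
import Cfsg.Agent.Lib.Helper2.S3557_PAIR

/-!
# S3557 (2-closed transitive groups of degree `2p²` have a derangement of prime order)

Packages GLUE, TRANS and MAIN of helper2's proof (helper6).  The package PAIR (`exists_pair`) is
helper2's, in `Cfsg/Agent/Lib/Helper2/S3557_PAIR.lean`.
-/

set_option autoImplicit false

namespace Cfsg.Agent.Lib.S3557

open MulAction

/-- PKG GLUE: the 2-closure hypothesis glues `z` on `Ω1` and `y` on the complement. -/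
theorem exists_derangement_of_pair {G Ω : Type*} [Group G] [MulAction G Ω] [FaithfulSMul G Ω]
    [Finite Ω] [Nonempty Ω]
    (hcl : ∀ σ : Equiv.Perm Ω, (∀ a b : Ω, ∃ g : G, σ a = g • a ∧ σ b = g • b) →
      ∃ g : G, ∀ a : Ω, σ a = g • a)
    (p : ℕ) (hp : p.Prime) (Ω1 : Set Ω) (z y : G)
    (hz1 : ∀ a, z • a ∈ Ω1 ↔ a ∈ Ω1) (hy1 : ∀ a, y • a ∈ Ω1 ↔ a ∈ Ω1)
    (hzf : ∀ a ∈ Ω1, z • a ≠ a) (hyf : ∀ b ∉ Ω1, y • b ≠ b)
    (hzp : ∀ a ∈ Ω1, z ^ p • a = a) (hyp : ∀ b ∉ Ω1, y ^ p • b = b)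
    (hmix : ∀ a ∈ Ω1, ∀ b ∉ Ω1, ∃ g : G, g • a = z • a ∧ g • b = y • b) :
    ∃ g : G, (orderOf g).Prime ∧ ∀ ω : Ω, g • ω ≠ ω := by
  classical
  have : Fact p.Prime := ⟨hp⟩
  let f : Ω → Ω := fun a => if a ∈ Ω1 then z • a else y • a
  have hf_in : ∀ a, a ∈ Ω1 → f a = z • a := fun a ha => if_pos ha
  have hf_out : ∀ a, a ∉ Ω1 → f a = y • a := fun a ha => if_neg ha
  have hf_mem : ∀ a, f a ∈ Ω1 ↔ a ∈ Ω1 := by
    intro a
    by_cases ha : a ∈ Ω1
    · rw [hf_in a ha]; exact hz1 a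
    · rw [hf_out a ha]; exact hy1 a
  have hinj : Function.Injective f := by
    intro a b hab
    by_cases ha : a ∈ Ω1
    · have hb : b ∈ Ω1 := by
        rw [← hf_mem b, ← hab, hf_mem a]; exact ha
      rw [hf_in a ha, hf_in b hb] at hab
      exact MulAction.injective z hab
    · have hb : b ∉ Ω1 := by
        rw [← hf_mem b, ← hab, hf_mem a]; exact ha
      rw [hf_out a ha, hf_out b hb] at hab
      exact MulAction.injective y hab
  have hbij : Function.Bijective f := hinj.bijective_of_finite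
  let σ : Equiv.Perm Ω := Equiv.ofBijective f hbij
  have hσ : ∀ a, σ a = f a := fun a => rfl
  obtain ⟨g0, hg0⟩ := hcl σ (by
    intro a b
    by_cases ha : a ∈ Ω1
    · by_cases hb : b ∈ Ω1
      · exact ⟨z, by rw [hσ, hf_in a ha], by rw [hσ, hf_in b hb]⟩
      · obtain ⟨g, hga, hgb⟩ := hmix a ha b hb
        exact ⟨g, by rw [hσ, hf_in a ha, hga], by rw [hσ, hf_out b hb, hgb]⟩
    · by_cases hb : b ∈ Ω1
      · obtain ⟨g, hgb, hga⟩ := hmix b hb a ha
        exact ⟨g, by rw [hσ, hf_out a ha, hga], by rw [hσ, hf_in b hb, hgb]⟩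
      · exact ⟨y, by rw [hσ, hf_out a ha], by rw [hσ, hf_out b hb]⟩)
  have hg0f : ∀ a, g0 • a = f a := fun a => by rw [← hσ, hg0]
  -- powers of `g0`
  have hpow_in : ∀ n : ℕ, ∀ a ∈ Ω1, g0 ^ n • a = z ^ n • a ∧ z ^ n • a ∈ Ω1 := by
    intro n
    induction n with
    | zero => intro a ha; simp [ha]
    | succ n ih =>
      intro a ha
      obtain ⟨h1, h2⟩ := ih a ha
      have h3 : g0 ^ (n + 1) • a = z ^ (n + 1) • a := by
        rw [pow_succ', mul_smul, h1, hg0f, hf_in _ h2, pow_succ', mul_smul]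
      refine ⟨h3, ?_⟩
      rw [pow_succ', mul_smul]
      exact (hz1 _).mpr h2
  have hpow_out : ∀ n : ℕ, ∀ a ∉ Ω1, g0 ^ n • a = y ^ n • a ∧ y ^ n • a ∉ Ω1 := by
    intro n
    induction n with
    | zero => intro a ha; simp [ha]
    | succ n ih =>
      intro a ha
      obtain ⟨h1, h2⟩ := ih a ha
      have h3 : g0 ^ (n + 1) • a = y ^ (n + 1) • a := by
        rw [pow_succ', mul_smul, h1, hg0f, hf_out _ h2, pow_succ', mul_smul]
      refine ⟨h3, ?_⟩
      rw [pow_succ', mul_smul]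
      exact fun h => h2 ((hy1 _).mp h)
  have hfpf : ∀ ω : Ω, g0 • ω ≠ ω := by
    intro ω
    by_cases hω : ω ∈ Ω1
    · rw [hg0f, hf_in ω hω]; exact hzf ω hω
    · rw [hg0f, hf_out ω hω]; exact hyf ω hω
  have hgp : g0 ^ p = 1 := by
    apply FaithfulSMul.eq_of_smul_eq_smul (α := Ω)
    intro a
    rw [one_smul]
    by_cases ha : a ∈ Ω1
    · rw [(hpow_in p a ha).1]; exact hzp a ha
    · rw [(hpow_out p a ha).1]; exact hyp a ha
  have hg1 : g0 ≠ 1 := by
    intro h
    obtain ⟨ω⟩ := (inferInstance : Nonempty Ω)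
    exact hfpf ω (by rw [h, one_smul])
  refine ⟨g0, ?_, hfpf⟩
  rw [orderOf_eq_prime hgp hg1]
  exact hp

/-- PKG TRANS: a transitive faithful finite `p`-group on a nontrivial set has a derangement of
order `p`. -/
theorem exists_derangement_of_transitive_pgroup {Q Ω : Type*} [Group Q] [Finite Q] [MulAction Q Ω]
    [FaithfulSMul Q Ω] [Nontrivial Ω] (p : ℕ) [hp : Fact p.Prime] (hQ : IsPGroup p Q)
    (htr : IsPretransitive Q Ω) : ∃ z : Q, orderOf z = p ∧ ∀ ω : Ω, z • ω ≠ ω := by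
  obtain ⟨a, b, hab⟩ := exists_pair_ne Ω
  have htop : (⊤ : Subgroup Q) ≠ ⊥ := by
    intro h
    obtain ⟨g, hg⟩ := htr.exists_smul_eq a b
    have hg1 : g = 1 := by
      have : g ∈ (⊤ : Subgroup Q) := Subgroup.mem_top g
      rw [h, Subgroup.mem_bot] at this
      exact this
    rw [hg1, one_smul] at hg
    exact hab hg
  obtain ⟨w, -, hwc, hwo⟩ :=
    Cfsg.Agent.Lib.Helper2.S3557.exists_central_of_normal p hQ ⊤ htop
  refine ⟨w, hwo, ?_⟩
  intro ω hω
  have hw1 : w = 1 := by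
    apply FaithfulSMul.eq_of_smul_eq_smul (α := Ω)
    intro x
    obtain ⟨h, rfl⟩ := htr.exists_smul_eq ω x
    rw [one_smul, ← mul_smul, ← (Subgroup.mem_center_iff.mp hwc h), mul_smul, hω]
  rw [hw1, orderOf_one] at hwo
  exact hp.out.ne_one hwo.symm

/-- every orbit of a Sylow `p`-subgroup of a transitive group of degree `2p²`, `p` odd, has
length exactly `p²`. -/
theorem card_orbit_sylow_eq_sq {G Ω : Type*} [Group G] [Finite G] [MulAction G Ω] [Finite Ω]
    (htrans : IsPretransitive G Ω) (p : ℕ) [hp : Fact p.Prime] (hp2 : p ≠ 2)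
    (hcard : Nat.card Ω = 2 * p ^ 2) (P : Sylow p G) (α : Ω) :
    Nat.card (orbit (↥(P : Subgroup G)) α) = p ^ 2 := by
  have hdvd : p ^ 2 ∣ Nat.card (orbit (↥(P : Subgroup G)) α) :=
    Cfsg.Agent.Lib.Helper2.S3557.pow_dvd_card_orbit_sylow htrans p P 2
      (by rw [hcard]; exact dvd_mul_left _ _) α
  obtain ⟨n, hn⟩ := (P.isPGroup').card_orbit α
  have hle : Nat.card (orbit (↥(P : Subgroup G)) α) ≤ 2 * p ^ 2 := by
    rw [← hcard]
    exact Nat.card_le_card_of_injective (fun x => (x : Ω)) Subtype.val_injective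
  have hp3 : 3 ≤ p := by
    have h2 := hp.out.two_le
    omega
  have hpos : 0 < p := hp.out.pos
  rw [hn] at hdvd hle ⊢
  have hn2 : 2 ≤ n := (Nat.pow_dvd_pow_iff_le_right hp.out.one_lt).mp hdvd
  have hn3 : n < 3 := by
    by_contra hcon
    have h3 : 3 ≤ n := Nat.le_of_not_lt hcon
    have h4 : p ^ 3 ≤ p ^ n := Nat.pow_le_pow_right hpos h3
    have h5 : p ^ 3 = p * p ^ 2 := by ring
    have h6 : 3 * p ^ 2 ≤ p * p ^ 2 := Nat.mul_le_mul_right _ hp3
    have h7 : 0 < p ^ 2 := Nat.pow_pos hpos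
    omega
  have : n = 2 := by omega
  rw [this]

/-- PKG MAIN: the statement of S3557. -/
theorem main {G Ω : Type*} [Group G] [Finite G] [MulAction G Ω] [FaithfulSMul G Ω] [Finite Ω]
    (htrans : MulAction.IsPretransitive G Ω) (p : ℕ) (hp : p.Prime) (hcard : Nat.card Ω = 2 * p ^ 2)
    (hcl : ∀ σ : Equiv.Perm Ω, (∀ a b : Ω, ∃ g : G, σ a = g • a ∧ σ b = g • b) →
      ∃ g : G, ∀ a : Ω, σ a = g • a) :
    ∃ g : G, (orderOf g).Prime ∧ ∀ ω : Ω, g • ω ≠ ω := by
  classical
  have : Fact p.Prime := ⟨hp⟩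
  have hppos : 0 < p := hp.pos
  have hpos : 0 < Nat.card Ω := by
    rw [hcard]
    exact Nat.mul_pos (by norm_num) (Nat.pow_pos hppos)
  have : Nonempty Ω := (Nat.card_pos_iff.mp hpos).1
  let P : Sylow p G := default
  have hQ : IsPGroup p (↥(P : Subgroup G)) := P.isPGroup'
  have hfaith : FaithfulSMul (↥(P : Subgroup G)) Ω := by
    refine ⟨fun {q1 q2} h => ?_⟩
    apply Subtype.ext
    apply FaithfulSMul.eq_of_smul_eq_smul (α := Ω)
    intro a
    exact h a
  by_cases h2 : p = 2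
  · -- `p = 2`: the Sylow 2-subgroup is transitive on the 8 points
    have hc8 : Nat.card Ω = p ^ 3 := by rw [hcard, h2]; norm_num
    have horb : ∀ α : Ω, orbit (↥(P : Subgroup G)) α = Set.univ := by
      intro α
      have hdvd : p ^ 3 ∣ Nat.card (orbit (↥(P : Subgroup G)) α) :=
        Cfsg.Agent.Lib.Helper2.S3557.pow_dvd_card_orbit_sylow htrans p P 3
          (by rw [hc8]) α
      have hle : Nat.card (orbit (↥(P : Subgroup G)) α) ≤ p ^ 3 := by
        rw [← hc8]
        exact Nat.card_le_card_of_injective (fun x => (x : Ω)) Subtype.val_injective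
      have hposo : 0 < Nat.card (orbit (↥(P : Subgroup G)) α) := by
        have : Nonempty (orbit (↥(P : Subgroup G)) α) := ⟨⟨α, mem_orbit_self α⟩⟩
        exact Nat.card_pos
      have heq : Nat.card (orbit (↥(P : Subgroup G)) α) = p ^ 3 :=
        Nat.le_antisymm hle (Nat.le_of_dvd hposo hdvd)
      rw [Set.eq_univ_iff_ncard, hc8, ← heq]
      rfl
    have htr : IsPretransitive (↥(P : Subgroup G)) Ω := by
      refine ⟨fun a b => ?_⟩
      have hb : b ∈ orbit (↥(P : Subgroup G)) a := by rw [horb a]; exact Set.mem_univ b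
      obtain ⟨q, hq⟩ := hb
      exact ⟨q, hq⟩
    have : Nontrivial Ω := by
      apply (Finite.one_lt_card_iff_nontrivial).mp
      rw [hcard, h2]
      norm_num
    obtain ⟨z, hzo, hzf⟩ := exists_derangement_of_transitive_pgroup p hQ htr
    refine ⟨(z : G), ?_, fun ω => hzf ω⟩
    rw [Subgroup.orderOf_coe, hzo]
    exact hp
  · -- `p` odd: two orbits of length `p²`
    have hc : ∀ α : Ω, Nat.card (orbit (↥(P : Subgroup G)) α) = p ^ 2 :=
      fun α => card_orbit_sylow_eq_sq htrans p h2 hcard P α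
    obtain ⟨a0⟩ := (inferInstance : Nonempty Ω)
    have hp2pos : 0 < p ^ 2 := Nat.pow_pos hppos
    have hnc : ∀ α : Ω, (orbit (↥(P : Subgroup G)) α).ncard = p ^ 2 := fun α => by
      rw [← hc α]; rfl
    obtain ⟨b0, hb0⟩ : ∃ b0 : Ω, b0 ∉ orbit (↥(P : Subgroup G)) a0 := by
      by_contra hcon
      push Not at hcon
      have : orbit (↥(P : Subgroup G)) a0 = Set.univ := Set.eq_univ_of_forall hcon
      have h3 := (Set.eq_univ_iff_ncard _).mp this
      rw [hnc a0, hcard] at h3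
      omega
    have hdisj : Disjoint (orbit (↥(P : Subgroup G)) a0) (orbit (↥(P : Subgroup G)) b0) := by
      rw [Set.disjoint_left]
      intro x hxa hxb
      apply hb0
      have h1 : orbit (↥(P : Subgroup G)) x = orbit (↥(P : Subgroup G)) a0 := orbit_eq_iff.mpr hxa
      have h2' : orbit (↥(P : Subgroup G)) x = orbit (↥(P : Subgroup G)) b0 := orbit_eq_iff.mpr hxb
      rw [← h1, h2']
      exact mem_orbit_self b0
    have hunion : orbit (↥(P : Subgroup G)) a0 ∪ orbit (↥(P : Subgroup G)) b0 = Set.univ := by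
      rw [Set.eq_univ_iff_ncard, Set.ncard_union_eq hdisj, hnc a0, hnc b0, hcard]
      ring
    have hcover : ∀ x : Ω, x ∈ orbit (↥(P : Subgroup G)) a0 ∨ x ∈ orbit (↥(P : Subgroup G)) b0 := by
      intro x
      have : x ∈ orbit (↥(P : Subgroup G)) a0 ∪ orbit (↥(P : Subgroup G)) b0 := by
        rw [hunion]; exact Set.mem_univ x
      exact this
    obtain ⟨z, y, hzf, hyf, hzp, hyp, hmix⟩ := exists_pair p hQ a0 b0 hcover (hc a0) (hc b0)
    have hout : ∀ b : Ω, b ∉ orbit (↥(P : Subgroup G)) a0 → b ∈ orbit (↥(P : Subgroup G)) b0 :=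
      fun b hb => (hcover b).resolve_left hb
    refine exists_derangement_of_pair hcl p hp (orbit (↥(P : Subgroup G)) a0) (z : G) (y : G)
      ?_ ?_ ?_ ?_ ?_ ?_ ?_
    · intro a
      exact Cfsg.Agent.Lib.Helper2.S3557.smul_mem_orbit_iff' z a0 a
    · intro a
      exact Cfsg.Agent.Lib.Helper2.S3557.smul_mem_orbit_iff' y a0 a
    · intro a ha
      exact hzf a ha
    · intro b hb
      exact hyf b (hout b hb)
    · intro a ha
      have := hzp a ha
      rw [Subgroup.smul_def, Subgroup.coe_pow] at this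
      exact this
    · intro b hb
      have := hyp b (hout b hb)
      rw [Subgroup.smul_def, Subgroup.coe_pow] at this
      exact this
    · intro a ha b hb
      obtain ⟨g, hga, hgb⟩ := hmix a ha b (hout b hb)
      exact ⟨(g : G), hga, hgb⟩

end Cfsg.Agent.Lib.S3557
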