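import Mathlib
import Cfsg.Agent.Lib.Helper4.S3571_EMB
import Cfsg.Agent.Lib.Helper9.S3571_THMP
import Cfsg.Agent.Lib.Helper5.S3571_L6

/-!
# S3571, package MAIN (helper6)

Reduction of S3571 to `perm_case` (`m ≠ 6`, via the embedding `G ↪ Perm (Fin m)` of package EMB)
and `alt6_case` (`m = 6`, inside `T ≅ A_6`, using `G = T H`).
Sylvester–Schur is passed through as an explicit hypothesis `SS`.
-/

set_option autoImplicit false

namespace Cfsg.Agent.Lib.Helper6.S3571M

open Equiv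

/-- `|T : T ∩ H| = |G : H|` when `G = H T` with `T` normal. -/
theorem relIndex_eq_index_of_sup_eq_top {G : Type*} [Group G] [Finite G] (H T : Subgroup G)
    [T.Normal] (h : H ⊔ T = ⊤) : H.relIndex T = H.index := by
  have h1 : (H ⊓ T).relIndex T * T.index = (H ⊓ T).index :=
    Subgroup.relIndex_mul_index inf_le_right
  have h2 : (H ⊓ T).relIndex H * H.index = (H ⊓ T).index :=
    Subgroup.relIndex_mul_index inf_le_left
  rw [Subgroup.inf_relIndex_right] at h1
  rw [Subgroup.inf_relIndex_left] at h2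
  have h3 : T.relIndex H = T.index := by
    rw [← Subgroup.relIndex_sup_right, h, Subgroup.relIndex_top_right]
  rw [h3] at h2
  have hT0 : 0 < T.index := Nat.pos_of_ne_zero Subgroup.index_ne_zero_of_finite
  have h4 : H.relIndex T * T.index = H.index * T.index := by rw [h1, ← h2, mul_comm]
  exact Nat.eq_of_mul_eq_mul_right hT0 h4

/-- The case `m ≠ 6`: transport everything to `Perm (Fin m)` by package EMB and use `perm_case`. -/
theorem case_ne_six
    (SS : ∀ n k : ℕ, 1 ≤ k → 2 * k ≤ n → ∃ p, p.Prime ∧ k < p ∧ p ∣ n.choose k)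
    {G : Type*} [Group G] [Finite G]
    (T : Subgroup G) (hT : T.Normal) (hTc : Subgroup.centralizer (T : Set G) = ⊥) (m : ℕ)
    (hm : 5 ≤ m) (h6 : m ≠ 6)
    (eT : ↥T ≃* ↥(alternatingGroup (Fin m))) (H : Subgroup G) (hH : IsCoatom H)
    (hcore : ¬ T ≤ H)
    (r : ℕ) (hr : r.Prime) (hrd : r ∣ H.index)
    (hmax : ∀ s : ℕ, s.Prime → s ∣ H.index → s ≤ r) :
    ∃ g : G, orderOf g = r ∧ ∀ x : G, x⁻¹ * g * x ∉ H := by
  classical
  obtain ⟨ψ, hinj, hψ⟩ := Cfsg.Agent.Lib.S3571.exists_embedding T hT hTc m hm h6 eT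
  have hA : alternatingGroup (Fin m) ≤ ψ.range := by
    intro a ha
    refine ⟨((eT.symm ⟨a, ha⟩ : T) : G), ?_⟩
    rw [hψ]
    simp
  have hHG : H.map ψ ≤ ψ.range := by
    rintro _ ⟨h, _, rfl⟩
    exact ⟨h, rfl⟩
  have hmaxH : ∀ K : Subgroup (Perm (Fin m)), H.map ψ ≤ K → K ≤ ψ.range →
      K = H.map ψ ∨ K = ψ.range := by
    intro K hHK hKG
    have h1 : H ≤ K.comap ψ := by
      intro h hh
      exact hHK ⟨h, hh, rfl⟩
    rcases eq_or_lt_of_le h1 with he | hl
    · left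
      rw [he]
      exact (Subgroup.map_comap_eq_self hKG).symm
    · right
      have htop : K.comap ψ = ⊤ := hH.2 _ hl
      refine le_antisymm hKG ?_
      rintro _ ⟨g, rfl⟩
      have : g ∈ K.comap ψ := by rw [htop]; trivial
      exact this
  have hne : H.map ψ ≠ ψ.range := by
    intro h
    rw [MonoidHom.range_eq_map] at h
    exact hH.1 (Subgroup.map_injective hinj h)
  have hnA : ¬ alternatingGroup (Fin m) ≤ H.map ψ := by
    intro hle
    apply hcore
    intro t ht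
    have h1 : ψ t ∈ H.map ψ := by
      apply hle
      have := hψ ⟨t, ht⟩
      simp only at this
      rw [this]
      exact (eT ⟨t, ht⟩).2
    obtain ⟨h, hh, he⟩ := h1
    have := hinj he
    rw [← this]
    exact hh
  have hrel : (H.map ψ).relIndex ψ.range = H.index := by
    rw [MonoidHom.range_eq_map, Subgroup.relIndex_map_map_of_injective H ⊤ hinj,
      Subgroup.relIndex_top_right]
  obtain ⟨g', hg'G, hord, hconj⟩ :=
    Cfsg.Agent.Lib.S3571.perm_case SS hm ψ.range (H.map ψ) hA hHG hmaxH hne hnA r hr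
      (by rw [hrel]; exact hrd) (fun s hs hsd => hmax s hs (by rwa [hrel] at hsd))
  obtain ⟨g, rfl⟩ := hg'G
  refine ⟨g, ?_, ?_⟩
  · rw [← hord]
    exact (orderOf_injective ψ hinj g).symm
  · intro x hx
    apply hconj (ψ x) ⟨x, rfl⟩
    exact ⟨x⁻¹ * g * x, hx, by simp⟩

/-- The case `m = 6`: `G = T H`, so everything happens inside `T ≅ A_6`; use `alt6_case`. -/
theorem case_six {G : Type*} [Group G] [Finite G]
    (T : Subgroup G) (hT : T.Normal)
    (eT : ↥T ≃* ↥(alternatingGroup (Fin 6))) (H : Subgroup G) (hH : IsCoatom H)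
    (hcore : ¬ T ≤ H)
    (r : ℕ) (hr : r.Prime) (hrd : r ∣ H.index)
    (hmax : ∀ s : ℕ, s.Prime → s ∣ H.index → s ≤ r) :
    ∃ g : G, orderOf g = r ∧ ∀ x : G, x⁻¹ * g * x ∉ H := by
  classical
  have _hTn : T.Normal := hT
  have hlt : H < T ⊔ H := by
    refine lt_of_le_of_ne le_sup_right ?_
    intro h
    apply hcore
    calc T ≤ T ⊔ H := le_sup_left
      _ = H := h.symm
  have hsup : T ⊔ H = ⊤ := hH.2 _ hlt
  have hsup' : H ⊔ T = ⊤ := by rw [sup_comm]; exact hsup
  have hidx0 : H.relIndex T = H.index := relIndex_eq_index_of_sup_eq_top H T hsup'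
  -- the subgroup `K' ≤ A_6`
  let K : Subgroup T := H.subgroupOf T
  let K' : Subgroup (alternatingGroup (Fin 6)) := K.map (eT : ↥T →* ↥(alternatingGroup (Fin 6)))
  have hK' : K' ≠ ⊤ := by
    intro h
    apply hcore
    rw [← Subgroup.subgroupOf_eq_top]
    apply le_antisymm le_top
    intro t _
    have h1 : eT t ∈ K' := by rw [h]; trivial
    obtain ⟨t', ht', he⟩ := h1
    have : t' = t := eT.injective he
    rw [← this]
    exact ht'
  have hidx : K'.index = H.index := by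
    rw [← hidx0]
    exact Subgroup.index_map_equiv K eT
  obtain ⟨g', hord, hconj⟩ :=
    Cfsg.Agent.Lib.S3571.alt6_case K' hK' r hr (by rw [hidx]; exact hrd)
      (fun s hs hsd => hmax s hs (by rwa [hidx] at hsd))
  refine ⟨((eT.symm g' : T) : G), ?_, ?_⟩
  · rw [Subgroup.orderOf_coe, MulEquiv.orderOf_eq, hord]
  · intro x hx
    have hxm : x ∈ ((T ⊔ H : Subgroup G) : Set G) := by rw [hsup]; trivial
    rw [Subgroup.normal_mul] at hxm
    obtain ⟨t, ht, h, hh, rfl⟩ := hxm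
    -- `(t h)⁻¹ g (t h) ∈ H` gives `t⁻¹ g t ∈ H`
    have h2 : t⁻¹ * ((eT.symm g' : T) : G) * t ∈ H := by
      have h3 : h * ((t * h)⁻¹ * ((eT.symm g' : T) : G) * (t * h)) * h⁻¹ ∈ H :=
        H.mul_mem (H.mul_mem hh hx) (H.inv_mem hh)
      have h4 : h * ((t * h)⁻¹ * ((eT.symm g' : T) : G) * (t * h)) * h⁻¹
          = t⁻¹ * ((eT.symm g' : T) : G) * t := by group
      rwa [h4] at h3
    apply hconj (eT ⟨t, ht⟩)
    refine ⟨(⟨t, ht⟩ : T)⁻¹ * eT.symm g' * ⟨t, ht⟩, ?_, ?_⟩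
    · show (((⟨t, ht⟩ : T)⁻¹ * eT.symm g' * ⟨t, ht⟩ : T) : G) ∈ H
      simpa using h2
    · simp

end Cfsg.Agent.Lib.Helper6.S3571M

namespace Cfsg.Agent.Lib.S3571

/-- Package MAIN: a maximal subgroup `H` of `G` not containing `T` (a point stabiliser), abstract form.
Sylvester–Schur is an explicit hypothesis. -/
theorem main_subgroup
    (SS : ∀ n k : ℕ, 1 ≤ k → 2 * k ≤ n → ∃ p, p.Prime ∧ k < p ∧ p ∣ n.choose k)
    {G : Type*} [Group G] [Finite G]
    (T : Subgroup G) (hT : T.Normal) (hTc : Subgroup.centralizer (T : Set G) = ⊥) (m : ℕ) (hm : 5 ≤ m)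
    (eT : ↥T ≃* ↥(alternatingGroup (Fin m))) (H : Subgroup G) (hH : IsCoatom H)
    (hcore : ¬ T ≤ H)
    (r : ℕ) (hr : r.Prime) (hrd : r ∣ H.index) (hmax : ∀ s : ℕ, s.Prime → s ∣ H.index → s ≤ r) :
    ∃ g : G, orderOf g = r ∧ ∀ x : G, x⁻¹ * g * x ∉ H := by
  by_cases h6 : m = 6
  · subst h6
    exact Cfsg.Agent.Lib.Helper6.S3571M.case_six T hT eT H hH hcore r hr hrd hmax
  · exact Cfsg.Agent.Lib.Helper6.S3571M.case_ne_six SS T hT hTc m hm h6 eT H hH hcore r hr hrd hmax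

end Cfsg.Agent.Lib.S3571
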