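import Cfsg.Agent.Lib.Helper6.BM5b
import Cfsg.Agent.Lib.Helper6.TC1
import Cfsg.Agent.Lib.Helper6.TCD.SL5C.TB

set_option autoImplicit false
set_option maxRecDepth 100000
set_option Elab.async false

namespace Cfsg.Agent.Lib.Helper6.SL5C

open Cfsg.Agent.Lib.Helper6.BM5 Cfsg.Agent.Lib.Helper6.TCD.SL5C Cfsg.Agent.Lib.Helper6.TC

/-! # The table of the centraliser of the transvection in `SL(5, 2)`: the checks -/

/-- the codes of the generators -/
def codes : List ℕ := [18092225, 4472929, 17043553, 21237857, 17076321, 17043809, 21368929, 29626465]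

theorem chkA0 : allR (chk TB codes) 0 4096 = true := by
  decide +kernel

theorem chkA1 : allR (chk TB codes) 4096 4096 = true := by
  decide +kernel

theorem chkA2 : allR (chk TB codes) 8192 4096 = true := by
  decide +kernel

theorem chkA3 : allR (chk TB codes) 12288 4096 = true := by
  decide +kernel

theorem chkA4 : allR (chk TB codes) 16384 4096 = true := by
  decide +kernel

theorem chkA5 : allR (chk TB codes) 20480 4096 = true := by
  decide +kernel

theorem chkA6 : allR (chk TB codes) 24576 4096 = true := by
  decide +kernel

theorem chkA7 : allR (chk TB codes) 28672 4096 = true := by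
  decide +kernel

theorem chkA8 : allR (chk TB codes) 32768 4096 = true := by
  decide +kernel

theorem chkA9 : allR (chk TB codes) 36864 4096 = true := by
  decide +kernel

theorem chkA10 : allR (chk TB codes) 40960 4096 = true := by
  decide +kernel

theorem chkA11 : allR (chk TB codes) 45056 4096 = true := by
  decide +kernel

theorem chkA12 : allR (chk TB codes) 49152 4096 = true := by
  decide +kernel

theorem chkA13 : allR (chk TB codes) 53248 4096 = true := by
  decide +kernel

theorem chkA14 : allR (chk TB codes) 57344 4096 = true := by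
  decide +kernel

theorem chkA15 : allR (chk TB codes) 61440 4096 = true := by
  decide +kernel

theorem hall : ∀ idx < 65536, chk TB codes idx = true := by
  intro idx hidx
  by_cases h0 : idx < 4096
  · exact allR_spec chkA0 idx (by omega) (by omega)
  by_cases h1 : idx < 8192
  · exact allR_spec chkA1 idx (by omega) (by omega)
  by_cases h2 : idx < 12288
  · exact allR_spec chkA2 idx (by omega) (by omega)
  by_cases h3 : idx < 16384
  · exact allR_spec chkA3 idx (by omega) (by omega)
  by_cases h4 : idx < 20480
  · exact allR_spec chkA4 idx (by omega) (by omega)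
  by_cases h5 : idx < 24576
  · exact allR_spec chkA5 idx (by omega) (by omega)
  by_cases h6 : idx < 28672
  · exact allR_spec chkA6 idx (by omega) (by omega)
  by_cases h7 : idx < 32768
  · exact allR_spec chkA7 idx (by omega) (by omega)
  by_cases h8 : idx < 36864
  · exact allR_spec chkA8 idx (by omega) (by omega)
  by_cases h9 : idx < 40960
  · exact allR_spec chkA9 idx (by omega) (by omega)
  by_cases h10 : idx < 45056
  · exact allR_spec chkA10 idx (by omega) (by omega)
  by_cases h11 : idx < 49152
  · exact allR_spec chkA11 idx (by omega) (by omega)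
  by_cases h12 : idx < 53248
  · exact allR_spec chkA12 idx (by omega) (by omega)
  by_cases h13 : idx < 57344
  · exact allR_spec chkA13 idx (by omega) (by omega)
  by_cases h14 : idx < 61440
  · exact allR_spec chkA14 idx (by omega) (by omega)
  by_cases h15 : idx < 65536
  · exact allR_spec chkA15 idx (by omega) (by omega)
  omega

theorem chkU0 : allR (fun idx => Nat.beq (unpat (pat idx)) idx) 0 4096 = true := by
  decide +kernel

theorem chkU1 : allR (fun idx => Nat.beq (unpat (pat idx)) idx) 4096 4096 = true := by
  decide +kernel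

theorem chkU2 : allR (fun idx => Nat.beq (unpat (pat idx)) idx) 8192 4096 = true := by
  decide +kernel

theorem chkU3 : allR (fun idx => Nat.beq (unpat (pat idx)) idx) 12288 4096 = true := by
  decide +kernel

theorem chkU4 : allR (fun idx => Nat.beq (unpat (pat idx)) idx) 16384 4096 = true := by
  decide +kernel

theorem chkU5 : allR (fun idx => Nat.beq (unpat (pat idx)) idx) 20480 4096 = true := by
  decide +kernel

theorem chkU6 : allR (fun idx => Nat.beq (unpat (pat idx)) idx) 24576 4096 = true := by
  decide +kernel

theorem chkU7 : allR (fun idx => Nat.beq (unpat (pat idx)) idx) 28672 4096 = true := by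
  decide +kernel

theorem chkU8 : allR (fun idx => Nat.beq (unpat (pat idx)) idx) 32768 4096 = true := by
  decide +kernel

theorem chkU9 : allR (fun idx => Nat.beq (unpat (pat idx)) idx) 36864 4096 = true := by
  decide +kernel

theorem chkU10 : allR (fun idx => Nat.beq (unpat (pat idx)) idx) 40960 4096 = true := by
  decide +kernel

theorem chkU11 : allR (fun idx => Nat.beq (unpat (pat idx)) idx) 45056 4096 = true := by
  decide +kernel

theorem chkU12 : allR (fun idx => Nat.beq (unpat (pat idx)) idx) 49152 4096 = true := by
  decide +kernel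

theorem chkU13 : allR (fun idx => Nat.beq (unpat (pat idx)) idx) 53248 4096 = true := by
  decide +kernel

theorem chkU14 : allR (fun idx => Nat.beq (unpat (pat idx)) idx) 57344 4096 = true := by
  decide +kernel

theorem chkU15 : allR (fun idx => Nat.beq (unpat (pat idx)) idx) 61440 4096 = true := by
  decide +kernel

theorem hun : ∀ idx < 65536, unpat (pat idx) = idx := by
  intro idx hidx
  apply Nat.eq_of_beq_eq_true
  by_cases h0 : idx < 4096
  · exact allR_spec chkU0 idx (by omega) (by omega)
  by_cases h1 : idx < 8192
  · exact allR_spec chkU1 idx (by omega) (by omega)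
  by_cases h2 : idx < 12288
  · exact allR_spec chkU2 idx (by omega) (by omega)
  by_cases h3 : idx < 16384
  · exact allR_spec chkU3 idx (by omega) (by omega)
  by_cases h4 : idx < 20480
  · exact allR_spec chkU4 idx (by omega) (by omega)
  by_cases h5 : idx < 24576
  · exact allR_spec chkU5 idx (by omega) (by omega)
  by_cases h6 : idx < 28672
  · exact allR_spec chkU6 idx (by omega) (by omega)
  by_cases h7 : idx < 32768
  · exact allR_spec chkU7 idx (by omega) (by omega)
  by_cases h8 : idx < 36864
  · exact allR_spec chkU8 idx (by omega) (by omega)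
  by_cases h9 : idx < 40960
  · exact allR_spec chkU9 idx (by omega) (by omega)
  by_cases h10 : idx < 45056
  · exact allR_spec chkU10 idx (by omega) (by omega)
  by_cases h11 : idx < 49152
  · exact allR_spec chkU11 idx (by omega) (by omega)
  by_cases h12 : idx < 53248
  · exact allR_spec chkU12 idx (by omega) (by omega)
  by_cases h13 : idx < 57344
  · exact allR_spec chkU13 idx (by omega) (by omega)
  by_cases h14 : idx < 61440
  · exact allR_spec chkU14 idx (by omega) (by omega)
  by_cases h15 : idx < 65536
  · exact allR_spec chkU15 idx (by omega) (by omega)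
  omega

theorem cnt0 : cntR (mkd TB) 0 4096 = 0 := by
  decide +kernel

theorem cnt1 : cntR (mkd TB) 4096 4096 = 0 := by
  decide +kernel

theorem cnt2 : cntR (mkd TB) 8192 4096 = 1536 := by
  decide +kernel

theorem cnt3 : cntR (mkd TB) 12288 4096 = 1536 := by
  decide +kernel

theorem cnt4 : cntR (mkd TB) 16384 4096 = 1536 := by
  decide +kernel

theorem cnt5 : cntR (mkd TB) 20480 4096 = 1536 := by
  decide +kernel

theorem cnt6 : cntR (mkd TB) 24576 4096 = 1536 := by
  decide +kernel

theorem cnt7 : cntR (mkd TB) 28672 4096 = 1536 := by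
  decide +kernel

theorem cnt8 : cntR (mkd TB) 32768 4096 = 1536 := by
  decide +kernel

theorem cnt9 : cntR (mkd TB) 36864 4096 = 1536 := by
  decide +kernel

theorem cnt10 : cntR (mkd TB) 40960 4096 = 1536 := by
  decide +kernel

theorem cnt11 : cntR (mkd TB) 45056 4096 = 1536 := by
  decide +kernel

theorem cnt12 : cntR (mkd TB) 49152 4096 = 1536 := by
  decide +kernel

theorem cnt13 : cntR (mkd TB) 53248 4096 = 1536 := by
  decide +kernel

theorem cnt14 : cntR (mkd TB) 57344 4096 = 1536 := by
  decide +kernel

theorem cnt15 : cntR (mkd TB) 61440 4096 = 1536 := by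
  decide +kernel

theorem hcnt : cntB (mkd TB) 65536 = 21504 := by
  have e0 : cntB (mkd TB) 0 = 0 := rfl
  have e1 : cntB (mkd TB) 4096 = 0 := by
    rw [show 4096 = 0 + 4096 from rfl, cntB_add, e0, cnt0]
  have e2 : cntB (mkd TB) 8192 = 0 := by
    rw [show 8192 = 4096 + 4096 from rfl, cntB_add, e1, cnt1]
  have e3 : cntB (mkd TB) 12288 = 1536 := by
    rw [show 12288 = 8192 + 4096 from rfl, cntB_add, e2, cnt2]
  have e4 : cntB (mkd TB) 16384 = 3072 := by
    rw [show 16384 = 12288 + 4096 from rfl, cntB_add, e3, cnt3]
  have e5 : cntB (mkd TB) 20480 = 4608 := by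
    rw [show 20480 = 16384 + 4096 from rfl, cntB_add, e4, cnt4]
  have e6 : cntB (mkd TB) 24576 = 6144 := by
    rw [show 24576 = 20480 + 4096 from rfl, cntB_add, e5, cnt5]
  have e7 : cntB (mkd TB) 28672 = 7680 := by
    rw [show 28672 = 24576 + 4096 from rfl, cntB_add, e6, cnt6]
  have e8 : cntB (mkd TB) 32768 = 9216 := by
    rw [show 32768 = 28672 + 4096 from rfl, cntB_add, e7, cnt7]
  have e9 : cntB (mkd TB) 36864 = 10752 := by
    rw [show 36864 = 32768 + 4096 from rfl, cntB_add, e8, cnt8]
  have e10 : cntB (mkd TB) 40960 = 12288 := by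
    rw [show 40960 = 36864 + 4096 from rfl, cntB_add, e9, cnt9]
  have e11 : cntB (mkd TB) 45056 = 13824 := by
    rw [show 45056 = 40960 + 4096 from rfl, cntB_add, e10, cnt10]
  have e12 : cntB (mkd TB) 49152 = 15360 := by
    rw [show 49152 = 45056 + 4096 from rfl, cntB_add, e11, cnt11]
  have e13 : cntB (mkd TB) 53248 = 16896 := by
    rw [show 53248 = 49152 + 4096 from rfl, cntB_add, e12, cnt12]
  have e14 : cntB (mkd TB) 57344 = 18432 := by
    rw [show 57344 = 53248 + 4096 from rfl, cntB_add, e13, cnt13]
  have e15 : cntB (mkd TB) 61440 = 19968 := by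
    rw [show 61440 = 57344 + 4096 from rfl, cntB_add, e14, cnt14]
  have e16 : cntB (mkd TB) 65536 = 21504 := by
    rw [show 65536 = 61440 + 4096 from rfl, cntB_add, e15, cnt15]
  exact e16

end Cfsg.Agent.Lib.Helper6.SL5C
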