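import Cfsg.Agent.Lib.Helper6.SL5C1
import Cfsg.Agent.Lib.Helper6.WP10
import Cfsg.Agent.Lib.Helper6.TCD.HePU.Idx

set_option autoImplicit false
set_option maxRecDepth 100000

namespace Cfsg.Agent.Lib.Helper6.SL5C

open Matrix Cfsg.Agent.Lib.Helper6.BM5 Cfsg.Agent.Lib.Helper6.TC Cfsg.Agent.Lib.Helper6.TCD

/-! # The centraliser of a transvection in `SL(5, 2)` is the group presented by `HePU.base` -/

/-- the code of the transvection -/
def scode : ℕ := 17043553

theorem M_scode : M scode = Matrix.transvection 0 1 1 := by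
  decide

/-- the matrix of an element of the special linear group -/
def slCoe : SL5 →* Mat where
  toFun := fun A => A.1
  map_one' := rfl
  map_mul' := fun _ _ => rfl

theorem slCoe_injective : Function.Injective slCoe := fun _ _ h => Subtype.ext h

/-- the matrices of the generators -/
def Ymat (i : ℕ) : Mat := M (codes.getD i one)

theorem hsq : ∀ i < 8, BM5.mul (codes.getD i one) (codes.getD i one) = one := by
  decide +kernel

theorem Ymat_sq (i : ℕ) : Ymat i * Ymat i = 1 := by
  by_cases hi : i < 8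
  · unfold Ymat
    rw [M_mul, hsq i hi, M_one]
  · have : codes.getD i one = one := by
      rw [List.getD_eq_default]
      show 8 ≤ i
      omega
    unfold Ymat
    rw [this, M_one, mul_one]

/-- the generators -/
def Y (i : ℕ) : SL5 := ⟨Ymat i, det_eq_one_of_sq (Ymat_sq i)⟩

theorem slCoe_Y (i : ℕ) : slCoe (Y i) = M (codes.getD i one) := rfl

theorem hwp : ∀ b ∈ HePU.base, wprod codes b = one := by
  decide +kernel

theorem hrel : ∀ b ∈ HePU.base, (b.map Y).prod = 1 := by
  intro b hb
  apply slCoe_injective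
  rw [map_list_prod, List.map_map, map_one, ← M_one, ← hwp b hb, M_wprod]
  rfl

/-- the homomorphism from the presented group -/
noncomputable def theta : WG 8 HePU.base →* SL5 := wgHom Y HePU.hbl hrel

theorem theta_of (i : Fin 8) :
    theta (PresentedGroup.mk (wrels 8 HePU.base) (FreeGroup.of i)) = Y i.val :=
  wgHom_of Y HePU.hbl hrel i

theorem hcomm : ∀ i < 8, BM5.mul (codes.getD i one) scode = BM5.mul scode (codes.getD i one) := by
  decide +kernel

theorem Y_mem_range (i : ℕ) (hi : i < 8) : Y i ∈ theta.range :=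
  ⟨PresentedGroup.mk (wrels 8 HePU.base) (FreeGroup.of ⟨i, hi⟩), theta_of ⟨i, hi⟩⟩

section cent
variable (s : SL5) (hs : (s : Mat) = Matrix.transvection 0 1 1)
include hs

theorem slCoe_s : slCoe s = M scode := by
  rw [M_scode, ← hs]
  rfl

theorem range_le : theta.range ≤ Subgroup.centralizer {s} := by
  rw [MonoidHom.range_eq_map, ← PresentedGroup.closure_range_of, MonoidHom.map_closure,
    Subgroup.closure_le]
  rintro _ ⟨_, ⟨i, rfl⟩, rfl⟩
  have : theta (PresentedGroup.of i) = Y i.val := theta_of i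
  rw [this]
  show Y i.val ∈ Subgroup.centralizer {s}
  rw [Subgroup.mem_centralizer_iff]
  intro h hh
  rw [Set.mem_singleton_iff] at hh
  subst hh
  apply slCoe_injective
  rw [map_mul, map_mul, slCoe_s h hs, slCoe_Y, M_mul, M_mul, hcomm i.val i.isLt]

end cent

theorem act5_lt {c0 c1 c2 c3 c4 : ℕ} (h0 : c0 < 32) (h1 : c1 < 32) (h2 : c2 < 32) (h3 : c3 < 32)
    (h4 : c4 < 32) (x : ℕ) : act5 c0 c1 c2 c3 c4 x < 32 := by
  unfold act5
  exact xor_lt32 (xor_lt32 (xor_lt32 (xor_lt32 (sel_lt h0) (sel_lt h1)) (sel_lt h2)) (sel_lt h3))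
    (sel_lt h4)

/-- a matrix commuting with the matrix of a code: the relation between the codes -/
theorem comm_codes (m : Mat) (C : ℕ) (h : m * M C = M C * m) (x : ℕ) :
    act5 (colc m 0) (colc m 1) (colc m 2) (colc m 3) (colc m 4) (act C x) =
      act C (act5 (colc m 0) (colc m 1) (colc m 2) (colc m 3) (colc m 4) x) := by
  apply bv_injOn (act5_lt (colc_lt _ _) (colc_lt _ _) (colc_lt _ _) (colc_lt _ _) (colc_lt _ _) _)
    (act_lt _ _)
  rw [← mulVec_bv, ← M_mulVec, ← M_mulVec, ← mulVec_bv, Matrix.mulVec_mulVec, Matrix.mulVec_mulVec,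
    h]

theorem act5_eq (c0 c1 c2 c3 c4 x : ℕ) {b0 b1 b2 b3 b4 : Bool} (h0 : x.testBit 0 = b0)
    (h1 : x.testBit 1 = b1) (h2 : x.testBit 2 = b2) (h3 : x.testBit 3 = b3)
    (h4 : x.testBit 4 = b4) :
    act5 c0 c1 c2 c3 c4 x = sel b0 c0 ^^^ sel b1 c1 ^^^ sel b2 c2 ^^^ sel b3 c3 ^^^ sel b4 c4 := by
  subst h0 h1 h2 h3 h4
  rfl

theorem act5_one (c0 c1 c2 c3 c4 : ℕ) : act5 c0 c1 c2 c3 c4 1 = c0 := by
  rw [act5_eq c0 c1 c2 c3 c4 1 (b0 := true) (b1 := false) (b2 := false) (b3 := false) (b4 := false)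
    (by decide) (by decide) (by decide) (by decide) (by decide)]
  simp [sel]

theorem act5_two (c0 c1 c2 c3 c4 : ℕ) : act5 c0 c1 c2 c3 c4 2 = c1 := by
  rw [act5_eq c0 c1 c2 c3 c4 2 (b0 := false) (b1 := true) (b2 := false) (b3 := false) (b4 := false)
    (by decide) (by decide) (by decide) (by decide) (by decide)]
  simp [sel]

theorem act5_three (c0 c1 c2 c3 c4 : ℕ) : act5 c0 c1 c2 c3 c4 3 = c0 ^^^ c1 := by
  rw [act5_eq c0 c1 c2 c3 c4 3 (b0 := true) (b1 := true) (b2 := false) (b3 := false) (b4 := false)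
    (by decide) (by decide) (by decide) (by decide) (by decide)]
  simp [sel]

theorem act5_four (c0 c1 c2 c3 c4 : ℕ) : act5 c0 c1 c2 c3 c4 4 = c2 := by
  rw [act5_eq c0 c1 c2 c3 c4 4 (b0 := false) (b1 := false) (b2 := true) (b3 := false) (b4 := false)
    (by decide) (by decide) (by decide) (by decide) (by decide)]
  simp [sel]

theorem act5_eight (c0 c1 c2 c3 c4 : ℕ) : act5 c0 c1 c2 c3 c4 8 = c3 := by
  rw [act5_eq c0 c1 c2 c3 c4 8 (b0 := false) (b1 := false) (b2 := false) (b3 := true) (b4 := false)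
    (by decide) (by decide) (by decide) (by decide) (by decide)]
  simp [sel]

theorem act5_sixteen (c0 c1 c2 c3 c4 : ℕ) : act5 c0 c1 c2 c3 c4 16 = c4 := by
  rw [act5_eq c0 c1 c2 c3 c4 16 (b0 := false) (b1 := false) (b2 := false) (b3 := false) (b4 := true)
    (by decide) (by decide) (by decide) (by decide) (by decide)]
  simp [sel]

theorem hfixS : ∀ c < 32, act scode c = c → c.testBit 1 = false := by
  decide

theorem hcolB : ∀ c0 < 32, ∀ c1 < 32,
    ((c0 ^^^ c1 != act scode c1) || (c0 == 0) || ((c0 == 1) && c1.testBit 1)) = true := by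
  decide

theorem hcolS : ∀ c0 < 32, ∀ c1 < 32, c0 ^^^ c1 = act scode c1 → c0 ≠ 0 →
    c0 = 1 ∧ c1.testBit 1 = true := by
  intro c0 h0 c1 h1 he hne
  have h := hcolB c0 h0 c1 h1
  simp only [Bool.or_eq_true, Bool.and_eq_true, bne_iff_ne, ne_eq, beq_iff_eq] at h
  rcases h with (h | h) | h
  · exact absurd he h
  · exact absurd h hne
  · exact h

theorem hactS : act scode 1 = 1 ∧ act scode 2 = 3 ∧ act scode 4 = 4 ∧ act scode 8 = 8 ∧
    act scode 16 = 16 := by
  decide

/-- every matrix is the matrix of the code of its columns -/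
theorem eq_M_pack (m : Mat) :
    m = M (pack (colc m 0) (colc m 1) (colc m 2) (colc m 3) (colc m 4)) := by
  obtain ⟨h0, h1, h2, h3, h4⟩ := col_pack (colc_lt m 0) (colc_lt m 1) (colc_lt m 2) (colc_lt m 3)
    (colc_lt m 4)
  apply eq_M_of_col
  intro j
  fin_cases j
  · exact h0.symm
  · exact h1.symm
  · exact h2.symm
  · exact h3.symm
  · exact h4.symm

/-- an invertible matrix commuting with the transvection has a pattern -/
theorem exists_pat (m : Mat) (hdet : m.det = 1) (h : m * M scode = M scode * m) :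
    ∃ idx < 65536, m = M (pat idx) := by
  obtain ⟨a1, a2, a4, a8, a16⟩ := hactS
  have k1 := comm_codes m scode h 1
  have k2 := comm_codes m scode h 2
  have k4 := comm_codes m scode h 4
  have k8 := comm_codes m scode h 8
  have k16 := comm_codes m scode h 16
  rw [a1, act5_one] at k1
  rw [a2, act5_three, act5_two] at k2
  rw [a4, act5_four] at k4
  rw [a8, act5_eight] at k8
  rw [a16, act5_sixteen] at k16
  have hm := eq_M_pack m
  obtain ⟨p0, p1, p2, p3, p4⟩ := col_pack (colc_lt m 0) (colc_lt m 1) (colc_lt m 2) (colc_lt m 3)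
    (colc_lt m 4)
  have hc0 : colc m 0 ≠ 0 := by
    intro h0
    have hd := det_eq_zero_of_act (x := 1) hm (by norm_num) (by norm_num) (by
      unfold act
      rw [p0, p1, p2, p3, p4, act5_one, h0])
    rw [hdet] at hd
    exact one_ne_zero hd
  obtain ⟨e0, b1⟩ := hcolS _ (colc_lt m 0) _ (colc_lt m 1) k2 hc0
  have b2 := hfixS _ (colc_lt m 2) k4.symm
  have b3 := hfixS _ (colc_lt m 3) k8.symm
  have b4 := hfixS _ (colc_lt m 4) k16.symm
  obtain ⟨idx, hidx, hp⟩ := pat_of_cols (colc_lt m 1) (colc_lt m 2) (colc_lt m 3) (colc_lt m 4)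
    b1 b2 b3 b4
  refine ⟨idx, hidx, ?_⟩
  rw [hp, ← e0]
  exact hm

section cent2
variable (s : SL5) (hs : (s : Mat) = Matrix.transvection 0 1 1)
include hs

theorem le_range : Subgroup.centralizer {s} ≤ theta.range := by
  intro m hm
  rw [Subgroup.mem_centralizer_iff] at hm
  have h1 := hm s (Set.mem_singleton s)
  have h2 : (m : Mat) * M scode = M scode * (m : Mat) := by
    have := congrArg slCoe h1
    rw [map_mul, map_mul, slCoe_s s hs] at this
    exact this.symm
  obtain ⟨idx, hidx, hp⟩ := exists_pat (m : Mat) m.2 h2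
  have hmk : mkd TCD.SL5C.TB idx = true := by
    by_contra hf
    rw [Bool.not_eq_true] at hf
    have hd := det_of_chk hall idx hidx hf
    rw [← hp, m.2] at hd
    exact one_ne_zero hd
  obtain ⟨g, hg, hgm⟩ := mem_of_chk theta.range
    (fun k hk => ⟨Y k, Y_mem_range k hk, rfl⟩) hall idx hidx hmk
  have : g = m := Subtype.ext (hgm.trans hp.symm)
  rw [← this]
  exact hg

theorem range_eq : theta.range = Subgroup.centralizer {s} :=
  le_antisymm (range_le s hs) (le_range s hs)

end cent2

theorem card_range_ge : 21504 ≤ Nat.card theta.range :=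
  card_ge_of_chk theta.range
    (mem_of_chk theta.range (fun k hk => ⟨Y k, Y_mem_range k hk, rfl⟩) hall) hun hcnt

end Cfsg.Agent.Lib.Helper6.SL5C
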