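import Mathlib

set_option autoImplicit false

namespace Cfsg.Agent.Lib.Helper6.SSC

section OI

variable {K R : Type*} [Field K] [Ring R] [Algebra K R]

/-- orthogonal idempotents summing to one -/
structure OI (K : Type*) {R : Type*} [Field K] [Ring R] [Algebra K R] (E₁ E₂ : R) : Prop where
  sum : E₁ + E₂ = 1
  e12 : E₁ * E₂ = 0
  e21 : E₂ * E₁ = 0
  ne1 : E₁ ≠ 0
  ne2 : E₂ ≠ 0

variable {E₁ E₂ : R}

/-- the "diagonal" element -/
def dg (E₁ E₂ : R) (c₁ c₂ : K) : R := c₁ • E₁ + c₂ • E₂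

theorem OI.e11 (h : OI K E₁ E₂) : E₁ * E₁ = E₁ := by
  have := congrArg (fun x => E₁ * x) h.sum
  simp only [mul_add, h.e12, add_zero, mul_one] at this
  exact this

theorem OI.e22 (h : OI K E₁ E₂) : E₂ * E₂ = E₂ := by
  have := congrArg (fun x => E₂ * x) h.sum
  simp only [mul_add, h.e21, zero_add, mul_one] at this
  exact this

theorem OI.dg_mul (h : OI K E₁ E₂) (c₁ c₂ d₁ d₂ : K) :
    dg E₁ E₂ c₁ c₂ * dg E₁ E₂ d₁ d₂ = dg E₁ E₂ (c₁ * d₁) (c₂ * d₂) := by
  unfold dg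
  simp only [add_mul, mul_add, smul_mul_smul_comm, h.e11, h.e22, h.e12, h.e21, smul_zero,
    add_zero, zero_add]

theorem OI.dg_one (h : OI K E₁ E₂) : dg E₁ E₂ (1 : K) 1 = 1 := by
  unfold dg
  rw [one_smul, one_smul, h.sum]

theorem OI.dg_smul_one (h : OI K E₁ E₂) (c : K) : dg E₁ E₂ c c = c • (1 : R) := by
  unfold dg
  rw [← smul_add, h.sum]

theorem OI.dg_pow (h : OI K E₁ E₂) (c₁ c₂ : K) (n : ℕ) :
    dg E₁ E₂ c₁ c₂ ^ n = dg E₁ E₂ (c₁ ^ n) (c₂ ^ n) := by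
  induction n with
  | zero => rw [pow_zero, pow_zero, pow_zero, h.dg_one]
  | succ n ih => rw [pow_succ, ih, h.dg_mul, pow_succ, pow_succ]

theorem dg_sub (c₁ c₂ d₁ d₂ : K) :
    dg E₁ E₂ c₁ c₂ - dg E₁ E₂ d₁ d₂ = dg E₁ E₂ (c₁ - d₁) (c₂ - d₂) := by
  unfold dg
  rw [sub_smul, sub_smul]; abel

theorem dg_neg (c₁ c₂ : K) :
    - dg E₁ E₂ c₁ c₂ = dg E₁ E₂ (-c₁) (-c₂) := by
  unfold dg
  rw [neg_smul, neg_smul]; abel

theorem dg_smul (c c₁ c₂ : K) :
    c • dg E₁ E₂ c₁ c₂ = dg E₁ E₂ (c * c₁) (c * c₂) := by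
  unfold dg
  rw [smul_add, smul_smul, smul_smul]

theorem OI.dg_eq_zero (h : OI K E₁ E₂) {c₁ c₂ : K} (h0 : dg E₁ E₂ c₁ c₂ = 0) :
    c₁ = 0 ∧ c₂ = 0 := by
  unfold dg at h0
  constructor
  · have := congrArg (fun x => x * E₁) h0
    simp only [add_mul, smul_mul_assoc, h.e11, h.e21, smul_zero, add_zero, zero_mul] at this
    exact (smul_eq_zero.mp this).resolve_right h.ne1
  · have := congrArg (fun x => x * E₂) h0
    simp only [add_mul, smul_mul_assoc, h.e22, h.e12, smul_zero, zero_add, zero_mul] at this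
    exact (smul_eq_zero.mp this).resolve_right h.ne2

theorem OI.dg_inj (h : OI K E₁ E₂) {c₁ c₂ d₁ d₂ : K} (h0 : dg E₁ E₂ c₁ c₂ = dg E₁ E₂ d₁ d₂) :
    c₁ = d₁ ∧ c₂ = d₂ := by
  have h1 : dg E₁ E₂ (c₁ - d₁) (c₂ - d₂) = 0 := by rw [← dg_sub, h0, sub_self]
  obtain ⟨h2, h3⟩ := h.dg_eq_zero h1
  exact ⟨sub_eq_zero.mp h2, sub_eq_zero.mp h3⟩

/-- From a quadratic relation `(T - μ)(1 - T) = 0` with `μ ≠ 1`, `T ≠ 1`, `T ≠ μ`,
build the idempotents. -/
theorem exists_OI {T : R} {μ : K} (hq : (T - μ • 1) * (1 - T) = 0) (hμ : μ ≠ 1)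
    (h1 : T ≠ 1) (h2 : T ≠ μ • 1) :
    ∃ E₁ E₂ : R, OI K E₁ E₂ ∧ T = dg E₁ E₂ 1 μ := by
  have hδ : (1 - μ) ≠ 0 := fun h => hμ (sub_eq_zero.mp h).symm
  have hq' : (1 - T) * (T - μ • 1) = 0 := by
    have : (1 - T) * (T - μ • 1) = (T - μ • 1) * (1 - T) := by
      simp only [sub_mul, mul_sub, one_mul, mul_one, smul_mul_assoc, mul_smul_comm]
      module
    rw [this, hq]
  refine ⟨(1 - μ)⁻¹ • (T - μ • 1), (1 - μ)⁻¹ • (1 - T), ⟨?_, ?_, ?_, ?_, ?_⟩, ?_⟩
  · rw [← smul_add]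
    have : T - μ • 1 + (1 - T) = (1 - μ) • (1 : R) := by rw [sub_smul, one_smul]; abel
    rw [this, smul_smul, inv_mul_cancel₀ hδ, one_smul]
  · rw [smul_mul_smul_comm, hq, smul_zero]
  · rw [smul_mul_smul_comm, hq', smul_zero]
  · intro h
    rcases smul_eq_zero.mp h with h | h
    · exact inv_ne_zero hδ h
    · exact h2 (sub_eq_zero.mp h)
  · intro h
    rcases smul_eq_zero.mp h with h | h
    · exact inv_ne_zero hδ h
    · exact h1 (sub_eq_zero.mp h).symm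
  · unfold dg
    rw [one_smul, smul_smul, mul_comm, ← smul_smul, ← smul_add]
    have : T - μ • 1 + μ • (1 - T) = (1 - μ) • T := by
      rw [sub_smul, one_smul, smul_sub]; abel
    rw [this, smul_smul, inv_mul_cancel₀ hδ, one_smul]

/-- an element anticommuting with `T` and satisfying a quadratic relation is an involution -/
theorem sq_eq_one_of_anti {B T : R} {ν : K} (h2 : (2 : K) ≠ 0)
    (hanti : B * T = -(T * B)) (hquad : (B - ν • 1) * (1 - B) = 0) (hu : IsUnit (T * B)) :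
    B * B = 1 := by
  rcases subsingleton_or_nontrivial R with hs | hnt
  · exact Subsingleton.elim _ _
  have hBB : B * B = (1 + ν) • B - ν • 1 := by
    have h1 : (B - ν • 1) * (1 - B) = (1 + ν) • B - ν • 1 - B * B := by
      simp only [sub_mul, mul_sub, mul_one, smul_mul_assoc, one_mul]
      module
    rw [h1] at hquad
    exact (sub_eq_zero.mp hquad).symm
  have hcomm : B * B * T = T * (B * B) := by
    rw [mul_assoc, hanti, mul_neg, ← mul_assoc, hanti, neg_mul, neg_neg, mul_assoc]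
  rw [hBB] at hcomm
  have h3 : ((1 + ν) * (-2)) • (T * B) = 0 := by
    have h4 : ((1 + ν) • B - ν • 1) * T - T * ((1 + ν) • B - ν • 1) = 0 := by
      rw [hcomm, sub_self]
    have h5 : ((1 + ν) • B - ν • 1) * T - T * ((1 + ν) • B - ν • 1)
        = ((1 + ν) * (-2)) • (T * B) := by
      simp only [sub_mul, mul_sub, smul_mul_assoc, mul_smul_comm, one_mul, mul_one, hanti]
      module
    rw [← h5, h4]
  rcases smul_eq_zero.mp h3 with h | h
  · rcases mul_eq_zero.mp h with h | h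
    · have hν : ν = -1 := by linear_combination h
      rw [hBB, hν]
      simp
    · exact absurd (neg_eq_zero.mp h) h2
  · exact absurd h hu.ne_zero

end OI


section Lift

/-- lift an element with image of `ℓ`-power order to an `ℓ`-element with the same image -/
theorem lift_pelt_hom {G M : Type*} [Group G] [Finite G] [Monoid M] (f : G →* M)
    (ℓ : ℕ) [Fact ℓ.Prime] (g : G) (k : ℕ) (hg : f g ^ (ℓ ^ k) = 1) :
    ∃ b : G, (∃ j : ℕ, orderOf b = ℓ ^ j) ∧ f b = f g := by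
  have hℓ : ℓ.Prime := Fact.out
  have ho : 0 < orderOf g := orderOf_pos g
  set o := orderOf g with hodef
  set pk := ordProj[ℓ] o with hpk
  set m := ordCompl[ℓ] o with hm
  have hpm : pk * m = o := Nat.ordProj_mul_ordCompl_eq_self o ℓ
  have hcop : Nat.Coprime m ℓ := (Nat.coprime_ordCompl hℓ ho.ne').symm
  have h1 : orderOf (f g) ∣ ℓ ^ k := orderOf_dvd_of_pow_eq_one hg
  have h2 : m.Coprime (orderOf (f g)) := Nat.Coprime.coprime_dvd_right h1 (hcop.pow_right k)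
  obtain ⟨u, hu⟩ := exists_pow_eq_self_of_coprime h2
  refine ⟨(g ^ m) ^ u, ?_, ?_⟩
  · have h3 : ((g ^ m) ^ u) ^ pk = 1 := by
      rw [← pow_mul, ← pow_mul]
      have : m * (u * pk) = o * u := by rw [← hpm]; ring
      rw [this, pow_mul, hodef, pow_orderOf_eq_one, one_pow]
    have h4 := orderOf_dvd_of_pow_eq_one h3
    obtain ⟨j, -, hj⟩ := (Nat.dvd_prime_pow hℓ).mp h4
    exact ⟨j, hj⟩
  · rw [map_pow, map_pow, hu]

end Lift

section Core

variable {q : ℕ} [hq : Fact q.Prime] {V : Type*} [AddCommGroup V] [Module (ZMod q) V]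
  {G : Type*} [Group G] (ρ : G →* Module.End (ZMod q) V)

/-- elements acting as scalars -/
def scal : Subgroup G where
  carrier := {g | ∃ c : ZMod q, ρ g = c • 1}
  one_mem' := ⟨1, by rw [map_one, one_smul]⟩
  mul_mem' := by
    rintro a b ⟨c, hc⟩ ⟨d, hd⟩
    exact ⟨c * d, by rw [map_mul, hc, hd, smul_mul_smul_comm, one_mul]⟩
  inv_mem' := by
    rintro a ⟨c, hc⟩
    have h1 : ρ a * ρ a⁻¹ = 1 := by rw [← map_mul, mul_inv_cancel, map_one]
    by_cases h0 : c = 0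
    · refine ⟨0, ?_⟩
      rw [hc, h0, zero_smul, zero_mul] at h1
      rw [zero_smul, ← mul_one (ρ a⁻¹), ← h1, mul_zero]
    · refine ⟨c⁻¹, ?_⟩
      rw [hc, smul_mul_assoc, one_mul] at h1
      rw [← h1, smul_smul, inv_mul_cancel₀ h0, one_smul]

theorem mem_scal {g : G} : g ∈ scal ρ ↔ ∃ c : ZMod q, ρ g = c • 1 := Iff.rfl

instance scal_normal : (scal ρ).Normal := by
  constructor
  rintro n ⟨c, hc⟩ g
  refine ⟨c, ?_⟩
  rw [map_mul, map_mul, hc, mul_smul_comm, mul_one, smul_mul_assoc, ← map_mul, mul_inv_cancel,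
    map_one]

theorem ker_le_scal : ρ.ker ≤ scal ρ := by
  intro g hg
  exact ⟨1, by rw [MonoidHom.mem_ker.mp hg, one_smul]⟩

theorem rho_pow (g : G) (n : ℕ) : ρ (g ^ n) = ρ g ^ n := map_pow ρ g n

theorem rho_mul_inv (g : G) : ρ g * ρ g⁻¹ = 1 := by rw [← map_mul, mul_inv_cancel, map_one]

theorem rho_inv_mul (g : G) : ρ g⁻¹ * ρ g = 1 := by rw [← map_mul, inv_mul_cancel, map_one]

/-- lift an element acting with `ℓ`-power order to an `ℓ`-element -/
theorem lift_pelt [Finite G] (ℓ : ℕ) [Fact ℓ.Prime] (g : G) (k : ℕ) (hg : ρ g ^ (ℓ ^ k) = 1) :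
    ∃ b : G, (∃ j : ℕ, orderOf b = ℓ ^ j) ∧ ρ b = ρ g :=
  lift_pelt_hom ρ ℓ g k hg

theorem q_smul (v : V) : q • v = 0 := by
  rw [← Nat.cast_smul_eq_nsmul (ZMod q), ZMod.natCast_self, zero_smul]

theorem quad_of_pelt {x : G}
    (hb : ∀ v : V, ∃ c : ZMod q, ρ x (v - ρ x v) = c • (v - ρ x v)) :
    ∃ ν : ZMod q, (ρ x - ν • 1) * (1 - ρ x) = 0 := by
  set B := ρ x with hB
  have hW : ∀ w ∈ LinearMap.range (1 - B), B w ∈ LinearMap.range (1 - B) := by
    rintro _ ⟨v, rfl⟩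
    refine ⟨B v, ?_⟩
    simp only [LinearMap.sub_apply, Module.End.one_apply, map_sub]
  set f : LinearMap.range (1 - B) →ₗ[ZMod q] LinearMap.range (1 - B) := B.restrict hW with hf
  have hdep : ∀ w, ¬ LinearIndependent (ZMod q) ![w, f w] := by
    rintro ⟨_, ⟨v, rfl⟩⟩ hli
    obtain ⟨c, hc⟩ := hb v
    rw [LinearIndependent.pair_iff] at hli
    have := hli c (-1) (by
      apply Subtype.ext
      show c • ((1 - B) v) + (-1 : ZMod q) • B ((1 - B) v) = 0
      have h2 : (1 - B) v = v - B v := by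
        rw [LinearMap.sub_apply, Module.End.one_apply]
      rw [h2, hc]; module)
    exact one_ne_zero (neg_eq_zero.mp this.2)
  obtain ⟨a, ha⟩ := LinearMap.exists_eq_smul_id_of_forall_notLinearIndependent hdep
  refine ⟨a, ?_⟩
  apply LinearMap.ext
  intro v
  have h1 := congrArg (fun F => ((F ⟨(1 - B) v, ⟨v, rfl⟩⟩ : LinearMap.range (1 - B)) : V)) ha
  simp only [hf, LinearMap.coe_restrict_apply, LinearMap.smul_apply, Module.End.one_apply,
    Submodule.coe_smul, LinearMap.sub_apply] at h1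
  simp only [Module.End.mul_apply, LinearMap.sub_apply, LinearMap.smul_apply, Module.End.one_apply,
    LinearMap.zero_apply]
  rw [h1, sub_self]

theorem q_dvd_card [Nontrivial V] : q ∣ Nat.card V := by
  obtain ⟨v, hv⟩ := exists_ne (0 : V)
  have h1 : addOrderOf v ∣ q := addOrderOf_dvd_of_nsmul_eq_zero (q_smul v)
  rcases (Nat.dvd_prime hq.out).mp h1 with h | h
  · exact absurd (AddMonoid.addOrderOf_eq_one_iff.mp h) hv
  · rw [← h]; exact addOrderOf_dvd_natCard v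

variable [Finite V] [Finite G]

theorem exists_fixed [Nontrivial V] (y : G) (k : ℕ) (hy : orderOf y = q ^ k) :
    ∃ v : V, v ≠ 0 ∧ ρ y v = v := by
  letI : MulAction (Subgroup.zpowers y) V :=
    MulAction.compHom V (ρ.comp (Subgroup.zpowers y).subtype)
  have hP : IsPGroup q (Subgroup.zpowers y) := by
    rw [IsPGroup.iff_card, Nat.card_zpowers, hy]; exact ⟨k, rfl⟩
  have h0 : (0 : V) ∈ MulAction.fixedPoints (Subgroup.zpowers y) V := by
    intro g
    show ρ g 0 = 0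
    exact map_zero _
  obtain ⟨b, hb, hne⟩ := hP.exists_fixed_point_of_prime_dvd_card_of_fixed_point V q_dvd_card h0
  exact ⟨b, hne.symm, hb ⟨y, Subgroup.mem_zpowers y⟩⟩

omit [Finite V] [Finite G] in
theorem nontrivial_of_not_mem_scal {y : G} (hy : y ∉ scal ρ) : Nontrivial V := by
  by_contra hnt
  rw [not_nontrivial_iff_subsingleton] at hnt
  apply hy
  refine ⟨1, ?_⟩
  apply LinearMap.ext
  intro v
  exact Subsingleton.elim _ _

omit [Finite V] [Finite G] in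
theorem smul_one_inj [Nontrivial V] {c d : ZMod q}
    (h : c • (1 : Module.End (ZMod q) V) = d • 1) : c = d := by
  obtain ⟨v, hv⟩ := exists_ne (0 : V)
  have h1 := congrArg (fun F : Module.End (ZMod q) V => F v) h
  simp only [LinearMap.smul_apply, Module.End.one_apply] at h1
  have h2 : (c - d) • v = 0 := by rw [sub_smul, h1, sub_self]
  exact sub_eq_zero.mp ((smul_eq_zero.mp h2).resolve_right hv)

omit [Finite V] [Finite G] in
/-- the conjugation data in ring form -/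
theorem conj_form {y : G} (hconj : ∀ h : G, ∃ a : ℕ, (y ^ a)⁻¹ * (h * y * h⁻¹) ∈ scal ρ) (h : G) :
    ∃ (a : ℕ) (c : ZMod q), ρ (h * y * h⁻¹) = c • ρ y ^ a := by
  obtain ⟨a, c, hc⟩ := hconj h
  refine ⟨a, c, ?_⟩
  have h1 : h * y * h⁻¹ = y ^ a * ((y ^ a)⁻¹ * (h * y * h⁻¹)) := by group
  rw [h1, map_mul, hc, map_pow, mul_smul_comm, mul_one]

theorem core_eq (irr : ∀ W : Submodule (ZMod q) V, (∀ g : G, ∀ v ∈ W, ρ g v ∈ W) → W = ⊥ ∨ W = ⊤)
    (y : G) (k : ℕ) (hk : orderOf y = q ^ k) (hyZ : y ∉ scal ρ)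
    (hconj : ∀ h : G, ∃ a : ℕ, (y ^ a)⁻¹ * (h * y * h⁻¹) ∈ scal ρ) : False := by
  haveI := nontrivial_of_not_mem_scal ρ hyZ
  obtain ⟨v₁, hv₁0, hv₁⟩ := exists_fixed ρ y k hk
  set T := ρ y with hT
  have hinv : ∀ g : G, ∀ v ∈ LinearMap.ker (T - 1), ρ g v ∈ LinearMap.ker (T - 1) := by
    intro g v hv
    rw [LinearMap.mem_ker, LinearMap.sub_apply, Module.End.one_apply, sub_eq_zero] at hv ⊢
    obtain ⟨a, c, hac⟩ := conj_form ρ hconj g⁻¹
    have hX : (g⁻¹ * y * g⁻¹⁻¹) ^ (q ^ k) = 1 := by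
      rw [conj_pow, ← hk, pow_orderOf_eq_one]; group
    have h1 : (c • T ^ a) ^ (q ^ k) = 1 := by
      rw [← hac, ← map_pow, hX, map_one]
    have hTn : T ^ (q ^ k) = 1 := by rw [hT, ← map_pow, ← hk, pow_orderOf_eq_one, map_one]
    rw [smul_pow, ← pow_mul, mul_comm, pow_mul, hTn, one_pow, ZMod.pow_card_pow] at h1
    have hc : c = 1 := smul_one_inj (by rw [h1, one_smul])
    rw [hc, one_smul, inv_inv, map_mul, map_mul] at hac
    have h2 : (T ^ a) v = v := by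
      clear hac h1
      induction a with
      | zero => rw [pow_zero, Module.End.one_apply]
      | succ a ih => rw [pow_succ, Module.End.mul_apply, hv, ih]
    rw [← hac] at h2
    simp only [Module.End.mul_apply] at h2
    have h3 := congrArg (ρ g) h2
    rw [← Module.End.mul_apply, rho_mul_inv, Module.End.one_apply] at h3
    exact h3
  rcases irr _ hinv with h | h
  · apply hv₁0
    have : v₁ ∈ LinearMap.ker (T - 1) := by
      rw [LinearMap.mem_ker, LinearMap.sub_apply, Module.End.one_apply, hv₁, sub_self]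
    rw [h] at this
    exact (Submodule.mem_bot _).mp this
  · apply hyZ
    refine ⟨1, ?_⟩
    rw [one_smul]
    apply LinearMap.ext
    intro v
    have : v ∈ LinearMap.ker (T - 1) := by rw [h]; trivial
    rw [LinearMap.mem_ker, LinearMap.sub_apply, sub_eq_zero] at this
    exact this

/-- hypothesis (b): every commutator vector of an `r`-element (`r ≠ q`) is an eigenvector -/
def HB (ρ : G →* Module.End (ZMod q) V) : Prop :=
  ∀ r : ℕ, r.Prime → r ≠ q → ∀ x : G, (∃ k : ℕ, orderOf x = r ^ k) →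
    ∀ v : V, ∃ c : ZMod q, ρ x (v - ρ x v) = c • (v - ρ x v)

omit [Finite V] in
theorem quad_of_pow (hb : HB ρ) (ℓ : ℕ) (hℓ : ℓ.Prime) (hℓq : ℓ ≠ q) (g : G) (k : ℕ)
    (hg : ρ g ^ (ℓ ^ k) = 1) : ∃ ν : ZMod q, (ρ g - ν • 1) * (1 - ρ g) = 0 := by
  haveI := Fact.mk hℓ
  obtain ⟨b, hb1, hb2⟩ := lift_pelt ρ ℓ g k hg
  rw [← hb2]
  exact quad_of_pelt ρ (hb ℓ hℓ hℓq b hb1)

omit hq [Finite V] [Finite G] in
theorem anti_pow_odd {R : Type*} [Ring R] {P T : R} (h : P * T = -(T * P)) (j : ℕ) :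
    P ^ (2 * j + 1) * T = -(T * P ^ (2 * j + 1)) := by
  have h2 : Commute (P * P) T := by
    show P * P * T = T * (P * P)
    rw [mul_assoc, h, mul_neg, ← mul_assoc, h, neg_mul, neg_neg, mul_assoc]
  have h3 : Commute ((P * P) ^ j) T := h2.pow_left j
  rw [pow_succ, pow_mul, pow_two, mul_assoc, h, mul_neg, ← mul_assoc, h3.eq, mul_assoc]

theorem core_ne (irr : ∀ W : Submodule (ZMod q) V, (∀ g : G, ∀ v ∈ W, ρ g v ∈ W) → W = ⊥ ∨ W = ⊤)
    (hb : HB ρ) (r : ℕ) (hr : r.Prime) (hrq : r ≠ q)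
    (y : G) (k : ℕ) (hk : orderOf y = r ^ k) (hyZ : y ∉ scal ρ)
    (hconj : ∀ h : G, ∃ a : ℕ, (y ^ a)⁻¹ * (h * y * h⁻¹) ∈ scal ρ) : False := by
  haveI := nontrivial_of_not_mem_scal ρ hyZ
  obtain ⟨T, hT⟩ : ∃ T, T = ρ y := ⟨_, rfl⟩
  have hTn : T ^ (r ^ k) = 1 := by rw [hT, ← map_pow, ← hk, pow_orderOf_eq_one, map_one]
  have hrK : ((r ^ k : ℕ) : ZMod q) ≠ 0 := by
    rw [Ne, ZMod.natCast_eq_zero_iff]
    intro h
    have := hq.out.dvd_of_dvd_pow h
    exact hrq ((Nat.prime_dvd_prime_iff_eq hq.out hr).mp this).symm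
  obtain ⟨μ, hμ⟩ := quad_of_pelt ρ (hb r hr hrq y ⟨k, hk⟩)
  rw [← hT] at hμ
  have hT1 : T ≠ 1 := fun h => hyZ ⟨1, by rw [one_smul, ← hT]; exact h⟩
  have hTμ : T ≠ μ • 1 := fun h => hyZ ⟨μ, by rw [← hT]; exact h⟩
  have hμ1 : μ ≠ 1 := by
    intro h
    rw [h, one_smul] at hμ
    have hS : (T - 1) * (T - 1) = 0 := by
      have : (T - 1) * (T - 1) = -((T - 1) * (1 - T)) := by noncomm_ring
      rw [this, hμ, neg_zero]
    have hpow : ∀ n : ℕ, T ^ n = 1 + n • (T - 1) := by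
      intro n
      induction n with
      | zero => simp
      | succ n ih =>
        rw [pow_succ, ih]
        have h1 : (1 + n • (T - 1)) * T
            = 1 + (n + 1) • (T - 1) + n • ((T - 1) * (T - 1)) := by
          have hTS : (1 + n • (T - 1)) * T = (1 + n • (T - 1)) * (1 + (T - 1)) := by
            congr 1; abel
          rw [hTS, mul_add, mul_one, add_mul, one_mul, smul_mul_assoc, succ_nsmul]
          abel
        rw [h1, hS, smul_zero, add_zero]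
    have h2 := hpow (r ^ k)
    rw [hTn] at h2
    have h0 : ((r ^ k : ℕ) : ZMod q) • (T - 1) = 0 := by
      rw [Nat.cast_smul_eq_nsmul]
      have := congrArg (fun x => x - 1) h2
      simp only [sub_self, add_sub_cancel_left] at this
      exact this.symm
    rcases smul_eq_zero.mp h0 with h3 | h3
    · exact hrK h3
    · exact hT1 (sub_eq_zero.mp h3)
  obtain ⟨E₁, E₂, hE, hTE⟩ := exists_OI hμ hμ1 hT1 hTμ
  have hμn : μ ^ (r ^ k) = 1 := by
    have := hTn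
    rw [hTE, hE.dg_pow, one_pow, ← hE.dg_one] at this
    exact (hE.dg_inj this).2
  have hμ0 : μ ≠ 0 := by
    intro h
    rw [h, zero_pow (pow_ne_zero k hr.ne_zero)] at hμn
    exact zero_ne_one hμn
  -- conjugates
  have hcases : ∀ h : G, ρ (h * y * h⁻¹) = T ∨ ρ (h * y * h⁻¹) = dg E₁ E₂ μ 1 := by
    intro h
    obtain ⟨a, c, hac⟩ := conj_form ρ hconj h
    rw [← hT] at hac
    have hTh : (ρ (h * y * h⁻¹) - μ • 1) * (1 - ρ (h * y * h⁻¹)) = 0 := by
      have hPP' : ρ h * ρ h⁻¹ = 1 := rho_mul_inv ρ h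
      have hP'P : ρ h⁻¹ * ρ h = 1 := rho_inv_mul ρ h
      have e1 : ρ h * T * ρ h⁻¹ - μ • 1 = ρ h * (T - μ • 1) * ρ h⁻¹ := by
        rw [mul_sub, sub_mul, mul_smul_comm, mul_one, smul_mul_assoc, hPP']
      have e2 : 1 - ρ h * T * ρ h⁻¹ = ρ h * (1 - T) * ρ h⁻¹ := by
        rw [mul_sub, sub_mul, mul_one, hPP']
      rw [map_mul, map_mul, ← hT, e1, e2]
      have : ρ h * (T - μ • 1) * ρ h⁻¹ * (ρ h * (1 - T) * ρ h⁻¹)
          = ρ h * ((T - μ • 1) * ((ρ h⁻¹ * ρ h) * (1 - T))) * ρ h⁻¹ := by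
        simp only [mul_assoc]
      rw [this, hP'P, one_mul, hμ, mul_zero, zero_mul]
    have hform : ρ (h * y * h⁻¹) = dg E₁ E₂ c (c * μ ^ a) := by
      rw [hac, hTE, hE.dg_pow, one_pow, dg_smul, mul_one]
    obtain ⟨d, hd⟩ : ∃ d, d = c * μ ^ a := ⟨_, rfl⟩
    rw [← hd] at hform
    rw [hform, ← hE.dg_smul_one, ← hE.dg_one, dg_sub, dg_sub, hE.dg_mul] at hTh
    obtain ⟨h1, h2⟩ := hE.dg_eq_zero hTh
    have hne : c ≠ d := by
      intro heq
      apply hyZ
      have h3 : h * y * h⁻¹ ∈ scal ρ := ⟨c, by rw [hform, ← heq, hE.dg_smul_one]⟩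
      have h4 := (scal_normal ρ).conj_mem _ h3 h⁻¹
      have h5 : h⁻¹ * (h * y * h⁻¹) * h⁻¹⁻¹ = y := by group
      rwa [h5] at h4
    rw [hform, hTE]
    rcases mul_eq_zero.mp h1 with h1 | h1 <;> rcases mul_eq_zero.mp h2 with h2 | h2
    · exfalso; apply hne
      rw [sub_eq_zero.mp h1, sub_eq_zero.mp h2]
    · right
      rw [sub_eq_zero.mp h1, ← sub_eq_zero.mp h2]
    · left
      rw [← sub_eq_zero.mp h1, sub_eq_zero.mp h2]
    · exfalso; apply hne
      rw [← sub_eq_zero.mp h1, ← sub_eq_zero.mp h2]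
  have hE1 : dg E₁ E₂ (1 : ZMod q) 0 = E₁ := by unfold dg; rw [one_smul, zero_smul, add_zero]
  -- some conjugate is swapped
  have hex : ∃ h : G, ρ (h * y * h⁻¹) = dg E₁ E₂ μ 1 := by
    by_contra hno
    push Not at hno
    have hall : ∀ h : G, ρ (h * y * h⁻¹) = T := fun h => (hcases h).resolve_right (hno h)
    have hcomm : ∀ g : G, T * ρ g = ρ g * T := by
      intro g
      have h1 := hall g⁻¹
      rw [inv_inv, map_mul, map_mul, ← hT] at h1
      calc T * ρ g = (ρ g * ρ g⁻¹) * T * ρ g := by rw [rho_mul_inv, one_mul]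
        _ = ρ g * (ρ g⁻¹ * T * ρ g) := by simp only [mul_assoc]
        _ = ρ g * T := by rw [h1]
    have hinv : ∀ g : G, ∀ v ∈ LinearMap.ker (T - 1), ρ g v ∈ LinearMap.ker (T - 1) := by
      intro g v hv
      rw [LinearMap.mem_ker, LinearMap.sub_apply, Module.End.one_apply, sub_eq_zero] at hv ⊢
      rw [← Module.End.mul_apply, hcomm, Module.End.mul_apply, hv]
    rcases irr _ hinv with h | h
    · have hex1 : ∃ v, E₁ v ≠ 0 := by
        by_contra hn
        push Not at hn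
        exact hE.ne1 (LinearMap.ext hn)
      obtain ⟨v, hv⟩ := hex1
      have h1 : (T - 1) * E₁ = 0 := by
        calc (T - 1) * E₁
            = (dg E₁ E₂ (1 : ZMod q) μ - dg E₁ E₂ (1 : ZMod q) 1) * dg E₁ E₂ (1 : ZMod q) 0 := by
              rw [hE1, hE.dg_one, ← hTE]
          _ = 0 := by
              rw [dg_sub, hE.dg_mul, sub_self, zero_mul, mul_zero]
              unfold dg; rw [zero_smul, zero_smul, add_zero]
      have h2 : E₁ v ∈ LinearMap.ker (T - 1) := by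
        rw [LinearMap.mem_ker, ← Module.End.mul_apply, h1, LinearMap.zero_apply]
      rw [h] at h2
      exact hv ((Submodule.mem_bot _).mp h2)
    · apply hT1
      apply LinearMap.ext
      intro v
      have : v ∈ LinearMap.ker (T - 1) := by rw [h]; trivial
      rw [LinearMap.mem_ker, LinearMap.sub_apply, sub_eq_zero] at this
      exact this
  obtain ⟨h, hh⟩ := hex
  have hinvc : ρ (h * y⁻¹ * h⁻¹) = dg E₁ E₂ μ⁻¹ 1 := by
    have h1 : ρ (h * y⁻¹ * h⁻¹) * ρ (h * y * h⁻¹) = 1 := by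
      rw [← map_mul]
      have : h * y⁻¹ * h⁻¹ * (h * y * h⁻¹) = 1 := by group
      rw [this, map_one]
    have h2 : dg E₁ E₂ μ 1 * dg E₁ E₂ μ⁻¹ 1 = 1 := by
      rw [hE.dg_mul, mul_inv_cancel₀ hμ0, mul_one, hE.dg_one]
    calc ρ (h * y⁻¹ * h⁻¹) = ρ (h * y⁻¹ * h⁻¹) * (dg E₁ E₂ μ 1 * dg E₁ E₂ μ⁻¹ 1) := by
          rw [h2, mul_one]
      _ = (ρ (h * y⁻¹ * h⁻¹) * ρ (h * y * h⁻¹)) * dg E₁ E₂ μ⁻¹ 1 := by
          rw [hh]; exact (mul_assoc _ _ _).symm
      _ = dg E₁ E₂ μ⁻¹ 1 := by rw [h1, one_mul]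
  have hg : ρ (y * (h * y⁻¹ * h⁻¹)) = dg E₁ E₂ μ⁻¹ μ := by
    rw [map_mul, ← hT, hTE, hinvc, hE.dg_mul, one_mul, mul_one]
  have hgpow : ρ (y * (h * y⁻¹ * h⁻¹)) ^ (r ^ k) = 1 := by
    rw [hg, hE.dg_pow, inv_pow, hμn, inv_one, hE.dg_one]
  obtain ⟨ν, hν⟩ := quad_of_pow ρ hb r hr hrq _ k hgpow
  rw [hg, ← hE.dg_smul_one, ← hE.dg_one, dg_sub, dg_sub, hE.dg_mul] at hν
  obtain ⟨h1, h2⟩ := hE.dg_eq_zero hν
  have hν1 : ν = μ := by
    rcases mul_eq_zero.mp h2 with h | h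
    · exact (sub_eq_zero.mp h).symm
    · exact absurd (sub_eq_zero.mp h).symm hμ1
  have hν2 : ν = μ⁻¹ := by
    rcases mul_eq_zero.mp h1 with h | h
    · exact (sub_eq_zero.mp h).symm
    · exfalso
      apply hμ1
      have := (sub_eq_zero.mp h).symm
      rwa [inv_eq_one] at this
  have hμ2 : μ = -1 := by
    have h3 : μ = μ⁻¹ := hν1.symm.trans hν2
    have h4 : μ * μ = 1 := by
      nth_rewrite 2 [h3]
      exact mul_inv_cancel₀ hμ0
    have h5 : (μ - 1) * (μ + 1) = 0 := by linear_combination h4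
    rcases mul_eq_zero.mp h5 with h | h
    · exact absurd (sub_eq_zero.mp h) hμ1
    · exact eq_neg_of_add_eq_zero_left h
  have h2K : (2 : ZMod q) ≠ 0 := by
    intro h
    apply hμ1
    rw [hμ2]
    linear_combination -h
  have h2q : (2 : ℕ) ≠ q := by
    rintro rfl
    apply h2K
    exact ZMod.natCast_self 2
  subst hμ2
  have hanti : ρ h * T = -(T * ρ h) := by
    have h1 : ρ h * T * ρ h⁻¹ = -T := by
      rw [hT, ← map_mul, ← map_mul, hh, ← hT, hTE, dg_neg, neg_neg]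
    calc ρ h * T = ρ h * T * (ρ h⁻¹ * ρ h) := by rw [rho_inv_mul, mul_one]
      _ = (ρ h * T * ρ h⁻¹) * ρ h := by simp only [mul_assoc]
      _ = -(T * ρ h) := by rw [h1, neg_mul]
  have hodd : ¬ 2 ∣ ordCompl[2] (orderOf h) :=
    Nat.not_dvd_ordCompl Nat.prime_two (orderOf_pos h).ne'
  obtain ⟨j, hj⟩ : ∃ j, ordCompl[2] (orderOf h) = 2 * j + 1 := by
    have := Nat.odd_iff.mpr (Nat.two_dvd_ne_zero.mp hodd)
    exact this
  have hBanti : ρ (h ^ (ordCompl[2] (orderOf h))) * T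
      = -(T * ρ (h ^ (ordCompl[2] (orderOf h)))) := by
    rw [map_pow, hj]; exact anti_pow_odd hanti j
  have hBpow : ρ (h ^ (ordCompl[2] (orderOf h))) ^ (2 ^ ((orderOf h).factorization 2)) = 1 := by
    rw [← map_pow, ← pow_mul, mul_comm, Nat.ordProj_mul_ordCompl_eq_self, pow_orderOf_eq_one,
      map_one]
  obtain ⟨b, hb'⟩ : ∃ b, b = h ^ (ordCompl[2] (orderOf h)) := ⟨_, rfl⟩
  rw [← hb'] at hBanti hBpow
  obtain ⟨ν₁, hν₁⟩ := quad_of_pow ρ hb 2 Nat.prime_two h2q b _ hBpow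
  have hBB : ρ b * ρ b = 1 :=
    sq_eq_one_of_anti h2K hBanti hν₁ (by rw [hT, ← map_mul]; exact (Group.isUnit _).map ρ)
  have hTT : T * T = 1 := by
    rw [hTE, hE.dg_mul, mul_one, neg_mul_neg, mul_one, hE.dg_one]
  have hganti : ρ (y * b) * T = -(T * ρ (y * b)) := by
    rw [map_mul, ← hT, mul_assoc, hBanti, mul_neg]
  have hgsq : ρ (y * b) * ρ (y * b) = -1 := by
    rw [map_mul, ← hT]
    calc T * ρ b * (T * ρ b) = T * (ρ b * T) * ρ b := by simp only [mul_assoc]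
      _ = -(T * T * (ρ b * ρ b)) := by rw [hBanti]; simp only [mul_neg, neg_mul, mul_assoc]
      _ = -1 := by rw [hTT, hBB, mul_one]
  have hg4 : ρ (y * b) ^ (2 ^ 2) = 1 := by
    have h22 : (2 : ℕ) ^ 2 = 2 * 2 := rfl
    rw [h22, pow_mul, pow_two, pow_two, hgsq, neg_mul_neg, one_mul]
  obtain ⟨ν₂, hν₂⟩ := quad_of_pow ρ hb 2 Nat.prime_two h2q (y * b) 2 hg4
  have hfin := sq_eq_one_of_anti h2K hganti hν₂
    (by rw [hT, ← map_mul]; exact (Group.isUnit _).map ρ)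
  rw [hgsq] at hfin
  have h5 : ((-1 : ZMod q)) • (1 : Module.End (ZMod q) V) = (1 : ZMod q) • 1 := by
    rw [neg_smul, one_smul, hfin]
  have h6 := smul_one_inj h5
  apply h2K
  linear_combination -h6

/-- The core theorem: an irreducible module over the prime field, on which `r`-elements
(`r ≠ q`) act with all commutator vectors eigenvectors, and with "supersolvable" quotient,
is one-dimensional. -/
theorem core (irr : ∀ W : Submodule (ZMod q) V, (∀ g : G, ∀ v ∈ W, ρ g v ∈ W) → W = ⊥ ∨ W = ⊤)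
    (hb : HB ρ)
    (hss : ∀ Z : Subgroup G, Z.Normal → ρ.ker ≤ Z → Z ≠ ⊤ →
      ∃ (r : ℕ) (y : G), r.Prime ∧ (∃ k : ℕ, orderOf y = r ^ k) ∧ y ∉ Z ∧
        ∀ h : G, ∃ a : ℕ, (y ^ a)⁻¹ * (h * y * h⁻¹) ∈ Z) :
    ∃ v₀ : V, ∀ v : V, ∃ c : ZMod q, v = c • v₀ := by
  by_cases hZ : scal ρ = ⊤
  · by_cases hV : ∀ v : V, v = 0
    · exact ⟨0, fun v => ⟨0, by rw [hV v, smul_zero]⟩⟩
    · push Not at hV
      obtain ⟨v₀, hv₀⟩ := hV
      refine ⟨v₀, fun v => ?_⟩
      have hinv : ∀ g : G, ∀ v ∈ Submodule.span (ZMod q) {v₀},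
          ρ g v ∈ Submodule.span (ZMod q) {v₀} := by
        intro g v hv
        have hg : g ∈ scal ρ := by rw [hZ]; trivial
        obtain ⟨c, hc⟩ := hg
        rw [hc, LinearMap.smul_apply, Module.End.one_apply]
        exact Submodule.smul_mem _ _ hv
      rcases irr _ hinv with h | h
      · exfalso
        apply hv₀
        have : v₀ ∈ Submodule.span (ZMod q) {v₀} := Submodule.mem_span_singleton_self v₀
        rw [h] at this
        exact (Submodule.mem_bot _).mp this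
      · have : v ∈ Submodule.span (ZMod q) {v₀} := by rw [h]; trivial
        obtain ⟨c, hc⟩ := Submodule.mem_span_singleton.mp this
        exact ⟨c, hc.symm⟩
  · exfalso
    obtain ⟨r, y, hr, ⟨k, hk⟩, hyZ, hconj⟩ := hss (scal ρ) inferInstance (ker_le_scal ρ) hZ
    by_cases hrq : r = q
    · subst hrq
      exact core_eq ρ irr y k hk hyZ hconj
    · exact core_ne ρ irr hb r hr hrq y k hk hyZ hconj

end Core

end Cfsg.Agent.Lib.Helper6.SSC
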