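import Mathlib
import Cfsg.Prelude.Def_SolvableStructure
import Cfsg.Agent.Lib.Helper2.SupersolvableTower
import Cfsg.Agent.Lib.Helper2.Schmidt2
import Cfsg.Agent.Lib.Helper4.NPC
import Cfsg.Agent.Lib.Lead.FrobNPC5
import Cfsg.Agent.Lib.Lead.MinNonPNilp

set_option autoImplicit false

namespace Cfsg.Agent.Lib.Helper6.SSC

open Cfsg Cfsg.Agent.Lib.Helper2

universe u

/-- supersolvable groups are solvable -/
theorem isSolvable_of_isSupersolvable {G : Type*} [Group G] (hG : IsSupersolvable G) :
    Group.IsSolvable G := by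
  haveI : Group.IsNilpotent (commutator G) := isNilpotent_commutator_of_isSupersolvable hG
  haveI : Group.IsSolvable (commutator G) := inferInstance
  exact Group.isSolvable_of_ker_le_range (commutator G).subtype (Abelianization.of (G := G))
    (by rw [Abelianization.ker_of, Subgroup.range_subtype])

/-- a finite supersolvable group has a normal `p`-complement (as a normal Hall subgroup) for the
smallest prime `p` -/
theorem ss_npc_aux (p : ℕ) [hp : Fact p.Prime] : ∀ (n : ℕ) (H : Type u) [Group H] [Finite H],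
    Nat.card H = n → IsSupersolvable H →
    (∀ r : ℕ, r.Prime → r ∣ Nat.card H → p ≤ r) →
    ∃ K : Subgroup H, K.Normal ∧ (Nat.card K).Coprime p ∧ ∃ k : ℕ, K.index = p ^ k := by
  intro n
  induction n using Nat.strong_induction_on with
  | _ n ih =>
    intro H _ _ hn hH hmin
    by_cases hpg : ∃ k : ℕ, Nat.card H = p ^ k
    · obtain ⟨k, hk⟩ := hpg
      refine ⟨⊥, Subgroup.normal_bot, ?_, k, ?_⟩
      · rw [Subgroup.card_bot]; exact Nat.coprime_one_left p
      · rw [Subgroup.index_bot, hk]
    · -- some prime other than p divides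
      have hex : ∃ r : ℕ, r.Prime ∧ r ∣ Nat.card H ∧ r ≠ p := by
        by_contra hno
        push Not at hno
        apply hpg
        have hc0 : Nat.card H ≠ 0 := Nat.card_pos.ne'
        exact ⟨_, Nat.eq_prime_pow_of_unique_prime_dvd hc0 (fun {r} hr hrd => hno r hr hrd)⟩
      -- the largest prime
      have hne : (Nat.card H).primeFactors.Nonempty := by
        obtain ⟨r, hr, hrd, -⟩ := hex
        exact ⟨r, Nat.mem_primeFactors.mpr ⟨hr, hrd, Nat.card_pos.ne'⟩⟩
      set R := (Nat.card H).primeFactors.max' hne with hR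
      have hRmem := (Nat.card H).primeFactors.max'_mem hne
      rw [← hR, Nat.mem_primeFactors] at hRmem
      obtain ⟨hRp, hRd, -⟩ := hRmem
      have hRmax : ∀ r : ℕ, r.Prime → r ∣ Nat.card H → r ≤ R := by
        intro r hr hrd
        exact (Nat.card H).primeFactors.le_max' r
          (Nat.mem_primeFactors.mpr ⟨hr, hrd, Nat.card_pos.ne'⟩)
      have hRne : R ≠ p := by
        intro h
        obtain ⟨r, hr, hrd, hrp⟩ := hex
        have h1 := hRmax r hr hrd
        have h2 := hmin r hr hrd
        omega
      obtain ⟨N, hNn, hNc⟩ := exists_normal_card_largest_prime hH R hRp hRd hRmax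
      haveI := hNn
      have hcard : Nat.card H = Nat.card (H ⧸ N) * R := by
        rw [← hNc]; exact card_eq_card_quotient_mul_card N
      have hQ : IsSupersolvable (H ⧸ N) :=
        isSupersolvable_of_surjective (QuotientGroup.mk' N) (QuotientGroup.mk'_surjective N) hH
      have hpos : 0 < Nat.card (H ⧸ N) := Nat.card_pos
      have hlt : Nat.card (H ⧸ N) < n := by
        rw [← hn, hcard]
        have := hRp.one_lt
        nlinarith
      have hmin' : ∀ r : ℕ, r.Prime → r ∣ Nat.card (H ⧸ N) → p ≤ r := by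
        intro r hr hrd
        apply hmin r hr
        rw [hcard]; exact Dvd.dvd.mul_right hrd R
      obtain ⟨K', hK'n, hK'c, k, hK'i⟩ := ih _ hlt (H ⧸ N) rfl hQ hmin'
      refine ⟨K'.comap (QuotientGroup.mk' N), Subgroup.Normal.comap hK'n _, ?_, k, ?_⟩
      · rw [card_comap_mk, hNc]
        exact Nat.Coprime.mul_left hK'c ((Nat.coprime_primes hRp hp.out).mpr hRne)
      · rw [Subgroup.index_comap_of_surjective K' (QuotientGroup.mk'_surjective N), hK'i]

theorem ss_npc {H : Type u} [Group H] [Finite H] (p : ℕ) [hp : Fact p.Prime]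
    (hH : IsSupersolvable H) (hmin : ∀ r : ℕ, r.Prime → r ∣ Nat.card H → p ≤ r) :
    HasNormalPComplement p H := by
  obtain ⟨K, hKn, hKc, k, hk⟩ := ss_npc_aux p (Nat.card H) H rfl hH hmin
  exact Cfsg.Agent.Lib.Helper4.hasNormalPComplement_of_normal_coprime K hKn hKc k hk

/-- a finite group all of whose proper subgroups are supersolvable is solvable -/
theorem isSolvable_of_proper_ss {G : Type u} [Group G] [Finite G]
    (h : ∀ H : Subgroup G, H ≠ ⊤ → IsSupersolvable H) : Group.IsSolvable G := by
  rcases subsingleton_or_nontrivial G with hs | hnt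
  · infer_instance
  have hc1 : Nat.card G ≠ 1 := by
    intro h1
    exact not_subsingleton G (Nat.card_eq_one_iff_unique.mp h1).1
  set p := (Nat.card G).minFac with hp
  haveI hpp : Fact p.Prime := ⟨Nat.minFac_prime hc1⟩
  have hpd : p ∣ Nat.card G := Nat.minFac_dvd _
  have hnpc : ∀ H : Subgroup G, H ≠ ⊤ → HasNormalPComplement p H := by
    intro H hH
    apply ss_npc p (h H hH)
    intro r hr hrd
    exact Nat.minFac_le_of_dvd hr.two_le (hrd.trans (Subgroup.card_subgroup_dvd_card H))
  by_cases h1 : HasNormalPComplement p G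
  · obtain ⟨P, K, hKn, hc⟩ := h1
    haveI := hKn
    obtain ⟨k, hk⟩ := Cfsg.Agent.Lib.Lead.index_eq_pow_of_isComplement' P K hc
    have hKtop : K ≠ ⊤ := by
      intro hK
      have h2 := Cfsg.Agent.Lib.Lead.card_coprime_of_isComplement' P K hc
      rw [hK, Subgroup.card_top] at h2
      exact (Nat.Prime.coprime_iff_not_dvd hpp.out).mp h2.symm hpd
    haveI : Group.IsSolvable K := isSolvable_of_isSupersolvable (h K hKtop)
    haveI : Group.IsSolvable (G ⧸ K) := by
      have : IsPGroup p (G ⧸ K) := by
        rw [IsPGroup.iff_card, ← Subgroup.index_eq_card, hk]; exact ⟨k, rfl⟩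
      haveI := this.isNilpotent
      infer_instance
    exact Group.isSolvable_of_ker_le_range K.subtype (QuotientGroup.mk' K)
      (by rw [QuotientGroup.ker_mk', Subgroup.range_subtype])
  · obtain ⟨h2, h3, -⟩ := Cfsg.Agent.Lib.Lead.minimal_non_pnilpotent h1 hnpc
    exact Cfsg.Agent.Lib.Helper2.Schmidt.isSolvable_of_isMinimalNonNilpotent ⟨h3, h2⟩

end Cfsg.Agent.Lib.Helper6.SSC
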