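import Mathlib
import Cfsg.Agent.Lib.Helper6.SSC1

set_option autoImplicit false

namespace Cfsg.Agent.Lib.Helper6.SSC

section Mult

variable {G : Type*} [Group G] [Finite G] {q : ℕ} [hq : Fact q.Prime]
  {A : Type*} [CommGroup A] [Finite A]

/-- multiplicative version of `core` -/
theorem cyclic_of_core (hexp : ∀ a : A, a ^ q = 1) (φ : G →* MulAut A)
    (irr : ∀ W : Subgroup A, (∀ g : G, ∀ a ∈ W, φ g a ∈ W) → W = ⊥ ∨ W = ⊤)
    (hb : ∀ r : ℕ, r.Prime → r ≠ q → ∀ x : G, (∃ k : ℕ, orderOf x = r ^ k) →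
      ∀ a : A, φ x (a / φ x a) ∈ Subgroup.zpowers (a / φ x a))
    (hss : ∀ Z : Subgroup G, Z.Normal → φ.ker ≤ Z → Z ≠ ⊤ →
      ∃ (r : ℕ) (y : G), r.Prime ∧ (∃ k : ℕ, orderOf y = r ^ k) ∧ y ∉ Z ∧
        ∀ h : G, ∃ a : ℕ, (y ^ a)⁻¹ * (h * y * h⁻¹) ∈ Z) :
    IsCyclic A := by
  have hx : ∀ x : Additive A, q • x = 0 := by
    intro x
    show Additive.ofMul (Additive.toMul x ^ q) = 0
    rw [hexp]; rfl
  haveI : Module (ZMod q) (Additive A) := AddCommGroup.zmodModule hx
  let ρ : G →* Module.End (ZMod q) (Additive A) :=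
    { toFun := fun g => (MonoidHom.toAdditive (φ g).toMonoidHom).toZModLinearMap q
      map_one' := by
        apply LinearMap.ext
        intro v
        rw [Module.End.one_apply]
        show Additive.ofMul (φ 1 (Additive.toMul v)) = v
        rw [map_one]; rfl
      map_mul' := by
        intro g h
        apply LinearMap.ext
        intro v
        rw [Module.End.mul_apply]
        show Additive.ofMul (φ (g * h) (Additive.toMul v))
          = Additive.ofMul (φ g (φ h (Additive.toMul v)))
        rw [map_mul]; rfl }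
  have hcore := core ρ ?_ ?_ ?_
  · obtain ⟨v₀, hv₀⟩ := hcore
    refine ⟨⟨Additive.toMul v₀, fun a => ?_⟩⟩
    obtain ⟨c, hc⟩ := hv₀ (Additive.ofMul a)
    refine ⟨(c.val : ℤ), ?_⟩
    rw [← ZMod.natCast_zmod_val c, Nat.cast_smul_eq_nsmul] at hc
    have : Additive.toMul (Additive.ofMul a) = Additive.toMul (c.val • v₀) := by rw [hc]
    show Additive.toMul v₀ ^ (c.val : ℤ) = a
    rw [zpow_natCast]
    exact this.symm
  · -- irreducibility
    intro W hW
    let W' : Subgroup A :=
      { carrier := {a | Additive.ofMul a ∈ W}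
        one_mem' := W.zero_mem
        mul_mem' := fun {a b} ha hb => W.add_mem ha hb
        inv_mem' := fun {a} ha => W.neg_mem ha }
    have hW' : ∀ g : G, ∀ a ∈ W', φ g a ∈ W' := fun g a ha => hW g _ ha
    rcases irr W' hW' with h | h
    · left
      rw [eq_bot_iff]
      intro v hv
      have : Additive.toMul v ∈ W' := hv
      rw [h, Subgroup.mem_bot] at this
      rw [Submodule.mem_bot]
      exact this
    · right
      rw [eq_top_iff]
      intro v _
      have : Additive.toMul v ∈ W' := by rw [h]; trivial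
      exact this
  · -- hb
    intro r hr hrq x hx v
    have h1 := hb r hr hrq x hx (Additive.toMul v)
    obtain ⟨n, hn⟩ := Subgroup.mem_zpowers_iff.mp h1
    refine ⟨(n : ZMod q), ?_⟩
    rw [Int.cast_smul_eq_zsmul]
    show Additive.ofMul (φ x (Additive.toMul v / φ x (Additive.toMul v)))
      = Additive.ofMul ((Additive.toMul v / φ x (Additive.toMul v)) ^ n)
    rw [hn]
  · -- hss
    intro Z hZn hker hZ
    apply hss Z hZn _ hZ
    intro g hg
    apply hker
    rw [MonoidHom.mem_ker] at hg ⊢
    apply LinearMap.ext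
    intro v
    show Additive.ofMul (φ g (Additive.toMul v)) = v
    rw [hg]; rfl

end Mult

end Cfsg.Agent.Lib.Helper6.SSC
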