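import Mathlib
import Cfsg.Prelude.Def_Characters
import Cfsg.Agent.Lib.Helper2.UT9
import Cfsg.Agent.Lib.Helper4.Characters
import Cfsg.Agent.Lib.Helper8.CharKernel

set_option autoImplicit false
set_option linter.unusedSectionVars false
set_option linter.style.haveILetI false

/-!
S2334 / S2335, package PK-G5a: an irreducible character of `T h` of degree `≠ 1` is not constant
on a long root group.
-/

namespace Cfsg.Agent.Lib.Helper1.SUMin

open Module Cfsg Cfsg.Agent.Lib.Helper2 Cfsg.Agent.Lib.Helper2.IsomDecomp Cfsg.Agent.Lib.Helper2.UT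
  Cfsg.Agent.Lib.Helper5.PSLCoset
open scoped ComplexConjugate

section G5a
universe u
variable {F : Type u} [Field F] [Fintype F] {σ : F ≃+* F} {V : Type u} [AddCommGroup V] [Module F V]
  [FiniteDimensional F V] {H : V → V → F}

theorem PKB.tv_smul' (h : IsHerm σ H) (v : V) (l a : F) (hv : H v v = 0)
    (hv' : H (l • v) (l • v) = 0) : tv h (l • v) a hv' = tv h v (a * l * σ l) hv := by
  apply LinearEquiv.ext
  intro x
  rw [tv_apply, tv_apply, h.smul_right, smul_smul]
  congr 2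
  ring

/-- a normal subgroup of `T h` containing one nontrivial long root group is everything -/
theorem PKB.normal_eq_top (h : IsHerm σ H) (hσ : orderOf σ = 2)
    (hnd : ∀ v, (∀ w, H v w = 0) → v = 0)
    (hdim : 3 ≤ finrank F V) {e0 : V} (he0 : H e0 e0 = 0) (hne0 : e0 ≠ 0)
    (K : Subgroup ↥(T h)) (hK : K.Normal)
    (hmem : ∀ (c : F) (hc : σ c = -c), (⟨tv h e0 c he0, tv_mem_T h e0 c he0 hc⟩ : ↥(T h)) ∈ K) :
    K = ⊤ := by
  have hss : ∀ a : F, σ (σ a) = a := WittHerm.sigma_sigma hσ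
  obtain ⟨c0, hc00, hc0⟩ := exists_skew hσ
  -- every unitary transvection lies in `K`
  have hall : ∀ (v : V) (c : F) (hv : H v v = 0) (hc : σ c = -c),
      (⟨tv h v c hv, tv_mem_T h v c hv hc⟩ : ↥(T h)) ∈ K := by
    intro v c hv hc
    by_cases hv0 : v = 0
    · have : (⟨tv h v c hv, tv_mem_T h v c hv hc⟩ : ↥(T h)) = 1 := by
        apply Subtype.ext
        apply LinearEquiv.ext
        intro x
        rw [tv_apply, hv0, smul_zero, add_zero]
        rfl
      rw [this]
      exact K.one_mem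
    by_cases hc0' : c = 0
    · have : (⟨tv h v c hv, tv_mem_T h v c hv hc⟩ : ↥(T h)) = 1 := by
        apply Subtype.ext
        apply LinearEquiv.ext
        intro x
        rw [tv_apply, hc0', zero_mul, zero_smul, add_zero]
        rfl
      rw [this]
      exact K.one_mem
    -- `c = c0 * N(l)`
    have hfix : σ (c / c0) = c / c0 := by
      rw [map_div₀, hc, hc0, neg_div_neg_eq]
    have hne : c / c0 ≠ 0 := div_ne_zero hc0' hc00
    obtain ⟨l, hl0, hl⟩ := exists_norm_eq hσ (c / c0) hne hfix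
    have hlv : H (l • v) (l • v) = 0 := by
      rw [h.smul_left, h.smul_right, hv, mul_zero, mul_zero]
    have hlv0 : l • v ≠ 0 := smul_ne_zero hl0 hv0
    obtain ⟨t, ht, hte⟩ := exists_T_map_iso hσ h hnd hdim he0 hlv hne0 hlv0
    have htis : t ∈ isom H := T_le_isom h ht
    have hconj : t * tv h e0 c0 he0 * t⁻¹ = tv h v c hv := by
      rw [conj_tv h htis e0 c0 he0]
      have h1 : tv h (t e0) c0 (by rw [htis, he0]) = tv h (l • v) c0 hlv := by
        apply LinearEquiv.ext
        intro x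
        rw [tv_apply, tv_apply, hte]
      rw [h1, PKB.tv_smul' h v l c0 hv hlv]
      apply LinearEquiv.ext
      intro x
      rw [tv_apply, tv_apply]
      have : c0 * l * σ l = c := by
        rw [mul_assoc, hl]
        field_simp
      rw [this]
    have hk := hK.conj_mem _ (hmem c0 hc0) ⟨t, ht⟩
    have : (⟨t, ht⟩ : ↥(T h)) * ⟨tv h e0 c0 he0, tv_mem_T h e0 c0 he0 hc0⟩ * (⟨t, ht⟩ : ↥(T h))⁻¹ =
        ⟨tv h v c hv, tv_mem_T h v c hv hc⟩ := by
      apply Subtype.ext
      exact hconj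
    rw [this] at hk
    exact hk
  -- hence `K` is everything
  have hle : T h ≤ K.map (T h).subtype := by
    unfold T
    rw [Subgroup.closure_le]
    rintro g ⟨v, c, hv, hc, rfl⟩
    exact ⟨⟨tv h v c hv, tv_mem_T h v c hv hc⟩, hall v c hv hc, rfl⟩
  rw [eq_top_iff]
  intro g _
  obtain ⟨k, hk, hkg⟩ := hle g.2
  have : k = g := Subtype.ext hkg
  rw [← this]
  exact hk

/-- by contradiction: the kernel contains `tv e0 c`, hence all transvections, hence is everything;
then `χ 1 = 1` -/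
theorem exists_tv_ne (h : IsHerm σ H) (hσ : orderOf σ = 2) (hnd : ∀ v, (∀ w, H v w = 0) → v = 0)
    (hdim : 3 ≤ finrank F V) {e0 : V} (he0 : H e0 e0 = 0) (hne0 : e0 ≠ 0)
    {χ : ↥(T h) → ℂ} (hχ : IsIrrCharacter ↥(T h) χ) (hne : χ 1 ≠ 1) :
    ∃ (c : F) (hc : σ c = -c), χ ⟨tv h e0 c he0, tv_mem_T h e0 c he0 hc⟩ ≠ χ 1 := by
  classical
  by_contra hcon
  have hcon' : ∀ (c : F) (hc : σ c = -c), χ ⟨tv h e0 c he0, tv_mem_T h e0 c he0 hc⟩ = χ 1 := by
    intro c hc
    by_contra hx
    exact hcon ⟨c, hc, hx⟩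
  haveI : Finite V := Module.finite_of_finite F
  haveI : Finite (V ≃ₗ[F] V) :=
    Finite.of_injective (fun g : V ≃ₗ[F] V => (g : V → V)) DFunLike.coe_injective
  haveI : Fintype ↥(T h) := Fintype.ofFinite _
  have hχc : IsCharacter ↥(T h) χ := Cfsg.Agent.Lib.Helper4.isCharacter_of_irr hχ
  obtain ⟨K, hKn, hK⟩ := Cfsg.Agent.Lib.Helper8.exists_normal_ker hχc
  have hKtop : K = ⊤ := by
    apply PKB.normal_eq_top h hσ hnd hdim he0 hne0 K hKn
    intro c hc
    rw [hK]
    exact hcon' c hc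
  have hall : ∀ g : ↥(T h), χ g = χ 1 := by
    intro g
    rw [← hK, hKtop]
    exact Subgroup.mem_top g
  have h1 := Cfsg.Agent.Lib.Helper4.classInner_irr_self hχ
  rw [Cfsg.Agent.Lib.Helper4.classInner_def] at h1
  obtain ⟨n, hn⟩ := Cfsg.Agent.Lib.Helper4.isCharacter_apply_one hχc
  have hG0 : (Nat.card ↥(T h) : ℂ) ≠ 0 := Nat.cast_ne_zero.2 Nat.card_pos.ne'
  have h2 : ∑ g : ↥(T h), χ g * conj (χ g) = (Nat.card ↥(T h) : ℂ) * ((n : ℂ) * (n : ℂ)) := by
    rw [Finset.sum_congr rfl (fun g _ => by rw [hall g, hn, Complex.conj_natCast]),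
      Finset.sum_const, Finset.card_univ, nsmul_eq_mul, Nat.card_eq_fintype_card]
  rw [h2, ← mul_assoc, inv_mul_cancel₀ hG0, one_mul] at h1
  have h3 : n * n = 1 := by exact_mod_cast h1
  have h4 : n = 1 := Nat.eq_one_of_mul_eq_one_left h3
  apply hne
  rw [hn, h4, Nat.cast_one]

end G5a

end Cfsg.Agent.Lib.Helper1.SUMin
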