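import Cfsg.Agent.Lib.Helper6.Simp4

set_option autoImplicit false

namespace Cfsg.Agent.Lib.Helper6.Simp

open Cfsg.Agent.Lib.Helper6.TC
open scoped Pointwise

/-! # A criterion of simplicity without maximality: the sizes of the possible blocks -/

section orbits2
variable {G : Type*} [Group G]

open Classical in
/-- for a subgroup `M` containing `H`, the orbit of the trivial coset under `M` is a union of orbits
of `H`, of a size dividing the index -/
theorem block_of_overgroup (H : Subgroup G) {n r : ℕ} (hidx : H.index = n)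
    (q : Fin r → G ⧸ H) (s : Fin r → ℕ)
    (hs : ∀ i, (MulAction.orbit H (q i)).ncard = s i)
    (hne : ∀ i j, i ≠ j → MulAction.orbit H (q i) ≠ MulAction.orbit H (q j))
    (hs1 : ∀ i, 1 < s i)
    (hsum : 1 + ∑ i, s i = n)
    (M : Subgroup G) (hHM : H ≤ M) :
    ∃ T : Finset (Fin r),
      (MulAction.orbit M (((1 : G) : G ⧸ H))).ncard = 1 + ∑ i ∈ T, s i ∧
      (1 + ∑ i ∈ T, s i) ∣ n ∧ (T = ∅ → M = H) := by
  have hn0 : H.index ≠ 0 := by rw [hidx]; omega
  have hfin : Finite (G ⧸ H) := by
    have : Nat.card (G ⧸ H) ≠ 0 := by rw [← Subgroup.index_eq_card]; exact hn0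
    exact Nat.finite_of_card_ne_zero this
  set a : G ⧸ H := ((1 : G) : G ⧸ H) with ha
  have hst : MulAction.stabilizer G a = H := MulAction.stabilizer_quotient H
  have hO0 : MulAction.orbit H a = {a} := by
    ext x
    constructor
    · rintro ⟨h, rfl⟩
      have : (h : G) ∈ MulAction.stabilizer G a := by rw [hst]; exact h.property
      exact this
    · rintro rfl
      exact MulAction.mem_orbit_self _
  have ha1 : ∀ i, a ∉ MulAction.orbit H (q i) := by
    intro i h
    have := MulAction.orbit_eq_iff.mpr h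
    have h1 := hs i
    rw [← this, hO0, Set.ncard_singleton] at h1
    have := hs1 i
    omega
  have hdis : ∀ i j, i ≠ j → Disjoint (MulAction.orbit H (q i)) (MulAction.orbit H (q j)) := by
    intro i j hij
    rcases MulAction.orbit.eq_or_disjoint (G := H) (q i) (q j) with h | h
    · exact absurd h (hne i j hij)
    · exact h
  -- the orbits as finsets
  let Of : Fin r → Finset (G ⧸ H) := fun i => (Set.toFinite (MulAction.orbit H (q i))).toFinset
  have hOf : ∀ i x, x ∈ Of i ↔ x ∈ MulAction.orbit H (q i) := fun i x => Set.Finite.mem_toFinset _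
  have hOfc : ∀ i, (Of i).card = s i := by
    intro i
    rw [← hs i, Set.ncard_eq_toFinset_card _ (Set.toFinite _)]
  have hOfd : ∀ i j, i ≠ j → Disjoint (Of i) (Of j) := by
    intro i j hij
    rw [Finset.disjoint_left]
    intro x hx hx'
    exact Set.disjoint_left.mp (hdis i j hij) ((hOf i x).mp hx) ((hOf j x).mp hx')
  have haOf : ∀ T : Finset (Fin r), a ∉ T.biUnion Of := by
    intro T h
    rw [Finset.mem_biUnion] at h
    obtain ⟨i, _, hi⟩ := h
    exact ha1 i ((hOf i a).mp hi)
  have hcardT : ∀ T : Finset (Fin r), (insert a (T.biUnion Of)).card = 1 + ∑ i ∈ T, s i := by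
    intro T
    rw [Finset.card_insert_of_notMem (haOf T), Finset.card_biUnion (fun i _ j _ hij => hOfd i j hij),
      add_comm]
    congr 1
    exact Finset.sum_congr rfl (fun i _ => hOfc i)
  -- the orbits cover
  have hcov : ((insert a (Finset.univ.biUnion Of) : Finset (G ⧸ H)) : Set (G ⧸ H)) = Set.univ := by
    apply Set.eq_of_subset_of_ncard_le (Set.subset_univ _)
    rw [Set.ncard_univ, ← Subgroup.index_eq_card, hidx, Set.ncard_coe_finset, hcardT, hsum]
  have hcov' : ∀ x : G ⧸ H, x = a ∨ ∃ i, x ∈ MulAction.orbit H (q i) := by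
    intro x
    have : x ∈ ((insert a (Finset.univ.biUnion Of) : Finset (G ⧸ H)) : Set (G ⧸ H)) := by
      rw [hcov]; trivial
    rw [Finset.mem_coe, Finset.mem_insert, Finset.mem_biUnion] at this
    rcases this with h | ⟨i, _, hi⟩
    · exact Or.inl h
    · exact Or.inr ⟨i, (hOf i x).mp hi⟩
  -- the block
  set X : Set (G ⧸ H) := MulAction.orbit M a with hX
  have hblk : MulAction.IsBlock G X := MulAction.IsBlock.of_orbit (by rw [hst]; exact hHM)
  have haX : a ∈ X := MulAction.mem_orbit_self _
  have hdvdX : X.ncard ∣ n := by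
    have := hblk.ncard_dvd_card ⟨a, haX⟩
    rwa [← Subgroup.index_eq_card, hidx] at this
  have hsub : ∀ x ∈ X, MulAction.orbit H x ⊆ X := by
    rintro _ ⟨m, rfl⟩ _ ⟨h, rfl⟩
    exact ⟨⟨(h : G), hHM h.property⟩ * m, by simp [mul_smul]; rfl⟩
  have hMstab : MulAction.stabilizer G X = M :=
    MulAction.stabilizer_orbit_eq (by rw [hst]; exact hHM)
  set T : Finset (Fin r) := Finset.univ.filter (fun i => q i ∈ X) with hT
  have hXT : X = ((insert a (T.biUnion Of) : Finset (G ⧸ H)) : Set (G ⧸ H)) := by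
    ext x
    rw [Finset.mem_coe, Finset.mem_insert, Finset.mem_biUnion]
    constructor
    · intro hx
      rcases hcov' x with h | ⟨i, hi⟩
      · exact Or.inl h
      · right
        refine ⟨i, ?_, (hOf i x).mpr hi⟩
        rw [hT, Finset.mem_filter]
        refine ⟨Finset.mem_univ _, ?_⟩
        have : q i ∈ MulAction.orbit H x := by
          rw [MulAction.orbit_eq_iff.mpr hi]
          exact MulAction.mem_orbit_self _
        exact hsub x hx this
    · rintro (h | ⟨i, hi, hxi⟩)
      · rw [h]; exact haX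
      · rw [hT, Finset.mem_filter] at hi
        exact hsub (q i) hi.2 ((hOf i x).mp hxi)
  have hXc : X.ncard = 1 + ∑ i ∈ T, s i := by
    rw [hXT, Set.ncard_coe_finset, hcardT]
  rw [hXc] at hdvdX
  refine ⟨T, hXc, hdvdX, ?_⟩
  intro h
  have : X = {a} := by
    rw [hXT, h, Finset.biUnion_empty]
    simp
  rw [← hMstab, this, MulAction.stabilizer_singleton, hst]

/-- the criterion of simplicity: every possible size of a block is divisible by the full power of
a prime `p`, and an element of order `p` generates the group as a normal subgroup -/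
theorem simple_of_orbits [Finite G] [Nontrivial G] (H : Subgroup G) {n r : ℕ} (hidx : H.index = n)
    (q : Fin r → G ⧸ H) (s : Fin r → ℕ)
    (hs : ∀ i, (MulAction.orbit H (q i)).ncard = s i)
    (hne : ∀ i j, i ≠ j → MulAction.orbit H (q i) ≠ MulAction.orbit H (q j))
    (hs1 : ∀ i, 1 < s i)
    (hsum : 1 + ∑ i, s i = n)
    (hcore : ∀ N : Subgroup G, N.Normal → N ≤ H → N = ⊥)
    {p k : ℕ} [Fact p.Prime]
    (hdvd : ∀ T : Finset (Fin r), (1 + ∑ i ∈ T, s i) ∣ n →
      T = ∅ ∨ p ^ k ∣ (1 + ∑ i ∈ T, s i))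
    (hp2 : ¬ p ^ (k + 1) ∣ Nat.card G)
    {x : G} (hx : orderOf x = p)
    (hncl : ∀ N : Subgroup G, N.Normal → x ∈ N → N = ⊤) :
    IsSimpleGroup G := by
  refine ⟨?_⟩
  intro N hN
  by_cases hbot : N = ⊥
  · exact Or.inl hbot
  right
  obtain ⟨T, hc, hd, hT⟩ := block_of_overgroup H hidx q s hs hne hs1 hsum (H ⊔ N) le_sup_left
  have hTne : T ≠ ∅ := by
    intro h
    have h1 : H ⊔ N = H := hT h
    have h2 : N ≤ H := by
      rw [← h1]
      exact le_sup_right
    exact hbot (hcore N hN h2)
  have hpk : p ^ k ∣ (MulAction.orbit (H ⊔ N : Subgroup G) (((1 : G) : G ⧸ H))).ncard := by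
    rw [hc]
    rcases hdvd T hd with h | h
    · exact absurd h hTne
    · exact h
  have hst : MulAction.stabilizer G (((1 : G) : G ⧸ H)) = H := MulAction.stabilizer_quotient H
  have horb : MulAction.orbit (H ⊔ N : Subgroup G) (((1 : G) : G ⧸ H)) =
      MulAction.orbit N (((1 : G) : G ⧸ H)) := by
    ext y
    constructor
    · rintro ⟨⟨m, hm⟩, rfl⟩
      have hm' : m ∈ ((N ⊔ H : Subgroup G) : Set G) := by
        rw [sup_comm]
        exact hm
      rw [Subgroup.normal_mul N H] at hm'
      obtain ⟨n', hn', h, hh, rfl⟩ := hm'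
      refine ⟨⟨n', hn'⟩, ?_⟩
      have hfix : h • (((1 : G) : G ⧸ H)) = (((1 : G) : G ⧸ H)) := by
        have : h ∈ MulAction.stabilizer G (((1 : G) : G ⧸ H)) := by
          rw [hst]
          exact hh
        exact this
      show n' • (((1 : G) : G ⧸ H)) = (n' * h) • (((1 : G) : G ⧸ H))
      rw [mul_smul, hfix]
    · rintro ⟨⟨m, hm⟩, rfl⟩
      exact ⟨⟨m, (le_sup_right : N ≤ H ⊔ N) hm⟩, rfl⟩
  have hdvdN : (MulAction.orbit N (((1 : G) : G ⧸ H))).ncard ∣ Nat.card N := by
    rw [← MulAction.index_stabilizer]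
    exact Subgroup.index_dvd_card _
  rw [horb] at hpk
  exact hncl N hN (mem_normal_of_prime_order' N (hpk.trans hdvdN) hp2 hx)

end orbits2

end Cfsg.Agent.Lib.Helper6.Simp
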