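import Mathlib
import Cfsg.Agent.Lib.Helper8.SmTwoDefs
import Cfsg.Agent.Lib.Helper8.SmTwoB
import Cfsg.Agent.Lib.Helper7.PSolvable
import Cfsg.Agent.Lib.Helper4.HallHigman
import Cfsg.Agent.Lib.Lead.SolvPSolv
import Cfsg.Agent.Lib.Lead.Core
import Cfsg.Agent.Lib.Helper6.PPrimeCore

/-!
# S4409, package P2 (part a): the Sylow `2`-subgroup is normal (modulo SM, AUT2, PU);
the Hall complement and (MIN)
-/

set_option autoImplicit false

namespace Cfsg.Agent.Lib.Helper8.SmTwo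

universe u

/-- common setup: `C_S(O_2(S)) ≤ O_2(S)` and a Hall `2'`-subgroup -/
theorem p2_setup {S : Type u} [Group S] [Finite S] [Group.IsSolvable S]
    (hO : Cfsg.pPrimeCore 2 S = ⊥) :
    (Subgroup.centralizer ((Cfsg.pCore 2 S : Subgroup S) : Set S) ≤ Cfsg.pCore 2 S) ∧
    ∃ H : Subgroup S, (Nat.card H).Coprime 2 ∧ ∃ n : ℕ, H.index = 2 ^ n := by
  haveI : Fact (Nat.Prime 2) := ⟨Nat.prime_two⟩
  have hps : Cfsg.IsPSolvable 2 S :=
    Cfsg.Agent.Lib.Lead.SolvPSolv.isPSolvable_of_isSolvable' 2 S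
  refine ⟨Cfsg.Agent.Lib.Helper4.centralizer_pCore_le_of_isPSolvable hps hO, ?_⟩
  obtain ⟨⟨H, hH⟩, -, -⟩ := Cfsg.Agent.Lib.Helper7.hallP_of_isPSolvable 2 hps
  exact ⟨H, hH.1, hH.2⟩

/-- a subgroup containing a subgroup of `2`-power index has `2`-power index -/
theorem p2_index_pow {S : Type u} [Group S] [Finite S] (H R : Subgroup S) (hHR : H ≤ R)
    (hH : ∃ n : ℕ, H.index = 2 ^ n) : ∃ k : ℕ, R.index = 2 ^ k := by
  obtain ⟨n, hn⟩ := hH
  have h1 : R.index ∣ 2 ^ n := hn ▸ Subgroup.index_dvd_of_le hHR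
  obtain ⟨k, -, hk⟩ := (Nat.dvd_prime_pow Nat.prime_two).mp h1
  exact ⟨k, hk⟩

/-- if `Y ≤ X`, `X` a `2`-group, `H` of odd order normalizing `Y` and `Y ⊔ H = ⊤`... more
precisely: `X ≤ Y ⊔ H` forces `X ≤ Y` -/
theorem p2_le_of_le_sup {S : Type u} [Group S] [Finite S] (X Y H : Subgroup S)
    (hX : IsPGroup 2 X) (hYX : Y ≤ X) (hH : (Nat.card H).Coprime 2)
    (hHY : H ≤ Subgroup.normalizer (Y : Set S)) (hle : X ≤ Y ⊔ H) : X ≤ Y := by
  haveI : Fact (Nat.Prime 2) := ⟨Nat.prime_two⟩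
  intro x hx
  have h1 : x ∈ ((Y ⊔ H : Subgroup S) : Set S) := hle hx
  rw [Subgroup.coe_mul_of_right_le_normalizer_left Y H hHY] at h1
  obtain ⟨y, hy, h, hh, rfl⟩ := h1
  have hy' : y ∈ Y := hy
  have hh' : h ∈ H := hh
  have h2 : h ∈ X := by
    have : h = y⁻¹ * (y * h) := by group
    rw [this]
    exact X.mul_mem (X.inv_mem (hYX hy')) hx
  have h3 : h ∈ X ⊓ H := ⟨h2, hh'⟩
  rw [Cfsg.Agent.Lib.Helper6.isPGroup_inf_coprime_eq_bot hH hX, Subgroup.mem_bot] at h3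
  simp only [h3, mul_one]
  exact hy'

/-- `sylow_two_normal` with Lemma SM, (AUT2) and (PU) as hypotheses -/
theorem p2_sylow_two_normal_of {S : Type u} [Group S] [Finite S] [Group.IsSolvable S]
    (sm : ∀ (Y A : Subgroup S), IsPGroup 2 Y → Small Y → A ≤ Subgroup.normalizer (Y : Set S) →
      Odd (Nat.card A) → ¬ A ≤ Subgroup.centralizer (Y : Set S) →
      (IsV4 Y ∨ IsNA8 Y) ∧ ⁅Y, A⁆ = Y)
    (v4_aut_two : ∀ (W T : Subgroup S), IsV4 W → IsPGroup 2 T →
      T ≤ Subgroup.normalizer (W : Set S) →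
      Nat.card T ≤ 2 * Nat.card (T ⊓ Subgroup.centralizer (W : Set S) : Subgroup S))
    (small_of_na8_self_centralizing : ∀ (O T : Subgroup S), IsPGroup 2 T → IsNA8 O → O ≤ T →
      T ≤ Subgroup.normalizer (O : Set S) → T ⊓ Subgroup.centralizer (O : Set S) ≤ O → Small T)
    (hO : Cfsg.pPrimeCore 2 S = ⊥) (h8 : ∃ A : Subgroup S, Bad A)
    (hmin : ∀ R : Subgroup S, R ≠ ⊤ → (∃ k : ℕ, R.index = 2 ^ k) → Small R)
    (X : Sylow 2 S) : (X : Subgroup S).Normal := by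
  classical
  haveI : Fact (Nat.Prime 2) := ⟨Nat.prime_two⟩
  obtain ⟨hCO, H, hHc, hHi⟩ := p2_setup hO
  obtain ⟨O, hOdef⟩ : ∃ O : Subgroup S, O = Cfsg.pCore 2 S := ⟨_, rfl⟩
  rw [← hOdef] at hCO
  haveI hOn : O.Normal := hOdef ▸ Cfsg.Agent.Lib.Lead.pCore_normal 2
  have hOp : IsPGroup 2 O := hOdef ▸ Cfsg.Agent.Lib.Lead.pCore_isPGroup 2
  have hOX : ∀ T : Sylow 2 S, O ≤ (T : Subgroup S) := fun T => hOp.le_sylow_of_normal T
  have hOH : O ⊓ H = ⊥ := Cfsg.Agent.Lib.Helper6.isPGroup_inf_coprime_eq_bot hHc hOp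
  have hnorm : ∀ L : Subgroup S, L ≤ Subgroup.normalizer (O : Set S) := by
    intro L
    rw [Subgroup.normalizer_eq_top_iff.mpr hOn]; exact le_top
  -- it suffices to show `X ≤ O`
  suffices hXO : (X : Subgroup S) ≤ O by
    have : (X : Subgroup S) = O := le_antisymm hXO (hOX X)
    rw [this]; exact hOn
  by_cases hR0 : O ⊔ H = ⊤
  · -- `X ≤ O ⊔ H`
    exact p2_le_of_le_sup (X : Subgroup S) O H X.isPGroup' (hOX X) hHc (hnorm H)
      (hR0 ▸ le_top)
  · exfalso
    have hsmallR : Small (O ⊔ H) := hmin _ hR0 (p2_index_pow H _ le_sup_right hHi)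
    have hsmallO : Small O := hsmallR.mono le_sup_left
    by_cases hHC : H ≤ Subgroup.centralizer (O : Set S)
    · -- `H = ⊥`, so `S` is a `2`-group and `O = ⊤`
      have hH1 : H = ⊥ := by
        have h1 : H ≤ O ⊓ H := le_inf (hHC.trans hCO) le_rfl
        rw [hOH] at h1
        exact le_bot_iff.mp h1
      obtain ⟨n, hn⟩ := hHi
      rw [hH1, Subgroup.index_bot] at hn
      have hS : IsPGroup 2 S := IsPGroup.of_card hn
      have hOtop : O = ⊤ := by
        rw [hOdef]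
        apply le_antisymm le_top
        exact Cfsg.Agent.Lib.Lead.le_pCore (inferInstance : (⊤ : Subgroup S).Normal)
          (hS.to_subgroup ⊤)
      apply hR0
      rw [hOtop, top_sup_eq]
    · obtain ⟨hOstr, -⟩ := sm O H hOp hsmallO (hnorm H) (Nat.coprime_two_right.mp hHc) hHC
      obtain ⟨A₀, hA₀⟩ := h8
      have hA₀p : IsPGroup 2 A₀ := IsPGroup.of_card (n := 3) (by rw [hA₀.2.2]; norm_num)
      obtain ⟨T, hAT⟩ := hA₀p.exists_le_sylow
      have hTc : (T : Subgroup S) ⊓ Subgroup.centralizer (O : Set S) ≤ O :=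
        inf_le_right.trans hCO
      rcases hOstr with hV | hN
      · have h1 := v4_aut_two O (T : Subgroup S) hV T.isPGroup' (hnorm _)
        have h2 : Nat.card ((T : Subgroup S) ⊓ Subgroup.centralizer (O : Set S) : Subgroup S) ≤
            Nat.card O := Subgroup.card_le_of_le hTc
        have h3 : Nat.card (T : Subgroup S) ≤ Nat.card A₀ := by
          rw [hA₀.2.2]; have := hV.1; omega
        have h4 : A₀ = (T : Subgroup S) := Subgroup.eq_of_le_of_card_ge hAT h3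
        have h5 : A₀ ≤ Subgroup.centralizer (O : Set S) := by
          intro a ha
          rw [Subgroup.mem_centralizer_iff]
          intro o ho
          have hoA : o ∈ A₀ := h4 ▸ hOX T ho
          have hc := hA₀.1
          have := hc.is_comm.comm (⟨o, hoA⟩ : ↥A₀) ⟨a, ha⟩
          exact congrArg Subtype.val this
        have h6 : Nat.card A₀ ≤ Nat.card O := Subgroup.card_le_of_le (h5.trans hCO)
        rw [hA₀.2.2, hV.1] at h6
        omega
      · have hsT : Small (T : Subgroup S) :=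
          small_of_na8_self_centralizing O (T : Subgroup S) T.isPGroup' hN (hOX T) (hnorm _) hTc
        exact hsT A₀ hAT hA₀

/-- existence of the complement, faithful action and (MIN), once `X` is normal -/
theorem exists_hall_compl {S : Type u} [Group S] [Finite S] [Group.IsSolvable S]
    (hO : Cfsg.pPrimeCore 2 S = ⊥)
    (hmin : ∀ R : Subgroup S, R ≠ ⊤ → (∃ k : ℕ, R.index = 2 ^ k) → Small R)
    (X : Sylow 2 S) (hXn : (X : Subgroup S).Normal) :
    ∃ H : Subgroup S, Odd (Nat.card H) ∧ H ⊓ Subgroup.centralizer ((X : Subgroup S) : Set S) = ⊥ ∧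
      ∀ Y : Subgroup S, Y ≤ (X : Subgroup S) → Y ≠ (X : Subgroup S) →
        H ≤ Subgroup.normalizer (Y : Set S) → Small Y := by
  classical
  haveI : Fact (Nat.Prime 2) := ⟨Nat.prime_two⟩
  obtain ⟨hCO, H, hHc, hHi⟩ := p2_setup hO
  have hXO : (X : Subgroup S) = Cfsg.pCore 2 S :=
    le_antisymm (Cfsg.Agent.Lib.Lead.le_pCore hXn X.isPGroup')
      ((Cfsg.Agent.Lib.Lead.pCore_isPGroup 2).le_sylow_of_normal X)
  rw [← hXO] at hCO
  have hXH : (X : Subgroup S) ⊓ H = ⊥ :=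
    Cfsg.Agent.Lib.Helper6.isPGroup_inf_coprime_eq_bot hHc X.isPGroup'
  refine ⟨H, Nat.coprime_two_right.mp hHc, ?_, ?_⟩
  · rw [eq_bot_iff, ← hXH]
    exact le_inf (inf_le_right.trans hCO) inf_le_left
  · intro Y hYX hYne hHY
    have hne : Y ⊔ H ≠ ⊤ := by
      intro htop
      apply hYne
      exact le_antisymm hYX
        (p2_le_of_le_sup (X : Subgroup S) Y H X.isPGroup' hYX hHc hHY (htop ▸ le_top))
    exact (hmin _ hne (p2_index_pow H _ le_sup_right hHi)).mono le_sup_left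

end Cfsg.Agent.Lib.Helper8.SmTwo
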