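import Mathlib
import Cfsg.Agent.Lib.Helper6.SmTwoP2a
import Cfsg.Agent.Lib.Helper8.SmTwoSM
import Cfsg.Agent.Lib.Helper2.SmTwoPT
import Cfsg.Agent.Lib.Helper7.SmTwoPU

/-!
# S4409, package P2: the Sylow `2`-subgroup is normal
-/

set_option autoImplicit false

namespace Cfsg.Agent.Lib.Helper8.SmTwo

universe u

theorem sylow_two_normal {S : Type u} [Group S] [Finite S] [Group.IsSolvable S]
    (hO : Cfsg.pPrimeCore 2 S = ⊥) (h8 : ∃ A : Subgroup S, Bad A)
    (hmin : ∀ R : Subgroup S, R ≠ ⊤ → (∃ k : ℕ, R.index = 2 ^ k) → Small R)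
    (X : Sylow 2 S) : (X : Subgroup S).Normal :=
  p2_sylow_two_normal_of (fun Y A => sm Y A) (fun W T => v4_aut_two W T)
    (fun O T => small_of_na8_self_centralizing O T) hO h8 hmin X

end Cfsg.Agent.Lib.Helper8.SmTwo
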