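import Cfsg.Agent.Lib.Helper6.WP2

set_option autoImplicit false

namespace Cfsg.Agent.Lib.Helper6.TC

/-! # One step of a chain of subgroups generated by columns: the bound for the order -/

section step
variable {Gen : Type*} {rels : Set (FreeGroup Gen)} {gc : ℕ → Gen × Bool}
variable {k' : ℕ} [NeZero k']

/-- a subgroup of index at most `N` generated by columns between which the relators `base'`
hold: the order is at most `N` times the order of the group presented by `base'` -/
theorem top_step {S : Set (FreeGroup Gen)} {base base' : List (List ℕ)} (cm : ℕ → ℕ) {N m : ℕ}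
    (hidx : (subH rels S).index ≤ N ∧ (subH rels S).index ≠ 0)
    (hbase : ∀ b ∈ base, PresentedGroup.mk rels (wordElt gc b) = 1)
    (hS : ∀ s ∈ S, ∃ i < k', s = ceOf gc (cm i))
    (hbl' : ∀ b ∈ base', ∀ c ∈ b, c < k')
    (hmap : ∀ b ∈ base', b.map cm ∈ base)
    (hfin : Finite (WG k' base') ∧ Nat.card (WG k' base') ≤ m) :
    Finite (PresentedGroup rels) ∧ Nat.card (PresentedGroup rels) ≤ N * m := by
  obtain ⟨h1, h2⟩ := sub_card_le (rels := rels) (gc := gc) (S := S) cm hbl'
    (fun b hb => hbase _ (hmap b hb)) hS hfin.1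
  exact card_le_of_index (subH rels S) hidx.1 hidx.2 h1 (h2.trans hfin.2)

theorem wp_step {k : ℕ} [NeZero k] {base subw base' : List (List ℕ)} (cm : ℕ → ℕ) {N m : ℕ}
    (hidx : (subH (wrels k base) (wset k subw)).index ≤ N ∧
      (subH (wrels k base) (wset k subw)).index ≠ 0)
    (hsub : ∀ w ∈ subw, ∃ i < k', w = [cm i])
    (hbl' : ∀ b ∈ base', ∀ c ∈ b, c < k')
    (hmap : ∀ b ∈ base', b.map cm ∈ base)
    (hfin : Finite (WG k' base') ∧ Nat.card (WG k' base') ≤ m) :
    Finite (WG k base) ∧ Nat.card (WG k base) ≤ N * m := by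
  refine top_step (gc := gcF k) cm hidx wp_hbase ?_ hbl' hmap hfin
  rintro s ⟨w, hw, rfl⟩
  obtain ⟨i, hi, rfl⟩ := hsub w hw
  exact ⟨i, hi, by rw [wordElt_cons, wordElt_nil, mul_one]⟩

theorem wp_bottom {k : ℕ} [NeZero k] {base : List (List ℕ)} {N : ℕ}
    (hidx : (subH (wrels k base) (wset k [])).index ≤ N ∧
      (subH (wrels k base) (wset k [])).index ≠ 0) :
    Finite (WG k base) ∧ Nat.card (WG k base) ≤ N :=
  card_le_of_index_bot (subH_wset_nil base) hidx.1 hidx.2

end step

end Cfsg.Agent.Lib.Helper6.TC
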