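import Cfsg.Agent.Lib.Helper6.WP10
import Cfsg.Agent.Lib.Helper6.Simp2

set_option autoImplicit false

namespace Cfsg.Agent.Lib.Helper6.TC

/-! # Words in which some columns stand for words; groups with a central factor of order two -/

section flat
variable {px px2 : ℕ → ℕ → ℕ} {N ncol INV : ℕ}

/-- the action of a word in which the columns stand for words -/
theorem wapp_flatMap (hP : PHyp px N ncol INV) (cw : ℕ → List ℕ) (u : List ℕ)
    (hcw : ∀ c ∈ u, (∀ d ∈ cw c, d < ncol) ∧ ∀ p < N, wapp px (cw c) p = px2 c p) :
    ∀ p < N, wapp px (u.flatMap cw) p = wapp px2 u p := by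
  induction u with
  | nil => intro p _; rfl
  | cons c u ih =>
    intro p hp
    obtain ⟨h1, h2⟩ := hcw c List.mem_cons_self
    rw [List.flatMap_cons, wapp_append, wapp_cons, ← h2 p hp]
    exact ih (fun d hd => hcw d (List.mem_cons_of_mem _ hd)) _ (wapp_lt hP _ h1 p hp)

end flat

section sgn
variable {k : ℕ} [NeZero k]

/-- the words of even length -/
theorem prod_map_neg_one (b : List ℕ) (hb : b.length % 2 = 0) :
    (b.map (fun _ => (-1 : ℤˣ))).prod = 1 := by
  rw [List.map_const', List.prod_replicate]
  obtain ⟨m, hm⟩ : ∃ m, b.length = 2 * m := ⟨b.length / 2, by omega⟩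
  rw [hm, pow_mul]
  simp

/-- the sign: every generator goes to `-1` -/
noncomputable def wgSign {base : List (List ℕ)} (hbl : ∀ b ∈ base, ∀ c ∈ b, c < k)
    (heven : ∀ b ∈ base, b.length % 2 = 0) : WG k base →* ℤˣ :=
  wgHom (fun _ => (-1 : ℤˣ)) hbl (fun b hb => prod_map_neg_one b (heven b hb))

theorem wgSign_word {base : List (List ℕ)} (hbl : ∀ b ∈ base, ∀ c ∈ b, c < k)
    (heven : ∀ b ∈ base, b.length % 2 = 0) (w : List ℕ) (hw : ∀ c ∈ w, c < k) :
    wgSign hbl heven (PresentedGroup.mk (wrels k base) (wordElt (gcF k) w)) =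
      (-1 : ℤˣ) ^ w.length := by
  show FreeGroup.lift (fun i : Fin k => (fun _ => (-1 : ℤˣ)) i.val) (wordElt (gcF k) w) = _
  rw [lift_wordElt_prod (fun _ => (-1 : ℤˣ)) w hw, List.map_const', List.prod_replicate]

end sgn

section rev
variable {k : ℕ} [NeZero k]

/-- the reversed word of involutions is the inverse -/
theorem mk_wordElt_reverse {base : List (List ℕ)} (hsq : ∀ c < k, [c, c] ∈ base) (u : List ℕ)
    (hu : ∀ c ∈ u, c < k) :
    PresentedGroup.mk (wrels k base) (wordElt (gcF k) u.reverse) =
      (PresentedGroup.mk (wrels k base) (wordElt (gcF k) u))⁻¹ := by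
  induction u with
  | nil => simp [wordElt_nil]
  | cons c u ih =>
    have hc : c < k := hu c List.mem_cons_self
    rw [List.reverse_cons, wordElt_append, map_mul, ih (fun d hd => hu d (List.mem_cons_of_mem _ hd)),
      wordElt_cons, wordElt_cons, wordElt_nil, mul_one, map_mul, mul_inv_rev]
    congr 1
    exact eq_inv_of_mul_eq_one_left (wp_sq (hsq c hc))

/-- words without the column `c₀` are not changed by replacing `c₀` by a word -/
theorem flatMap_ite_eq (c₀ : ℕ) (w : List ℕ) (u : List ℕ) (hu : ∀ c ∈ u, c ≠ c₀) :
    u.flatMap (fun c => if c = c₀ then w else [c]) = u := by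
  induction u with
  | nil => rfl
  | cons c u ih =>
    rw [List.flatMap_cons, if_neg (hu c List.mem_cons_self),
      ih (fun d hd => hu d (List.mem_cons_of_mem _ hd))]
    rfl

/-- the product of the images of a power word -/
theorem prod_map_flatten_replicate {Q : Type*} [Monoid Q] (f : ℕ → Q) (u : List ℕ) (n : ℕ) :
    (((List.replicate n u).flatten).map f).prod = ((u.map f).prod) ^ n := by
  induction n with
  | zero => simp
  | succ m ih =>
    rw [List.replicate_succ, List.flatten_cons, List.map_append, List.prod_append, ih, pow_succ']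

end rev

section central
variable {G H : Type*} [Group G] [Group H]

/-- a group of order at most `2 |H|` mapping onto `H`, with an element of the kernel of sign `-1`:
an element of the kernel of sign `1` is trivial -/
theorem eq_one_of_ker_of_sign [Finite G] (π : G →* H) (hπ : Function.Surjective π)
    (s : G →* ℤˣ) (z : G) (hz : π z = 1) (hs : s z ≠ 1)
    (hcard : Nat.card G ≤ 2 * Nat.card H) (g : G) (hg : π g = 1) (hsg : s g = 1) : g = 1 := by
  classical
  by_contra hne
  have hHfin : Finite H := Finite.of_surjective π hπ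
  have hz1 : z ≠ 1 := by
    rintro rfl
    exact hs (map_one s)
  have hgz : g ≠ z := by
    rintro rfl
    exact hs hsg
  have hker : Nat.card G = Nat.card π.ker * Nat.card H := by
    have e := QuotientGroup.quotientKerEquivOfSurjective π hπ
    rw [← Nat.card_congr e.toEquiv, mul_comm]
    exact Subgroup.card_eq_card_quotient_mul_card_subgroup π.ker
  have hHpos : 0 < Nat.card H := Nat.card_pos
  have hk2 : Nat.card π.ker ≤ 2 := by
    rw [hker] at hcard
    exact Nat.le_of_mul_le_mul_right hcard hHpos
  -- three distinct elements of the kernel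
  let f : Fin 3 → π.ker := ![⟨1, π.ker.one_mem⟩, ⟨z, hz⟩, ⟨g, hg⟩]
  have hf : Function.Injective f := by
    intro i j hij
    fin_cases i <;> fin_cases j <;> simp [f, Subtype.ext_iff] at hij ⊢
    · exact absurd hij.symm hz1
    · exact absurd hij.symm hne
    · exact absurd hij hz1
    · exact absurd hij.symm hgz
    · exact absurd hij hne
    · exact absurd hij hgz
  have := Nat.card_le_card_of_injective f hf
  rw [Nat.card_fin] at this
  omega

end central

end Cfsg.Agent.Lib.Helper6.TC
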