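import Mathlib
import Cfsg.Agent.Lib.Helper6.SubF_Models
import Cfsg.Agent.Lib.Helper4.EqDecC

set_option autoImplicit false
set_option linter.unusedSectionVars false

/-!
The forward direction of the subfield row for `PSL_n(q)`, odd `r ≠ p`: if all elements of order `r`
modulo scalars are conjugate into the subfield subgroup and `r ≠ k`, we are in the special case.
The index computation and the one-block criterion enter as hypotheses.
-/

namespace Cfsg.Agent.Lib.Helper6.SubF

open Module Polynomial Cfsg.Agent.Lib.Helper9.H9GReal Cfsg.Agent.Lib.Helper9.H9Elus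
open scoped Matrix

section fwd
variable {F : Type*} [Field F] [Fintype F] {p : ℕ} [Fact p.Prime] [CharP F p] {n : ℕ}

theorem forward (hn : 2 ≤ n) (F₀ : Subfield F) (k q₀ : ℕ) (hk : k.Prime)
    (hF₀ : Nat.card ↥F₀ = q₀) (hq : Fintype.card F = q₀ ^ k) (r : ℕ) [Fact r.Prime]
    (hr2 : r ≠ 2) (hrp : r ≠ p) (hgap : ¬ (n = 6 ∧ r = 3))
    (hidx : ∃ j, 2 ≤ j ∧ j ≤ n ∧ r ∣ ∑ t ∈ Finset.range k, (q₀ ^ j) ^ t)
    (hblk : ∀ x P : Matrix.SpecialLinearGroup (Fin n) F, ¬ r ∣ Fintype.card F - 1 →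
      ((x ^ r : Matrix.SpecialLinearGroup (Fin n) F) : Matrix (Fin n) (Fin n) F) = 1 →
      (x : Matrix (Fin n) (Fin n) F) ≠ 1 →
      P⁻¹ * x * P ∈ (Cfsg.Geo.subfieldSubgroup F₀ (1 : GL (Fin n) F)).comap
        (Matrix.SpecialLinearGroup.toGL :
          Matrix.SpecialLinearGroup (Fin n) F →* GL (Fin n) F) →
      orderOf ((q₀ : ℕ) : ZMod r) + finrank F (LinearMap.ker
        (aeval (Matrix.toLin' (x : Matrix (Fin n) (Fin n) F)) (X - 1 : F[X]))) ≤ n)
    (hL : AllConj (F := F) F₀ n r) (hrk : r ≠ k) :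
    k = 2 ∧ r = n ∧ (n = 3 ∨ n = 5) ∧ padicValNat r (q₀ + 1) = 1 := by
  classical
  have hr : r.Prime := Fact.out
  have hp : p.Prime := Fact.out
  haveI : NeZero r := ⟨hr.ne_zero⟩
  have hk1 : 1 ≤ k := hk.one_le
  -- `q₀` is a power of `p`
  obtain ⟨f, -, hf⟩ := FiniteField.card F p
  obtain ⟨e, -, he⟩ : ∃ e ≤ (f : ℕ), q₀ = p ^ e := by
    apply (Nat.dvd_prime_pow hp).mp
    rw [← hf, hq]
    exact dvd_pow_self q₀ hk.ne_zero
  have hq₀1 : 1 ≤ q₀ := by rw [he]; exact Nat.one_le_pow _ _ hp.pos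
  have hq₀2 : 2 ≤ q₀ := by
    have : 1 < Nat.card F₀ := Finite.one_lt_card
    omega
  obtain ⟨j, hj2, hjn, hjS⟩ := hidx
  set Qz : ZMod r := ((q₀ : ℕ) : ZMod r) with hQz
  set A : ZMod r := Qz ^ j with hA
  have hS0 : ∑ t ∈ Finset.range k, A ^ t = 0 := by
    have := (ZMod.natCast_eq_zero_iff _ r).mpr hjS
    rw [Nat.cast_sum] at this
    rw [← this]
    apply Finset.sum_congr rfl
    intro t _
    rw [Nat.cast_pow, Nat.cast_pow]
  have hAk : A ^ k = 1 := by
    have := geom_sum_mul A k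
    rw [hS0, zero_mul] at this
    exact (sub_eq_zero.mp this.symm)
  have hA1 : A ≠ 1 := by
    intro h
    rw [h] at hS0
    simp only [one_pow, Finset.sum_const, Finset.card_range, nsmul_eq_mul, mul_one] at hS0
    have := (ZMod.natCast_eq_zero_iff _ r).mp hS0
    exact hrk ((Nat.prime_dvd_prime_iff_eq hr hk).mp this)
  have hQ0 : Qz ≠ 0 := by
    intro h
    rw [hA, h, zero_pow (by omega), zero_pow hk.ne_zero] at hAk
    exact zero_ne_one hAk
  have hQ1 : Qz ≠ 1 := by
    intro h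
    apply hA1
    rw [hA, h, one_pow]
  have hqz : ((Fintype.card F : ℕ) : ZMod r) = Qz ^ k := by
    rw [hq, Nat.cast_pow]
  have hqzj : ((Fintype.card F : ℕ) : ZMod r) ^ j = 1 := by
    rw [hqz, ← pow_mul, mul_comm, pow_mul, ← hA, hAk]
  have hcard1 : 1 ≤ Fintype.card F := Fintype.card_pos
  by_cases hd : r ∣ Fintype.card F - 1
  · -- the diagonal models
    obtain ⟨hrn, hn35, hv⟩ := special_of_allConj F₀ q₀ e hF₀ he r hr2 hn hd hL hQ0 hQ1
      (by
        intro hn2
        have : j = 2 := by omega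
        rw [← this]
        exact hA1) hgap
    have hqz1 : Qz ^ k = 1 := by
      rw [← hqz]
      exact (natCast_eq_one_iff r _ hcard1).mpr hd
    have hordk : orderOf Qz = k := by
      have h1 : orderOf Qz ∣ k := orderOf_dvd_of_pow_eq_one hqz1
      rcases (Nat.dvd_prime hk).mp h1 with h | h
      · exact absurd (orderOf_eq_one_iff.mp h) hQ1
      · exact h
    have hordr : orderOf Qz ∣ r - 1 := by
      apply orderOf_dvd_of_pow_eq_one
      exact ZMod.pow_card_sub_one_eq_one hQ0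
    have hk2 : k = 2 := by
      rw [hordk] at hordr
      rcases hn35 with h3 | h5
      · have : r - 1 = 2 := by omega
        rw [this] at hordr
        exact (Nat.prime_dvd_prime_iff_eq hk Nat.prime_two).mp hordr
      · have : r - 1 = 2 ^ 2 := by omega
        rw [this] at hordr
        exact (Nat.prime_dvd_prime_iff_eq hk Nat.prime_two).mp (hk.dvd_of_dvd_pow hordr)
    refine ⟨hk2, hrn, hn35, ?_⟩
    have hfac : Fintype.card F - 1 = (q₀ - 1) * (q₀ + 1) := by
      rw [hq, hk2]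
      obtain ⟨m, rfl⟩ : ∃ m, q₀ = m + 1 := ⟨q₀ - 1, by omega⟩
      simp only [Nat.add_sub_cancel]
      have : (m + 1) ^ 2 = m * (m + 1 + 1) + 1 := by ring
      rw [this, Nat.add_sub_cancel]
    have hnd : ¬ r ∣ q₀ - 1 := by
      intro h
      exact hQ1 ((natCast_eq_one_iff r q₀ hq₀1).mpr h)
    rw [hfac, padicValNat.mul (by omega) (by omega),
      padicValNat.eq_zero_of_not_dvd hnd, zero_add] at hv
    exact hv
  · -- the one-block model
    exfalso
    set i := orderOf ((Fintype.card F : ℕ) : ZMod r) with hi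
    have hij : i ∣ j := orderOf_dvd_of_pow_eq_one hqzj
    have hi0 : 0 < i := Nat.pos_of_dvd_of_pos hij (by omega)
    have hi1 : i ≠ 1 := by
      intro h
      apply hd
      exact (orderOf_eq_one_iff_dvd r _ hcard1).mp h
    have hi2 : 2 ≤ i := by omega
    have hin : i ≤ n := (Nat.le_of_dvd (by omega) hij).trans hjn
    obtain ⟨x, hx, hns, hfix⟩ := Cfsg.Agent.Lib.Helper4.EqDec.model_one_block (F := F) r hrp n hi2 hin
    obtain ⟨P, hP⟩ := hL x ⟨1, by rw [hx, one_smul]⟩ hns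
    have hx1 : (x : Matrix (Fin n) (Fin n) F) ≠ 1 := by
      intro h
      exact hns 1 (by rw [h, one_smul])
    have hle := hblk x P hd hx hx1 hP
    set i₀ := orderOf Qz with hi₀
    have hi₀i : i₀ ≤ i := by omega
    have hQfin : Qz ^ (j * k) = 1 := by rw [pow_mul, ← hA, hAk]
    have hi₀pos : 0 < i₀ := by
      apply orderOf_pos_iff.mpr
      exact isOfFinOrder_iff_pow_eq_one.mpr ⟨j * k, Nat.mul_pos (by omega) hk.pos, hQfin⟩
    have hii₀ : i ∣ i₀ := by
      apply orderOf_dvd_of_pow_eq_one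
      rw [hqz, ← pow_mul, mul_comm, pow_mul, pow_orderOf_eq_one, one_pow]
    have heq : i = i₀ := le_antisymm (Nat.le_of_dvd hi₀pos hii₀) hi₀i
    apply hA1
    rw [hA]
    obtain ⟨m, hm⟩ := hij
    rw [hm, heq, pow_mul, pow_orderOf_eq_one, one_pow]

end fwd

end Cfsg.Agent.Lib.Helper6.SubF
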