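import Mathlib
import Cfsg.Prelude.Def_SylowChains
import Cfsg.Agent.Lib.Helper6.Conj
import Cfsg.Agent.Lib.Helper6.Conj2
import Cfsg.Agent.Lib.Helper6.SylowGraph

set_option autoImplicit false

namespace Cfsg.Agent.Lib.Helper6

open Cfsg

section SylowCtl

variable {G : Type*} [Group G] [Finite G]

/-- numerical description of `𝓕(T)` -/
theorem mem_sylowMembers_iff {p : ℕ} [Fact p.Prime] {𝓕 : Set (Subgroup G)} {T X : Subgroup G} :
    X ∈ sylowMembers p 𝓕 T ↔ X ∈ 𝓕 ∧ IsPGroup p ↥(T ⊓ X) ∧ ¬ p ∣ (T ⊓ X).relIndex X := by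
  constructor
  · rintro ⟨hX, P, hP⟩
    refine ⟨hX, ?_, ?_⟩
    · rw [← hP]; exact P.isPGroup'.map _
    · rw [← hP, Subgroup.relIndex, Subgroup.subgroupOf,
        Subgroup.comap_map_eq_self_of_injective X.subtype_injective]
      exact P.not_dvd_index
  · rintro ⟨hX, hp, hidx⟩
    refine ⟨hX, ?_⟩
    have hP0 : IsPGroup p ((T ⊓ X).subgroupOf X) := hp.comap_subtype
    refine ⟨hP0.toSylow hidx, ?_⟩
    show ((T ⊓ X).subgroupOf X).map X.subtype = T ⊓ X
    exact Subgroup.map_subgroupOf_eq_of_le inf_le_right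

theorem isNormalSet_map_conj {𝓕 : Set (Subgroup G)} (h𝓕 : IsNormalSet 𝓕) {X : Subgroup G}
    (hX : X ∈ 𝓕) (g : G) : X.map (MulAut.conj g).toMonoidHom ∈ 𝓕 := by
  have := h𝓕 X hX g⁻¹
  unfold subgroupConjRight at this
  rwa [inv_inv] at this

/-- `𝓕(T)^g = 𝓕(T^g)` for a conjugation-closed family -/
theorem sylowMembers_map_conj {p : ℕ} [Fact p.Prime] {𝓕 : Set (Subgroup G)} (h𝓕 : IsNormalSet 𝓕)
    {T X : Subgroup G} (hX : X ∈ sylowMembers p 𝓕 T) (g : G) :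
    X.map (MulAut.conj g).toMonoidHom ∈ sylowMembers p 𝓕 (T.map (MulAut.conj g).toMonoidHom) := by
  rw [mem_sylowMembers_iff] at hX ⊢
  obtain ⟨h1, h2, h3⟩ := hX
  refine ⟨isNormalSet_map_conj h𝓕 h1 g, ?_, ?_⟩
  · rw [← Subgroup.map_inf_eq _ _ _ (MulAut.conj g).injective]
    exact h2.map _
  · rw [← Subgroup.map_inf_eq _ _ _ (MulAut.conj g).injective,
      Subgroup.relIndex_map_map_of_injective _ _ (MulAut.conj g).injective]
    exact h3

end SylowCtl

end Cfsg.Agent.Lib.Helper6
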