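import Mathlib
import Cfsg.Agent.Lib.Helper6.SylowCtl

set_option autoImplicit false

/-!
Chains controlling Sylow intersections as reflexive-transitive closures of a step relation.
-/

namespace Cfsg.Agent.Lib.Helper6

open Cfsg

section SylowChain

variable {Γ : Type*} [Group Γ]

/-- one step of a chain controlling Sylow intersections -/
def stepRel (p : ℕ) (𝓕 : Set (Subgroup Γ)) (D : Subgroup Γ) (S₀ S₁ : Sylow p Γ) : Prop :=
  ∃ (X : Subgroup Γ) (x : Γ), X ∈ sylowMembers p 𝓕 (S₀ : Subgroup Γ) ∧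
    X ∈ sylowMembers p 𝓕 (S₁ : Subgroup Γ) ∧ x ∈ X ∧
    subgroupConjRight x (S₁ : Subgroup Γ) = (S₀ : Subgroup Γ) ∧ D ≤ (S₁ : Subgroup Γ) ⊓ X

theorem rtg_of_controls {p : ℕ} {𝓕 : Set (Subgroup Γ)} (hc : ControlsSylowIntersections p 𝓕)
    (S T : Sylow p Γ) (hST : S ≠ T) (hinf : (S : Subgroup Γ) ⊓ (T : Subgroup Γ) ≠ ⊥) :
    Relation.ReflTransGen (stepRel p 𝓕 ((S : Subgroup Γ) ⊓ (T : Subgroup Γ))) S T := by
  obtain ⟨n, c, X, x, hc0, hcl, hstep⟩ := hc S T hST hinf
  have key : ∀ (k : ℕ) (hk : k < n + 1),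
      Relation.ReflTransGen (stepRel p 𝓕 ((S : Subgroup Γ) ⊓ (T : Subgroup Γ))) S (c ⟨k, hk⟩) := by
    intro k
    induction k with
    | zero =>
      intro hk
      have : c ⟨0, hk⟩ = S := hc0
      rw [this]
    | succ k ih =>
      intro hk
      refine Relation.ReflTransGen.tail (ih (by omega)) ?_
      obtain ⟨h1, h2, h3, h4, h5⟩ := hstep ⟨k, by omega⟩
      exact ⟨X ⟨k, by omega⟩, x ⟨k, by omega⟩, h1, h2, h3, h4, h5⟩
  have h := key n (by omega)
  have hl : c ⟨n, by omega⟩ = T := hcl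
  rwa [hl] at h

theorem controls_of_rtg {p : ℕ} {𝓕 : Set (Subgroup Γ)}
    (h : ∀ S T : Sylow p Γ, S ≠ T → (S : Subgroup Γ) ⊓ (T : Subgroup Γ) ≠ ⊥ →
      Relation.ReflTransGen (stepRel p 𝓕 ((S : Subgroup Γ) ⊓ (T : Subgroup Γ))) S T) :
    ControlsSylowIntersections p 𝓕 := by
  intro S T hST hinf
  have key : ∀ R : Sylow p Γ,
      Relation.ReflTransGen (stepRel p 𝓕 ((S : Subgroup Γ) ⊓ (T : Subgroup Γ))) S R →
      ∃ (n : ℕ) (c : Fin (n + 1) → Sylow p Γ) (X : Fin n → Subgroup Γ) (x : Fin n → Γ),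
        c 0 = S ∧ c (Fin.last n) = R ∧
        ∀ i : Fin n,
          X i ∈ sylowMembers p 𝓕 (c i.castSucc : Subgroup Γ) ∧
          X i ∈ sylowMembers p 𝓕 (c i.succ : Subgroup Γ) ∧
          x i ∈ X i ∧ subgroupConjRight (x i) (c i.succ : Subgroup Γ) = (c i.castSucc : Subgroup Γ) ∧
          (S : Subgroup Γ) ⊓ (T : Subgroup Γ) ≤ (c i.succ : Subgroup Γ) ⊓ X i := by
    intro R hR
    induction hR with
    | refl => exact ⟨0, fun _ => S, Fin.elim0, Fin.elim0, rfl, rfl, fun i => i.elim0⟩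
    | @tail R₀ R₁ _ hstep ih =>
      obtain ⟨n, c, X, x, h0, hl, hs⟩ := ih
      obtain ⟨X', x', h1, h2, h3, h4, h5⟩ := hstep
      refine ⟨n + 1, Fin.snoc (α := fun _ => Sylow p Γ) c R₁,
        Fin.snoc (α := fun _ => Subgroup Γ) X X', Fin.snoc (α := fun _ => Γ) x x', ?_, ?_, ?_⟩
      · have : (0 : Fin (n + 1 + 1)) = Fin.castSucc (0 : Fin (n + 1)) := rfl
        rw [this, Fin.snoc_castSucc]
        exact h0
      · exact Fin.snoc_last (α := fun _ => Sylow p Γ) R₁ c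
      · intro i
        refine Fin.lastCases ?_ (fun j => ?_) i
        · have e1 : (Fin.last n).succ = Fin.last (n + 1) := rfl
          rw [e1, Fin.snoc_last (α := fun _ => Sylow p Γ),
            Fin.snoc_last (α := fun _ => Subgroup Γ), Fin.snoc_last (α := fun _ => Γ),
            Fin.snoc_castSucc (α := fun _ => Sylow p Γ), hl]
          exact ⟨h1, h2, h3, h4, h5⟩
        · have e1 : (Fin.castSucc j).succ = Fin.castSucc j.succ := rfl
          rw [e1, Fin.snoc_castSucc (α := fun _ => Sylow p Γ),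
            Fin.snoc_castSucc (α := fun _ => Subgroup Γ), Fin.snoc_castSucc (α := fun _ => Γ),
            Fin.snoc_castSucc (α := fun _ => Sylow p Γ)]
          exact hs j
  exact key T (h S T hST hinf)

end SylowChain

end Cfsg.Agent.Lib.Helper6
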