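import Cfsg.Agent.Lib.Helper6.TC11
import Cfsg.Prelude.Def_SporCoxeter

set_option autoImplicit false

namespace Cfsg.Agent.Lib.Helper6.TC

/-! # Coxeter-type words -/

/-- the word `(a b)^m` -/
def pairw (a b m : ℕ) : List ℕ := (List.replicate m [a, b]).flatten

theorem wordElt_pairw {Gen : Type*} {gc : ℕ → Gen × Bool} {a b : ℕ} {x y : Gen}
    (ha : gc a = (x, false)) (hb : gc b = (y, false)) (m : ℕ) :
    wordElt gc (pairw a b m) = (FreeGroup.of x * FreeGroup.of y) ^ m := by
  unfold pairw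
  rw [wordElt_flatten_replicate]
  congr 1
  rw [wordElt_cons, wordElt_cons, wordElt_nil, mul_one]
  unfold ceOf
  rw [ha, hb]
  rfl

theorem mem_pairw {a b m c : ℕ} (h : c ∈ pairw a b m) : c = a ∨ c = b := by
  unfold pairw at h
  rw [List.mem_flatten] at h
  obtain ⟨l, hl, hc⟩ := h
  rw [List.mem_replicate] at hl
  rw [hl.2] at hc
  simpa using hc

theorem coxLabel_self {α : Type*} [DecidableEq α] (edges : List (α × ℕ × α)) (x : α) :
    Cfsg.Spor.coxLabel edges x x = 1 := by
  simp [Cfsg.Spor.coxLabel]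

end Cfsg.Agent.Lib.Helper6.TC
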