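import Cfsg.Agent.Lib.Helper6.TC1

set_option autoImplicit false

namespace Cfsg.Agent.Lib.Helper6.TC

/-! # Unfolding lemmas for the Todd–Coxeter certificate checker -/

theorem brec_ble {α : Sort*} (a b : α) (x y : ℕ) :
    (Bool.rec (motive := fun _ => α) a b (Nat.ble x y)) = if x ≤ y then b else a := by
  by_cases h : x ≤ y
  · have : Nat.ble x y = true := by rw [Nat.ble_eq]; exact h
    rw [this, if_pos h]
  · have : Nat.ble x y = false := by
      cases h2 : Nat.ble x y
      · rfl
      · rw [Nat.ble_eq] at h2; exact absurd h2 h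
    rw [this, if_neg h]

theorem brec_blt {α : Sort*} (a b : α) (x y : ℕ) :
    (Bool.rec (motive := fun _ => α) a b (Nat.blt x y)) = if x < y then b else a := by
  by_cases h : x < y
  · have : Nat.blt x y = true := by rw [Nat.blt_eq]; exact h
    rw [this, if_pos h]
  · have : Nat.blt x y = false := by
      cases h2 : Nat.blt x y
      · rfl
      · rw [Nat.blt_eq] at h2; exact absurd h2 h
    rw [this, if_neg h]

theorem brec_beq {α : Sort*} (a b : α) (x y : ℕ) :
    (Bool.rec (motive := fun _ => α) a b (Nat.beq x y)) = if x = y then b else a := by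
  by_cases h : x = y
  · have : Nat.beq x y = true := by rw [Nat.beq_eq]; exact h
    rw [this, if_pos h]
  · have : Nat.beq x y = false := by
      cases h2 : Nat.beq x y
      · rfl
      · rw [Nat.beq_eq] at h2; exact absurd h2 h
    rw [this, if_neg h]

theorem shl_shr (a k : ℕ) : Nat.shiftRight (Nat.shiftLeft a k) k = a := by
  change (a <<< k) >>> k = a
  rw [Nat.shiftLeft_eq, Nat.shiftRight_eq_div_pow]
  exact Nat.mul_div_cancel _ (by positivity)

theorem shr_shr (a j k : ℕ) : Nat.shiftRight (Nat.shiftRight a j) k = Nat.shiftRight a (j + k) := by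
  change (a >>> j) >>> k = a >>> (j + k)
  rw [Nat.shiftRight_add]

section
variable (SH SC NH NC WD : ℕ → ℕ) (n ncol nrw nw tmax INV : ℕ)

theorem SHg_of_le {i : ℕ} (h : n * ncol ≤ i) : SHg SH n ncol tmax i = Nat.shiftLeft tmax 20 := by
  unfold SHg
  rw [brec_ble]
  exact if_pos h

theorem SHg_of_lt {i : ℕ} (h : i < n * ncol) : SHg SH n ncol tmax i = SH i := by
  unfold SHg
  rw [brec_ble]
  exact if_neg (by change ¬ n * ncol ≤ i; omega)

theorem NHg_of_le {i : ℕ} (h : n ≤ i) : NHg NH n tmax i = Nat.shiftLeft tmax 20 := by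
  unfold NHg
  rw [brec_ble, if_pos h]

theorem NHg_of_lt {i : ℕ} (h : i < n) : NHg NH n tmax i = NH i := by
  unfold NHg
  rw [brec_ble, if_neg (by omega)]

/-- the time of a slot -/
noncomputable def ste (s : ℕ) : ℕ := Nat.shiftRight (SHg SH n ncol tmax s) 20
/-- the target of a slot -/
noncomputable def sfst (s : ℕ) : ℕ := Nat.land (SHg SH n ncol tmax s) 1048575
/-- the time of a merge -/
noncomputable def ntm (ν : ℕ) : ℕ := Nat.shiftRight (NHg NH n tmax ν) 20
/-- the target of a merge -/
noncomputable def nmrg (ν : ℕ) : ℕ := Nat.land (NHg NH n tmax ν) 1048575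

theorem ste_of_le {i : ℕ} (h : n * ncol ≤ i) : ste SH n ncol tmax i = tmax := by
  unfold ste
  rw [SHg_of_le SH n ncol tmax h, shl_shr]

theorem ntm_of_le {i : ℕ} (h : n ≤ i) : ntm NH n tmax i = tmax := by
  unfold ntm
  rw [NHg_of_le NH n tmax h, shl_shr]

theorem lt_of_ste_lt {i : ℕ} (h : ste SH n ncol tmax i < tmax) : i < n * ncol := by
  by_contra h2
  rw [ste_of_le SH n ncol tmax (by omega)] at h
  omega

theorem lt_of_ntm_lt {i : ℕ} (h : ntm NH n tmax i < tmax) : i < n := by
  by_contra h2
  rw [ntm_of_le NH n tmax (by omega)] at h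
  omega

theorem stp_zero (t cur y : ℕ) : stp SH NH n ncol tmax t 0 cur y = n := rfl

theorem stp_succ (t k cur y : ℕ) : stp SH NH n ncol tmax t (k + 1) cur y =
    if t ≤ ste SH n ncol tmax (cur * ncol + y) then
      (if t ≤ ntm NH n tmax cur then n
        else stp SH NH n ncol tmax t k (nmrg NH n tmax cur) y)
    else sfst SH n ncol tmax (cur * ncol + y) := by
  show Bool.rec (motive := fun _ => ℕ) _ _ _ = _
  rw [brec_ble]
  show (if _ then (Bool.rec (motive := fun _ => ℕ) _ _ _) else _) = _
  rw [brec_ble]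
  rfl

theorem reach_zero (t d τ : ℕ) : reach NH n tmax t 0 d τ = Nat.beq d τ := rfl

theorem reach_succ (t k d τ : ℕ) : reach NH n tmax t (k + 1) d τ =
    if d = τ then true else
      (if t ≤ ntm NH n tmax d then false else reach NH n tmax t k (nmrg NH n tmax d) τ) := by
  show Bool.rec (motive := fun _ => Bool) _ _ _ = _
  rw [brec_beq]
  show (if _ then _ else (Bool.rec (motive := fun _ => Bool) _ _ _)) = _
  rw [brec_ble]
  rfl

theorem walk_zero (t cur w : ℕ) : walk SH NH n ncol tmax t 0 cur w = cur := rfl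

theorem walk_succ (t k cur w : ℕ) : walk SH NH n ncol tmax t (k + 1) cur w =
    walk SH NH n ncol tmax t k (stp SH NH n ncol tmax t 6 cur (Nat.land w 15)) (Nat.shiftRight w 4) :=
  rfl

/-- the letters of a packed word -/
def lets : ℕ → ℕ → List ℕ
  | _, 0 => []
  | w, k + 1 => Nat.land w 15 :: lets (Nat.shiftRight w 4) k

theorem lets_add (w a b : ℕ) :
    lets w (a + b) = lets w a ++ lets (Nat.shiftRight w (4 * a)) b := by
  induction a generalizing w with
  | zero =>
    simp only [Nat.zero_add, lets, List.nil_append, Nat.mul_zero]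
    rfl
  | succ k ih =>
    have e : k + 1 + b = (k + b) + 1 := by omega
    rw [e]
    simp only [lets, List.cons_append]
    rw [ih, shr_shr]
    have e2 : 4 + 4 * k = 4 * (k + 1) := by ring
    rw [e2]

/-- length of word `j` -/
noncomputable def wlen (j : ℕ) : ℕ := Nat.land (WD j) 255
/-- packed letters of word `j` -/
noncomputable def wlet (j : ℕ) : ℕ := Nat.shiftRight (WD j) 8
/-- the word `j` as a list -/
noncomputable def wordL (j : ℕ) : List ℕ := lets (wlet WD j) (wlen WD j)

theorem twoWalk_eq (t j i skip b0 alt tgt : ℕ) :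
    twoWalk SH NH WD n ncol nrw nw tmax t j i skip b0 alt tgt =
      band (Nat.blt j nw) (band (Nat.ble (i + skip) (wlen WD j))
        (band (reach NH n tmax t 6
            (walk SH NH n ncol tmax t i (if j < nrw then alt else 0) (wlet WD j)) tgt)
          (reach NH n tmax t 6
            (walk SH NH n ncol tmax t (wlen WD j - (i + skip)) b0
              (Nat.shiftRight (wlet WD j) (4 * (i + skip)))) (if j < nrw then alt else 0)))) := by
  unfold twoWalk
  rw [brec_blt]
  rfl

end

end Cfsg.Agent.Lib.Helper6.TC
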