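import Cfsg.Agent.Lib.Helper6.TC2

set_option autoImplicit false

namespace Cfsg.Agent.Lib.Helper6.TC

/-! # Soundness of the Todd–Coxeter certificate checker -/

section sem
variable (SH SC NH NC WD : ℕ → ℕ) (n ncol nrw nw tmax INV : ℕ)
variable {X : Type*} (act : ℕ → X → X) (x0 : X)

/-- the value of a name -/
noncomputable def val : ℕ → X :=
  WellFounded.fix (r := (· < ·)) Nat.lt_wfRel.wf
    (fun ν ih => if h : 0 < ν ∧ par NC ν < ν then act (lt NC ν) (ih (par NC ν) h.2) else x0)

theorem val_eq (ν : ℕ) : val NC act x0 ν =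
    if 0 < ν ∧ par NC ν < ν then act (lt NC ν) (val NC act x0 (par NC ν)) else x0 := by
  unfold val
  rw [WellFounded.fix_eq]
  by_cases h : 0 < ν ∧ par NC ν < ν
  · rw [dif_pos h, if_pos h]
  · rw [dif_neg h, if_neg h]

theorem val_zero : val NC act x0 0 = x0 := by
  rw [val_eq, if_neg (by omega)]

/-- the action of a word (first letter first) -/
def wact (w : List ℕ) (q : X) : X := w.foldl (fun q c => act c q) q

theorem wact_nil (q : X) : wact act [] q = q := rfl
theorem wact_cons (c : ℕ) (w : List ℕ) (q : X) : wact act (c :: w) q = wact act w (act c q) := rfl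
theorem wact_append (u v : List ℕ) (q : X) : wact act (u ++ v) q = wact act v (wact act u q) := by
  unfold wact
  rw [List.foldl_append]

/-- the hypotheses of the soundness theorem -/
structure Hyp : Prop where
  npos : 0 < n
  hinv1 : ∀ c < ncol, invc INV c < ncol
  hinv2 : ∀ c < ncol, ∀ q, act (invc INV c) (act c q) = q
  hinv3 : ∀ c < ncol, ∀ q, act c (act (invc INV c) q) = q
  hrel : ∀ j < nrw, ∀ q, wact act (wordL WD j) q = q
  hsub : ∀ j, nrw ≤ j → j < nw → wact act (wordL WD j) x0 = x0
  hlet : ∀ j < nw, ∀ c ∈ wordL WD j, c < ncol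
  hS : ∀ s < n * ncol, chkSlot SH SC NH NC WD n ncol nrw nw tmax INV s = true
  hN : ∀ ν < n, chkName SH NH NC WD n ncol nrw nw tmax ν = true

/-- a slot fact -/
def SlotFact (s : ℕ) : Prop :=
  act (s % ncol) (val NC act x0 (s / ncol)) = val NC act x0 (sfst SH n ncol tmax s)

/-- a merge fact -/
def MergeFact (ν : ℕ) : Prop :=
  val NC act x0 ν = val NC act x0 (nmrg NH n tmax ν)

/-- all facts before time `t` hold -/
def Inv (t : ℕ) : Prop :=
  (∀ s, ste SH n ncol tmax s < t → SlotFact SH NC n ncol tmax act x0 s) ∧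
  (∀ ν, ntm NH n tmax ν < t → MergeFact NH NC n tmax act x0 ν)

variable {SH SC NH NC WD n ncol nrw nw tmax INV act x0}

theorem act_inj (H : Hyp SH SC NH NC WD n ncol nrw nw tmax INV act x0) {c : ℕ} (hc : c < ncol)
    {p q : X} (h : act c p = act c q) : p = q := by
  rw [← H.hinv2 c hc p, ← H.hinv2 c hc q, h]

theorem wact_inj (H : Hyp SH SC NH NC WD n ncol nrw nw tmax INV act x0) :
    ∀ (w : List ℕ), (∀ c ∈ w, c < ncol) → ∀ {p q : X}, wact act w p = wact act w q → p = q := by
  intro w
  induction w with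
  | nil => intro _ p q h; exact h
  | cons c w ih =>
    intro hw p q h
    rw [wact_cons, wact_cons] at h
    have := ih (fun d hd => hw d (List.mem_cons_of_mem _ hd)) h
    exact act_inj H (hw c (List.mem_cons_self)) this

/-- static information from the check of a slot -/
theorem chkSlot_cases (H : Hyp SH SC NH NC WD n ncol nrw nw tmax INV act x0) {s : ℕ}
    (ht : ste SH n ncol tmax s < tmax) :
    sfst SH n ncol tmax s < n ∧
    (((SC s).land 7 = 0 ∧
      s / ncol < sfst SH n ncol tmax s ∧
        par NC (sfst SH n ncol tmax s) = s / ncol ∧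
          lt NC (sfst SH n ncol tmax s) = s % ncol) ∨
    ((SC s).land 7 = 1 ∧
        sfst SH n ncol tmax s < s / ncol ∧
          par NC (s / ncol) = sfst SH n ncol tmax s ∧ lt NC (s / ncol) = invc INV (s % ncol)) ∨
    ((SC s).land 7 = 2 ∧
          (Nat.shiftRight (wlet WD ((SC s).shiftRight 10)) (4 * (((SC s).shiftRight 3).land 127))).land 15 =
              s % ncol ∧
            twoWalk SH NH WD n ncol nrw nw tmax (ste SH n ncol tmax s) ((SC s).shiftRight 10)
                (((SC s).shiftRight 3).land 127) 1 (sfst SH n ncol tmax s) (s / ncol) (s / ncol) =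
              true) ∨
    ((SC s).land 7 = 3 ∧
            reach NH n tmax (ste SH n ncol tmax s) 6 ((SC s).shiftRight 10) (s / ncol) = true ∧
              reach NH n tmax (ste SH n ncol tmax s) 6
                  (stp SH NH n ncol tmax (ste SH n ncol tmax s) 6 ((SC s).shiftRight 10) (s % ncol))
                  (sfst SH n ncol tmax s) =
                true) ∨
    ((SC s).land 7 = 4 ∧
            reach NH n tmax (ste SH n ncol tmax s) 6
                (stp SH NH n ncol tmax (ste SH n ncol tmax s) 6 (sfst SH n ncol tmax s)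
                  (invc INV (s % ncol)))
                (s / ncol) =
              true)) := by
  have hs : s < n * ncol := lt_of_ste_lt SH n ncol tmax ht
  have h := H.hS s hs
  unfold chkSlot at h
  beta_reduce at h
  rw [brec_ble] at h
  change (if tmax ≤ ste SH n ncol tmax s then _ else _) = true at h
  rw [if_neg (not_le.mpr ht), band_eq_true, Nat.blt_eq] at h
  obtain ⟨hβ, h2⟩ := h
  have := sel5_true h2
  simp only [band_eq_true, Nat.blt_eq, Nat.beq_eq] at this
  exact ⟨hβ, this⟩

theorem sfst_lt (H : Hyp SH SC NH NC WD n ncol nrw nw tmax INV act x0) {s : ℕ}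
    (ht : ste SH n ncol tmax s < tmax) : sfst SH n ncol tmax s < n :=
  (chkSlot_cases H ht).1

/-- static information from the check of a name -/
theorem chkName_tree (H : Hyp SH SC NH NC WD n ncol nrw nw tmax INV act x0) {ν : ℕ}
    (h0 : 0 < ν) (hν : ν < n) : par NC ν < ν ∧ lt NC ν < ncol := by
  have h := H.hN ν hν
  unfold chkName at h
  rw [band_eq_true, bor_eq_true, band_eq_true, Nat.blt_eq, Nat.blt_eq, Nat.beq_eq] at h
  rcases h.1 with h1 | h1
  · omega
  · exact h1

theorem val_succ (H : Hyp SH SC NH NC WD n ncol nrw nw tmax INV act x0) {ν : ℕ}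
    (h0 : 0 < ν) (hν : ν < n) :
    val NC act x0 ν = act (lt NC ν) (val NC act x0 (par NC ν)) := by
  rw [val_eq, if_pos ⟨h0, (chkName_tree H h0 hν).1⟩]

theorem chkName_cases (H : Hyp SH SC NH NC WD n ncol nrw nw tmax INV act x0) {ν : ℕ}
    (ht : ntm NH n tmax ν < tmax) :
    nmrg NH n tmax ν < ν ∧
    ((((NC ν).shiftRight 24).land 3 = 1 ∧
        ((NC ν).shiftRight 66 = ν ∨ (NC ν).shiftRight 66 = nmrg NH n tmax ν) ∧
        twoWalk SH NH WD n ncol nrw nw tmax (ntm NH n tmax ν) (((NC ν).shiftRight 26).land 1048575)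
          (((NC ν).shiftRight 46).land 1048575) 0 ((NC ν).shiftRight 66) ((NC ν).shiftRight 66)
          (ν + nmrg NH n tmax ν - (NC ν).shiftRight 66) = true) ∨
    (((NC ν).shiftRight 24).land 3 = 2 ∧ (NC ν).shiftRight 66 < ncol ∧
        reach NH n tmax (ntm NH n tmax ν) 6 (((NC ν).shiftRight 46).land 1048575)
          (((NC ν).shiftRight 26).land 1048575) = true ∧
        reach NH n tmax (ntm NH n tmax ν) 6 (stp SH NH n ncol tmax (ntm NH n tmax ν) 6
          (((NC ν).shiftRight 26).land 1048575) ((NC ν).shiftRight 66)) ν = true ∧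
        reach NH n tmax (ntm NH n tmax ν) 6 (stp SH NH n ncol tmax (ntm NH n tmax ν) 6
          (((NC ν).shiftRight 46).land 1048575) ((NC ν).shiftRight 66)) (nmrg NH n tmax ν) = true) ∨
    (((NC ν).shiftRight 24).land 3 = 3 ∧ (NC ν).shiftRight 66 < ncol ∧
        reach NH n tmax (ntm NH n tmax ν) 6 (((NC ν).shiftRight 46).land 1048575)
          (((NC ν).shiftRight 26).land 1048575) = true ∧
        reach NH n tmax (ntm NH n tmax ν) 6 (stp SH NH n ncol tmax (ntm NH n tmax ν) 6
          (((NC ν).shiftRight 26).land 1048575) ((NC ν).shiftRight 66)) (nmrg NH n tmax ν) = true ∧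
        reach NH n tmax (ntm NH n tmax ν) 6 (stp SH NH n ncol tmax (ntm NH n tmax ν) 6
          (((NC ν).shiftRight 46).land 1048575) ((NC ν).shiftRight 66)) ν = true)) := by
  have hν : ν < n := lt_of_ntm_lt NH n tmax ht
  have h := H.hN ν hν
  unfold chkName at h
  rw [band_eq_true] at h
  have h := h.2
  beta_reduce at h
  rw [brec_ble] at h
  change (if tmax ≤ ntm NH n tmax ν then _ else _) = true at h
  rw [if_neg (not_le.mpr ht), band_eq_true, Nat.blt_eq] at h
  obtain ⟨hμ, h2⟩ := h
  have := sel5_true h2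
  simp only [band_eq_true, bor_eq_true, Nat.blt_eq, Nat.beq_eq] at this
  refine ⟨hμ, ?_⟩
  rcases this with ⟨_, h⟩ | ⟨h1, h⟩ | ⟨h1, h⟩ | ⟨h1, h⟩ | ⟨_, h⟩
  · exact absurd h (by simp)
  · exact Or.inl ⟨h1, h.1, h.2⟩
  · exact Or.inr (Or.inl ⟨h1, h⟩)
  · exact Or.inr (Or.inr ⟨h1, h⟩)
  · exact absurd h (by simp)

end sem

end Cfsg.Agent.Lib.Helper6.TC
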