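import Cfsg.Agent.Lib.Helper6.TC3

set_option autoImplicit false

namespace Cfsg.Agent.Lib.Helper6.TC

/-! # Soundness of the Todd–Coxeter certificate checker: walks -/

section sem
variable {SH SC NH NC WD : ℕ → ℕ} {n ncol nrw nw tmax INV : ℕ}
variable {X : Type*} {act : ℕ → X → X} {x0 : X}

theorem stp_bad (t : ℕ) (ht : t ≤ tmax) (fuel y : ℕ) :
    stp SH NH n ncol tmax t fuel n y = n := by
  cases fuel with
  | zero => rfl
  | succ k =>
    rw [stp_succ, ste_of_le SH n ncol tmax (by nlinarith), if_pos ht, ntm_of_le NH n tmax le_rfl,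
      if_pos ht]

theorem stp_of_ge {t : ℕ} (ht : t ≤ tmax) {cur : ℕ} (hc : n ≤ cur) (fuel y : ℕ) :
    stp SH NH n ncol tmax t fuel cur y = n := by
  cases fuel with
  | zero => rfl
  | succ k =>
    have h1 : n * ncol ≤ cur * ncol + y :=
      Nat.le_trans (Nat.mul_le_mul_right _ hc) (Nat.le_add_right _ _)
    rw [stp_succ, ste_of_le SH n ncol tmax h1, if_pos ht, ntm_of_le NH n tmax hc, if_pos ht]

theorem stp_sound (_H : Hyp SH SC NH NC WD n ncol nrw nw tmax INV act x0) {t : ℕ} (ht : t ≤ tmax)
    (hI : Inv SH NH NC n ncol tmax act x0 t) :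
    ∀ (fuel cur y : ℕ), y < ncol →
      stp SH NH n ncol tmax t fuel cur y = n ∨
      (stp SH NH n ncol tmax t fuel cur y < n ∧
        val NC act x0 (stp SH NH n ncol tmax t fuel cur y) = act y (val NC act x0 cur)) := by
  intro fuel
  induction fuel with
  | zero => intro cur y _; exact Or.inl rfl
  | succ k ih =>
    intro cur y hy
    rw [stp_succ]
    by_cases h1 : t ≤ ste SH n ncol tmax (cur * ncol + y)
    · rw [if_pos h1]
      by_cases h2 : t ≤ ntm NH n tmax cur
      · rw [if_pos h2]; exact Or.inl rfl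
      · rw [if_neg h2]
        have hm : MergeFact NH NC n tmax act x0 cur := hI.2 cur (by omega)
        rcases ih (nmrg NH n tmax cur) y hy with h3 | ⟨h3, h4⟩
        · exact Or.inl h3
        · refine Or.inr ⟨h3, ?_⟩
          rw [h4, ← hm]
    · rw [if_neg h1]
      have h3 : ste SH n ncol tmax (cur * ncol + y) < tmax := by omega
      refine Or.inr ⟨sfst_lt _H h3, ?_⟩
      have hf : SlotFact SH NC n ncol tmax act x0 (cur * ncol + y) := hI.1 _ (by omega)
      unfold SlotFact at hf
      have e1 : (cur * ncol + y) % ncol = y := by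
        rw [Nat.add_comm, Nat.add_mul_mod_self_right, Nat.mod_eq_of_lt hy]
      have e2 : (cur * ncol + y) / ncol = cur := by
        rw [Nat.add_comm, Nat.add_mul_div_right _ _ (by omega), Nat.div_eq_of_lt hy, Nat.zero_add]
      rw [e1, e2] at hf
      exact hf.symm

theorem reach_sound (_H : Hyp SH SC NH NC WD n ncol nrw nw tmax INV act x0) {t : ℕ} (ht : t ≤ tmax)
    (hI : Inv SH NH NC n ncol tmax act x0 t) :
    ∀ (fuel d τ : ℕ), reach NH n tmax t fuel d τ = true → τ < n →
      d < n ∧ val NC act x0 d = val NC act x0 τ := by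
  intro fuel
  induction fuel with
  | zero =>
    intro d τ h hτ
    rw [reach_zero, Nat.beq_eq] at h
    subst h
    exact ⟨hτ, rfl⟩
  | succ k ih =>
    intro d τ h hτ
    rw [reach_succ] at h
    by_cases h1 : d = τ
    · subst h1; exact ⟨hτ, rfl⟩
    · rw [if_neg h1] at h
      by_cases h2 : t ≤ ntm NH n tmax d
      · rw [if_pos h2] at h; exact absurd h (by simp)
      · rw [if_neg h2] at h
        have hm : MergeFact NH NC n tmax act x0 d := hI.2 d (by omega)
        have hd : d < n := lt_of_ntm_lt NH n tmax (by omega)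
        obtain ⟨_, h4⟩ := ih _ _ h hτ
        exact ⟨hd, hm.trans h4⟩

theorem walk_bad (t : ℕ) (ht : t ≤ tmax) : ∀ (cnt w : ℕ),
    walk SH NH n ncol tmax t cnt n w = n := by
  intro cnt
  induction cnt with
  | zero => intro w; rfl
  | succ k ih =>
    intro w
    rw [walk_succ, stp_bad t ht, ih]

theorem walk_sound (H : Hyp SH SC NH NC WD n ncol nrw nw tmax INV act x0) {t : ℕ} (ht : t ≤ tmax)
    (hI : Inv SH NH NC n ncol tmax act x0 t) :
    ∀ (cnt cur w : ℕ), (∀ c ∈ lets w cnt, c < ncol) →
      walk SH NH n ncol tmax t cnt cur w = n ∨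
      (walk SH NH n ncol tmax t cnt cur w < n ∧
        val NC act x0 (walk SH NH n ncol tmax t cnt cur w) =
          wact act (lets w cnt) (val NC act x0 cur) ∧ cur < n) ∨
      (cnt = 0 ∧ walk SH NH n ncol tmax t cnt cur w = cur) := by
  intro cnt
  induction cnt with
  | zero => intro cur w _; exact Or.inr (Or.inr ⟨rfl, rfl⟩)
  | succ k ih =>
    intro cur w hw
    rw [walk_succ]
    have hy : Nat.land w 15 < ncol := hw _ (by simp [lets])
    have hw' : ∀ c ∈ lets (Nat.shiftRight w 4) k, c < ncol := by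
      intro c hc
      exact hw c (by simp only [lets, List.mem_cons]; exact Or.inr hc)
    rcases stp_sound H ht hI 6 cur (Nat.land w 15) hy with h1 | ⟨h1, h2⟩
    · rw [h1, walk_bad t ht]; exact Or.inl rfl
    · have hcur : cur < n := by
        by_contra hc
        -- a step from a name outside the range fails
        have : stp SH NH n ncol tmax t 6 cur (Nat.land w 15) = n :=
          stp_of_ge ht (by omega) _ _
        omega
      rcases ih (stp SH NH n ncol tmax t 6 cur (Nat.land w 15)) (Nat.shiftRight w 4) hw' with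
        h3 | ⟨h3, h4, _⟩ | ⟨h3, h4⟩
      · exact Or.inl h3
      · refine Or.inr (Or.inl ⟨h3, ?_, hcur⟩)
        rw [h4, h2]
        rfl
      · subst h3
        refine Or.inr (Or.inl ⟨?_, ?_, hcur⟩)
        · rw [walk_zero]; exact h1
        · rw [walk_zero, h2]; rfl

/-- a walk that is linked to a valid name computes the word action -/
theorem walk_reach (H : Hyp SH SC NH NC WD n ncol nrw nw tmax INV act x0) {t : ℕ} (ht : t ≤ tmax)
    (hI : Inv SH NH NC n ncol tmax act x0 t) {cnt cur w τ : ℕ} (hw : ∀ c ∈ lets w cnt, c < ncol)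
    (hτ : τ < n)
    (h : reach NH n tmax t 6 (walk SH NH n ncol tmax t cnt cur w) τ = true) :
    wact act (lets w cnt) (val NC act x0 cur) = val NC act x0 τ := by
  obtain ⟨h1, h2⟩ := reach_sound H ht hI _ _ _ h hτ
  rcases walk_sound H ht hI cnt cur w hw with h3 | ⟨_, h4, _⟩ | ⟨h3, h4⟩
  · omega
  · rw [← h4, h2]
  · subst h3
    rw [h4] at h2
    exact h2

end sem

end Cfsg.Agent.Lib.Helper6.TC
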