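import Cfsg.Agent.Lib.Helper6.TC4

set_option autoImplicit false

namespace Cfsg.Agent.Lib.Helper6.TC

/-! # Soundness of the Todd–Coxeter certificate checker: facts -/

section sem
variable {SH SC NH NC WD : ℕ → ℕ} {n ncol nrw nw tmax INV : ℕ}
variable {X : Type*} {act : ℕ → X → X} {x0 : X}

theorem twoWalk_sound (H : Hyp SH SC NH NC WD n ncol nrw nw tmax INV act x0) {t : ℕ} (ht : t ≤ tmax)
    (hI : Inv SH NH NC n ncol tmax act x0 t) {j i skip b0 alt tgt : ℕ}
    (h : twoWalk SH NH WD n ncol nrw nw tmax t j i skip b0 alt tgt = true)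
    (htgt : tgt < n) (halt : alt < n) :
    wact act (lets (Nat.shiftRight (wlet WD j) (4 * i)) skip) (val NC act x0 tgt) =
      val NC act x0 b0 := by
  rw [twoWalk_eq] at h
  simp only [band_eq_true, Nat.blt_eq, Nat.ble_eq] at h
  obtain ⟨hj, hr, hA, hB⟩ := h
  set a0 := if j < nrw then alt else 0 with ha0
  have ha0n : a0 < n := by
    rw [ha0]; split_ifs
    · exact halt
    · exact H.npos
  set w := wlet WD j with hw
  set r := wlen WD j with hr'
  have hlet := H.hlet j hj
  have hsplit : wordL WD j = lets w i ++ (lets (Nat.shiftRight w (4 * i)) skip ++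
      lets (Nat.shiftRight w (4 * (i + skip))) (r - (i + skip))) := by
    unfold wordL
    have e : wlen WD j = i + (skip + (r - (i + skip))) := by omega
    rw [e, lets_add, lets_add, shr_shr]
    have e2 : 4 * i + 4 * skip = 4 * (i + skip) := by ring
    rw [e2]
  rw [hsplit] at hlet
  have hl1 : ∀ c ∈ lets w i, c < ncol := fun c hc => hlet c (List.mem_append_left _ hc)
  have hl3 : ∀ c ∈ lets (Nat.shiftRight w (4 * (i + skip))) (r - (i + skip)), c < ncol :=
    fun c hc => hlet c (List.mem_append_right _ (List.mem_append_right _ hc))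
  have hWA := walk_reach H ht hI hl1 htgt hA
  have hWB := walk_reach H ht hI hl3 ha0n hB
  have htriv : wact act (wordL WD j) (val NC act x0 a0) = val NC act x0 a0 := by
    by_cases hjr : j < nrw
    · exact H.hrel j hjr _
    · have : a0 = 0 := by rw [ha0, if_neg hjr]
      rw [this, val_zero]
      exact H.hsub j (by omega) hj
  rw [hsplit, wact_append, wact_append, hWA, ← hWB] at htriv
  exact wact_inj H _ hl3 htriv

theorem div_lt_of_lt_mul {s a b : ℕ} (h : s < a * b) : s / b < a := by
  rcases Nat.eq_zero_or_pos b with hb | hb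
  · subst hb; simp at h
  · exact (Nat.div_lt_iff_lt_mul hb).mpr h

theorem slot_sound (H : Hyp SH SC NH NC WD n ncol nrw nw tmax INV act x0) {s : ℕ}
    (ht : ste SH n ncol tmax s < tmax)
    (hI : Inv SH NH NC n ncol tmax act x0 (ste SH n ncol tmax s)) :
    SlotFact SH NC n ncol tmax act x0 s := by
  have hs : s < n * ncol := lt_of_ste_lt SH n ncol tmax ht
  have hncol : 0 < ncol := by
    rcases Nat.eq_zero_or_pos ncol with h | h
    · subst h; simp at hs
    · exact h
  have hα : s / ncol < n := div_lt_of_lt_mul hs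
  have hx : s % ncol < ncol := Nat.mod_lt _ hncol
  have ht' : ste SH n ncol tmax s ≤ tmax := le_of_lt ht
  obtain ⟨hβ, hc⟩ := chkSlot_cases H ht
  unfold SlotFact
  rcases hc with ⟨_, h1, h2, h3⟩ | ⟨_, h1, h2, h3⟩ | ⟨_, h1, h2⟩ | ⟨_, h1, h2⟩ | ⟨_, h1⟩
  · -- definition
    rw [val_succ H (by omega) hβ, h2, h3]
  · -- inverse of a definition
    rw [val_succ H (by omega) hα, h2, h3]
    exact H.hinv3 _ hx _
  · -- scan
    have := twoWalk_sound H ht' hI h2 hα hα
    simp only [lets, wact_cons, wact_nil] at this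
    rw [h1] at this
    exact this
  · -- transfer
    obtain ⟨_, e1⟩ := reach_sound H ht' hI _ _ _ h1 hα
    obtain ⟨e2, e3⟩ := reach_sound H ht' hI _ _ _ h2 hβ
    rcases stp_sound H ht' hI 6 ((SC s).shiftRight 10) (s % ncol) hx with h4 | ⟨_, h5⟩
    · omega
    · rw [← e3, h5, e1]
  · -- inverse
    have hix := H.hinv1 _ hx
    obtain ⟨e2, e3⟩ := reach_sound H ht' hI _ _ _ h1 hα
    rcases stp_sound H ht' hI 6 (sfst SH n ncol tmax s) (invc INV (s % ncol)) hix with h4 | ⟨_, h5⟩
    · omega
    · rw [← e3, h5]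
      exact H.hinv3 _ hx _

theorem name_sound (H : Hyp SH SC NH NC WD n ncol nrw nw tmax INV act x0) {ν : ℕ}
    (ht : ntm NH n tmax ν < tmax)
    (hI : Inv SH NH NC n ncol tmax act x0 (ntm NH n tmax ν)) :
    MergeFact NH NC n tmax act x0 ν := by
  have hν : ν < n := lt_of_ntm_lt NH n tmax ht
  have ht' : ntm NH n tmax ν ≤ tmax := le_of_lt ht
  obtain ⟨hμ, hc⟩ := chkName_cases H ht
  have hμn : nmrg NH n tmax ν < n := by omega
  unfold MergeFact
  rcases hc with ⟨_, h1, h2⟩ | ⟨_, hx, h1, h2, h3⟩ | ⟨_, hx, h1, h2, h3⟩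
  · rcases h1 with h1 | h1
    · rw [h1] at h2
      have := twoWalk_sound H ht' hI h2 (by omega) hν
      simp only [lets, wact_nil] at this
      have e : ν + nmrg NH n tmax ν - ν = nmrg NH n tmax ν := by omega
      rw [e] at this
      exact this.symm
    · rw [h1] at h2
      have := twoWalk_sound H ht' hI h2 (by omega) hμn
      simp only [lets, wact_nil] at this
      have e : ν + nmrg NH n tmax ν - nmrg NH n tmax ν = ν := by omega
      rw [e] at this
      exact this
  · obtain ⟨a1, a2⟩ := reach_sound H ht' hI _ _ _ h2 hν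
    obtain ⟨b1, b2⟩ := reach_sound H ht' hI _ _ _ h3 hμn
    rcases stp_sound H ht' hI 6 (((NC ν).shiftRight 26).land 1048575) _ hx with h4 | ⟨h4, h5⟩
    · omega
    rcases stp_sound H ht' hI 6 (((NC ν).shiftRight 46).land 1048575) _ hx with h6 | ⟨h6, h7⟩
    · omega
    have hm1 : ((NC ν).shiftRight 26).land 1048575 < n := by
      by_contra hc
      have : stp SH NH n ncol tmax (ntm NH n tmax ν) 6 (((NC ν).shiftRight 26).land 1048575)
          ((NC ν).shiftRight 66) = n := stp_of_ge ht' (by omega) _ _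
      omega
    obtain ⟨_, c2⟩ := reach_sound H ht' hI _ _ _ h1 hm1
    rw [← a2, ← b2, h5, h7, c2]
  · obtain ⟨a1, a2⟩ := reach_sound H ht' hI _ _ _ h2 hμn
    obtain ⟨b1, b2⟩ := reach_sound H ht' hI _ _ _ h3 hν
    rcases stp_sound H ht' hI 6 (((NC ν).shiftRight 26).land 1048575) _ hx with h4 | ⟨h4, h5⟩
    · omega
    rcases stp_sound H ht' hI 6 (((NC ν).shiftRight 46).land 1048575) _ hx with h6 | ⟨h6, h7⟩
    · omega
    have hm1 : ((NC ν).shiftRight 26).land 1048575 < n := by
      by_contra hc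
      have : stp SH NH n ncol tmax (ntm NH n tmax ν) 6 (((NC ν).shiftRight 26).land 1048575)
          ((NC ν).shiftRight 66) = n := stp_of_ge ht' (by omega) _ _
      omega
    obtain ⟨_, c2⟩ := reach_sound H ht' hI _ _ _ h1 hm1
    rw [← a2, ← b2, h5, h7, c2]

/-- all facts hold -/
theorem inv_all (H : Hyp SH SC NH NC WD n ncol nrw nw tmax INV act x0) :
    ∀ t ≤ tmax, Inv SH NH NC n ncol tmax act x0 t := by
  intro t
  induction t using Nat.strong_induction_on with
  | _ t ih =>
    intro ht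
    constructor
    · intro s hs
      exact slot_sound H (by omega) (ih _ hs (by omega))
    · intro ν hν
      exact name_sound H (by omega) (ih _ hν (by omega))

/-- a name is live if it is never merged -/
def Live (NH : ℕ → ℕ) (n tmax : ℕ) (ν : ℕ) : Prop := ν < n ∧ tmax ≤ ntm NH n tmax ν

theorem exists_live (H : Hyp SH SC NH NC WD n ncol nrw nw tmax INV act x0) :
    ∀ β < n, ∃ ρ, Live NH n tmax ρ ∧ val NC act x0 ρ = val NC act x0 β := by
  intro β
  induction β using Nat.strong_induction_on with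
  | _ β ih =>
    intro hβ
    by_cases h : tmax ≤ ntm NH n tmax β
    · exact ⟨β, ⟨hβ, h⟩, rfl⟩
    · have h' : ntm NH n tmax β < tmax := by omega
      have hm := (inv_all H tmax le_rfl).2 β h'
      obtain ⟨hμ, _⟩ := chkName_cases H h'
      obtain ⟨ρ, hρ, e⟩ := ih _ hμ (by omega)
      exact ⟨ρ, hρ, e.trans hm.symm⟩

theorem chkLive_spec {ν : ℕ} (h : chkLive SH NH n ncol tmax ν = true)
    (hl : tmax ≤ ntm NH n tmax ν) : ∀ x < ncol, ste SH n ncol tmax (ν * ncol + x) < tmax := by
  unfold chkLive at h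
  rw [brec_ble] at h
  change (if tmax ≤ ntm NH n tmax ν then _ else _) = true at h
  rw [if_pos hl] at h
  intro x hx
  have := allB_spec h x hx
  rw [Nat.blt_eq] at this
  exact this

/-- the values of the live names are closed under the letters -/
theorem live_closed (H : Hyp SH SC NH NC WD n ncol nrw nw tmax INV act x0)
    (hL : ∀ ν < n, chkLive SH NH n ncol tmax ν = true) {ν : ℕ} (hν : Live NH n tmax ν)
    {c : ℕ} (hc : c < ncol) :
    ∃ ρ, Live NH n tmax ρ ∧ val NC act x0 ρ = act c (val NC act x0 ν) := by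
  have h1 := chkLive_spec (hL ν hν.1) hν.2 c hc
  have hf := (inv_all H tmax le_rfl).1 _ h1
  unfold SlotFact at hf
  have e1 : (ν * ncol + c) % ncol = c := by
    rw [Nat.add_comm, Nat.add_mul_mod_self_right, Nat.mod_eq_of_lt hc]
  have e2 : (ν * ncol + c) / ncol = ν := by
    rw [Nat.add_comm, Nat.add_mul_div_right _ _ (by omega), Nat.div_eq_of_lt hc, Nat.zero_add]
  rw [e1, e2] at hf
  obtain ⟨ρ, hρ, e⟩ := exists_live H _ (sfst_lt H h1)
  exact ⟨ρ, hρ, e.trans hf.symm⟩

theorem live_zero (H : Hyp SH SC NH NC WD n ncol nrw nw tmax INV act x0) : Live NH n tmax 0 := by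
  refine ⟨H.npos, ?_⟩
  by_contra h
  obtain ⟨hμ, _⟩ := chkName_cases H (ν := 0) (by omega)
  omega

end sem

end Cfsg.Agent.Lib.Helper6.TC
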