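import Cfsg.Agent.Lib.Helper6.TC5

set_option autoImplicit false

namespace Cfsg.Agent.Lib.Helper6.TC

/-! # Soundness of the Todd–Coxeter certificate checker: the covering set -/

section sem
variable {SH SC NH NC WD : ℕ → ℕ} {n ncol nrw nw tmax INV : ℕ}
variable {X : Type*} {act : ℕ → X → X} {x0 : X}

theorem cntLive_zero : cntLive NH n tmax 0 = 0 := rfl

theorem cntLive_succ (k : ℕ) : cntLive NH n tmax (k + 1) =
    if tmax ≤ ntm NH n tmax k then cntLive NH n tmax k + 1 else cntLive NH n tmax k := by
  show Bool.rec (motive := fun _ => ℕ) _ _ _ = _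
  rw [brec_ble]
  rfl

theorem cntLive_eq (k : ℕ) : cntLive NH n tmax k =
    ((Finset.range k).filter (fun ν => tmax ≤ ntm NH n tmax ν)).card := by
  induction k with
  | zero => rfl
  | succ k ih =>
    rw [cntLive_succ, Finset.range_add_one, Finset.filter_insert]
    by_cases h : tmax ≤ ntm NH n tmax k
    · rw [if_pos h, if_pos h, Finset.card_insert_of_notMem (by simp), ih]
    · rw [if_neg h, if_neg h, ih]

open Classical in
/-- the main theorem: a set of at most `cntLive` points containing the base point and closed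
under all letters -/
theorem cover (H : Hyp SH SC NH NC WD n ncol nrw nw tmax INV act x0)
    (hL : ∀ ν < n, chkLive SH NH n ncol tmax ν = true) :
    ∃ S : Finset X, S.card ≤ cntLive NH n tmax n ∧ x0 ∈ S ∧
      ∀ c < ncol, ∀ q ∈ S, act c q ∈ S := by
  refine ⟨((Finset.range n).filter (fun ν => tmax ≤ ntm NH n tmax ν)).image (val NC act x0), ?_,
    ?_, ?_⟩
  · rw [cntLive_eq]
    exact Finset.card_image_le
  · rw [Finset.mem_image]
    have h0 := live_zero H
    exact ⟨0, by rw [Finset.mem_filter, Finset.mem_range]; exact h0, val_zero NC act x0⟩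
  · intro c hc q hq
    rw [Finset.mem_image] at hq ⊢
    obtain ⟨ν, hν, rfl⟩ := hq
    rw [Finset.mem_filter, Finset.mem_range] at hν
    obtain ⟨ρ, hρ, e⟩ := live_closed H hL (ν := ν) hν hc
    exact ⟨ρ, by rw [Finset.mem_filter, Finset.mem_range]; exact hρ, e⟩

end sem

end Cfsg.Agent.Lib.Helper6.TC
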