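import Cfsg.Agent.Lib.Helper6.TC6

set_option autoImplicit false

namespace Cfsg.Agent.Lib.Helper6.TC

/-! # Todd–Coxeter certificates for presented groups: the upper bound for the index -/

section grp
variable {Gen : Type*}

/-- the element of the free group attached to a column -/
def ceOf (gc : ℕ → Gen × Bool) (c : ℕ) : FreeGroup Gen :=
  bif (gc c).2 then (FreeGroup.of (gc c).1)⁻¹ else FreeGroup.of (gc c).1

/-- the element of the free group attached to a word of columns -/
def wordElt (gc : ℕ → Gen × Bool) (w : List ℕ) : FreeGroup Gen := (w.map (ceOf gc)).prod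

theorem wordElt_nil (gc : ℕ → Gen × Bool) : wordElt gc [] = 1 := rfl
theorem wordElt_cons (gc : ℕ → Gen × Bool) (c : ℕ) (w : List ℕ) :
    wordElt gc (c :: w) = ceOf gc c * wordElt gc w := by
  unfold wordElt
  rw [List.map_cons, List.prod_cons]
theorem wordElt_append (gc : ℕ → Gen × Bool) (u v : List ℕ) :
    wordElt gc (u ++ v) = wordElt gc u * wordElt gc v := by
  unfold wordElt
  rw [List.map_append, List.prod_append]

variable (rels : Set (FreeGroup Gen)) (S : Set (FreeGroup Gen)) (gc : ℕ → Gen × Bool)

/-- the subgroup generated by the images of `S` -/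
abbrev subH : Subgroup (PresentedGroup rels) := (Subgroup.closure S).map (PresentedGroup.mk rels)

/-- the action of a column on the cosets -/
noncomputable def cact (c : ℕ) (q : PresentedGroup rels ⧸ subH rels S) : PresentedGroup rels ⧸ subH rels S :=
  (PresentedGroup.mk rels (ceOf gc c))⁻¹ • q

theorem wact_cact (w : List ℕ) (q : PresentedGroup rels ⧸ subH rels S) :
    wact (cact rels S gc) w q = (PresentedGroup.mk rels (wordElt gc w))⁻¹ • q := by
  induction w generalizing q with
  | nil => rw [wact_nil, wordElt_nil, map_one, inv_one, one_smul]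
  | cons c w ih =>
    rw [wact_cons, ih, wordElt_cons, map_mul, mul_inv_rev, mul_smul]
    rfl

variable {rels S gc}
variable {SH SC NH NC WD : ℕ → ℕ} {n ncol nrw nw tmax INV : ℕ}

/-- the upper bound for the index from a certificate -/
theorem index_le
    (npos : 0 < n)
    (hgen : ∀ g : Gen, ∃ c < ncol, gc c = (g, false))
    (hinv1 : ∀ c < ncol, invc INV c < ncol)
    (hinvG : ∀ c < ncol, PresentedGroup.mk rels (ceOf gc (invc INV c)) =
      (PresentedGroup.mk rels (ceOf gc c))⁻¹)
    (hrel : ∀ j < nrw, PresentedGroup.mk rels (wordElt gc (wordL WD j)) = 1)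
    (hsub : ∀ j, nrw ≤ j → j < nw → wordElt gc (wordL WD j) ∈ Subgroup.closure S)
    (hlet : ∀ j < nw, ∀ c ∈ wordL WD j, c < ncol)
    (hS : ∀ s < n * ncol, chkSlot SH SC NH NC WD n ncol nrw nw tmax INV s = true)
    (hN : ∀ ν < n, chkName SH NH NC WD n ncol nrw nw tmax ν = true)
    (hL : ∀ ν < n, chkLive SH NH n ncol tmax ν = true) :
    (subH rels S).index ≤ cntLive NH n tmax n ∧ (subH rels S).index ≠ 0 := by
  classical
  set x0 : PresentedGroup rels ⧸ subH rels S := QuotientGroup.mk (1 : PresentedGroup rels) with hx0
  have H : Hyp SH SC NH NC WD n ncol nrw nw tmax INV (cact rels S gc) x0 := by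
    refine ⟨npos, hinv1, ?_, ?_, ?_, ?_, hlet, hS, hN⟩
    · intro c hc q
      unfold cact
      rw [hinvG c hc, inv_inv, smul_inv_smul]
    · intro c hc q
      unfold cact
      rw [hinvG c hc, inv_inv, inv_smul_smul]
    · intro j hj q
      rw [wact_cact, hrel j hj, inv_one, one_smul]
    · intro j h1 h2
      rw [wact_cact, hx0]
      have hm : PresentedGroup.mk rels (wordElt gc (wordL WD j)) ∈ subH rels S :=
        Subgroup.mem_map_of_mem _ (hsub j h1 h2)
      change (QuotientGroup.mk ((PresentedGroup.mk rels (wordElt gc (wordL WD j)))⁻¹ * 1 : PresentedGroup rels) : _ ⧸ _) = _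
      rw [QuotientGroup.eq]
      simp only [mul_one, inv_inv]
      exact hm
  obtain ⟨T, hcard, h0, hcl⟩ := cover H hL
  -- `T` is closed under the whole group
  have hall : ∀ g : PresentedGroup rels, ∀ q ∈ T, g • q ∈ T := by
    intro g
    have hg : g ∈ Subgroup.closure (Set.range (PresentedGroup.of (rels := rels))) := by
      rw [PresentedGroup.closure_range_of]; exact Subgroup.mem_top g
    induction hg using Subgroup.closure_induction with
    | mem x hx =>
      obtain ⟨g0, rfl⟩ := hx
      obtain ⟨c, hc, hgc⟩ := hgen g0
      intro q hq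
      have := hcl _ (hinv1 c hc) q hq
      unfold cact at this
      rw [hinvG c hc, inv_inv] at this
      have e : ceOf gc c = FreeGroup.of g0 := by unfold ceOf; rw [hgc]; rfl
      rw [e] at this
      exact this
    | one => intro q hq; rw [one_smul]; exact hq
    | mul x y _ _ hx hy => intro q hq; rw [mul_smul]; exact hx _ (hy _ hq)
    | inv x _ hx =>
      intro q hq
      -- the map `x • ·` is injective on the finite set `T`, hence surjective
      have hinj : Set.InjOn (fun q => x • q) (T : Set (PresentedGroup rels ⧸ subH rels S)) :=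
        fun a _ b _ hab => smul_left_cancel x hab
      have hmaps : Set.MapsTo (fun q => x • q) (T : Set (PresentedGroup rels ⧸ subH rels S)) T :=
        fun a ha => hx a ha
      have hsurj := Finset.surjOn_of_injOn_of_card_le (fun q => x • q) hmaps hinj le_rfl
      obtain ⟨a, ha, hax⟩ := hsurj hq
      have : x⁻¹ • q = a := by rw [← hax]; exact inv_smul_smul x a
      rw [this]
      exact ha
  have huniv : ∀ q : PresentedGroup rels ⧸ subH rels S, q ∈ T := by
    intro q
    induction q using QuotientGroup.induction_on with
    | H g =>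
      have := hall g x0 h0
      have e : g • x0 = (QuotientGroup.mk (g : PresentedGroup rels) : _ ⧸ subH rels S) := by
        rw [hx0]
        change (QuotientGroup.mk (g * 1 : PresentedGroup rels) : _ ⧸ _) = _
        rw [mul_one]
      rw [e] at this
      exact this
  letI : Fintype (PresentedGroup rels ⧸ subH rels S) := ⟨T, huniv⟩
  have hle : Nat.card (PresentedGroup rels ⧸ subH rels S) ≤ T.card := by
    rw [Nat.card_eq_fintype_card]
    exact Finset.card_le_card (fun q _ => huniv q)
  constructor
  · exact le_trans hle hcard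
  · have : Nat.card (PresentedGroup rels ⧸ subH rels S) ≠ 0 := Nat.card_ne_zero.mpr ⟨⟨x0⟩, inferInstance⟩
    exact this

end grp

end Cfsg.Agent.Lib.Helper6.TC
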