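import Cfsg.Agent.Lib.Helper6.TC8

set_option autoImplicit false

namespace Cfsg.Agent.Lib.Helper6.TC

/-! # The index and the orbits on cosets from a permutation representation -/

theorem perm_inv_apply_self {α : Type*} (g : Equiv.Perm α) (x : α) : g⁻¹ (g x) = x :=
  g.symm_apply_apply x

theorem perm_apply_inv_self {α : Type*} (g : Equiv.Perm α) (x : α) : g (g⁻¹ x) = x :=
  g.apply_symm_apply x

section orb
variable {Gen : Type*} {rels : Set (FreeGroup Gen)} {S : Set (FreeGroup Gen)} {gc : ℕ → Gen × Bool}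
variable {N : ℕ}

/-- the index is `N` and the cosets correspond to the points -/
theorem index_eq {φ : PresentedGroup rels →* Equiv.Perm (Fin N)} (hN : 0 < N)
    (hfix : ∀ h ∈ subH rels S, φ h ⟨0, hN⟩ = ⟨0, hN⟩)
    (htrans : ∀ p : Fin N, ∃ g, φ g ⟨0, hN⟩ = p)
    (hle : (subH rels S).index ≤ N) (hne : (subH rels S).index ≠ 0) :
    (subH rels S).index = N ∧
      ∃ F : (PresentedGroup rels ⧸ subH rels S) ≃ Fin N, ∀ g q, F (g • q) = φ g (F q) := by
  -- the orbit map
  let F0 : (PresentedGroup rels ⧸ subH rels S) → Fin N :=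
    fun q => Quotient.liftOn' q (fun g => φ g ⟨0, hN⟩) (by
      intro a b hab
      rw [QuotientGroup.leftRel_apply] at hab
      have := hfix _ hab
      rw [map_mul, map_inv, Equiv.Perm.mul_apply, Equiv.Perm.inv_eq_iff_eq] at this
      exact this.symm)
  have hF0 : ∀ g : PresentedGroup rels, F0 (QuotientGroup.mk g) = φ g ⟨0, hN⟩ := fun g => rfl
  have hsurj : Function.Surjective F0 := by
    intro p
    obtain ⟨g, hg⟩ := htrans p
    exact ⟨QuotientGroup.mk g, by rw [hF0, hg]⟩
  haveI : Finite (PresentedGroup rels ⧸ subH rels S) := Nat.finite_of_card_ne_zero hne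
  have hge : N ≤ (subH rels S).index := by
    have := Nat.card_le_card_of_surjective F0 hsurj
    rw [Nat.card_eq_fintype_card, Fintype.card_fin] at this
    exact this
  have hidx : (subH rels S).index = N := le_antisymm hle hge
  refine ⟨hidx, ?_⟩
  have hbij : Function.Bijective F0 := by
    apply hsurj.bijective_of_nat_card_le
    rw [Nat.card_eq_fintype_card (α := Fin N), Fintype.card_fin]
    exact hle
  refine ⟨Equiv.ofBijective F0 hbij, ?_⟩
  intro g q
  induction q using QuotientGroup.induction_on with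
  | H g' =>
    change F0 (QuotientGroup.mk (g * g')) = φ g (F0 (QuotientGroup.mk g'))
    rw [hF0, hF0, map_mul, Equiv.Perm.mul_apply]

variable {px : ℕ → ℕ → ℕ} {ncol : ℕ}

/-- the orbit of the subgroup on a coset, from invariant labels and a spanning tree -/
theorem orbit_spec {φ : PresentedGroup rels →* Equiv.Perm (Fin N)}
    {F : (PresentedGroup rels ⧸ subH rels S) ≃ Fin N} (hF : ∀ g q, F (g • q) = φ g (F q))
    (hw : ∀ w, (∀ c ∈ w, c < ncol) → ∀ p : Fin N,
      ((φ (PresentedGroup.mk rels (wordElt gc w)))⁻¹ p).val = wapp px w p.val)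
    (sw : List (List ℕ))
    (hsw : ∀ s ∈ S, ∃ w ∈ sw, s = wordElt gc w)
    (hsw' : ∀ w ∈ sw, (∀ c ∈ w, c < ncol) ∧ wordElt gc w ∈ S)
    (lab rnk : ℕ → ℕ) (p0 : ℕ) (hp0 : p0 < N)
    (hlab : ∀ w ∈ sw, ∀ p < N, lab (wapp px w p) = lab p)
    (htree : ∀ p < N, lab p = lab p0 → p ≠ p0 → ∃ w ∈ sw, rnk (wapp px w p) < rnk p) :
    ∀ q, q ∈ MulAction.orbit (subH rels S) (F.symm ⟨p0, hp0⟩) ↔ lab (F q).val = lab p0 := by
  -- invariance of the labels under the subgroup
  have hinvar : ∀ h ∈ subH rels S, ∀ p : Fin N, lab (φ h p).val = lab p.val := by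
    intro h hh
    obtain ⟨x, hx, rfl⟩ := Subgroup.mem_map.mp hh
    clear hh
    induction hx using Subgroup.closure_induction with
    | mem s hs =>
      obtain ⟨w, hwm, rfl⟩ := hsw s hs
      intro p
      have h1 := hw w (hsw' w hwm).1 (φ (PresentedGroup.mk rels (wordElt gc w)) p)
      rw [perm_inv_apply_self] at h1
      have h2 := hlab w hwm _ (φ (PresentedGroup.mk rels (wordElt gc w)) p).isLt
      rw [← h1] at h2
      exact h2.symm
    | one => intro p; rw [map_one, map_one]; rfl
    | mul x y _ _ hx hy =>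
      intro p
      rw [map_mul, map_mul, Equiv.Perm.mul_apply, hx, hy]
    | inv x _ hx =>
      intro p
      rw [map_inv, map_inv]
      have := hx ((φ (PresentedGroup.mk rels x))⁻¹ p)
      rw [perm_apply_inv_self] at this
      exact this.symm
  intro q
  constructor
  · intro hq
    rw [MulAction.mem_orbit_iff] at hq
    obtain ⟨h, rfl⟩ := hq
    change lab (F ((h : PresentedGroup rels) • F.symm ⟨p0, hp0⟩)).val = lab p0
    rw [hF, Equiv.apply_symm_apply, hinvar _ h.2]
  · -- induction on the rank
    suffices hmain : ∀ r, ∀ p : Fin N, rnk p.val = r → lab p.val = lab p0 →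
        F.symm p ∈ MulAction.orbit (subH rels S) (F.symm ⟨p0, hp0⟩) by
      intro hq
      have := hmain _ (F q) rfl hq
      rw [Equiv.symm_apply_apply] at this
      exact this
    intro r
    induction r using Nat.strong_induction_on with
    | _ r ih =>
      intro p hr hl
      by_cases hpp : p.val = p0
      · have : p = ⟨p0, hp0⟩ := Fin.ext hpp
        rw [this]
        exact MulAction.mem_orbit_self _
      · obtain ⟨w, hwm, hlt⟩ := htree p.val p.isLt hl hpp
        have hwl := (hsw' w hwm).1
        set m := PresentedGroup.mk rels (wordElt gc w) with hm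
        have hmH : m ∈ subH rels S :=
          Subgroup.mem_map_of_mem _ (Subgroup.subset_closure (hsw' w hwm).2)
        set p' : Fin N := (φ m)⁻¹ p with hp'
        have hp'v : p'.val = wapp px w p.val := hw w hwl p
        have hl' : lab p'.val = lab p0 := by
          rw [hp'v, hlab w hwm _ p.isLt, hl]
        have hr' : rnk p'.val < r := by rw [hp'v, ← hr]; exact hlt
        have h1 := ih _ hr' p' rfl hl'
        rw [MulAction.mem_orbit_iff] at h1 ⊢
        obtain ⟨h', hh'⟩ := h1
        refine ⟨⟨m, hmH⟩ * h', ?_⟩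
        rw [mul_smul, hh']
        change (m : PresentedGroup rels) • F.symm p' = F.symm p
        apply F.injective
        rw [hF, Equiv.apply_symm_apply, Equiv.apply_symm_apply, hp', perm_apply_inv_self]

/-- the size of an orbit -/
theorem orbit_ncard {F : (PresentedGroup rels ⧸ subH rels S) ≃ Fin N}
    (lab : ℕ → ℕ) (p0 : ℕ) (hp0 : p0 < N)
    (hspec : ∀ q, q ∈ MulAction.orbit (subH rels S) (F.symm ⟨p0, hp0⟩) ↔ lab (F q).val = lab p0) :
    (MulAction.orbit (subH rels S) (F.symm ⟨p0, hp0⟩)).ncard =
      ((Finset.range N).filter (fun p => lab p = lab p0)).card := by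
  have h1 : MulAction.orbit (subH rels S) (F.symm ⟨p0, hp0⟩) =
      F.symm '' {p : Fin N | lab p.val = lab p0} := by
    ext q
    rw [hspec]
    constructor
    · intro h
      exact ⟨F q, h, F.symm_apply_apply q⟩
    · rintro ⟨p, hp, rfl⟩
      rw [Equiv.apply_symm_apply]
      exact hp
  rw [h1, Set.ncard_image_of_injective _ F.symm.injective]
  have h2 : {p : Fin N | lab p.val = lab p0} =
      ((Finset.univ : Finset (Fin N)).filter (fun p => lab p.val = lab p0) : Set (Fin N)) := by
    ext p; simp
  rw [h2, Set.ncard_coe_finset]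
  rw [← Finset.card_map Fin.valEmbedding]
  congr 1
  ext p
  simp only [Finset.mem_map, Finset.mem_filter, Finset.mem_univ, true_and, Fin.valEmbedding_apply,
    Finset.mem_range]
  constructor
  · rintro ⟨a, ha, rfl⟩
    exact ⟨a.isLt, ha⟩
  · rintro ⟨h1, h2⟩
    exact ⟨⟨p, h1⟩, h2, rfl⟩

end orb

end Cfsg.Agent.Lib.Helper6.TC
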