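import Mathlib
import Cfsg.Agent.Lib.Helper6.TSU0
import Cfsg.Agent.Lib.Helper2.HermFrames
import Cfsg.Agent.Lib.Helper2.UT3
import Cfsg.Agent.Lib.Helper1.TISp2
import Cfsg.Agent.Lib.Helper9.UPol8

set_option autoImplicit false
set_option linter.unusedSectionVars false

/-!
# S5953: invariant totally singular subspaces of isometries of unitary spaces, generalities
(hermitian port of Helper1.TISp1)
-/

namespace Cfsg.Agent.Lib.Helper6.TSU

open Module Polynomial Cfsg.Agent.H9SemiInv Cfsg.Agent.Lib.Helper9.H9Elus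
  Cfsg.Agent.Lib.Helper1.SpBlk Cfsg.Agent.Lib.Helper9.UPol Cfsg.Agent.Lib.Helper5.PSLCoset
  Cfsg.Agent.Lib.Helper2.HermDecomp Cfsg.Agent.Lib.Helper2.HermFrames

section general
variable {F : Type*} [Field F] {σ : F ≃+* F} {V : Type*} [AddCommGroup V] [Module F V]
  {H : V → V → F}

theorem ts_bot (h : IsHerm σ H) : TS H (⊥ : Submodule F V) := by
  intro u hu v _
  rw [(Submodule.mem_bot F).1 hu]
  exact h.zero_left v

theorem ts_mono {Z Z' : Submodule F V} (hZ : TS H Z) (hle : Z' ≤ Z) : TS H Z' :=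
  fun u hu v hv => hZ u (hle hu) v (hle hv)

theorem ts_le_orthoCompl (h : IsHerm σ H) {Z : Submodule F V} (hZ : TS H Z) :
    Z ≤ orthoCompl h Z := fun v hv w hw => hZ w hw v hv

theorem isom_pow_herm {T : V →ₗ[F] V} (hT : ∀ u v, H (T u) (T v) = H u v) (k : ℕ) (u v : V) :
    H ((T ^ k) u) ((T ^ k) v) = H u v := by
  induction k with
  | zero => simp
  | succ k ih => rw [pow_succ', Module.End.mul_apply, Module.End.mul_apply, hT, ih]

theorem injective_of_isom (h : IsHerm σ H) (hnd : ∀ v, (∀ w, H v w = 0) → v = 0)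
    {T : V →ₗ[F] V} (hT : ∀ u v, H (T u) (T v) = H u v) : Function.Injective T := by
  rw [← LinearMap.ker_eq_bot, eq_bot_iff]
  intro u hu
  rw [Submodule.mem_bot]
  apply hnd
  intro w
  rw [← hT, LinearMap.mem_ker.1 hu]
  exact h.zero_left _

variable [FiniteDimensional F V]

theorem fixTS_iff (T : V →ₗ[F] V) (m : ℕ) :
    FixTS H T m ↔ ∃ W : Submodule F V, finrank F W = m ∧ TS H W ∧ Inv T W := by
  constructor
  · rintro ⟨W, h1, h2, h3⟩
    exact ⟨W, h1, h2, (inv_iff T W).2 h3⟩
  · rintro ⟨W, h1, h2, h3⟩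
    exact ⟨W, h1, h2, (inv_iff T W).1 h3⟩

theorem map_eq_of_inv_inj {T : V →ₗ[F] V} (hinj : Function.Injective T) {N : Submodule F V}
    (hN : Inv T N) : N.map T = N := by
  apply Submodule.eq_of_le_of_finrank_eq ((inv_iff T N).1 hN)
  exact (Submodule.equivMapOfInjective T hinj N).finrank_eq.symm

theorem inv_orthoCompl (h : IsHerm σ H) (hnd : ∀ v, (∀ w, H v w = 0) → v = 0)
    {T : V →ₗ[F] V} (hT : ∀ u v, H (T u) (T v) = H u v) {N : Submodule F V} (hN : Inv T N) :
    Inv T (orthoCompl h N) := by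
  intro v hv n hn
  have h1 := map_eq_of_inv_inj (injective_of_isom h hnd hT) hN
  rw [← h1] at hn
  obtain ⟨n', hn', rfl⟩ := hn
  rw [hT]
  exact hv n' hn'

/-- a maximal invariant totally singular subspace -/
theorem exists_max_ts (h : IsHerm σ H) (T : V →ₗ[F] V) :
    ∃ W : Submodule F V, TS H W ∧ Inv T W ∧
      ∀ W' : Submodule F V, TS H W' → Inv T W' → finrank F W' ≤ finrank F W := by
  classical
  have h0 : ∃ W : Submodule F V, TS H W ∧ Inv T W ∧ finrank F W = 0 :=
    ⟨⊥, ts_bot h, fun x hx => by rw [(Submodule.mem_bot F).1 hx, map_zero]; exact Submodule.zero_mem _,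
      finrank_bot F V⟩
  obtain ⟨W, hW1, hW2, hW3⟩ := Nat.findGreatest_spec
    (P := fun n => ∃ W : Submodule F V, TS H W ∧ Inv T W ∧ finrank F W = n)
    (Nat.zero_le (finrank F V)) h0
  refine ⟨W, hW1, hW2, fun W' hW'1 hW'2 => ?_⟩
  rw [hW3]
  exact Nat.le_findGreatest
    (P := fun n => ∃ W : Submodule F V, TS H W ∧ Inv T W ∧ finrank F W = n)
    (Submodule.finrank_le W') ⟨W', hW'1, hW'2, rfl⟩

variable [Finite F]

/-- the anisotropic complement of a maximal invariant totally singular subspace -/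
theorem exists_aniso (hσ : orderOf σ = 2) (h : IsHerm σ H)
    (hnd : ∀ v, (∀ w, H v w = 0) → v = 0) (T : V →ₗ[F] V)
    (hT : ∀ u v, H (T u) (T v) = H u v) (hss : Module.End.IsSemisimple T)
    {W : Submodule F V} (hW : TS H W) (hWinv : Inv T W)
    (hmax : ∀ W' : Submodule F V, TS H W' → Inv T W' → finrank F W' ≤ finrank F W) :
    ∃ A : Submodule F V, A ≤ orthoCompl h W ∧ Inv T A ∧ Disjoint W A ∧
      W ⊔ A = orthoCompl h W ∧ ND H A ∧
      (∀ Z : Submodule F V, Z ≤ A → TS H Z → Inv T Z → Z = ⊥) ∧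
      finrank F A + 2 * finrank F W = finrank F V := by
  have hle := ts_le_orthoCompl h hW
  obtain ⟨A, hA, hAinv, hdis, hfr⟩ := exists_rel_compl T hss (orthoCompl h W)
    (inv_orthoCompl h hnd hT hWinv) W hle hWinv
  have hsup : W ⊔ A = orthoCompl h W := by
    apply Submodule.eq_of_le_of_finrank_eq (sup_le hle hA)
    rw [finrank_sup_of_disjoint hdis, hfr]
  refine ⟨A, hA, hAinv, hdis, hsup, ?_, ?_, ?_⟩
  · intro x hx hx'
    have h1 : x ∈ orthoCompl h (orthoCompl h W) := by
      intro v hv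
      rw [← hsup] at hv
      obtain ⟨w, hw, c, hc, rfl⟩ := Submodule.mem_sup.1 hv
      rw [h.add_left, hA hx w hw, zero_add]
      exact eq_zero_of_symm h (hx' c hc)
    rw [orthoCompl_orthoCompl hσ h hnd] at h1
    have h2 : x ∈ W ⊓ A := ⟨h1, hx⟩
    rw [hdis.eq_bot] at h2
    exact (Submodule.mem_bot F).1 h2
  · intro Z hZA hZ hZinv
    have hts : TS H (W ⊔ Z) := ts_sup h hW hZ (fun u hu v hv => hA (hZA hv) u hu)
    have hdis' : Disjoint W Z := hdis.mono_right hZA
    have h1 := hmax (W ⊔ Z) hts (hWinv.sup hZinv)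
    rw [finrank_sup_of_disjoint hdis'] at h1
    apply Submodule.finrank_eq_zero.1
    omega
  · have h1 := finrank_orthoCompl hσ h hnd W
    omega

/-- relative orthogonal complements inside a nondegenerate subspace -/
theorem finrank_inf_orthoCompl (hσ : orderOf σ = 2) (h : IsHerm σ H)
    (hnd : ∀ v, (∀ w, H v w = 0) → v = 0) {K U : Submodule F V} (hK : ND H K) (hUK : U ≤ K) :
    finrank F ↥(K ⊓ orthoCompl h U) + finrank F U = finrank F K := by
  have hdisK : Disjoint (orthoCompl h K) K := by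
    rw [Submodule.disjoint_def]
    intro x hx1 hx2
    apply hK x hx2
    intro v hv
    exact eq_zero_of_symm h (hx1 v hv)
  have h1 := finrank_orthoCompl hσ h hnd K
  have h2 := finrank_orthoCompl hσ h hnd U
  have htop : orthoCompl h K ⊔ K = ⊤ := by
    apply Submodule.eq_top_of_finrank_eq
    rw [finrank_sup_of_disjoint hdisK]
    omega
  have hle : orthoCompl h K ≤ orthoCompl h U := fun v hv w hw => hv w (hUK hw)
  have hmod : orthoCompl h U = orthoCompl h K ⊔ (K ⊓ orthoCompl h U) := by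
    have h3 : (orthoCompl h K ⊔ K) ⊓ orthoCompl h U = orthoCompl h K ⊔ (K ⊓ orthoCompl h U) :=
      sup_inf_assoc_of_le K hle
    rw [htop, top_inf_eq] at h3
    exact h3
  have hdis : Disjoint (orthoCompl h K) (K ⊓ orthoCompl h U) := hdisK.mono_right inf_le_left
  have h4 : finrank F (orthoCompl h U) =
      finrank F (orthoCompl h K) + finrank F ↥(K ⊓ orthoCompl h U) := by
    conv_lhs => rw [hmod]
    exact finrank_sup_of_disjoint hdis
  omega

/-- a subspace of dimension at least two contains a nonzero isotropic vector -/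
theorem exists_isotropic_of_two_le (hσ : orderOf σ = 2) (h : IsHerm σ H)
    (hnd : ∀ v, (∀ w, H v w = 0) → v = 0) (P : Submodule F V) (hP : 2 ≤ finrank F P) :
    ∃ v ∈ P, v ≠ 0 ∧ H v v = 0 := by
  have hPne : P ≠ ⊥ := by
    intro h0
    rw [h0, finrank_bot] at hP
    omega
  obtain ⟨u, huP, hu0⟩ := Submodule.exists_mem_ne_zero_of_ne_bot hPne
  by_cases huu : H u u = 0
  · exact ⟨u, huP, hu0, huu⟩
  set L := Submodule.span F {u} with hL
  have hLfr : finrank F L = 1 := finrank_span_singleton hu0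
  have h1 := finrank_orthoCompl hσ h hnd L
  have h2 := Submodule.finrank_sup_add_finrank_inf_eq P (orthoCompl h L)
  have h3 : finrank F ↥(P ⊔ orthoCompl h L) ≤ finrank F V := Submodule.finrank_le _
  have hne : P ⊓ orthoCompl h L ≠ ⊥ := by
    intro h0
    rw [h0, finrank_bot] at h2
    omega
  obtain ⟨v, hv, hv0⟩ := Submodule.exists_mem_ne_zero_of_ne_bot hne
  have huv : H u v = 0 := hv.2 u (Submodule.mem_span_singleton_self u)
  have hvu : H v u = 0 := eq_zero_of_symm h huv
  by_cases hvv : H v v = 0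
  · exact ⟨v, hv.1, hv0, hvv⟩
  have hfu : σ (H u u) = H u u := (h.symm u u).symm
  have hfv : σ (H v v) = H v v := (h.symm v v).symm
  obtain ⟨s, hs0, hs⟩ := Cfsg.Agent.Lib.Helper2.UT.exists_norm_eq hσ (-(H u u) / H v v)
    (div_ne_zero (neg_ne_zero.2 huu) hvv) (by rw [map_div₀, map_neg, hfu, hfv])
  refine ⟨u + s • v, P.add_mem huP (P.smul_mem s hv.1), ?_, ?_⟩
  · intro h0
    have h4 : H (u + s • v) u = 0 := by rw [h0]; exact h.zero_left u
    rw [h.add_left, h.smul_left, hvu, mul_zero, add_zero] at h4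
    exact huu h4
  · have e1 : H (u + s • v) (u + s • v) = H u u + (s * σ s) * H v v := by
      rw [h.add_left, h.add_right, h.add_right, h.smul_left, h.smul_left, h.smul_right,
        h.smul_right, huv, hvu]
      ring
    rw [e1, hs]
    field_simp
    ring

end general

end Cfsg.Agent.Lib.Helper6.TSU
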