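import Mathlib
import Cfsg.Agent.Lib.Helper6.TSU1

set_option autoImplicit false
set_option linter.unusedSectionVars false

/-!
# S5953: fixed and moved parts of an isometry of prime order of a unitary space; necessary conditions;
bounds for the anisotropic part
-/

namespace Cfsg.Agent.Lib.Helper6.TSU

open Module Polynomial Cfsg.Agent.H9SemiInv Cfsg.Agent.Lib.Helper9.H9Elus
  Cfsg.Agent.Lib.Helper1.SpBlk Cfsg.Agent.Lib.Helper9.UPol Cfsg.Agent.Lib.Helper5.PSLCoset
  Cfsg.Agent.Lib.Helper2.HermDecomp Cfsg.Agent.Lib.Helper2.HermFrames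

section finite
variable {F : Type*} [Field F] [Fintype F] {p : ℕ} [Fact p.Prime] [CharP F p]
  {σ : F ≃+* F} {V : Type*} [AddCommGroup V] [Module F V] [FiniteDimensional F V]
  {H : V → V → F}

theorem herm_sum_right' (h : IsHerm σ H) {ι : Type*} (s : Finset ι) (e : ι → V) (w : V) :
    H w (∑ i ∈ s, e i) = ∑ i ∈ s, H w (e i) := by
  classical
  induction s using Finset.induction_on with
  | empty => simp [h.zero_right]
  | insert a s ha ih => rw [Finset.sum_insert ha, Finset.sum_insert ha, h.add_right, ih]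

theorem herm_sum_left' (h : IsHerm σ H) {ι : Type*} (s : Finset ι) (e : ι → V) (w : V) :
    H (∑ i ∈ s, e i) w = ∑ i ∈ s, H (e i) w := by
  classical
  induction s using Finset.induction_on with
  | empty => simp [h.zero_left]
  | insert a s ha ih => rw [Finset.sum_insert ha, Finset.sum_insert ha, h.add_left, ih]

theorem sum_pow_apply_eq_zero (r : ℕ) [Fact r.Prime] (T : V →ₗ[F] V) {v : V}
    (hv : v ∈ movK r T) : ∑ j ∈ Finset.range r, (T ^ j) v = 0 := by
  have hv' : aeval T (cyclotomic r F) v = 0 := LinearMap.mem_ker.1 hv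
  rw [cyclotomic_prime, map_sum, LinearMap.sum_apply] at hv'
  rw [← hv']
  apply Finset.sum_congr rfl
  intro j _
  rw [map_pow, aeval_X]

theorem fixE_orth_movK_herm (h : IsHerm σ H) (r : ℕ) [Fact r.Prime] (hrp : r ≠ p)
    (T : V →ₗ[F] V) (hT : ∀ u v, H (T u) (T v) = H u v) {u v : V} (hu : u ∈ fixE T)
    (hv : v ∈ movK r T) : H u v = 0 := by
  have hu' := (mem_fixE T u).1 hu
  have h1 : ∀ j : ℕ, H u ((T ^ j) v) = H u v := by
    intro j
    have h2 : (T ^ j) u = u := by
      induction j with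
      | zero => simp
      | succ j ih => rw [pow_succ, Module.End.mul_apply, hu', ih]
    conv_lhs => rw [← h2]
    exact isom_pow_herm hT j u v
  have h3 : H u (∑ j ∈ Finset.range r, (T ^ j) v) = 0 := by
    rw [sum_pow_apply_eq_zero r T hv]
    exact h.zero_right u
  rw [herm_sum_right' h, Finset.sum_congr rfl (fun j _ => h1 j), Finset.sum_const,
    Finset.card_range, nsmul_eq_mul] at h3
  exact (mul_eq_zero.1 h3).resolve_left (cast_ne_zero_of_ne r hrp)

theorem nd_fixE (h : IsHerm σ H) (hnd : ∀ v, (∀ w, H v w = 0) → v = 0) (r : ℕ) [Fact r.Prime]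
    (hrp : r ≠ p) (T : V →ₗ[F] V) (hT : ∀ u v, H (T u) (T v) = H u v) (hTr : T ^ r = 1) :
    ND H (fixE T) := by
  intro u hu hu'
  apply hnd
  intro w
  have hw : w ∈ (⊤ ⊓ fixE T) ⊔ (⊤ ⊓ movK r T) := by
    rw [inf_fixE_sup_inf_movK r hrp T hTr (M := ⊤) (fun _ _ => Submodule.mem_top)]
    exact Submodule.mem_top
  obtain ⟨a, ha, b, hb, rfl⟩ := Submodule.mem_sup.1 hw
  rw [h.add_right, hu' a ha.2, fixE_orth_movK_herm h r hrp T hT hu hb.2, add_zero]

theorem nd_movK (h : IsHerm σ H) (hnd : ∀ v, (∀ w, H v w = 0) → v = 0) (r : ℕ) [Fact r.Prime]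
    (hrp : r ≠ p) (T : V →ₗ[F] V) (hT : ∀ u v, H (T u) (T v) = H u v) (hTr : T ^ r = 1) :
    ND H (movK r T) := by
  intro u hu hu'
  apply hnd
  intro w
  have hw : w ∈ (⊤ ⊓ fixE T) ⊔ (⊤ ⊓ movK r T) := by
    rw [inf_fixE_sup_inf_movK r hrp T hTr (M := ⊤) (fun _ _ => Submodule.mem_top)]
    exact Submodule.mem_top
  obtain ⟨a, ha, b, hb, rfl⟩ := Submodule.mem_sup.1 hw
  rw [h.add_right, hu' b hb.2,
    eq_zero_of_symm h (fixE_orth_movK_herm h r hrp T hT ha.2 hu), add_zero]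

/-- **NEC-B** -/
theorem two_mul_le_of_fixTS (hσ : orderOf σ = 2) (h : IsHerm σ H)
    (hnd : ∀ v, (∀ w, H v w = 0) → v = 0)
    (r : ℕ) [Fact r.Prime] (hrp : r ≠ p) (T : V →ₗ[F] V) (hT : ∀ u v, H (T u) (T v) = H u v)
    (hTr : T ^ r = 1) (m : ℕ)
    (hmov : ∀ U : Submodule F V, U ≤ movK r T → Inv T U → TS H U → U = ⊥)
    (hfix : FixTS H T m) : 2 * m ≤ finrank F (fixE T) := by
  obtain ⟨W, hWm, hWts, hWinv⟩ := (fixTS_iff T m).1 hfix
  have h1 := inf_fixE_sup_inf_movK r hrp T hTr hWinv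
  have h2 : W ⊓ movK r T = ⊥ :=
    hmov _ inf_le_right (hWinv.inf (inv_movK r T)) (ts_mono hWts inf_le_left)
  rw [h2, sup_bot_eq] at h1
  have hle : W ≤ fixE T := by
    rw [← h1]
    exact inf_le_right
  have h3 := ts_finrank_le hσ h hnd (nd_fixE h hnd r hrp T hT hTr) hle hWts
  rw [hWm] at h3
  exact h3

/-- **NEC-A** -/
theorem cond_of_fixTS (hσ : orderOf σ = 2) (h : IsHerm σ H) (hnd : ∀ v, (∀ w, H v w = 0) → v = 0)
    (r : ℕ) [Fact r.Prime] (hrp : r ≠ p) (T : V →ₗ[F] V) (hT : ∀ u v, H (T u) (T v) = H u v)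
    (hTr : T ^ r = 1) (m : ℕ) (hk2 : finrank F (fixE T) < 2 * m)
    (hkb : finrank F (fixE T) < 2 * orderOf ((Fintype.card F : ℕ) : ZMod r))
    (hfix : FixTS H T m) :
    orderOf ((Fintype.card F : ℕ) : ZMod r) ≤ m ∧
      2 * (m % orderOf ((Fintype.card F : ℕ) : ZMod r)) ≤ finrank F (fixE T) := by
  obtain ⟨W, hWm, hWts, hWinv⟩ := (fixTS_iff T m).1 hfix
  have e1 := finrank_inf_fixE_add r hrp T hTr hWinv
  obtain ⟨t, ht⟩ : orderOf ((Fintype.card F : ℕ) : ZMod r) ∣ finrank F ↥(W ⊓ movK r T) :=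
    dvd_finrank_of_le_movK r hrp T hTr (hWinv.inf (inv_movK r T)) inf_le_right
  have e2 := ts_finrank_le hσ h hnd (nd_fixE h hnd r hrp T hT hTr) (inf_le_right : W ⊓ fixE T ≤ fixE T)
    (ts_mono hWts inf_le_left)
  have hb := order_pos (F := F) r hrp
  set b := orderOf ((Fintype.card F : ℕ) : ZMod r) with hbdef
  have ht0 : t ≠ 0 := by
    rintro rfl
    rw [mul_zero] at ht
    omega
  have ht1 : b ≤ b * t := Nat.le_mul_of_pos_right b (Nat.pos_of_ne_zero ht0)
  refine ⟨by omega, ?_⟩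
  have h3 : m % b = finrank F ↥(W ⊓ fixE T) := by
    rw [← hWm, ← e1, ht, Nat.add_mul_mod_self_left]
    exact Nat.mod_eq_of_lt (by omega)
  omega

/-- the anisotropic part meets the fixed space in dimension at most one -/
theorem finrank_aniso_fixE_le_one (hσ : orderOf σ = 2) (h : IsHerm σ H)
    (hnd : ∀ v, (∀ w, H v w = 0) → v = 0) (T : V →ₗ[F] V) {A : Submodule F V}
    (hA : ∀ Z : Submodule F V, Z ≤ A → TS H Z → Inv T Z → Z = ⊥) :
    finrank F ↥(A ⊓ fixE T) ≤ 1 := by
  by_contra hcon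
  push Not at hcon
  obtain ⟨v, hv, hv0, hvv⟩ := exists_isotropic_of_two_le hσ h hnd (A ⊓ fixE T) hcon
  have h1 : Submodule.span F {v} = ⊥ := by
    apply hA
    · rw [Submodule.span_singleton_le_iff_mem]
      exact hv.1
    · intro a ha b hb
      obtain ⟨s, rfl⟩ := Submodule.mem_span_singleton.1 ha
      obtain ⟨t, rfl⟩ := Submodule.mem_span_singleton.1 hb
      rw [h.smul_left, h.smul_right, hvv, mul_zero, mul_zero]
    · intro a ha
      obtain ⟨s, rfl⟩ := Submodule.mem_span_singleton.1 ha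
      rw [map_smul, (mem_fixE T v).1 hv.2]
      exact Submodule.smul_mem _ s (Submodule.mem_span_singleton_self v)
  exact hv0 (Submodule.span_singleton_eq_bot.1 h1)

/-- the anisotropic part meets the moved space in dimension at most `r - 1`
(Chevalley--Warning as a hypothesis) -/
theorem finrank_aniso_movK_le (h : IsHerm σ H) (r : ℕ) [Fact r.Prime] (hr2 : r ≠ 2)
    (T : V →ₗ[F] V) (hT : ∀ u v, H (T u) (T v) = H u v) (hTr : T ^ r = 1)
    (hCW : ∀ (N : ℕ) (S : Fin N → V →ₗ[F] V) (A : Submodule F V),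
      2 * N < finrank F A → ∃ v ∈ A, v ≠ 0 ∧ ∀ j, H (S j v) v = 0)
    {A : Submodule F V} (hAinv : Inv T A)
    (hA : ∀ Z : Submodule F V, Z ≤ A → TS H Z → Inv T Z → Z = ⊥) :
    finrank F ↥(A ⊓ movK r T) ≤ r - 1 := by
  by_contra hcon
  push Not at hcon
  have hrpr : r.Prime := Fact.out
  have hr3 : 3 ≤ r := by have := hrpr.two_le; omega
  have hodd : r % 2 = 1 := by
    rcases hrpr.eq_two_or_odd with h | h
    · exact absurd h hr2
    · exact h
  obtain ⟨v, hvA, hv0, hv⟩ := hCW ((r - 1) / 2) (fun j => T ^ ((j : ℕ) + 1)) (A ⊓ movK r T)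
    (by omega)
  have hv' : ∀ k, 1 ≤ k → k ≤ (r - 1) / 2 → H ((T ^ k) v) v = 0 := by
    intro k hk1 hk2
    have h1 := hv ⟨k - 1, by omega⟩
    simp only at h1
    rwa [Nat.sub_add_cancel hk1] at h1
  have hpos : ∀ k, 1 ≤ k → k < r → H ((T ^ k) v) v = 0 := by
    intro k h0 hk
    by_cases hk2 : k ≤ (r - 1) / 2
    · exact hv' k h0 hk2
    · have h1 : (T ^ k) ((T ^ (r - k)) v) = v := by
        rw [← Module.End.mul_apply, ← pow_add, show k + (r - k) = r by omega, hTr,
          Module.End.one_apply]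
      calc H ((T ^ k) v) v = H ((T ^ k) v) ((T ^ k) ((T ^ (r - k)) v)) := by rw [h1]
        _ = H v ((T ^ (r - k)) v) := isom_pow_herm hT k _ _
        _ = 0 := eq_zero_of_symm h (hv' (r - k) (by omega) (by omega))
  have hzero : H v v = 0 := by
    have h1 := sum_pow_apply_eq_zero r T hvA.2
    have h2 : H (∑ j ∈ Finset.range r, (T ^ j) v) v = 0 := by rw [h1]; exact h.zero_left v
    rw [herm_sum_left' h, Finset.sum_eq_single 0] at h2
    · simpa using h2
    · intro j hj hj0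
      exact hpos j (by omega) (Finset.mem_range.1 hj)
    · intro h0
      exact absurd (Finset.mem_range.2 hrpr.pos) h0
  have hsmall : ∀ k, k < r → H ((T ^ k) v) v = 0 := by
    intro k hk
    rcases Nat.eq_zero_or_pos k with h0 | h0
    · rw [h0, pow_zero, Module.End.one_apply]; exact hzero
    · exact hpos k h0 hk
  have hall : ∀ k, H ((T ^ k) v) v = 0 := by
    intro k
    rw [pow_eq_pow_mod k hTr]
    exact hsmall _ (Nat.mod_lt _ hrpr.pos)
  have hpair : ∀ a b, a ≤ b → H ((T ^ a) v) ((T ^ b) v) = 0 := by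
    intro a b hab
    have h1 : (T ^ b) v = (T ^ a) ((T ^ (b - a)) v) := by
      rw [← Module.End.mul_apply, ← pow_add, Nat.add_sub_cancel' hab]
    rw [h1, isom_pow_herm hT a]
    exact eq_zero_of_symm h (hall _)
  have hZts : TS H (Submodule.span F (Set.range fun k : Fin r => (T ^ (k : ℕ)) v)) := by
    apply span_isotropic h
    intro a b
    rcases le_total (a : ℕ) (b : ℕ) with hab | hab
    · exact hpair _ _ hab
    · exact eq_zero_of_symm h (hpair _ _ hab)
  have hZinv := Cfsg.Agent.Lib.Helper4.EqDec.inv_span_iterates T r (by omega) 1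
    (by rw [hTr, one_smul]) v
  have hZA : Submodule.span F (Set.range fun k : Fin r => (T ^ (k : ℕ)) v) ≤ A := by
    rw [Submodule.span_le]
    rintro _ ⟨k, rfl⟩
    exact Inv.pow' hAinv k v hvA.1
  have hZ0 := hA _ hZA hZts hZinv
  have hvZ : v ∈ Submodule.span F (Set.range fun k : Fin r => (T ^ (k : ℕ)) v) := by
    apply Submodule.subset_span
    exact ⟨⟨0, hrpr.pos⟩, by simp⟩
  rw [hZ0, Submodule.mem_bot] at hvZ
  exact hv0 hvZ

/-- if nondegenerate invariant subspaces moved by `T` have dimension at least `2 b`, the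
anisotropic part does not meet the moved space -/
theorem aniso_movK_eq_bot (h : IsHerm σ H) (hnd : ∀ v, (∀ w, H v w = 0) → v = 0)
    (r : ℕ) [Fact r.Prime] (hrp : r ≠ p) (T : V →ₗ[F] V)
    (hT : ∀ u v, H (T u) (T v) = H u v) (hTr : T ^ r = 1)
    (hdual : ∀ U : Submodule F V, Inv T U → ND H U → ¬ U ≤ fixE T →
      2 * orderOf ((Fintype.card F : ℕ) : ZMod r) ≤ finrank F U)
    {A : Submodule F V} (hAinv : Inv T A)
    (hA : ∀ Z : Submodule F V, Z ≤ A → TS H Z → Inv T Z → Z = ⊥) :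
    A ⊓ movK r T = ⊥ := by
  by_contra hne
  obtain ⟨U, hUA, hUinv, hUfr⟩ := hmin_cyclotomic r hrp T (A ⊓ movK r T) inf_le_right
    (hAinv.inf (inv_movK r T)) hne
  have hb := order_pos (F := F) r hrp
  have h1 : U ⊓ orthoCompl h U = ⊥ := by
    apply hA
    · exact inf_le_left.trans (hUA.trans inf_le_left)
    · intro u hu v hv
      exact hv.2 u hu.1
    · exact hUinv.inf (inv_orthoCompl h hnd hT hUinv)
  have hUnd : ND H U := by
    intro u hu hu'
    have : u ∈ U ⊓ orthoCompl h U := ⟨hu, fun w hw => eq_zero_of_symm h (hu' w hw)⟩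
    rw [h1] at this
    exact (Submodule.mem_bot F).1 this
  have hUne : U ≠ ⊥ := by
    intro h0
    rw [h0, finrank_bot] at hUfr
    omega
  have hUfix : ¬ U ≤ fixE T := by
    intro hle
    have h2 : U ≤ fixE T ⊓ movK r T := le_inf hle (hUA.trans inf_le_right)
    rw [(disjoint_fixE_movK r hrp T hTr).eq_bot] at h2
    exact hUne (eq_bot_iff.2 h2)
  have h3 := hdual U hUinv hUnd hUfix
  omega

end finite

end Cfsg.Agent.Lib.Helper6.TSU
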