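import Mathlib
import Cfsg.Agent.Lib.Helper6.TSU2
import Cfsg.Agent.Lib.Helper1.SpBlk5

set_option autoImplicit false
set_option linter.unusedSectionVars false

/-!
# S5953: the positive direction for odd primes `r ≠ p` (abstract form, **ELU**)
-/

namespace Cfsg.Agent.Lib.Helper6.TSU

open Module Polynomial Cfsg.Agent.H9SemiInv Cfsg.Agent.Lib.Helper9.H9Elus
  Cfsg.Agent.Lib.Helper1.SpBlk Cfsg.Agent.Lib.Helper9.UPol Cfsg.Agent.Lib.Helper5.PSLCoset
  Cfsg.Agent.Lib.Helper2.HermDecomp Cfsg.Agent.Lib.Helper2.HermFrames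

/-- pure arithmetic: the choice of the dimensions of the two parts -/
theorem arith_choice_herm (b c m n r w0 w1' α0 α1' a0 : ℕ) (hb : 1 ≤ b)
    (hcb : c = b ∨ c = 2 * b) (ha0 : a0 = 2 * w0 + α0) (hα0 : α0 ≤ 1)
    (hn : n = a0 + b * (2 * w1' + α1')) (hα1 : b * α1' ≤ r - 1) (hdual : c = 2 * b → α1' = 0)
    (hmn : 2 * m ≤ n) (h1 : 2 * (m % b) ≤ n % c)
    (h2 : c = 2 * b ∨ (r - 1) / b + 2 * (m / b) ≤ n / b) :
    ∃ m0 j, m0 ≤ w0 ∧ j ≤ w1' ∧ m0 + b * j = m := by
  have hm := Nat.div_add_mod m b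
  have hnc : n % c ≤ a0 := by
    rcases hcb with hc | hc
    · rw [hc, hn, Nat.add_mul_mod_self_left]
      exact Nat.mod_le _ _
    · have h0 := hdual hc
      have e : n = a0 + (2 * b) * w1' := by rw [hn, h0]; ring
      rw [hc, e, Nat.add_mul_mod_self_left]
      exact Nat.mod_le _ _
  have hl : m % b ≤ w0 := by omega
  by_cases hc : m / b ≤ w1'
  · exact ⟨m % b, m / b, hl, hc, by omega⟩
  · push Not at hc
    have hlt : b * w1' ≤ b * (m / b) := Nat.mul_le_mul_left b hc.le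
    have hsub : b * (m / b - w1') = b * (m / b) - b * w1' := Nat.mul_sub b _ _
    refine ⟨m - b * w1', w1', ?_, le_rfl, by omega⟩
    have hkey : 2 * (m - b * w1') ≤ a0 := by
      by_cases hc2 : c = 2 * b
      · have h0 := hdual hc2
        have e : n = a0 + 2 * (b * w1') := by rw [hn, h0]; ring
        omega
      · have hcb' : c = b := by
          rcases hcb with h | h
          · exact h
          · exact absurd h hc2
        have h2' : (r - 1) / b + 2 * (m / b) ≤ n / b := by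
          rcases h2 with h | h
          · exact absurd h hc2
          · exact h
        have hs : α1' ≤ (r - 1) / b := (Nat.le_div_iff_mul_le (by omega)).2 (by rw [mul_comm]; exact hα1)
        have hnb : n / b = a0 / b + (2 * w1' + α1') := by
          rw [hn, Nat.add_mul_div_left _ _ (by omega : 0 < b)]
        have h3 : 2 * (m / b - w1') ≤ a0 / b := by omega
        have h4 : b * (2 * (m / b - w1')) ≤ b * (a0 / b) := Nat.mul_le_mul_left b h3
        have h5 := Nat.div_add_mod a0 b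
        have h6 : n % c = a0 % b := by
          rw [hcb', hn, Nat.add_mul_mod_self_left]
        have h7 : b * (2 * (m / b - w1')) = 2 * (b * (m / b - w1')) := by ring
        omega
    omega

section finite
variable {F : Type*} [Field F] [Fintype F] {p : ℕ} [Fact p.Prime] [CharP F p] {q : ℕ}
  {σ : F ≃+* F} {V : Type*} [AddCommGroup V] [Module F V] [FiniteDimensional F V]
  {H : V → V → F}

/-- a maximal invariant totally singular subspace and its anisotropic complement split the fixed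
space -/
theorem finrank_fixE_split (hσ : orderOf σ = 2) (h : IsHerm σ H)
    (hnd : ∀ v, (∀ w, H v w = 0) → v = 0) (r : ℕ) [Fact r.Prime] (hrp : r ≠ p)
    (T : V →ₗ[F] V) (hT : ∀ u v, H (T u) (T v) = H u v) (hTr : T ^ r = 1)
    {W A : Submodule F V} (hWinv : Inv T W) (hAinv : Inv T A) (hdis : Disjoint W A)
    (hsup : W ⊔ A = orthoCompl h W) :
    finrank F (fixE T) = 2 * finrank F ↥(W ⊓ fixE T) + finrank F ↥(A ⊓ fixE T) := by
  have h1 := finrank_inf_orthoCompl hσ h hnd (nd_fixE h hnd r hrp T hT hTr)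
    (inf_le_right : W ⊓ fixE T ≤ fixE T)
  have h2 : fixE T ⊓ orthoCompl h (W ⊓ fixE T) = fixE T ⊓ orthoCompl h W := by
    apply le_antisymm
    · rintro v ⟨hvf, hvo⟩
      refine ⟨hvf, ?_⟩
      intro w hw
      have hw' : w ∈ (W ⊓ fixE T) ⊔ (W ⊓ movK r T) := by
        rw [inf_fixE_sup_inf_movK r hrp T hTr hWinv]
        exact hw
      obtain ⟨a, ha, b, hb, rfl⟩ := Submodule.mem_sup.1 hw'
      rw [h.add_left, hvo a ha,
        eq_zero_of_symm h (fixE_orth_movK_herm h r hrp T hT hvf hb.2), add_zero]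
    · exact inf_le_inf_left _ (fun v hv w hw => hv w hw.1)
  have h3 : fixE T ⊓ orthoCompl h W = (W ⊓ fixE T) ⊔ (A ⊓ fixE T) := by
    rw [← hsup, inf_comm, sup_inf_fixE T hWinv hAinv hdis]
  have h4 : finrank F ↥((W ⊓ fixE T) ⊔ (A ⊓ fixE T)) =
      finrank F ↥(W ⊓ fixE T) + finrank F ↥(A ⊓ fixE T) :=
    finrank_sup_of_disjoint (hdis.mono inf_le_left inf_le_left)
  rw [h2, h3, h4] at h1
  omega

/-- **ELU**: a semisimple isometry of odd prime order fixes a totally singular `m`-space under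
the arithmetic conditions of S5953 (Chevalley--Warning and the duality bound as hypotheses) -/
theorem fixTS_of_cond_aux (hσ : orderOf σ = 2) (h : IsHerm σ H)
    (hnd : ∀ v, (∀ w, H v w = 0) → v = 0)
    (r : ℕ) [Fact r.Prime] (hrp : r ≠ p) (hr2 : r ≠ 2) (T : V →ₗ[F] V)
    (hT : ∀ u v, H (T u) (T v) = H u v) (hTr : T ^ r = 1) (m : ℕ) (hmn : 2 * m ≤ finrank F V)
    (hCW : ∀ (N : ℕ) (S : Fin N → V →ₗ[F] V) (A : Submodule F V),
      2 * N < finrank F A → ∃ v ∈ A, v ≠ 0 ∧ ∀ j, H (S j v) v = 0)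
    (c : ℕ)
    (hdual : ∀ U : Submodule F V, Inv T U → ND H U → ¬ U ≤ fixE T → c ≤ finrank F U)
    (hcb : c = orderOf ((Fintype.card F : ℕ) : ZMod r) ∨
      c = 2 * orderOf ((Fintype.card F : ℕ) : ZMod r))
    (h1 : 2 * (m % orderOf ((Fintype.card F : ℕ) : ZMod r)) ≤ finrank F V % c)
    (h2 : c = 2 * orderOf ((Fintype.card F : ℕ) : ZMod r) ∨
      (r - 1) / orderOf ((Fintype.card F : ℕ) : ZMod r) +
        2 * (m / orderOf ((Fintype.card F : ℕ) : ZMod r)) ≤
        finrank F V / orderOf ((Fintype.card F : ℕ) : ZMod r)) : FixTS H T m := by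
  have hb := order_pos (F := F) r hrp
  have hrpr : r.Prime := Fact.out
  have hss := isSemisimple_of_pow_eq_one r hrp T hTr
  obtain ⟨W, hWts, hWinv, hWmax⟩ := exists_max_ts h T
  obtain ⟨A, hAle, hAinv, hdis, hsup, hAnd, hAan, hfr⟩ :=
    exists_aniso hσ h hnd T hT hss hWts hWinv hWmax
  have eF := finrank_fixE_split hσ h hnd r hrp T hT hTr hWinv hAinv hdis hsup
  have hα0 := finrank_aniso_fixE_le_one hσ h hnd T hAan
  have eW := finrank_inf_fixE_add r hrp T hTr hWinv
  have eA := finrank_inf_fixE_add r hrp T hTr hAinv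
  have e3 := finrank_fixE_add_movK (T := T) r hrp hTr
  obtain ⟨w1', hw1⟩ : orderOf ((Fintype.card F : ℕ) : ZMod r) ∣ finrank F ↥(W ⊓ movK r T) :=
    dvd_finrank_of_le_movK r hrp T hTr (hWinv.inf (inv_movK r T)) inf_le_right
  obtain ⟨α1', hα1⟩ : orderOf ((Fintype.card F : ℕ) : ZMod r) ∣ finrank F ↥(A ⊓ movK r T) :=
    dvd_finrank_of_le_movK r hrp T hTr (hAinv.inf (inv_movK r T)) inf_le_right
  have hα1le := finrank_aniso_movK_le h r hr2 T hT hTr hCW hAinv hAan
  have hα1zero : c = 2 * orderOf ((Fintype.card F : ℕ) : ZMod r) → α1' = 0 := by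
    intro hc
    have h3 := aniso_movK_eq_bot h hnd r hrp T hT hTr
      (fun U hU1 hU2 hU3 => by rw [← hc]; exact hdual U hU1 hU2 hU3) hAinv hAan
    rw [h3, finrank_bot] at hα1
    rcases Nat.eq_zero_or_pos α1' with h0 | h0
    · exact h0
    · have := Nat.mul_pos (by omega : 0 < orderOf ((Fintype.card F : ℕ) : ZMod r)) h0
      omega
  set b := orderOf ((Fintype.card F : ℕ) : ZMod r) with hbdef
  have hn : finrank F V = finrank F (fixE T) + b * (2 * w1' + α1') := by
    have e : b * (2 * w1' + α1') = 2 * (b * w1') + b * α1' := by ring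
    rw [e, ← hw1, ← hα1]
    omega
  obtain ⟨m0, j, hm0, hj, hmj⟩ := arith_choice_herm b c m (finrank F V) r
    (finrank F ↥(W ⊓ fixE T)) w1' (finrank F ↥(A ⊓ fixE T)) α1' (finrank F (fixE T)) hb hcb eF
    hα0 hn (by rw [← hα1]; exact hα1le) hα1zero hmn h1 h2
  obtain ⟨W', hW'W, hW'inv, hW'fr⟩ := Cfsg.Agent.Lib.Helper1.TISp.exists_inv_sub r hrp T hTr hWinv m0 j hm0
    (by rw [hw1]; exact Nat.mul_le_mul_left _ hj)
  rw [fixTS_iff]
  exact ⟨W', by rw [hW'fr, ← hbdef, hmj], ts_mono hWts hW'W, hW'inv⟩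

end finite

end Cfsg.Agent.Lib.Helper6.TSU
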