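import Mathlib
import Cfsg.Agent.Lib.Helper6.TSU3

set_option autoImplicit false
set_option linter.unusedSectionVars false

/-!
# S5953: isometries `T` with `T ^ r = z`, `X ^ r - z` irreducible (**IRRPOS**)
-/

namespace Cfsg.Agent.Lib.Helper6.TSU

open Module Polynomial Cfsg.Agent.H9SemiInv Cfsg.Agent.Lib.Helper9.H9Elus
  Cfsg.Agent.Lib.Helper1.SpBlk Cfsg.Agent.Lib.Helper9.UPol Cfsg.Agent.Lib.Helper5.PSLCoset
  Cfsg.Agent.Lib.Helper2.HermDecomp Cfsg.Agent.Lib.Helper2.HermFrames

section irr
variable {F : Type*} [Field F] {V : Type*} [AddCommGroup V] [Module F V] [FiniteDimensional F V]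

/-- every nonzero invariant subspace contains an invariant subspace of dimension `r` -/
theorem hmin_irreducible (T : V →ₗ[F] V) (r : ℕ) (z : F) (hTz : T ^ r = z • 1)
    (hirr : Irreducible (X ^ r - C z : F[X])) (W : Submodule F V) (hW : Inv T W) (hne : W ≠ ⊥) :
    ∃ Z : Submodule F V, Z ≤ W ∧ Inv T Z ∧ finrank F Z = r := by
  refine exists_inv_finrank_eq T (X ^ r - C z) hirr.ne_zero r ?_ ⊤ ?_ W le_top hW hne
  · intro g hg hgd
    have h1 : Associated g (X ^ r - C z) := hg.associated_of_dvd hirr hgd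
    rw [natDegree_eq_of_degree_eq (degree_eq_degree_of_associated h1)]
    exact natDegree_X_pow_sub_C
  · intro v _
    rw [map_sub, map_pow, aeval_X, aeval_C, hTz, Module.algebraMap_end_eq_smul_id]
    simp

theorem isSemisimple_of_irreducible (T : V →ₗ[F] V) (r : ℕ) (z : F) (hTz : T ^ r = z • 1)
    (hirr : Irreducible (X ^ r - C z : F[X])) : Module.End.IsSemisimple T := by
  apply Module.End.isSemisimple_of_squarefree_aeval_eq_zero hirr.squarefree
  rw [map_sub, map_pow, aeval_X, aeval_C, hTz, Module.algebraMap_end_eq_smul_id]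
  ext v
  simp

end irr

section finite
variable {F : Type*} [Field F] [Fintype F]
  {σ : F ≃+* F} {V : Type*} [AddCommGroup V] [Module F V] [FiniteDimensional F V]
  {H : V → V → F}

/-- **IRRPOS** (Chevalley--Warning as a hypothesis) -/
theorem fixTS_of_irreducible_aux (hσ : orderOf σ = 2) (h : IsHerm σ H)
    (hnd : ∀ v, (∀ w, H v w = 0) → v = 0) (r : ℕ) (hr : r.Prime) (hr2 : r ≠ 2) (T : V →ₗ[F] V)
    (hT : ∀ u v, H (T u) (T v) = H u v) (z : F) (hTz : T ^ r = z • 1)
    (hirr : Irreducible (X ^ r - C z : F[X]))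
    (hCW : ∀ (N : ℕ) (S : Fin N → V →ₗ[F] V) (A : Submodule F V),
      2 * N < finrank F A → ∃ v ∈ A, v ≠ 0 ∧ ∀ j, H (S j v) v = 0)
    (m : ℕ) (hmn : 2 * m ≤ finrank F V) (hrm : r ∣ m) :
    FixTS H T m := by
  have hr3 : 3 ≤ r := by have := hr.two_le; omega
  have hodd : r % 2 = 1 := by
    rcases hr.eq_two_or_odd with h | h
    · exact absurd h hr2
    · exact h
  have hinj := injective_of_isom h hnd hT
  by_cases hz : z = 0
  · -- degenerate: `V = 0`
    have hV : ∀ v : V, v = 0 := by
      intro v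
      have h1 : (T ^ r) v = 0 := by rw [hTz, hz, zero_smul]; rfl
      have h2 : Function.Injective (T ^ r) := by
        rw [Module.End.coe_pow]
        exact hinj.iterate r
      exact h2 (by rw [h1, map_zero])
    have hfr : finrank F V = 0 := by
      rw [Module.finrank_zero_iff]
      exact ⟨fun a b => by rw [hV a, hV b]⟩
    have hm0 : m = 0 := by omega
    subst hm0
    exact ⟨⊥, finrank_bot F V, fun u hu v _ => by
      rw [(Submodule.mem_bot F).1 hu]; exact h.zero_left v, by simp⟩
  have hσz : σ z ≠ 0 := by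
    intro h0
    exact hz ((map_eq_zero σ).1 h0)
  have hss := isSemisimple_of_irreducible T r z hTz hirr
  have hmin := fun W hW hne => hmin_irreducible T r z hTz hirr W hW hne
  obtain ⟨W, hWts, hWinv, hWmax⟩ := exists_max_ts h T
  obtain ⟨A, hAle, hAinv, hdis, hsup, hAnd, hAan, hfr⟩ :=
    exists_aniso hσ h hnd T hT hss hWts hWinv hWmax
  have hdivW := exists_inv_mul T hss r (by omega) W hWinv (fun Z _ hZinv hZne => hmin Z hZinv hZne)
  have hdivA := (exists_inv_mul T hss r (by omega) A hAinv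
    (fun Z _ hZinv hZne => hmin Z hZinv hZne)).1
  have hAle' : finrank F A ≤ r + 1 := by
    by_contra hcon
    push Not at hcon
    obtain ⟨v, hvA, hv0, hv⟩ := hCW ((r + 1) / 2) (fun j => T ^ (j : ℕ)) A (by omega)
    have hv' : ∀ k, k ≤ (r - 1) / 2 → H ((T ^ k) v) v = 0 := by
      intro k hk
      exact hv ⟨k, by omega⟩
    have hsmall : ∀ k, k < r → H ((T ^ k) v) v = 0 := by
      intro k hk
      by_cases hk2 : k ≤ (r - 1) / 2
      · exact hv' k hk2
      · have h1 : (T ^ k) ((T ^ (r - k)) v) = z • v := by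
          rw [← Module.End.mul_apply, ← pow_add, show k + (r - k) = r by omega, hTz]
          rfl
        have h2 : H ((T ^ k) v) (z • v) = 0 := by
          rw [← h1, isom_pow_herm hT k]
          exact eq_zero_of_symm h (hv' (r - k) (by omega))
        rw [h.smul_right] at h2
        exact (mul_eq_zero.1 h2).resolve_left hσz
    have hpair : ∀ a b, a ≤ b → b < r → H ((T ^ a) v) ((T ^ b) v) = 0 := by
      intro a b hab hb
      have h1 : (T ^ b) v = (T ^ a) ((T ^ (b - a)) v) := by
        rw [← Module.End.mul_apply, ← pow_add, Nat.add_sub_cancel' hab]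
      rw [h1, isom_pow_herm hT a]
      exact eq_zero_of_symm h (hsmall _ (by omega))
    have hZts : TS H (Submodule.span F (Set.range fun k : Fin r => (T ^ (k : ℕ)) v)) := by
      apply span_isotropic h
      intro a b
      rcases le_total (a : ℕ) (b : ℕ) with hab | hab
      · exact hpair _ _ hab b.2
      · exact eq_zero_of_symm h (hpair _ _ hab a.2)
    have hZinv := Cfsg.Agent.Lib.Helper4.EqDec.inv_span_iterates T r (by omega) z hTz v
    have hZA : Submodule.span F (Set.range fun k : Fin r => (T ^ (k : ℕ)) v) ≤ A := by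
      rw [Submodule.span_le]
      rintro _ ⟨k, rfl⟩
      exact Inv.pow' hAinv k v hvA
    have hZ0 := hAan _ hZA hZts hZinv
    have hvZ : v ∈ Submodule.span F (Set.range fun k : Fin r => (T ^ (k : ℕ)) v) := by
      apply Submodule.subset_span
      exact ⟨⟨0, hr.pos⟩, by simp⟩
    rw [hZ0, Submodule.mem_bot] at hvZ
    exact hv0 hvZ
  obtain ⟨a, ha⟩ := hdivA
  obtain ⟨w, hw⟩ := hdivW.1
  obtain ⟨m₁, hm₁⟩ := hrm
  have ha1 : a ≤ 1 := by
    by_contra hcon
    push Not at hcon
    have : r * 2 ≤ r * a := Nat.mul_le_mul_left r hcon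
    omega
  have hmw : m₁ ≤ w := by
    by_contra hcon
    push Not at hcon
    have h1 : r * (w + 1) ≤ r * m₁ := Nat.mul_le_mul_left r hcon
    have h2 : r * (w + 1) = r * w + r := by ring
    have h3 : r * a ≤ r * 1 := Nat.mul_le_mul_left r ha1
    omega
  obtain ⟨W', hW'W, hW'inv, hW'fr⟩ := hdivW.2 m₁ (by rw [hw]; exact Nat.mul_le_mul_left r hmw)
  rw [fixTS_iff]
  exact ⟨W', by rw [hW'fr, hm₁], ts_mono hWts hW'W, hW'inv⟩

end finite

end Cfsg.Agent.Lib.Helper6.TSU
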