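import Mathlib
import Cfsg.Agent.Lib.Helper6.TSU0
import Cfsg.Agent.Lib.Helper1.TISp_CW
import Cfsg.Agent.Lib.Helper2.WittHerm

set_option autoImplicit false
set_option linter.unusedSectionVars false

/-!
# S5953 PK-CWH: Chevalley--Warning for sesquilinear conditions, via the fixed field of `σ`
-/

namespace Cfsg.Agent.Lib.Helper6.TSU

open Module Cfsg.Agent.Lib.Helper5.PSLCoset

section cwh
variable {F : Type*} [Field F] [Fintype F] {σ : F ≃+* F} {V : Type*} [AddCommGroup V]
  [Module F V] [FiniteDimensional F V] {H : V → V → F}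

/-- the fixed field of `σ` -/
def cwhFix (σ : F ≃+* F) : Subfield F where
  carrier := {a | σ a = a}
  mul_mem' := fun {a b} ha hb => by
    show σ (a * b) = a * b
    rw [map_mul, ha, hb]
  one_mem' := map_one σ
  add_mem' := fun {a b} ha hb => by
    show σ (a + b) = a + b
    rw [map_add, ha, hb]
  zero_mem' := map_zero σ
  neg_mem' := fun {a} ha => by
    show σ (-a) = -a
    rw [map_neg, ha]
  inv_mem' := fun a ha => by
    show σ a⁻¹ = a⁻¹
    rw [map_inv₀, ha]

theorem cwh_mem (σ : F ≃+* F) (a : F) : a ∈ cwhFix σ ↔ σ a = a := Iff.rfl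

theorem cwh_exists_moved (hσ : orderOf σ = 2) : ∃ θ : F, σ θ ≠ θ := by
  by_contra hcon
  push Not at hcon
  have h1 : σ = 1 := by
    ext a
    exact hcon a
  rw [h1, orderOf_one] at hσ
  omega

theorem cwh_two_le_finrank (hσ : orderOf σ = 2) : 2 ≤ finrank (cwhFix σ) F := by
  obtain ⟨θ, hθ⟩ := cwh_exists_moved hσ
  have hli : LinearIndependent (cwhFix σ) ![(1 : F), θ] := by
    rw [LinearIndependent.pair_iff]
    intro s t hst
    have h1 : (s : F) * 1 + (t : F) * θ = 0 := hst
    have hs2 : σ (s : F) = s := s.2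
    have ht2 : σ (t : F) = t := t.2
    have h2 : (s : F) * 1 + (t : F) * σ θ = 0 := by
      have := congrArg σ h1
      rw [map_add, map_mul, map_mul, map_one, map_zero, hs2, ht2] at this
      exact this
    have h3 : (t : F) * (θ - σ θ) = 0 := by linear_combination h1 - h2
    have ht : (t : F) = 0 := by
      rcases mul_eq_zero.1 h3 with h | h
      · exact h
      · exact absurd (sub_eq_zero.1 h).symm hθ
    have hs : (s : F) = 0 := by
      rw [ht, zero_mul, add_zero, mul_one] at h1
      exact h1
    exact ⟨Subtype.ext hs, Subtype.ext ht⟩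
  have := hli.fintype_card_le_finrank
  simpa using this

/-- the `F₀`-bilinear form `(u, v) ↦ c H(S u, v) + σ (c H(S u, v))` -/
noncomputable def cwhForm (hσ : orderOf σ = 2) (h : IsHerm σ H) (S : V →ₗ[F] V) (c : F) :
    LinearMap.BilinForm (cwhFix σ) V :=
  LinearMap.mk₂ (cwhFix σ)
    (fun u v => (⟨c * H (S u) v + σ (c * H (S u) v), by
      show σ (c * H (S u) v + σ (c * H (S u) v)) = c * H (S u) v + σ (c * H (S u) v)
      rw [map_add, Cfsg.Agent.Lib.Helper2.WittHerm.sigma_sigma hσ, add_comm]⟩ : cwhFix σ))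
    (fun u u' v => by
      apply Subtype.ext
      show c * H (S (u + u')) v + σ (c * H (S (u + u')) v) =
        (c * H (S u) v + σ (c * H (S u) v)) + (c * H (S u') v + σ (c * H (S u') v))
      rw [map_add, h.add_left, mul_add, map_add]
      ring)
    (fun a u v => by
      apply Subtype.ext
      show c * H (S (a • u)) v + σ (c * H (S (a • u)) v) =
        (a : F) * (c * H (S u) v + σ (c * H (S u) v))
      have e : S (a • u) = (a : F) • S u := by
        show S ((a : F) • u) = (a : F) • S u
        rw [map_smul]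
      have ha : σ (a : F) = a := a.2
      rw [e, h.smul_left]
      simp only [map_mul, ha]
      ring)
    (fun u v v' => by
      apply Subtype.ext
      show c * H (S u) (v + v') + σ (c * H (S u) (v + v')) =
        (c * H (S u) v + σ (c * H (S u) v)) + (c * H (S u) v' + σ (c * H (S u) v'))
      rw [h.add_right, mul_add, map_add]
      ring)
    (fun a u v => by
      apply Subtype.ext
      show c * H (S u) (a • v) + σ (c * H (S u) (a • v)) =
        (a : F) * (c * H (S u) v + σ (c * H (S u) v))
      have e : H (S u) (a • v) = σ (a : F) * H (S u) v := h.smul_right (a : F) (S u) v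
      have ha : σ (a : F) = a := a.2
      rw [e, ha]
      simp only [map_mul, ha]
      ring)

theorem cwhForm_apply (hσ : orderOf σ = 2) (h : IsHerm σ H) (S : V →ₗ[F] V) (c : F) (u v : V) :
    ((cwhForm hσ h S c u v : cwhFix σ) : F) = c * H (S u) v + σ (c * H (S u) v) := rfl

theorem exists_ne_zero_common_zero_herm (hσ : orderOf σ = 2) (h : IsHerm σ H) (N : ℕ)
    (S : Fin N → V →ₗ[F] V) (A : Submodule F V) (hA : 2 * N < finrank F A) :
    ∃ v ∈ A, v ≠ 0 ∧ ∀ j, H (S j v) v = 0 := by
  classical
  obtain ⟨θ, hθ⟩ := cwh_exists_moved hσ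
  haveI : Fintype (cwhFix σ) := Fintype.ofFinite _
  haveI : Module.Finite (cwhFix σ) F := Module.Finite.of_finite
  haveI : FiniteDimensional (cwhFix σ) V := Module.Finite.trans F V
  let Φ : Fin (N * 2) → LinearMap.BilinForm (cwhFix σ) V := fun k =>
    cwhForm hσ h (S (finProdFinEquiv.symm k).1)
      (if (finProdFinEquiv.symm k).2 = 0 then 1 else θ)
  have hfr : 2 * (N * 2) < finrank (cwhFix σ) (A.restrictScalars (cwhFix σ)) := by
    have h1 : finrank (cwhFix σ) (A.restrictScalars (cwhFix σ)) = finrank (cwhFix σ) A :=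
      ((Submodule.restrictScalarsEquiv (cwhFix σ) F V A).restrictScalars (cwhFix σ)).finrank_eq
    have h2 := Module.finrank_mul_finrank (cwhFix σ) F A
    have h3 := cwh_two_le_finrank hσ
    rw [h1, ← h2]
    calc 2 * (N * 2) < 2 * finrank F A := by omega
      _ ≤ finrank (cwhFix σ) F * finrank F A := Nat.mul_le_mul_right _ h3
  obtain ⟨v, hvA, hv0, hv⟩ := Cfsg.Agent.Lib.Helper1.TISp.exists_ne_zero_common_zero (N * 2) Φ
    (A.restrictScalars (cwhFix σ)) hfr
  refine ⟨v, hvA, hv0, ?_⟩
  intro j
  have e1 := hv (finProdFinEquiv (j, 0))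
  have e2 := hv (finProdFinEquiv (j, 1))
  simp only [Φ, Equiv.symm_apply_apply] at e1 e2
  have hne : ¬ ((1 : Fin 2) = 0) := by decide
  simp only [if_true, if_neg hne] at e1 e2
  have e1' := congrArg Subtype.val e1
  have e2' := congrArg Subtype.val e2
  rw [cwhForm_apply] at e1' e2'
  have e1'' : H (S j v) v + σ (H (S j v) v) = 0 := by simpa using e1'
  have e2'' : θ * H (S j v) v + σ θ * σ (H (S j v) v) = 0 := by simpa using e2'
  have e3 : (θ - σ θ) * H (S j v) v = 0 := by linear_combination e2'' - σ θ * e1''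
  rcases mul_eq_zero.1 e3 with h0 | h0
  · exact absurd (sub_eq_zero.1 h0).symm hθ
  · exact h0

end cwh

end Cfsg.Agent.Lib.Helper6.TSU
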