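import Mathlib
import Cfsg.Agent.Lib.Helper6.TSU0
import Cfsg.Agent.Lib.Helper4.NDU_KUM

set_option autoImplicit false
set_option linter.unusedSectionVars false

/-!
# S5953 PK-DETIRR: `T ^ r = z`, `X ^ r - z` irreducible: the determinant (wrapper of Helper4.NDU_KUM)
-/

namespace Cfsg.Agent.Lib.Helper6.TSU

open Module Polynomial Cfsg.Agent.H9SemiInv

section detirr

theorem not_pow_of_irreducible {F : Type*} [Field F] (r : ℕ) (hr : 2 ≤ r) (z : F)
    (hirr : Irreducible (X ^ r - C z : F[X])) : ∀ b : F, b ^ r ≠ z := by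
  intro b hb
  have hroot : (X ^ r - C z : F[X]).IsRoot b := by
    rw [IsRoot.def, eval_sub, eval_pow, eval_X, eval_C, hb, sub_self]
  have h1 := degree_eq_one_of_irreducible_of_root hirr hroot
  rw [degree_X_pow_sub_C (by omega) z] at h1
  have h2 : (r : WithBot ℕ) = ((1 : ℕ) : WithBot ℕ) := h1
  have h3 : r = 1 := by exact_mod_cast h2
  omega

theorem det_of_irreducible {F : Type*} [Field F] [Fintype F] {V : Type*} [AddCommGroup V]
    [Module F V] [FiniteDimensional F V] (T : V →ₗ[F] V) (r : ℕ) (hr : r.Prime) (hr2 : r ≠ 2)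
    (hrF : (r : F) ≠ 0) (z : F) (hTz : T ^ r = z • 1)
    (hirr : Irreducible (X ^ r - C z : F[X])) :
    ∃ k, finrank F V = r * k ∧ LinearMap.det T = z ^ k := by
  have hz := not_pow_of_irreducible r hr.two_le z hirr
  have hdvd : r ∣ finrank F (⊤ : Submodule F V) :=
    Cfsg.Agent.Lib.Helper4.NDU.dvd_finrank_of_kummer T r hr hrF z hz hTz
      (W := ⊤) (fun _ _ => Submodule.mem_top)
  rw [finrank_top] at hdvd
  refine ⟨finrank F V / r, (Nat.mul_div_cancel' hdvd).symm, ?_⟩
  exact Cfsg.Agent.Lib.Helper4.NDU.det_of_kummer T r hr hr2 z hz hTz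

end detirr

end Cfsg.Agent.Lib.Helper6.TSU
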