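import Mathlib
import Cfsg.Prelude.Def_Classical
import Cfsg.Prelude.Def_LieClassical
import Cfsg.Agent.Lib.Helper6.TSU0
import Cfsg.Agent.Lib.Helper9.UPol7
import Cfsg.Agent.Lib.Helper2.HermDecomp

set_option autoImplicit false
set_option linter.unusedSectionVars false

/-!
# S5953 PK-DUAL: an invariant nondegenerate subspace moved by an element of prime order `r`
has dimension at least `ord_r(-q)` (order of `GU_d(q)`)
-/

namespace Cfsg.Agent.Lib.Helper6.TSU

open Module Polynomial Matrix Cfsg.Agent.H9SemiInv Cfsg.Agent.Lib.Helper1.SpBlk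
  Cfsg.Agent.Lib.Helper9.UPol Cfsg.Agent.Lib.Helper5.PSLCoset Cfsg.Agent.Lib.Helper2.HermDecomp

section dual
variable {F : Type*} [Field F] [Fintype F] {q : ℕ} {σ : F ≃+* F} {V : Type*} [AddCommGroup V]
  [Module F V] [FiniteDimensional F V] {H : V → V → F}

/-- an invariant nondegenerate subspace on which `T` (of prime order `r`) acts nontrivially has dimension at
least `c = ord_r(-q)` -/
theorem le_finrank_of_nd (hF : Fintype.card F = q ^ 2) (hσ : orderOf σ = 2) (hσq : ∀ a, σ a = a ^ q)
    (h : IsHerm σ H) (r : ℕ) [Fact r.Prime] (hrq : ¬ r ∣ q) (T : V →ₗ[F] V)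
    (hT : ∀ u v, H (T u) (T v) = H u v) (hTr : T ^ r = 1) {U : Submodule F V} (hUinv : Inv T U)
    (hUnd : ND H U) (hUfix : ¬ U ≤ fixE T) : orderOf (-(q : ZMod r)) ≤ finrank F U := by
  classical
  have hrprime : r.Prime := Fact.out
  obtain ⟨d, hd⟩ : ∃ d, finrank F U = d := ⟨_, rfl⟩
  rw [hd]
  obtain ⟨b, hb⟩ := exists_onb (V := U) (H := fun x y : U => H (x : V) (y : V)) hσ
    (isHerm_restrict h U)
    (by
      intro u hu
      apply Subtype.ext
      apply hUnd u u.2
      intro v hv
      exact hu ⟨v, hv⟩) (k := d) hd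
  have hform : ∀ u v : U, H (u : V) (v : V) =
      Cfsg.hermForm d F q (b.repr u) (b.repr v) := by
    intro u v
    have := form_eq_sum (V := U) (H := fun x y : U => H (x : V) (y : V)) (isHerm_restrict h U) b hb
      u v
    rw [this]
    unfold Cfsg.hermForm
    apply Finset.sum_congr rfl
    intro i _
    rw [hσq]
  -- the restriction
  let T' : U →ₗ[F] U := T.restrict hUinv
  have hT'pow : ∀ k : ℕ, ∀ u : U, (((T' ^ k) u : U) : V) = (T ^ k) (u : V) := by
    intro k
    induction k with
    | zero => intro u; simp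
    | succ k ih =>
      intro u
      rw [pow_succ, pow_succ, Module.End.mul_apply, Module.End.mul_apply, ih]
      rfl
  have hT'r : T' ^ r = 1 := by
    ext u
    rw [hT'pow, hTr]
    rfl
  have hT'1 : T' ≠ 1 := by
    intro h1
    apply hUfix
    intro u hu
    rw [mem_fixE]
    have := congrArg (fun f : U →ₗ[F] U => ((f ⟨u, hu⟩ : U) : V)) h1
    exact this
  -- the matrix
  let E := LinearMap.toMatrixAlgEquiv b
  let M : Matrix (Fin d) (Fin d) F := E T'
  have hMr : M ^ r = 1 := by
    show E T' ^ r = 1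
    rw [← map_pow, hT'r, map_one]
  have hM1 : M ≠ 1 := by
    intro h1
    apply hT'1
    apply E.injective
    rw [map_one]
    exact h1
  have hr1 : r = (r - 1) + 1 := by have := hrprime.one_lt; omega
  let g : GL (Fin d) F :=
    ⟨M, M ^ (r - 1), by rw [← pow_succ', ← hr1, hMr], by rw [← pow_succ, ← hr1, hMr]⟩
  have hgM : ((g : GL (Fin d) F) : Matrix (Fin d) (Fin d) F) = M := rfl
  have hmv : ∀ z : U, M *ᵥ (b.repr z) = b.repr (T' z) := by
    intro z
    show LinearMap.toMatrix b b T' *ᵥ (b.repr z) = b.repr (T' z)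
    rw [LinearMap.toMatrix_mulVec_repr]
  have hgGU : g ∈ Cfsg.GU d F q := by
    intro x y
    show Cfsg.hermForm d F q (M *ᵥ x) (M *ᵥ y) = Cfsg.hermForm d F q x y
    have hx : x = b.repr (b.equivFun.symm x) := (b.equivFun.apply_symm_apply x).symm
    have hy : y = b.repr (b.equivFun.symm y) := (b.equivFun.apply_symm_apply y).symm
    rw [hx, hy, hmv, hmv, ← hform, ← hform]
    exact hT _ _
  have hgr : g ^ r = 1 := by
    apply Units.ext
    rw [Units.val_pow_eq_pow_val, hgM, hMr]
    rfl
  have hg1 : g ≠ 1 := by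
    intro h1
    apply hM1
    rw [← hgM, h1]
    rfl
  let g' : Cfsg.GU d F q := ⟨g, hgGU⟩
  have hg'r : g' ^ r = 1 := Subtype.ext hgr
  have hg'1 : g' ≠ 1 := fun h1 => hg1 (congrArg Subtype.val h1)
  have hord : orderOf g' = r := orderOf_eq_prime hg'r hg'1
  have hdvd : r ∣ Nat.card (Cfsg.GU d F q) := by
    rw [← hord]
    exact orderOf_dvd_natCard g'
  obtain ⟨i, hid, hci⟩ := (dvd_card_GU_iff hF hrq d).1 hdvd
  have := Nat.le_of_dvd (Nat.succ_pos i) hci
  omega

end dual

end Cfsg.Agent.Lib.Helper6.TSU
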