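import Mathlib
import Cfsg.Agent.Lib.Helper6.TSU4
import Cfsg.Prelude.Def_Classical
import Cfsg.Agent.Lib.Helper9.UPol9
import Cfsg.Agent.Lib.Helper2.HermFrames3
import Cfsg.Agent.Lib.Helper1.TISp2
import Cfsg.Agent.Lib.Lead.TSU_ARITH
import Cfsg.Agent.Lib.Lead.TSU_CNT
import Cfsg.Agent.Lib.Helper1.TSU_TR
import Cfsg.Agent.Lib.Helper1.TSU_PROD
import Cfsg.Agent.Lib.Helper6.TSU_DETIRR
import Cfsg.Agent.Lib.Helper6.TSU_CWH
import Cfsg.Agent.Lib.Helper6.TSU_DUAL
import Cfsg.Agent.Lib.Helper9.TSU_R2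
import Cfsg.Agent.Lib.Lead.TSU_RPOW
import Cfsg.Agent.Lib.Helper4.TSU_BLKFPF
import Cfsg.Agent.Lib.Helper1.TSU_BLKCLS

set_option autoImplicit false
set_option linter.unusedSectionVars false
open scoped MatrixGroups

/-!
# S5953: glue between the abstract models and `SU_n(q)`
-/

namespace Cfsg.Agent.Lib.Helper6.TSU

open Module Polynomial Cfsg.Agent.H9SemiInv Cfsg.Agent.Lib.Helper9.H9Elus
  Cfsg.Agent.Lib.Helper1.SpBlk Cfsg.Agent.Lib.Helper9.UPol Cfsg.Agent.Lib.Helper5.PSLCoset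
  Cfsg.Agent.Lib.Helper2.HermDecomp Cfsg.Agent.Lib.Helper2.HermFrames

universe u

section intertwine
variable {F : Type*} [Field F] {W V : Type*} [AddCommGroup W] [Module F W] [AddCommGroup V]
  [Module F V]

theorem pow_intertwine (e : W ≃ₗ[F] V) (TW : W →ₗ[F] W) (S : V →ₗ[F] V)
    (hint : ∀ w, S (e w) = e (TW w)) (k : ℕ) (w : W) : (S ^ k) (e w) = e ((TW ^ k) w) := by
  induction k generalizing w with
  | zero => simp
  | succ k ih => rw [pow_succ, pow_succ, Module.End.mul_apply, Module.End.mul_apply, hint, ih]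

theorem aeval_intertwine (e : W ≃ₗ[F] V) (TW : W →ₗ[F] W) (S : V →ₗ[F] V)
    (hint : ∀ w, S (e w) = e (TW w)) (P : F[X]) (w : W) :
    aeval S P (e w) = e (aeval TW P w) := by
  induction P using Polynomial.induction_on' with
  | add p q hp hq => rw [map_add, map_add, LinearMap.add_apply, LinearMap.add_apply, hp, hq, map_add]
  | monomial n a =>
    rw [aeval_monomial, aeval_monomial, Module.algebraMap_end_eq_smul_id,
      Module.algebraMap_end_eq_smul_id, Module.End.mul_apply, Module.End.mul_apply,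
      LinearMap.smul_apply, LinearMap.smul_apply, LinearMap.id_apply, LinearMap.id_apply,
      pow_intertwine e TW S hint, map_smul]

variable [FiniteDimensional F W] [FiniteDimensional F V]

theorem fixE_eq_map (e : W ≃ₗ[F] V) (TW : W →ₗ[F] W) (S : V →ₗ[F] V)
    (hint : ∀ w, S (e w) = e (TW w)) : fixE S = (fixE TW).map (e : W →ₗ[F] V) := by
  ext v
  rw [mem_fixE, Submodule.mem_map]
  constructor
  · intro hv
    refine ⟨e.symm v, ?_, by simp⟩
    rw [mem_fixE]
    apply e.injective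
    rw [← hint, e.apply_symm_apply, hv]
  · rintro ⟨w, hw, rfl⟩
    rw [mem_fixE] at hw
    show S (e w) = e w
    rw [hint, hw]

theorem finrank_fixE_of_intertwine (e : W ≃ₗ[F] V) (TW : W →ₗ[F] W) (S : V →ₗ[F] V)
    (hint : ∀ w, S (e w) = e (TW w)) : finrank F (fixE S) = finrank F (fixE TW) := by
  rw [fixE_eq_map e TW S hint]
  exact LinearEquiv.finrank_map_eq e (fixE TW)

theorem hmov_of_intertwine (e : W ≃ₗ[F] V) (TW : W →ₗ[F] W) (S : V →ₗ[F] V)
    (hint : ∀ w, S (e w) = e (TW w)) (HW : W → W → F) (HV : V → V → F)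
    (hform : ∀ u v, HV (e u) (e v) = HW u v) (r : ℕ)
    (hmov : ∀ U : Submodule F W, U ≤ movK r TW → Inv TW U → TS HW U → U = ⊥) :
    ∀ U : Submodule F V, U ≤ movK r S → Inv S U → TS HV U → U = ⊥ := by
  intro U hU hUinv hUts
  have h1 : U.comap (e : W →ₗ[F] V) = ⊥ := by
    apply hmov
    · intro w hw
      have h2 : e w ∈ movK r S := hU hw
      unfold movK at h2 ⊢
      rw [LinearMap.mem_ker] at h2 ⊢
      rw [aeval_intertwine e TW S hint] at h2
      exact e.injective (by rw [h2, map_zero])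
    · intro w hw
      show e (TW w) ∈ U
      rw [← hint]
      exact hUinv _ hw
    · intro a ha b hb
      rw [← hform]
      exact hUts _ ha _ hb
  rw [eq_bot_iff]
  intro v hv
  have h3 : e.symm v ∈ U.comap (e : W →ₗ[F] V) := by
    show e (e.symm v) ∈ U
    rw [e.apply_symm_apply]
    exact hv
  rw [h1, Submodule.mem_bot] at h3
  rw [Submodule.mem_bot, ← e.apply_symm_apply v, h3, map_zero]

end intertwine


section su
variable {F : Type u} [Field F] [Fintype F] {p : ℕ} [Fact p.Prime] [CharP F p] {q : ℕ}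
  {σ : F ≃+* F}

theorem su_isom {n : ℕ} (x : Matrix.SpecialLinearGroup (Fin n) F) (hx : x ∈ Cfsg.SU n F q)
    (u v : Fin n → F) :
    Cfsg.hermForm n F q (Matrix.toLin' (x : Matrix (Fin n) (Fin n) F) u)
      (Matrix.toLin' (x : Matrix (Fin n) (Fin n) F) v) = Cfsg.hermForm n F q u v := by
  rw [Matrix.toLin'_apply, Matrix.toLin'_apply]
  exact hx u v

theorem su_toLin_pow {n : ℕ} (x : Matrix.SpecialLinearGroup (Fin n) F) (r : ℕ) :
    (Matrix.toLin' (x : Matrix (Fin n) (Fin n) F)) ^ r =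
      Matrix.toLin' ((x ^ r : Matrix.SpecialLinearGroup (Fin n) F) : Matrix (Fin n) (Fin n) F) := by
  rw [Matrix.SpecialLinearGroup.coe_pow, Matrix.toLin'_pow]

theorem su_toLin_pow_eq_one {n : ℕ} (x : Matrix.SpecialLinearGroup (Fin n) F) (r : ℕ)
    (hxr : x ^ r = 1) : (Matrix.toLin' (x : Matrix (Fin n) (Fin n) F)) ^ r = 1 := by
  rw [su_toLin_pow, hxr, Matrix.SpecialLinearGroup.coe_one, Matrix.toLin'_one]
  rfl

theorem exists_su_of_hModel0 (hF : Fintype.card F = q ^ 2) (hσ : orderOf σ = 2)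
    (hσq : ∀ a, σ a = a ^ q) (r : ℕ) [Fact r.Prime] (hrq1 : ¬ r ∣ q + 1) {n k : ℕ}
    (hM : HModel0 F σ r n k) :
    ∃ x : Matrix.SpecialLinearGroup (Fin n) F, x ∈ Cfsg.SU n F q ∧ x ^ r = 1 ∧
      finrank F (fixE (Matrix.toLin' (x : Matrix (Fin n) (Fin n) F))) = k := by
  obtain ⟨W, _, _, _, HW, TW, hHW, hndW, hdim, hTW, hTWr, hfix⟩ := hM
  obtain ⟨x, e, hx, hxr, hform, hint⟩ :=
    exists_su_of_model hF hσ hσq HW hHW hndW n hdim TW hTW r hTWr hrq1
  exact ⟨x, hx, hxr, by rw [finrank_fixE_of_intertwine e TW _ hint, hfix]⟩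

theorem exists_su_of_hModel (hF : Fintype.card F = q ^ 2) (hσ : orderOf σ = 2)
    (hσq : ∀ a, σ a = a ^ q) (r : ℕ) [Fact r.Prime] (hrq1 : ¬ r ∣ q + 1) {n k : ℕ} {P : F[X]}
    (hM : HModel F σ r n k P) :
    ∃ x : Matrix.SpecialLinearGroup (Fin n) F, x ∈ Cfsg.SU n F q ∧ x ^ r = 1 ∧
      finrank F (fixE (Matrix.toLin' (x : Matrix (Fin n) (Fin n) F))) = k ∧
      ∀ U : Submodule F (Fin n → F), U ≤ movK r (Matrix.toLin' (x : Matrix (Fin n) (Fin n) F)) →
        Inv (Matrix.toLin' (x : Matrix (Fin n) (Fin n) F)) U → TS (Cfsg.hermForm n F q) U →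
        U = ⊥ := by
  obtain ⟨W, _, _, _, HW, TW, hHW, hndW, hdim, hTW, hTWr, hfix, -, hmov⟩ := hM
  obtain ⟨x, e, hx, hxr, hform, hint⟩ :=
    exists_su_of_model hF hσ hσq HW hHW hndW n hdim TW hTW r hTWr hrq1
  exact ⟨x, hx, hxr, by rw [finrank_fixE_of_intertwine e TW _ hint, hfix],
    hmov_of_intertwine e TW _ hint HW _ hform r hmov⟩

theorem hModel0_pow (hσ : orderOf σ = 2) (r : ℕ) {a : ℕ} (h : HModel0 F σ r a 0) (t : ℕ) :
    HModel0 F σ r (a * t) 0 := by
  induction t with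
  | zero => simpa using hModel0_triv (F := F) hσ r 0
  | succ t ih =>
    have := hModel0_prod ih h
    rwa [Nat.mul_succ]

theorem hModel0_fpf (hF : Fintype.card F = q ^ 2) (hσ : orderOf σ = 2) (hσq : ∀ a, σ a = a ^ q)
    (r : ℕ) [Fact r.Prime] (hrq : ¬ r ∣ q) (n : ℕ) :
    HModel0 F σ r n (n % orderOf (-(q : ZMod r))) := by
  have h1 := hModel0_pow hσ r (hModel0_block hF hσ hσq r hrq) (n / orderOf (-(q : ZMod r)))
  have h2 := hModel0_prod h1 (hModel0_triv (F := F) hσ r (n % orderOf (-(q : ZMod r))))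
  rwa [Nat.div_add_mod, zero_add] at h2

theorem hModel_chain (hσ : orderOf σ = 2) (r : ℕ) [Fact r.Prime] (hrF : (r : F) ≠ 0) {b s : ℕ}
    (g : Fin s → F[X]) (hcop : ∀ l l', l ≠ l' → IsCoprime (g l) (g l'))
    (hblk : ∀ l, HModel F σ r b 0 (g l)) (k t : ℕ) (ht : t ≤ s) :
    ∃ P : F[X], HModel F σ r (k + b * t) k P := by
  suffices hsuff : ∀ t (ht : t ≤ s), HModel F σ r (k + b * t) k
      (∏ l : Fin t, g (Fin.castLE ht l)) from ⟨_, hsuff t ht⟩
  intro t
  induction t with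
  | zero =>
    intro _
    simpa using hModel_triv (F := F) hσ r hrF k
  | succ t ih =>
    intro ht
    have hc : IsCoprime (∏ l : Fin t, g (Fin.castLE (Nat.le_of_succ_le ht) l))
        (g (Fin.castLE ht (Fin.last t))) := by
      apply IsCoprime.prod_left
      intro l _
      apply hcop
      intro heq
      have := congrArg Fin.val heq
      simp at this
      exact absurd this (Nat.ne_of_lt l.2)
    have h1 := hModel_prod hc (ih (Nat.le_of_succ_le ht)) (hblk (Fin.castLE ht (Fin.last t)))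
    have e1 : k + b * t + b = k + b * (t + 1) := by ring
    rw [e1, add_zero] at h1
    rw [Fin.prod_univ_castSucc]
    exact h1

end su

end Cfsg.Agent.Lib.Helper6.TSU
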