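import Mathlib
import Cfsg.Agent.Lib.Helper6.TSU5

set_option autoImplicit false
set_option linter.unusedSectionVars false
open scoped MatrixGroups

/-!
# S5953: the positive directions in `SU_n(q)` for odd `r`, scalars
-/

namespace Cfsg.Agent.Lib.Helper6.TSU

open Module Polynomial Cfsg.Agent.H9SemiInv Cfsg.Agent.Lib.Helper9.H9Elus
  Cfsg.Agent.Lib.Helper1.SpBlk Cfsg.Agent.Lib.Helper9.UPol Cfsg.Agent.Lib.Helper5.PSLCoset
  Cfsg.Agent.Lib.Helper2.HermDecomp Cfsg.Agent.Lib.Helper2.HermFrames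

universe u

section su
variable {F : Type u} [Field F] [Fintype F] {p : ℕ} [Fact p.Prime] [CharP F p] {q : ℕ}

theorem not_dvd_q (hF : Fintype.card F = q ^ 2) (r : ℕ) [Fact r.Prime] (hrp : r ≠ p) :
    ¬ r ∣ q := by
  intro h
  have hr : r.Prime := Fact.out
  have hp : p.Prime := Fact.out
  obtain ⟨k, -, hk⟩ := FiniteField.card F p
  have h1 : r ∣ (p : ℕ) ^ (k : ℕ) := by
    rw [← hk, hF]
    exact Dvd.dvd.pow h (by norm_num)
  exact hrp ((Nat.prime_dvd_prime_iff_eq hr hp).1 (hr.dvd_of_dvd_pow h1))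

theorem herm_single_self {n : ℕ} (j : Fin n) :
    Cfsg.hermForm n F q (Pi.single j 1) (Pi.single j 1) = 1 := by
  unfold Cfsg.hermForm
  rw [Finset.sum_eq_single j]
  · simp
  · intro i _ hij
    rw [Pi.single_apply, if_neg hij, zero_mul]
  · intro h
    exact absurd (Finset.mem_univ j) h

theorem q_ne_zero (hF : Fintype.card F = q ^ 2) : q ≠ 0 := by
  rintro rfl
  have : 0 < Fintype.card F := Fintype.card_pos
  rw [hF] at this
  simp at this

/-- the scalar `z` with `x ^ r = z` has norm one -/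
theorem norm_one_of_pow_eq_smul (hF : Fintype.card F = q ^ 2) {n : ℕ} (hn : 0 < n)
    (x : Matrix.SpecialLinearGroup (Fin n) F) (hx : x ∈ Cfsg.SU n F q) (r : ℕ) (z : F)
    (hxz : ((x ^ r : Matrix.SpecialLinearGroup (Fin n) F) : Matrix (Fin n) (Fin n) F) =
      z • (1 : Matrix (Fin n) (Fin n) F)) : z * z ^ q = 1 := by
  obtain ⟨σ, hσ, hσq, h, hnd⟩ := exists_data hF n
  have h1 := su_isom (x ^ r) ((Cfsg.SU n F q).pow_mem hx r) (Pi.single ⟨0, hn⟩ 1)
    (Pi.single ⟨0, hn⟩ 1)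
  rw [hxz, map_smul, Matrix.toLin'_one, LinearMap.smul_apply, LinearMap.id_apply,
    h.smul_left, h.smul_right, herm_single_self, hσq] at h1
  simpa using h1

theorem nonscalar_of_finrank_fixE_lt (hF : Fintype.card F = q ^ 2) {n : ℕ}
    (x : Matrix.SpecialLinearGroup (Fin n) F) (hx : x ∈ Cfsg.SU n F q) (r : ℕ) [Fact r.Prime]
    (hxr : x ^ r = 1) (hrq1 : ¬ r ∣ q + 1)
    (hlt : finrank F (fixE (Matrix.toLin' (x : Matrix (Fin n) (Fin n) F))) < n) :
    ∀ z : F, (x : Matrix (Fin n) (Fin n) F) ≠ z • (1 : Matrix (Fin n) (Fin n) F) := by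
  intro z hz
  have hr : r.Prime := Fact.out
  have hn : 0 < n := by omega
  have hz1 : z * z ^ q = 1 := by
    apply norm_one_of_pow_eq_smul hF hn x hx 1 z
    rw [pow_one]
    exact hz
  have hzr : z ^ r = 1 := by
    have h1 : ((x ^ r : Matrix.SpecialLinearGroup (Fin n) F) : Matrix (Fin n) (Fin n) F) = 1 := by
      rw [hxr]; rfl
    rw [Matrix.SpecialLinearGroup.coe_pow, hz, _root_.smul_pow, one_pow] at h1
    have h2 := congrFun (congrFun h1 ⟨0, hn⟩) ⟨0, hn⟩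
    simpa using h2
  have hzq : z ^ (q + 1) = 1 := by rw [pow_succ']; exact hz1
  have ho1 : orderOf z ∣ r := orderOf_dvd_of_pow_eq_one hzr
  have ho2 : orderOf z ∣ q + 1 := orderOf_dvd_of_pow_eq_one hzq
  have ho : orderOf z = 1 := by
    rcases (Nat.dvd_prime hr).1 ho1 with h | h
    · exact h
    · rw [h] at ho2
      exact absurd ho2 hrq1
  have hz1' : z = 1 := orderOf_eq_one_iff.1 ho
  have hfix : fixE (Matrix.toLin' (x : Matrix (Fin n) (Fin n) F)) = ⊤ := by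
    rw [eq_top_iff]
    intro v _
    rw [mem_fixE, hz, hz1', one_smul, Matrix.toLin'_one]
    rfl
  rw [hfix, finrank_top, Module.finrank_fin_fun] at hlt
  omega

/-- **ELU** in `SU_n(q)` -/
theorem fixTS_of_cond_su (hF : Fintype.card F = q ^ 2) (n m : ℕ) (hmn : 2 * m ≤ n) (r : ℕ)
    [Fact r.Prime] (hrp : r ≠ p) (hr2 : r ≠ 2) (x : Matrix.SpecialLinearGroup (Fin n) F)
    (hx : x ∈ Cfsg.SU n F q) (z : F)
    (hxz : ((x ^ r : Matrix.SpecialLinearGroup (Fin n) F) : Matrix (Fin n) (Fin n) F) =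
      z • (1 : Matrix (Fin n) (Fin n) F)) (w : F) (hw : w * w ^ q = 1) (hwz : w ^ r = z)
    (hcb : orderOf (-(q : ZMod r)) = orderOf ((Fintype.card F : ℕ) : ZMod r) ∨
      orderOf (-(q : ZMod r)) = 2 * orderOf ((Fintype.card F : ℕ) : ZMod r))
    (h1 : 2 * (m % orderOf ((Fintype.card F : ℕ) : ZMod r)) ≤ n % orderOf (-(q : ZMod r)))
    (h2 : orderOf (-(q : ZMod r)) = 2 * orderOf ((Fintype.card F : ℕ) : ZMod r) ∨
      (r - 1) / orderOf ((Fintype.card F : ℕ) : ZMod r) +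
        2 * (m / orderOf ((Fintype.card F : ℕ) : ZMod r)) ≤
        n / orderOf ((Fintype.card F : ℕ) : ZMod r)) :
    FixTS (Cfsg.hermForm n F q) (Matrix.toLin' (x : Matrix (Fin n) (Fin n) F)) m := by
  obtain ⟨σ, hσ, hσq, h, hnd⟩ := exists_data hF n
  have hrq := not_dvd_q hF r hrp
  have hw0 : w ≠ 0 := by
    rintro rfl
    rw [zero_mul] at hw
    exact zero_ne_one hw
  set T := Matrix.toLin' (x : Matrix (Fin n) (Fin n) F) with hTdef
  have hT' : ∀ u v, Cfsg.hermForm n F q ((w⁻¹ • T) u) ((w⁻¹ • T) v) = Cfsg.hermForm n F q u v := by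
    intro u v
    rw [LinearMap.smul_apply, LinearMap.smul_apply, h.smul_left, h.smul_right, hσq,
      su_isom x hx, ← mul_assoc, inv_pow, ← mul_inv, hw, inv_one, one_mul]
  have hTr : T ^ r = z • 1 := by
    rw [hTdef, su_toLin_pow, hxz, map_smul, Matrix.toLin'_one]
    rfl
  have hT'r : (w⁻¹ • T) ^ r = 1 := by
    rw [_root_.smul_pow, hTr, smul_smul, inv_pow, hwz, inv_mul_cancel₀, one_smul]
    rw [← hwz]
    exact pow_ne_zero r hw0
  have hfr : finrank F (Fin n → F) = n := Module.finrank_fin_fun F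
  have hfix := fixTS_of_cond_aux hσ h hnd r hrp hr2 (w⁻¹ • T) hT' hT'r m (by rw [hfr]; exact hmn)
    (fun N S A hA => exists_ne_zero_common_zero_herm hσ h N S A hA)
    (orderOf (-(q : ZMod r)))
    (fun U hU hUnd hUfix => le_finrank_of_nd hF hσ hσq h r hrq (w⁻¹ • T) hT' hT'r hU hUnd hUfix)
    hcb (by rw [hfr]; exact h1) (by rw [hfr]; exact h2)
  obtain ⟨W, hWm, hWts, hWinv⟩ := hfix
  refine ⟨W, hWm, hWts, ?_⟩
  rintro _ ⟨v, hv, rfl⟩
  have h3 : (w⁻¹ • T) v ∈ W := hWinv ⟨v, hv, rfl⟩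
  have h4 : T v = w • (w⁻¹ • T) v := by
    rw [LinearMap.smul_apply, smul_smul, mul_inv_cancel₀ hw0, one_smul]
  rw [h4]
  exact W.smul_mem w h3

/-- **IRRPOS** in `SU_n(q)` -/
theorem fixTS_of_irr_su (hF : Fintype.card F = q ^ 2) (n m : ℕ) (hmn : 2 * m ≤ n) (r : ℕ)
    [Fact r.Prime] (hr2 : r ≠ 2) (x : Matrix.SpecialLinearGroup (Fin n) F)
    (hx : x ∈ Cfsg.SU n F q) (z : F)
    (hxz : ((x ^ r : Matrix.SpecialLinearGroup (Fin n) F) : Matrix (Fin n) (Fin n) F) =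
      z • (1 : Matrix (Fin n) (Fin n) F)) (hirr : Irreducible (X ^ r - C z : F[X]))
    (hrm : r ∣ m) :
    FixTS (Cfsg.hermForm n F q) (Matrix.toLin' (x : Matrix (Fin n) (Fin n) F)) m := by
  obtain ⟨σ, hσ, hσq, h, hnd⟩ := exists_data hF n
  have hTr : (Matrix.toLin' (x : Matrix (Fin n) (Fin n) F)) ^ r = z • 1 := by
    rw [su_toLin_pow, hxz, map_smul, Matrix.toLin'_one]
    rfl
  have hfr : finrank F (Fin n → F) = n := Module.finrank_fin_fun F
  exact fixTS_of_irreducible_aux hσ h hnd r Fact.out hr2 _ (su_isom x hx) z hTr hirr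
    (fun N S A hA => exists_ne_zero_common_zero_herm hσ h N S A hA) m (by rw [hfr]; exact hmn) hrm

end su

end Cfsg.Agent.Lib.Helper6.TSU
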