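import Mathlib
import Cfsg.Agent.Lib.Helper6.TSU6

set_option autoImplicit false
set_option linter.unusedSectionVars false
open scoped MatrixGroups

/-!
# S5953: necessity of the conditions (odd `r`), and the positive direction, in terms of
`b = ord_r(q²)` and `c = ord_r(-q)`
-/

namespace Cfsg.Agent.Lib.Helper6.TSU

open Module Polynomial Cfsg.Agent.H9SemiInv Cfsg.Agent.Lib.Helper9.H9Elus
  Cfsg.Agent.Lib.Helper1.SpBlk Cfsg.Agent.Lib.Helper9.UPol Cfsg.Agent.Lib.Helper5.PSLCoset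
  Cfsg.Agent.Lib.Helper2.HermDecomp Cfsg.Agent.Lib.Helper2.HermFrames

universe u

theorem cOf_cases (i : ℕ) :
    (i % 4 = 2 ∧ cOf i = bOf i) ∨ (i % 4 ≠ 2 ∧ cOf i = 2 * bOf i) := by
  unfold cOf bOf
  by_cases h0 : i % 4 = 0
  · right
    have he : Even i := Nat.even_iff.2 (by omega)
    rw [if_pos h0, if_pos he]
    omega
  · by_cases h2 : i % 4 = 2
    · left
      have he : Even i := Nat.even_iff.2 (by omega)
      rw [if_neg h0, if_pos h2, if_pos he]
      exact ⟨h2, rfl⟩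
    · right
      have he : ¬ Even i := by rw [Nat.even_iff]; omega
      rw [if_neg h0, if_neg h2, if_neg he]
      exact ⟨h2, rfl⟩

theorem orderOf_neg_pos (q r : ℕ) [Fact r.Prime] (hrq : ¬ r ∣ q) :
    0 < orderOf (-(q : ZMod r)) := by
  have hx : (-(q : ZMod r)) ≠ 0 :=
    neg_ne_zero.2 (fun h => hrq ((ZMod.natCast_eq_zero_iff _ _).1 h))
  have h1 : orderOf ((Units.mk0 _ hx : (ZMod r)ˣ) : ZMod r) = orderOf (Units.mk0 _ hx) :=
    orderOf_units
  rw [Units.val_mk0] at h1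
  rw [h1]
  exact orderOf_pos _

section su
variable {F : Type u} [Field F] [Fintype F] {p : ℕ} [Fact p.Prime] [CharP F p] {q : ℕ}

theorem odd_q (hF : Fintype.card F = q ^ 2) (hp2 : p ≠ 2) : Odd q := by
  have hp : p.Prime := Fact.out
  obtain ⟨k, -, hk⟩ := FiniteField.card F p
  have h1 : Odd (q ^ 2) := by
    rw [← hF, hk]
    exact (hp.odd_of_ne_two hp2).pow
  rcases Nat.even_or_odd q with he | ho
  · exact absurd (he.pow_of_ne_zero (by norm_num : (2 : ℕ) ≠ 0)) (Nat.not_even_iff_odd.2 h1)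
  · exact ho

/-- the hypothesis of the frozen statement: all elements of order `r` modulo scalars fix a
totally singular `m`-space -/
def AllFix (n : ℕ) (F : Type u) [Field F] (q m r : ℕ) : Prop :=
  ∀ x : Matrix.SpecialLinearGroup (Fin n) F, x ∈ Cfsg.SU n F q →
    (∃ z : F, ((x ^ r : Matrix.SpecialLinearGroup (Fin n) F) : Matrix (Fin n) (Fin n) F) =
      z • (1 : Matrix (Fin n) (Fin n) F)) →
    (∀ z : F, (x : Matrix (Fin n) (Fin n) F) ≠ z • (1 : Matrix (Fin n) (Fin n) F)) →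
    FixTS (Cfsg.hermForm n F q) (Matrix.toLin' (x : Matrix (Fin n) (Fin n) F)) m

theorem one_smul_pow {n : ℕ} (x : Matrix.SpecialLinearGroup (Fin n) F) (r : ℕ) (hxr : x ^ r = 1) :
    ∃ z : F, ((x ^ r : Matrix.SpecialLinearGroup (Fin n) F) : Matrix (Fin n) (Fin n) F) =
      z • (1 : Matrix (Fin n) (Fin n) F) := ⟨1, by rw [hxr, one_smul]; rfl⟩

/-- necessity of `b ≤ m` and `2 (m mod b) ≤ n mod c` -/
theorem nec_A (hF : Fintype.card F = q ^ 2) (n m : ℕ) (r : ℕ) [Fact r.Prime] (hrp : r ≠ p)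
    (hrq1 : ¬ r ∣ q + 1)
    (hcn : orderOf (-(q : ZMod r)) ≤ n) (hk2m : n % orderOf (-(q : ZMod r)) < 2 * m)
    (hcb : orderOf (-(q : ZMod r)) ≤ 2 * orderOf ((Fintype.card F : ℕ) : ZMod r))
    (Hall : AllFix n F q m r) :
    orderOf ((Fintype.card F : ℕ) : ZMod r) ≤ m ∧
      2 * (m % orderOf ((Fintype.card F : ℕ) : ZMod r)) ≤ n % orderOf (-(q : ZMod r)) := by
  obtain ⟨σ, hσ, hσq, h, hnd⟩ := exists_data hF n
  have hrq := not_dvd_q hF r hrp
  have hM := hModel0_fpf hF hσ hσq r hrq n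
  obtain ⟨x, hx, hxr, hfix⟩ := exists_su_of_hModel0 hF hσ hσq r hrq1 hM
  have hcpos : 0 < orderOf (-(q : ZMod r)) := orderOf_neg_pos q r hrq
  have hlt : n % orderOf (-(q : ZMod r)) < orderOf (-(q : ZMod r)) := Nat.mod_lt _ hcpos
  have hns := nonscalar_of_finrank_fixE_lt hF x hx r hxr hrq1 (by rw [hfix]; omega)
  have hfx := Hall x hx (one_smul_pow x r hxr) hns
  have h3 := cond_of_fixTS hσ h hnd r hrp _ (su_isom x hx) (su_toLin_pow_eq_one x r hxr) m
    (by rw [hfix]; exact hk2m) (by rw [hfix]; omega) hfx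
  rw [hfix] at h3
  exact h3

/-- necessity of `(r - 1) / b + 2 (m / b) ≤ n / b` in the self-dual case, `r ∤ q + 1` -/
theorem nec_B (hF : Fintype.card F = q ^ 2) (n m : ℕ) (r : ℕ) [Fact r.Prime] (hrp : r ≠ p)
    (hr2 : r ≠ 2) (hrq1 : ¬ r ∣ q + 1)
    (hself : orderOf (-(q : ZMod r)) = orderOf ((Fintype.card F : ℕ) : ZMod r))
    (hbn : orderOf ((Fintype.card F : ℕ) : ZMod r) ≤ n)
    (hbm : orderOf ((Fintype.card F : ℕ) : ZMod r) ≤ m)
    (Hall : AllFix n F q m r) :
    (r - 1) / orderOf ((Fintype.card F : ℕ) : ZMod r) +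
      2 * (m / orderOf ((Fintype.card F : ℕ) : ZMod r)) ≤
      n / orderOf ((Fintype.card F : ℕ) : ZMod r) := by
  obtain ⟨σ, hσ, hσq, h, hnd⟩ := exists_data hF n
  have hrq := not_dvd_q hF r hrp
  have hrpr : r.Prime := Fact.out
  have hb := order_pos (F := F) r hrp
  have hrF : ((r : ℕ) : F) ≠ 0 := cast_ne_zero_of_ne r hrp
  set b := orderOf ((Fintype.card F : ℕ) : ZMod r) with hbdef
  obtain ⟨g, hcop, hblk⟩ := exists_classes_herm hF hσ hσq r hrq hr2 hself
  have hbr : b ∣ r - 1 := by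
    have h := ZMod.orderOf_dvd_card_sub_one (p := r) (a := ((Fintype.card F : ℕ) : ZMod r)) ?_
    · exact h
    · intro h0
      have h3 := orderOf_eq_zero_iff.2
        (fun hfin : IsOfFinOrder ((Fintype.card F : ℕ) : ZMod r) => by
          obtain ⟨n, hn, hn1⟩ := hfin.exists_pow_eq_one
          rw [h0, zero_pow hn.ne'] at hn1
          exact zero_ne_one hn1)
      omega
  have hs1 : 1 ≤ (r - 1) / b := by
    rw [Nat.one_le_div_iff (by omega)]
    exact Nat.le_of_dvd (by have := hrpr.two_le; omega) hbr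
  have hn1 : 1 ≤ n / b := by
    rw [Nat.one_le_div_iff (by omega)]
    exact hbn
  by_contra hcon
  push Not at hcon
  set t := min ((r - 1) / b) (n / b) with htdef
  have ht1 : 1 ≤ t := le_min hs1 hn1
  have hts : t ≤ (r - 1) / b := min_le_left _ _
  have htn : t ≤ n / b := min_le_right _ _
  have hbt : b * t ≤ n := by
    calc b * t ≤ b * (n / b) := Nat.mul_le_mul_left b htn
      _ ≤ n := Nat.mul_div_le n b
  obtain ⟨P, hM⟩ := hModel_chain hσ r hrF g hcop hblk (n - b * t) t hts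
  rw [Nat.sub_add_cancel hbt] at hM
  obtain ⟨x, hx, hxr, hfix, hmov⟩ := exists_su_of_hModel hF hσ hσq r hrq1 hM
  have hbt1 : b ≤ b * t := Nat.le_mul_of_pos_right b (by omega)
  have hns := nonscalar_of_finrank_fixE_lt hF x hx r hxr hrq1 (by rw [hfix]; omega)
  have hfx := Hall x hx (one_smul_pow x r hxr) hns
  have h3 := two_mul_le_of_fixTS hσ h hnd r hrp _ (su_isom x hx) (su_toLin_pow_eq_one x r hxr) m
    hmov hfx
  rw [hfix] at h3
  rcases le_total ((r - 1) / b) (n / b) with hle | hle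
  · have ht : t = (r - 1) / b := min_eq_left hle
    have h4 : b * (m / b) ≤ m := Nat.mul_div_le m b
    have h5 : b * ((r - 1) / b + 2 * (m / b)) ≤ n := by
      have e : b * ((r - 1) / b + 2 * (m / b)) = b * t + 2 * (b * (m / b)) := by rw [ht]; ring
      omega
    have h6 : (r - 1) / b + 2 * (m / b) ≤ n / b := by
      rw [Nat.le_div_iff_mul_le (by omega), mul_comm]
      exact h5
    omega
  · have ht : t = n / b := min_eq_right hle
    have h4 := Nat.div_add_mod n b
    have h5 := Nat.mod_lt n (show 0 < b by omega)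
    rw [ht] at h3
    omega

end su

end Cfsg.Agent.Lib.Helper6.TSU
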