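import Mathlib
import Cfsg.Agent.Lib.Helper6.TSU7
import Cfsg.Agent.Lib.Helper1.TSU_MDIAG
import Cfsg.Agent.Lib.Helper4.TSU_MIRR

set_option autoImplicit false
set_option linter.unusedSectionVars false
open scoped MatrixGroups

/-!
# S5953: the case `r ∣ q + 1`, and the positive direction for odd `r`
-/

namespace Cfsg.Agent.Lib.Helper6.TSU

open Module Polynomial Cfsg.Agent.H9SemiInv Cfsg.Agent.Lib.Helper9.H9Elus
  Cfsg.Agent.Lib.Helper1.SpBlk Cfsg.Agent.Lib.Helper9.UPol Cfsg.Agent.Lib.Helper5.PSLCoset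
  Cfsg.Agent.Lib.Helper2.HermDecomp Cfsg.Agent.Lib.Helper2.HermFrames

universe u

section su
variable {F : Type u} [Field F] [Fintype F] {p : ℕ} [Fact p.Prime] [CharP F p] {q : ℕ}

/-- necessity of `(r - 1) + 2 m ≤ n` when `r ∣ q + 1` -/
theorem nec_B_diag (hF : Fintype.card F = q ^ 2) (n m : ℕ) (hn : 3 ≤ n) (hm : 1 ≤ m) (r : ℕ)
    [Fact r.Prime] (hrp : r ≠ p) (hr2 : r ≠ 2) (hrq1 : r ∣ q + 1) (Hall : AllFix n F q m r) :
    (r - 1) + 2 * m ≤ n := by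
  obtain ⟨σ, hσ, hσq, h, hnd⟩ := exists_data hF n
  obtain ⟨x, hx, hxr, hns, hfixcase, hmov⟩ := exists_su_diag hF n r hr2 hrq1 hn
  have hfx := Hall x hx (one_smul_pow x r hxr) hns
  have h3 := two_mul_le_of_fixTS hσ h hnd r hrp _ (su_isom x hx) (su_toLin_pow_eq_one x r hxr) m
    hmov hfx
  rcases hfixcase with h4 | h4
  · omega
  · omega

/-- necessity of `r ∣ m ∨ (n)_r ≤ (q+1)_r` when `r ∣ q + 1` -/
theorem nec_C (hF : Fintype.card F = q ^ 2) (n m : ℕ) (hn : 0 < n) (r : ℕ)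
    [Fact r.Prime] (hr2 : r ≠ 2) (hrq1 : r ∣ q + 1) (Hall : AllFix n F q m r) :
    r ∣ m ∨ padicValNat r n ≤ padicValNat r (q + 1) := by
  by_contra hcon
  push Not at hcon
  obtain ⟨hrm, hv⟩ := hcon
  obtain ⟨x, hx, hxz, hns, hdiv⟩ := exists_su_irr hF n r hr2 hrq1 hn hv
  obtain ⟨W, hWm, -, hWinv⟩ := Hall x hx hxz hns
  exact hrm (hWm ▸ hdiv W hWinv)

/-- the positive direction for odd `r ≠ p` -/
theorem pos_odd (hF : Fintype.card F = q ^ 2) (n m : ℕ) (hn : 0 < n) (hmn : 2 * m ≤ n) (r : ℕ)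
    [Fact r.Prime] (hrp : r ≠ p) (hr2 : r ≠ 2)
    (hcb : orderOf (-(q : ZMod r)) = orderOf ((Fintype.card F : ℕ) : ZMod r) ∨
      orderOf (-(q : ZMod r)) = 2 * orderOf ((Fintype.card F : ℕ) : ZMod r))
    (h1 : 2 * (m % orderOf ((Fintype.card F : ℕ) : ZMod r)) ≤ n % orderOf (-(q : ZMod r)))
    (h2 : orderOf (-(q : ZMod r)) = 2 * orderOf ((Fintype.card F : ℕ) : ZMod r) ∨
      (r - 1) / orderOf ((Fintype.card F : ℕ) : ZMod r) +
        2 * (m / orderOf ((Fintype.card F : ℕ) : ZMod r)) ≤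
        n / orderOf ((Fintype.card F : ℕ) : ZMod r))
    (h3 : r ∣ q + 1 → r ∣ m ∨ padicValNat r n ≤ padicValNat r (q + 1))
    (x : Matrix.SpecialLinearGroup (Fin n) F) (hx : x ∈ Cfsg.SU n F q) (z : F)
    (hxz : ((x ^ r : Matrix.SpecialLinearGroup (Fin n) F) : Matrix (Fin n) (Fin n) F) =
      z • (1 : Matrix (Fin n) (Fin n) F)) :
    FixTS (Cfsg.hermForm n F q) (Matrix.toLin' (x : Matrix (Fin n) (Fin n) F)) m := by
  have hrpr : r.Prime := Fact.out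
  have hz1 := norm_one_of_pow_eq_smul hF hn x hx r z hxz
  by_cases hw : ∃ w : F, w * w ^ q = 1 ∧ w ^ r = z
  · obtain ⟨w, hw1, hwz⟩ := hw
    exact fixTS_of_cond_su hF n m hmn r hrp hr2 x hx z hxz w hw1 hwz hcb h1 h2
  · push Not at hw
    obtain ⟨hq1, hirr⟩ := irreducible_of_not_root hF r hr2 z hz1 hw
    rcases h3 hq1 with hrm | hv
    · exact fixTS_of_irr_su hF n m hmn r hr2 x hx z hxz hirr hrm
    · exfalso
      have hTr : (Matrix.toLin' (x : Matrix (Fin n) (Fin n) F)) ^ r = z • 1 := by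
        rw [su_toLin_pow, hxz, map_smul, Matrix.toLin'_one]
        rfl
      obtain ⟨k, hk, hdet⟩ := det_of_irreducible _ r hrpr hr2 (Cfsg.Agent.Lib.Helper9.H9Elus.cast_ne_zero_of_ne r hrp) z hTr hirr
      rw [Module.finrank_fin_fun] at hk
      rw [LinearMap.det_toLin', Matrix.SpecialLinearGroup.det_coe] at hdet
      have h4 := pow_div_eq_one_of_val_le hF r hq1 z hz1 n k hk hn hdet.symm hv
      obtain ⟨w, hw1, hwz⟩ := exists_root_of_norm_one hF r z hz1 (Or.inr h4)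
      exact hw w hw1 hwz

end su

end Cfsg.Agent.Lib.Helper6.TSU
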