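import Mathlib
import Cfsg.Prelude.Def_SporadicB

set_option autoImplicit false

namespace Cfsg.Agent.Lib.Helper6.TT

open Cfsg

/-! # Classes of 3-transpositions from actions of rank three, and transport of double covers -/

section transport
variable {H H' K : Type*} [Group H] [Group H'] [Group K]

/-- the centre under an isomorphism -/
theorem map_center (e : H ≃* H') :
    (Subgroup.center H).map e.toMonoidHom = Subgroup.center H' := by
  ext x
  constructor
  · rintro ⟨y, hy, rfl⟩
    rw [Subgroup.mem_center_iff]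
    intro g
    obtain ⟨g', rfl⟩ := e.surjective g
    have := (Subgroup.mem_center_iff.mp hy) g'
    show e g' * e y = e y * e g'
    rw [← map_mul, ← map_mul, this]
  · intro hx
    refine ⟨e.symm x, ?_, by simp⟩
    show e.symm x ∈ Subgroup.center H
    rw [Subgroup.mem_center_iff]
    intro g
    have := (Subgroup.mem_center_iff.mp hx) (e g)
    apply e.injective
    rw [map_mul, map_mul, MulEquiv.apply_symm_apply]
    exact this

/-- a non-split double cover under an isomorphism -/
theorem nonsplit_of_equiv (e : H ≃* H') (h : IsNonsplitDoubleCover H K) :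
    IsNonsplitDoubleCover H' K := by
  obtain ⟨h1, ⟨f⟩, h3⟩ := h
  have hc := map_center e
  refine ⟨?_, ⟨?_⟩, ?_⟩
  · rw [← hc]
    rw [Nat.card_congr ((Subgroup.center H).equivMapOfInjective e.toMonoidHom e.injective).toEquiv.symm]
    exact h1
  · have e2 : H ⧸ Subgroup.center H ≃* H' ⧸ Subgroup.center H' :=
      QuotientGroup.congr (Subgroup.center H) (Subgroup.center H') e hc
    exact e2.symm.trans f
  · intro L hL
    apply h3 (L.comap e.toMonoidHom)
    rw [Subgroup.isComplement'_def, Subgroup.isComplement_iff_existsUnique] at hL ⊢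
    intro g
    obtain ⟨⟨⟨a, ha⟩, ⟨b, hb⟩⟩, hab, huniq⟩ := hL (e g)
    have ha' : e.symm a ∈ Subgroup.center H := by
      rw [← hc] at ha
      obtain ⟨y, hy, rfl⟩ := ha
      simpa using hy
    have hb' : e.symm b ∈ L.comap e.toMonoidHom := by
      show e (e.symm b) ∈ L
      rw [MulEquiv.apply_symm_apply]
      exact hb
    refine ⟨(⟨e.symm a, ha'⟩, ⟨e.symm b, hb'⟩), ?_, ?_⟩
    · show e.symm a * e.symm b = g
      rw [← map_mul]
      apply e.injective
      rw [MulEquiv.apply_symm_apply]
      exact hab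
    · rintro ⟨⟨a₂, ha₂⟩, ⟨b₂, hb₂⟩⟩ h2
      have h2' : a₂ * b₂ = g := h2
      have ha₃ : e a₂ ∈ Subgroup.center H' := by
        rw [← hc]
        exact ⟨a₂, ha₂, rfl⟩
      have := huniq (⟨e a₂, ha₃⟩, ⟨e b₂, hb₂⟩) (by
        show e a₂ * e b₂ = e g
        rw [← map_mul, h2'])
      have e1 : e a₂ = a := congrArg (fun p => (p.1 : H')) this
      have e2 : e b₂ = b := congrArg (fun p => (p.2 : H')) this
      apply Prod.ext
      · apply Subtype.ext
        show a₂ = e.symm a
        rw [← e1, MulEquiv.symm_apply_apply]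
      · apply Subtype.ext
        show b₂ = e.symm b
        rw [← e2, MulEquiv.symm_apply_apply]

end transport

section conj
variable {G : Type*} [Group G]

/-- the centralizer of a conjugate is isomorphic to the centralizer -/
noncomputable def centralizerConjEquiv (g z : G) :
    Subgroup.centralizer {z} ≃* Subgroup.centralizer {g * z * g⁻¹} where
  toFun x := ⟨g * x * g⁻¹, by
    rw [Subgroup.mem_centralizer_iff]
    intro y hy
    rw [Set.mem_singleton_iff] at hy
    subst hy
    have := (Subgroup.mem_centralizer_iff.mp x.property) z rfl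
    calc g * z * g⁻¹ * (g * x * g⁻¹) = g * (z * x) * g⁻¹ := by group
      _ = g * (x * z) * g⁻¹ := by rw [this]
      _ = g * x * g⁻¹ * (g * z * g⁻¹) := by group⟩
  invFun x := ⟨g⁻¹ * x * g, by
    rw [Subgroup.mem_centralizer_iff]
    intro y hy
    rw [Set.mem_singleton_iff] at hy
    subst hy
    have := (Subgroup.mem_centralizer_iff.mp x.property) (g * y * g⁻¹) rfl
    calc y * (g⁻¹ * x * g) = g⁻¹ * (g * y * g⁻¹ * x) * g := by group
      _ = g⁻¹ * (x * (g * y * g⁻¹)) * g := by rw [this]
      _ = g⁻¹ * x * g * y := by group⟩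
  left_inv x := by
    apply Subtype.ext
    show g⁻¹ * (g * x * g⁻¹) * g = x
    group
  right_inv x := by
    apply Subtype.ext
    show g * (g⁻¹ * x * g) * g⁻¹ = x
    group
  map_mul' x y := by
    apply Subtype.ext
    show g * (x * y) * g⁻¹ = g * x * g⁻¹ * (g * y * g⁻¹)
    group

/-- the size of a conjugacy class -/
theorem card_conjugatesOf (z : G) :
    Nat.card (conjugatesOf z) = (Subgroup.centralizer {z}).index := by
  rw [Subgroup.index]
  symm
  have hwd : ∀ a b : G, QuotientGroup.leftRel (Subgroup.centralizer {z}) a b →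
      (⟨a * z * a⁻¹, isConj_iff.mpr ⟨a, rfl⟩⟩ : conjugatesOf z) =
        ⟨b * z * b⁻¹, isConj_iff.mpr ⟨b, rfl⟩⟩ := by
    intro a b hab
    rw [QuotientGroup.leftRel_apply, Subgroup.mem_centralizer_iff] at hab
    have h := hab z rfl
    apply Subtype.ext
    show a * z * a⁻¹ = b * z * b⁻¹
    have h2 : z = a⁻¹ * b * z * (a⁻¹ * b)⁻¹ := by
      rw [← h]; group
    calc a * z * a⁻¹ = a * (a⁻¹ * b * z * (a⁻¹ * b)⁻¹) * a⁻¹ := by rw [← h2]
      _ = b * z * b⁻¹ := by group
  apply Nat.card_congr
  refine Equiv.ofBijective (fun q => Quotient.liftOn' q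
    (fun g => (⟨g * z * g⁻¹, isConj_iff.mpr ⟨g, rfl⟩⟩ : conjugatesOf z)) hwd) ⟨?_, ?_⟩
  · intro q1 q2
    induction q1 using Quotient.inductionOn' with | _ a => ?_
    induction q2 using Quotient.inductionOn' with | _ b => ?_
    intro h
    have h' : a * z * a⁻¹ = b * z * b⁻¹ := congrArg Subtype.val h
    apply Quotient.sound'
    rw [QuotientGroup.leftRel_apply, Subgroup.mem_centralizer_iff]
    intro y hy
    rw [Set.mem_singleton_iff] at hy
    subst hy
    calc y * (a⁻¹ * b) = a⁻¹ * (a * y * a⁻¹) * b := by group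
      _ = a⁻¹ * (b * y * b⁻¹) * b := by rw [h']
      _ = a⁻¹ * b * y := by group
  · rintro ⟨x, hx⟩
    obtain ⟨g, hg⟩ := isConj_iff.mp hx
    refine ⟨Quotient.mk'' g, ?_⟩
    apply Subtype.ext
    exact hg

end conj

end Cfsg.Agent.Lib.Helper6.TT
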