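import Mathlib
import Cfsg.Prelude
import Cfsg.Agent.Lib.Helper9.Tens2
import Cfsg.Agent.Lib.Helper9.TensF2b
import Cfsg.Agent.Lib.Helper9.OrthNM1

set_option autoImplicit false
set_option linter.unusedSectionVars false
set_option linter.unusedVariables false

/-!
# Tensor decompositions and orthogonal groups over the field with two elements: tools

* `phi e P` : the transport `GL (Fin n₁ × Fin n₂) F ≃* GL ι F` along `e` and `P`, with
  `phi_mulVec_tau`.
* `rot u v` : for `Q u = Q v = 1 = β(u, v)` in characteristic two the commutator `[r_u, r_v]` of the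
  two orthogonal transvections, an element of `Ω` of order three with an explicit action.
-/

namespace Cfsg.Agent.Lib.Helper6.TensO

open Matrix Cfsg.Agent.H9Tens Cfsg.Agent.H9Orth Cfsg.Agent.Lib.Helper2.CDG
  Cfsg.Agent.Lib.Helper2.ReflGen
open scoped Kronecker

variable {F : Type*} [Field F] {ι : Type} [Fintype ι] [DecidableEq ι]

section transport

variable {n₁ n₂ : ℕ} (e : ι ≃ Fin n₁ × Fin n₂) (P : Matrix.GeneralLinearGroup ι F)

/-- transport of invertible matrices along `e` and `P` -/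
def phi : GL (Fin n₁ × Fin n₂) F ≃* GL ι F :=
  (Cfsg.Geo.glReindex e.symm).trans (MulAut.conj P)

theorem phi_apply (k : GL (Fin n₁ × Fin n₂) F) :
    phi e P k = P * (Cfsg.Geo.glReindex e.symm k) * P⁻¹ := rfl

theorem phi_mulVec_tau (k : GL (Fin n₁ × Fin n₂) F) (z : Fin n₁ × Fin n₂ → F) :
    ((phi e P k : GL ι F) : Matrix ι ι F) *ᵥ tau e P z =
      tau e P ((k : Matrix (Fin n₁ × Fin n₂) (Fin n₁ × Fin n₂) F) *ᵥ z) := by
  unfold tau
  rw [phi_apply, Matrix.GeneralLinearGroup.coe_mul, Matrix.GeneralLinearGroup.coe_mul,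
    ← Matrix.mulVec_mulVec, ← Matrix.mulVec_mulVec, Matrix.mulVec_mulVec _ _ (P : Matrix ι ι F),
    ← Matrix.GeneralLinearGroup.coe_mul, inv_mul_cancel]
  congr 1
  simp only [Matrix.GeneralLinearGroup.coe_one, Matrix.one_mulVec]
  funext i
  show ((Matrix.reindexAlgEquiv F F e.symm) (k : Matrix _ _ F) *ᵥ (z ∘ e)) i = _
  simp only [Matrix.coe_reindexAlgEquiv, Matrix.reindex_apply, Equiv.symm_symm, Matrix.mulVec,
    dotProduct, Matrix.submatrix_apply, Function.comp_apply]
  exact Fintype.sum_equiv e _ _ (fun _ => rfl)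

theorem tensorProductSubgroup_eq :
    Cfsg.Geo.tensorProductSubgroup n₁ n₂ e P =
      (Cfsg.Geo.kroneckerSubgroup n₁ n₂ F).map (phi e P).toMonoidHom := by
  unfold Cfsg.Geo.tensorProductSubgroup
  rw [Subgroup.map_map]
  rfl

theorem tau_surjective : Function.Surjective (tau (F := F) e P) := by
  intro v
  refine ⟨(((P⁻¹ : GL ι F) : Matrix ι ι F) *ᵥ v) ∘ e.symm, ?_⟩
  unfold tau
  have : ((((P⁻¹ : GL ι F) : Matrix ι ι F) *ᵥ v) ∘ e.symm) ∘ e =
      ((P⁻¹ : GL ι F) : Matrix ι ι F) *ᵥ v := by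
    funext i
    simp
  rw [this, Matrix.mulVec_mulVec, ← Matrix.GeneralLinearGroup.coe_mul, mul_inv_cancel]
  simp

theorem tau_zero : tau e P (0 : Fin n₁ × Fin n₂ → F) = 0 := by
  have := tau_smul e P (0 : F) (0 : Fin n₁ × Fin n₂ → F)
  simpa using this

/-- two invertible matrices agreeing on all `tau z` are equal -/
theorem gl_ext_tau {g h : GL ι F}
    (hgh : ∀ z, (g : Matrix ι ι F) *ᵥ tau e P z = (h : Matrix ι ι F) *ᵥ tau e P z) : g = h := by
  apply Units.ext
  apply Matrix.mulVec_injective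
  funext x
  obtain ⟨z, rfl⟩ := tau_surjective e P x
  exact hgh z

end transport

section rotation

variable (Q : QuadraticForm F (ι → F))

theorem refl_mulVec_two (h2 : (1 : F) + 1 = 0) (v : ι → F) (hv : Q v = 1) (hv' : Q v ≠ 0)
    (x : ι → F) :
    ((refl Q v hv' : Matrix.GeneralLinearGroup ι F) : Matrix ι ι F) *ᵥ x =
      x + QuadraticMap.polar (⇑Q) v x • v := by
  rw [refl_mulVec, hv, inv_one, one_mul, sub_eq_add_neg, ← neg_smul]
  have : -QuadraticMap.polar (⇑Q) v x = QuadraticMap.polar (⇑Q) v x := by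
    linear_combination (-QuadraticMap.polar (⇑Q) v x) * h2
  rw [this]

theorem polar_self_two (h2 : (1 : F) + 1 = 0) (v : ι → F) : QuadraticMap.polar (⇑Q) v v = 0 := by
  rw [polar_self]
  linear_combination (Q v) * h2

/-- the commutator of two orthogonal transvections -/
noncomputable def rot (u v : ι → F) (hu : Q u ≠ 0) (hv : Q v ≠ 0) :
    ↥(Cfsg.isometryGroup F ⇑Q) :=
  refl Q u hu * refl Q v hv * (refl Q u hu)⁻¹ * (refl Q v hv)⁻¹

theorem rot_mem_omegaGL (u v : ι → F) (hu : Q u ≠ 0) (hv : Q v ≠ 0) :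
    ((rot Q u v hu hv : ↥(Cfsg.isometryGroup F ⇑Q)) : Matrix.GeneralLinearGroup ι F) ∈
      Cfsg.Geo.omegaGL ⇑Q :=
  comm_mem_omegaGL _ _

theorem rot_step (h2 : (1 : F) + 1 = 0) (u v : ι → F) (hu1 : Q u = 1) (hv1 : Q v = 1)
    (huv : QuadraticMap.polar (⇑Q) u v = 1) (hu : Q u ≠ 0) (hv : Q v ≠ 0) (t : ι → F) :
    (((refl Q u hu * refl Q v hv : ↥(Cfsg.isometryGroup F ⇑Q)) :
      Matrix.GeneralLinearGroup ι F) : Matrix ι ι F) *ᵥ t =
      t + (QuadraticMap.polar (⇑Q) u t + QuadraticMap.polar (⇑Q) v t) • u +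
        QuadraticMap.polar (⇑Q) v t • v := by
  rw [mul_mulVec, refl_mulVec_two Q h2 v hv1 hv, refl_mulVec_two Q h2 u hu1 hu,
    QuadraticMap.polar_add_right, QuadraticMap.polar_smul_right, huv, smul_eq_mul, mul_one]
  abel

theorem rot_mulVec (h2 : (1 : F) + 1 = 0) (u v : ι → F) (hu1 : Q u = 1) (hv1 : Q v = 1)
    (huv : QuadraticMap.polar (⇑Q) u v = 1) (hu : Q u ≠ 0) (hv : Q v ≠ 0) (t : ι → F) :
    (((rot Q u v hu hv : ↥(Cfsg.isometryGroup F ⇑Q)) :
      Matrix.GeneralLinearGroup ι F) : Matrix ι ι F) *ᵥ t =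
      t + QuadraticMap.polar (⇑Q) u t • u +
        (QuadraticMap.polar (⇑Q) u t + QuadraticMap.polar (⇑Q) v t) • v := by
  have hvu : QuadraticMap.polar (⇑Q) v u = 1 := by rw [QuadraticMap.polar_comm]; exact huv
  have huu := polar_self_two Q h2 u
  have hvv := polar_self_two Q h2 v
  unfold rot
  rw [refl_inv, refl_inv, mul_assoc, mul_mulVec, rot_step Q h2 u v hu1 hv1 huv hu hv,
    rot_step Q h2 u v hu1 hv1 huv hu hv]
  simp only [QuadraticMap.polar_add_right, QuadraticMap.polar_smul_right, huv, hvu, huu, hvv,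
    smul_eq_mul, mul_one, mul_zero, add_zero]
  set α := QuadraticMap.polar (⇑Q) u t
  set δ := QuadraticMap.polar (⇑Q) v t
  have c1 : (α + δ) + (α + δ + (δ + (α + δ))) = α := by
    linear_combination δ * h2 + δ * h2 + α * h2
  have c2 : δ + (δ + (α + δ)) = α + δ := by
    linear_combination δ * h2
  calc t + (α + δ) • u + δ • v + (α + δ + (δ + (α + δ))) • u + (δ + (α + δ)) • v
      = t + ((α + δ) + (α + δ + (δ + (α + δ)))) • u + (δ + (δ + (α + δ))) • v := by
        simp only [add_smul]; abel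
    _ = t + α • u + (α + δ) • v := by rw [c1, c2]

end rotation

end Cfsg.Agent.Lib.Helper6.TensO
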