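import Mathlib
import Cfsg.Prelude
import Cfsg.Agent.Lib.Helper6.TensO1

set_option autoImplicit false
set_option linter.unusedSectionVars false
set_option linter.unusedVariables false

/-!
# Symplectic forms over the field with two elements: the vectors used for S5705
-/

namespace Cfsg.Agent.Lib.Helper6.TensO

open Matrix Cfsg.Agent.H9Tens Cfsg.Agent.H9TF2
open scoped Kronecker

variable {F : Type*} [Field F] [Fintype F]

theorem eq_one_of_ne (hq : Fintype.card F = 2) {x : F} (hx : x ≠ 0) : x = 1 := by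
  rcases eq_zero_or_one hq x with h | h
  · exact absurd h hx
  · exact h

theorem neg_eq_self (hq : Fintype.card F = 2) (x : F) : -x = x := by
  have h2 := two_eq_zero hq
  linear_combination (-x) * h2

theorem add_self_vec (hq : Fintype.card F = 2) {κ : Type} (v : κ → F) : v + v = 0 := by
  funext i
  have h2 := two_eq_zero hq
  simp only [Pi.add_apply, Pi.zero_apply]
  linear_combination (v i) * h2

/-- a symplectic form given as a function, as a Mathlib bilinear form -/
noncomputable def bil {κ : Type} [Fintype κ] [DecidableEq κ] (f : (κ → F) → (κ → F) → F)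
    (hf : Cfsg.Geo.IsBilinearForm f) : LinearMap.BilinForm F (κ → F) :=
  LinearMap.mk₂ F f hf.add_left (fun c x v => by rw [hf.smul_left, smul_eq_mul])
    hf.add_right (fun c v x => by rw [hf.smul_right, smul_eq_mul])

theorem bil_apply {κ : Type} [Fintype κ] [DecidableEq κ] (f : (κ → F) → (κ → F) → F)
    (hf : Cfsg.Geo.IsBilinearForm f) (x y : κ → F) : bil f hf x y = f x y := rfl

/-- symmetry of a symplectic form in characteristic two -/
theorem symp_symm (hq : Fintype.card F = 2) {κ : Type} [Fintype κ] [DecidableEq κ]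
    (f : (κ → F) → (κ → F) → F) (hf : Cfsg.Geo.IsSymplecticForm f) (x y : κ → F) :
    f x y = f y x := by
  rw [hf.skew x y, neg_eq_self hq]

/-- the closed formula for a symplectic form on `F²` over the field with two elements -/
theorem f1_formula (hq : Fintype.card F = 2) (f₁ : (Fin 2 → F) → (Fin 2 → F) → F)
    (hf₁ : Cfsg.Geo.IsSymplecticForm f₁) (x x' : Fin 2 → F) :
    f₁ x x' = x 0 * x' 1 + x 1 * x' 0 := by
  have hb := hf₁.bilinear
  set a : Fin 2 → F := Pi.single 0 1 with ha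
  set b : Fin 2 → F := Pi.single 1 1 with hb'
  have hdec : ∀ y : Fin 2 → F, y = y 0 • a + y 1 • b := by
    intro y
    funext i
    fin_cases i <;> simp [ha, hb']
  have ha0 : a ≠ 0 := by
    intro h
    have := congrFun h 0
    simp [ha] at this
  have hab : f₁ a b = 1 := by
    apply eq_one_of_ne hq
    intro h0
    obtain ⟨-, ⟨w, hw⟩⟩ := hf₁.nondegenerate a ha0
    apply hw
    rw [hdec w, hb.add_right, hb.smul_right, hb.smul_right, hf₁.alternating, h0]
    ring
  have hba : f₁ b a = 1 := by rw [← symp_symm hq f₁ hf₁, hab]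
  rw [hdec x, hdec x']
  simp only [hb.add_left, hb.add_right, hb.smul_left, hb.smul_right, hf₁.alternating, hab, hba]
  simp [ha, hb']

/-- two orthogonal hyperbolic pairs for a symplectic form over the field with two elements -/
theorem f2_vectors (hq : Fintype.card F = 2) {n₂ : ℕ} (hn : 3 ≤ n₂)
    (f₂ : (Fin n₂ → F) → (Fin n₂ → F) → F) (hf₂ : Cfsg.Geo.IsSymplecticForm f₂) :
    ∃ x₂ y₂ w₂ y₃ : Fin n₂ → F, f₂ x₂ y₂ = 1 ∧ f₂ w₂ y₃ = 1 ∧ f₂ x₂ w₂ = 0 ∧ f₂ y₂ w₂ = 0 ∧
      f₂ x₂ y₃ = 0 ∧ f₂ y₂ y₃ = 0 := by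
  classical
  have hb := hf₂.bilinear
  have hsym := symp_symm hq f₂ hf₂
  have h2 := two_eq_zero hq
  -- a nonzero vector
  set x₂ : Fin n₂ → F := Pi.single ⟨0, by omega⟩ 1 with hx₂
  have hx0 : x₂ ≠ 0 := by
    intro h
    have := congrFun h ⟨0, by omega⟩
    simp [hx₂] at this
  obtain ⟨-, ⟨y₂, hy₂⟩⟩ := hf₂.nondegenerate x₂ hx0
  have hxy : f₂ x₂ y₂ = 1 := eq_one_of_ne hq hy₂
  have hyx : f₂ y₂ x₂ = 1 := by rw [← hsym, hxy]
  -- the projection to the orthogonal complement of the pair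
  have hproj : ∀ v : Fin n₂ → F, f₂ x₂ (v + f₂ v y₂ • x₂ + f₂ x₂ v • y₂) = 0 ∧
      f₂ y₂ (v + f₂ v y₂ • x₂ + f₂ x₂ v • y₂) = 0 := by
    intro v
    constructor
    · rw [hb.add_right, hb.add_right, hb.smul_right, hb.smul_right, hf₂.alternating, hxy]
      linear_combination (f₂ x₂ v) * h2
    · rw [hb.add_right, hb.add_right, hb.smul_right, hb.smul_right, hf₂.alternating, hyx,
        hsym v y₂]
      linear_combination (f₂ y₂ v) * h2
  -- a vector outside the span
  have hex : ∃ v : Fin n₂ → F, v ∉ Submodule.span F ({x₂, y₂} : Set (Fin n₂ → F)) := by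
    by_contra hall
    push Not at hall
    have htop : Submodule.span F ({x₂, y₂} : Set (Fin n₂ → F)) = ⊤ := by
      rw [eq_top_iff]; intro v _; exact hall v
    have h1 : Module.finrank F (Submodule.span F ({x₂, y₂} : Set (Fin n₂ → F))) ≤ 2 := by
      have := finrank_span_finset_le_card (R := F) ({x₂, y₂} : Finset (Fin n₂ → F))
      have hc : ({x₂, y₂} : Finset (Fin n₂ → F)).card ≤ 2 := Finset.card_le_two
      have hcoe : ((({x₂, y₂} : Finset (Fin n₂ → F)) : Set (Fin n₂ → F))) = {x₂, y₂} := by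
        simp
      rw [hcoe] at this
      exact le_trans this hc
    rw [htop, finrank_top, Module.finrank_fin_fun] at h1
    omega
  obtain ⟨v, hv⟩ := hex
  set w₂ := v + f₂ v y₂ • x₂ + f₂ x₂ v • y₂ with hw₂
  have hw0 : w₂ ≠ 0 := by
    intro h0
    apply hv
    have : v = -(f₂ v y₂ • x₂ + f₂ x₂ v • y₂) := by
      rw [hw₂, add_assoc] at h0
      exact eq_neg_of_add_eq_zero_left h0
    rw [this]
    apply Submodule.neg_mem
    apply Submodule.add_mem
    · exact Submodule.smul_mem _ _ (Submodule.subset_span (by simp))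
    · exact Submodule.smul_mem _ _ (Submodule.subset_span (by simp))
  obtain ⟨hxw, hyw⟩ := hproj v
  obtain ⟨-, ⟨y₃', hy₃'⟩⟩ := hf₂.nondegenerate w₂ hw0
  have hwy' : f₂ w₂ y₃' = 1 := eq_one_of_ne hq hy₃'
  set y₃ := y₃' + f₂ y₃' y₂ • x₂ + f₂ x₂ y₃' • y₂ with hy₃
  obtain ⟨hxy3, hyy3⟩ := hproj y₃'
  refine ⟨x₂, y₂, w₂, y₃, hxy, ?_, hxw, hyw, hxy3, hyy3⟩
  have hwx : f₂ w₂ x₂ = 0 := by rw [hsym, hxw]
  have hwy : f₂ w₂ y₂ = 0 := by rw [hsym, hyw]
  rw [hy₃, hb.add_right, hb.add_right, hb.smul_right, hb.smul_right, hwx, hwy, hwy']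
  ring

end Cfsg.Agent.Lib.Helper6.TensO
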