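import Mathlib
import Cfsg.Prelude
import Cfsg.Agent.Lib.Helper6.TensO2

set_option autoImplicit false
set_option linter.unusedSectionVars false
set_option linter.unusedVariables false

/-!
# `Sp₂(2) ⊗ Sp_{n₂}(2)` is not maximal in `Ω⁺_{2 n₂}(2)` (S5705)

The intermediate subgroup is the normaliser in `Ω` of the `𝔽₄`-structure `⟨W ⊗ 1⟩`.
-/

namespace Cfsg.Agent.Lib.Helper6.TensO

open Matrix Cfsg.Agent.H9Tens Cfsg.Agent.H9TF2 Cfsg.Agent.H9Orth Cfsg.Agent.Lib.Helper2.CDG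
open scoped Kronecker

variable {F : Type*} [Field F] [Fintype F] {ι : Type} [Fintype ι] [DecidableEq ι]

theorem W_mulVec_zero (x : Fin 2 → F) : ((W : Matrix (Fin 2) (Fin 2) F) *ᵥ x) 0 = x 1 := by
  simp [W, Matrix.mulVec, dotProduct, Fin.sum_univ_two]

theorem W_mulVec_one (x : Fin 2 → F) : ((W : Matrix (Fin 2) (Fin 2) F) *ᵥ x) 1 = x 0 + x 1 := by
  simp [W, Matrix.mulVec, dotProduct, Fin.sum_univ_two]

theorem f1_W_inv (hq : Fintype.card F = 2) (f₁ : (Fin 2 → F) → (Fin 2 → F) → F)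
    (hf₁ : Cfsg.Geo.IsSymplecticForm f₁) (x x' : Fin 2 → F) :
    f₁ ((W : Matrix (Fin 2) (Fin 2) F) *ᵥ x) ((W : Matrix (Fin 2) (Fin 2) F) *ᵥ x') = f₁ x x' := by
  have h2 := two_eq_zero hq
  rw [f1_formula hq f₁ hf₁, f1_formula hq f₁ hf₁, W_mulVec_zero, W_mulVec_one, W_mulVec_zero,
    W_mulVec_one]
  linear_combination (x 1 * x' 1) * h2

theorem J0_mulVec_pt (hq : Fintype.card F = 2) {m : ℕ} (x : Fin 2 → F) (y : Fin m → F) :
    ((J0 hq m : GL (Fin 2 × Fin m) F) : Matrix (Fin 2 × Fin m) (Fin 2 × Fin m) F) *ᵥ pt x y =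
      pt ((W : Matrix (Fin 2) (Fin 2) F) *ᵥ x) y := by
  rw [J0_coe, kronecker_mulVec_pt, Matrix.one_mulVec]

/-- the decomposition of a coordinate vector into two pure tensors -/
theorem row_dec {m : ℕ} (z : Fin 2 × Fin m → F) :
    z = pt (Pi.single 0 1) (fun j => z (0, j)) + pt (Pi.single 1 1) (fun j => z (1, j)) := by
  funext ⟨i, j⟩
  fin_cases i <;> simp [pt]

end Cfsg.Agent.Lib.Helper6.TensO
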