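import Mathlib
import Cfsg.Prelude
import Cfsg.Agent.Lib.Helper6.TensO3

set_option autoImplicit false
set_option linter.unusedSectionVars false
set_option linter.unusedVariables false
set_option maxHeartbeats 1000000

namespace Cfsg.Agent.Lib.Helper6.TensO

open Matrix Cfsg.Agent.H9Tens Cfsg.Agent.H9TF2 Cfsg.Agent.H9Orth Cfsg.Agent.Lib.Helper2.CDG
open scoped Kronecker

variable {F : Type*} [Field F] [Fintype F] {ι : Type} [Fintype ι] [DecidableEq ι]
variable {Q : QuadraticForm F (ι → F)}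

/-- `Q` on the image of a sum -/
theorem Q_tau_add {n₁ n₂ : ℕ} (e : ι ≃ Fin n₁ × Fin n₂) (P : GL ι F) (z z' : Fin n₁ × Fin n₂ → F) :
    Q (tau e P (z + z')) = Q (tau e P z) + Q (tau e P z') +
      QuadraticMap.polar (⇑Q) (tau e P z) (tau e P z') := by
  rw [tau_add]
  unfold QuadraticMap.polar
  ring

/-- `Sp₂(2) ⊗ Sp_{n₂}(2)` is not maximal in `Ω` -/
theorem sp_tensor2_not_max (hq : Fintype.card F = 2) {n₂ : ℕ} (hn : 3 ≤ n₂)
    (e : ι ≃ Fin 2 × Fin n₂) (P : Matrix.GeneralLinearGroup ι F)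
    (f₁ : (Fin 2 → F) → (Fin 2 → F) → F) (f₂ : (Fin n₂ → F) → (Fin n₂ → F) → F)
    (hf₁ : Cfsg.Geo.IsSymplecticForm f₁) (hf₂ : Cfsg.Geo.IsSymplecticForm f₂)
    (hT : Cfsg.Geo.IsTensorFormStructure id (QuadraticMap.polar ⇑Q) f₁ f₂ e P)
    (hpure : ∀ (x : Fin 2 → F) (y : Fin n₂ → F), Q (tau e P (pt x y)) = 0) :
    ∃ K : Subgroup (Matrix.GeneralLinearGroup ι F),
      Cfsg.Geo.tensorProductSubgroup 2 n₂ e P ⊓ Cfsg.Geo.omegaGL ⇑Q < K ∧
        K < Cfsg.Geo.omegaGL ⇑Q := by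
  classical
  have h2 := two_eq_zero hq
  obtain ⟨c, hc, hform0⟩ := tensor_form_pt (QuadraticMap.polar ⇑Q) f₁ f₂ hf₁.bilinear
    hf₂.bilinear e P hT
  have hc1 : c = 1 := eq_one_of_ne hq hc
  have hform : ∀ (x x' : Fin 2 → F) (y y' : Fin n₂ → F),
      QuadraticMap.polar (⇑Q) (tau e P (pt x y)) (tau e P (pt x' y')) = f₁ x x' * f₂ y y' := by
    intro x x' y y'
    rw [hform0, hc1, one_mul]
  have hf1 := f1_formula hq f₁ hf₁
  obtain ⟨x₂, y₂, w₂, y₃, hxy, hwy3, hxw, hyw, hxy3, hyy3⟩ := f2_vectors hq hn f₂ hf₂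
  have hsym := symp_symm hq f₂ hf₂
  have hyx : f₂ y₂ x₂ = 1 := by rw [hsym, hxy]
  have hy3w : f₂ y₃ w₂ = 1 := by rw [hsym, hwy3]
  have hwx : f₂ w₂ x₂ = 0 := by rw [hsym, hxw]
  have hwy : f₂ w₂ y₂ = 0 := by rw [hsym, hyw]
  have hy3x : f₂ y₃ x₂ = 0 := by rw [hsym, hxy3]
  have hy3y : f₂ y₃ y₂ = 0 := by rw [hsym, hyy3]
  have hxx : f₂ x₂ x₂ = 0 := hf₂.alternating _
  have hyy : f₂ y₂ y₂ = 0 := hf₂.alternating _
  have hww : f₂ w₂ w₂ = 0 := hf₂.alternating _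
  have hy3y3 : f₂ y₃ y₃ = 0 := hf₂.alternating _
  set a : Fin 2 → F := Pi.single 0 1 with ha
  set b : Fin 2 → F := Pi.single 1 1 with hb
  have ha0 : a 0 = 1 := by simp [ha]
  have ha1 : a 1 = 0 := by simp [ha]
  have hb0 : b 0 = 0 := by simp [hb]
  have hb1 : b 1 = 1 := by simp [hb]
  have hWa : (W : Matrix (Fin 2) (Fin 2) F) *ᵥ a = b := by
    funext i
    fin_cases i
    · show ((W : Matrix (Fin 2) (Fin 2) F) *ᵥ a) 0 = b 0
      rw [W_mulVec_zero, ha1, hb0]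
    · show ((W : Matrix (Fin 2) (Fin 2) F) *ᵥ a) 1 = b 1
      rw [W_mulVec_one, ha0, ha1, hb1, add_zero]
  have hWb : (W : Matrix (Fin 2) (Fin 2) F) *ᵥ b = a + b := by
    funext i
    fin_cases i
    · show ((W : Matrix (Fin 2) (Fin 2) F) *ᵥ b) 0 = (a + b) 0
      rw [W_mulVec_zero, Pi.add_apply, ha0, hb0, hb1, add_zero]
    · show ((W : Matrix (Fin 2) (Fin 2) F) *ᵥ b) 1 = (a + b) 1
      rw [W_mulVec_one, Pi.add_apply, ha1, hb0, hb1, zero_add]
  -- the vectors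
  obtain ⟨zu, hzu⟩ : ∃ zu : Fin 2 × Fin n₂ → F, zu = pt a x₂ + pt b y₂ := ⟨_, rfl⟩
  obtain ⟨zv, hzv⟩ : ∃ zv : Fin 2 × Fin n₂ → F, zv = pt b x₂ + pt (a + b) y₂ := ⟨_, rfl⟩
  obtain ⟨zv2, hzv2⟩ : ∃ zv2 : Fin 2 × Fin n₂ → F, zv2 = zv + pt a w₂ := ⟨_, rfl⟩
  obtain ⟨u, hu⟩ : ∃ u : ι → F, u = tau e P zu := ⟨_, rfl⟩
  obtain ⟨v, hv⟩ : ∃ v : ι → F, v = tau e P zv := ⟨_, rfl⟩
  obtain ⟨v2, hv2⟩ : ∃ v2 : ι → F, v2 = tau e P zv2 := ⟨_, rfl⟩
  have hv2' : v2 = v + tau e P (pt a w₂) := by rw [hv2, hzv2, tau_add, ← hv]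
  have hQu : Q u = 1 := by
    rw [hu, hzu, Q_tau_add, hpure, hpure, hform, hf1, ha0, ha1, hb0, hb1, hxy]
    ring
  have hQv : Q v = 1 := by
    rw [hv, hzv, Q_tau_add, hpure, hpure, hform, hf1, Pi.add_apply, Pi.add_apply, ha0, ha1, hb0,
      hb1, hxy]
    ring
  have hQv2 : Q v2 = 1 := by
    rw [hv2, hzv2, Q_tau_add, ← hv, hQv, hpure, hv, hzv, tau_add, QuadraticMap.polar_add_left,
      hform, hform, hxw, hyw]
    ring
  have huv : QuadraticMap.polar (⇑Q) u v = 1 := by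
    rw [hu, hv, hzu, hzv]
    simp only [tau_add, QuadraticMap.polar_add_left, QuadraticMap.polar_add_right, hform, hf1,
      Pi.add_apply, ha0, ha1, hb0, hb1, hxx, hyy, hxy, hyx]
    ring
  have huv2 : QuadraticMap.polar (⇑Q) u v2 = 1 := by
    rw [hv2', QuadraticMap.polar_add_right, huv, hu, hzu, tau_add,
      QuadraticMap.polar_add_left, hform, hform, hxw, hyw]
    ring
  have hu0 : Q u ≠ 0 := by rw [hQu]; exact one_ne_zero
  have hv0 : Q v ≠ 0 := by rw [hQv]; exact one_ne_zero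
  have hv20 : Q v2 ≠ 0 := by rw [hQv2]; exact one_ne_zero
  -- the rotations
  obtain ⟨g1, hg1⟩ : ∃ g1 : ↥(Cfsg.isometryGroup F ⇑Q), g1 = rot Q u v hu0 hv0 := ⟨_, rfl⟩
  obtain ⟨g2, hg2⟩ : ∃ g2 : ↥(Cfsg.isometryGroup F ⇑Q), g2 = rot Q u v2 hu0 hv20 := ⟨_, rfl⟩
  have hg1Ω : (g1 : GL ι F) ∈ Cfsg.Geo.omegaGL ⇑Q := by
    rw [hg1]; exact rot_mem_omegaGL Q u v hu0 hv0
  have hg2Ω : (g2 : GL ι F) ∈ Cfsg.Geo.omegaGL ⇑Q := by
    rw [hg2]; exact rot_mem_omegaGL Q u v2 hu0 hv20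
  have hg1act : ∀ t, ((g1 : GL ι F) : Matrix ι ι F) *ᵥ t =
      t + QuadraticMap.polar (⇑Q) u t • u +
        (QuadraticMap.polar (⇑Q) u t + QuadraticMap.polar (⇑Q) v t) • v := by
    intro t; rw [hg1]; exact rot_mulVec Q h2 u v hQu hQv huv hu0 hv0 t
  have hg2act : ∀ t, ((g2 : GL ι F) : Matrix ι ι F) *ᵥ t =
      t + QuadraticMap.polar (⇑Q) u t • u +
        (QuadraticMap.polar (⇑Q) u t + QuadraticMap.polar (⇑Q) v2 t) • v2 := by
    intro t; rw [hg2]; exact rot_mulVec Q h2 u v2 hQu hQv2 huv2 hu0 hv20 t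
  -- the element of order three defining the 𝔽₄-structure
  obtain ⟨J, hJ⟩ : ∃ J : GL ι F, J = phi e P (J0 hq n₂) := ⟨_, rfl⟩
  have hJpt : ∀ (x : Fin 2 → F) (y : Fin n₂ → F), (J : Matrix ι ι F) *ᵥ tau e P (pt x y) =
      tau e P (pt ((W : Matrix (Fin 2) (Fin 2) F) *ᵥ x) y) := by
    intro x y
    rw [hJ, phi_mulVec_tau, J0_mulVec_pt]
  have hJinv : ∀ t t', QuadraticMap.polar (⇑Q) ((J : Matrix ι ι F) *ᵥ t)
      ((J : Matrix ι ι F) *ᵥ t') = QuadraticMap.polar (⇑Q) t t' := by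
    intro t t'
    obtain ⟨z, rfl⟩ := tau_surjective e P t
    obtain ⟨z', rfl⟩ := tau_surjective e P t'
    rw [row_dec z, row_dec z']
    simp only [tau_add, Matrix.mulVec_add, hJpt, QuadraticMap.polar_add_left,
      QuadraticMap.polar_add_right, hform, f1_W_inv hq f₁ hf₁]
  have hJu : (J : Matrix ι ι F) *ᵥ u = v := by
    rw [hu, hzu, tau_add, Matrix.mulVec_add, hJpt, hJpt, hWa, hWb, hv, hzv, tau_add]
  have hJv : (J : Matrix ι ι F) *ᵥ v = u + v := by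
    rw [hv, hzv, tau_add, Matrix.mulVec_add, hJpt, hJpt, Matrix.mulVec_add, hWa, hWb, hu, hzu]
    simp only [pt_add_left, tau_add]
    abel
  have hJuv : (J : Matrix ι ι F) *ᵥ (u + v) = u := by
    rw [Matrix.mulVec_add, hJu, hJv]
    have := add_self_vec hq v
    calc v + (u + v) = u + (v + v) := by abel
      _ = u := by rw [this, add_zero]
  have hcomm : ∀ t, ((g1 : GL ι F) : Matrix ι ι F) *ᵥ ((J : Matrix ι ι F) *ᵥ t) =
      (J : Matrix ι ι F) *ᵥ (((g1 : GL ι F) : Matrix ι ι F) *ᵥ t) := by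
    intro t
    have e1 : QuadraticMap.polar (⇑Q) u ((J : Matrix ι ι F) *ᵥ t) =
        QuadraticMap.polar (⇑Q) u t + QuadraticMap.polar (⇑Q) v t := by
      conv_lhs => rw [← hJuv]
      rw [hJinv, QuadraticMap.polar_add_left]
    have e2 : QuadraticMap.polar (⇑Q) v ((J : Matrix ι ι F) *ᵥ t) =
        QuadraticMap.polar (⇑Q) u t := by
      conv_lhs => rw [← hJu]
      rw [hJinv]
    rw [hg1act, hg1act, e1, e2, Matrix.mulVec_add, Matrix.mulVec_add, Matrix.mulVec_smul,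
      Matrix.mulVec_smul, hJu, hJv]
    simp only [smul_add, add_smul]
    abel
  have hcommG : (g1 : GL ι F) * J = J * (g1 : GL ι F) := by
    apply gl_ext_tau e P
    intro z
    rw [Matrix.GeneralLinearGroup.coe_mul, Matrix.GeneralLinearGroup.coe_mul,
      ← Matrix.mulVec_mulVec, ← Matrix.mulVec_mulVec]
    exact hcomm _
  obtain ⟨k1, hk1⟩ : ∃ k1, phi e P k1 = (g1 : GL ι F) := (phi e P).surjective _
  have hk1J : k1 * J0 hq n₂ = J0 hq n₂ * k1 := by
    apply (phi e P).injective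
    rw [map_mul, map_mul, hk1, ← hJ]
    exact hcommG
  have hk1K0 : k1 ∈ K0 hq n₂ := by
    apply mem_K0_of_conj hq k1
    · rw [hk1J, mul_assoc, mul_inv_cancel, mul_one]
      exact Subgroup.mem_zpowers _
    · rw [mul_assoc, ← hk1J, ← mul_assoc, inv_mul_cancel, one_mul]
      exact Subgroup.mem_zpowers _
  -- auxiliary nonvanishing
  have hf2zero : ∀ y, f₂ 0 y = 0 := by
    intro y
    have := hf₂.bilinear.smul_left 0 0 y
    simpa using this
  have hw0 : w₂ ≠ 0 := by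
    rintro rfl
    rw [hf2zero] at hwy3
    exact zero_ne_one hwy3
  have hy20 : y₂ ≠ 0 := by
    rintro rfl
    rw [hf2zero] at hyx
    exact zero_ne_one hyx
  have ha_ne : a ≠ 0 := by
    intro h
    have := congrFun h 0
    rw [ha0] at this
    exact one_ne_zero this
  have hb_ne : b ≠ 0 := by
    intro h
    have := congrFun h 1
    rw [hb1] at this
    exact one_ne_zero this
  refine ⟨(K0 hq n₂).map (phi e P).toMonoidHom ⊓ Cfsg.Geo.omegaGL ⇑Q, ?_, ?_⟩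
  · apply lt_of_le_of_ne
    · rw [tensorProductSubgroup_eq]
      exact inf_le_inf_right _ (Subgroup.map_mono (kron_le_K0 hq))
    · intro heq
      have hg1K : (g1 : GL ι F) ∈ (K0 hq n₂).map (phi e P).toMonoidHom ⊓ Cfsg.Geo.omegaGL ⇑Q :=
        Subgroup.mem_inf.2 ⟨⟨k1, hk1K0, hk1⟩, hg1Ω⟩
      rw [← heq] at hg1K
      obtain ⟨A, B, hAB⟩ := exists_factors e P (Subgroup.mem_inf.1 hg1K).1
      -- g1 fixes the image of a ⊗ w₂
      have p1 : QuadraticMap.polar (⇑Q) u (tau e P (pt a w₂)) = 0 := by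
        rw [hu, hzu, tau_add, QuadraticMap.polar_add_left, hform, hform, hxw, hyw]
        ring
      have p2 : QuadraticMap.polar (⇑Q) v (tau e P (pt a w₂)) = 0 := by
        rw [hv, hzv, tau_add, QuadraticMap.polar_add_left, hform, hform, hxw, hyw]
        ring
      have t1 : pt ((A : Matrix _ _ F) *ᵥ a) ((B : Matrix _ _ F) *ᵥ w₂) = pt a w₂ := by
        apply tau_injective e P
        rw [← hAB, hg1act, p1, p2]
        simp
      obtain ⟨μ, hμ, hAa, -⟩ := pt_eq ha_ne hw0 t1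
      have hμ1 : μ = 1 := eq_one_of_ne hq hμ
      rw [hμ1, one_smul] at hAa
      -- g1 maps the image of a ⊗ x₂ to the image of b ⊗ y₂
      have p3 : QuadraticMap.polar (⇑Q) u (tau e P (pt a x₂)) = 1 := by
        rw [hu, hzu, tau_add, QuadraticMap.polar_add_left, hform, hform, hf1, hf1, ha0, ha1, hb0,
          hb1, hxx, hyx]
        ring
      have p4 : QuadraticMap.polar (⇑Q) v (tau e P (pt a x₂)) = 1 := by
        rw [hv, hzv, tau_add, QuadraticMap.polar_add_left, hform, hform, hf1, hf1, Pi.add_apply,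
          Pi.add_apply, ha0, ha1, hb0, hb1, hxx, hyx]
        ring
      have t2 : pt a ((B : Matrix _ _ F) *ᵥ x₂) = pt b y₂ := by
        apply tau_injective e P
        rw [← hAa, ← hAB, hg1act, p3, p4, h2, zero_smul, add_zero, one_smul, hu, hzu, tau_add,
          ← add_assoc]
        have := add_self_vec hq (tau e P (pt a x₂))
        rw [this, zero_add]
      obtain ⟨ν, hν, hab, -⟩ := pt_eq hb_ne hy20 t2
      have := congrFun hab 0
      rw [Pi.smul_apply, ha0, hb0, smul_eq_mul, mul_zero] at this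
      exact one_ne_zero this
  · apply lt_of_le_of_ne inf_le_right
    intro heq
    have hg2K : (g2 : GL ι F) ∈ (K0 hq n₂).map (phi e P).toMonoidHom ⊓ Cfsg.Geo.omegaGL ⇑Q := by
      rw [heq]; exact hg2Ω
    obtain ⟨k2, hk2K0, hk2⟩ := (Subgroup.mem_inf.1 hg2K).1
    have hk2 : phi e P k2 = (g2 : GL ι F) := hk2
    have hnorm : k2 * J0 hq n₂ * k2⁻¹ ∈ Subgroup.zpowers (J0 hq n₂) := by
      unfold K0 at hk2K0
      exact (Subgroup.mem_normalizer_iff.1 hk2K0 (J0 hq n₂)).1 (Subgroup.mem_zpowers _)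
    -- the images of a ⊗ y₃ under the powers of J
    have hX : ∃ c : Fin 2 → F, ((phi e P (k2 * J0 hq n₂ * k2⁻¹) : GL ι F) : Matrix ι ι F) *ᵥ
        tau e P (pt a y₃) = tau e P (pt c y₃) := by
      rcases mem_zpowers_J0 hq _ hnorm with h | h | h
      · refine ⟨a, ?_⟩
        rw [h, map_one]
        simp
      · refine ⟨(W : Matrix (Fin 2) (Fin 2) F) *ᵥ a, ?_⟩
        rw [h, phi_mulVec_tau, J0_mulVec_pt]
      · refine ⟨(W : Matrix (Fin 2) (Fin 2) F) *ᵥ ((W : Matrix (Fin 2) (Fin 2) F) *ᵥ a), ?_⟩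
        rw [h, phi_mulVec_tau, Matrix.GeneralLinearGroup.coe_mul, ← Matrix.mulVec_mulVec,
          J0_mulVec_pt, J0_mulVec_pt]
    obtain ⟨c', hc'⟩ := hX
    -- g2 fixes the image of a ⊗ y₃
    have q1 : QuadraticMap.polar (⇑Q) u (tau e P (pt a y₃)) = 0 := by
      rw [hu, hzu, tau_add, QuadraticMap.polar_add_left, hform, hform, hxy3, hyy3]
      ring
    have q2 : QuadraticMap.polar (⇑Q) v2 (tau e P (pt a y₃)) = 0 := by
      rw [hv2', QuadraticMap.polar_add_left, hv, hzv, tau_add, QuadraticMap.polar_add_left, hform,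
        hform, hform, hxy3, hyy3, hf1 a a, ha0, ha1]
      ring
    have hfix : ((g2 : GL ι F) : Matrix ι ι F) *ᵥ tau e P (pt a y₃) = tau e P (pt a y₃) := by
      rw [hg2act, q1, q2]
      simp
    -- g2 moves the image of b ⊗ y₃
    have q3 : QuadraticMap.polar (⇑Q) u (tau e P (pt b y₃)) = 0 := by
      rw [hu, hzu, tau_add, QuadraticMap.polar_add_left, hform, hform, hxy3, hyy3]
      ring
    have q4 : QuadraticMap.polar (⇑Q) v2 (tau e P (pt b y₃)) = 1 := by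
      rw [hv2', QuadraticMap.polar_add_left, hv, hzv, tau_add, QuadraticMap.polar_add_left, hform,
        hform, hform, hxy3, hyy3, hwy3, hf1 a b, ha0, ha1, hb0, hb1]
      ring
    have hmove : ((g2 : GL ι F) : Matrix ι ι F) *ᵥ tau e P (pt b y₃) = tau e P (pt b y₃) + v2 := by
      rw [hg2act, q3, q4]
      simp
    -- the two sides of `g2 J = X g2`
    have hrel : (g2 : GL ι F) * J = phi e P (k2 * J0 hq n₂ * k2⁻¹) * (g2 : GL ι F) := by
      rw [← hk2, hJ, ← map_mul, ← map_mul]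
      congr 1
      group
    have hkey : tau e P (pt b y₃) + v2 = tau e P (pt c' y₃) := by
      have h1 := congrArg (fun M : GL ι F => (M : Matrix ι ι F) *ᵥ tau e P (pt a y₃)) hrel
      simp only [Matrix.GeneralLinearGroup.coe_mul, ← Matrix.mulVec_mulVec] at h1
      rw [hJpt, hWa, hmove, hfix, hc'] at h1
      exact h1
    -- pairing with the image of b ⊗ x₂
    have r1 : QuadraticMap.polar (⇑Q) (tau e P (pt b x₂)) (tau e P (pt b y₃) + v2) = 1 := by
      rw [hv2', hv, hzv]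
      simp only [tau_add, QuadraticMap.polar_add_right, hform, hf1, Pi.add_apply, ha0, ha1, hb0,
        hb1, hxx, hxy, hxw, hxy3]
      ring
    have r2 : QuadraticMap.polar (⇑Q) (tau e P (pt b x₂)) (tau e P (pt c' y₃)) = 0 := by
      rw [hform, hxy3, mul_zero]
    rw [hkey, r2] at r1
    exact zero_ne_one r1

end Cfsg.Agent.Lib.Helper6.TensO
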