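import Mathlib

set_option autoImplicit false

namespace Cfsg.Agent.Lib.Helper6.TwoPrimes

open Nat

/-- If there is at most one prime in `(n, 2n]`, the central binomial coefficient is still bounded. -/
theorem centralBinom_le_of_one_bertrand_prime (n : ℕ) (n_large : 2 < n) (p₀ : ℕ)
    (one_prime : ∀ p : ℕ, p.Prime → n < p → p ≤ 2 * n → p = p₀) :
    centralBinom n ≤ (2 * n) ^ sqrt (2 * n) * 4 ^ (2 * n / 3) := by
  have n_pos : 0 < n := (Nat.zero_le _).trans_lt n_large
  have n2_pos : 1 ≤ 2 * n := mul_pos (zero_lt_two' ℕ) n_pos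
  by_cases hp₀ : p₀.Prime ∧ n < p₀ ∧ p₀ ≤ 2 * n
  swap
  · apply centralBinom_le_of_no_bertrand_prime n n_large
    intro p hp hnp
    by_contra hle
    push Not at hle
    have := one_prime p hp hnp hle
    exact hp₀ (this ▸ ⟨hp, hnp, hle⟩)
  obtain ⟨hp₀p, hnp₀, hp₀n⟩ := hp₀
  have hs2 : 2 ≤ sqrt (2 * n) := by
    rw [Nat.le_sqrt]; omega
  let f x := x ^ n.centralBinom.factorization x
  -- the factorization over the small primes and `p₀`
  have hfac : centralBinom n = (∏ p ∈ Finset.range (2 * n / 3 + 1), f p) * f p₀ := by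
    have h1 := n.prod_pow_factorization_centralBinom
    have hsub : insert p₀ (Finset.range (2 * n / 3 + 1)) ⊆ Finset.range (2 * n + 1) := by
      intro x hx
      rw [Finset.mem_insert] at hx
      rcases hx with rfl | hx
      · rw [Finset.mem_range]; omega
      · rw [Finset.mem_range] at hx ⊢
        have : 2 * n / 3 ≤ 2 * n := Nat.div_le_self _ _
        omega
    have hnot : p₀ ∉ Finset.range (2 * n / 3 + 1) := by
      rw [Finset.mem_range]
      have : 2 * n / 3 ≤ n := by omega
      omega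
    have h2 : ∏ p ∈ insert p₀ (Finset.range (2 * n / 3 + 1)), f p =
        f p₀ * ∏ p ∈ Finset.range (2 * n / 3 + 1), f p := Finset.prod_insert hnot
    rw [← h1, mul_comm _ (f p₀), ← h2]
    symm
    apply Finset.prod_subset hsub
    intro x hx h2x
    rw [Finset.mem_insert, not_or] at h2x
    rw [Finset.mem_range] at hx h2x
    obtain ⟨hxp₀, h2x⟩ := h2x
    show x ^ n.centralBinom.factorization x = 1
    by_cases hxp : x.Prime
    · by_cases hxn : x ≤ n
      · rw [factorization_centralBinom_of_two_mul_self_lt_three_mul n_large hxn (by omega),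
          Nat.pow_zero]
      · exact absurd (one_prime x hxp (by omega) (by omega)) hxp₀
    · rw [factorization_eq_zero_of_not_prime n.centralBinom hxp, Nat.pow_zero]
  let S := {p ∈ Finset.range (2 * n / 3 + 1) | Nat.Prime p}
  have hS : ∏ x ∈ S, f x = ∏ x ∈ Finset.range (2 * n / 3 + 1), f x := by
    refine Finset.prod_filter_of_ne fun p _ h => ?_
    contrapose h; dsimp only [f]
    rw [factorization_eq_zero_of_not_prime n.centralBinom h, _root_.pow_zero]
  have hfp₀ : f p₀ ≤ 2 * n := by
    refine le_trans ?_ hp₀n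
    refine (pow_right_mono₀ hp₀p.one_lt.le ?_).trans (pow_one p₀).le
    apply Nat.factorization_choose_le_one
    calc 2 * n < 2 * p₀ := by omega
      _ ≤ p₀ * p₀ := Nat.mul_le_mul_right _ hp₀p.two_le
      _ = p₀ ^ 2 := (sq p₀).symm
  rw [hfac, ← hS, ← Finset.prod_filter_mul_prod_filter_not S (· ≤ sqrt (2 * n))]
  have hsmall : ∏ x ∈ S with x ≤ sqrt (2 * n), f x ≤ (2 * n) ^ (sqrt (2 * n) - 1) := by
    refine (Finset.prod_le_prod' fun p _ => (?_ : f p ≤ 2 * n)).trans ?_
    · exact pow_factorization_choose_le (mul_pos two_pos n_pos)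
    have : (Finset.Icc 2 (sqrt (2 * n))).card = sqrt (2 * n) - 1 := by
      rw [card_Icc]; omega
    rw [Finset.prod_const]
    refine pow_right_mono₀ n2_pos ((Finset.card_le_card fun x hx => ?_).trans this.le)
    obtain ⟨h1, h2⟩ := Finset.mem_filter.1 hx
    exact Finset.mem_Icc.mpr ⟨(Finset.mem_filter.1 h1).2.two_le, h2⟩
  have hmid : ∏ x ∈ S with ¬ x ≤ sqrt (2 * n), f x ≤ 4 ^ (2 * n / 3) := by
    refine le_trans ?_ (primorial_le_four_pow (2 * n / 3))
    refine (Finset.prod_le_prod' fun p hp => (?_ : f p ≤ p)).trans ?_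
    · obtain ⟨h1, h2⟩ := Finset.mem_filter.1 hp
      refine (pow_right_mono₀ (Finset.mem_filter.1 h1).2.one_lt.le ?_).trans (pow_one p).le
      exact Nat.factorization_choose_le_one (sqrt_lt'.mp <| not_le.1 h2)
    refine Finset.prod_le_prod_of_subset_of_one_le' (Finset.filter_subset _ _) ?_
    exact fun p hp _ => (Finset.mem_filter.1 hp).2.one_lt.le
  calc (∏ x ∈ S with x ≤ sqrt (2 * n), f x) * (∏ x ∈ S with ¬ x ≤ sqrt (2 * n), f x) * f p₀
      ≤ (2 * n) ^ (sqrt (2 * n) - 1) * 4 ^ (2 * n / 3) * (2 * n) :=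
        Nat.mul_le_mul (Nat.mul_le_mul hsmall hmid) hfp₀
    _ = (2 * n) ^ (sqrt (2 * n) - 1 + 1) * 4 ^ (2 * n / 3) := by ring
    _ = (2 * n) ^ sqrt (2 * n) * 4 ^ (2 * n / 3) := by
        rw [Nat.sub_add_cancel (by omega)]

/-- For large `n` there are two primes in `(n, 2n]`. -/
theorem exists_two_primes_eventually (n : ℕ) (n_large : 512 ≤ n) :
    ∃ q p : ℕ, q.Prime ∧ p.Prime ∧ n < q ∧ q < p ∧ p ≤ 2 * n := by
  have no_prime : 4 ^ n < n * n.centralBinom :=
    Nat.four_pow_lt_mul_centralBinom n (le_trans (by norm_num1) n_large)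
  by_contra hcon
  obtain ⟨p₀, hp₀, hnp₀, hp₀n⟩ := Nat.exists_prime_lt_and_le_two_mul n (by omega)
  have one_prime : ∀ p : ℕ, p.Prime → n < p → p ≤ 2 * n → p = p₀ := by
    intro p hp hnp hpn
    by_contra hne
    apply hcon
    rcases lt_or_gt_of_ne hne with h | h
    · exact ⟨p, p₀, hp, hp₀, hnp, h, hp₀n⟩
    · exact ⟨p₀, p, hp₀, hp, hnp₀, h, hpn⟩
  have : n.centralBinom ≤ (2 * n) ^ sqrt (2 * n) * 4 ^ (2 * n / 3) :=
    centralBinom_le_of_one_bertrand_prime n (lt_of_lt_of_le (by norm_num1) n_large) p₀ one_prime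
  have h2 := bertrand_main_inequality n_large
  have : n * n.centralBinom ≤ 4 ^ n := by
    calc n * n.centralBinom ≤ n * ((2 * n) ^ sqrt (2 * n) * 4 ^ (2 * n / 3)) :=
          Nat.mul_le_mul_left _ this
      _ = n * (2 * n) ^ sqrt (2 * n) * 4 ^ (2 * n / 3) := by ring
      _ ≤ 4 ^ n := h2
  omega

theorem two_primes_step (c a b : ℕ) (ha : a.Prime) (hb : b.Prime) (hab : a < b) (hb2 : b ≤ 2 * c)
    (m : ℕ) (hcm : c ≤ m) (hma : m < a) :
    ∃ q p : ℕ, q.Prime ∧ p.Prime ∧ m < q ∧ q < p ∧ p ≤ 2 * m :=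
  ⟨a, b, ha, hb, hma, hab, by omega⟩

/-- For `m ≥ 6` there are two primes in `(m, 2m]`. -/
theorem exists_two_primes (m : ℕ) (hm : 6 ≤ m) :
    ∃ q p : ℕ, q.Prime ∧ p.Prime ∧ m < q ∧ q < p ∧ p ≤ 2 * m := by
  rcases le_or_gt 512 m with h | h
  · exact exists_two_primes_eventually m h
  by_cases h1 : m < 7
  · exact two_primes_step 6 7 11 (by norm_num) (by norm_num) (by norm_num) (by norm_num) m hm h1
  by_cases h2 : m < 11
  · exact two_primes_step 7 11 13 (by norm_num) (by norm_num) (by norm_num) (by norm_num) m (by omega) h2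
  by_cases h3 : m < 13
  · exact two_primes_step 11 13 19 (by norm_num) (by norm_num) (by norm_num) (by norm_num) m (by omega) h3
  by_cases h4 : m < 19
  · exact two_primes_step 13 19 23 (by norm_num) (by norm_num) (by norm_num) (by norm_num) m (by omega) h4
  by_cases h5 : m < 23
  · exact two_primes_step 19 23 37 (by norm_num) (by norm_num) (by norm_num) (by norm_num) m (by omega) h5
  by_cases h6 : m < 37
  · exact two_primes_step 23 37 43 (by norm_num) (by norm_num) (by norm_num) (by norm_num) m (by omega) h6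
  by_cases h7 : m < 43
  · exact two_primes_step 37 43 73 (by norm_num) (by norm_num) (by norm_num) (by norm_num) m (by omega) h7
  by_cases h8 : m < 73
  · exact two_primes_step 43 73 83 (by norm_num) (by norm_num) (by norm_num) (by norm_num) m (by omega) h8
  by_cases h9 : m < 83
  · exact two_primes_step 73 83 139 (by norm_num) (by norm_num) (by norm_num) (by norm_num) m (by omega) h9
  by_cases h10 : m < 139
  · exact two_primes_step 83 139 163 (by norm_num) (by norm_num) (by norm_num) (by norm_num) m (by omega) h10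
  by_cases h11 : m < 163
  · exact two_primes_step 139 163 277 (by norm_num) (by norm_num) (by norm_num) (by norm_num) m (by omega) h11
  by_cases h12 : m < 277
  · exact two_primes_step 163 277 317 (by norm_num) (by norm_num) (by norm_num) (by norm_num) m (by omega) h12
  by_cases h13 : m < 317
  · exact two_primes_step 277 317 547 (by norm_num) (by norm_num) (by norm_num) (by norm_num) m (by omega) h13
  · exact two_primes_step 317 547 631 (by norm_num) (by norm_num) (by norm_num) (by norm_num) m (by omega) (by omega)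

/-- For `n ≥ 11` there are two primes in `(n/2, n]`. -/
theorem exists_two_primes_half (n : ℕ) (hn : 11 ≤ n) :
    ∃ q p : ℕ, q.Prime ∧ p.Prime ∧ n < 2 * q ∧ q < p ∧ p ≤ n := by
  by_cases h11 : n = 11
  · exact ⟨7, 11, by norm_num, by norm_num, by omega, by norm_num, by omega⟩
  obtain ⟨q, p, hq, hp, hmq, hqp, hpm⟩ := exists_two_primes (n / 2) (by omega)
  exact ⟨q, p, hq, hp, by omega, hqp, by omega⟩

end Cfsg.Agent.Lib.Helper6.TwoPrimes
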