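import Mathlib
import Cfsg.Agent.Lib.Helper6.VLStep4

/-!
# S3777 (Vaughan-Lee), Step 4: extraction and the final group-form statement `step4`
-/

namespace Cfsg.Agent.Lib.Helper6.VL4

open Subgroup
open scoped commutatorElement

/-- The integer core of the extraction. -/
theorem arith_core (p P x y n : ℤ) (hp : 2 ≤ p) (hP : p ≤ P) (hn : 0 < n)
    (hx0 : 0 ≤ x) (hxy : x ≤ y) (hyn : y ≤ n)
    (hstar : (P - p) * (n * p * (p - 1)) ≤
      n * P + y * (P * (p - 1)) + x * (P * p * (p - 1)) - p ^ 3 * n) :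
    1 ≤ x ∧ ¬ (x * p ^ 2 ≤ n ∧ y * p ≤ n) := by
  have hp0 : 0 < p := by linarith
  have hP0 : 0 < P := by linarith
  have hp1 : 0 ≤ p - 1 := by linarith
  have hPp1 : 0 ≤ P * (p - 1) := mul_nonneg hP0.le hp1
  have hPpp1 : 0 ≤ P * p * (p - 1) := mul_nonneg (mul_nonneg hP0.le hp0.le) hp1
  constructor
  · by_contra hx
    have hx' : x = 0 := by linarith
    subst hx'
    have h1 : y * (P * (p - 1)) ≤ n * (P * (p - 1)) := mul_le_mul_of_nonneg_right hyn hPp1
    have h2 : n * (p * (P * (p - 2) + p)) ≤ 0 := by nlinarith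
    have h3 : 0 < p * (P * (p - 2) + p) := by
      apply mul_pos hp0
      have : 0 ≤ P * (p - 2) := mul_nonneg hP0.le (by linarith)
      linarith
    have h4 : 0 < n * (p * (P * (p - 2) + p)) := mul_pos hn h3
    linarith
  · rintro ⟨h1, h2⟩
    have e1 : x * p ^ 2 * (P * p * (p - 1)) ≤ n * (P * p * (p - 1)) :=
      mul_le_mul_of_nonneg_right h1 hPpp1
    have e2 : y * p * (p * (P * (p - 1))) ≤ n * (p * (P * (p - 1))) :=
      mul_le_mul_of_nonneg_right h2 (mul_nonneg hp0.le hPp1)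
    have e3 : p ^ 2 * ((P - p) * (n * p * (p - 1))) ≤
        p ^ 2 * (n * P + y * (P * (p - 1)) + x * (P * p * (p - 1)) - p ^ 3 * n) :=
      mul_le_mul_of_nonneg_left hstar (by positivity)
    have e4 : n * (P * p * ((p - 2) * (p ^ 2 + p - 1)) + p ^ 4) ≤ 0 := by nlinarith
    have e5 : 0 < P * p * ((p - 2) * (p ^ 2 + p - 1)) + p ^ 4 := by
      have : 0 ≤ P * p * ((p - 2) * (p ^ 2 + p - 1)) := by
        apply mul_nonneg (mul_nonneg hP0.le hp0.le)
        apply mul_nonneg (by linarith)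
        nlinarith
      have : 0 < p ^ 4 := by positivity
      linarith
    have e6 := mul_pos hn e5
    linarith

section Extract

open Classical

variable {G : Type*} [Group G] [Fintype G] {p : ℕ} [Fact p.Prime]

/-- A group is not the union of two proper subgroups. -/
theorem exists_notMem_two {G : Type*} [Group G] (A B : Subgroup G) (hA : A ≠ ⊤) (hB : B ≠ ⊤) :
    ∃ y : G, y ∉ A ∧ y ∉ B := by
  obtain ⟨a, ha⟩ : ∃ a, a ∉ A := by
    by_contra h
    push Not at h
    exact hA (eq_top_iff.2 fun g _ => h g)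
  obtain ⟨b, hb⟩ : ∃ b, b ∉ B := by
    by_contra h
    push Not at h
    exact hB (eq_top_iff.2 fun g _ => h g)
  by_cases haB : a ∈ B
  · by_cases hbA : b ∈ A
    · refine ⟨a * b, fun h => ha ?_, fun h => hb ?_⟩
      · have := A.mul_mem h (A.inv_mem hbA)
        simpa using this
      · have := B.mul_mem (B.inv_mem haB) h
        simpa using this
    · exact ⟨b, hbA, hb⟩
  · exact ⟨a, ha, haB⟩

/-- A finset of elements of `S \ M` has at most `n / p^j` elements if `p^j ∣ S.index`. -/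
theorem card_mul_pow_le (M : Subgroup G) [M.Normal] (hM : M.index = p) (S : Subgroup G)
    (F : Finset G) (hF : ∀ u ∈ F, u ∈ S ∧ u ∉ M) (hne : F.Nonempty) (j : ℕ)
    (hj : p ^ j ∣ S.index) (n : ℕ) (hn : n * p = Nat.card G * (p - 1)) :
    F.card * p ^ j ≤ n := by
  have hpp : p.Prime := Fact.out
  obtain ⟨u0, hu0⟩ := hne
  have hSM : ¬ S ≤ M := fun h => (hF u0 hu0).2 (h (hF u0 hu0).1)
  have h1 := card_filter_mem_not_mem M hM S hSM
  have h2 : F.card ≤ (Finset.univ.filter (fun u : G => u ∈ S ∧ u ∉ M)).card := by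
    apply Finset.card_le_card
    intro u hu
    simp only [Finset.mem_filter, Finset.mem_univ, true_and]
    exact hF u hu
  obtain ⟨m, hm⟩ := hj
  have h3 := Subgroup.card_mul_index S
  have hm0 : m ≠ 0 := by
    rintro rfl
    rw [mul_zero] at hm
    exact Subgroup.index_ne_zero_of_finite hm
  have h4 : Nat.card S * p ^ j ≤ Nat.card G := by
    rw [← h3, hm]
    calc Nat.card S * p ^ j = Nat.card S * (p ^ j * 1) := by rw [mul_one]
      _ ≤ Nat.card S * (p ^ j * m) :=
        Nat.mul_le_mul_left _ (Nat.mul_le_mul_left _ (Nat.one_le_iff_ne_zero.2 hm0))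
  have h5 : F.card * p ^ j * p ≤ n * p := by
    calc F.card * p ^ j * p
        ≤ (Finset.univ.filter (fun u : G => u ∈ S ∧ u ∉ M)).card * p ^ j * p :=
          Nat.mul_le_mul_right _ (Nat.mul_le_mul_right _ h2)
      _ = ((Finset.univ.filter (fun u : G => u ∈ S ∧ u ∉ M)).card * p) * p ^ j := by ring
      _ = Nat.card S * (p - 1) * p ^ j := by rw [h1]
      _ = (Nat.card S * p ^ j) * (p - 1) := by ring
      _ ≤ Nat.card G * (p - 1) := Nat.mul_le_mul_right _ h4
      _ = n * p := hn.symm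
  exact Nat.le_of_mul_le_mul_right h5 hpp.pos

/-- The pointwise bound used in the extraction. -/
theorem pointwise_bound (Φ κu : Subgroup G) (hk1 : Φ ≤ κu) (d : ℕ) (hd : Φ.index = p ^ d)
    (hne1 : Φ.relIndex κu ≠ 1) :
    κu.index * p ^ 3 ≤ p ^ d + (if Φ.relIndex κu ∣ p ^ 2 then p ^ d * (p - 1) else 0)
      + (if Φ.relIndex κu = p then p ^ d * p * (p - 1) else 0) := by
  have hpp : p.Prime := Fact.out
  have hp1 : 1 ≤ p := hpp.one_lt.le
  have hρι : Φ.relIndex κu * κu.index = p ^ d := by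
    rw [Subgroup.relIndex_mul_index hk1, hd]
  have hdvd : Φ.relIndex κu ∣ p ^ d := Dvd.intro _ hρι
  obtain ⟨k, hkd, hk⟩ := (Nat.dvd_prime_pow hpp).1 hdvd
  have hk0 : k ≠ 0 := by
    rintro rfl
    exact hne1 (by rw [hk, pow_zero])
  have hPp : p ^ d + p ^ d * (p - 1) = p ^ d * p := by
    have : p ^ d * p = p ^ d * (1 + (p - 1)) := by rw [Nat.add_sub_cancel' hp1]
    rw [this]; ring
  rw [hk] at hρι ⊢
  rcases Nat.lt_or_ge k 3 with hk3 | hk3
  · interval_cases k
    · exact absurd rfl hk0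
    · -- k = 1
      rw [if_pos (by rw [pow_one]; exact Dvd.intro_left (p ^ 1) (by ring)), if_pos (pow_one p)]
      rw [pow_one] at hρι
      rw [hPp]
      have : p ^ d * p + p ^ d * p * (p - 1) = p ^ d * p * p := by
        have : p ^ d * p * p = p ^ d * p * (1 + (p - 1)) := by rw [Nat.add_sub_cancel' hp1]
        rw [this]; ring
      rw [this, ← hρι]
      apply le_of_eq
      ring
    · -- k = 2
      have hne : p ^ 2 ≠ p := by
        intro h
        have : p * p = p * 1 := by rw [mul_one, ← sq]; exact h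
        have := Nat.eq_of_mul_eq_mul_left hpp.pos this
        exact hpp.one_lt.ne' this
      rw [if_pos (dvd_refl _), if_neg hne, add_zero, hPp, ← hρι]
      apply le_of_eq
      ring
  · have hnd : ¬ p ^ k ∣ p ^ 2 := by
      intro h
      have := (Nat.pow_dvd_pow_iff_le_right hpp.one_lt).1 h
      omega
    have hne : p ^ k ≠ p := by
      intro h
      have h' : p ^ k = p ^ 1 := by rw [h, pow_one]
      have := Nat.pow_right_injective hpp.two_le h'
      omega
    rw [if_neg hnd, if_neg hne, add_zero, add_zero, ← hρι]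
    have : p ^ 3 ≤ p ^ k := Nat.pow_le_pow_right hpp.pos hk3
    calc κu.index * p ^ 3 ≤ κu.index * p ^ k := Nat.mul_le_mul_left _ this
      _ = p ^ k * κu.index := mul_comm _ _

set_option maxHeartbeats 400000 in
/-- The dichotomy: a free-like element exists, and either the elements of cost `≤ 1`
generate `G` modulo `Φ`, or the free-like elements generate a subgroup of index `≤ p`. -/
theorem dichotomy (Φ : Subgroup G) (hcomm : commutator G ≤ Φ)
    (M : Subgroup G) (hΦM : Φ ≤ M) (hM : M.index = p)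
    (κ : G → Subgroup G) (hk1 : ∀ u, Φ ≤ κ u) (hk2 : ∀ u, u ∈ κ u)
    (d : ℕ) (hd : Φ.index = p ^ d)
    (hstar : (p ^ d - p) * (Nat.card G * (p - 1) ^ 2) ≤
      p ^ 3 * ∑ u ∈ Finset.univ.filter (fun u : G => u ∉ M), ((κ u).index - 1)) :
    (∃ x₁, x₁ ∉ M ∧ Φ.relIndex (κ x₁) = p) ∧
    (Φ ⊔ closure {u : G | u ∉ M ∧ Φ.relIndex (κ u) ∣ p ^ 2} = ⊤ ∨
      (Φ ⊔ closure {u : G | u ∉ M ∧ Φ.relIndex (κ u) = p}).index ∣ p) := by
  have hpp : p.Prime := Fact.out
  have hp1 : 1 ≤ p := hpp.one_lt.le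
  haveI : M.Normal := normal_of_commutator_le M (hcomm.trans hΦM)
  have hd0 : d ≠ 0 := by
    rintro rfl
    have h1 : M.index ∣ Φ.index := Subgroup.index_dvd_of_le hΦM
    rw [hM, hd, pow_zero, Nat.dvd_one] at h1
    exact hpp.one_lt.ne' h1
  have hpd : p ≤ p ^ d := by
    calc p = p ^ 1 := (pow_one p).symm
      _ ≤ p ^ d := Nat.pow_le_pow_right hpp.pos (Nat.one_le_iff_ne_zero.2 hd0)
  set N : Finset G := Finset.univ.filter (fun u : G => u ∉ M) with hN
  set F1 : Finset G := Finset.univ.filter (fun u : G => u ∉ M ∧ Φ.relIndex (κ u) = p) with hF1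
  set F2 : Finset G := Finset.univ.filter (fun u : G => u ∉ M ∧ Φ.relIndex (κ u) ∣ p ^ 2)
    with hF2
  have hMtop : ¬ (⊤ : Subgroup G) ≤ M := by
    intro h
    have : M = ⊤ := top_le_iff.1 h
    rw [this, Subgroup.index_top] at hM
    exact hpp.one_lt.ne hM
  have hn : N.card * p = Nat.card G * (p - 1) := by
    have h1 := card_filter_mem_not_mem M hM ⊤ hMtop
    rw [Subgroup.card_top] at h1
    rw [← h1]
    congr 2
    ext u
    simp [hN]
  have hF12 : F1 ⊆ F2 := by
    intro u hu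
    simp only [hF1, hF2, Finset.mem_filter, Finset.mem_univ, true_and] at hu ⊢
    refine ⟨hu.1, ?_⟩
    rw [hu.2]
    exact Dvd.intro_left p (by ring)
  have hF2N : F2 ⊆ N := by
    intro u hu
    simp only [hN, hF2, Finset.mem_filter, Finset.mem_univ, true_and] at hu ⊢
    exact hu.1
  have hxy : F1.card ≤ F2.card := Finset.card_le_card hF12
  have hyn : F2.card ≤ N.card := Finset.card_le_card hF2N
  -- the pointwise bound summed
  have hsum : (∑ u ∈ N, (κ u).index) * p ^ 3 ≤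
      N.card * p ^ d + F2.card * (p ^ d * (p - 1)) + F1.card * (p ^ d * p * (p - 1)) := by
    rw [Finset.sum_mul]
    have hpt : ∀ u ∈ N, (κ u).index * p ^ 3 ≤
        p ^ d + (if Φ.relIndex (κ u) ∣ p ^ 2 then p ^ d * (p - 1) else 0)
          + (if Φ.relIndex (κ u) = p then p ^ d * p * (p - 1) else 0) := by
      intro u hu
      simp only [hN, Finset.mem_filter, Finset.mem_univ, true_and] at hu
      apply pointwise_bound Φ (κ u) (hk1 u) d hd
      intro h
      exact hu (hΦM ((Subgroup.relIndex_eq_one.1 h) (hk2 u)))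
    refine (Finset.sum_le_sum hpt).trans (le_of_eq ?_)
    rw [Finset.sum_add_distrib, Finset.sum_add_distrib, Finset.sum_const, smul_eq_mul,
      ← Finset.sum_filter, ← Finset.sum_filter, Finset.sum_const, Finset.sum_const,
      smul_eq_mul, smul_eq_mul]
    have e2 : N.filter (fun u => Φ.relIndex (κ u) ∣ p ^ 2) = F2 := by
      rw [hN, hF2, Finset.filter_filter]
    have e1 : N.filter (fun u => Φ.relIndex (κ u) = p) = F1 := by
      rw [hN, hF1, Finset.filter_filter]
    rw [e1, e2]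
  have hSig : ∑ u ∈ N, (κ u).index = ∑ u ∈ N, ((κ u).index - 1) + N.card := by
    have : N.card = ∑ u ∈ N, 1 := by simp
    rw [this, ← Finset.sum_add_distrib]
    apply Finset.sum_congr rfl
    intro u _
    have : (κ u).index ≠ 0 := Subgroup.index_ne_zero_of_finite
    omega
  have hNpos : 0 < N.card := by
    obtain ⟨u, hu⟩ : ∃ u : G, u ∉ M := by
      by_contra h
      push Not at h
      exact hMtop fun g _ => h g
    apply Finset.card_pos.2
    exact ⟨u, by simp [hN, hu]⟩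
  -- pass to integers
  have hcore := arith_core (p : ℤ) ((p : ℤ) ^ d) F1.card F2.card N.card
    (by exact_mod_cast hpp.two_le) (by exact_mod_cast hpd) (by exact_mod_cast hNpos)
    (by positivity) (by exact_mod_cast hxy) (by exact_mod_cast hyn) (by
      have hstarZ : ((p : ℤ) ^ d - p) * ((Nat.card G : ℤ) * ((p : ℤ) - 1) ^ 2) ≤
          (p : ℤ) ^ 3 * ∑ u ∈ N, (((κ u).index - 1 : ℕ) : ℤ) := by
        have := hstar
        zify [hpd, hp1] at this
        exact this
      have hnZ : (N.card : ℤ) * p = (Nat.card G : ℤ) * ((p : ℤ) - 1) := by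
        have := hn
        zify [hp1] at this
        exact this
      have hSigZ : (∑ u ∈ N, ((κ u).index : ℤ))
          = (∑ u ∈ N, (((κ u).index - 1 : ℕ) : ℤ)) + N.card := by
        have := hSig
        zify at this
        exact this
      have hsumZ : (∑ u ∈ N, ((κ u).index : ℤ)) * (p : ℤ) ^ 3 ≤
          (N.card : ℤ) * (p : ℤ) ^ d + F2.card * ((p : ℤ) ^ d * ((p : ℤ) - 1))
            + F1.card * ((p : ℤ) ^ d * p * ((p : ℤ) - 1)) := by
        have := hsum
        zify [hp1] at this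
        exact this
      have e1 : ((p : ℤ) ^ d - p) * ((N.card : ℤ) * p * ((p : ℤ) - 1))
          = ((p : ℤ) ^ d - p) * ((Nat.card G : ℤ) * ((p : ℤ) - 1) ^ 2) := by
        rw [hnZ]; ring
      rw [e1]
      rw [hSigZ] at hsumZ
      nlinarith [hstarZ, hsumZ])
  obtain ⟨hx1, hnot⟩ := hcore
  have hF1ne : F1.Nonempty := by
    apply Finset.card_pos.1
    exact_mod_cast hx1
  have hF2ne : F2.Nonempty := hF1ne.mono hF12
  refine ⟨?_, ?_⟩
  · obtain ⟨x₁, hx₁⟩ := hF1ne
    simp only [hF1, Finset.mem_filter, Finset.mem_univ, true_and] at hx₁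
    exact ⟨x₁, hx₁⟩
  · by_contra hcon
    push Not at hcon
    obtain ⟨hS2, hS1⟩ := hcon
    apply hnot
    constructor
    · -- x * p^2 ≤ n
      set S1 := Φ ⊔ closure {u : G | u ∉ M ∧ Φ.relIndex (κ u) = p} with hS1def
      have hdvd : S1.index ∣ p ^ d := by
        rw [← hd]
        exact Subgroup.index_dvd_of_le le_sup_left
      obtain ⟨k, hkd, hk⟩ := (Nat.dvd_prime_pow hpp).1 hdvd
      have hk2' : 2 ≤ k := by
        by_contra hlt
        apply hS1
        rw [hk]
        have : k ≤ 1 := by omega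
        calc p ^ k ∣ p ^ 1 := pow_dvd_pow p this
          _ = p := pow_one p
      have hj : p ^ 2 ∣ S1.index := by
        rw [hk]
        exact pow_dvd_pow p hk2'
      have := card_mul_pow_le M hM S1 F1 (fun u hu => by
        simp only [hF1, Finset.mem_filter, Finset.mem_univ, true_and] at hu
        exact ⟨(le_sup_right : Subgroup.closure _ ≤ S1) (Subgroup.subset_closure hu), hu.1⟩)
        hF1ne 2 hj N.card hn
      exact_mod_cast this
    · set S2 := Φ ⊔ closure {u : G | u ∉ M ∧ Φ.relIndex (κ u) ∣ p ^ 2} with hS2def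
      have hdvd : S2.index ∣ p ^ d := by
        rw [← hd]
        exact Subgroup.index_dvd_of_le le_sup_left
      obtain ⟨k, hkd, hk⟩ := (Nat.dvd_prime_pow hpp).1 hdvd
      have hk0 : k ≠ 0 := by
        rintro rfl
        rw [pow_zero] at hk
        exact hS2 (Subgroup.index_eq_one.1 hk)
      have hj : p ^ 1 ∣ S2.index := by
        rw [hk]
        exact pow_dvd_pow p (Nat.one_le_iff_ne_zero.2 hk0)
      have := card_mul_pow_le M hM S2 F2 (fun u hu => by
        simp only [hF2, Finset.mem_filter, Finset.mem_univ, true_and] at hu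
        exact ⟨(le_sup_right : Subgroup.closure _ ≤ S2) (Subgroup.subset_closure hu), hu.1⟩)
        hF2ne 1 hj N.card hn
      rw [pow_one] at this
      exact_mod_cast this

set_option maxHeartbeats 400000 in
/-- Step 4B: extraction of `x₁` and `S` from the counting inequality. -/
theorem extraction_relIndex (Φ : Subgroup G) (hcomm : commutator G ≤ Φ)
    (hpow : ∀ g : G, g ^ p ∈ Φ)
    (M : Subgroup G) (hΦM : Φ ≤ M) (hM : M.index = p)
    (κ : G → Subgroup G) (hk1 : ∀ u, Φ ≤ κ u) (hk2 : ∀ u, u ∈ κ u)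
    (d : ℕ) (hd : Φ.index = p ^ d)
    (hstar : (p ^ d - p) * (Nat.card G * (p - 1) ^ 2) ≤
      p ^ 3 * ∑ u ∈ Finset.univ.filter (fun u : G => u ∉ M), ((κ u).index - 1)) :
    ∃ (x₁ : G) (S : Finset G), x₁ ∉ M ∧ (∀ s ∈ S, s ∉ M) ∧ S.card = d - 1 ∧
      Φ ⊔ zpowers x₁ ⊔ Subgroup.closure (S : Set G) = ⊤ ∧ Φ.relIndex (κ x₁) = p ∧
      ∏ s ∈ S, Φ.relIndex (κ s) ≤ p ^ (2 * (d - 1)) := by
  have hpp : p.Prime := Fact.out
  have hp1 : 1 ≤ p := hpp.one_lt.le
  haveI : M.Normal := normal_of_commutator_le M (hcomm.trans hΦM)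
  have hd0 : d ≠ 0 := by
    rintro rfl
    have h1 : M.index ∣ Φ.index := Subgroup.index_dvd_of_le hΦM
    rw [hM, hd, pow_zero, Nat.dvd_one] at h1
    exact hpp.one_lt.ne' h1
  obtain ⟨⟨x₁, hx₁M, hx₁⟩, hdich⟩ := dichotomy Φ hcomm M hΦM hM κ hk1 hk2 d hd hstar
  have hx₁Φ : x₁ ∉ Φ := fun h => hx₁M (hΦM h)
  set Q₀ := Φ ⊔ zpowers x₁ with hQ₀
  have hΦQ₀ : Φ ≤ Q₀ := le_sup_left
  have hQ₀idx : Q₀.index = p ^ (d - 1) := by
    have h1 := index_sup_zpowers_mul Φ hcomm hpow x₁ hx₁Φ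
    rw [hd] at h1
    have h2 : p ^ d = p ^ (d - 1) * p := by
      rw [← pow_succ]
      congr 1
      omega
    rw [h2] at h1
    exact Nat.eq_of_mul_eq_mul_right hpp.pos h1
  have hMtop : M ≠ ⊤ := by
    intro h
    rw [h, Subgroup.index_top] at hM
    exact hpp.one_lt.ne hM
  by_cases hS2 : Φ ⊔ Subgroup.closure {u : G | u ∉ M ∧ Φ.relIndex (κ u) ∣ p ^ 2} = ⊤
  · -- Case A
    have hsup : Q₀ ⊔ Subgroup.closure {u : G | u ∉ M ∧ Φ.relIndex (κ u) ∣ p ^ 2} = ⊤ := by
      apply top_le_iff.1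
      rw [← hS2]
      exact sup_le_sup_right hΦQ₀ _
    obtain ⟨S, hS1, hS2', hS3⟩ := exists_finset_gen Φ hcomm hpow
      {u : G | u ∉ M ∧ Φ.relIndex (κ u) ∣ p ^ 2} ⊤ (d - 1) Q₀ hΦQ₀ hsup
      (by rw [hQ₀idx, Subgroup.index_top, one_mul])
    refine ⟨x₁, S, hx₁M, fun s hs => (hS1 s hs).1.1, hS2', hS3, hx₁, ?_⟩
    calc ∏ s ∈ S, Φ.relIndex (κ s) ≤ (p ^ 2) ^ S.card := by
          apply Finset.prod_le_pow_card
          intro s hs
          exact Nat.le_of_dvd (pow_pos hpp.pos 2) (hS1 s hs).1.2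
      _ = p ^ (2 * (d - 1)) := by rw [hS2', ← pow_mul]
  · -- Case B
    have hS1idx : (Φ ⊔ Subgroup.closure {u : G | u ∉ M ∧ Φ.relIndex (κ u) = p}).index ∣ p := by
      rcases hdich with h | h
      · exact absurd h hS2
      · exact h
    set S1 := Φ ⊔ Subgroup.closure {u : G | u ∉ M ∧ Φ.relIndex (κ u) = p} with hS1def
    have hS1le : S1 ≤ Φ ⊔ Subgroup.closure {u : G | u ∉ M ∧ Φ.relIndex (κ u) ∣ p ^ 2} := by
      apply sup_le_sup_left
      apply Subgroup.closure_mono
      intro u hu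
      refine ⟨hu.1, ?_⟩
      rw [hu.2]
      exact Dvd.intro_left p (by ring)
    have hS1top : S1 ≠ ⊤ := by
      intro h
      apply hS2
      apply top_le_iff.1
      rw [← h]
      exact hS1le
    have hS1p : S1.index = p := by
      rcases (Nat.dvd_prime hpp).1 hS1idx with h | h
      · exact absurd (Subgroup.index_eq_one.1 h) hS1top
      · exact h
    have hx₁S1 : x₁ ∈ S1 :=
      (le_sup_right : Subgroup.closure _ ≤ S1) (Subgroup.subset_closure ⟨hx₁M, hx₁⟩)
    have hQ₀S1 : Q₀ ≤ S1 := sup_le le_sup_left ((Subgroup.zpowers_le).2 hx₁S1)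
    have hsup : Q₀ ⊔ Subgroup.closure {u : G | u ∉ M ∧ Φ.relIndex (κ u) = p} = S1 := by
      apply le_antisymm
      · exact sup_le hQ₀S1 le_sup_right
      · exact sup_le_sup_right hΦQ₀ _
    have hd2 : 2 ≤ d := by
      have h1 : S1.index ∣ Q₀.index := Subgroup.index_dvd_of_le hQ₀S1
      rw [hS1p, hQ₀idx] at h1
      by_contra hlt
      have : d - 1 = 0 := by omega
      rw [this, pow_zero, Nat.dvd_one] at h1
      exact hpp.one_lt.ne' h1
    obtain ⟨S', hS'1, hS'2, hS'3⟩ := exists_finset_gen Φ hcomm hpow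
      {u : G | u ∉ M ∧ Φ.relIndex (κ u) = p} S1 (d - 2) Q₀ hΦQ₀ hsup
      (by
        rw [hQ₀idx, hS1p, ← pow_succ']
        congr 1
        omega)
    obtain ⟨y, hyM, hyS1⟩ := exists_notMem_two M S1 hMtop hS1top
    have hS'S1 : ∀ s ∈ S', s ∈ S1 := fun s hs =>
      (le_sup_right : Subgroup.closure _ ≤ S1) (Subgroup.subset_closure (hS'1 s hs).1)
    have hyS' : y ∉ S' := fun h => hyS1 (hS'S1 y h)
    have hS1y : S1 ⊔ zpowers y = ⊤ := by
      have hΦS1 : Φ ≤ S1 := le_sup_left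
      have h1 := index_sup_zpowers_mul S1 (hcomm.trans hΦS1) (fun g => hΦS1 (hpow g)) y hyS1
      rw [hS1p] at h1
      have h2 : (S1 ⊔ zpowers y).index * p = 1 * p := by rw [h1, one_mul]
      exact Subgroup.index_eq_one.1 (Nat.eq_of_mul_eq_mul_right hpp.pos h2)
    refine ⟨x₁, insert y S', hx₁M, ?_, ?_, ?_, hx₁, ?_⟩
    · intro s hs
      rcases Finset.mem_insert.1 hs with rfl | hs
      · exact hyM
      · exact (hS'1 s hs).1.1
    · rw [Finset.card_insert_of_notMem hyS', hS'2]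
      omega
    · rw [Finset.coe_insert, closure_insert_eq, sup_comm (zpowers y), ← sup_assoc, hS'3]
      exact hS1y
    · rw [Finset.prod_insert hyS']
      have h1 : ∏ s ∈ S', Φ.relIndex (κ s) = p ^ (d - 2) := by
        rw [Finset.prod_congr rfl (fun s hs => (hS'1 s hs).1.2), Finset.prod_const, hS'2]
      have h2 : Φ.relIndex (κ y) ≤ p ^ d := by
        apply Nat.le_of_dvd (pow_pos hpp.pos d)
        rw [← hd]
        exact Subgroup.relIndex_dvd_index_of_le (hk1 y)
      rw [h1]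
      calc Φ.relIndex (κ y) * p ^ (d - 2) ≤ p ^ d * p ^ (d - 2) := Nat.mul_le_mul_right _ h2
        _ = p ^ (2 * (d - 1)) := by
          rw [← pow_add]
          congr 1
          omega

end Extract

/-- **Step 4 of Vaughan-Lee's theorem (group form).** -/
theorem step4 {G : Type*} [Group G] [Finite G] {p : ℕ} [Fact p.Prime]
    (Φ : Subgroup G) [Φ.Normal] (hcomm : commutator G ≤ Φ) (hpow : ∀ g : G, g ^ p ∈ Φ)
    (M : Subgroup G) (hΦM : Φ ≤ M) (hM : M.index = p)
    (κ : G → Subgroup G) (hk1 : ∀ u, Φ ≤ κ u) (hk2 : ∀ u, u ∈ κ u)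
    (hk : ∀ H : Subgroup G, Φ ≤ H → H.index = p → H ≠ M →
      ∃ T : Subgroup G, Φ ≤ T ∧ T ≤ H ∧ T.relIndex H = p ∧ T ≠ H ⊓ M ∧
        ∀ u ∈ H, u ∉ T → κ u ≤ H)
    (d : ℕ) (hd : Φ.index = p ^ d) :
    ∃ (x₁ : G) (S : Finset G), x₁ ∉ M ∧ (∀ s ∈ S, s ∉ M) ∧ S.card = d - 1 ∧
      Φ ⊔ zpowers x₁ ⊔ Subgroup.closure (S : Set G) = ⊤ ∧ Φ.relIndex (κ x₁) = p ∧
      ∏ s ∈ S, Φ.relIndex (κ s) ≤ p ^ (2 * (d - 1)) := by
  classical
  cases nonempty_fintype G
  exact extraction_relIndex Φ hcomm hpow M hΦM hM κ hk1 hk2 d hd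
    (star Φ hcomm hpow M hΦM hM κ hk1 hk d hd)

end Cfsg.Agent.Lib.Helper6.VL4
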