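import Cfsg.Agent.Lib.Helper6.TC10

set_option autoImplicit false

namespace Cfsg.Agent.Lib.Helper6.TC

/-! # Groups presented by words of columns, all generators being involutions -/

section wp
variable (k : ℕ) [NeZero k]

/-- the generator of a column, for the presentations on `Fin k` -/
def gcF (c : ℕ) : Fin k × Bool := (Fin.ofNat k c, false)

theorem ceOf_gcF (c : ℕ) : ceOf (gcF k) c = FreeGroup.of (Fin.ofNat k c) := rfl

/-- the relators given by a list of words -/
def wrels (base : List (List ℕ)) : Set (FreeGroup (Fin k)) :=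
  {r | ∃ b ∈ base, r = wordElt (gcF k) b}

/-- the elements given by a list of words -/
def wset (subw : List (List ℕ)) : Set (FreeGroup (Fin k)) :=
  {s | ∃ w ∈ subw, s = wordElt (gcF k) w}

/-- the group presented by a list of words -/
abbrev WG (base : List (List ℕ)) : Type := PresentedGroup (wrels k base)

variable {k}

theorem wp_hgen : ∀ g : Fin k, ∃ c < k, gcF k c = (g, false) := by
  intro g
  refine ⟨g.val, g.isLt, ?_⟩
  unfold gcF
  rw [Fin.ofNat_val_eq_self]

theorem wp_hbase {base : List (List ℕ)} :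
    ∀ b ∈ base, PresentedGroup.mk (wrels k base) (wordElt (gcF k) b) = 1 :=
  fun b hb => PresentedGroup.one_of_mem ⟨b, hb, rfl⟩

theorem wp_sq {base : List (List ℕ)} {c : ℕ} (h : [c, c] ∈ base) :
    PresentedGroup.mk (wrels k base) (ceOf (gcF k) c) *
      PresentedGroup.mk (wrels k base) (ceOf (gcF k) c) = 1 := by
  have := wp_hbase (k := k) _ h
  rw [wordElt_cons, wordElt_cons, wordElt_nil, mul_one, map_mul] at this
  exact this

theorem wp_hinvG {base : List (List ℕ)} {INV : ℕ} (hinv : ∀ c < k, invc INV c = c)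
    (hsq : ∀ c < k, [c, c] ∈ base) :
    ∀ c < k, PresentedGroup.mk (wrels k base) (ceOf (gcF k) (invc INV c)) =
      (PresentedGroup.mk (wrels k base) (ceOf (gcF k) c))⁻¹ := by
  intro c hc
  rw [hinv c hc]
  exact eq_inv_of_mul_eq_one_left (wp_sq (hsq c hc))

/-- the upper bound for the index in a group presented by words -/
theorem wp_index_le {base subw : List (List ℕ)} {SH SC NH NC WD WI : ℕ → ℕ}
    {n nrw nw tmax INV : ℕ}
    (npos : 0 < n) (hnrw : nrw ≤ nw) (hinv : ∀ c < k, invc INV c = c)
    (hsq : ∀ c < k, [c, c] ∈ base)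
    (hbl : ∀ b ∈ base, ∀ c ∈ b, c < k)
    (hW : ∀ j < nw, chkWord WD WI base subw INV k nrw j = true)
    (hS : ∀ s < n * k, chkSlot SH SC NH NC WD n k nrw nw tmax INV s = true)
    (hN : ∀ ν < n, chkName SH NH NC WD n k nrw nw tmax ν = true)
    (hL : ∀ ν < n, chkLive SH NH n k tmax ν = true) :
    (subH (wrels k base) (wset k subw)).index ≤ cntLive NH n tmax n ∧
      (subH (wrels k base) (wset k subw)).index ≠ 0 := by
  have hinvG := wp_hinvG (k := k) hinv hsq
  have hwords := words_ok (rels := wrels k base) (S := wset k subw) (gc := gcF k) (nw := nw)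
    hinvG hbl wp_hbase
    (fun w hw => Subgroup.subset_closure ⟨w, hw, rfl⟩) hW
  exact index_le npos wp_hgen (fun c hc => by rw [hinv c hc]; exact hc) hinvG
    (fun j hj => hwords.1 j hj (lt_of_lt_of_le hj hnrw))
    hwords.2.1 hwords.2.2 hS hN hL

end wp

end Cfsg.Agent.Lib.Helper6.TC
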