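import Cfsg.Agent.Lib.Helper6.WP1

set_option autoImplicit false

namespace Cfsg.Agent.Lib.Helper6.TC

/-! # Subgroups generated by columns are quotients of groups presented by words -/

section hom
variable {Gen : Type*} {rels : Set (FreeGroup Gen)} {gc : ℕ → Gen × Bool}
variable {k : ℕ} [NeZero k]

theorem lift_wordElt_map (cm : ℕ → ℕ) (w : List ℕ) (hw : ∀ c ∈ w, c < k) :
    FreeGroup.lift (fun i : Fin k => PresentedGroup.mk rels (ceOf gc (cm i.val)))
      (wordElt (gcF k) w) = PresentedGroup.mk rels (wordElt gc (w.map cm)) := by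
  induction w with
  | nil => simp [wordElt_nil]
  | cons c w ih =>
    have hc : c < k := hw c List.mem_cons_self
    rw [List.map_cons, wordElt_cons, wordElt_cons, map_mul, map_mul,
      ih (fun d hd => hw d (List.mem_cons_of_mem _ hd)), ceOf_gcF, FreeGroup.lift_apply_of,
      Fin.val_ofNat, Nat.mod_eq_of_lt hc]

/-- a subgroup generated by columns is not bigger than the group presented by relators
holding between these columns -/
theorem sub_card_le {S : Set (FreeGroup Gen)} {base' : List (List ℕ)} (cm : ℕ → ℕ)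
    (hbl' : ∀ b ∈ base', ∀ c ∈ b, c < k)
    (hrel : ∀ b ∈ base', PresentedGroup.mk rels (wordElt gc (b.map cm)) = 1)
    (hS : ∀ s ∈ S, ∃ i < k, s = ceOf gc (cm i))
    (hfin : Finite (WG k base')) :
    Finite (subH rels S) ∧ Nat.card (subH rels S) ≤ Nat.card (WG k base') := by
  have hr : ∀ r ∈ wrels k base',
      FreeGroup.lift (fun i : Fin k => PresentedGroup.mk rels (ceOf gc (cm i.val))) r = 1 := by
    intro r hr
    obtain ⟨b, hb, rfl⟩ := hr
    rw [lift_wordElt_map cm b (hbl' b hb)]
    exact hrel b hb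
  let ψ : WG k base' →* PresentedGroup rels := PresentedGroup.toGroup hr
  have hle : subH rels S ≤ ψ.range := by
    unfold subH
    rw [MonoidHom.map_closure, Subgroup.closure_le]
    rintro _ ⟨s, hs, rfl⟩
    obtain ⟨i, hi, rfl⟩ := hS s hs
    refine ⟨PresentedGroup.mk (wrels k base') (FreeGroup.of (Fin.ofNat k i)), ?_⟩
    have : ψ (PresentedGroup.mk (wrels k base') (FreeGroup.of (Fin.ofNat k i))) =
        FreeGroup.lift (fun i : Fin k => PresentedGroup.mk rels (ceOf gc (cm i.val)))
          (FreeGroup.of (Fin.ofNat k i)) := rfl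
    rw [this, FreeGroup.lift_apply_of, Fin.val_ofNat, Nat.mod_eq_of_lt hi]
  have : Finite ψ.range := Finite.of_surjective ψ.rangeRestrict ψ.rangeRestrict_surjective
  have h1 : Nat.card ψ.range ≤ Nat.card (WG k base') :=
    Nat.card_le_card_of_surjective ψ.rangeRestrict ψ.rangeRestrict_surjective
  have hfin2 : Finite (subH rels S) := Finite.of_injective (Subgroup.inclusion hle)
    (Subgroup.inclusion_injective hle)
  exact ⟨hfin2, (Subgroup.card_le_of_le hle).trans h1⟩

theorem subH_wset_nil (base : List (List ℕ)) : subH (wrels k base) (wset k []) = ⊥ := by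
  have : wset k [] = ∅ := by
    ext s
    simp [wset]
  unfold subH
  rw [this, Subgroup.closure_empty, Subgroup.map_bot]

end hom

theorem card_le_of_index {G : Type*} [Group G] (H : Subgroup G) {N m : ℕ}
    (hidx : H.index ≤ N) (hne : H.index ≠ 0) (hfin : Finite H) (hH : Nat.card H ≤ m) :
    Finite G ∧ Nat.card G ≤ N * m := by
  have : Finite (G ⧸ H) := by
    have : Nat.card (G ⧸ H) ≠ 0 := hne
    exact Nat.finite_of_card_ne_zero this
  have hG : Finite G := Finite.of_equiv _ (Subgroup.groupEquivQuotientProdSubgroup (s := H)).symm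
  refine ⟨hG, ?_⟩
  rw [← Subgroup.card_mul_index H, mul_comm]
  exact Nat.mul_le_mul hidx hH

theorem card_le_of_index_bot {G : Type*} [Group G] {H : Subgroup G} (hH : H = ⊥) {N : ℕ}
    (hidx : H.index ≤ N) (hne : H.index ≠ 0) : Finite G ∧ Nat.card G ≤ N := by
  subst hH
  rw [Subgroup.index_bot] at hidx hne
  exact ⟨Nat.finite_of_card_ne_zero hne, hidx⟩

end Cfsg.Agent.Lib.Helper6.TC
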