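import Cfsg.Agent.Lib.Helper6.WP3
import Cfsg.Agent.Lib.Helper6.TC9

set_option autoImplicit false

namespace Cfsg.Agent.Lib.Helper6.TC

/-! # Permutation representations of groups presented by words: a membership test -/

section idx
variable {Gen : Type*} {rels : Set (FreeGroup Gen)} {S : Set (FreeGroup Gen)} {N : ℕ}

/-- the index is `N`, the cosets correspond to the points, the trivial coset to the point `0` -/
theorem index_eq' {φ : PresentedGroup rels →* Equiv.Perm (Fin N)} (hN : 0 < N)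
    (hfix : ∀ h ∈ subH rels S, φ h ⟨0, hN⟩ = ⟨0, hN⟩)
    (htrans : ∀ p : Fin N, ∃ g, φ g ⟨0, hN⟩ = p)
    (hle : (subH rels S).index ≤ N) (hne : (subH rels S).index ≠ 0) :
    ∀ g : PresentedGroup rels, φ g ⟨0, hN⟩ = ⟨0, hN⟩ → g ∈ subH rels S := by
  let F0 : (PresentedGroup rels ⧸ subH rels S) → Fin N :=
    fun q => Quotient.liftOn' q (fun g => φ g ⟨0, hN⟩) (by
      intro a b hab
      rw [QuotientGroup.leftRel_apply] at hab
      have := hfix _ hab
      rw [map_mul, map_inv, Equiv.Perm.mul_apply, Equiv.Perm.inv_eq_iff_eq] at this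
      exact this.symm)
  have hF0 : ∀ g : PresentedGroup rels, F0 (QuotientGroup.mk g) = φ g ⟨0, hN⟩ := fun g => rfl
  have hsurj : Function.Surjective F0 := by
    intro p
    obtain ⟨g, hg⟩ := htrans p
    exact ⟨QuotientGroup.mk g, by rw [hF0, hg]⟩
  have hfin : Finite (PresentedGroup rels ⧸ subH rels S) := Nat.finite_of_card_ne_zero hne
  have hcard : Nat.card (PresentedGroup rels ⧸ subH rels S) ≤ Nat.card (Fin N) := by
    rw [Nat.card_eq_fintype_card (α := Fin N), Fintype.card_fin]
    exact hle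
  have hinj : Function.Injective F0 :=
    (Function.Surjective.bijective_of_nat_card_le hsurj hcard).1
  intro g hg
  have h1 : F0 (QuotientGroup.mk g) = F0 (QuotientGroup.mk 1) := by
    rw [hF0, hF0, hg, map_one]
    rfl
  have h2 := hinj h1
  rw [QuotientGroup.eq, mul_one, inv_mem_iff] at h2
  exact h2

end idx

section wpperm
variable {k : ℕ} [NeZero k] {px : ℕ → ℕ → ℕ} {N INV : ℕ}

theorem wp_hC (_hinv : ∀ c < k, invc INV c = c) : CHyp (gcF k) (fun g : Fin k => g.val) k INV where
  hcol := by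
    intro g
    refine ⟨g.isLt, ?_⟩
    unfold gcF
    rw [Fin.ofNat_val_eq_self]
  hgc := by
    intro c hc _
    show (Fin.ofNat k c).val = c
    rw [Fin.val_ofNat, Nat.mod_eq_of_lt hc]
  hgc' := by
    intro c _ h
    exact absurd h (by simp [gcF])

/-- an element of a group presented by words that fixes the point `0` of the verified coset
table lies in the subgroup -/
theorem wp_mem_of_fix0 {base subw : List (List ℕ)} (hP : PHyp px N k INV)
    (hinv : ∀ c < k, invc INV c = c)
    (hbl : ∀ b ∈ base, ∀ c ∈ b, c < k)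
    (hfix : ∀ b ∈ base, ∀ p < N, wapp px b p = p)
    (hsubP : ∀ w ∈ subw, (∀ c ∈ w, c < k) ∧ wapp px w 0 = 0)
    (htree : ∀ p, 0 < p → p < N → ∃ c < k, ∃ q < p, px c q = p)
    (hidx : (subH (wrels k base) (wset k subw)).index ≤ N ∧
      (subH (wrels k base) (wset k subw)).index ≠ 0) :
    ∀ w, (∀ c ∈ w, c < k) → wapp px w 0 = 0 →
      PresentedGroup.mk (wrels k base) (wordElt (gcF k) w) ∈
        subH (wrels k base) (wset k subw) := by
  obtain ⟨φ, hw, hfixH, htrans⟩ := perm_rep (rels := wrels k base) (S := wset k subw)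
    (gc := gcF k) hP (wp_hC hinv)
    (by
      rintro r ⟨b, hb, rfl⟩ ψ _
      exact ⟨b, hbl b hb, rfl, hfix b hb⟩)
    (by
      rintro s ⟨w, hwm, rfl⟩
      exact ⟨w, (hsubP w hwm).1, rfl, (hsubP w hwm).2⟩)
    htree
  have hmem := index_eq' hP.Npos hfixH htrans hidx.1 hidx.2
  intro w hwl h0
  have h1 := hw w hwl ⟨0, hP.Npos⟩
  rw [h0] at h1
  have h2 : (φ (PresentedGroup.mk (wrels k base) (wordElt (gcF k) w)))⁻¹ ⟨0, hP.Npos⟩ =
      ⟨0, hP.Npos⟩ := Fin.ext h1
  rw [Equiv.Perm.inv_eq_iff_eq] at h2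
  exact hmem _ h2.symm

/-- the image of a trivial word under the map to a group in which the relators hold -/
theorem map_eq_one_of_wp {Gen : Type*} {rels : Set (FreeGroup Gen)} {gc : ℕ → Gen × Bool}
    {base' : List (List ℕ)} (cm : ℕ → ℕ)
    (hbl' : ∀ b ∈ base', ∀ c ∈ b, c < k)
    (hrel : ∀ b ∈ base', PresentedGroup.mk rels (wordElt gc (b.map cm)) = 1)
    {w : List ℕ} (hw : ∀ c ∈ w, c < k)
    (h1 : PresentedGroup.mk (wrels k base') (wordElt (gcF k) w) = 1) :
    PresentedGroup.mk rels (wordElt gc (w.map cm)) = 1 := by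
  have hr : ∀ r ∈ wrels k base',
      FreeGroup.lift (fun i : Fin k => PresentedGroup.mk rels (ceOf gc (cm i.val))) r = 1 := by
    intro r hr
    obtain ⟨b, hb, rfl⟩ := hr
    rw [lift_wordElt_map cm b (hbl' b hb)]
    exact hrel b hb
  have h2 : PresentedGroup.toGroup hr (PresentedGroup.mk (wrels k base') (wordElt (gcF k) w)) =
      FreeGroup.lift (fun i : Fin k => PresentedGroup.mk rels (ceOf gc (cm i.val)))
        (wordElt (gcF k) w) := rfl
  rw [h1, map_one, lift_wordElt_map cm w hw] at h2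
  exact h2.symm

end wpperm

end Cfsg.Agent.Lib.Helper6.TC
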