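import Cfsg.Agent.Lib.Helper6.WP6

set_option autoImplicit false

namespace Cfsg.Agent.Lib.Helper6.TC

/-! # Groups presented by words of columns, with columns that are inverse to each other -/

section wp
variable {k : ℕ} [NeZero k]

theorem wp_hinvG' {base : List (List ℕ)} {INV : ℕ}
    (hpair : ∀ c < k, [c, invc INV c] ∈ base ∨ [invc INV c, c] ∈ base) :
    ∀ c < k, PresentedGroup.mk (wrels k base) (ceOf (gcF k) (invc INV c)) =
      (PresentedGroup.mk (wrels k base) (ceOf (gcF k) c))⁻¹ := by
  intro c hc
  rcases hpair c hc with h | h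
  · have := wp_hbase (k := k) _ h
    rw [wordElt_cons, wordElt_cons, wordElt_nil, mul_one, map_mul] at this
    exact eq_inv_of_mul_eq_one_right this
  · have := wp_hbase (k := k) _ h
    rw [wordElt_cons, wordElt_cons, wordElt_nil, mul_one, map_mul] at this
    exact eq_inv_of_mul_eq_one_left this

/-- the upper bound for the index in a group presented by words, the inverse of a column being
a column -/
theorem wp_index_le' {base subw : List (List ℕ)} {SH SC NH NC WD WI : ℕ → ℕ}
    {n nrw nw tmax INV : ℕ}
    (npos : 0 < n) (hnrw : nrw ≤ nw) (hinv1 : ∀ c < k, invc INV c < k)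
    (hpair : ∀ c < k, [c, invc INV c] ∈ base ∨ [invc INV c, c] ∈ base)
    (hbl : ∀ b ∈ base, ∀ c ∈ b, c < k)
    (hW : ∀ j < nw, chkWord WD WI base subw INV k nrw j = true)
    (hS : ∀ s < n * k, chkSlot SH SC NH NC WD n k nrw nw tmax INV s = true)
    (hN : ∀ ν < n, chkName SH NH NC WD n k nrw nw tmax ν = true)
    (hL : ∀ ν < n, chkLive SH NH n k tmax ν = true) :
    (subH (wrels k base) (wset k subw)).index ≤ cntLive NH n tmax n ∧
      (subH (wrels k base) (wset k subw)).index ≠ 0 := by
  have hinvG := wp_hinvG' (k := k) hpair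
  have hwords := words_ok (rels := wrels k base) (S := wset k subw) (gc := gcF k) (nw := nw)
    hinvG hbl wp_hbase
    (fun w hw => Subgroup.subset_closure ⟨w, hw, rfl⟩) hW
  exact index_le npos wp_hgen hinv1 hinvG
    (fun j hj => hwords.1 j hj (lt_of_lt_of_le hj hnrw))
    hwords.2.1 hwords.2.2 hS hN hL

end wp

end Cfsg.Agent.Lib.Helper6.TC
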