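import Cfsg.Agent.Lib.Helper6.WP7
import Cfsg.Agent.Lib.Helper6.TC12

set_option autoImplicit false

namespace Cfsg.Agent.Lib.Helper6.TC

/-! # Permutation representations of groups presented by words of columns -/

section wp
variable {k : ℕ} [NeZero k]

/-- the columns of a group presented by words: every column is a generator -/
theorem wp_hC' (INV : ℕ) : CHyp (gcF k) (fun g : Fin k => g.val) k INV where
  hcol := by
    intro g
    refine ⟨g.isLt, ?_⟩
    unfold gcF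
    rw [Fin.ofNat_val_eq_self]
  hgc := by
    intro c hc _
    show (Fin.ofNat k c).val = c
    rw [Fin.val_ofNat, Nat.mod_eq_of_lt hc]
  hgc' := by
    intro c _ h
    exact absurd h (by simp [gcF])

/-- every relator is a base word -/
theorem wp_rel_cover {base : List (List ℕ)} {N INV : ℕ} {px : ℕ → ℕ → ℕ}
    (hbl : ∀ b ∈ base, ∀ c ∈ b, c < k)
    (hfix : ∀ b ∈ base, ∀ p < N, wapp px b p = p) :
    ∀ r ∈ wrels k base, ∀ ψ : FreeGroup (Fin k) →* Equiv.Perm (Fin N),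
      (∀ c < k, ψ (ceOf (gcF k) (invc INV c)) = (ψ (ceOf (gcF k) c))⁻¹) →
      ∃ w, (∀ c ∈ w, c < k) ∧ ψ r = ψ (wordElt (gcF k) w) ∧ ∀ p < N, wapp px w p = p := by
  rintro r ⟨b, hb, rfl⟩ ψ _
  exact ⟨b, hbl b hb, rfl, hfix b hb⟩

theorem wp_hsw (subw : List (List ℕ)) :
    ∀ s ∈ wset k subw, ∃ w ∈ subw, s = wordElt (gcF k) w := fun _ hs => hs

theorem wp_hsw' {subw : List (List ℕ)} (hsl : ∀ w ∈ subw, ∀ c ∈ w, c < k) :
    ∀ w ∈ subw, (∀ c ∈ w, c < k) ∧ wordElt (gcF k) w ∈ wset k subw :=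
  fun w hw => ⟨hsl w hw, ⟨w, hw, rfl⟩⟩

end wp

end Cfsg.Agent.Lib.Helper6.TC
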